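import Cfsg.Agent.Lib.Fusion.Simple
import Cfsg.Agent.Lib.Classical.SL
import Mathlib.FieldTheory.IsAlgClosed.AlgebraicClosure
import Mathlib.FieldTheory.Finite.Basic
import Mathlib.LinearAlgebra.Matrix.ProjectiveSpecialLinearGroup
import Mathlib.RingTheory.IntegralDomain

/-!
# The 2-fusion system of `PSL(2, q)`, `q² ≡ 1 mod 16`, is simple

All involutions are conjugate; a Sylow 2-subgroup has a cyclic subgroup of order at least 4 outside which all
elements are involutions, so it is generated by involutions and its automorphisms form a 2-group.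
-/

set_option autoImplicit false

namespace Cfsg.Agent.FusionSys

open Cfsg Cfsg.FusionSystem

section involutions

variable {G : Type*} [Group G] [Finite G] {p : ℕ} [Fact p.Prime] (S : Sylow p G)

/-- If the elements of order `p` are all conjugate, and `S` is generated by them, no proper nontrivial subgroup
is strongly closed. -/
theorem stronglyClosed_trivial_of_transitive
    (htr : ∀ x y : G, orderOf x = p → orderOf y = p → IsConj x y)
    (hgen : Subgroup.closure {x : G | x ∈ (S : Subgroup G) ∧ orderOf x = p} = (S : Subgroup G))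
    (T : Subgroup G) (hT : (groupFusionSystem (S : Subgroup G)).StronglyClosed T) :
    T = ⊥ ∨ T = (S : Subgroup G) := by
  by_cases hT1 : T = ⊥
  · exact Or.inl hT1
  refine Or.inr (le_antisymm hT.1 ?_)
  obtain ⟨n, hn⟩ := (S.2.to_le hT.1).exists_card_eq
  have hn0 : n ≠ 0 := fun h => hT1 (Subgroup.card_eq_one.1 (by rw [hn, h, pow_zero]))
  obtain ⟨a, ha⟩ := exists_prime_orderOf_dvd_card' (G := T) p (hn ▸ dvd_pow_self p hn0)
  conv_lhs => rw [← hgen]
  rw [Subgroup.closure_le]
  rintro x ⟨hxS, hx⟩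
  obtain ⟨g, hg⟩ := isConj_iff.1 (htr (a : G) x (by rw [Subgroup.orderOf_coe, ha]) hx)
  rw [← hg]
  exact ((group_stronglyClosed_iff S).1 hT).2 g a a.2 (hg.symm ▸ hxS)

end involutions

section cyclicIndexTwo

variable {G : Type*} [Group G] [Finite G] {S C : Subgroup G}

/-- A 2-group with a cyclic subgroup `C` of index at most 2 outside which no element has order `|C|`:
automorphisms induced from outside form a 2-group. -/
theorem isPGroup_autInducedBy_of_cyclic' (hS : IsPGroup 2 S) (hCS : C ≤ S) [IsCyclic C]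
    (hC4 : 4 ≤ Nat.card C) (hout : ∀ x ∈ S, x ∉ C → orderOf x ≠ Nat.card C)
    (hidx : ∀ x ∈ S, ∀ y ∈ S, x ∉ C → y ∉ C → x * y ∈ C) :
    IsPGroup 2 (autInducedBy ⊤ S) := by
  -- it is enough that odd order elements of the normalizer centralize `S`
  suffices key : ∀ g ∈ Subgroup.normalizer (S : Set G), ¬ 2 ∣ orderOf g → ∀ x ∈ S, g * x * g⁻¹ = x by
    intro a
    obtain ⟨g, -, hge⟩ := (mem_autInducedBy_iff (a : MulAut S)).1 a.2
    have hgN : g ∈ Subgroup.normalizer (S : Set G) := mem_normalizer_of_autInduced hge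
    obtain ⟨k, m, hm, hkm⟩ := Nat.exists_eq_pow_mul_and_not_dvd (orderOf_pos g).ne' 2 (by norm_num)
    refine ⟨k, Subtype.ext (MulEquiv.ext fun x => Subtype.ext ?_)⟩
    have hpow : ∀ n : ℕ, ((((a : MulAut S) ^ n) x : S) : G) = g ^ n * (x : G) * (g ^ n)⁻¹ := by
      intro n
      induction n with
      | zero => simp
      | succ n ih => rw [pow_succ', MulAut.mul_apply, hge, ih, pow_succ', mul_inv_rev]; simp only [mul_assoc]
    have hgo : ¬ 2 ∣ orderOf (g ^ 2 ^ k) := by
      rw [orderOf_pow, hkm, Nat.gcd_eq_right (Dvd.intro _ rfl), Nat.mul_div_cancel_left _ (by positivity)]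
      exact hm
    show ((((a : MulAut S) ^ (2 ^ k)) x : S) : G) = (x : G)
    rw [hpow]
    exact key _ (pow_mem hgN _) hgo x x.2
  intro g hgN hgo
  have hgS : ∀ x ∈ S, g * x * g⁻¹ ∈ S := fun x hx => (Subgroup.mem_normalizer_iff.1 hgN x).1 hx
  obtain ⟨c, hc⟩ := IsCyclic.exists_generator (α := C)
  have hoc : orderOf (c : G) = Nat.card C := by
    rw [Subgroup.orderOf_coe, orderOf_eq_card_of_forall_mem_zpowers hc]
  have hmemC : ∀ x ∈ C, ∃ n : ℤ, x = (c : G) ^ n := fun x hx => by
    obtain ⟨n, hn⟩ := hc ⟨x, hx⟩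
    exact ⟨n, (congrArg Subtype.val hn).symm⟩
  have hgc : g * c * g⁻¹ ∈ C := by
    by_contra h
    refine hout _ (hgS _ (hCS c.2)) h ?_
    rw [← hoc]
    exact ((MulAut.conj g).orderOf_eq (c : G))
  have hgC : ∀ x ∈ C, g * x * g⁻¹ ∈ C := fun x hx => by
    obtain ⟨n, rfl⟩ := hmemC x hx
    rw [← conj_zpow]
    exact zpow_mem hgc n
  -- `g` acts on the cyclic group `C` by an element of odd order of its automorphism group
  have hfix : ∀ x ∈ C, g * x * g⁻¹ = x := by
    obtain ⟨n, hn⟩ := hmemC _ hgc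
    have hiter : ∀ j : ℕ, g ^ j * c * (g ^ j)⁻¹ = (c : G) ^ (n ^ j) := by
      intro j
      induction j with
      | zero => simp
      | succ j ih =>
        calc g ^ (j + 1) * c * (g ^ (j + 1))⁻¹ = g * (g ^ j * c * (g ^ j)⁻¹) * g⁻¹ := by
              rw [pow_succ', mul_inv_rev]; simp only [mul_assoc]
          _ = (g * c * g⁻¹) ^ (n ^ j) := by rw [ih, conj_zpow]
          _ = _ := by rw [hn, ← zpow_mul, pow_succ']
    obtain ⟨e, he⟩ := (hS.to_le hCS).exists_card_eq
    have h1 : (c : G) ^ (n ^ orderOf g) = c := by rw [← hiter, pow_orderOf_eq_one]; simp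
    have h2 : ((n : ZMod (2 ^ e)) ^ orderOf g) = 1 := by
      have h3 : (c : G) ^ (n ^ orderOf g) = (c : G) ^ (1 : ℤ) := by rw [h1, zpow_one]
      rw [zpow_eq_zpow_iff_modEq, hoc, he] at h3
      have := (ZMod.intCast_eq_intCast_iff _ _ _).2 h3
      push_cast at this
      exact this
    have hu : (n : ZMod (2 ^ e)) = 1 := by
      obtain ⟨u, hu⟩ : IsUnit (n : ZMod (2 ^ e)) := IsUnit.of_pow_eq_one h2 (orderOf_pos g).ne'
      have hu1 : u ^ orderOf g = 1 := Units.ext (by rw [Units.val_pow_eq_pow_val, hu, h2, Units.val_one])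
      have hd1 := orderOf_dvd_of_pow_eq_one hu1
      have hd2 := orderOf_dvd_natCard u
      rw [Nat.card_eq_fintype_card, ZMod.card_units_eq_totient] at hd2
      have he0 : 0 < e := Nat.pos_of_ne_zero fun h => by rw [h, pow_zero] at he; omega
      rw [Nat.totient_prime_pow Nat.prime_two he0] at hd2
      norm_num at hd2
      obtain ⟨i, -, hi⟩ := (Nat.dvd_prime_pow Nat.prime_two).1 hd2
      rcases Nat.eq_zero_or_pos i with h0 | h0
      · rw [h0, pow_zero, orderOf_eq_one_iff] at hi
        rw [← hu, hi, Units.val_one]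
      · exact absurd ((dvd_pow_self 2 h0.ne').trans (hi ▸ hd1)) hgo
    intro x hx
    obtain ⟨m, rfl⟩ := hmemC x hx
    rw [← conj_zpow]
    congr 1
    rw [hn]
    nth_rw 2 [← zpow_one (c : G)]
    rw [zpow_eq_zpow_iff_modEq, hoc, he]
    refine (ZMod.intCast_eq_intCast_iff _ _ _).1 ?_
    push_cast
    exact hu
  intro x hx
  by_cases hxC : x ∈ C
  · exact hfix x hxC
  -- `g x g⁻¹ = d x` with `d ∈ C` fixed by `g`
  have hnot : g * x * g⁻¹ ∉ C := fun h => hxC (by
    have hgo' : 0 < orderOf g := orderOf_pos g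
    have : ∀ j : ℕ, g ^ j * (g * x * g⁻¹) * (g ^ j)⁻¹ ∈ C := by
      intro j
      induction j with
      | zero => simpa using h
      | succ j ih => simpa [pow_succ', mul_assoc] using hgC _ ih
    have h2 := this (orderOf g - 1)
    rw [show g ^ (orderOf g - 1) * (g * x * g⁻¹) * (g ^ (orderOf g - 1))⁻¹ =
      (g ^ (orderOf g - 1) * g) * x * (g ^ (orderOf g - 1) * g)⁻¹ by group,
      ← pow_succ, Nat.sub_add_cancel hgo', pow_orderOf_eq_one] at h2
    simpa using h2)
  set d := g * x * g⁻¹ * x⁻¹ with hd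
  have hdC : d ∈ C := hidx _ (hgS x hx) _ (S.inv_mem hx) hnot fun h => hxC (inv_inv x ▸ C.inv_mem h)
  have hiter : ∀ j : ℕ, g ^ j * x * (g ^ j)⁻¹ = d ^ j * x := by
    intro j
    induction j with
    | zero => simp
    | succ j ih =>
      calc g ^ (j + 1) * x * (g ^ (j + 1))⁻¹ = g * (g ^ j * x * (g ^ j)⁻¹) * g⁻¹ := by
            rw [pow_succ', mul_inv_rev]; simp only [mul_assoc]
        _ = (g * d * g⁻¹) ^ j * (g * x * g⁻¹) := by rw [ih, conj_pow]; group
        _ = d ^ (j + 1) * x := by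
          rw [hfix d hdC, pow_succ, mul_assoc (d ^ j) d x, show d * x = g * x * g⁻¹ by rw [hd, inv_mul_cancel_right]]
  have h1 := hiter (orderOf g)
  rw [pow_orderOf_eq_one, inv_one, mul_one, one_mul] at h1
  have hd1 : orderOf d ∣ orderOf g := orderOf_dvd_of_pow_eq_one (mul_eq_right.1 h1.symm)
  obtain ⟨i, hi⟩ := IsPGroup.iff_orderOf.1 hS ⟨d, hCS hdC⟩
  rw [Subgroup.orderOf_mk] at hi
  rcases Nat.eq_zero_or_pos i with h0 | h0
  · rw [h0, pow_zero, orderOf_eq_one_iff] at hi
    rw [hd, mul_inv_eq_one] at hi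
    exact hi
  · exact absurd ((dvd_pow_self 2 h0.ne').trans (hi ▸ hd1)) hgo

/-- A 2-group with a cyclic subgroup `C` of order at least 4, whose complement consists of involutions inverting
nothing in particular: automorphisms induced from outside form a 2-group. -/
theorem isPGroup_autInducedBy_of_cyclic (hS : IsPGroup 2 S) (hCS : C ≤ S) [IsCyclic C]
    (hC4 : 4 ≤ Nat.card C) (hout : ∀ x ∈ S, x ∉ C → x ^ 2 = 1)
    (hidx : ∀ x ∈ S, ∀ y ∈ S, x ∉ C → y ∉ C → x * y ∈ C) :
    IsPGroup 2 (autInducedBy ⊤ S) := by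
  refine isPGroup_autInducedBy_of_cyclic' hS hCS hC4 (fun x hx hxC he => ?_) hidx
  have := Nat.le_of_dvd (by norm_num) (orderOf_dvd_of_pow_eq_one (hout x hx hxC))
  omega

end cyclicIndexTwo

/-! ### The matrices -/

section psl2

open Matrix

variable {F : Type*} [Field F]

local notation "SL2" => Matrix.SpecialLinearGroup (Fin 2) F
local notation "M2" => Matrix (Fin 2) (Fin 2) F
local notation "PSL2" => Matrix.ProjectiveSpecialLinearGroup (Fin 2) F

theorem sl2_entries (x : SL2) : (x : M2) 0 0 * (x : M2) 1 1 - (x : M2) 0 1 * (x : M2) 1 0 = 1 := by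
  have := x.2
  rwa [Matrix.det_fin_two] at this

theorem sl2_mk_eq_iff (x y : SL2) : (QuotientGroup.mk x : PSL2) = QuotientGroup.mk y ↔ (y : M2) = x ∨ (y : M2) = -x := by
  rw [QuotientGroup.eq]
  constructor
  · intro h
    obtain ⟨c, hc, hcm⟩ := Matrix.SpecialLinearGroup.mem_center_iff.1 h
    have hcc : c * c = 1 := by simpa [pow_two] using hc
    have hy : (y : M2) = c • (x : M2) := by
      have : y = x * (x⁻¹ * y) := by group
      rw [this, Matrix.SpecialLinearGroup.coe_mul, ← hcm, Matrix.scalar_apply]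
      ext i j
      simp [Matrix.mul_diagonal, mul_comm]
    rcases mul_self_eq_one_iff.1 hcc with h | h <;> subst h <;> simp [hy]
  · rintro (h | h)
    · rw [show y = x from Subtype.ext h, inv_mul_cancel]; exact Subgroup.one_mem _
    · refine Matrix.SpecialLinearGroup.mem_center_iff.2 ⟨-1, by simp, ?_⟩
      rw [Matrix.SpecialLinearGroup.coe_mul, h, mul_neg, ← Matrix.SpecialLinearGroup.coe_mul, inv_mul_cancel,
        Matrix.SpecialLinearGroup.coe_one, map_neg, map_one]

variable [Fintype F]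

theorem exists_binary_eq (hodd : Fintype.card F % 2 = 1) {c d : F} (hc : c ≠ 0) (hd : d ≠ 0) (e : F) :
    ∃ u v : F, c * u ^ 2 + d * v ^ 2 = e := by
  classical
  have hg : (Polynomial.C d * Polynomial.X ^ 2 - Polynomial.C e).degree = 2 := by
    rw [Polynomial.degree_sub_C (by rw [Polynomial.degree_C_mul_X_pow 2 hd]; decide),
      Polynomial.degree_C_mul_X_pow 2 hd]
    rfl
  obtain ⟨u, v, h⟩ := FiniteField.exists_root_sum_quadratic (f := Polynomial.C c * Polynomial.X ^ 2)
    (Polynomial.degree_C_mul_X_pow 2 hc) hg hodd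
  refine ⟨u, v, ?_⟩
  simp only [Polynomial.eval_sub, Polynomial.eval_mul, Polynomial.eval_C, Polynomial.eval_pow,
    Polynomial.eval_X] at h
  linear_combination h

theorem two_ne_zero_of_odd (hodd : Fintype.card F % 2 = 1) : (2 : F) ≠ 0 := by
  refine Ring.two_ne_zero fun h => ?_
  have := FiniteField.even_card_of_char_two h
  omega

/-- The element `j` of order 4. -/
def jElt : SL2 := ⟨!![0, -1; 1, 0], by rw [Matrix.det_fin_two]; simp⟩

theorem isConj_mk_jElt (hodd : Fintype.card F % 2 = 1) {g : PSL2} (hg : orderOf g = 2) :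
    IsConj (QuotientGroup.mk (jElt : SL2)) g := by
  obtain ⟨x, rfl⟩ := QuotientGroup.mk_surjective g
  have h2 := two_ne_zero_of_odd hodd
  have hne : (QuotientGroup.mk x : PSL2) ≠ 1 := fun h => by rw [h, orderOf_one] at hg; omega
  have hsq : (QuotientGroup.mk (x * x) : PSL2) = QuotientGroup.mk 1 := by
    rw [QuotientGroup.mk_mul, QuotientGroup.mk_one]; exact (sq _).symm.trans (orderOf_dvd_iff_pow_eq_one.1 hg.dvd)
  have hnot : ¬ ((x : M2) = 1 ∨ (x : M2) = -1) := fun h => hne ((sl2_mk_eq_iff 1 x).2 (by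
    rw [Matrix.SpecialLinearGroup.coe_one]; exact h)).symm
  -- the trace vanishes
  have htr : (x : M2) 1 1 = - (x : M2) 0 0 := by
    by_contra hne'
    have ht : (x : M2) 0 0 + (x : M2) 1 1 ≠ 0 := fun h => hne' (eq_neg_of_add_eq_zero_right h)
    have hd := sl2_entries x
    have hcases : ∃ e : F, (e = 1 ∨ e = -1) ∧ ((x * x) : M2) = e • (1 : Matrix (Fin 2) (Fin 2) F) := by
      rcases (sl2_mk_eq_iff _ _).1 hsq with h | h
      · exact ⟨1, Or.inl rfl, by simpa using h.symm⟩
      · exact ⟨-1, Or.inr rfl, by simp at h; simp [h]⟩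
    obtain ⟨e, he, hxx⟩ := hcases
    have h01 := congrFun (congrFun hxx 0) 1
    have h10 := congrFun (congrFun hxx 1) 0
    have h00 := congrFun (congrFun hxx 0) 0
    have h11 := congrFun (congrFun hxx 1) 1
    simp [Matrix.mul_apply, Fin.sum_univ_two] at h01 h10 h00 h11
    have hb : (x : M2) 0 1 = 0 := by
      have : (x : M2) 0 1 * ((x : M2) 0 0 + (x : M2) 1 1) = 0 := by linear_combination h01
      exact (mul_eq_zero.1 this).resolve_right ht
    have hc : (x : M2) 1 0 = 0 := by
      have : (x : M2) 1 0 * ((x : M2) 0 0 + (x : M2) 1 1) = 0 := by linear_combination h10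
      exact (mul_eq_zero.1 this).resolve_right ht
    rw [hb, hc] at hd h00 h11
    have had : (x : M2) 0 0 = (x : M2) 1 1 := by
      have : ((x : M2) 0 0 - (x : M2) 1 1) * ((x : M2) 0 0 + (x : M2) 1 1) = 0 := by linear_combination h00 - h11
      exact sub_eq_zero.1 ((mul_eq_zero.1 this).resolve_right ht)
    rw [← had] at hd
    refine hnot ?_
    rcases mul_self_eq_one_iff.1 (by linear_combination hd : (x : M2) 0 0 * (x : M2) 0 0 = 1) with h | h
    · left; ext i j; fin_cases i <;> fin_cases j <;> simp [hb, hc, h, ← had]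
    · right; ext i j; fin_cases i <;> fin_cases j <;> simp [hb, hc, h, ← had]
  set a := (x : M2) 0 0
  set b := (x : M2) 0 1
  set c := (x : M2) 1 0
  have hd : -a ^ 2 - b * c = 1 := by linear_combination sl2_entries x - a * htr
  -- a vector `v` with `det (v, x v) = 1`
  obtain ⟨v₁, v₂, hv⟩ : ∃ v₁ v₂ : F, v₁ * (c * v₁ - a * v₂) - v₂ * (a * v₁ + b * v₂) = 1 := by
    by_cases hc : c = 0
    · have ha : a ≠ 0 := fun h => by rw [h, hc] at hd; simp at hd
      refine ⟨(-1 - b) / (2 * a), 1, ?_⟩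
      rw [hc]
      field_simp
      ring
    · obtain ⟨u, t, hut⟩ := exists_binary_eq hodd hc (inv_ne_zero hc) 1
      refine ⟨u + a * t / c, t, ?_⟩
      rw [← hut]
      field_simp
      linear_combination t ^ 2 * hd
  let y : SL2 := ⟨!![v₁, a * v₁ + b * v₂; v₂, c * v₁ - a * v₂], by
    rw [Matrix.det_fin_two]; simp; linear_combination hv⟩
  refine isConj_iff.2 ⟨QuotientGroup.mk y, ?_⟩
  rw [← QuotientGroup.mk_mul, ← QuotientGroup.mk_inv, ← QuotientGroup.mk_mul]
  have hkey : x * y = y * jElt := by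
    apply Subtype.ext
    rw [Matrix.SpecialLinearGroup.coe_mul, Matrix.SpecialLinearGroup.coe_mul]
    ext i j
    fin_cases i <;> fin_cases j <;>
      simp [y, jElt, Matrix.mul_apply, Fin.sum_univ_two, htr, a, b, c]
    · linear_combination (-v₁) * hd
    · ring
    · linear_combination (-v₂) * hd
  rw [← hkey, mul_inv_cancel_right]

theorem involutions_conj (hodd : Fintype.card F % 2 = 1) {x y : PSL2} (hx : orderOf x = 2) (hy : orderOf y = 2) :
    IsConj x y :=
  (isConj_mk_jElt hodd hx).symm.trans (isConj_mk_jElt hodd hy)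

theorem orderOf_mk_jElt (hodd : Fintype.card F % 2 = 1) : orderOf (QuotientGroup.mk (jElt : SL2) : PSL2) = 2 := by
  refine orderOf_eq_prime ?_ fun h => ?_
  · rw [sq, ← QuotientGroup.mk_mul]
    refine ((sl2_mk_eq_iff 1 _).2 (Or.inr ?_)).symm
    rw [Matrix.SpecialLinearGroup.coe_mul]
    ext i j
    fin_cases i <;> fin_cases j <;> simp [jElt, Matrix.mul_apply, Fin.sum_univ_two]
  · rcases (sl2_mk_eq_iff 1 _).1 h.symm with h' | h' <;>
    · have := congrFun (congrFun h' 1) 0
      simp [jElt] at this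

/-- The preimage of the centralizer of the image of `j`. -/
def jTorus : Subgroup SL2 where
  carrier := {x | (x : M2) 0 0 = (x : M2) 1 1 ∧ (x : M2) 0 1 = -(x : M2) 1 0}
  one_mem' := by simp
  mul_mem' := by
    rintro x y ⟨h1, h2⟩ ⟨h3, h4⟩
    simp only [Set.mem_setOf_eq, Matrix.SpecialLinearGroup.coe_mul, Matrix.mul_apply, Fin.sum_univ_two]
    rw [h1, h2, h3, h4]
    constructor <;> ring
  inv_mem' := by
    rintro x ⟨h1, h2⟩
    simp only [Set.mem_setOf_eq, Matrix.SpecialLinearGroup.coe_inv, Matrix.adjugate_fin_two]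
    simp [h1, h2]

theorem isCyclic_jTorus (hodd : Fintype.card F % 2 = 1) : IsCyclic (jTorus : Subgroup SL2) := by
  have h2 := two_ne_zero_of_odd hodd
  set K := AlgebraicClosure F
  obtain ⟨i, hi⟩ := IsAlgClosed.exists_pow_nat_eq (-1 : K) (n := 2) (by norm_num)
  set f := algebraMap F K
  have hmul : ∀ x y : (jTorus : Subgroup SL2), (((x * y : (jTorus : Subgroup SL2)) : SL2) : M2) 0 0 =
      ((x : SL2) : M2) 0 0 * ((y : SL2) : M2) 0 0 - ((x : SL2) : M2) 1 0 * ((y : SL2) : M2) 1 0 ∧
      (((x * y : (jTorus : Subgroup SL2)) : SL2) : M2) 1 0 =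
      ((x : SL2) : M2) 1 0 * ((y : SL2) : M2) 0 0 + ((x : SL2) : M2) 0 0 * ((y : SL2) : M2) 1 0 := by
    intro x y
    simp only [Subgroup.coe_mul, Matrix.SpecialLinearGroup.coe_mul, Matrix.mul_apply, Fin.sum_univ_two]
    rw [x.2.2, x.2.1.symm]
    constructor <;> ring
  refine isCyclic_of_injective_ringHom (R := K)
    { toFun := fun x => f (((x : SL2) : M2) 0 0) + i * f (((x : SL2) : M2) 1 0)
      map_one' := by simp
      map_mul' := fun x y => by
        rw [(hmul x y).1, (hmul x y).2, map_sub, map_add, map_mul, map_mul, map_mul, map_mul]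
        linear_combination (-(f (((x : SL2) : M2) 1 0) * f (((y : SL2) : M2) 1 0))) * hi } ?_
  intro x y hxy
  simp only [MonoidHom.coe_mk, OneHom.coe_mk] at hxy
  have hnorm : ∀ z : (jTorus : Subgroup SL2),
      (f (((z : SL2) : M2) 0 0) + i * f (((z : SL2) : M2) 1 0)) * (f (((z : SL2) : M2) 0 0) - i * f (((z : SL2) : M2) 1 0)) = 1 := by
    intro z
    have h := congrArg f (sl2_entries (z : SL2))
    rw [← z.2.1, z.2.2, map_sub, map_mul, map_mul, map_neg, map_one] at h
    linear_combination h - f (((z : SL2) : M2) 1 0) ^ 2 * hi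
  have hconj : f (((x : SL2) : M2) 0 0) - i * f (((x : SL2) : M2) 1 0) =
      f (((y : SL2) : M2) 0 0) - i * f (((y : SL2) : M2) 1 0) := by
    refine mul_left_cancel₀ (left_ne_zero_of_mul_eq_one (hnorm x)) ?_
    rw [hnorm x, hxy, hnorm y]
  have h2' : (2 : K) ≠ 0 := by
    rw [← map_ofNat f 2]
    exact fun h => h2 (f.injective (h.trans (map_zero f).symm))
  have ha : ((x : SL2) : M2) 0 0 = ((y : SL2) : M2) 0 0 :=
    f.injective (mul_left_cancel₀ h2' (by linear_combination hxy + hconj))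
  have hi0 : i ≠ 0 := fun h => by rw [h] at hi; simp at hi
  have hb : ((x : SL2) : M2) 1 0 = ((y : SL2) : M2) 1 0 :=
    f.injective (mul_left_cancel₀ (mul_ne_zero h2' hi0) (by linear_combination hxy - hconj))
  refine Subtype.ext (Subtype.ext ?_)
  ext r s
  fin_cases r <;> fin_cases s
  · exact ha
  · exact (x.2.2.trans (congrArg Neg.neg hb)).trans y.2.2.symm
  · exact hb
  · exact (x.2.1.symm.trans ha).trans y.2.1

theorem mem_torus_or_antitorus {x : SL2}
    (h : (QuotientGroup.mk x : PSL2) * QuotientGroup.mk (jElt : SL2) = QuotientGroup.mk jElt * QuotientGroup.mk x) :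
    x ∈ jTorus ∨ ((x : M2) 1 1 = -(x : M2) 0 0 ∧ (x : M2) 0 1 = (x : M2) 1 0) := by
  rw [← QuotientGroup.mk_mul, ← QuotientGroup.mk_mul] at h
  rcases (sl2_mk_eq_iff _ _).1 h with h' | h'
  all_goals
    rw [Matrix.SpecialLinearGroup.coe_mul, Matrix.SpecialLinearGroup.coe_mul] at h'
    have h00 := congrFun (congrFun h' 0) 0
    have h01 := congrFun (congrFun h' 0) 1
    simp [jElt, Matrix.mul_apply, Fin.sum_univ_two] at h00 h01
  · left
    exact ⟨by linear_combination -h01, by linear_combination -h00⟩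
  · right
    exact ⟨by linear_combination -h01, by linear_combination -h00⟩

/-- A Sylow 2-subgroup has a cyclic subgroup of index at most two with involutions outside, and is not cyclic. -/
theorem psl2_sylow_structure (hodd : Fintype.card F % 2 = 1) (h16 : 16 ∣ Fintype.card F ^ 2 - 1) (S : Sylow 2 PSL2) :
    ∃ C : Subgroup PSL2, C ≤ (S : Subgroup PSL2) ∧ IsCyclic C ∧ 4 ≤ Nat.card C ∧
      (∀ x ∈ (S : Subgroup PSL2), x ∉ C → orderOf x = 2) ∧
      (∀ x ∈ (S : Subgroup PSL2), ∀ y ∈ (S : Subgroup PSL2), x ∉ C → y ∉ C → x * y ∈ C) ∧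
      ∃ x ∈ (S : Subgroup PSL2), x ∉ C := by
  classical
  haveI : Finite PSL2 := inferInstance
  have h2 := two_ne_zero_of_odd hodd
  have hq : 3 ≤ Fintype.card F := by
    have := Fintype.one_lt_card (α := F)
    omega
  -- |S| ≥ 8
  have h8 : 8 ∣ Nat.card PSL2 := by
    have h := Cfsg.Agent.ClassicalSL.card_psl_mul (ι := Fin 2) (F := F)
    have hg : Nat.gcd (Fintype.card (Fin 2)) (Nat.card F - 1) = 2 := by
      rw [Fintype.card_fin, Nat.card_eq_fintype_card]
      exact Nat.gcd_eq_left (by omega)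
    rw [hg, Matrix.card_GL_field, Fin.prod_univ_two, Nat.card_eq_fintype_card] at h
    simp only [Fin.val_zero, Fin.val_one, pow_zero, pow_one] at h
    set q := Fintype.card F
    have hqq : q ^ 2 - q = q * (q - 1) := by rw [Nat.mul_sub, mul_one, sq]
    rw [hqq, ← mul_assoc (q ^ 2 - 1)] at h
    have h' : 2 * Nat.card PSL2 = (q ^ 2 - 1) * q := by
      refine Nat.eq_of_mul_eq_mul_right (show 0 < q - 1 by omega) ?_
      rw [← h]; ring
    obtain ⟨k, hk⟩ := h16
    rw [hk] at h'
    exact ⟨k * q, by linarith⟩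
  have hScard : 8 ≤ Nat.card (S : Subgroup PSL2) := by
    obtain ⟨R, hR⟩ := Sylow.exists_subgroup_card_pow_prime (G := PSL2) 2 (n := 3) h8
    obtain ⟨T, hT⟩ := (IsPGroup.of_card hR).exists_le_sylow
    have h1 := Subgroup.card_le_of_le hT
    rw [hR, T.card_eq_multiplicity, ← S.card_eq_multiplicity] at h1
    exact h1
  have hS1 : (S : Subgroup PSL2) ≠ ⊥ := fun h => by rw [h, Subgroup.card_bot] at hScard; omega
  -- a central involution, moved to the image of `j`
  have : Nontrivial (S : Subgroup PSL2) := (Subgroup.nontrivial_iff_ne_bot _).2 hS1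
  have := S.2.center_nontrivial
  obtain ⟨n, hn⟩ := (S.2.to_subgroup (Subgroup.center (S : Subgroup PSL2))).exists_card_eq
  have hn0 : n ≠ 0 := fun h => by
    rw [h, pow_zero] at hn
    exact (not_subsingleton (Subgroup.center (S : Subgroup PSL2))) (Nat.card_eq_one_iff_unique.1 hn).1
  obtain ⟨z, hz⟩ := exists_prime_orderOf_dvd_card' (G := Subgroup.center (S : Subgroup PSL2)) 2
    (hn ▸ dvd_pow_self 2 hn0)
  obtain ⟨u, hu⟩ := isConj_iff.1 (isConj_mk_jElt hodd
    (show orderOf ((z : (S : Subgroup PSL2)) : PSL2) = 2 by rw [Subgroup.orderOf_coe, Subgroup.orderOf_coe, hz]))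
  set K : Subgroup PSL2 := ((jTorus : Subgroup SL2).map
    (QuotientGroup.mk' (Subgroup.center SL2))).map (MulAut.conj u).toMonoidHom
  haveI := isCyclic_jTorus (F := F) hodd
  haveI hK0 : IsCyclic ((jTorus : Subgroup SL2).map (QuotientGroup.mk' (Subgroup.center SL2))) :=
    isCyclic_of_surjective ((QuotientGroup.mk' (Subgroup.center SL2)).subgroupMap jTorus)
      (MonoidHom.subgroupMap_surjective _ _)
  haveI hKc : IsCyclic K := isCyclic_of_surjective ((MulAut.conj u).toMonoidHom.subgroupMap _)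
    (MonoidHom.subgroupMap_surjective _ _)
  have hcase : ∀ s ∈ (S : Subgroup PSL2), s ∈ K ∨ ∃ x : SL2, s = u * QuotientGroup.mk x * u⁻¹ ∧
      (x : M2) 1 1 = -(x : M2) 0 0 ∧ (x : M2) 0 1 = (x : M2) 1 0 := by
    intro s hs
    obtain ⟨x, hx⟩ := QuotientGroup.mk_surjective (u⁻¹ * s * u)
    have hcomm : (QuotientGroup.mk x : PSL2) * QuotientGroup.mk (jElt : SL2) =
        QuotientGroup.mk jElt * QuotientGroup.mk x := by
      have hz' := congrArg Subtype.val (Subgroup.mem_center_iff.1 z.2 ⟨s, hs⟩)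
      simp only [Subgroup.coe_mul, ← hu] at hz'
      rw [hx]
      calc u⁻¹ * s * u * (QuotientGroup.mk jElt : PSL2)
          = u⁻¹ * (s * (u * (QuotientGroup.mk jElt : PSL2) * u⁻¹)) * u := by group
        _ = u⁻¹ * (u * (QuotientGroup.mk jElt : PSL2) * u⁻¹ * s) * u := by rw [hz']
        _ = _ := by group
    have hs' : s = u * QuotientGroup.mk x * u⁻¹ := by rw [hx]; group
    rcases mem_torus_or_antitorus hcomm with h | h
    · exact Or.inl ⟨QuotientGroup.mk x, ⟨x, h, rfl⟩, hs'.symm⟩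
    · exact Or.inr ⟨x, hs', h⟩
  refine ⟨(S : Subgroup PSL2) ⊓ K, inf_le_left, ?_, ?_, ?_, ?_, ?_⟩
  · exact isCyclic_of_injective (Subgroup.inclusion inf_le_right) (Subgroup.inclusion_injective _)
  · -- index at most two
    have hidx : ((S : Subgroup PSL2) ⊓ K).relIndex (S : Subgroup PSL2) ≤ 2 := by
      by_cases hall : ∀ s ∈ (S : Subgroup PSL2), s ∈ K
      · rw [inf_eq_left.2 fun s hs => hall s hs, Subgroup.relIndex_self]; omega
      push Not at hall
      obtain ⟨t, ht, htK⟩ := hall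
      rw [Subgroup.relIndex, Subgroup.index_eq_two_iff.2 ⟨⟨t, ht⟩, fun b => ?_⟩]
      by_cases hb : (b : PSL2) ∈ (S : Subgroup PSL2) ⊓ K
      · refine Or.inr ⟨hb, fun h => htK ?_⟩
        have h' := K.mul_mem (K.inv_mem hb.2) (Subgroup.mem_subgroupOf.1 h).2
        simpa using h'
      · refine Or.inl ⟨Subgroup.mem_subgroupOf.2 ⟨(S : Subgroup PSL2).mul_mem b.2 ht, ?_⟩, hb⟩
        have hb' : (b : PSL2) ∉ K := fun h => hb ⟨b.2, h⟩
        obtain ⟨x, hx, hx1, hx2⟩ := (hcase b b.2).resolve_left hb'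
        obtain ⟨y, hy, hy1, hy2⟩ := (hcase t ht).resolve_left htK
        refine ⟨QuotientGroup.mk (x * y), ⟨x * y, ?_, rfl⟩, ?_⟩
        · show ((x * y) : M2) 0 0 = ((x * y) : M2) 1 1 ∧ ((x * y) : M2) 0 1 = -((x * y) : M2) 1 0
          simp only [Matrix.SpecialLinearGroup.coe_mul, Matrix.mul_apply, Fin.sum_univ_two]
          rw [hx1, hx2, hy1, hy2]
          constructor <;> ring
        · show u * QuotientGroup.mk (x * y) * u⁻¹ = (b : PSL2) * t
          rw [hx, hy, QuotientGroup.mk_mul]; group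
    have hm := Subgroup.card_mul_index (((S : Subgroup PSL2) ⊓ K).subgroupOf (S : Subgroup PSL2))
    rw [Nat.card_congr (Subgroup.subgroupOfEquivOfLe inf_le_left).toEquiv] at hm
    change _ * ((S : Subgroup PSL2) ⊓ K).relIndex (S : Subgroup PSL2) = _ at hm
    set r := ((S : Subgroup PSL2) ⊓ K).relIndex (S : Subgroup PSL2)
    rcases (show r = 0 ∨ r = 1 ∨ r = 2 by omega) with h | h | h <;> rw [h] at hm <;> omega
  · intro x hxS hxC
    obtain ⟨y, hy, hy1, hy2⟩ := (hcase x hxS).resolve_left fun h => hxC ⟨hxS, h⟩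
    have hsq : (QuotientGroup.mk (y * y) : PSL2) = 1 := by
      refine ((sl2_mk_eq_iff 1 _).2 (Or.inr ?_)).symm
      rw [Matrix.SpecialLinearGroup.coe_mul]
      have hd := sl2_entries y
      rw [hy1, hy2] at hd
      ext i j
      fin_cases i <;> fin_cases j <;> simp [Matrix.mul_apply, Fin.sum_univ_two, hy1, hy2]
      · linear_combination -hd
      · ring
      · ring
      · linear_combination -hd
    refine orderOf_eq_prime ?_ fun h => hxC (h ▸ Subgroup.one_mem _)
    rw [hy, conj_pow, sq, ← QuotientGroup.mk_mul, hsq, mul_one, mul_inv_cancel]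
  · intro x hxS y hyS hxC hyC
    obtain ⟨a, ha, ha1, ha2⟩ := (hcase x hxS).resolve_left fun h => hxC ⟨hxS, h⟩
    obtain ⟨b, hb, hb1, hb2⟩ := (hcase y hyS).resolve_left fun h => hyC ⟨hyS, h⟩
    refine ⟨(S : Subgroup PSL2).mul_mem hxS hyS, QuotientGroup.mk (a * b), ⟨a * b, ?_, rfl⟩, ?_⟩
    · show ((a * b) : M2) 0 0 = ((a * b) : M2) 1 1 ∧ ((a * b) : M2) 0 1 = -((a * b) : M2) 1 0
      simp only [Matrix.SpecialLinearGroup.coe_mul, Matrix.mul_apply, Fin.sum_univ_two]
      rw [ha1, ha2, hb1, hb2]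
      constructor <;> ring
    · show u * QuotientGroup.mk (a * b) * u⁻¹ = x * y
      rw [ha, hb, QuotientGroup.mk_mul]; group
  · -- `S` is Sylow in the centralizer of the involution, which has more elements
    by_contra! hall
    obtain ⟨a, b, hab⟩ := exists_binary_eq hodd (one_ne_zero (α := F)) (one_ne_zero (α := F)) (-1)
    let w : SL2 := ⟨!![a, b; b, -a], by rw [Matrix.det_fin_two]; simp; linear_combination -hab⟩
    have hw : (QuotientGroup.mk w : PSL2) * QuotientGroup.mk jElt = QuotientGroup.mk jElt * QuotientGroup.mk w := by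
      rw [← QuotientGroup.mk_mul, ← QuotientGroup.mk_mul]
      refine (sl2_mk_eq_iff _ _).2 (Or.inr ?_)
      rw [Matrix.SpecialLinearGroup.coe_mul, Matrix.SpecialLinearGroup.coe_mul]
      ext i j
      fin_cases i <;> fin_cases j <;> simp [w, jElt, Matrix.mul_apply, Fin.sum_univ_two]
    set t : PSL2 := u * QuotientGroup.mk w * u⁻¹ with ht
    have ht2 : t ^ 2 = 1 := by
      rw [ht, conj_pow, sq, ← QuotientGroup.mk_mul]
      rw [((sl2_mk_eq_iff 1 (w * w)).2 (Or.inr ?_)).symm]
      · simp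
      rw [Matrix.SpecialLinearGroup.coe_mul]
      ext i j
      fin_cases i <;> fin_cases j <;> simp [w, Matrix.mul_apply, Fin.sum_univ_two]
      · linear_combination hab
      · ring
      · ring
      · linear_combination hab
    have htK : t ∉ K := by
      rintro ⟨_, ⟨k, hk, rfl⟩, hkt⟩
      change u * QuotientGroup.mk k * u⁻¹ = t at hkt
      rw [ht] at hkt
      have := mul_left_cancel (mul_right_cancel hkt)
      have hk1 : (k : M2) 0 0 = (k : M2) 1 1 := hk.1
      have hk2 : (k : M2) 0 1 = -(k : M2) 1 0 := hk.2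
      rcases (sl2_mk_eq_iff _ _).1 this with h | h <;>
      · have e1 := congrFun (congrFun h 0) 0
        have e2 := congrFun (congrFun h 1) 1
        have e3 := congrFun (congrFun h 0) 1
        have e4 := congrFun (congrFun h 1) 0
        simp [w] at e1 e2 e3 e4
        have ha0 : a = 0 := mul_left_cancel₀ h2 (by grind)
        have hb0 : b = 0 := mul_left_cancel₀ h2 (by grind)
        rw [ha0, hb0] at hab; simp at hab
    -- `t` normalizes every subgroup of the cyclic group `K`
    have hinv : ∀ k ∈ K, t * k * t⁻¹ = k⁻¹ := by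
      rintro _ ⟨_, ⟨k, hk, rfl⟩, rfl⟩
      show t * (u * QuotientGroup.mk k * u⁻¹) * t⁻¹ = (u * QuotientGroup.mk k * u⁻¹)⁻¹
      have hwk : (QuotientGroup.mk w : PSL2) * QuotientGroup.mk k = (QuotientGroup.mk k)⁻¹ * QuotientGroup.mk w := by
        rw [← QuotientGroup.mk_inv, ← QuotientGroup.mk_mul, ← QuotientGroup.mk_mul]
        refine (sl2_mk_eq_iff _ _).2 (Or.inl ?_)
        rw [Matrix.SpecialLinearGroup.coe_mul, Matrix.SpecialLinearGroup.coe_mul, Matrix.SpecialLinearGroup.coe_inv,
          Matrix.adjugate_fin_two]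
        have hk1 : (k : M2) 0 0 = (k : M2) 1 1 := hk.1
        have hk2 : (k : M2) 0 1 = -(k : M2) 1 0 := hk.2
        ext i j
        fin_cases i <;> fin_cases j <;> simp [w, Matrix.mul_apply, Fin.sum_univ_two, hk1, hk2] <;> ring
      rw [ht]
      calc u * QuotientGroup.mk w * u⁻¹ * (u * QuotientGroup.mk k * u⁻¹) * (u * QuotientGroup.mk w * u⁻¹)⁻¹
          = u * ((QuotientGroup.mk w : PSL2) * QuotientGroup.mk k * (QuotientGroup.mk w)⁻¹) * u⁻¹ := by group
        _ = _ := by rw [hwk]; group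
    have htN : t ∈ Subgroup.normalizer ((S : Subgroup PSL2) : Set PSL2) := by
      refine mem_normalizer_of_conj_mem t (fun x hx => ?_) fun x hx => ?_
      · rw [hinv x (hall x hx).2]; exact (S : Subgroup PSL2).inv_mem hx
      · have : t⁻¹ = t := inv_eq_of_mul_eq_one_left (by rw [← sq, ht2])
        rw [this]; nth_rw 2 [← this]
        rw [hinv x (hall x hx).2]; exact (S : Subgroup PSL2).inv_mem hx
    -- so `t` lies in `S`
    have hp : IsPGroup 2 (Subgroup.zpowers t) := IsPGroup.of_card (n := 1) (by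
      rw [Nat.card_zpowers, pow_one]
      exact orderOf_eq_prime ht2 fun h => htK (h ▸ K.one_mem))
    have hsup : IsPGroup 2 ((S : Subgroup PSL2) ⊔ Subgroup.zpowers t : Subgroup PSL2) :=
      S.2.to_sup_of_normal_left' hp (Subgroup.zpowers_le.2 htN)
    have := S.is_maximal' hsup le_sup_left
    exact htK (hall t (this ▸ Subgroup.mem_sup_right (Subgroup.mem_zpowers t))).2

/-- The 2-fusion system of `PSL(2, F)` is simple when a Sylow 2-subgroup has order at least 8. -/
theorem psl2_isSimple (hodd : Fintype.card F % 2 = 1) (h16 : 16 ∣ Fintype.card F ^ 2 - 1) (S : Sylow 2 PSL2) :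
    (groupFusionSystem (S : Subgroup PSL2)).IsSimple 2 := by
  classical
  haveI : Finite PSL2 := inferInstance
  obtain ⟨C, hCS, hC, hC4, hout, hidx, t, ht, htC⟩ := psl2_sylow_structure hodd h16 S
  refine group_isSimple_of_isPGroup S (fun h => htC ?_)
    (stronglyClosed_trivial_of_transitive S (fun x y => involutions_conj hodd) ?_)
    (isPGroup_autInducedBy_of_cyclic S.2 hCS hC4 (fun x hx hxC => orderOf_dvd_iff_pow_eq_one.1 (hout x hx hxC).dvd)
      hidx)
  · rw [h] at ht
    exact Subgroup.mem_bot.1 ht ▸ C.one_mem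
  · refine le_antisymm ((Subgroup.closure_le _).2 fun x hx => hx.1) fun x hx => ?_
    by_cases hxC : x ∈ C
    · have h1 : x * t ∉ C := fun h => htC (by simpa using C.mul_mem (C.inv_mem hxC) h)
      have h2 : x * t ∈ (S : Subgroup PSL2) := (S : Subgroup PSL2).mul_mem hx ht
      rw [show x = x * t * t⁻¹ by group]
      exact Subgroup.mul_mem _ (Subgroup.subset_closure ⟨h2, hout _ h2 h1⟩)
        (Subgroup.inv_mem _ (Subgroup.subset_closure ⟨ht, hout _ ht htC⟩))
    · exact Subgroup.subset_closure ⟨hx, hout x hx hxC⟩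

end psl2

end Cfsg.Agent.FusionSys
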