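import Cfsg.Agent.Lib.Fusion.Basic
import Cfsg.Prelude.Def_FusionComponents

/-!
# Normalizer systems, centralizer systems, products and factor systems as terms
-/

set_option autoImplicit false

namespace Cfsg.Agent.FusionSys

open Cfsg Cfsg.FusionSystem

variable {Ω : Type*} [Group Ω] {S : Subgroup Ω}

theorem apply_mem_of_sup {P Q R : Subgroup Ω} (ψ : ↥(P ⊔ Q) →* Ω)
    (hP : ∀ x : P, ψ (Subgroup.inclusion le_sup_left x) ∈ R)
    (hQ : ∀ x : Q, ψ (Subgroup.inclusion le_sup_right x) ∈ R) (x : ↥(P ⊔ Q)) : ψ x ∈ R := by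
  have hle : P ⊔ Q ≤ (R.comap ψ).map (P ⊔ Q).subtype :=
    sup_le (fun y hy => ⟨_, hP ⟨y, hy⟩, rfl⟩) fun y hy => ⟨_, hQ ⟨y, hy⟩, rfl⟩
  obtain ⟨z, hz, hzx⟩ := hle x.2
  rw [show x = z from Subtype.ext hzx.symm]; exact hz

theorem map_subgroupOf_eq_iff {A Q : Subgroup Ω} (ψ : A →* Ω) (hQA : Q ≤ A) :
    (Q.subgroupOf A).map ψ = Q ↔
      (∀ x : Q, ψ (Subgroup.inclusion hQA x) ∈ Q) ∧ ∀ y ∈ Q, ∃ x : Q, ψ (Subgroup.inclusion hQA x) = y := by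
  rw [← range_restrict ψ hQA]
  constructor
  · intro h
    refine ⟨fun x => ?_, fun y hy => ?_⟩
    · exact h.le ⟨x, rfl⟩
    · exact h.ge hy
  · rintro ⟨h1, h2⟩
    exact le_antisymm (by rintro _ ⟨x, rfl⟩; exact h1 x) fun y hy => h2 y hy

/-- The normalizer system of `Q` as a term. -/
noncomputable def normSystem (F : FusionSystem S) {Q : Subgroup Ω} (hQ : Q ≤ S) :
    FusionSystem (normalizerIn S Q) where
  Hom P := F.normalizerHom Q P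
  le_of_mem h := ⟨h.2.1, h.2.2.1⟩
  injective_of_mem h := F.injective_of_mem h.1
  conj_mem := by
    intro P g hP hg
    refine ⟨F.conj_mem (hP.trans inf_le_left) hg.1, hP, fun x => ?_, conjHom (P ⊔ Q) g,
      F.conj_mem (sup_le (hP.trans inf_le_left) hQ) hg.1, fun x => rfl, ?_⟩
    · exact Subgroup.mul_mem _ (Subgroup.mul_mem _ hg (hP x.2)) (Subgroup.inv_mem _ hg)
    · rw [map_subgroupOf_eq_iff _ le_sup_right]
      refine ⟨fun x => (Subgroup.mem_normalizer_iff.1 hg.2 x).1 x.2, fun y hy => ?_⟩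
      refine ⟨⟨g⁻¹ * y * g, ?_⟩, ?_⟩
      · have := (Subgroup.mem_normalizer_iff.1 (Subgroup.inv_mem _ hg.2) y).1 hy
        simpa using this
      · simp [mul_assoc]
  comp_mem := by
    rintro P R φ θ ⟨hφ, hPN, hφN, φ', hφ', e1, q1⟩ ⟨hθ, hRN, hθN, θ', hθ', e2, q2⟩ h
    rw [map_subgroupOf_eq_iff _ le_sup_right] at q1 q2
    have hin : ∀ x, φ' x ∈ R ⊔ Q := apply_mem_of_sup φ'
      (fun x => by rw [e1 x]; exact Subgroup.mem_sup_left (h x))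
      fun x => Subgroup.mem_sup_right (q1.1 x)
    refine ⟨F.comp_mem hφ hθ h, hPN, fun x => hθN _, θ'.comp (φ'.codRestrict (R ⊔ Q) hin),
      F.comp_mem hφ' hθ' hin, fun x => ?_, ?_⟩
    · refine Eq.trans ?_ (e2 ⟨φ x, h x⟩)
      show θ' _ = θ' _
      congr 1
      exact Subtype.ext (e1 x)
    · rw [map_subgroupOf_eq_iff _ le_sup_right]
      refine ⟨fun x => ?_, fun y hy => ?_⟩
      · have := q2.1 ⟨_, q1.1 x⟩
        exact this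
      · obtain ⟨z, hz⟩ := q2.2 y hy
        obtain ⟨w, hw⟩ := q1.2 z z.2
        refine ⟨w, Eq.trans ?_ hz⟩
        show θ' _ = θ' _
        congr 1
        exact Subtype.ext hw
  inv_mem := by
    rintro P φ ⟨hφ, hPN, hφN, φ', hφ', e1, q1⟩
    obtain ⟨ψ, hψ, hψr, h1, h2⟩ := exists_inv F hφ
    obtain ⟨ψ', hψ', -, g1, g2⟩ := exists_inv F hφ'
    rw [map_subgroupOf_eq_iff _ le_sup_right] at q1
    have hle : φ.range ⊔ Q ≤ φ'.range := by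
      refine sup_le ?_ fun y hy => ?_
      · rintro _ ⟨x, rfl⟩; exact ⟨_, e1 x⟩
      · obtain ⟨x, hx⟩ := q1.2 y hy; exact ⟨_, hx⟩
    refine ⟨ψ, ⟨hψ, ?_, fun y => hPN (hψr.le ⟨y, rfl⟩), ψ'.comp (Subgroup.inclusion hle),
      restrict_mem F hψ' hle, ?_, ?_⟩, fun x => h1 x _⟩
    · rintro _ ⟨x, rfl⟩; exact hφN x
    · intro y
      obtain ⟨x, rfl⟩ : ∃ x : P, (⟨φ x, ⟨x, rfl⟩⟩ : φ.range) = y :=
        ⟨Classical.choose y.2, Subtype.ext (Classical.choose_spec y.2)⟩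
      refine Eq.trans ?_ (h1 x _).symm
      refine Eq.trans ?_ (g1 (Subgroup.inclusion le_sup_left x) ⟨_, rfl⟩)
      show ψ' _ = ψ' _
      congr 1
      exact Subtype.ext (e1 x).symm
    · rw [map_subgroupOf_eq_iff _ le_sup_right]
      refine ⟨fun y => ?_, fun x hx => ?_⟩
      · obtain ⟨z, hz⟩ := q1.2 y y.2
        have := g1 (Subgroup.inclusion le_sup_right z) ⟨_, rfl⟩
        refine (congrArg (· ∈ Q) (?_ : _ = (z : Ω))).mpr z.2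
        refine Eq.trans ?_ this
        show ψ' _ = ψ' _
        congr 1
        exact Subtype.ext hz.symm
      · refine ⟨⟨_, q1.1 ⟨x, hx⟩⟩, ?_⟩
        refine Eq.trans ?_ (g1 (Subgroup.inclusion le_sup_right ⟨x, hx⟩) ⟨_, rfl⟩)
        rfl

theorem normSystem_spec (F : FusionSystem S) {Q : Subgroup Ω} (hQ : Q ≤ S) :
    F.IsNormalizerSystem Q (normSystem F hQ) := fun _ => rfl

/-- The centralizer system of `Q` as a term. -/
noncomputable def centSystem (F : FusionSystem S) {Q : Subgroup Ω} (hQ : Q ≤ S) :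
    FusionSystem (centralizerIn S Q) where
  Hom P := F.centralizerHom Q P
  le_of_mem h := ⟨h.2.1, h.2.2.1⟩
  injective_of_mem h := F.injective_of_mem h.1
  conj_mem := by
    intro P g hP hg
    refine ⟨F.conj_mem (hP.trans inf_le_left) hg.1, hP, fun x => ?_, conjHom (P ⊔ Q) g,
      F.conj_mem (sup_le (hP.trans inf_le_left) hQ) hg.1, fun x => rfl, fun x => ?_⟩
    · exact Subgroup.mul_mem _ (Subgroup.mul_mem _ hg (hP x.2)) (Subgroup.inv_mem _ hg)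
    · show g * (x : Ω) * g⁻¹ = x
      rw [← Subgroup.mem_centralizer_iff.1 hg.2 x x.2, mul_inv_cancel_right]
  comp_mem := by
    rintro P R φ θ ⟨hφ, hPN, hφN, φ', hφ', e1, q1⟩ ⟨hθ, hRN, hθN, θ', hθ', e2, q2⟩ h
    have hin : ∀ x, φ' x ∈ R ⊔ Q := apply_mem_of_sup φ'
      (fun x => by rw [e1 x]; exact Subgroup.mem_sup_left (h x))
      fun x => by rw [q1 x]; exact Subgroup.mem_sup_right x.2
    refine ⟨F.comp_mem hφ hθ h, hPN, fun x => hθN _, θ'.comp (φ'.codRestrict (R ⊔ Q) hin),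
      F.comp_mem hφ' hθ' hin, fun x => ?_, fun x => ?_⟩
    · refine Eq.trans ?_ (e2 ⟨φ x, h x⟩)
      show θ' _ = θ' _
      congr 1
      exact Subtype.ext (e1 x)
    · refine Eq.trans ?_ (q2 x)
      show θ' _ = θ' _
      congr 1
      exact Subtype.ext (q1 x)
  inv_mem := by
    rintro P φ ⟨hφ, hPN, hφN, φ', hφ', e1, q1⟩
    obtain ⟨ψ, hψ, hψr, h1, h2⟩ := exists_inv F hφ
    obtain ⟨ψ', hψ', -, g1, g2⟩ := exists_inv F hφ'
    have hle : φ.range ⊔ Q ≤ φ'.range := by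
      refine sup_le ?_ fun y hy => ⟨_, q1 ⟨y, hy⟩⟩
      rintro _ ⟨x, rfl⟩; exact ⟨_, e1 x⟩
    refine ⟨ψ, ⟨hψ, ?_, fun y => hPN (hψr.le ⟨y, rfl⟩), ψ'.comp (Subgroup.inclusion hle),
      restrict_mem F hψ' hle, ?_, ?_⟩, fun x => h1 x _⟩
    · rintro _ ⟨x, rfl⟩; exact hφN x
    · intro y
      obtain ⟨x, rfl⟩ : ∃ x : P, (⟨φ x, ⟨x, rfl⟩⟩ : φ.range) = y :=
        ⟨Classical.choose y.2, Subtype.ext (Classical.choose_spec y.2)⟩
      refine Eq.trans ?_ (h1 x _).symm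
      refine Eq.trans ?_ (g1 (Subgroup.inclusion le_sup_left x) ⟨_, rfl⟩)
      show ψ' _ = ψ' _
      congr 1
      exact Subtype.ext (e1 x).symm
    · intro y
      refine Eq.trans ?_ (g1 (Subgroup.inclusion le_sup_right y) ⟨_, rfl⟩)
      show ψ' _ = ψ' _
      congr 1
      exact Subtype.ext (q1 y).symm

theorem centSystem_spec (F : FusionSystem S) {Q : Subgroup Ω} (hQ : Q ≤ S) :
    F.IsCentralizerSystem Q (centSystem F hQ) := fun _ => rfl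

theorem le_preimageAlong {Ω' : Type*} [Group Ω'] (θ : S →* Ω') (P' : Subgroup Ω') :
    preimageAlong θ P' ≤ S := by
  rintro _ ⟨x, -, rfl⟩; exact x.2

theorem mem_preimageAlong {Ω' : Type*} [Group Ω'] (θ : S →* Ω') (P' : Subgroup Ω') (x : Ω) :
    x ∈ preimageAlong θ P' ↔ ∃ hx : x ∈ S, θ ⟨x, hx⟩ ∈ P' := by
  constructor
  · rintro ⟨y, hy, rfl⟩; exact ⟨y.2, hy⟩
  · rintro ⟨hx, h⟩; exact ⟨⟨x, hx⟩, h, rfl⟩

/-- The factor system of `F` along `θ` with strongly closed kernel `S₀`. -/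
noncomputable def factorSystem [Finite S] (F : FusionSystem S) {S₀ : Subgroup Ω} (hS₀ : F.StronglyClosed S₀)
    {Ω' : Type*} [Group Ω'] (θ : S →* Ω') (hker : ∀ s : S, θ s = 1 ↔ (s : Ω) ∈ S₀) {S' : Subgroup Ω'}
    (hran : θ.range = S') : FusionSystem S' where
  Hom P' := {φ' | P' ≤ S' ∧ ∃ φ ∈ F.Hom (preimageAlong θ P'), InducedAlong θ φ φ'}
  le_of_mem := by
    rintro P' φ' ⟨hP', φ, hφ, _, _, _, he⟩
    refine ⟨hP', fun y => ?_⟩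
    obtain ⟨s, hs⟩ : (y : Ω') ∈ θ.range := hran.ge (hP' y.2)
    have := he ⟨s, (mem_preimageAlong θ P' _).2 ⟨s.2, hs ▸ y.2⟩⟩
    rw [← hran]
    refine ⟨_, this.symm.trans ?_⟩
    congr 1
    exact Subtype.ext hs
  injective_of_mem := by
    rintro P' φ' ⟨hP', φ, hφ, hP, hφS, hmem, he⟩
    rw [injective_iff_map_eq_one]
    intro y hy
    obtain ⟨s, hs⟩ : (y : Ω') ∈ θ.range := hran.ge (hP' y.2)
    set x : ↥(preimageAlong θ P') := ⟨s, (mem_preimageAlong θ P' _).2 ⟨s.2, hs ▸ y.2⟩⟩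
    have hxy : (⟨θ ⟨x, hP x.2⟩, hmem x⟩ : P') = y := Subtype.ext hs
    have h1 := he x
    rw [hxy, hy] at h1
    have h2 : φ x ∈ S₀ := (hker _).1 h1.symm
    obtain ⟨ψ, hψ, -, h3, -⟩ := exists_inv F hφ
    have h4 := stronglyClosed_apply_mem hS₀ hψ ⟨φ x, ⟨x, rfl⟩⟩ h2
    rw [h3 x ⟨x, rfl⟩] at h4
    apply Subtype.ext
    rw [← hxy]
    exact (hker ⟨x, hP x.2⟩).2 h4
  conj_mem := by
    intro P' g' hP' hg'
    obtain ⟨g, rfl⟩ : g' ∈ θ.range := hran.ge hg'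
    refine ⟨hP', conjHom _ (g : Ω), F.conj_mem (le_preimageAlong θ P') g.2, le_preimageAlong θ P',
      fun x => hom_apply_mem F (F.conj_mem (le_preimageAlong θ P') g.2) x,
      fun x => ((mem_preimageAlong θ P' _).1 x.2).2, fun x => ?_⟩
    show θ g * θ _ * (θ g)⁻¹ = θ _
    rw [← map_inv, ← map_mul, ← map_mul]
    rfl
  comp_mem := by
    rintro P' Q' φ' ψ' ⟨hP', φ, hφ, hP, hφS, hmem, he⟩ ⟨hQ', ψ, hψ, hQ, hψS, hmem', he'⟩ h
    have hin : ∀ x, φ x ∈ preimageAlong θ Q' := fun x =>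
      (mem_preimageAlong θ Q' _).2 ⟨hφS x, he x ▸ h _⟩
    refine ⟨hP', _, F.comp_mem hφ hψ hin, hP, fun x => hψS _, hmem, fun x => ?_⟩
    refine Eq.trans ?_ (he' ⟨φ x, hin x⟩)
    show ψ' _ = ψ' _
    congr 1
    exact Subtype.ext (he x)
  inv_mem := by
    rintro P' φ' ⟨hP', φ, hφ, hP, hφS, hmem, he⟩
    obtain ⟨ψ, hψ, hψr, h1, h2⟩ := exists_inv F hφ
    have hsurj : ∀ y : P', ∃ x : ↥(preimageAlong θ P'), (⟨θ ⟨x, hP x.2⟩, hmem x⟩ : P') = y := fun y => by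
      obtain ⟨s, hs⟩ : (y : Ω') ∈ θ.range := hran.ge (hP' y.2)
      exact ⟨⟨s, (mem_preimageAlong θ P' _).2 ⟨s.2, hs ▸ y.2⟩⟩, Subtype.ext hs⟩
    have hS₀P : S₀ ≤ preimageAlong θ P' := fun x hx =>
      (mem_preimageAlong θ P' x).2 ⟨hS₀.1 hx, by rw [(hker ⟨x, hS₀.1 hx⟩).2 hx]; exact P'.one_mem⟩
    have hS₀φ : S₀ ≤ φ.range := by
      rw [← (stronglyClosed_weaklyClosed hS₀).2 _ (restrict_mem F hφ hS₀P)]
      rw [MonoidHom.range_comp]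
      exact Subgroup.map_le_range _ _
    have hpre : preimageAlong θ φ'.range = φ.range := by
      ext z
      rw [mem_preimageAlong]
      constructor
      · rintro ⟨hz, y, hy⟩
        obtain ⟨x, rfl⟩ := hsurj y
        rw [he x] at hy
        have hd : (φ x)⁻¹ * z ∈ S₀ := (hker (⟨φ x, hφS x⟩⁻¹ * ⟨z, hz⟩)).1 (by rw [map_mul, map_inv, ← hy, inv_mul_cancel])
        have : z = φ x * ((φ x)⁻¹ * z) := by group
        rw [this]
        exact φ.range.mul_mem ⟨x, rfl⟩ (hS₀φ hd)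
      · rintro ⟨x, rfl⟩
        exact ⟨hφS x, ⟨θ ⟨x, hP x.2⟩, hmem x⟩, he x⟩
    have hran' : φ'.range ≤ S' := by
      rintro _ ⟨y, rfl⟩
      obtain ⟨x, rfl⟩ := hsurj y
      rw [he x, ← hran]
      exact ⟨_, rfl⟩
    obtain ⟨ψ', hψ'⟩ : ∃ ψ' : φ'.range →* Ω', ∀ y, ψ' ⟨φ' y, ⟨y, rfl⟩⟩ = y := by
      have hinj : Function.Injective φ' := by
        rw [injective_iff_map_eq_one]
        intro y hy
        obtain ⟨x, rfl⟩ := hsurj y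
        rw [he x] at hy
        have h4 := stronglyClosed_apply_mem hS₀ hψ ⟨φ x, ⟨x, rfl⟩⟩ ((hker _).1 hy)
        rw [h1 x ⟨x, rfl⟩] at h4
        exact Subtype.ext ((hker ⟨x, hP x.2⟩).2 h4)
      refine ⟨P'.subtype.comp (MonoidHom.ofInjective hinj).symm.toMonoidHom, fun y => ?_⟩
      show (((MonoidHom.ofInjective hinj).symm _ : P') : Ω') = y
      congr 1
      exact (MonoidHom.ofInjective hinj).symm_apply_apply y
    refine ⟨ψ', ⟨hran', ψ.comp (Subgroup.inclusion hpre.le), restrict_mem F hψ hpre.le,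
      le_preimageAlong θ _, fun z => hom_apply_mem F hψ _, fun z => ((mem_preimageAlong θ _ _).1 z.2).2,
      fun z => ?_⟩, hψ'⟩
    obtain ⟨x, hx⟩ := hpre.le z.2
    have key : (Subgroup.inclusion hpre.le z) = (⟨φ x, ⟨x, rfl⟩⟩ : φ.range) := Subtype.ext hx.symm
    have hval : θ ⟨(z : Ω), le_preimageAlong θ _ z.2⟩ = φ' ⟨θ ⟨x, hP x.2⟩, hmem x⟩ := by
      rw [he x]; congr 1; exact Subtype.ext hx.symm
    refine Eq.trans ?_ ((hψ' ⟨θ ⟨x, hP x.2⟩, hmem x⟩).trans ?_)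
    · congr 1; exact Subtype.ext hval
    · exact congrArg θ (Subtype.ext (((congrArg ψ key).trans (h1 x ⟨x, rfl⟩)).symm))

theorem factorSystem_spec [Finite S] (F : FusionSystem S) {S₀ : Subgroup Ω} (hS₀ : F.StronglyClosed S₀)
    {Ω' : Type*} [Group Ω'] (θ : S →* Ω') (hker : ∀ s : S, θ s = 1 ↔ (s : Ω) ∈ S₀) {S' : Subgroup Ω'}
    (hran : θ.range = S') : F.IsFactorSystem S₀ θ (factorSystem F hS₀ θ hker hran) :=
  ⟨hS₀.1, hker, hran, fun _ _ => Iff.rfl⟩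

/-- The direct product of two systems. -/
noncomputable def prodSystem {Ω₂ : Type*} [Group Ω₂] {S₂ : Subgroup Ω₂} (F₁ : FusionSystem S)
    (F₂ : FusionSystem S₂) : FusionSystem (S.prod S₂) where
  Hom P := {φ | P ≤ S.prod S₂ ∧
      ∃ φ₁ ∈ F₁.Hom (P.map (MonoidHom.fst Ω Ω₂)), ∃ φ₂ ∈ F₂.Hom (P.map (MonoidHom.snd Ω Ω₂)),
        ∀ (x : P) (h₁ : (x : Ω × Ω₂).1 ∈ P.map (MonoidHom.fst Ω Ω₂))
          (h₂ : (x : Ω × Ω₂).2 ∈ P.map (MonoidHom.snd Ω Ω₂)),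
          φ x = (φ₁ ⟨(x : Ω × Ω₂).1, h₁⟩, φ₂ ⟨(x : Ω × Ω₂).2, h₂⟩)}
  le_of_mem := by
    rintro P φ ⟨hP, φ₁, h1, φ₂, h2, he⟩
    refine ⟨hP, fun x => ?_⟩
    rw [he x ⟨x, x.2, rfl⟩ ⟨x, x.2, rfl⟩]
    exact ⟨hom_apply_mem F₁ h1 _, hom_apply_mem F₂ h2 _⟩
  injective_of_mem := by
    rintro P φ ⟨hP, φ₁, h1, φ₂, h2, he⟩ a b hab
    rw [he a ⟨a, a.2, rfl⟩ ⟨a, a.2, rfl⟩, he b ⟨b, b.2, rfl⟩ ⟨b, b.2, rfl⟩, Prod.mk.injEq] at hab
    exact Subtype.ext (Prod.ext (congrArg Subtype.val (F₁.injective_of_mem h1 hab.1) :)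
      (congrArg Subtype.val (F₂.injective_of_mem h2 hab.2) :))
  conj_mem := by
    intro P g hP hg
    refine ⟨hP, conjHom _ g.1, F₁.conj_mem ?_ hg.1, conjHom _ g.2, F₂.conj_mem ?_ hg.2, fun x _ _ => rfl⟩
    · rintro _ ⟨x, hx, rfl⟩; exact (hP hx).1
    · rintro _ ⟨x, hx, rfl⟩; exact (hP hx).2
  comp_mem := by
    rintro P Q φ ψ ⟨hP, φ₁, h1, φ₂, h2, he⟩ ⟨hQ, ψ₁, g1, ψ₂, g2, he'⟩ h
    have hm1 : ∀ x, φ₁ x ∈ Q.map (MonoidHom.fst Ω Ω₂) := by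
      rintro ⟨_, y, hy, rfl⟩
      exact ⟨φ ⟨y, hy⟩, h _, congrArg Prod.fst (he ⟨y, hy⟩ ⟨y, hy, rfl⟩ ⟨y, hy, rfl⟩)⟩
    have hm2 : ∀ x, φ₂ x ∈ Q.map (MonoidHom.snd Ω Ω₂) := by
      rintro ⟨_, y, hy, rfl⟩
      exact ⟨φ ⟨y, hy⟩, h _, congrArg Prod.snd (he ⟨y, hy⟩ ⟨y, hy, rfl⟩ ⟨y, hy, rfl⟩)⟩
    refine ⟨hP, _, F₁.comp_mem h1 g1 hm1, _, F₂.comp_mem h2 g2 hm2, fun x a b => ?_⟩
    refine (he' ⟨φ x, h x⟩ ⟨φ x, h x, rfl⟩ ⟨φ x, h x, rfl⟩).trans ?_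
    refine Prod.ext ?_ ?_
    · show ψ₁ _ = ψ₁ _
      congr 1; exact Subtype.ext (congrArg Prod.fst (he x a b))
    · show ψ₂ _ = ψ₂ _
      congr 1; exact Subtype.ext (congrArg Prod.snd (he x a b))
  inv_mem := by
    rintro P φ ⟨hP, φ₁, h1, φ₂, h2, he⟩
    obtain ⟨ψ₁, g1, -, e1, -⟩ := exists_inv F₁ h1
    obtain ⟨ψ₂, g2, -, e2, -⟩ := exists_inv F₂ h2
    have hinj : Function.Injective φ := by
      intro a b hab
      rw [he a ⟨a, a.2, rfl⟩ ⟨a, a.2, rfl⟩, he b ⟨b, b.2, rfl⟩ ⟨b, b.2, rfl⟩, Prod.mk.injEq] at hab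
      exact Subtype.ext (Prod.ext (congrArg Subtype.val (F₁.injective_of_mem h1 hab.1) :)
        (congrArg Subtype.val (F₂.injective_of_mem h2 hab.2) :))
    have hr1 : φ.range.map (MonoidHom.fst Ω Ω₂) ≤ φ₁.range := by
      rintro _ ⟨_, ⟨x, rfl⟩, rfl⟩
      exact ⟨_, (congrArg Prod.fst (he x ⟨x, x.2, rfl⟩ ⟨x, x.2, rfl⟩)).symm⟩
    have hr2 : φ.range.map (MonoidHom.snd Ω Ω₂) ≤ φ₂.range := by
      rintro _ ⟨_, ⟨x, rfl⟩, rfl⟩
      exact ⟨_, (congrArg Prod.snd (he x ⟨x, x.2, rfl⟩ ⟨x, x.2, rfl⟩)).symm⟩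
    have hψ : ∀ x : P, P.subtype.comp (MonoidHom.ofInjective hinj).symm.toMonoidHom ⟨φ x, ⟨x, rfl⟩⟩ = x := by
      intro x
      show (((MonoidHom.ofInjective hinj).symm _ : P) : Ω × Ω₂) = x
      congr 1
      exact (MonoidHom.ofInjective hinj).symm_apply_apply x
    refine ⟨_, ⟨?_, ψ₁.comp (Subgroup.inclusion hr1), restrict_mem F₁ g1 hr1,
      ψ₂.comp (Subgroup.inclusion hr2), restrict_mem F₂ g2 hr2, ?_⟩, hψ⟩
    · rintro _ ⟨x, rfl⟩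
      rw [he x ⟨x, x.2, rfl⟩ ⟨x, x.2, rfl⟩]
      exact ⟨hom_apply_mem F₁ h1 _, hom_apply_mem F₂ h2 _⟩
    · rintro ⟨_, x, rfl⟩ a b
      refine (hψ x).trans (Prod.ext ?_ ?_)
      · refine ((e1 ⟨(x : Ω × Ω₂).1, ⟨x, x.2, rfl⟩⟩ ⟨_, rfl⟩).symm.trans ?_)
        show ψ₁ _ = ψ₁ _
        congr 1; exact Subtype.ext (congrArg Prod.fst (he x ⟨x, x.2, rfl⟩ ⟨x, x.2, rfl⟩)).symm
      · refine ((e2 ⟨(x : Ω × Ω₂).2, ⟨x, x.2, rfl⟩⟩ ⟨_, rfl⟩).symm.trans ?_)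
        show ψ₂ _ = ψ₂ _
        congr 1; exact Subtype.ext (congrArg Prod.snd (he x ⟨x, x.2, rfl⟩ ⟨x, x.2, rfl⟩)).symm

theorem prodSystem_spec {Ω₂ : Type*} [Group Ω₂] {S₂ : Subgroup Ω₂} (F₁ : FusionSystem S)
    (F₂ : FusionSystem S₂) : IsProductSystem F₁ F₂ (prodSystem F₁ F₂) := fun _ _ => Iff.rfl

end Cfsg.Agent.FusionSys
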