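import Cfsg.Agent.Lib.Fusion.Alperin
import Cfsg.Agent.Lib.Fusion.Local
import Cfsg.Agent.Lib.LocalEven.OmegaOne
import Cfsg.Prelude.Def_PLocal
import Mathlib.GroupTheory.Nilpotent
import Mathlib.GroupTheory.SemidirectProduct

/-!
# Criteria for a subgroup to be normal or central in a saturated system

`isNormal_of_le`, `le_of_chain`, `isNormal_iff_chain`, `isNormal_iff_restrict`, `isCentral_iff`.
-/

set_option autoImplicit false

namespace Cfsg.Agent.FusionSys

open Cfsg Cfsg.FusionSystem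
open scoped commutatorElement

variable {Ω : Type*} [Group Ω] {S : Subgroup Ω}

/-! ### Invariant subgroups -/

theorem stronglyClosed_autGroup_mem {F : FusionSystem S} {T P : Subgroup Ω} (hT : F.StronglyClosed T)
    (hP : P ≤ S) {α : MulAut P} (hα : α ∈ F.autGroup P) (y : P) (hy : (y : Ω) ∈ T) :
    ((α y : P) : Ω) ∈ T :=
  stronglyClosed_apply_mem hT ((equivHom_autGroup F hP).1 hα) y hy

theorem weaklyClosed_autGroup_mem {F : FusionSystem S} {T P : Subgroup Ω} (hT : F.WeaklyClosed T)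
    (hTP : T ≤ P) (hP : P ≤ S) {α : MulAut P} (hα : α ∈ F.autGroup P) (y : P) (hy : (y : Ω) ∈ T) :
    ((α y : P) : Ω) ∈ T :=
  (hT.2 _ (restrict_mem F ((equivHom_autGroup F hP).1 hα) hTP)).le ⟨⟨y, hy⟩, rfl⟩

theorem weaklyClosed_le_normalizer {F : FusionSystem S} {T : Subgroup Ω} (h : F.WeaklyClosed T) :
    S ≤ Subgroup.normalizer (T : Set Ω) := fun g hg => by
  refine mem_normalizer_of_conj_mem g (fun x hx => ?_) fun x hx => ?_
  · exact (h.2 _ (F.conj_mem h.1 hg)).le ⟨⟨x, hx⟩, rfl⟩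
  · simpa using (h.2 _ (F.conj_mem h.1 (S.inv_mem hg))).le ⟨⟨x, hx⟩, rfl⟩

theorem stronglyClosed_bot (F : FusionSystem S) : F.StronglyClosed ⊥ :=
  isNormal_stronglyClosed (isNormal_bot F)

theorem stronglyClosed_inf {F : FusionSystem S} {A B : Subgroup Ω} (hA : F.StronglyClosed A)
    (hB : F.StronglyClosed B) : F.StronglyClosed (A ⊓ B) :=
  ⟨inf_le_left.trans hA.1, fun R hR φ hφ x =>
    ⟨hA.2 R (hR.trans inf_le_left) φ hφ x, hB.2 R (hR.trans inf_le_right) φ hφ x⟩⟩

theorem stronglyClosed_self (F : FusionSystem S) : F.StronglyClosed S :=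
  ⟨le_rfl, fun _ _ _ hφ x => hom_apply_mem F hφ x⟩

variable {p : ℕ} [hp : Fact p.Prime] [Finite S]

/-! ### Stabilizers of series -/

/-- If `α` of order prime to `p` fixes `w = y⁻¹ α y` then it fixes `y`. -/
theorem fix_of_step {P : Subgroup Ω} (hP : IsPGroup p P) [Finite P] {α : MulAut P}
    (hα : (orderOf α).Coprime p) {y : P} (hw : α (y⁻¹ * α y) = y⁻¹ * α y) : α y = y := by
  set w := y⁻¹ * α y with hwd
  have hn : ∀ n : ℕ, (α ^ n) y = y * w ^ n := by
    intro n
    induction n with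
    | zero => simp
    | succ n ih =>
      rw [pow_succ', MulAut.mul_apply, ih, map_mul, map_pow, hw, show α y = y * w by rw [hwd]; group,
        mul_assoc, pow_succ']
  have h1 := hn (orderOf α)
  rw [pow_orderOf_eq_one, MulAut.one_apply, left_eq_mul] at h1
  have hdvd : orderOf w ∣ orderOf α := orderOf_dvd_of_pow_eq_one h1
  obtain ⟨k, hk⟩ := IsPGroup.iff_orderOf.1 hP w
  have : orderOf w = 1 := Nat.eq_one_of_dvd_coprimes
    (hk ▸ (hα.pow_right k) : (orderOf α).Coprime (orderOf w)) hdvd dvd_rfl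
  rw [orderOf_eq_one_iff, hwd, inv_mul_eq_one] at this
  exact this.symm

/-- An element of `N_S(P)` stabilizing a series invariant under `Aut_F(P)`, whose stabilizer has no
`p'`-elements, lies in `P`, for `P` centric and radical. -/
theorem mem_of_stabilizer (hS : IsPGroup p S) {F : FusionSystem S} {P : Subgroup Ω} (hc : F.IsCentric P)
    (hr : F.IsRadical p P) {ι : Type*} (A B : ι → Subgroup Ω)
    (hA : ∀ j, ∀ α ∈ F.autGroup P, ∀ y : P, (y : Ω) ∈ A j → ((α y : P) : Ω) ∈ A j)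
    (hB : ∀ j, ∀ α ∈ F.autGroup P, ∀ y : P, (y : Ω) ∈ B j → ((α y : P) : Ω) ∈ B j)
    (hker : ∀ α ∈ F.autGroup P, (orderOf α).Coprime p →
      (∀ j, ∀ y : P, (y : Ω) ∈ A j → (y : Ω)⁻¹ * (α y : P) ∈ B j) → α = 1)
    {x : Ω} (hxS : x ∈ S) (hxN : x ∈ Subgroup.normalizer (P : Set Ω))
    (hx : ∀ j, ∀ y ∈ P, y ∈ A j → y⁻¹ * (x * y * x⁻¹) ∈ B j) : x ∈ P := by
  have hP := hc.1
  have := finite_of_le hP
  let K : Subgroup (F.autGroup P) :=
    { carrier := {a | ∀ j, ∀ y : P, (y : Ω) ∈ A j → (y : Ω)⁻¹ * (((a : MulAut P) y : P) : Ω) ∈ B j}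
      one_mem' := fun j y _ => by simp
      mul_mem' := fun {a b} ha hb j y hy => by
        have h1 := ha j y hy
        have h2 := hB j _ a.2 (y⁻¹ * (b : MulAut P) y) (by simpa using hb j y hy)
        have := (B j).mul_mem h1 h2
        simpa [mul_assoc] using this
      inv_mem' := fun {a} ha j y hy => by
        have hy' := hA j _ (Subgroup.inv_mem _ a.2) y hy
        have h1 := ha j _ hy'
        rw [show ((a : MulAut P)) ((a : MulAut P)⁻¹ y) = y from (a : MulAut P).apply_symm_apply y] at h1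
        have := (B j).inv_mem h1
        rwa [mul_inv_rev, inv_inv] at this }
  have hKn : K.Normal := ⟨fun a ha g j y hy => by
    have hy' := hA j _ (Subgroup.inv_mem _ g.2) y hy
    have h1 := ha j _ hy'
    have h2 := hB j _ g.2 (((g : MulAut P)⁻¹ y)⁻¹ * (a : MulAut P) ((g : MulAut P)⁻¹ y)) (by simpa using h1)
    rw [map_mul, map_inv, show ((g : MulAut P)) ((g : MulAut P)⁻¹ y) = y from (g : MulAut P).apply_symm_apply y] at h2
    simpa using h2⟩
  have hKp : IsPGroup p K := by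
    intro a
    obtain ⟨k, m, hm, hkm⟩ := Nat.exists_eq_pow_mul_and_not_dvd (orderOf_pos a).ne' p hp.out.ne_one
    refine ⟨k, Subtype.ext (Subtype.ext ?_)⟩
    have hco : (orderOf (((a : F.autGroup P) : MulAut P) ^ p ^ k)).Coprime p := by
      rw [orderOf_pow, Subgroup.orderOf_coe, Subgroup.orderOf_coe, hkm, Nat.gcd_eq_right (Dvd.intro _ rfl),
        Nat.mul_div_cancel_left _ (pow_pos hp.out.pos k)]
      exact ((Nat.Prime.coprime_iff_not_dvd hp.out).2 hm).symm
    exact hker _ (pow_mem (a : F.autGroup P).2 _) hco fun j y hy => (pow_mem a.2 (p ^ k) : _ ∈ K) j y hy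
  obtain ⟨c, hcS, hce⟩ := exists_conjAut hxS hxN
  have hcA : c ∈ F.autGroup P := autInducedBy_le_autGroup F hP hcS
  have hcK : (⟨c, hcA⟩ : F.autGroup P) ∈ K := fun j y hy => by
    show (y : Ω)⁻¹ * ((c y : P) : Ω) ∈ B j
    rw [hce y]
    exact hx j y y.2 hy
  have := Cfsg.Agent.PBasic.le_pCore hKn hKp hcK
  have hin : c ∈ Inn P := hr.2.le ⟨_, this, rfl⟩
  exact mem_of_conj_mem_inn (F := F) (centralizerIn_le_of_centric hc) hxS hP hce hin

theorem le_of_normalizer_le (hS : IsPGroup p S) {P Q : Subgroup Ω} (hP : P ≤ S) (hQ : Q ≤ S)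
    (hn : S ≤ Subgroup.normalizer (Q : Set Ω))
    (h : ∀ x ∈ Q, x ∈ Subgroup.normalizer (P : Set Ω) → x ∈ P) : Q ≤ P := by
  by_contra hle
  have hlt : P < P ⊔ Q := left_lt_sup.2 hle
  have hTS : P ⊔ Q ≤ S := sup_le hP hQ
  have := finite_of_le hTS
  obtain ⟨g, hg, hgP⟩ := SetLike.exists_of_lt
    (Cfsg.Agent.Fusion.lt_inf_normalizer (hS.to_le hTS).isNilpotent hlt)
  have hmem : g ∈ ((P ⊔ Q : Subgroup Ω) : Set Ω) := hg.1
  rw [Subgroup.coe_mul_of_left_le_normalizer_right P Q (hP.trans hn)] at hmem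
  obtain ⟨a, ha, b, hb, rfl⟩ := hmem
  refine hgP (P.mul_mem ha (h b hb ?_))
  have := (Subgroup.normalizer (P : Set Ω)).mul_mem ((Subgroup.normalizer (P : Set Ω)).inv_mem (Subgroup.le_normalizer ha)) hg.2
  simpa using this

theorem commutator_conj_mem {A B C : Subgroup Ω} (h : ⁅A, B⁆ ≤ C) {x y : Ω} (hy : y ∈ A) (hx : x ∈ B) :
    y⁻¹ * (x * y * x⁻¹) ∈ C := by
  have := h (Subgroup.commutator_mem_commutator (A.inv_mem hy) hx)
  simpa [commutatorElement_def, mul_assoc] using this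

theorem conj_commutator_mem {Q : Subgroup Ω} (hn : S ≤ Subgroup.normalizer (Q : Set Ω)) {x y : Ω}
    (hy : y ∈ S) (hx : x ∈ Q) : y⁻¹ * (x * y * x⁻¹) ∈ Q := by
  have h1 := (Subgroup.mem_normalizer_iff''.1 (hn hy) x).1 hx
  simpa [mul_assoc] using Q.mul_mem h1 (Q.inv_mem hx)

/-- A strongly closed subgroup with a central series of weakly closed subgroups lies in every centric radical
subgroup. -/
theorem le_of_chain (hS : IsPGroup p S) {F : FusionSystem S} {Q : Subgroup Ω} (hQ : F.StronglyClosed Q) {n : ℕ}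
    {C : Fin (n + 1) → Subgroup Ω} (h0 : C 0 = ⊥) (hlast : C (Fin.last n) = Q) (hmono : Monotone C)
    (hcomm : ∀ i : Fin n, ⁅C i.succ, Q⁆ ≤ C i.castSucc) (hw : ∀ i : Fin n, F.WeaklyClosed (C i.castSucc))
    {P : Subgroup Ω} (hc : F.IsCentric P) (hr : F.IsRadical p P) : Q ≤ P := by
  have hP := hc.1
  have := finite_of_le hP
  have hPp := hS.to_le hP
  have hQn := stronglyClosed_le_normalizer hQ
  have hCQ : ∀ i, C i ≤ Q := fun i => hlast ▸ hmono (Fin.le_last i)
  suffices h : ∀ i, C i ≤ P from hlast ▸ h _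
  intro i
  induction i using Fin.induction with
  | zero => rw [h0]; exact bot_le
  | succ i ih =>
    refine le_of_normalizer_le hS hP ((hCQ _).trans hQ.1) ?_ fun x hx hxN => ?_
    · rcases Fin.eq_castSucc_or_eq_last i.succ with ⟨j, hj⟩ | hj
      · rw [hj]; exact weaklyClosed_le_normalizer (hw j)
      · rw [hj, hlast]; exact hQn
    refine mem_of_stabilizer hS hc hr (ι := Bool ⊕ {j : Fin n // j.succ ≤ i.castSucc})
      (Sum.elim (fun b => if b then Q else ⊤) fun j => C j.1.succ)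
      (Sum.elim (fun b => if b then C i.castSucc else Q) fun j => C j.1.castSucc) ?_ ?_ ?_
      (hQ.1 (hCQ _ hx)) hxN ?_
    · rintro (b | j) α hα y hy
      · cases b
        · exact Subgroup.mem_top _
        · exact stronglyClosed_autGroup_mem hQ hP hα y hy
      · rcases Fin.eq_castSucc_or_eq_last j.1.succ with ⟨k, hk⟩ | hk
        · have hle : C j.1.succ ≤ P := (hmono j.2).trans ih
          simp only [Sum.elim_inr] at hy ⊢
          rw [hk] at hy hle ⊢
          exact weaklyClosed_autGroup_mem (hw k) hle hP hα y hy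
        · simp only [Sum.elim_inr] at hy ⊢
          rw [hk, hlast] at hy ⊢
          exact stronglyClosed_autGroup_mem hQ hP hα y hy
    · rintro (b | j) α hα y hy
      · cases b
        · exact stronglyClosed_autGroup_mem hQ hP hα y hy
        · exact weaklyClosed_autGroup_mem (hw i) ih hP hα y hy
      · exact weaklyClosed_autGroup_mem (hw _)
          ((hmono (le_trans j.1.castSucc_lt_succ.le j.2)).trans ih) hP hα y hy
    · intro α hα hco hst
      have hfix : ∀ j : Fin (n + 1), j ≤ i.castSucc → ∀ y : P, (y : Ω) ∈ C j → α y = y := by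
        intro j
        induction j using Fin.induction with
        | zero =>
          intro _ y hy
          rw [h0, Subgroup.mem_bot] at hy
          rw [show y = 1 from Subtype.ext hy, map_one]
        | succ j ihj =>
          intro hj y hy
          exact fix_of_step hPp hco
            (ihj (le_trans j.castSucc_lt_succ.le hj) _ (by simpa using hst (Sum.inr ⟨j, hj⟩) y hy))
      have hQfix : ∀ y : P, (y : Ω) ∈ Q → α y = y := fun y hy =>
        fix_of_step hPp hco (hfix _ le_rfl _ (by simpa using hst (Sum.inl true) y hy))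
      refine MulEquiv.ext fun y => ?_
      exact fix_of_step hPp hco (hQfix _ (by simpa using hst (Sum.inl false) y (Subgroup.mem_top _)))
    · rintro (b | j) y hyP hy
      · cases b
        · exact conj_commutator_mem hQn (hP hyP) (hCQ _ hx)
        · have := commutator_conj_mem (le_of_eq_of_le (Subgroup.commutator_comm Q (C i.succ)) (hcomm i)) hy hx
          exact this
      · exact commutator_conj_mem (hcomm j.1) hy (hCQ _ hx)

/-! ### Normal subgroups -/

omit hp [Finite S] in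
/-- The system of maps extending to `Q`, for `Q` normal in `S`. -/
noncomputable def normSystemOn (F : FusionSystem S) {Q : Subgroup Ω} (hQ : Q ≤ S)
    (hn : S ≤ Subgroup.normalizer (Q : Set Ω)) : FusionSystem S where
  Hom P := F.normalizerHom Q P
  le_of_mem h := ⟨hom_le F h.1, fun x => hom_apply_mem F h.1 x⟩
  injective_of_mem h := F.injective_of_mem h.1
  conj_mem hP hg := (normSystem F hQ).conj_mem (fun _ hy => ⟨hP hy, hn (hP hy)⟩) ⟨hg, hn hg⟩
  comp_mem hφ hψ h := (normSystem F hQ).comp_mem hφ hψ h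
  inv_mem hφ := (normSystem F hQ).inv_mem hφ

theorem isNormal_of_autGroup_preserve (hS : IsPGroup p S) {F : FusionSystem S} (hF : F.IsSaturated p)
    {Q : Subgroup Ω}
    (h : ∀ P : Subgroup Ω, (P = S ∨ F.IsEssential p P) →
      (Q ≤ P ∧ ∀ α ∈ F.autGroup P, ∀ y : P, (y : Ω) ∈ Q → ((α y : P) : Ω) ∈ Q)) : F.IsNormal Q := by
  obtain ⟨hQS, hSinv⟩ := h S (Or.inl rfl)
  have hn : S ≤ Subgroup.normalizer (Q : Set Ω) := by
    intro g hg
    refine mem_normalizer_of_conj_mem g (fun x hx => ?_) fun x hx => ?_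
    · obtain ⟨a, ha, hae⟩ := exists_conjAut hg (Subgroup.le_normalizer hg : g ∈ Subgroup.normalizer (S : Set Ω))
      rw [← hae ⟨x, hQS hx⟩]
      exact hSinv a (autInducedBy_le_autGroup F le_rfl ha) _ hx
    · obtain ⟨a, ha, hae⟩ := exists_conjAut (S.inv_mem hg)
        (Subgroup.le_normalizer (S.inv_mem hg) : g⁻¹ ∈ Subgroup.normalizer (S : Set Ω))
      have := hSinv a (autInducedBy_le_autGroup F le_rfl ha) ⟨x, hQS hx⟩ hx
      rw [hae] at this
      simpa using this
  have hle : F ≤ normSystemOn F hQS hn := by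
    refine alperin hS hF fun P hP α hα => ?_
    obtain ⟨hQP, hinv⟩ := h P hP
    have hPS : P ≤ S := hP.elim (fun e => e.le) fun e => e.1.1
    have := finite_of_le hPS
    rw [mem_autGroup_iff _ hPS]
    have hφ := (mem_autGroup_iff F hPS α).1 hα
    refine ⟨hφ, fun y hy => ⟨hPS hy, hn (hPS hy)⟩, fun y => ⟨hPS (α y).2, hn (hPS (α y).2)⟩,
      _, restrict_mem F hφ (sup_le le_rfl hQP), fun y => rfl, ?_⟩
    rw [map_subgroupOf_eq_iff _ le_sup_right]
    refine ⟨fun y => hinv α hα ⟨y, hQP y.2⟩ y.2, fun y hy => ?_⟩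
    exact ⟨⟨_, hinv α⁻¹ (Subgroup.inv_mem _ hα) ⟨y, hQP hy⟩ hy⟩,
      congrArg Subtype.val (α.apply_symm_apply ⟨y, hQP hy⟩)⟩
  exact ⟨hQS, fun P φ hφ => (hle P hφ).2.2.2⟩

theorem isNormal_of_le (hS : IsPGroup p S) {F : FusionSystem S} (hF : F.IsSaturated p) {Q : Subgroup Ω}
    (hQ : F.StronglyClosed Q) (h : ∀ P : Subgroup Ω, F.IsEssential p P → Q ≤ P) : F.IsNormal Q := by
  refine isNormal_of_autGroup_preserve hS hF fun P hP => ⟨?_, fun α hα y hy => ?_⟩
  · rcases hP with rfl | hP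
    · exact hQ.1
    · exact h P hP
  · exact stronglyClosed_autGroup_mem hQ (hP.elim (fun e => e.le) fun e => e.1.1) hα y hy

theorem isNormal_of_le_centricRadical (hS : IsPGroup p S) {F : FusionSystem S} (hF : F.IsSaturated p)
    {Q : Subgroup Ω} (hQ : F.StronglyClosed Q)
    (h : ∀ P : Subgroup Ω, F.IsCentric P → F.IsRadical p P → Q ≤ P) : F.IsNormal Q :=
  isNormal_of_le hS hF hQ fun P hP => h P hP.1 (essential_radical hS hF hP)

theorem isNormal_of_chain (hS : IsPGroup p S) {F : FusionSystem S} (hF : F.IsSaturated p) {Q : Subgroup Ω}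
    (hQ : F.StronglyClosed Q) {n : ℕ} {C : Fin (n + 1) → Subgroup Ω} (h0 : C 0 = ⊥) (hlast : C (Fin.last n) = Q)
    (hmono : Monotone C) (hcomm : ∀ i : Fin n, ⁅C i.succ, Q⁆ ≤ C i.castSucc)
    (hw : ∀ i : Fin n, F.WeaklyClosed (C i.castSucc)) : F.IsNormal Q :=
  isNormal_of_le_centricRadical hS hF hQ fun _ => le_of_chain hS hQ h0 hlast hmono hcomm hw

/-- A strongly closed abelian subgroup is normal. -/
theorem isNormal_of_abelian (hS : IsPGroup p S) {F : FusionSystem S} (hF : F.IsSaturated p) {Q : Subgroup Ω}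
    (hQ : F.StronglyClosed Q) (hab : ∀ x ∈ Q, ∀ y ∈ Q, x * y = y * x) : F.IsNormal Q := by
  refine isNormal_of_chain hS hF hQ (C := ![⊥, Q]) rfl rfl ?_ (fun i => ?_) fun i => ?_
  · intro a b hab'
    fin_cases a <;> fin_cases b <;> simp_all
  · fin_cases i
    show ⁅Q, Q⁆ ≤ ⊥
    rw [le_bot_iff, Subgroup.commutator_eq_bot_iff_le_centralizer]
    exact fun x hx => Subgroup.mem_centralizer_iff.2 fun y hy => hab y hy x hx
  · fin_cases i
    exact stronglyClosed_weaklyClosed (stronglyClosed_bot F)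

omit hp [Finite S] in
/-- Maps inside a normal subgroup are restrictions of its automorphisms. -/
theorem exists_aut_of_isNormal {F : FusionSystem S} {R : Subgroup Ω} (h : F.IsNormal R) {P : Subgroup Ω}
    (hPR : P ≤ R) {φ : P →* Ω} (hφ : φ ∈ F.Hom P) :
    ∃ α ∈ F.autGroup R, ∀ x : P, ((α (Subgroup.inclusion hPR x) : R) : Ω) = φ x := by
  obtain ⟨ψ, hψ, h1, h2⟩ := h.2 P φ hφ
  obtain ⟨α, hα, hae⟩ := exists_autGroup_of_range F (restrict_mem F hψ (le_sup_right : R ≤ P ⊔ R))
    (by rw [range_restrict, h2])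
  exact ⟨α, hα, fun x => (hae _).trans (h1 x)⟩

omit hp [Finite S] in
theorem stronglyClosed_of_restrict {F : FusionSystem S} {R : Subgroup Ω} (hR : R ≤ S)
    (h : ∀ (P : Subgroup Ω) (hPR : P ≤ R) (φ : P →* Ω), φ ∈ F.Hom P →
      ∃ α ∈ F.autGroup R, ∀ x : P, ((α (Subgroup.inclusion hPR x) : R) : Ω) = φ x) : F.StronglyClosed R :=
  ⟨hR, fun P hP φ hφ x => by
    obtain ⟨α, -, he⟩ := h P hP φ hφ
    rw [← he x]
    exact (α _).2⟩

omit hp [Finite S] in
theorem stronglyClosed_char {F : FusionSystem S} {R : Subgroup Ω} (hR : R ≤ S)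
    (h : ∀ (P : Subgroup Ω) (hPR : P ≤ R) (φ : P →* Ω), φ ∈ F.Hom P →
      ∃ α ∈ F.autGroup R, ∀ x : P, ((α (Subgroup.inclusion hPR x) : R) : Ω) = φ x)
    (K : Subgroup R) (hK : ∀ (α : MulAut R), ∀ x ∈ K, α x ∈ K) : F.StronglyClosed (K.map R.subtype) := by
  refine ⟨(Subgroup.map_subtype_le K).trans hR, fun P hP φ hφ x => ?_⟩
  have hPR := hP.trans (Subgroup.map_subtype_le K)
  obtain ⟨α, -, he⟩ := h P hPR φ hφ
  obtain ⟨k, hk, hkx⟩ := hP x.2
  rw [← he x]
  exact ⟨_, hK α k hk, congrArg (fun z : R => ((α z : R) : Ω)) (Subtype.ext hkx)⟩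

theorem upperCentralSeries_apply_mem {G : Type*} [Group G] (α : MulAut G) (n : ℕ) :
    ∀ x ∈ Subgroup.upperCentralSeries G n, α x ∈ Subgroup.upperCentralSeries G n := by
  induction n with
  | zero =>
    intro x hx
    rw [Subgroup.upperCentralSeries_zero, Subgroup.mem_bot] at hx ⊢
    rw [hx, map_one]
  | succ n ih =>
    intro x hx
    rw [Subgroup.mem_upperCentralSeries_succ_iff] at hx ⊢
    intro y
    obtain ⟨z, rfl⟩ := α.surjective y
    have := ih _ (hx z)
    simpa [map_commutatorElement] using this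

/-- A subgroup in which every map is a restriction of an automorphism has its upper central series strongly
closed, and is normal. -/
theorem exists_central_series {F : FusionSystem S} (hS : IsPGroup p S) {R : Subgroup Ω} (hR : R ≤ S)
    (h : ∀ (P : Subgroup Ω) (hPR : P ≤ R) (φ : P →* Ω), φ ∈ F.Hom P →
      ∃ α ∈ F.autGroup R, ∀ x : P, ((α (Subgroup.inclusion hPR x) : R) : Ω) = φ x) :
    ∃ (n : ℕ) (C : Fin (n + 1) → Subgroup Ω), C 0 = ⊥ ∧ C (Fin.last n) = R ∧ Monotone C ∧
      (∀ i : Fin n, ⁅C i.succ, R⁆ ≤ C i.castSucc) ∧ ∀ i, F.StronglyClosed (C i) := by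
  have := finite_of_le hR
  obtain ⟨n, hn⟩ := ((hS.to_le hR).isNilpotent).nilpotent
  refine ⟨n, fun i => (Subgroup.upperCentralSeries R i).map R.subtype, ?_, ?_, ?_, ?_, fun i => ?_⟩
  · simp
  · simp [hn]
    exact (MonoidHom.range_eq_map R.subtype).symm.trans R.range_subtype
  · exact fun a b hab => Subgroup.map_mono (Subgroup.upperCentralSeries_mono R hab)
  · intro i
    rw [Subgroup.commutator_le]
    rintro _ ⟨a, ha, rfl⟩ b hb
    refine ⟨⁅a, ⟨b, hb⟩⁆, ?_, by simp [commutatorElement_def]⟩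
    have ha' : a ∈ Subgroup.upperCentralSeries R ((i : ℕ) + 1) := by simpa using ha
    exact Subgroup.mem_upperCentralSeries_succ_iff.1 ha' ⟨b, hb⟩
  · exact stronglyClosed_char hR h _ fun α => upperCentralSeries_apply_mem α _

theorem isNormal_iff_restrict (hS : IsPGroup p S) {F : FusionSystem S} (hF : F.IsSaturated p) {R : Subgroup Ω}
    (hR : R ≤ S) : F.IsNormal R ↔ ∀ (P : Subgroup Ω) (hPR : P ≤ R) (φ : P →* Ω), φ ∈ F.Hom P →
      ∃ α ∈ F.autGroup R, ∀ x : P, ((α (Subgroup.inclusion hPR x) : R) : Ω) = φ x := by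
  refine ⟨fun h P hPR φ hφ => exists_aut_of_isNormal h hPR hφ, fun h => ?_⟩
  obtain ⟨n, C, h0, hl, hm, hc, hsc⟩ := exists_central_series hS hR h
  exact isNormal_of_chain hS hF (stronglyClosed_of_restrict hR h) h0 hl hm hc
    fun i => stronglyClosed_weaklyClosed (hsc _)

theorem isNormal_exists_series (hS : IsPGroup p S) {F : FusionSystem S} {Q : Subgroup Ω} (h : F.IsNormal Q) :
    ∃ (n : ℕ) (C : Fin (n + 1) → Subgroup Ω), C 0 = ⊥ ∧ C (Fin.last n) = Q ∧ Monotone C ∧
      (∀ i : Fin n, ⁅C i.succ, Q⁆ ≤ C i.castSucc) ∧ ∀ i, F.StronglyClosed (C i) :=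
  exists_central_series hS h.1 fun _ hPR _ hφ => exists_aut_of_isNormal h hPR hφ

/-- A normal subgroup lies in every centric radical subgroup. -/
theorem isNormal_le_centricRadical (hS : IsPGroup p S) {F : FusionSystem S} {Q : Subgroup Ω} (h : F.IsNormal Q)
    {P : Subgroup Ω} (hc : F.IsCentric P) (hr : F.IsRadical p P) : Q ≤ P := by
  obtain ⟨n, C, h0, hl, hm, hcomm, hsc⟩ := isNormal_exists_series hS h
  exact le_of_chain hS (isNormal_stronglyClosed h) h0 hl hm hcomm (fun i => stronglyClosed_weaklyClosed (hsc _))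
    hc hr

/-! ### Central subgroups -/

theorem isCentral_iff (hS : IsPGroup p S) {F : FusionSystem S} (hF : F.IsSaturated p) (Q : Subgroup Ω) :
    F.IsCentral Q ↔ (Q ≤ S ∧ ∀ x ∈ Q, ∀ y : Ω, F.IsConjElt x y → y = x) := by
  constructor
  · refine fun h => ⟨h.1, fun x hx y hy => ?_⟩
    obtain ⟨φ, hφ, rfl⟩ := hy
    obtain ⟨ψ, -, h1, h2⟩ := isCentral_extend h hφ
    rw [← h1 x (Subgroup.mem_zpowers x) (Subgroup.mem_sup_right hx)]
    exact h2 x _ hx
  · rintro ⟨hQS, hfix⟩
    have hfix' : ∀ (P : Subgroup Ω) (φ : P →* Ω), φ ∈ F.Hom P → ∀ x : P, (x : Ω) ∈ Q → φ x = x := by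
      intro P φ hφ x hx
      refine hfix x hx _ ⟨φ.comp (Subgroup.inclusion (Subgroup.zpowers_le.2 x.2)),
        restrict_mem F hφ _, rfl⟩
    have hcent : Q ≤ Subgroup.centralizer (S : Set Ω) := fun x hx => by
      rw [Subgroup.mem_centralizer_iff]
      intro g hg
      exact mul_inv_eq_iff_eq_mul.1 (hfix' S (conjHom S g) (F.conj_mem le_rfl hg) ⟨x, hQS hx⟩ hx)
    have hnor : F.IsNormal Q := by
      refine isNormal_of_autGroup_preserve hS hF fun P hP => ⟨?_, fun α hα y hy => ?_⟩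
      · rcases hP with rfl | hP
        · exact hQS
        · exact fun x hx => centralizerIn_le_of_centric hP.1
            ⟨hQS hx, Subgroup.mem_centralizer_iff.2 fun y hy => Subgroup.mem_centralizer_iff.1 (hcent hx) y (hP.1.1 hy)⟩
      · have hPS : P ≤ S := hP.elim (fun e => e.le) fun e => e.1.1
        have : ((α y : P) : Ω) = y := hfix' P _ ((mem_autGroup_iff F hPS α).1 hα) y hy
        rw [this]; exact hy
    refine ⟨hQS, fun P φ hφ => ?_⟩
    obtain ⟨ψ, hψ, h1, -⟩ := hnor.2 P φ hφ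
    exact ⟨ψ, hψ, h1, fun x => hfix' _ ψ hψ _ x.2⟩

/-- The kernel used for odd `p`: an automorphism of `p'`-order fixing the elements of order `p` of an invariant
subgroup fixes it. -/
theorem fix_of_omega (hodd : p ≠ 2) {R : Subgroup Ω} [Finite R] (hR : IsPGroup p R) {α : MulAut R}
    (hα : (orderOf α).Coprime p) (M : Subgroup R) (hM : ∀ y ∈ M, α y ∈ M)
    (hfix : ∀ y ∈ M, y ^ p = 1 → α y = y) : ∀ y ∈ M, α y = y := by
  haveI : Finite (R ⋊[MonoidHom.id (MulAut R)] MulAut R) :=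
    Finite.of_equiv (R × MulAut R) SemidirectProduct.equivProd.symm
  set x : R ⋊[MonoidHom.id (MulAut R)] MulAut R := SemidirectProduct.inr α
  set Q := M.map (SemidirectProduct.inl : R →* R ⋊[MonoidHom.id (MulAut R)] MulAut R) with hQ
  have hconj : ∀ y : R, x * SemidirectProduct.inl y * x⁻¹ = SemidirectProduct.inl (α y) :=
    fun y => by
      show SemidirectProduct.inr α * SemidirectProduct.inl y * (SemidirectProduct.inr α)⁻¹ = _
      rw [← map_inv, ← SemidirectProduct.inl_aut]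
      rfl
  have hxN : x ∈ Subgroup.normalizer (Q : Set (R ⋊[MonoidHom.id (MulAut R)] MulAut R)) := by
    have hmap : M.map α.toMonoidHom = M := Subgroup.eq_of_le_of_card_ge
      (by rintro _ ⟨y, hy, rfl⟩; exact hM y hy)
      (Subgroup.card_map_of_injective α.injective).ge
    refine mem_normalizer_of_conj_mem x ?_ ?_
    · rintro _ ⟨y, hy, rfl⟩
      exact ⟨α y, hM y hy, (hconj y).symm⟩
    · rintro _ ⟨y, hy, rfl⟩
      obtain ⟨z, hz, rfl⟩ := hmap.ge hy
      refine ⟨z, hz, ?_⟩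
      show SemidirectProduct.inl z = x⁻¹ * SemidirectProduct.inl (α z) * x
      rw [← hconj]; group
  have hord : (orderOf x).Coprime p := by rwa [orderOf_injective _ SemidirectProduct.inr_injective α]
  intro y hy
  have h := Cfsg.Agent.LEOmega.commute_of_omega hodd hord _ Q le_rfl ((hR.to_subgroup M).map _) hxN
    (by
      rintro _ ⟨z, hz, rfl⟩ hzp
      rw [← map_pow, map_eq_one_iff _ SemidirectProduct.inl_injective] at hzp
      rw [← mul_inv_eq_iff_eq_mul, hconj, hfix z hz hzp])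
    _ ⟨y, hy, rfl⟩
  rw [← mul_inv_eq_iff_eq_mul, hconj] at h
  exact SemidirectProduct.inl_injective h

end Cfsg.Agent.FusionSys
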