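import Cfsg.Agent.Lib.Fusion.StrongClosedOdd
import Cfsg.Agent.Lib.MetacyclicOdd.Arith
import Cfsg.Agent.Lib.Transfer.Fusion
import Cfsg.Prelude.Def_OddOrderLocal
import Cfsg.Agent.S5236

/-!
# Strongly closed metacyclic subgroups are normal for odd `p`
-/

set_option autoImplicit false

namespace Cfsg.Agent.FusionSys

open Cfsg Cfsg.FusionSystem
open scoped commutatorElement

section group

variable {G : Type*} [Group G] [Finite G] {p : ℕ} [hp : Fact p.Prime]

theorem card_pow_eq_one_cyclic {Q : Type*} [Group Q] [Finite Q] [IsCyclic Q] :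
    Nat.card {q : Q // q ^ p = 1} ≤ p := by
  classical
  letI := Fintype.ofFinite Q
  rw [Nat.card_eq_fintype_card, Fintype.card_subtype]
  exact IsCyclic.card_pow_eq_one_le hp.out.pos

/-- In a metacyclic `p`-group, `p` odd, the elements killed by `p` are closed under products. -/
theorem metacyclic_mul_pow (hp2 : p ≠ 2) (hG : IsPGroup p G) (hm : Cfsg.IsMetacyclic G) {x y : G} (hx : x ^ p = 1)
    (hy : y ^ p = 1) : (x * y) ^ p = 1 := by
  classical
  obtain ⟨N, hN, hNc, hQ⟩ := hm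
  have key : ∀ x y : G, x ∉ N → x ^ p = 1 → y ^ p = 1 → (x * y) ^ p = 1 := by
    intro x y hxN hx hy
    obtain ⟨⟨a, haN⟩, hgen⟩ := IsCyclic.exists_generator (α := N)
    -- the coordinates of `y`
    set q : G ⧸ N := QuotientGroup.mk x with hq
    have hq1 : q ≠ 1 := by rwa [hq, ne_eq, QuotientGroup.eq_one_iff]
    have hqp : q ^ p = 1 := by rw [hq, ← QuotientGroup.mk_pow, hx, QuotientGroup.mk_one]
    have hpow : ∀ r : G ⧸ N, r ^ p = 1 → r ∈ Subgroup.zpowers q := by
      intro r hr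
      let ι : Subgroup.zpowers q → {r : G ⧸ N // r ^ p = 1} := fun s => ⟨s, by
        obtain ⟨k, hk⟩ := s.2
        rw [← show q ^ k = (s : G ⧸ N) from hk, ← zpow_natCast, ← zpow_mul, mul_comm, zpow_mul, zpow_natCast, hqp,
          one_zpow]⟩
      have hι : Function.Injective ι := fun s t h =>
        Subtype.ext (congrArg (fun z : {r : G ⧸ N // r ^ p = 1} => (z : G ⧸ N)) h)
      have hb := (Nat.bijective_iff_injective_and_card ι).2 ⟨hι, le_antisymm (Nat.card_le_card_of_injective ι hι)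
        ((card_pow_eq_one_cyclic (p := p) (Q := G ⧸ N)).trans
          (by rw [Nat.card_zpowers, orderOf_eq_prime hqp hq1]))⟩
      obtain ⟨s, hs⟩ := hb.2 ⟨r, hr⟩
      rw [← show (s : G ⧸ N) = r from congrArg Subtype.val hs]
      exact s.2
    obtain ⟨i, hi⟩ := mem_powers_iff_mem_zpowers.2 (hpow (QuotientGroup.mk y)
      (by rw [← QuotientGroup.mk_pow, hy, QuotientGroup.mk_one]))
    have hn : (x ^ i)⁻¹ * y ∈ N := by
      rw [← QuotientGroup.eq, QuotientGroup.mk_pow]; exact hi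
    obtain ⟨j, hj⟩ := hgen ⟨_, hn⟩
    have hyij : y = x ^ i * a ^ j := by
      have : a ^ j = (x ^ i)⁻¹ * y := congrArg Subtype.val hj
      rw [this, mul_inv_cancel_left]
    -- the action of `x`
    obtain ⟨k, hk⟩ := hgen ⟨x⁻¹ * a * x, by simpa using hN.conj_mem a haN x⁻¹⟩
    have hk' : x⁻¹ * a * x = a ^ k := (congrArg Subtype.val hk).symm
    have hconj : ∀ l : ℤ, x⁻¹ * a ^ l * x = a ^ (k * l) := fun l => by
      rw [zpow_mul, ← hk']
      simpa using (conj_zpow (i := l) (a := x⁻¹) (b := a)).symm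
    have hiter : ∀ r : ℕ, (x ^ r)⁻¹ * a * x ^ r = a ^ (k ^ r) := by
      intro r
      induction r with
      | zero => simp
      | succ r ih =>
        rw [pow_succ x, mul_inv_rev, pow_succ' k, ← hconj, ← ih]
        group
    obtain ⟨m, hm⟩ := IsPGroup.iff_orderOf.1 hG a
    have hkp : (p : ℤ) ^ m ∣ (k - 1) * p := by
      rcases Nat.eq_zero_or_pos m with rfl | hm0
      · simp
      have h1 : a ^ (k ^ p - 1) = 1 := by
        rw [zpow_sub, zpow_one, mul_inv_eq_one, ← hiter p, hx]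
        simp
      have h2 : (p : ℤ) ^ m ∣ k ^ p - 1 := by
        have := orderOf_dvd_iff_zpow_eq_one.2 h1
        rw [hm] at this
        exact_mod_cast this
      have h3 : (p : ℤ) ∣ k - 1 := by
        have h4 : (p : ℤ) ∣ k ^ p - 1 := (dvd_pow_self _ hm0.ne').trans h2
        rw [← ZMod.intCast_zmod_eq_zero_iff_dvd] at h4 ⊢
        push_cast at h4 ⊢
        rwa [ZMod.pow_card] at h4
      obtain ⟨e, he⟩ := MetaOdd.geom_p hp2 h3
      have h5 : k ^ p - 1 = (k - 1) * p * (1 + p * e) := by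
        rw [← geom_sum_mul k p, show ∑ s ∈ Finset.range p, k ^ s = MetaOdd.geom k p from rfl, he]
        ring
      rw [h5] at h2
      exact (IsCoprime.pow_left (show IsCoprime (p : ℤ) (1 + p * e) from ⟨-e, 1, by ring⟩)).dvd_of_dvd_mul_right h2
    set c := a ^ (k - 1) with hc
    have hcp : c ^ p = 1 := by
      rw [hc, ← zpow_natCast, ← zpow_mul]
      refine orderOf_dvd_iff_zpow_eq_one.1 ?_
      rw [hm]
      exact_mod_cast hkp
    have hk1 : a ^ ((k - 1) * (k - 1)) = 1 := by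
      refine orderOf_dvd_iff_zpow_eq_one.1 ?_
      rw [hm]
      rcases Nat.eq_zero_or_pos m with rfl | hm0
      · simp
      push_cast
      have h3 : (p : ℤ) ∣ k - 1 := by
        have h1 : a ^ (k ^ p - 1) = 1 := by
          rw [zpow_sub, zpow_one, mul_inv_eq_one, ← hiter p, hx]
          simp
        have h4 : (p : ℤ) ∣ k ^ p - 1 := (dvd_pow_self _ hm0.ne').trans (by
          have := orderOf_dvd_iff_zpow_eq_one.2 h1
          rw [hm] at this
          exact_mod_cast this)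
        rw [← ZMod.intCast_zmod_eq_zero_iff_dvd] at h4 ⊢
        push_cast at h4 ⊢
        rwa [ZMod.pow_card] at h4
      exact hkp.trans (mul_dvd_mul_left _ h3)
    have hcx : Commute c x := by
      have h1 : x⁻¹ * c * x = c := by
        rw [hc, hconj, show k * (k - 1) = (k - 1) + (k - 1) * (k - 1) by ring, zpow_add, hk1, mul_one]
      show c * x = x * c
      conv_rhs => rw [← h1]
      group
    have hca : Commute c a := ((Commute.refl a).zpow_left _)
    set z := c ^ j with hz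
    have hzx : Commute z x := hcx.zpow_left j
    have hzy : Commute z y := by
      rw [hyij]
      exact (hzx.pow_right i).mul_right ((hca.zpow_left j).zpow_right j)
    have hba : y * x = x * y * z := by
      have h1 : a ^ j * x = x * a ^ (k * j) := by rw [← hconj]; group
      rw [hz, hc, ← zpow_mul, hyij, mul_assoc (x ^ i), h1, ← mul_assoc, ← pow_succ, mul_assoc x, mul_assoc,
        ← zpow_add, ← mul_assoc, ← pow_succ']
      congr 2
      ring
    obtain ⟨d, hd⟩ := hp.out.dvd_choose_self two_ne_zero (lt_of_le_of_ne hp.out.two_le (Ne.symm hp2))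
    rw [LEOmega.mul_pow_class_two hba hzx hzy, hx, hy, one_mul, one_mul, hd, pow_mul, hz, ← zpow_natCast (c ^ j),
      ← zpow_mul, mul_comm j, zpow_mul, zpow_natCast, hcp, one_zpow, one_pow]
  by_cases hxN : x ∈ N
  · by_cases hyN : y ∈ N
    · letI : CommGroup N := IsCyclic.commGroup
      have h : Commute (⟨x, hxN⟩ : N) ⟨y, hyN⟩ := mul_comm _ _
      rw [Commute.mul_pow (congrArg Subtype.val h), hx, hy, one_mul]
    · rw [show x * y = y * (y⁻¹ * x * y) by group]
      exact key y _ hyN hy (by simpa [hx] using (conj_pow (i := p) (a := y⁻¹) (b := x)))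
  · exact key x y hxN hx hy

/-- The elements killed by `p` form a subgroup of order at most `p²`. -/
theorem exists_omega_metacyclic (hp2 : p ≠ 2) (hG : IsPGroup p G) (hm : Cfsg.IsMetacyclic G) :
    ∃ U : Subgroup G, (∀ x, x ∈ U ↔ x ^ p = 1) ∧ Nat.card U ≤ p ^ 2 := by
  let U : Subgroup G :=
    { carrier := {x | x ^ p = 1}
      one_mem' := one_pow p
      mul_mem' := fun ha hb => metacyclic_mul_pow hp2 hG hm ha hb
      inv_mem' := fun {x} (hx : x ^ p = 1) => by show x⁻¹ ^ p = 1; rw [inv_pow, hx, inv_one] }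
  refine ⟨U, fun x => Iff.rfl, ?_⟩
  obtain ⟨N, hN, hNc, hQ⟩ := hm
  let f : U →* G ⧸ N := (QuotientGroup.mk' N).comp U.subtype
  have h1 : Nat.card f.ker ≤ p := by
    refine le_trans (Nat.card_le_card_of_injective (fun u : f.ker => (⟨⟨((u : U) : G), ?_⟩, ?_⟩ : {n : N // n ^ p = 1})) ?_)
      card_pow_eq_one_cyclic
    · exact (QuotientGroup.eq_one_iff _).1 (MonoidHom.mem_ker.1 u.2)
    · exact Subtype.ext ((u : U).2)
    · exact fun u v h => Subtype.ext (Subtype.ext (congrArg (fun w : {n : N // n ^ p = 1} => ((w : N) : G)) h))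
  have h2 : Nat.card f.range ≤ p := by
    refine le_trans (Nat.card_le_card_of_injective (fun u : f.range => (⟨(u : G ⧸ N), ?_⟩ : {r : G ⧸ N // r ^ p = 1})) ?_)
      card_pow_eq_one_cyclic
    · obtain ⟨v, hv⟩ := u.2
      rw [← hv]
      exact (map_pow f v p).symm.trans (by rw [show v ^ p = 1 from Subtype.ext v.2, map_one])
    · exact fun u v h => Subtype.ext (congrArg (fun w : {r : G ⧸ N // r ^ p = 1} => (w : G ⧸ N)) h)
  rw [← f.ker.card_mul_index, Subgroup.index_ker, sq]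
  exact Nat.mul_le_mul h1 h2

end group

variable {Ω : Type*} [Group Ω] {S : Subgroup Ω} [Finite S] {p : ℕ} [hp : Fact p.Prime] {F : FusionSystem S}

theorem metacyclic_normal (hS : IsPGroup p S) (hF : F.IsSaturated p) (hp2 : p ≠ 2) {P : Subgroup Ω}
    (hP : F.StronglyClosed P) (hm : Cfsg.IsMetacyclic P) : F.IsNormal P := by
  classical
  have hPfin := finite_of_le (S := S) hP.1
  have hPp : IsPGroup p P := hS.to_le hP.1
  obtain ⟨U, hU, hUcard⟩ := exists_omega_metacyclic hp2 hPp hm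
  set R : Subgroup Ω := U.map P.subtype with hRdef
  have hRP : R ≤ P := Subgroup.map_subtype_le U
  have hR : ∀ x, x ∈ R ↔ x ∈ P ∧ x ^ p = 1 := fun x => by
    constructor
    · rintro ⟨u, hu, rfl⟩; exact ⟨u.2, congrArg Subtype.val ((hU u).1 hu)⟩
    · rintro ⟨hx, hxp⟩; exact ⟨⟨x, hx⟩, (hU _).2 (Subtype.ext hxp), rfl⟩
  have hRfin := finite_of_le (S := S) (hRP.trans hP.1)
  have hRcard : Nat.card R ≤ p ^ 2 := by rwa [hRdef, Subgroup.card_map_of_injective P.subtype_injective]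
  have hRpg : IsPGroup p R := hPp.to_le hRP
  obtain ⟨e, he⟩ := IsPGroup.iff_card.1 hRpg
  have he2 : e ≤ 2 := (Nat.pow_le_pow_iff_right hp.out.one_lt).1 (he ▸ hRcard)
  have hab : ∀ a ∈ R, ∀ b ∈ R, a * b = b * a := by
    intro a ha b hb
    interval_cases e
    · have := Subgroup.eq_bot_of_card_eq R (he.trans (pow_zero p))
      rw [this, Subgroup.mem_bot] at ha hb
      rw [ha, hb]
    · haveI : IsCyclic R := isCyclic_of_prime_card (he.trans (pow_one p))
      letI : CommGroup R := IsCyclic.commGroup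
      exact congrArg Subtype.val (mul_comm (⟨a, ha⟩ : R) ⟨b, hb⟩)
    · letI : CommGroup R := IsPGroup.commGroupOfCardEqPrimeSq he
      exact congrArg Subtype.val (mul_comm (⟨a, ha⟩ : R) ⟨b, hb⟩)
  have hexp : ∀ r ∈ R, r ^ p = 1 := fun r hr => ((hR r).1 hr).2
  have hRsc : F.StronglyClosed R := by
    refine ⟨hRP.trans hP.1, fun Q hQ φ hφ u => (hR _).2 ⟨stronglyClosed_apply_mem hP hφ u (hRP (hQ u.2)), ?_⟩⟩
    rw [← map_pow, show u ^ p = 1 from Subtype.ext (hexp _ (hQ u.2)), map_one]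
  have hΩ : Cfsg.omegaOne p P = R := le_antisymm ((Subgroup.closure_le _).2 fun x hx => (hR x).2 hx)
    fun x hx => Subgroup.subset_closure ((hR x).1 hx)
  set K : Subgroup Ω := R ⊓ Subgroup.centralizer (P : Set Ω) with hKdef
  have hRn : P ≤ Subgroup.normalizer (R : Set Ω) := hP.1.trans (stronglyClosed_le_normalizer hRsc)
  suffices hK : F.StronglyClosed K ∧ ⁅R, P⁆ ≤ K by
    refine (Cfsg.Agent.S5236.result p hS F hF hp2 P hP).2 ⟨2, ![⊥, K, R], rfl, hΩ.symm, ?_, fun i => ?_, fun i => ?_⟩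
    · refine Fin.monotone_iff_le_succ.2 fun i => ?_
      fin_cases i
      · exact bot_le
      · exact inf_le_left
    · fin_cases i
      · exact stronglyClosed_bot F
      · exact hK.1
      · exact hRsc
    · fin_cases i
      · show ⁅K, P⁆ ≤ ⊥
        rw [le_bot_iff, Subgroup.commutator_eq_bot_iff_le_centralizer]
        exact inf_le_right
      · exact hK.2
  by_cases hRc : R ≤ Subgroup.centralizer (P : Set Ω)
  · refine ⟨by rwa [hKdef, inf_eq_left.2 hRc], ?_⟩
    rw [(Subgroup.commutator_eq_bot_iff_le_centralizer).2 hRc]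
    exact bot_le
  -- `T = [R, P]` has order `p` and is central in `P`
  set T : Subgroup Ω := ⁅R, P⁆ with hTdef
  have hTR : T ≤ R := by
    rw [hTdef, Subgroup.commutator_le]
    intro a ha b hb
    rw [commutatorElement_def, show a * b * a⁻¹ * b⁻¹ = a * (b * a⁻¹ * b⁻¹) by group]
    exact R.mul_mem ha ((Subgroup.mem_normalizer_iff.1 (hRn hb) _).1 (R.inv_mem ha))
  haveI : Group.IsNilpotent P := hPp.isNilpotent
  have hstep : ∀ D : Subgroup Ω, D ≤ P → D ≠ ⊥ → ¬ D ≤ ⁅D, P⁆ := fun D hD hD0 h => hD0 (le_bot_iff.1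
    (Cfsg.Agent.Fusion.le_of_le_commutator_sup (R := ⊥) inferInstance hD bot_le
      (Subgroup.normalizer_eq_top_iff.2 (inferInstance : (⊥ : Subgroup Ω).Normal) ▸ le_top) (by simpa using h)))
  have hR0 : R ≠ ⊥ := fun h => hRc (h ▸ bot_le)
  have hTlt : T < R := lt_of_le_of_ne hTR fun h => hstep R hRP hR0 h.ge
  have hT0 : T ≠ ⊥ := fun h => hRc ((Subgroup.commutator_eq_bot_iff_le_centralizer).1 h)
  have hTfin := finite_of_le (S := S) (hTR.trans (hRP.trans hP.1))
  have small : ∀ D : Subgroup Ω, D < R → D ≠ ⊥ → Nat.card D = p := by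
    intro D hD hD0
    haveI := finite_of_le (S := S) (hD.le.trans (hRP.trans hP.1))
    obtain ⟨d, hd⟩ := IsPGroup.iff_card.1 (hRpg.to_le hD.le)
    have hd0 : d ≠ 0 := fun h => hD0 (Subgroup.eq_bot_of_card_eq D (by rw [hd, h, pow_zero]))
    have hde : d < e := by
      refine lt_of_not_ge fun h => hD.ne (Subgroup.eq_of_le_of_card_ge hD.le ?_)
      rw [hd, he]
      exact Nat.pow_le_pow_right hp.out.pos h
    rw [hd, show d = 1 by omega, pow_one]
  have hTcard := small T hTlt hT0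
  have hTn : ⁅T, P⁆ ≤ T := (Subgroup.commutator_mono hTR le_rfl).trans le_rfl
  have hTc : ⁅T, P⁆ = ⊥ := by
    by_contra h
    refine hstep T (hTR.trans hRP) hT0 (Subgroup.eq_of_le_of_card_ge hTn ?_).ge
    haveI := finite_of_le (S := S) (hTn.trans (hTR.trans (hRP.trans hP.1)))
    obtain ⟨d, hd⟩ := IsPGroup.iff_card.1 ((hRpg.to_le hTR).to_le hTn)
    have hd0 : d ≠ 0 := fun h0 => h (Subgroup.eq_bot_of_card_eq _ (by rw [hd, h0, pow_zero]))
    rw [hTcard, hd]
    exact Nat.le_self_pow hd0 p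
  have hTK : T ≤ K := le_inf hTR (Subgroup.commutator_eq_bot_iff_le_centralizer.1 hTc)
  have hKlt : K < R := lt_of_le_of_ne inf_le_left fun h => hRc (inf_eq_left.1 h)
  have hKcard := small K hKlt fun h => hT0 (le_bot_iff.1 (h ▸ hTK))
  refine ⟨⟨inf_le_left.trans (hRP.trans hP.1), fun Q hQ φ hφ u => ?_⟩, hTK⟩
  have hKR : K ≤ R := inf_le_left
  haveI : IsCyclic K := isCyclic_of_prime_card hKcard
  have hQR : Q ≤ R := hQ.trans hKR
  obtain ⟨α, hα, hαe⟩ := exists_aut_of_isNormal (isNormal_of_abelian hS hF hRsc hab) hQR hφ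
  rw [← hαe u]
  suffices hgen : ∀ w : R, (w : Ω) ∈ K → ((α w : R) : Ω) ∈ K from hgen _ (hQ u.2)
  obtain ⟨⟨z, hzK⟩, hzgen⟩ := IsCyclic.exists_generator (α := K)
  have hKz : ∀ c ∈ K, c ∈ Subgroup.zpowers z := fun c hc => by
    obtain ⟨k, hk⟩ := hzgen ⟨c, hc⟩
    exact ⟨k, congrArg Subtype.val hk⟩
  suffices hz : ((α ⟨z, hKR hzK⟩ : R) : Ω) ∈ K by
    intro w hw
    obtain ⟨k, hk⟩ := hKz _ hw
    rw [show w = (⟨z, hKR hzK⟩ : R) ^ k from Subtype.ext ((SubgroupClass.coe_zpow _ k).trans hk).symm, map_zpow,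
      SubgroupClass.coe_zpow]
    exact K.zpow_mem hz k
  by_contra hy
  obtain ⟨x, hx, r0, hr0, hxr0⟩ : ∃ x ∈ P, ∃ r ∈ R, x * r ≠ r * x := by
    by_contra hall
    simp only [not_exists, not_and, not_not] at hall
    exact hRc fun r hr => Subgroup.mem_centralizer_iff.2 fun x hx => hall x hx r hr
  -- `C_R(x) = K`
  have hCx : ∀ r ∈ R, x * r = r * x → r ∈ K := by
    intro r hr hxr
    by_contra hrK
    have hD : R ⊓ Subgroup.centralizer {x} < R := lt_of_le_of_ne inf_le_left fun h => by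
      exact hxr0 (Subgroup.mem_centralizer_iff.1 ((h.ge hr0).2) x rfl)
    have hKD : K < R ⊓ Subgroup.centralizer {x} := by
      refine lt_of_le_not_ge (le_inf inf_le_left fun c hc => Subgroup.mem_centralizer_iff.2 fun g hg => ?_) fun h => ?_
      · rw [Set.mem_singleton_iff.1 hg]; exact Subgroup.mem_centralizer_iff.1 hc.2 x hx
      · exact hrK (h ⟨hr, Subgroup.mem_centralizer_iff.2 fun g hg => by rw [Set.mem_singleton_iff.1 hg]; exact hxr⟩)
    have hDfin := finite_of_le (S := S) ((inf_le_left : R ⊓ Subgroup.centralizer {x} ≤ R).trans (hRP.trans hP.1))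
    have h1 := small _ hD (fun h => not_lt_bot (h ▸ hKD))
    exact hKD.ne (Subgroup.eq_of_le_of_card_ge hKD.le (by rw [hKcard, h1]))
  have hz1 : z ≠ 1 := fun h => hp.out.one_lt.ne' (by
    rw [← hKcard]
    refine Subgroup.card_eq_one.2 ((Subgroup.eq_bot_iff_forall K).2 fun c hc => ?_)
    obtain ⟨k, hk⟩ := hKz c hc
    rw [← hk]; simp [h])
  have hxz : x * z * x⁻¹ = z := mul_inv_eq_iff_eq_mul.2 (Subgroup.mem_centralizer_iff.1 hzK.2 x hx)
  obtain ⟨P0, ψ, x0, hx0, hz0, hP0, hψ, hfix, hinv, hact⟩ := exists_torus_map hS hF hp2 hP hRsc hRP hab hexp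
    (hKR hzK) hx hxz (fun r hr => hKz _ (hTK (by
      have h := Subgroup.commutator_mem_commutator (R.inv_mem hr) hx
      simpa [commutatorElement_def, mul_assoc] using h)))
    hα (fun h => hy (hCx _ (α _).2 (mul_inv_eq_iff_eq_mul.1 h)))
    (fun h => by
      have hw := hCx _ (α⁻¹ ⟨z, hKR hzK⟩).2 (mul_inv_eq_iff_eq_mul.1 h)
      obtain ⟨k, hk⟩ := hKz _ hw
      have h2 := congrArg α (show (⟨z, hKR hzK⟩ : R) ^ k = α⁻¹ ⟨z, hKR hzK⟩ from
        Subtype.ext ((SubgroupClass.coe_zpow _ k).trans hk))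
      rw [map_zpow, show α (α⁻¹ (⟨z, hKR hzK⟩ : R)) = ⟨z, hKR hzK⟩ from α.apply_symm_apply _] at h2
      have hyz : ((α ⟨z, hKR hzK⟩ : R) : Ω) ^ k = z := by rw [← SubgroupClass.coe_zpow, h2]
      have hne : ((α ⟨z, hKR hzK⟩ : R) : Ω) ^ k ≠ 1 := by rw [hyz]; exact hz1
      have hy1 : ((α ⟨z, hKR hzK⟩ : R) : Ω) ≠ 1 := fun e0 => hne (by rw [e0, one_zpow])
      have hyord := orderOf_eq_prime (hexp _ (α ⟨z, hKR hzK⟩).2) hy1
      have hd : ¬ (p : ℤ) ∣ k := fun hd => hne (orderOf_dvd_iff_zpow_eq_one.1 (by rwa [hyord]))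
      obtain ⟨u, v, huv⟩ := (Prime.coprime_iff_not_dvd (Nat.prime_iff_prime_int.1 hp.out)).2 hd
      refine hy ?_
      have : ((α ⟨z, hKR hzK⟩ : R) : Ω) = z ^ v := by
        conv_rhs => rw [← hyz, ← zpow_mul]
        conv_lhs => rw [← zpow_one ((α ⟨z, hKR hzK⟩ : R) : Ω), ← huv]
        rw [zpow_add, mul_comm u, zpow_mul, zpow_natCast, hexp _ (α ⟨z, hKR hzK⟩).2, one_zpow, one_mul, mul_comm k]
      rw [this]
      exact K.zpow_mem hzK v)
  -- the fixed element has a power in `R`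
  have hx0R : x0 ∉ R := fun h => hxr0 (by
    have h1 := hact r0 hr0
    rw [hab x0 h r0 hr0, mul_inv_cancel_right] at h1
    exact mul_inv_eq_iff_eq_mul.1 h1.symm)
  obtain ⟨l, hl⟩ := IsPGroup.iff_orderOf.1 hS ⟨x0, hP.1 (hP0 hx0)⟩
  rw [Subgroup.orderOf_mk] at hl
  have hl2 : 2 ≤ l := by
    by_contra hlt
    refine hx0R ((hR x0).2 ⟨hP0 hx0, orderOf_dvd_iff_pow_eq_one.1 ?_⟩)
    rw [hl]
    exact (pow_dvd_pow p (show l ≤ 1 by omega)).trans (pow_one p).dvd
  set w := x0 ^ p ^ (l - 1) with hw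
  have hw1 : w ≠ 1 := fun h => by
    have := orderOf_dvd_of_pow_eq_one h
    rw [hl, Nat.pow_dvd_pow_iff_le_right hp.out.one_lt] at this
    omega
  have hwp : w ^ p = 1 := by
    rw [hw, ← pow_mul, ← pow_succ, show l - 1 + 1 = l by omega, ← hl, pow_orderOf_eq_one]
  have hwR : w ∈ R := (hR w).2 ⟨P.pow_mem (hP0 hx0) _, hwp⟩
  have hwK : w ∈ K := hCx w hwR (mul_inv_eq_iff_eq_mul.1 (by
    rw [← hact w hwR, hw]; group))
  obtain ⟨k, hk⟩ := hKz w hwK
  have h1 := congrArg ψ (show (⟨x0, hx0⟩ : P0) ^ p ^ (l - 1) = (⟨z, hz0⟩ : P0) ^ k from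
    Subtype.ext ((SubmonoidClass.coe_pow _ _).trans (hk.symm.trans (SubgroupClass.coe_zpow (⟨z, hz0⟩ : P0) k).symm)))
  rw [map_pow, map_zpow, hfix, hinv, inv_zpow, show z ^ k = w from hk, ← hw] at h1
  have h2 : w ^ 2 = 1 := by rw [sq, mul_eq_one_iff_eq_inv]; exact h1
  have hd := Nat.dvd_gcd (orderOf_dvd_of_pow_eq_one h2) (orderOf_dvd_of_pow_eq_one hwp)
  rw [((Nat.coprime_primes Nat.prime_two hp.out).2 (Ne.symm hp2)).gcd_eq_one] at hd
  exact hw1 (orderOf_eq_one_iff.1 (Nat.dvd_one.1 hd))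

end Cfsg.Agent.FusionSys
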