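import Mathlib.GroupTheory.Sylow

/-!
# Sylow subgroups of subgroups, kept inside the ambient group

`IsSyl p A B` says that `A` is a Sylow `p`-subgroup of the subgroup `B`, everything living in the ambient group.
-/

set_option autoImplicit false

namespace Cfsg.Agent.FusionSys

variable {G : Type*} [Group G] {p : ℕ} [hp : Fact p.Prime]

/-- `A` is a Sylow `p`-subgroup of the subgroup `B`. -/
def IsSyl (p : ℕ) (A B : Subgroup G) : Prop :=
  A ≤ B ∧ IsPGroup p A ∧ ¬ p ∣ A.relIndex B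

theorem isPGroup_subgroupOf {A B : Subgroup G} (hA : IsPGroup p A) : IsPGroup p (A.subgroupOf B) :=
  hA.comap_of_injective B.subtype B.subtype_injective

theorem IsSyl.toSylow {A B : Subgroup G} (h : IsSyl p A B) :
    ∃ R : Sylow p B, (R : Subgroup B) = A.subgroupOf B :=
  ⟨(isPGroup_subgroupOf h.2.1).toSylow (h.2.2), rfl⟩

theorem isSyl_of_sylow [Finite G] {A B : Subgroup G} (hAB : A ≤ B) (R : Sylow p B)
    (hR : (R : Subgroup B) = A.subgroupOf B) : IsSyl p A B := by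
  refine ⟨hAB, ?_, ?_⟩
  · refine IsPGroup.of_equiv ?_ (Subgroup.subgroupOfEquivOfLe hAB)
    rw [← hR]; exact R.2
  · rw [Subgroup.relIndex, ← hR]; exact R.not_dvd_index

theorem isSyl_sylow [Finite G] (P : Sylow p G) : IsSyl p (P : Subgroup G) ⊤ :=
  ⟨le_top, P.2, by rw [Subgroup.relIndex_top_right]; exact P.not_dvd_index⟩

theorem isSyl_self {A : Subgroup G} (hA : IsPGroup p A) : IsSyl p A A :=
  ⟨le_rfl, hA, by rw [Subgroup.relIndex_self]; exact hp.out.not_dvd_one⟩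

/-- A `p`-subgroup lies in a Sylow subgroup. -/
theorem exists_isSyl_ge [Finite G] {X B : Subgroup G} (hX : IsPGroup p X) (hXB : X ≤ B) :
    ∃ A : Subgroup G, IsSyl p A B ∧ X ≤ A := by
  obtain ⟨R, hR⟩ := (isPGroup_subgroupOf (B := B) hX).exists_le_sylow
  refine ⟨(R : Subgroup B).map B.subtype, isSyl_of_sylow (Subgroup.map_subtype_le _) R ?_, ?_⟩
  · exact (Subgroup.comap_map_eq_self_of_injective B.subtype_injective _).symm
  · intro x hx
    exact ⟨⟨x, hXB hx⟩, hR hx, rfl⟩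

theorem exists_isSyl [Finite G] (B : Subgroup G) : ∃ A : Subgroup G, IsSyl p A B :=
  (exists_isSyl_ge (X := (⊥ : Subgroup G)) IsPGroup.of_bot bot_le).imp fun _ h => h.1

theorem IsSyl.card_eq [Finite G] {A B : Subgroup G} (h : IsSyl p A B) :
    Nat.card A = p ^ (Nat.card B).factorization p := by
  obtain ⟨R, hR⟩ := h.toSylow
  rw [← R.card_eq_multiplicity, hR]
  exact (Nat.card_congr (Subgroup.subgroupOfEquivOfLe h.1).toEquiv).symm

theorem IsSyl.card_le [Finite G] {A B X : Subgroup G} (h : IsSyl p A B) (hX : IsPGroup p X) (hXB : X ≤ B) :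
    Nat.card X ≤ Nat.card A := by
  obtain ⟨A', hA', hXA⟩ := exists_isSyl_ge hX hXB
  rw [h.card_eq, ← hA'.card_eq]
  exact Subgroup.card_le_of_le hXA

theorem IsSyl.of_card_ge [Finite G] {A B X : Subgroup G} (h : IsSyl p A B) (hX : IsPGroup p X) (hXB : X ≤ B)
    (hc : Nat.card A ≤ Nat.card X) : IsSyl p X B := by
  obtain ⟨A', hA', hXA⟩ := exists_isSyl_ge hX hXB
  have : X = A' := Subgroup.eq_of_le_of_card_ge hXA (by rwa [hA'.card_eq, ← h.card_eq])
  exact this ▸ hA'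

theorem IsSyl.eq_of_le [Finite G] {A B X : Subgroup G} (h : IsSyl p A B) (hAX : A ≤ X) (hXB : X ≤ B)
    (hX : IsPGroup p X) : A = X :=
  Subgroup.eq_of_le_of_card_ge hAX (h.card_le hX hXB)

theorem IsSyl.exists_conj [Finite G] {A B X : Subgroup G} (h : IsSyl p A B) (hX : IsPGroup p X) (hXB : X ≤ B) :
    ∃ b ∈ B, X.map (MulAut.conj b).toMonoidHom ≤ A := by
  obtain ⟨R, hR⟩ := h.toSylow
  obtain ⟨R', hR'⟩ := (isPGroup_subgroupOf (B := B) hX).exists_le_sylow
  obtain ⟨b, hb⟩ := MulAction.exists_smul_eq B R' R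
  refine ⟨b, b.2, ?_⟩
  rintro _ ⟨x, hx, rfl⟩
  have h1 : b * ⟨x, hXB hx⟩ * b⁻¹ ∈ (R : Subgroup B) := by
    rw [← hb, Sylow.coe_subgroup_smul]
    exact ⟨⟨x, hXB hx⟩, hR' hx, rfl⟩
  rw [hR] at h1
  exact h1

theorem IsSyl.map_conj [Finite G] {A B : Subgroup G} (h : IsSyl p A B) (g : G) :
    IsSyl p (A.map (MulAut.conj g).toMonoidHom) (B.map (MulAut.conj g).toMonoidHom) :=
  ⟨Subgroup.map_mono h.1, h.2.1.map _, by
    rw [Subgroup.relIndex_map_map_of_injective _ _ (MulAut.conj g).injective]; exact h.2.2⟩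

/-- A Sylow subgroup meets a normalized subgroup in a Sylow subgroup. -/
theorem IsSyl.inf_normal [Finite G] {A B C : Subgroup G} (h : IsSyl p A B) (hCB : C ≤ B)
    (hn : B ≤ Subgroup.normalizer (C : Set G)) : IsSyl p (A ⊓ C) C := by
  refine ⟨inf_le_right, h.2.1.to_le inf_le_left, ?_⟩
  obtain ⟨R, hR, -⟩ := exists_isSyl_ge (p := p) (X := (⊥ : Subgroup G)) (B := C) IsPGroup.of_bot bot_le
  obtain ⟨b, hb, hbR⟩ := h.exists_conj hR.2.1 (hR.1.trans hCB)
  have hC : C.map (MulAut.conj b).toMonoidHom = C :=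
    Subgroup.mem_normalizer_iff_map_conj_eq.1 (hn hb)
  have h1 : IsSyl p (R.map (MulAut.conj b).toMonoidHom) C := by
    have := hR.map_conj b; rwa [hC] at this
  have h2 : R.map (MulAut.conj b).toMonoidHom = A ⊓ C :=
    h1.eq_of_le (le_inf hbR h1.1) inf_le_right (h.2.1.to_le inf_le_left)
  exact h2 ▸ h1.2.2

theorem isSyl_iff_sylow [Finite G] {A B : Subgroup G} (hAB : A ≤ B) :
    IsSyl p A B ↔ ∃ R : Sylow p B, (R : Subgroup B) = A.subgroupOf B :=
  ⟨IsSyl.toSylow, fun ⟨R, hR⟩ => isSyl_of_sylow hAB R hR⟩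

/-- The image of a Sylow subgroup is a Sylow subgroup of the image. -/
theorem IsSyl.map {H : Type*} [Group H] {A B : Subgroup G} (h : IsSyl p A B) (f : G →* H) :
    IsSyl p (A.map f) (B.map f) := by
  refine ⟨Subgroup.map_mono h.1, h.2.1.map f, fun hd => h.2.2 (hd.trans ?_)⟩
  have heq : (A.subgroupOf B).map (f.subgroupMap B) = (A.map f).subgroupOf (B.map f) := by
    ext ⟨y, hy⟩
    constructor
    · rintro ⟨x, hx, hxy⟩
      exact ⟨x, hx, congrArg Subtype.val hxy⟩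
    · rintro ⟨x, hx, hxy⟩
      exact ⟨⟨x, h.1 hx⟩, hx, Subtype.ext hxy⟩
  rw [Subgroup.relIndex, Subgroup.relIndex, ← heq]
  exact Subgroup.index_map_dvd _ (f.subgroupMap_surjective B)

end Cfsg.Agent.FusionSys
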