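import Cfsg.Agent.Lib.Fusion.Basic
import Cfsg.Agent.Lib.Fusion.Sylow

/-!
# Fusion systems of finite groups

For subgroups `T ≤ H` with `T` a Sylow `p`-subgroup of `H`: Sylow descriptions of fully normalized and fully
centralized subgroups of `fusionSystemOfSubgroup H T`, and its saturation. `groupFusionSystem S` is the case
`H = ⊤` (`groupFusionSystem_eq`).
-/

set_option autoImplicit false

namespace Cfsg.Agent.FusionSys

open Cfsg Cfsg.FusionSystem

variable {G : Type*} [Group G] {p : ℕ} [hp : Fact p.Prime] {H T : Subgroup G}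

theorem groupFusionSystem_eq (S : Subgroup G) : groupFusionSystem S = fusionSystemOfSubgroup ⊤ S le_top :=
  hom_ext _ _ fun P => Set.ext fun φ =>
    ⟨fun ⟨a, b, g, hg⟩ => ⟨a, b, g, trivial, hg⟩, fun ⟨a, b, g, _, hg⟩ => ⟨a, b, g, hg⟩⟩

theorem map_conj_apply_mem {P : Subgroup G} {g x : G} (hx : x ∈ P) :
    g * x * g⁻¹ ∈ P.map (MulAut.conj g).toMonoidHom :=
  ⟨x, hx, rfl⟩

theorem map_conj_map_conj (P : Subgroup G) (g k : G) :
    (P.map (MulAut.conj g).toMonoidHom).map (MulAut.conj k).toMonoidHom =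
      P.map (MulAut.conj (k * g)).toMonoidHom := by
  rw [Subgroup.map_map]; congr 1; ext x; simp [mul_assoc]

theorem map_conj_inv_cancel (P : Subgroup G) (g : G) :
    (P.map (MulAut.conj g).toMonoidHom).map (MulAut.conj g⁻¹).toMonoidHom = P := by
  rw [map_conj_map_conj, inv_mul_cancel, map_one]
  exact P.map_id

theorem conjHom_mem_ofSubgroup (hTH : T ≤ H) {P : Subgroup G} (hP : P ≤ T) {g : G} (hg : g ∈ H)
    (hgP : P.map (MulAut.conj g).toMonoidHom ≤ T) : conjHom P g ∈ (fusionSystemOfSubgroup H T hTH).Hom P :=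
  ⟨hP, fun x => hgP (map_conj_apply_mem x.2), g, hg, fun _ => rfl⟩

theorem ofSubgroup_isConj_iff (hTH : T ≤ H) {P Q : Subgroup G} :
    (fusionSystemOfSubgroup H T hTH).IsConj P Q ↔
      P ≤ T ∧ Q ≤ T ∧ ∃ g ∈ H, P.map (MulAut.conj g).toMonoidHom = Q := by
  constructor
  · rintro ⟨φ, hφ, rfl⟩
    obtain ⟨hP, hφT, g, hg, he⟩ := id hφ
    refine ⟨hP, range_le _ hφ, g, hg, ?_⟩
    rw [← conjHom_range, show conjHom P g = φ from MonoidHom.ext fun x => (he x).symm]
  · rintro ⟨hP, hQ, g, hg, rfl⟩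
    exact ⟨_, conjHom_mem_ofSubgroup hTH hP hg hQ, conjHom_range P g⟩

theorem ofSubgroup_autGroup (hTH : T ≤ H) {P : Subgroup G} (hP : P ≤ T) :
    (fusionSystemOfSubgroup H T hTH).autGroup P = autInducedBy H P := by
  ext α
  rw [mem_autGroup_iff _ hP, mem_autInducedBy_iff]
  exact ⟨fun h => h.2.2, fun h => ⟨hP, fun x => hP (α x).2, h⟩⟩

theorem map_normalizer_conj (P : Subgroup G) (g : G) :
    (Subgroup.normalizer (P : Set G)).map (MulAut.conj g).toMonoidHom =
      Subgroup.normalizer (P.map (MulAut.conj g).toMonoidHom : Set G) :=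
  Subgroup.map_equiv_normalizer_eq P (MulAut.conj g)

theorem map_centralizer_conj (P : Subgroup G) (g : G) :
    (Subgroup.centralizer (P : Set G)).map (MulAut.conj g).toMonoidHom =
      Subgroup.centralizer (P.map (MulAut.conj g).toMonoidHom : Set G) := by
  ext y
  constructor
  · rintro ⟨x, hx, rfl⟩
    rw [Subgroup.mem_centralizer_iff]
    rintro _ ⟨z, hz, rfl⟩
    show MulAut.conj g z * MulAut.conj g x = MulAut.conj g x * MulAut.conj g z
    rw [← map_mul, ← map_mul, Subgroup.mem_centralizer_iff.1 hx z hz]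
  · intro hy
    refine ⟨g⁻¹ * y * g, ?_, by simp [mul_assoc]⟩
    show g⁻¹ * y * g ∈ Subgroup.centralizer (P : Set G)
    rw [Subgroup.mem_centralizer_iff]
    intro z hz
    have := Subgroup.mem_centralizer_iff.1 hy (g * z * g⁻¹) (map_conj_apply_mem hz)
    calc z * (g⁻¹ * y * g) = g⁻¹ * (g * z * g⁻¹ * y) * g := by group
      _ = g⁻¹ * (y * (g * z * g⁻¹)) * g := by rw [this]
      _ = g⁻¹ * y * g * z := by group

theorem map_conj_eq_self {g : G} (hg : g ∈ H) : H.map (MulAut.conj g).toMonoidHom = H :=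
  Subgroup.mem_normalizer_iff_map_conj_eq.1 (Subgroup.le_normalizer hg)

theorem normalizerIn_map_conj {g : G} (hg : g ∈ H) (P : Subgroup G) :
    (normalizerIn H P).map (MulAut.conj g).toMonoidHom =
      normalizerIn H (P.map (MulAut.conj g).toMonoidHom) := by
  rw [normalizerIn, Subgroup.map_inf _ _ _ (MulAut.conj g).injective, map_conj_eq_self hg, map_normalizer_conj]
  rfl

theorem centralizerIn_map_conj {g : G} (hg : g ∈ H) (P : Subgroup G) :
    (centralizerIn H P).map (MulAut.conj g).toMonoidHom =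
      centralizerIn H (P.map (MulAut.conj g).toMonoidHom) := by
  rw [centralizerIn, Subgroup.map_inf _ _ _ (MulAut.conj g).injective, map_conj_eq_self hg, map_centralizer_conj]
  rfl

theorem centralizerIn_normal (K P : Subgroup G) :
    normalizerIn K P ≤ Subgroup.normalizer (centralizerIn K P : Set G) := by
  refine fun g hg => Subgroup.mem_normalizer_iff_map_conj_eq.2 ?_
  have h : P.map (MulAut.conj g).toMonoidHom = P := Subgroup.mem_normalizer_iff_map_conj_eq.1 hg.2
  have h2 := centralizerIn_map_conj hg.1 P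
  rw [h] at h2
  exact h2

/-! ### The maps `Aut_K(P)` as images -/

theorem autInducedBy_eq_map (K P : Subgroup G) :
    autInducedBy K P =
      ((normalizerIn K P).subgroupOf (Subgroup.normalizer (P : Set G))).map P.normalizerMonoidHom := by
  ext α
  rw [mem_autInducedBy_iff]
  constructor
  · rintro ⟨g, hg, he⟩
    have hn := mem_normalizer_of_autInduced he
    exact ⟨⟨g, hn⟩, ⟨hg, hn⟩, MulEquiv.ext fun x => Subtype.ext (he x).symm⟩
  · rintro ⟨⟨g, hn⟩, hg, rfl⟩
    exact ⟨g, hg.1, fun x => rfl⟩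

section finite

variable [Finite G] (hT : IsSyl p T H)
include hT

theorem exists_conj_isSyl_normalizerIn {P : Subgroup G} (hP : P ≤ T) :
    ∃ g ∈ H, P.map (MulAut.conj g).toMonoidHom ≤ T ∧
      IsSyl p (normalizerIn T (P.map (MulAut.conj g).toMonoidHom))
        (normalizerIn H (P.map (MulAut.conj g).toMonoidHom)) := by
  obtain ⟨R, hR, hPR⟩ := exists_isSyl_ge (hT.2.1.to_le hP) (le_normalizerIn (hP.trans hT.1))
  obtain ⟨g, hg, hgR⟩ := hT.exists_conj hR.2.1 (hR.1.trans inf_le_left)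
  refine ⟨g, hg, (Subgroup.map_mono hPR).trans hgR, ?_⟩
  have h := hR.map_conj g
  rw [normalizerIn_map_conj hg] at h
  have heq := h.eq_of_le (X := normalizerIn T (P.map (MulAut.conj g).toMonoidHom))
    (le_inf hgR (h.1.trans inf_le_right)) (inf_le_inf_right _ hT.1) (hT.2.1.to_le inf_le_left)
  rwa [← heq]

theorem isSyl_centralizerIn_of_normalizerIn {Q : Subgroup G}
    (h : IsSyl p (normalizerIn T Q) (normalizerIn H Q)) :
    IsSyl p (centralizerIn T Q) (centralizerIn H Q) := by
  have := h.inf_normal (centralizerIn_le_normalizerIn H Q) (centralizerIn_normal H Q)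
  have heq : normalizerIn T Q ⊓ centralizerIn H Q = centralizerIn T Q := by
    refine le_antisymm (le_inf (inf_le_left.trans inf_le_left) (inf_le_right.trans inf_le_right)) ?_
    exact le_inf (centralizerIn_le_normalizerIn T Q) (inf_le_inf_right _ hT.1)
  rwa [heq] at this

theorem isSyl_autInducedBy_of_normalizerIn {Q : Subgroup G}
    (h : IsSyl p (normalizerIn T Q) (normalizerIn H Q)) :
    IsSyl p (autInducedBy T Q) (autInducedBy H Q) := by
  have h' : IsSyl p ((normalizerIn T Q).subgroupOf (Subgroup.normalizer (Q : Set G)))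
      ((normalizerIn H Q).subgroupOf (Subgroup.normalizer (Q : Set G))) :=
    ⟨fun x hx => h.1 hx, isPGroup_subgroupOf h.2.1, by
      unfold normalizerIn; rw [Subgroup.relIndex_subgroupOf inf_le_right]; exact h.2.2⟩
  rw [autInducedBy_eq_map, autInducedBy_eq_map]
  exact h'.map _

theorem fullyNormalized_iff (hTH : T ≤ H) {Q : Subgroup G} (hQ : Q ≤ T) :
    (fusionSystemOfSubgroup H T hTH).IsFullyNormalized Q ↔
      IsSyl p (normalizerIn T Q) (normalizerIn H Q) := by
  constructor
  · intro hn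
    obtain ⟨g, hg, hgQ, hsyl⟩ := exists_conj_isSyl_normalizerIn hT hQ
    have hc := hn.2 _ ((ofSubgroup_isConj_iff hTH).2 ⟨hQ, hgQ, g, hg, rfl⟩)
    obtain ⟨R, hR, hle⟩ := exists_isSyl_ge (hT.2.1.to_le inf_le_left)
      (show normalizerIn T Q ≤ normalizerIn H Q from inf_le_inf_right _ hT.1)
    refine hR.of_card_ge (hT.2.1.to_le inf_le_left) (inf_le_inf_right _ hT.1) (le_trans ?_ hc)
    have h := hR.map_conj g
    rw [normalizerIn_map_conj hg] at h
    refine le_trans (le_of_eq ?_) (hsyl.card_le h.2.1 h.1)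
    exact (Subgroup.card_map_of_injective (MulAut.conj g).injective).symm
  · intro h
    refine ⟨hQ, fun R hR => ?_⟩
    obtain ⟨-, hRT, g, hg, rfl⟩ := (ofSubgroup_isConj_iff hTH).1 hR
    have h' := h.map_conj g
    rw [normalizerIn_map_conj hg] at h'
    refine le_trans (h'.card_le (hT.2.1.to_le inf_le_left) (inf_le_inf_right _ hT.1)) (le_of_eq ?_)
    exact Subgroup.card_map_of_injective (MulAut.conj g).injective

theorem fullyCentralized_iff (hTH : T ≤ H) {Q : Subgroup G} (hQ : Q ≤ T) :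
    (fusionSystemOfSubgroup H T hTH).IsFullyCentralized Q ↔
      IsSyl p (centralizerIn T Q) (centralizerIn H Q) := by
  constructor
  · intro hn
    obtain ⟨g, hg, hgQ, hsylN⟩ := exists_conj_isSyl_normalizerIn hT hQ
    have hsyl := isSyl_centralizerIn_of_normalizerIn hT hsylN
    have hc := hn.2 _ ((ofSubgroup_isConj_iff hTH).2 ⟨hQ, hgQ, g, hg, rfl⟩)
    obtain ⟨R, hR, hle⟩ := exists_isSyl_ge (hT.2.1.to_le inf_le_left)
      (show centralizerIn T Q ≤ centralizerIn H Q from inf_le_inf_right _ hT.1)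
    refine hR.of_card_ge (hT.2.1.to_le inf_le_left) (inf_le_inf_right _ hT.1) (le_trans ?_ hc)
    have h := hR.map_conj g
    rw [centralizerIn_map_conj hg] at h
    refine le_trans (le_of_eq ?_) (hsyl.card_le h.2.1 h.1)
    exact (Subgroup.card_map_of_injective (MulAut.conj g).injective).symm
  · intro h
    refine ⟨hQ, fun R hR => ?_⟩
    obtain ⟨-, hRT, g, hg, rfl⟩ := (ofSubgroup_isConj_iff hTH).1 hR
    have h' := h.map_conj g
    rw [centralizerIn_map_conj hg] at h'
    refine le_trans (h'.card_le (hT.2.1.to_le inf_le_left) (inf_le_inf_right _ hT.1)) (le_of_eq ?_)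
    exact Subgroup.card_map_of_injective (MulAut.conj g).injective

theorem fullyAutomized_of_isSyl (hTH : T ≤ H) {Q : Subgroup G} (hQ : Q ≤ T)
    (h : IsSyl p (normalizerIn T Q) (normalizerIn H Q)) :
    (fusionSystemOfSubgroup H T hTH).IsFullyAutomized p Q := by
  refine ⟨hQ, ?_⟩
  rw [ofSubgroup_autGroup hTH hQ]
  exact (isSyl_autInducedBy_of_normalizerIn hT h).toSylow

/-- A `p`-subgroup of `N_T(Q)C_H(Q)` is moved into `N_T(Q)` by an element of `C_H(Q)`. -/
theorem exists_centralizer_conj {Q X : Subgroup G}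
    (hC : IsSyl p (centralizerIn T Q) (centralizerIn H Q)) (hX : IsPGroup p X)
    (hXle : X ≤ normalizerIn T Q ⊔ centralizerIn H Q) :
    ∃ c ∈ centralizerIn H Q, X.map (MulAut.conj c).toMonoidHom ≤ normalizerIn T Q := by
  have hnorm : normalizerIn T Q ≤ Subgroup.normalizer (centralizerIn H Q : Set G) :=
    (inf_le_inf_right _ hT.1).trans (centralizerIn_normal H Q)
  have hprod := Subgroup.coe_mul_of_left_le_normalizer_right (normalizerIn T Q) (centralizerIn H Q) hnorm
  have hmem : ∀ k ∈ normalizerIn T Q ⊔ centralizerIn H Q,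
      ∃ a ∈ normalizerIn T Q, ∃ c ∈ centralizerIn H Q, k = a * c := by
    intro k hk
    have : k ∈ ((normalizerIn T Q ⊔ centralizerIn H Q : Subgroup G) : Set G) := hk
    rw [hprod] at this
    obtain ⟨a, ha, c, hc, rfl⟩ := Set.mem_mul.1 this
    exact ⟨a, ha, c, hc, rfl⟩
  obtain ⟨R, hR, hAR⟩ := exists_isSyl_ge (p := p) (X := normalizerIn T Q)
    (B := normalizerIn T Q ⊔ centralizerIn H Q) (hT.2.1.to_le inf_le_left) le_sup_left
  have hRC : R ⊓ centralizerIn H Q = centralizerIn T Q :=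
    (hC.eq_of_le (le_inf ((centralizerIn_le_normalizerIn T Q).trans hAR) hC.1) inf_le_right
      (hR.2.1.to_le inf_le_left)).symm
  have hReq : R = normalizerIn T Q := by
    refine le_antisymm (fun r hr => ?_) hAR
    obtain ⟨a, ha, c, hc, rfl⟩ := hmem r (hR.1 hr)
    have hcR : c ∈ R := by simpa using R.mul_mem (R.inv_mem (hAR ha)) hr
    exact Subgroup.mul_mem _ ha (centralizerIn_le_normalizerIn T Q (hRC.le ⟨hcR, hc⟩))
  obtain ⟨b, hb, hbX⟩ := hR.exists_conj hX hXle
  rw [hReq] at hbX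
  obtain ⟨a, ha, c, hc, rfl⟩ := hmem b hb
  refine ⟨c, hc, ?_⟩
  rw [← map_conj_map_conj] at hbX
  have h2 := Subgroup.map_mono (f := (MulAut.conj a⁻¹).toMonoidHom) hbX
  rwa [map_conj_inv_cancel, map_conj_eq_self (Subgroup.inv_mem _ ha)] at h2

theorem receptive_of_isSyl (hTH : T ≤ H) {Q : Subgroup G} (hQ : Q ≤ T)
    (h : IsSyl p (centralizerIn T Q) (centralizerIn H Q)) :
    (fusionSystemOfSubgroup H T hTH).IsReceptive Q := by
  refine ⟨hQ, fun P φ hφ hr => ?_⟩
  obtain ⟨hP, hφT, g, hg, he⟩ := id hφ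
  have hPQ : P.map (MulAut.conj g).toMonoidHom = Q := by
    rw [← hr, ← conjHom_range, show conjHom P g = φ from MonoidHom.ext fun x => (he x).symm]
  have hNT : extender T P φ ≤ T := (Subgroup.closure_le _).2 fun x hx => hx.1
  have hX : (extender T P φ).map (MulAut.conj g).toMonoidHom ≤ normalizerIn T Q ⊔ centralizerIn H Q := by
    rw [Subgroup.map_le_iff_le_comap]
    refine (Subgroup.closure_le _).2 ?_
    rintro x ⟨hxT, hxN, k, hk, hkx⟩
    have hgx : g * x * g⁻¹ ∈ Subgroup.normalizer (Q : Set G) := by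
      rw [← hPQ, ← map_normalizer_conj]; exact ⟨x, hxN, rfl⟩
    have hc : k⁻¹ * (g * x * g⁻¹) ∈ centralizerIn H Q := by
      refine ⟨H.mul_mem (H.inv_mem (hT.1 hk)) (H.mul_mem (H.mul_mem hg (hT.1 hxT)) (H.inv_mem hg)), ?_⟩
      show k⁻¹ * (g * x * g⁻¹) ∈ Subgroup.centralizer (Q : Set G)
      rw [Subgroup.mem_centralizer_iff, ← hPQ]
      rintro _ ⟨y, hy, rfl⟩
      have h1 := hkx ⟨y, hy⟩ ((Subgroup.mem_normalizer_iff.1 hxN y).1 hy)
      rw [he, he] at h1
      simp only at h1
      show g * y * g⁻¹ * (k⁻¹ * (g * x * g⁻¹)) = k⁻¹ * (g * x * g⁻¹) * (g * y * g⁻¹)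
      calc g * y * g⁻¹ * (k⁻¹ * (g * x * g⁻¹))
          = k⁻¹ * (k * (g * y * g⁻¹) * k⁻¹) * (g * x * g⁻¹) := by group
        _ = k⁻¹ * (g * (x * y * x⁻¹) * g⁻¹) * (g * x * g⁻¹) := by rw [← h1]
        _ = k⁻¹ * (g * x * g⁻¹) * (g * y * g⁻¹) := by group
    have hkN : k ∈ normalizerIn T Q := by
      refine ⟨hk, ?_⟩
      have := Subgroup.mul_mem _ hgx (Subgroup.inv_mem _ (Subgroup.centralizer_le_normalizer _ hc.2))
      simpa [mul_assoc] using this
    show g * x * g⁻¹ ∈ normalizerIn T Q ⊔ centralizerIn H Q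
    have := Subgroup.mul_mem _ (Subgroup.mem_sup_left (T := centralizerIn H Q) hkN)
      (Subgroup.mem_sup_right (S := normalizerIn T Q) hc)
    rwa [mul_inv_cancel_left] at this
  obtain ⟨c, hc, hcX⟩ := exists_centralizer_conj hT h ((hT.2.1.to_le hNT).map _) hX
  rw [map_conj_map_conj] at hcX
  refine ⟨conjHom _ (c * g), conjHom_mem_ofSubgroup hTH hNT (H.mul_mem hc.1 hg)
    (hcX.trans inf_le_left), fun x hxP hxN => ?_⟩
  rw [conjHom_apply, he]
  have hy : g * x * g⁻¹ ∈ Q := hPQ.le (map_conj_apply_mem hxP)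
  have := Subgroup.mem_centralizer_iff.1 hc.2 _ hy
  calc c * g * x * (c * g)⁻¹ = c * (g * x * g⁻¹) * c⁻¹ := by group
    _ = (g * x * g⁻¹) * c * c⁻¹ := by rw [this]
    _ = g * x * g⁻¹ := by group

/-- The fusion system of `H` on a Sylow subgroup is saturated. -/
theorem ofSubgroup_saturated (hTH : T ≤ H) : (fusionSystemOfSubgroup H T hTH).IsSaturated p := by
  intro P hP
  obtain ⟨g, hg, hgP, hsyl⟩ := exists_conj_isSyl_normalizerIn hT hP
  exact ⟨_, (ofSubgroup_isConj_iff hTH).2 ⟨hP, hgP, g, hg, rfl⟩, fullyAutomized_of_isSyl hT hTH hgP hsyl,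
    receptive_of_isSyl hT hTH hgP (isSyl_centralizerIn_of_normalizerIn hT hsyl)⟩

end finite

theorem groupFusionSystem_saturated [Finite G] (S : Sylow p G) :
    (groupFusionSystem (S : Subgroup G)).IsSaturated p := by
  rw [groupFusionSystem_eq]; exact ofSubgroup_saturated (isSyl_sylow S) le_top

theorem normalizerIn_top (Q : Subgroup G) : normalizerIn ⊤ Q = Subgroup.normalizer (Q : Set G) := top_inf_eq _

theorem centralizerIn_top (Q : Subgroup G) : centralizerIn ⊤ Q = Subgroup.centralizer (Q : Set G) := top_inf_eq _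

section sylow

variable [Finite G] (S : Sylow p G) {P : Subgroup G}

theorem group_fullyNormalized_iff (hP : P ≤ S) :
    (groupFusionSystem (S : Subgroup G)).IsFullyNormalized P ↔
      IsSyl p (normalizerIn (S : Subgroup G) P) (Subgroup.normalizer (P : Set G)) := by
  rw [groupFusionSystem_eq, fullyNormalized_iff (isSyl_sylow S) le_top hP, normalizerIn_top]

theorem group_fullyCentralized_iff (hP : P ≤ S) :
    (groupFusionSystem (S : Subgroup G)).IsFullyCentralized P ↔
      IsSyl p (centralizerIn (S : Subgroup G) P) (Subgroup.centralizer (P : Set G)) := by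
  rw [groupFusionSystem_eq, fullyCentralized_iff (isSyl_sylow S) le_top hP, centralizerIn_top]

theorem group_autGroup (hP : P ≤ S) :
    (groupFusionSystem (S : Subgroup G)).autGroup P = autInducedBy ⊤ P := by
  rw [groupFusionSystem_eq, ofSubgroup_autGroup le_top hP]

theorem group_isConj_iff {Q : Subgroup G} :
    (groupFusionSystem (S : Subgroup G)).IsConj P Q ↔
      P ≤ S ∧ Q ≤ S ∧ ∃ g : G, P.map (MulAut.conj g).toMonoidHom = Q := by
  rw [groupFusionSystem_eq, ofSubgroup_isConj_iff le_top]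
  simp

end sylow

end Cfsg.Agent.FusionSys
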