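import Cfsg.Agent.Lib.Fusion.Centric
import Cfsg.Agent.Lib.Fusion.Group

/-!
# Simplicity criteria for fusion systems

`isSimple_of_autGroup_le`: if `1` and `S` are the only strongly closed subgroups, a system is simple as soon as
every weakly normal subsystem over `S` contains `Aut_F(S)`.
`conj_mem_of_sup`, `group_isSimple`, `group_isSimple_of_generated`: the consequences for the fusion system of a
finite group.
-/

set_option autoImplicit false

namespace Cfsg.Agent.FusionSys

open Cfsg Cfsg.FusionSystem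

variable {Ω : Type*} [Group Ω] {S : Subgroup Ω}

theorem isInvariant_le_of_autGroup_le {F E : FusionSystem S} (hE : E.IsInvariantIn F)
    (h : F.autGroup S ≤ E.autGroup S) (P : Subgroup Ω) : E.Hom P = F.Hom P := by
  obtain ⟨hsub, -, -, hfr⟩ := hE
  refine Set.Subset.antisymm (hsub P) fun φ hφ => ?_
  obtain ⟨α, hα, φ₀, hφ₀, he⟩ := hfr P (hom_le F hφ) φ hφ
  have h2 := E.comp_mem hφ₀ ((mem_autGroup_iff E le_rfl α).1 (h hα)) fun x => hom_apply_mem E hφ₀ x
  exact hom_congr E h2 fun x => he x _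

/-- A system with no proper nontrivial strongly closed subgroup is simple as soon as every weakly normal
subsystem over `S` contains all automorphisms of `S`. -/
theorem isSimple_of_autGroup_le {p : ℕ} {F : FusionSystem S} (hF : F.IsSaturated p) (hS1 : S ≠ ⊥)
    (hsc : ∀ T : Subgroup Ω, F.StronglyClosed T → T = ⊥ ∨ T = S)
    (h : ∀ E : FusionSystem S, E.IsWeaklyNormalIn F p → F.autGroup S ≤ E.autGroup S) : F.IsSimple p := by
  refine ⟨hF, hS1, fun T E hE => ?_⟩
  rcases hsc T hE.1.2.2.2.1 with hT | hT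
  · exact Or.inl hT
  · subst hT
    exact Or.inr ⟨rfl, isInvariant_le_of_autGroup_le hE.1.2.2 (h E hE.1)⟩

theorem isSimple_of_inner {p : ℕ} {F : FusionSystem S} (hF : F.IsSaturated p) (hS1 : S ≠ ⊥)
    (htop : F.autGroup S = Inn S) (hsc : ∀ T : Subgroup Ω, F.StronglyClosed T → T = ⊥ ∨ T = S) :
    F.IsSimple p :=
  isSimple_of_autGroup_le hF hS1 hsc fun E _ => htop.le.trans (inn_le_autGroup E le_rfl)

variable {p : ℕ} [hp : Fact p.Prime] [Finite S]

/-- If `Aut_F(S)` is a `p`-group it consists of inner automorphisms. -/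
theorem autGroup_top_eq_inn (hS : IsPGroup p S) {F : FusionSystem S} (hF : F.IsSaturated p)
    (h : IsPGroup p (F.autGroup S)) : F.autGroup S = Inn S := by
  obtain ⟨Q, hSQ, ⟨hQ, R, hR⟩, -⟩ := hF S le_rfl
  obtain rfl : Q = S := Subgroup.eq_of_le_of_card_ge hQ (isConj_card hSQ).le
  have hR' := R.is_maximal' (h.to_subgroup ⊤) le_top
  refine le_antisymm (fun a ha => ?_) (inn_le_autGroup F le_rfl)
  rw [inn_eq_autInducedBy_self]
  exact Subgroup.mem_subgroupOf.1 (hR.le (hR'.le (Subgroup.mem_top ⟨a, ha⟩)))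

theorem isSimple_of_isPGroup (hS : IsPGroup p S) {F : FusionSystem S} (hF : F.IsSaturated p) (hS1 : S ≠ ⊥)
    (h : IsPGroup p (F.autGroup S)) (hsc : ∀ T : Subgroup Ω, F.StronglyClosed T → T = ⊥ ∨ T = S) :
    F.IsSimple p :=
  isSimple_of_inner hF hS1 (autGroup_top_eq_inn hS hF h) hsc

/-- If `Aut_E` of a centric subgroup `N`, invariant under `φ ∈ Aut_F(S)`, contains the restriction of `φ`, then
`φ` lies in the saturated subsystem `E`. -/
theorem top_mem_of_restrict (hS : IsPGroup p S) {F E : FusionSystem S} (hF : F.IsSaturated p)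
    (hE : E.IsSaturated p) (hsub : E.IsSubsystemOf F) {φ : S →* Ω} (hφ : φ ∈ F.Hom S) {N : Subgroup Ω}
    (hNS : N ≤ S) (hN : F.IsCentric N) (hinv : ∀ x : S, (x : Ω) ∈ N → φ x ∈ N)
    (hmem : φ.comp (Subgroup.inclusion hNS) ∈ E.Hom N) : φ ∈ E.Hom S := by
  induction hk : Nat.card S - Nat.card N using Nat.strong_induction_on generalizing N with
  | _ k ih =>
  have := finite_of_le hNS
  rcases eq_or_lt_of_le hNS with rfl | hlt
  · exact hom_congr E hmem fun _ => rfl
  set M := normalizerIn S N with hM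
  have hMS : M ≤ S := normalizerIn_le S N
  have hNM : N ≤ M := le_normalizerIn hNS
  have hlt' : N < M := Cfsg.Agent.Fusion.lt_inf_normalizer hS.isNilpotent hlt
  have := finite_of_le hMS
  -- `φ` normalizes `N` exactly
  have hrange : (φ.comp (Subgroup.inclusion hNS)).range = N := by
    refine Subgroup.eq_of_le_of_card_ge ?_ (isConj_card ⟨_, restrict_mem F hφ hNS, rfl⟩).le
    rintro _ ⟨x, rfl⟩
    exact hinv _ x.2
  have hinvM : ∀ x : S, (x : Ω) ∈ M → φ x ∈ M := by
    intro x hx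
    refine ⟨hom_apply_mem F hφ x, ?_⟩
    refine mem_normalizer_of_conj_mem (φ x) ?_ ?_
    · intro y hy
      obtain ⟨n, rfl⟩ := hrange.ge hy
      show φ x * φ (Subgroup.inclusion hNS n) * (φ x)⁻¹ ∈ N
      rw [← map_inv, ← map_mul, ← map_mul]
      exact hinv _ ((Subgroup.mem_normalizer_iff.1 hx.2 n).1 n.2)
    · intro y hy
      obtain ⟨n, rfl⟩ := hrange.ge hy
      show (φ x)⁻¹ * φ (Subgroup.inclusion hNS n) * φ x ∈ N
      rw [← map_inv, ← map_mul, ← map_mul]
      exact hinv _ ((Subgroup.mem_normalizer_iff''.1 hx.2 n).1 n.2)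
  -- `E` is receptive at `N`
  have hNE : E.IsFullyCentralized N := by
    refine ⟨hNS, fun Q hQ => ?_⟩
    obtain ⟨ψ, hψ, hr⟩ := hQ
    have hQF : F.IsConj N Q := ⟨ψ, hsub N hψ, hr⟩
    have hc := hN.2 _ (isConj_refl F hNS)
    have hcQ := hN.2 _ hQF
    -- both centralizers are the centres
    subst hr
    have hle : centralizerIn S ψ.range ≤ ((centralizerIn S N).subgroupOf N).map ψ := by
      intro c hc'
      obtain ⟨n, rfl⟩ := hcQ hc'
      refine ⟨n, ⟨hNS n.2, ?_⟩, rfl⟩
      show (n : Ω) ∈ Subgroup.centralizer (N : Set Ω)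
      rw [Subgroup.mem_centralizer_iff]
      intro m hm
      have h1 : ψ ⟨m, hm⟩ * ψ n = ψ n * ψ ⟨m, hm⟩ := Subgroup.mem_centralizer_iff.1 hc'.2 _ ⟨_, rfl⟩
      rw [← map_mul, ← map_mul] at h1
      exact congrArg Subtype.val (E.injective_of_mem hψ h1)
    have := finite_of_le (show ((centralizerIn S N).subgroupOf N).map ψ ≤ S from by
      rintro _ ⟨x, -, rfl⟩; exact hom_apply_mem E hψ x)
    refine (Subgroup.card_le_of_le hle).trans ?_
    rw [Subgroup.card_map_of_injective (E.injective_of_mem hψ),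
      Nat.card_congr (Subgroup.subgroupOfEquivOfLe hc).toEquiv]
  obtain ⟨ψ, hψ, hag⟩ := (fullyCentralized_receptive hS hE hNE).2 N _ hmem hrange
  have hMext : M ≤ extender S N (φ.comp (Subgroup.inclusion hNS)) := fun m hm =>
    Subgroup.subset_closure ⟨hm.1, hm.2, φ ⟨m, hm.1⟩, hom_apply_mem F hφ _, fun x hx => by
      show φ _ = φ _ * φ _ * (φ _)⁻¹
      rw [← map_inv, ← map_mul, ← map_mul]
      rfl⟩
  have hψM : ψ.comp (Subgroup.inclusion hMext) ∈ E.Hom M := restrict_mem E hψ hMext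
  have hφM : φ.comp (Subgroup.inclusion hMS) ∈ F.Hom M := restrict_mem F hφ hMS
  obtain ⟨z, hzN, -, hz⟩ := centric_agree hS hF hNM hN (hsub M hψM) hφM fun x hx => hag x hx _
  have hcz : conjHom M (z : Ω) ∈ E.Hom M := E.conj_mem hMS (hMS z.2)
  have hEM : φ.comp (Subgroup.inclusion hMS) ∈ E.Hom M := by
    refine hom_congr E (E.comp_mem hcz hψM fun y => ?_) fun y => ?_
    · exact M.mul_mem (M.mul_mem z.2 y.2) (M.inv_mem z.2)
    · exact hz y
  refine ih _ ?_ hMS (isCentric_mono hN hNM hMS) hinvM hEM rfl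
  have h1 : Nat.card N < Nat.card M := lt_of_le_of_ne (Subgroup.card_le_of_le hNM)
    fun he => hlt'.ne (Subgroup.eq_of_le_of_card_ge hNM he.ge)
  have h2 : Nat.card M ≤ Nat.card S := Subgroup.card_le_of_le hMS
  omega

omit hp in
/-- In an invariant subsystem over `S`, the automorphism group of any subgroup is normalized by that of the system. -/
theorem autGroup_conj_mem {F E : FusionSystem S} (hE : E.IsInvariantIn F) {R : Subgroup Ω} (hR : R ≤ S)
    {a b : MulAut R} (ha : a ∈ F.autGroup R) (hb : b ∈ E.autGroup R) : a * b * a⁻¹ ∈ E.autGroup R := by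
  obtain ⟨hsub, -, hinv, hfr⟩ := hE
  have := finite_of_le hR
  obtain ⟨α, hα, φ₀, hφ₀, he⟩ := hfr R hR _ ((mem_autGroup_iff F hR a).1 ha)
  -- transport `b` by `φ₀`
  set e := mapEquiv E hφ₀ rfl
  have hb' : MulAut.congr e b ∈ E.autGroup φ₀.range :=
    congr_mem_autGroup E e (hom_congr E hφ₀ fun _ => rfl) (mapEquiv_symm_mem E hφ₀ rfl) hb
  obtain ⟨χ, hχ, hχe⟩ := hinv φ₀.range (range_le E hφ₀) _
    ((mem_autGroup_iff E (range_le E hφ₀) _).1 hb') α hα
  have himg : ∀ x : R, ((α ⟨φ₀ x, hom_apply_mem E hφ₀ x⟩ : S) : Ω) = a x := fun x => (he x _).symm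
  have hle : R ≤ (φ₀.range.subgroupOf S).map (S.subtype.comp α.toMonoidHom) := fun r hr =>
    ⟨⟨φ₀ (a⁻¹ ⟨r, hr⟩), hom_apply_mem E hφ₀ _⟩, ⟨_, rfl⟩, by
      show ((α _ : S) : Ω) = r
      rw [himg]
      exact congrArg Subtype.val (a.apply_symm_apply _)⟩
  refine (mem_autGroup_iff E hR _).2 (hom_congr E (restrict_mem E hχ hle) fun r => ?_)
  obtain ⟨x, rfl⟩ := a.surjective r
  have h1 := hχe ⟨φ₀ x, ⟨x, rfl⟩⟩ (hom_apply_mem E hφ₀ (b x) |> fun h => by
    show ((MulAut.congr e b ⟨φ₀ x, ⟨x, rfl⟩⟩ : φ₀.range) : Ω) ∈ S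
    exact range_le E hφ₀ (Subtype.coe_prop _)) (by
      show ((α _ : S) : Ω) ∈ _
      rw [himg]
      exact hle (a x).2)
  have he' : MulAut.congr e b ⟨φ₀ x, ⟨x, rfl⟩⟩ = e (b x) := by
    rw [congr_apply, show (⟨φ₀ x, ⟨x, rfl⟩⟩ : φ₀.range) = e x from rfl, e.symm_apply_apply]
  show ((a (b (a⁻¹ (a x))) : R) : Ω) = χ _
  rw [show a⁻¹ (a x) = x from a.symm_apply_apply x, ← himg (b x)]
  refine Eq.trans ?_ (h1.symm.trans (apply_congr χ (himg x) _ _))
  refine congrArg (fun y : S => ((α y : S) : Ω)) (Subtype.ext ?_)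
  show φ₀ (b x) = ((MulAut.congr e b ⟨φ₀ x, ⟨x, rfl⟩⟩ : φ₀.range) : Ω)
  rw [he']
  rfl

/-- An invariant subsystem over `S` contains every automorphism of `p`-power order of a fully automized subgroup. -/
theorem pPower_mem_autGroup {F E : FusionSystem S} (hE : E.IsInvariantIn F) {R : Subgroup Ω}
    (hR : F.IsFullyAutomized p R) {a : MulAut R} (ha : a ∈ F.autGroup R) (ho : ∃ k : ℕ, orderOf a = p ^ k) :
    a ∈ E.autGroup R := by
  obtain ⟨hRS, P, hP⟩ := hR
  have := finite_of_le hRS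
  obtain ⟨k, hk⟩ := ho
  set a' : F.autGroup R := ⟨a, ha⟩ with ha'
  have hzp : IsPGroup p (Subgroup.zpowers a') := IsPGroup.of_card (n := k) (by
    rw [Nat.card_zpowers, ← hk]
    exact (Subgroup.orderOf_coe a').symm)
  obtain ⟨Q, hQ⟩ := hzp.exists_le_sylow
  obtain ⟨g, hg⟩ := MulAction.exists_smul_eq (F.autGroup R) P Q
  have h1 := hQ (Subgroup.mem_zpowers a')
  rw [← hg, Sylow.coe_subgroup_smul] at h1
  obtain ⟨c, hc, hce⟩ := h1
  have hcS : (c : MulAut R) ∈ E.autGroup R :=
    autInducedBy_le_autGroup E hRS (Subgroup.mem_subgroupOf.1 (hP.le hc))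
  have h2 := autGroup_conj_mem hE hRS g.2 hcS
  rw [show a = (g : MulAut R) * c * (g : MulAut R)⁻¹ from congrArg Subtype.val hce.symm]
  exact h2

section group

variable {G : Type*} [Group G] [Finite G] (S : Sylow p G)

/-- A weakly normal subsystem over `S` of the system of `G` contains conjugation on `S` by every element of
`N_G(S)` lying in the subgroup generated by the `p`-power order elements of `N_G(R)`, `R` centric fully normalized. -/
theorem conj_mem_of_closure {E : FusionSystem (S : Subgroup G)}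
    (hE : E.IsWeaklyNormalIn (groupFusionSystem (S : Subgroup G)) p) {R : Subgroup G}
    (hn : (groupFusionSystem (S : Subgroup G)).IsFullyNormalized R)
    (hc : (groupFusionSystem (S : Subgroup G)).IsCentric R) {g : G}
    (hg : g ∈ Subgroup.closure {g : G | g ∈ Subgroup.normalizer (R : Set G) ∧ ∃ k : ℕ, orderOf g = p ^ k})
    (hgS : g ∈ Subgroup.normalizer ((S : Subgroup G) : Set G)) :
    conjHom (S : Subgroup G) g ∈ E.Hom (S : Subgroup G) := by
  have hF := groupFusionSystem_saturated S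
  have hauto := (fullyNormalized_imp S.2 hF hn).2
  have key : ∀ y ∈ Subgroup.closure {g : G | g ∈ Subgroup.normalizer (R : Set G) ∧ ∃ k : ℕ, orderOf g = p ^ k},
      ∃ a ∈ E.autGroup R, ∀ x : R, ((a x : R) : G) = y * (x : G) * y⁻¹ := by
    intro y hy
    induction hy using Subgroup.closure_induction with
    | mem y hy =>
      obtain ⟨hyN, k, hk⟩ := hy
      refine ⟨R.normalizerMonoidHom ⟨y, hyN⟩, ?_, fun x => rfl⟩
      refine pPower_mem_autGroup hE.2.2 hauto ?_ ?_
      · rw [group_autGroup S hn.1, mem_autInducedBy_iff]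
        exact ⟨y, Subgroup.mem_top y, fun _ => rfl⟩
      · have hd : orderOf (R.normalizerMonoidHom ⟨y, hyN⟩) ∣ p ^ k := by
          rw [← hk, ← Subgroup.orderOf_mk _ hyN]
          exact orderOf_map_dvd _ _
        obtain ⟨j, -, hj⟩ := (Nat.dvd_prime_pow hp.out).1 hd
        exact ⟨j, hj⟩
    | one => exact ⟨1, Subgroup.one_mem _, fun x => by simp⟩
    | mul y z _ _ hy hz =>
      obtain ⟨a, ha, hae⟩ := hy
      obtain ⟨b, hb, hbe⟩ := hz
      exact ⟨a * b, Subgroup.mul_mem _ ha hb, fun x => by simp [hae, hbe, mul_assoc]⟩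
    | inv y _ hy =>
      obtain ⟨a, ha, hae⟩ := hy
      refine ⟨a⁻¹, Subgroup.inv_mem _ ha, fun x => ?_⟩
      have := hae (a⁻¹ x)
      rw [show a (a⁻¹ x) = x from a.apply_symm_apply x] at this
      rw [this]; group
  obtain ⟨a, ha, hae⟩ := key g hg
  have hφ : conjHom (S : Subgroup G) g ∈ (groupFusionSystem (S : Subgroup G)).Hom (S : Subgroup G) :=
    ⟨le_rfl, fun x => (Subgroup.mem_normalizer_iff.1 hgS x).1 x.2, g, fun _ => rfl⟩
  refine top_mem_of_restrict S.2 hF hE.1 hE.2.2.1 hφ hn.1 hc (fun x hx => ?_) ?_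
  · show g * (x : G) * g⁻¹ ∈ R
    exact hae ⟨x, hx⟩ ▸ (a ⟨x, hx⟩).2
  · exact hom_congr E ((mem_autGroup_iff E hn.1 a).1 ha) fun x => (hae x).symm

/-- The simplicity criterion for the system of a group: no strongly closed subgroups, and `Aut_G(S)` generated by
`p`-power order elements of local subgroups. -/
theorem group_isSimple (hS1 : (S : Subgroup G) ≠ ⊥)
    (hsc : ∀ T : Subgroup G, (groupFusionSystem (S : Subgroup G)).StronglyClosed T → T = ⊥ ∨ T = (S : Subgroup G))
    (hgen : autInducedBy ⊤ (S : Subgroup G) ≤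
      ⨆ (R : Subgroup G) (_ : (groupFusionSystem (S : Subgroup G)).IsFullyNormalized R ∧
          (groupFusionSystem (S : Subgroup G)).IsCentric R),
        autInducedBy (Subgroup.closure {g : G | g ∈ Subgroup.normalizer (R : Set G) ∧ ∃ k : ℕ, orderOf g = p ^ k})
          (S : Subgroup G)) :
    (groupFusionSystem (S : Subgroup G)).IsSimple p := by
  refine isSimple_of_autGroup_le (groupFusionSystem_saturated S) hS1 hsc fun E hE => ?_
  rw [group_autGroup S le_rfl]
  refine hgen.trans (iSup₂_le fun R hR a ha => ?_)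
  obtain ⟨g, hg, hge⟩ := (mem_autInducedBy_iff a).1 ha
  exact (mem_autGroup_iff E le_rfl a).2
    (hom_congr E (conj_mem_of_closure S hE hR.1 hR.2 hg (mem_normalizer_of_autInduced hge)) hge)

omit [Finite G] in
theorem group_stronglyClosed_iff {T : Subgroup G} :
    (groupFusionSystem (S : Subgroup G)).StronglyClosed T ↔
      T ≤ S ∧ ∀ g : G, ∀ x ∈ T, g * x * g⁻¹ ∈ (S : Subgroup G) → g * x * g⁻¹ ∈ T := by
  constructor
  · rintro ⟨hT, h⟩
    refine ⟨hT, fun g x hx hgx => ?_⟩
    have hφ : conjHom (Subgroup.zpowers x) g ∈ (groupFusionSystem (S : Subgroup G)).Hom (Subgroup.zpowers x) := by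
      refine ⟨Subgroup.zpowers_le.2 (hT hx), ?_, g, fun _ => rfl⟩
      rintro ⟨_, n, rfl⟩
      show g * x ^ n * g⁻¹ ∈ (S : Subgroup G)
      rw [← conj_zpow]
      exact zpow_mem hgx n
    exact h _ (Subgroup.zpowers_le.2 hx) _ hφ ⟨x, Subgroup.mem_zpowers x⟩
  · rintro ⟨hT, h⟩
    refine ⟨hT, fun R hR φ hφ x => ?_⟩
    obtain ⟨-, hmem, g, hg⟩ := hφ
    rw [hg]
    exact h g x (hR x.2) (hg x ▸ hmem x)

/-- Variant: `N_G(S)` is generated, modulo `C_G(S)`, by `S` and elements in the `p`-power generated part of a local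
subgroup `N_G(R)` with `R` centric and normal in `S`. -/
theorem group_isSimple_of_generated (hS1 : (S : Subgroup G) ≠ ⊥)
    (hsc : ∀ T : Subgroup G, (groupFusionSystem (S : Subgroup G)).StronglyClosed T → T = ⊥ ∨ T = (S : Subgroup G))
    (hgen : Subgroup.normalizer ((S : Subgroup G) : Set G) ≤ Subgroup.closure
      {g : G | g ∈ Subgroup.normalizer ((S : Subgroup G) : Set G) ∧
        ((∀ x ∈ (S : Subgroup G), g * x * g⁻¹ = x) ∨ g ∈ (S : Subgroup G) ∨
          ∃ R : Subgroup G, (groupFusionSystem (S : Subgroup G)).IsFullyNormalized R ∧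
            (groupFusionSystem (S : Subgroup G)).IsCentric R ∧
            g ∈ Subgroup.closure {g : G | g ∈ Subgroup.normalizer (R : Set G) ∧ ∃ k : ℕ, orderOf g = p ^ k})}) :
    (groupFusionSystem (S : Subgroup G)).IsSimple p := by
  refine isSimple_of_autGroup_le (groupFusionSystem_saturated S) hS1 hsc fun E hE => ?_
  rw [group_autGroup S le_rfl]
  intro a ha
  obtain ⟨g, -, hge⟩ := (mem_autInducedBy_iff a).1 ha
  suffices h : ∀ y ∈ Subgroup.closure
      {g : G | g ∈ Subgroup.normalizer ((S : Subgroup G) : Set G) ∧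
        ((∀ x ∈ (S : Subgroup G), g * x * g⁻¹ = x) ∨ g ∈ (S : Subgroup G) ∨
          ∃ R : Subgroup G, (groupFusionSystem (S : Subgroup G)).IsFullyNormalized R ∧
            (groupFusionSystem (S : Subgroup G)).IsCentric R ∧
            g ∈ Subgroup.closure {g : G | g ∈ Subgroup.normalizer (R : Set G) ∧ ∃ k : ℕ, orderOf g = p ^ k})},
      ∃ b ∈ E.autGroup (S : Subgroup G), ∀ x : (S : Subgroup G), ((b x : (S : Subgroup G)) : G) = y * (x : G) * y⁻¹ by
    obtain ⟨b, hb, hbe⟩ := h g (hgen (mem_normalizer_of_autInduced hge))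
    rwa [show a = b from MulEquiv.ext fun x => Subtype.ext ((hge x).trans (hbe x).symm)]
  intro y hy
  induction hy using Subgroup.closure_induction with
  | mem y hy =>
    obtain ⟨hyN, hy⟩ := hy
    refine ⟨(S : Subgroup G).normalizerMonoidHom ⟨y, hyN⟩, (mem_autGroup_iff E le_rfl _).2 ?_, fun _ => rfl⟩
    rcases hy with hy | hy | ⟨R, hn, hc, hy⟩
    · exact hom_congr E (subtype_mem E le_rfl) fun x => hy x x.2
    · exact hom_congr E (E.conj_mem le_rfl hy) fun _ => rfl
    · exact hom_congr E (conj_mem_of_closure S hE hn hc hy hyN) fun _ => rfl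
  | one => exact ⟨1, Subgroup.one_mem _, fun x => by simp⟩
  | mul y z _ _ hy hz =>
    obtain ⟨a, ha, hae⟩ := hy
    obtain ⟨b, hb, hbe⟩ := hz
    exact ⟨a * b, Subgroup.mul_mem _ ha hb, fun x => by simp [hae, hbe, mul_assoc]⟩
  | inv y _ hy =>
    obtain ⟨a, ha, hae⟩ := hy
    refine ⟨a⁻¹, Subgroup.inv_mem _ ha, fun x => ?_⟩
    have := hae (a⁻¹ x)
    rw [show a (a⁻¹ x) = x from a.apply_symm_apply x] at this
    rw [this]; group

/-- A subgroup of `S` normal in `S` is fully normalized. -/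
theorem group_fullyNormalized_of_le_normalizer {R : Subgroup G} (hR : R ≤ S)
    (hn : (S : Subgroup G) ≤ Subgroup.normalizer (R : Set G)) :
    (groupFusionSystem (S : Subgroup G)).IsFullyNormalized R := by
  refine ⟨hR, fun Q _ => ?_⟩
  rw [show normalizerIn (S : Subgroup G) R = (S : Subgroup G) from inf_eq_left.2 hn]
  exact Subgroup.card_le_of_le (normalizerIn_le _ _)

/-- With `Aut_G(S)` a `p`-group and no strongly closed subgroups the system of a group is simple. -/
theorem group_isSimple_of_isPGroup (hS1 : (S : Subgroup G) ≠ ⊥)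
    (hsc : ∀ T : Subgroup G, (groupFusionSystem (S : Subgroup G)).StronglyClosed T → T = ⊥ ∨ T = (S : Subgroup G))
    (h : IsPGroup p (autInducedBy ⊤ (S : Subgroup G))) : (groupFusionSystem (S : Subgroup G)).IsSimple p := by
  refine isSimple_of_isPGroup S.2 (groupFusionSystem_saturated S) hS1 ?_ hsc
  rw [group_autGroup S le_rfl]
  exact h

end group

end Cfsg.Agent.FusionSys
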