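import Cfsg.Agent.Lib.Fusion.SympLocal
import Cfsg.Agent.Lib.Fusion.Simple

/-!
# The fusion system of `PSp(2m, K)` in defining characteristic is simple
-/

set_option autoImplicit false

namespace Cfsg.Agent.FusionPSp

open Cfsg Cfsg.FusionSystem Cfsg.Agent.FusionSys Matrix Cfsg.Agent.FusionPSLn Cfsg.Agent.AutPSp

variable {K : Type*} [Field K] {m : ℕ}

local notation "Spm" => Matrix.symplecticGroup (Fin m) K
local notation "Mn" => Matrix (Fin m) (Fin m) K
local notation "Mm" => Matrix (Fin m ⊕ Fin m) (Fin m ⊕ Fin m) K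
local notation "PSpm" => Cfsg.PSp m K

/-! ### The Sylow subgroup -/

section sylow

variable (p : ℕ) [hp : Fact p.Prime] [CharP K p]

include hp in
theorem scalar_pow {c : K} (h : c * c = 1) (k : ℕ) : c ^ p ^ k = c := by
  rcases mul_self_eq_one_iff.1 h with rfl | rfl
  · rw [one_pow]
  · rcases hp.out.eq_two_or_odd' with h2 | hodd
    · have e : (2 : K) = 0 := by
        subst h2
        exact_mod_cast CharP.cast_eq_zero K 2
      have hn : (-1 : K) = 1 := by linear_combination -e
      rw [hn, one_pow]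
    · exact (hodd.pow).neg_one_pow

theorem exists_sylow_sympUni [Fintype K] (hm : 0 < m) :
    ∃ S : Sylow p PSpm, (S : Subgroup PSpm) = (sympUni K m).map (QuotientGroup.mk' (Subgroup.center Spm)) := by
  classical
  haveI : Finite PSpm := inferInstance
  set U : Subgroup PSpm := (sympUni K m).map (QuotientGroup.mk' (Subgroup.center Spm))
  have hU : IsPGroup p U := by
    rintro ⟨_, x, hx, rfl⟩
    refine ⟨m + 1, Subtype.ext ?_⟩
    show (QuotientGroup.mk' (Subgroup.center Spm) x) ^ p ^ (m + 1) = 1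
    rw [← map_pow, sympUni_pow p hx, map_one]
  obtain ⟨S, hS⟩ := hU.exists_le_sylow
  refine ⟨S, ?_⟩
  by_contra hne
  have hlt : U < (S : Subgroup PSpm) := lt_of_le_of_ne hS fun e => hne e.symm
  obtain ⟨g, hg, hgU⟩ := SetLike.exists_of_lt (Cfsg.Agent.Fusion.lt_inf_normalizer S.2.isNilpotent hlt)
  obtain ⟨M, rfl⟩ := QuotientGroup.mk_surjective g
  obtain ⟨A, X, hX, hA, rfl⟩ := borel_of_conj (g := M) fun u hu => by
    obtain ⟨v, hv, he⟩ := (Subgroup.mem_normalizer_iff.1 hg.2 _).1 ⟨u, hu, rfl⟩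
    have hpw : (M * u * M⁻¹) ^ p ^ (m + 1) = 1 := by rw [conj_pow, sympUni_pow p hu, mul_one, mul_inv_cancel]
    exact eq_of_mk_eq p (sympUni_pow p hv) hpw he ▸ hv
  set g := lev A * rr X hX with hgdef
  obtain ⟨k, hk⟩ := S.2 ⟨_, hg.1⟩
  have hk' : (QuotientGroup.mk (g ^ p ^ k) : PSpm) = 1 := congrArg Subtype.val hk
  rw [QuotientGroup.eq_one_iff] at hk'
  obtain ⟨c, hc, hce⟩ := center_coe hm hk'
  have h21 : (g : Mm).toBlocks₂₁ = 0 := by rw [hgdef, lev_mul_rr_blocks, toBlocks_fromBlocks₂₁]
  have h11 : (g : Mm).toBlocks₁₁ = (A : Mn) := by rw [hgdef, lev_mul_rr_blocks, toBlocks_fromBlocks₁₁]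
  have hpows : ∀ n : ℕ, ((g ^ n : Spm) : Mm).toBlocks₂₁ = 0 ∧
      ((g ^ n : Spm) : Mm).toBlocks₁₁ = (A : Mn) ^ n := by
    intro n
    induction n with
    | zero =>
      rw [pow_zero, pow_zero, show ((1 : Spm) : Mm) = fromBlocks 1 0 0 1 from fromBlocks_one.symm]
      exact ⟨toBlocks_fromBlocks₂₁ _ _ _ _, toBlocks_fromBlocks₁₁ _ _ _ _⟩
    | succ n ih =>
      have hb := blocks_mul ih.1 h21
      rw [pow_succ, pow_succ]
      exact ⟨hb.1, by rw [hb.2, ih.2, h11]⟩
  have hdiag : ∀ (n : ℕ) (i : Fin m), ((A : Mn) ^ n) i i = (A : Mn) i i ^ n ∧ IsUpper ((A : Mn) ^ n) := by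
    intro n i
    induction n with
    | zero => exact ⟨by simp, by simpa using isUpper_one⟩
    | succ n ih => rw [pow_succ, pow_succ]; exact ⟨by rw [upper_mul_diag ih.2 hA, ih.1], isUpper_mul ih.2 hA⟩
  haveI : ExpChar K p := ExpChar.prime hp.out
  have hAc : ∀ i, (A : Mn) i i = c := fun i => by
    refine iterateFrobenius_inj K p k ?_
    rw [iterateFrobenius_def, iterateFrobenius_def, scalar_pow p hc, ← (hdiag _ i).1, ← (hpows _).2, hce,
      toBlocks₁₁, Matrix.of_apply, Matrix.smul_apply, Matrix.one_apply_eq, smul_eq_mul, mul_one]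
  refine hgU ⟨lev (scU c hc * A) * rr X hX, ?_, ?_⟩
  · refine (sympUni K m).mul_mem (lev_mem ⟨fun i j hij => ?_, fun i => ?_⟩) (rr_mem hX)
    · show ((c • (1 : Mn)) * (A : Mn)) i j = 0
      rw [smul_mul_assoc, one_mul, Matrix.smul_apply, hA i j hij, smul_zero]
    · show ((c • (1 : Mn)) * (A : Mn)) i i = 1
      rw [smul_mul_assoc, one_mul, Matrix.smul_apply, hAc, smul_eq_mul, hc]
  · rw [map_mul lev, mul_assoc, map_mul (QuotientGroup.mk' (Subgroup.center Spm)),
      show QuotientGroup.mk' (Subgroup.center Spm) (lev (scU c hc)) = 1 from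
        (QuotientGroup.eq_one_iff _).2 (lev_scalar_center hc rfl), one_mul]
    rfl

end sylow

/-! ### Helpers -/

theorem centric_of_centralizer {p : ℕ} {G : Type*} [Group G] [Finite G] (S : Sylow p G) [Fact p.Prime]
    {R : Subgroup G} (hR : R ≤ (S : Subgroup G)) (h : Subgroup.centralizer (R : Set G) ≤ R) :
    (groupFusionSystem (S : Subgroup G)).IsCentric R := by
  refine ⟨hR, fun Q hQ => ?_⟩
  obtain ⟨-, -, g, rfl⟩ := (group_isConj_iff S).1 hQ
  intro y hy
  refine ⟨g⁻¹ * y * g, h (Subgroup.mem_centralizer_iff.2 fun x hx => ?_), by simp [mul_assoc]⟩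
  have h1 := Subgroup.mem_centralizer_iff.1 hy.2 _ ⟨x, hx, rfl⟩
  change g * x * g⁻¹ * y = y * (g * x * g⁻¹) at h1
  calc x * (g⁻¹ * y * g) = g⁻¹ * (g * x * g⁻¹ * y) * g := by group
    _ = g⁻¹ * (y * (g * x * g⁻¹)) * g := by rw [h1]
    _ = g⁻¹ * y * g * x := by group

theorem exists_sq_span [Fintype K] (p : ℕ) [hp : Fact p.Prime] [CharP K p] {P : K → Prop} {a : K} (ha : a ≠ 0)
    (h : P a) (hsub : ∀ x y, P x → P y → P (x - y)) (hsq : ∀ x (t : K), t ≠ 0 → P x → P (t * x * t))
    (c : K) : P c := by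
  have h0 : P 0 := by simpa using hsub a a h h
  have hall : ∀ t : K, P (t * a * t) := fun t => by
    rcases eq_or_ne t 0 with rfl | ht
    · simpa using h0
    · exact hsq a t ht h
  rcases eq_or_ne p 2 with rfl | h2
  · obtain ⟨t, ht⟩ := ((Finite.injective_iff_bijective).1
      (frobenius_inj K 2)).2 (c / a)
    rw [frobenius_def, pow_two] at ht
    have := hall t
    rwa [show t * a * t = (c / a) * a by rw [← ht]; ring, div_mul_cancel₀ _ ha] at this
  · have h2' : (2 : K) ≠ 0 := by
      intro e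
      have := (CharP.cast_eq_zero_iff K p 2).1 (by exact_mod_cast e)
      exact h2 ((Nat.prime_dvd_prime_iff_eq hp.out Nat.prime_two).1 this)
    have := hsub _ _ (hall ((c / a + 1) / 2)) (hall ((c / a - 1) / 2))
    rwa [show (c / a + 1) / 2 * a * ((c / a + 1) / 2) - (c / a - 1) / 2 * a * ((c / a - 1) / 2) = c by
      field_simp; ring] at this

/-! ### Simplicity -/

section simple

variable {p : ℕ} [hp : Fact p.Prime] [CharP K p] [Fintype K]

set_option maxHeartbeats 1000000 in
theorem psp_isSimple (hm : 2 ≤ m) (hex : m = 2 → 3 ≤ Fintype.card K) (S : Sylow p PSpm) :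
    (groupFusionSystem (S : Subgroup PSpm)).IsSimple p := by
  classical
  haveI : Finite PSpm := inferInstance
  obtain ⟨S₀, hS₀⟩ := exists_sylow_sympUni (K := K) (m := m) p (by omega)
  obtain ⟨c, hc⟩ := MulAction.exists_smul_eq PSpm S₀ S
  set π : Spm →* PSpm := (MulAut.conj c).toMonoidHom.comp (QuotientGroup.mk' (Subgroup.center Spm)) with hπ
  have hS : (S : Subgroup PSpm) = (sympUni K m).map π := by
    rw [← hc, hπ, ← Subgroup.map_map, ← hS₀]; rfl
  have hπs : Function.Surjective π := fun g => by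
    obtain ⟨x, hx⟩ := QuotientGroup.mk_surjective (c⁻¹ * g * c)
    refine ⟨x, ?_⟩
    show c * QuotientGroup.mk x * c⁻¹ = g
    rw [hx]; group
  have hπz : ∀ {z : Spm}, z ∈ Subgroup.center Spm → π z = 1 := fun {z} hz => by
    show c * QuotientGroup.mk z * c⁻¹ = 1
    rw [(QuotientGroup.eq_one_iff z).2 hz, mul_one, mul_inv_cancel]
  have hinj : ∀ {x y : Spm} {a b : ℕ}, π x = π y → x ^ p ^ a = 1 → y ^ p ^ b = 1 → x = y :=
    fun h hx hy => eq_of_mk_eq p hx hy ((MulAut.conj c).injective h)
  have hcomm : ∀ {M x : Spm} {a : ℕ}, π x * π M = π M * π x → x ^ p ^ a = 1 → M * x = x * M := by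
    intro M x a h hx
    refine mul_inv_eq_iff_eq_mul.1 (hinj ?_ (show (M * x * M⁻¹) ^ p ^ a = 1 by
      rw [conj_pow, hx, mul_one, mul_inv_cancel]) hx)
    rw [map_mul, map_mul, map_inv, ← h, mul_inv_cancel_right]
  have hmemS : ∀ {x : Spm}, x ∈ sympUni K m → π x ∈ (S : Subgroup PSpm) := fun hx => by
    rw [hS]; exact ⟨_, hx, rfl⟩
  have hS' : ∀ {g : PSpm}, g ∈ (S : Subgroup PSpm) → ∃ x ∈ sympUni K m, π x = g := fun hg => by
    rw [hS] at hg; exact hg
  have hmapN : ∀ {H : Subgroup Spm} {x : Spm}, x ∈ Subgroup.normalizer (H : Set Spm) →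
      π x ∈ Subgroup.normalizer (H.map π : Set PSpm) := fun {H x} hx =>
    Subgroup.le_normalizer_map π ⟨x, hx, rfl⟩
  obtain ⟨z, hz⟩ : ∃ z : Fin m, (z : ℕ) = 0 := ⟨⟨0, by omega⟩, rfl⟩
  obtain ⟨o, ho⟩ : ∃ o : Fin m, (o : ℕ) = 1 := ⟨⟨1, by omega⟩, rfl⟩
  obtain ⟨l, hl⟩ : ∃ l : Fin m, (l : ℕ) = m - 1 := ⟨⟨m - 1, by omega⟩, rfl⟩
  have hzo : z < o := by rw [Fin.lt_def]; omega
  have hlz : l ≠ z := fun e => by rw [e, hz] at hl; omega
  -- no proper strongly closed subgroups
  have hsc : ∀ T : Subgroup PSpm, (groupFusionSystem (S : Subgroup PSpm)).StronglyClosed T →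
      T = ⊥ ∨ T = (S : Subgroup PSpm) := by
    intro T hT
    by_cases hT1 : T = ⊥
    · exact Or.inl hT1
    refine Or.inr (le_antisymm hT.1 ?_)
    have hcl := ((group_stronglyClosed_iff S).1 hT).2
    haveI : Group.IsNilpotent (S : Subgroup PSpm) := S.2.isNilpotent
    have hTn : (T.subgroupOf (S : Subgroup PSpm)).Normal := ⟨fun t ht s =>
      hcl s t ht ((S : Subgroup PSpm).mul_mem ((S : Subgroup PSpm).mul_mem s.2 t.2) ((S : Subgroup PSpm).inv_mem s.2))⟩
    have hTne : T.subgroupOf (S : Subgroup PSpm) ≠ ⊥ := by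
      rw [Ne, Subgroup.subgroupOf_eq_bot]
      exact fun h => hT1 (disjoint_self.1 (h.mono_right hT.1))
    obtain ⟨⟨⟨t, htS⟩, htmem⟩, htne⟩ :=
      Subgroup.ne_bot_iff_exists_ne_one.1 (Cfsg.Agent.SolvStruct.inf_center_ne_bot hTne)
    obtain ⟨htT, htC⟩ := Subgroup.mem_inf.1 htmem
    obtain ⟨x, hx, rfl⟩ := hS' htS
    have hxc : ∀ y ∈ sympUni K m, x * y = y * x := fun y hy => by
      refine hcomm ?_ (sympUni_pow p hy)
      exact congrArg Subtype.val (Subgroup.mem_center_iff.1 htC ⟨π y, hmemS hy⟩)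
    obtain ⟨c', X, hX, A, -, hA, rfl⟩ := centralizer_rr fun X hX => hxc _ (rr_mem hX)
    have hA1 : A = 1 := by
      have h := hx.2.2 z
      rw [lev_mul_rr_blocks, toBlocks_fromBlocks₁₁, hA, Matrix.smul_apply, Matrix.one_apply_eq, smul_eq_mul,
        mul_one] at h
      exact Units.ext (by rw [hA, h, one_smul]; rfl)
    subst hA1
    rw [map_one, one_mul] at hx hxc
    have htT' : π (rr X hX) ∈ T := by
      have h : π (lev 1 * rr X hX) ∈ T := htT
      rwa [map_one, one_mul] at h
    let P : Mn → Prop := fun X => ∃ h : Xᵀ = X, π (rr X h) ∈ T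
    have hPX : P X := ⟨hX, htT'⟩
    have hX0 : X ≠ 0 := by
      rintro rfl
      exact htne (Subtype.ext (Subtype.ext (by show π _ = 1; rw [map_one, one_mul, rr_zero, map_one])))
    have hadd : ∀ X Y, P X → P Y → P (X + Y) := by
      rintro X Y ⟨hX, hXT⟩ ⟨hY, hYT⟩
      refine ⟨by rw [transpose_add, hX, hY], ?_⟩
      rw [← rr_mul hX hY, map_mul]
      exact T.mul_mem hXT hYT
    have hsub : ∀ X Y, P X → P Y → P (X - Y) := by
      rintro X Y hX ⟨hY, hYT⟩
      rw [sub_eq_add_neg]
      refine hadd _ _ hX ⟨by rw [transpose_neg, hY], ?_⟩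
      rw [← rr_inv hY, map_inv]
      exact T.inv_mem hYT
    have hconj : ∀ (A : (Mn)ˣ) X, P X → P ((A : Mn) * X * (A : Mn)ᵀ) := by
      rintro A X ⟨hX, hXT⟩
      refine ⟨by rw [transpose_mul, transpose_mul, transpose_transpose, hX, mul_assoc], ?_⟩
      have h := hcl (π (lev A)) _ hXT (by
        rw [← map_inv, ← map_mul, ← map_mul, lev_conj_rr]; exact hmemS (rr_mem _))
      rw [← map_inv, ← map_mul, ← map_mul, lev_conj_rr] at h
      exact h
    have hform := fixed_entries hX (fun k i hki => by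
      have h := hxc _ (lev_mem (el_isUni hki (1 : K)))
      have h2 : lev (el hki.ne (1 : K)) * rr X hX * (lev (el hki.ne (1 : K)))⁻¹ = (rr X hX : Spm) := by
        rw [← h, mul_inv_cancel_right]
      rw [lev_conj_rr] at h2
      have h3 := congrArg (fun y : Spm => (y : Mm).toBlocks₁₂) h2
      simpa [rr_coe] using h3) hz ho
    -- short elements from one short element
    have hshort : ∀ b : K, b ≠ 0 → P (sshort z o b) → ∀ c, P (sshort z o c) := by
      intro b hb h c
      rcases eq_or_ne c 0 with rfl | hc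
      · have := hsub _ _ h h
        rw [sub_self] at this
        simpa [sshort] using this
      · have h1 := hconj (dU (Function.update (fun _ => (1 : Kˣ)) z (Units.mk0 (c / b) (div_ne_zero hc hb)))) _ h
        rw [dU_conj_sshort, Function.update_self, Function.update_of_ne hzo.ne'] at h1
        simpa [div_mul_cancel₀ _ hb] using h1
    -- Levi elements from short elements
    have hlevel : ∀ i j : Fin m, ∀ h : i < j, ∀ c : K, P (sshort i j c) → π (lev (el h.ne c)) ∈ T := by
      rintro i j h c ⟨h', hT'⟩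
      have he := weyl_conj_short h c
      generalize rr (Matrix.single j j (1 : K)) (single_self_transpose _ _) *
        rl (Matrix.single j j (-1 : K)) (single_self_transpose _ _) *
        rr (Matrix.single j j (1 : K)) (single_self_transpose _ _) = w at he
      have e : π w * π (rr (sshort i j c) h') * (π w)⁻¹ = π (lev (el h.ne c)) := by
        rw [← map_inv, ← map_mul, ← map_mul, he, mul_inv_cancel_right]
      have h2 := hcl (π w) _ hT' (by rw [e]; exact hmemS (lev_mem (el_isUni h c)))
      rwa [e] at h2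
    -- a long element
    obtain ⟨a, ha, hPa⟩ : ∃ a : K, a ≠ 0 ∧ P (Matrix.single z z a) := by
      rcases eq_or_ne (X z o) 0 with hb | hb
      · have e : X = Matrix.single z z (X z z) := by
          conv_lhs => rw [hform, hb]
          simp [sshort]
        refine ⟨X z z, fun h => hX0 (by rw [e, h, Matrix.single_zero]), e ▸ hPX⟩
      have hs1 : ∃ b : K, b ≠ 0 ∧ P (sshort z o b) := by
        have hPX' : P (Matrix.single z z (X z z) + sshort z o (X z o)) := hform ▸ hPX
        rcases lt_or_eq_of_le hm with h3 | h2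
        · -- move to a third coordinate
          set r : Fin m := ⟨2, h3⟩
          have hro : r ≠ o := fun e => by
            have := congrArg Fin.val e
            simp [r] at this
            omega
          have hrz : r ≠ z := fun e => by
            have := congrArg Fin.val e
            simp [r] at this
            omega
          have h1 := hsub _ _ (hconj (el hro (1 : K)) _ hPX) hPX
          have e1 : ((el hro (1 : K) : (Mn)ˣ) : Mn) * X * ((el hro (1 : K) : (Mn)ˣ) : Mn)ᵀ - X =
              sshort z r (X z o) := by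
            ext u v
            rw [Matrix.sub_apply, conj_el X hX hro, hform]
            rcases eq_or_ne r u with rfl | hu <;> rcases eq_or_ne r v with rfl | hv
            · simp [sshort, Matrix.single_apply, hro, hro.symm, hrz, hrz.symm, hzo.ne, hzo.ne']
            · simp [hv, hv.symm, sshort, Matrix.single_apply, hro, hro.symm, hrz, hrz.symm, hzo.ne, hzo.ne']
            · simp [hu, hu.symm, sshort, Matrix.single_apply, hro, hro.symm, hrz, hrz.symm, hzo.ne, hzo.ne']
            · simp [hu, hu.symm, hv, hv.symm, sshort, Matrix.single_apply, hro, hro.symm, hrz, hrz.symm, hzo.ne, hzo.ne']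
          rw [e1] at h1
          have h4 := hconj (el hro.symm (1 : K)) _ h1
          have e2 : ((el hro.symm (1 : K) : (Mn)ˣ) : Mn) * sshort z r (X z o) *
              ((el hro.symm (1 : K) : (Mn)ˣ) : Mn)ᵀ - sshort z r (X z o) = sshort z o (X z o) := by
            ext u v
            rw [Matrix.sub_apply, conj_el _ (sshort_transpose _ _ _) hro.symm]
            rcases eq_or_ne o u with rfl | hu <;> rcases eq_or_ne o v with rfl | hv
            · simp [sshort, Matrix.single_apply, hro, hro.symm, hrz, hrz.symm, hzo.ne, hzo.ne']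
            · simp [hv, hv.symm, sshort, Matrix.single_apply, hro, hro.symm, hrz, hrz.symm, hzo.ne, hzo.ne']
            · simp [hu, hu.symm, sshort, Matrix.single_apply, hro, hro.symm, hrz, hrz.symm, hzo.ne, hzo.ne']
            · simp [hu, hu.symm, hv, hv.symm, sshort, Matrix.single_apply, hro, hro.symm, hrz, hrz.symm, hzo.ne, hzo.ne']
          exact ⟨_, hb, e2 ▸ hsub _ _ h4 h1⟩
        · have h3' := hex h2.symm
          obtain ⟨t, ht0, ht1⟩ : ∃ t : K, t ≠ 0 ∧ t ≠ 1 := by
            by_contra hno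
            push Not at hno
            have hle : Fintype.card K ≤ ({0, 1} : Finset K).card := Finset.card_le_card (s := Finset.univ)
              fun x _ => by
                rcases eq_or_ne x 0 with rfl | hx
                · simp
                · simp [hno x hx]
            have h2' : ({0, 1} : Finset K).card ≤ 2 := Finset.card_le_two
            omega
          have h1 := hsub _ _ (hconj (dU (Function.update (fun _ => (1 : Kˣ)) o (Units.mk0 t ht0))) _ hPX') hPX'
          rw [mul_add, add_mul, dU_conj_single, dU_conj_sshort, Function.update_self,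
            Function.update_of_ne hzo.ne] at h1
          simp only [Units.val_one, Units.val_mk0, one_mul, mul_one, add_sub_add_left_eq_sub] at h1
          refine ⟨X z o * t - X z o, ?_, ?_⟩
          · rw [← mul_sub_one]; exact mul_ne_zero hb (sub_ne_zero.2 ht1)
          · convert h1 using 1
            ext u v
            simp only [sshort, Matrix.sub_apply, Matrix.add_apply, Matrix.single_apply]
            split_ifs <;> ring
      obtain ⟨b, hb', hsb⟩ := hs1
      have hL := hlevel z o hzo 1 (hshort b hb' hsb 1)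
      -- the commutator with a long element
      set Y : Mn := Matrix.single o o 1
      have hY : Yᵀ = Y := single_self_transpose _ _
      set L : (Mn)ˣ := el hzo.ne (1 : K)
      have hr : π (rr Y hY) ∈ (S : Subgroup PSpm) := hmemS (rr_mem hY)
      have hLS := hmemS (lev_mem (el_isUni hzo (1 : K)))
      have h5 : π (rr Y hY) * (π (lev L))⁻¹ * (π (rr Y hY))⁻¹ ∈ T := hcl _ _ (T.inv_mem hL)
        ((S : Subgroup PSpm).mul_mem ((S : Subgroup PSpm).mul_mem hr ((S : Subgroup PSpm).inv_mem hLS))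
          ((S : Subgroup PSpm).inv_mem hr))
      have h6 := T.mul_mem hL h5
      have e5 : π (lev L) * (π (rr Y hY) * (π (lev L))⁻¹ * (π (rr Y hY))⁻¹) =
          π (lev L * rr Y hY * (lev L)⁻¹ * (rr Y hY)⁻¹) := by
        simp only [map_mul, map_inv, mul_assoc]
      rw [e5, lev_conj_rr, rr_inv, rr_mul] at h6
      have h7 : P ((L : Mn) * Y * (L : Mn)ᵀ + -Y) := ⟨_, h6⟩
      have e3 : (L : Mn) * Y * (L : Mn)ᵀ + -Y = Matrix.single z z 1 + sshort z o 1 := by
        ext u v
        rw [Matrix.add_apply, conj_el _ hY hzo.ne]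
        rcases eq_or_ne z u with rfl | hu <;> rcases eq_or_ne z v with rfl | hv
        · simp [sshort, Matrix.single_apply, Y, hzo.ne, hzo.ne']
        · simp [hv, hv.symm, sshort, Matrix.single_apply, Y, hzo.ne, hzo.ne']
        · simp [hu, hu.symm, sshort, Matrix.single_apply, Y, hzo.ne, hzo.ne']
        · simp [hu, hu.symm, hv, hv.symm, sshort, Matrix.single_apply, Y, hzo.ne, hzo.ne']
      rw [e3] at h7
      refine ⟨1, one_ne_zero, ?_⟩
      have := hsub _ _ h7 (hshort b hb' hsb 1)
      rwa [add_sub_cancel_right] at this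
    have hlong : ∀ c : K, P (Matrix.single z z c) := by
      refine exists_sq_span p (P := fun c => P (Matrix.single z z c)) ha hPa (fun x y hx hy => ?_) fun x t ht hx => ?_
      · have := hsub _ _ hx hy
        convert this using 1
        ext u v
        simp only [Matrix.sub_apply, Matrix.single_apply]
        split_ifs <;> simp
      · have := hconj (dU (Function.update (fun _ => (1 : Kˣ)) z (Units.mk0 t ht))) _ hx
        rwa [dU_conj_single, Function.update_self] at this
    have helc : ∀ (k i : Fin m) (h : k ≠ i) (t c : K), ((el h t : (Mn)ˣ) : Mn) * Matrix.single i i c *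
        ((el h t : (Mn)ˣ) : Mn)ᵀ = Matrix.single i i c + sshort k i (t * c) + Matrix.single k k (t * t * c) := by
      intro k i h t c
      ext u v
      rw [conj_el _ (single_self_transpose _ _) h]
      rcases eq_or_ne k u with rfl | hu <;> rcases eq_or_ne k v with rfl | hv
      · simp [sshort, Matrix.single_apply, h, h.symm]
      · simp [hv, hv.symm, sshort, Matrix.single_apply, h, h.symm]
      · simp [hu, hu.symm, sshort, Matrix.single_apply, h, h.symm]
      · simp [hu, hu.symm, hv, hv.symm, sshort, Matrix.single_apply, h, h.symm]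
    have hdiagP : ∀ (i : Fin m) (c : K), P (Matrix.single i i c) := by
      intro i c
      rcases eq_or_ne i z with rfl | hi
      · exact hlong c
      have h1 := hconj (el hi (1 : K)) _ (hlong c)
      have h2 := hconj (el hi.symm (-1 : K)) _ h1
      convert h2 using 1
      rw [helc]
      ext u v
      rw [conj_el _ (by simp [sshort_transpose]) hi.symm]
      rcases eq_or_ne z u with rfl | hu <;> rcases eq_or_ne z v with rfl | hv
      · simp [sshort, Matrix.single_apply, hi, hi.symm]
      · simp [hv, hv.symm, sshort, Matrix.single_apply, hi, hi.symm]; split_ifs <;> simp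
      · simp [hu, hu.symm, sshort, Matrix.single_apply, hi, hi.symm]; split_ifs <;> simp
      · simp [hu, hu.symm, hv, hv.symm, sshort, Matrix.single_apply, hi, hi.symm]
    have hshortP : ∀ (i j : Fin m), i < j → ∀ c : K, P (sshort i j c) := by
      intro i j hij c
      have h1 := hsub _ _ (hsub _ _ (hconj (el hij.ne (1 : K)) _ (hdiagP j c)) (hdiagP j c)) (hdiagP i c)
      rwa [helc, one_mul, one_mul, one_mul, add_assoc, add_sub_cancel_left, add_sub_cancel_right] at h1
    have hall : ∀ Y : Mn, ∀ hY : Yᵀ = Y, π (rr Y hY) ∈ T := fun Y hY => by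
      obtain ⟨_, h⟩ : P Y := symm_induction (by simpa using hsub _ _ hPX hPX) hadd hdiagP hshortP hY
      exact h
    rw [hS, Subgroup.map_le_iff_le_comap]
    intro u hu
    obtain ⟨A, Y, hY, hA, rfl⟩ := exists_lev_rr u hu.1
    have hAu : IsUni (A : Mn) := hA ▸ hu.2
    refine Subgroup.mem_comap.2 ?_
    rw [map_mul]
    refine T.mul_mem ?_ (hall Y hY)
    set f : Matrix.SpecialLinearGroup (Fin m) K →* PSpm := π.comp (lev.comp Matrix.SpecialLinearGroup.toGL)
    let xA : Matrix.SpecialLinearGroup (Fin m) K := ⟨A, by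
      rw [Matrix.det_of_upperTriangular (hAu.1 : Matrix.BlockTriangular _ id)]
      exact Finset.prod_eq_one fun i _ => hAu.2 i⟩
    have hle : uni K m ≤ T.comap f := uni_le fun i j hij b => by
      show π (lev (Matrix.SpecialLinearGroup.toGL (Matrix.SpecialLinearGroup.transvection hij.ne b))) ∈ T
      rw [show Matrix.SpecialLinearGroup.toGL (Matrix.SpecialLinearGroup.transvection hij.ne b) = el hij.ne b from
        Units.ext (coe_transvection hij.ne b)]
      exact hlevel i j hij b (hshortP i j hij b)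
    have h := hle (show xA ∈ uni K m from hAu)
    rwa [Subgroup.mem_comap, show f xA = π (lev A) from congrArg (fun B : (Mn)ˣ => π (lev B)) (Units.ext rfl)] at h
  refine group_isSimple_of_generated S (fun h => ?_) hsc ?_
  · have h1 : π (rr (Matrix.single z z (1 : K)) (single_self_transpose _ _)) ∈ (S : Subgroup PSpm) :=
      hmemS (rr_mem _)
    rw [h, Subgroup.mem_bot] at h1
    have h2 := hinj (y := 1) (a := 1) (b := 0) (by rw [h1, map_one]) (by rw [pow_one]; exact rr_pow_char p _)
      (one_pow _)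
    have h3 := congrArg (fun y : Spm => (y : Mm) (Sum.inl z) (Sum.inr z)) h2
    simp [rr_coe] at h3
  -- the normalizer of `S`
  intro g hg
  obtain ⟨M, rfl⟩ := hπs g
  set N := Subgroup.closure {g : PSpm | g ∈ Subgroup.normalizer ((S : Subgroup PSpm) : Set PSpm) ∧
    ((∀ x ∈ (S : Subgroup PSpm), g * x * g⁻¹ = x) ∨ g ∈ (S : Subgroup PSpm) ∨
      ∃ R : Subgroup PSpm, (groupFusionSystem (S : Subgroup PSpm)).IsFullyNormalized R ∧
        (groupFusionSystem (S : Subgroup PSpm)).IsCentric R ∧
        g ∈ Subgroup.closure {g : PSpm | g ∈ Subgroup.normalizer (R : Set PSpm) ∧ ∃ k : ℕ, orderOf g = p ^ k})}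
  obtain ⟨A, X, hX, hA, rfl⟩ := borel_of_conj (g := M) fun u hu => by
    obtain ⟨v, hv, he⟩ := hS' ((Subgroup.mem_normalizer_iff.1 hg _).1 (hmemS hu))
    rw [← map_inv, ← map_mul, ← map_mul] at he
    exact hinj he (sympUni_pow p hv) (show (M * u * M⁻¹) ^ p ^ (m + 1) = 1 by
      rw [conj_pow, sympUni_pow p hu, mul_one, mul_inv_cancel]) ▸ hv
  have hd : ∀ i, (A : Mn) i i ≠ 0 := fun i hi => by
    have h := (Matrix.isUnit_iff_isUnit_det _).1 A.isUnit
    rw [Matrix.det_of_upperTriangular (hA : Matrix.BlockTriangular _ id),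
      Finset.prod_eq_zero (f := fun q => (A : Mn) q q) (Finset.mem_univ i) hi] at h
    exact not_isUnit_zero h
  set d : Fin m → Kˣ := fun i => Units.mk0 _ (hd i) with hdd
  have hSN : ∀ {x : Spm}, x ∈ sympUni K m → π x ∈ N := fun hx =>
    Subgroup.subset_closure ⟨Subgroup.le_normalizer (hmemS hx), Or.inr (Or.inl (hmemS hx))⟩
  have hDn : ∀ d : Fin m → Kˣ, π (lev (dU d)) ∈ Subgroup.normalizer ((S : Subgroup PSpm) : Set PSpm) := by
    intro d
    rw [hS]
    refine hmapN (mem_normalizer_of_conj_mem _ (fun u hu => lev_normalizes (dU_isUpper d) hu) fun u hu => ?_)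
    have hi : IsUpper (((dU d)⁻¹ : (Mn)ˣ) : Mn) := fun i j h => Matrix.diagonal_apply_ne _ (ne_of_gt h)
    have := lev_normalizes hi hu
    rwa [map_inv, inv_inv] at this
  suffices hT : ∀ d : Fin m → Kˣ, π (lev (dU d)) ∈ N by
    have hu : (dU d)⁻¹ * A = (dU d)⁻¹ * A := rfl
    have hun : IsUni (((dU d)⁻¹ * A : (Mn)ˣ) : Mn) := by
      show IsUni (Matrix.diagonal (fun i => (((d i)⁻¹ : Kˣ) : K)) * (A : Mn))
      refine ⟨fun i j hij => ?_, fun i => ?_⟩ <;> rw [Matrix.diagonal_mul]
      · rw [hA i j hij, mul_zero]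
      · rw [show ((d i)⁻¹ : Kˣ) = (Units.mk0 _ (hd i))⁻¹ from rfl]; simp [hd i]
    have := N.mul_mem (hT d) (hSN ((sympUni K m).mul_mem (lev_mem hun) (rr_mem hX)))
    rwa [← map_mul, ← mul_assoc, ← map_mul, mul_inv_cancel_left] at this
  -- local subgroups
  have hgen : ∀ {H : Subgroup Spm}, H.map π ≤ (S : Subgroup PSpm) →
      sympUni K m ≤ Subgroup.normalizer (H : Set Spm) →
      (∀ x : Spm, (∀ y ∈ H, x * y = y * x) → ∃ w ∈ Subgroup.center Spm, w * x ∈ H) →
      (∀ y ∈ H, ∃ a, y ^ p ^ a = 1) →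
      ∀ {x : Spm}, π x ∈ Subgroup.normalizer ((S : Subgroup PSpm) : Set PSpm) →
        x ∈ Subgroup.closure {y : Spm | y ∈ Subgroup.normalizer (H : Set Spm) ∧ y ^ p = 1} → π x ∈ N := by
    intro H hHS hUH hcent hpow x hxS hx
    refine Subgroup.subset_closure ⟨hxS, Or.inr (Or.inr ⟨H.map π, ?_, ?_, ?_⟩)⟩
    · refine group_fullyNormalized_of_le_normalizer S hHS ?_
      intro g hg
      obtain ⟨u, hu, rfl⟩ := hS' hg
      exact hmapN (hUH hu)
    · refine centric_of_centralizer S hHS fun y hy => ?_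
      obtain ⟨M', rfl⟩ := hπs y
      obtain ⟨w, hw, hwx⟩ := hcent M' fun u hu => by
        obtain ⟨a, ha⟩ := hpow u hu
        exact hcomm (Subgroup.mem_centralizer_iff.1 hy _ ⟨u, hu, rfl⟩) ha
      exact ⟨_, hwx, by rw [map_mul, hπz hw, one_mul]⟩
    · have h1 := Subgroup.mem_map_of_mem π hx
      rw [MonoidHom.map_closure] at h1
      refine Subgroup.closure_mono ?_ h1
      rintro _ ⟨y, ⟨hy, hyp⟩, rfl⟩
      refine ⟨hmapN hy, ?_⟩
      obtain ⟨k, -, hk⟩ := (Nat.dvd_prime_pow hp.out).1
        (orderOf_dvd_of_pow_eq_one (show π y ^ p ^ 1 = 1 by rw [pow_one, ← map_pow, hyp, map_one]))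
      exact ⟨k, hk⟩
  -- the Siegel radical
  let RS : Subgroup Spm :=
    { carrier := {u | ∃ (X : Mn) (h : Xᵀ = X), u = rr X h}
      one_mem' := ⟨0, transpose_zero, rr_zero.symm⟩
      mul_mem' := by rintro _ _ ⟨X, hX, rfl⟩ ⟨Y, hY, rfl⟩; exact ⟨_, _, rr_mul hX hY⟩
      inv_mem' := by rintro _ ⟨X, hX, rfl⟩; exact ⟨_, _, rr_inv hX⟩ }
  have hRSn : ∀ B : (Mn)ˣ, lev B ∈ Subgroup.normalizer (RS : Set Spm) := fun B => by
    refine mem_normalizer_of_conj_mem _ ?_ ?_
    · rintro _ ⟨X, hX, rfl⟩; exact ⟨_, _, lev_conj_rr B hX⟩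
    · rintro _ ⟨X, hX, rfl⟩
      have := lev_conj_rr B⁻¹ hX
      rw [map_inv, inv_inv] at this
      exact ⟨_, _, this⟩
  have hRSU : sympUni K m ≤ Subgroup.normalizer (RS : Set Spm) := fun u hu => by
    obtain ⟨B, Y, hY, -, rfl⟩ := exists_lev_rr u hu.1
    exact Subgroup.mul_mem _ (hRSn B) (Subgroup.le_normalizer ⟨Y, hY, rfl⟩)
  have hSL : ∀ x : Matrix.SpecialLinearGroup (Fin m) K, (∀ i j : Fin m, i ≠ j → (x : Mn) i j = 0) →
      π (lev (Matrix.SpecialLinearGroup.toGL x)) ∈ N := by
    intro x hx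
    refine diag_mem (A := N.comap (π.comp (lev.comp Matrix.SpecialLinearGroup.toGL))) (fun k q hqk hkq a ha => ?_) hx
    refine Subgroup.mem_comap.2 (hgen (H := RS) (x := lev (Matrix.SpecialLinearGroup.toGL
      (Matrix.SpecialLinearGroup.diag2n hqk a ha))) ?_ hRSU ?_ ?_ ?_ ?_)
    · rintro _ ⟨_, ⟨X, hX, rfl⟩, rfl⟩; exact hmemS (rr_mem hX)
    · intro y hy
      obtain ⟨c', Y, hY, B, hc', hB, rfl⟩ := centralizer_rr fun X hX => hy _ ⟨X, hX, rfl⟩
      refine ⟨(lev B)⁻¹, inv_mem (lev_scalar_center hc' hB), Y, hY, by rw [inv_mul_cancel_left]⟩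
    · rintro _ ⟨X, hX, rfl⟩
      exact ⟨1, by rw [pow_one]; exact rr_pow_char p hX⟩
    · let D : Fin m → Kˣ := fun i => Units.mk0 ((Matrix.SpecialLinearGroup.diag2n hqk a ha : Mn) i i) (by
        rw [Matrix.SpecialLinearGroup.diag2n_coe, Matrix.diagonal_apply_eq]
        split_ifs <;> simp [ha])
      have e : Matrix.SpecialLinearGroup.toGL (Matrix.SpecialLinearGroup.diag2n hqk a ha) = dU D := by
        refine Units.ext ?_
        show (Matrix.SpecialLinearGroup.diag2n hqk a ha : Mn) = Matrix.diagonal fun i => (D i : K)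
        simp only [D, Units.val_mk0, Matrix.SpecialLinearGroup.diag2n_coe, Matrix.diagonal_apply_eq]
      rw [e]
      exact hDn D
    · have hroot : ∀ (i j : Fin m) (hij : i ≠ j) (b : K),
          lev (Matrix.SpecialLinearGroup.toGL (Matrix.SpecialLinearGroup.transvection hij b)) ∈
            Subgroup.closure {y : Spm | y ∈ Subgroup.normalizer (RS : Set Spm) ∧ y ^ p = 1} := fun i j hij b => by
        refine Subgroup.subset_closure ⟨hRSn _, ?_⟩
        have hpow : ∀ n : ℕ, (Matrix.SpecialLinearGroup.transvection hij b) ^ n =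
            Matrix.SpecialLinearGroup.transvection hij ((n : K) * b) := by
          intro n
          induction n with
          | zero => simp [Matrix.SpecialLinearGroup.transvection_coeff_zero]
          | succ n ih => rw [pow_succ, ih, ← Matrix.SpecialLinearGroup.transvection_add]; congr 1; push_cast; ring
        rw [← map_pow, ← map_pow, hpow, CharP.cast_eq_zero, zero_mul,
          Matrix.SpecialLinearGroup.transvection_coeff_zero, map_one, map_one]
      rw [Cfsg.Agent.ClassicalSL.diag2n_eq_weyl]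
      simp only [Cfsg.Agent.ClassicalSL.weylElt, map_mul]
      exact mul_mem (mul_mem (mul_mem (hroot _ _ _ _) (hroot _ _ _ _)) (hroot _ _ _ _))
        (mul_mem (mul_mem (hroot _ _ _ _) (hroot _ _ _ _)) (hroot _ _ _ _))
  -- the radical of the first point
  have hlast : ∀ a : Kˣ, π (lev (dU (Function.update (fun _ => (1 : Kˣ)) l a))) ∈ N := by
    intro a
    set e : Fin m ⊕ Fin m → K := e₀ z
    have hfix : ∀ {u : Spm}, u ∈ sympUni K m → act u e = (1 : K) • e := fun {u} hu => by
      refine act_e₀ (fun b => ?_) fun b => by rw [hu.1]; rfl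
      rcases eq_or_ne b z with rfl | hb
      · rw [if_pos rfl]; exact hu.2.2 b
      · rw [if_neg hb]
        refine hu.2.1 b z ?_
        rw [Fin.lt_def]
        have : (b : ℕ) ≠ z := fun e => hb (Fin.ext e)
        omega
    obtain ⟨Fr, hFr⟩ := Frame.exists_of_ne (e₀_ne (K := K) z)
    have hrp : ∀ u ∈ rad e, u ^ p ^ 2 = 1 := fun u hu => Fr.rad_pow p (hFr.symm ▸ hu)
    have hUn : sympUni K m ≤ Subgroup.normalizer (rad e : Set Spm) := fun u hu =>
      rad_normalizer one_ne_zero (hfix hu)
    have hsup : IsPGroup p (sympUni K m ⊔ rad e : Subgroup Spm) :=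
      IsPGroup.to_sup_of_normal_right' (fun u => ⟨m + 1, Subtype.ext (sympUni_pow p u.2)⟩)
        (fun u => ⟨2, Subtype.ext (hrp u u.2)⟩) hUn
    have hle : (rad e).map π ≤ (S : Subgroup PSpm) := by
      have := S.is_maximal' (hsup.map π) (hS ▸ Subgroup.map_mono le_sup_left)
      exact (Subgroup.map_mono le_sup_right).trans this.le
    refine hgen hle hUn (fun x hx => centralizer_rad (e₀_ne z) hx) (fun y hy => ⟨2, hrp y hy⟩) (hDn _) ?_
    rw [← torus_eq]
    have hmem : ∀ (b : K), rr (Matrix.single l l b) (single_self_transpose _ _) ∈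
          Subgroup.closure {y : Spm | y ∈ Subgroup.normalizer (rad e : Set Spm) ∧ y ^ p = 1} ∧
        rl (Matrix.single l l b) (single_self_transpose _ _) ∈
          Subgroup.closure {y : Spm | y ∈ Subgroup.normalizer (rad e : Set Spm) ∧ y ^ p = 1} := by
      intro b
      refine ⟨Subgroup.subset_closure ⟨hUn (rr_mem _), rr_pow_char p _⟩,
        Subgroup.subset_closure ⟨rad_normalizer one_ne_zero (act_e₀ (fun i => ?_) fun i => ?_), rl_pow_char p _⟩⟩
      · rw [rl_coe, toBlocks_fromBlocks₁₁, Matrix.one_apply]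
      · rw [rl_coe, toBlocks_fromBlocks₂₁, Matrix.single_apply, if_neg fun h => hlz h.2]
    exact mul_mem (mul_mem (mul_mem (hmem _).1 (hmem _).2) (hmem _).1) (mul_mem (mul_mem (hmem _).1 (hmem _).2) (hmem _).1)
  intro d
  set a : Kˣ := ∏ i, d i with hadef
  set e' : Fin m → Kˣ := d * (Function.update (fun _ => (1 : Kˣ)) l a)⁻¹ with he'
  have hdet : ∏ i, (e' i : K) = 1 := by
    rw [← Units.coe_prod]
    simp only [he', Pi.mul_apply, Pi.inv_apply, Finset.prod_mul_distrib, Finset.prod_inv_distrib,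
      Finset.prod_update_of_mem (Finset.mem_univ l), Finset.prod_const_one, mul_one, ← hadef,
      mul_inv_cancel, Units.val_one]
  let x : Matrix.SpecialLinearGroup (Fin m) K :=
    ⟨Matrix.diagonal fun i => (e' i : K), by rw [Matrix.det_diagonal]; exact hdet⟩
  have hmul : dU d = Matrix.SpecialLinearGroup.toGL x * dU (Function.update (fun _ => (1 : Kˣ)) l a) := by
    refine Units.ext ?_
    show Matrix.diagonal (fun i => (d i : K)) = Matrix.diagonal (fun i => (e' i : K)) * Matrix.diagonal _
    rw [Matrix.diagonal_mul_diagonal]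
    congr 1
    funext i
    rw [← Units.val_mul, he', Pi.mul_apply, Pi.inv_apply, inv_mul_cancel_right]
  rw [hmul, map_mul, map_mul]
  exact N.mul_mem (hSL x fun i j hij => Matrix.diagonal_apply_ne _ hij) (hlast a)

end simple

end Cfsg.Agent.FusionPSp
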