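import Cfsg.Agent.Lib.Transfer.PGroup
import Cfsg.Agent.Lib.Solvable.NilpotentFrattini

/-!
# Generalized extraspecial groups with an elementary abelian maximal subgroup

A group with central derived subgroup `⟨z⟩` of order `p`, an elementary abelian subgroup `R = C(y)` and an element
`x ∉ R` of order `p` is `E × A` with `E` extraspecial of order `p³` and `A` elementary abelian.
-/

set_option autoImplicit false

namespace Cfsg.Agent.FusionSys

open scoped commutatorElement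

variable {G : Type*} [Group G] [Finite G] {p : ℕ} [hp : Fact p.Prime]

omit [Finite G] in
/-- A nontrivial element of a group of order `p` generates it. -/
theorem mem_zpowers_of_prime_order {a z : G} (hz : orderOf z = p) (ha : a ∈ Subgroup.zpowers z) (ha1 : a ≠ 1)
    {b : G} (hb : b ∈ Subgroup.zpowers z) : b ∈ Subgroup.zpowers a := by
  have hle : Subgroup.zpowers a ≤ Subgroup.zpowers z := Subgroup.zpowers_le.2 ha
  have hd : orderOf a ∣ p := by
    rw [← Nat.card_zpowers, ← hz, ← Nat.card_zpowers]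
    exact Subgroup.card_dvd_of_le hle
  haveI : Finite (Subgroup.zpowers z) :=
    Nat.finite_of_card_ne_zero (by rw [Nat.card_zpowers, hz]; exact hp.out.ne_zero)
  have he := Subgroup.eq_of_le_of_card_ge hle (by
    rw [Nat.card_zpowers, Nat.card_zpowers, hz,
      (hp.out.eq_one_or_self_of_dvd _ hd).resolve_left fun h => ha1 (orderOf_eq_one_iff.1 h)])
  exact he.ge hb

theorem exists_iso_prod {z y x : G} (hzc : ∀ u, u * z = z * u) (hoz : orderOf z = p)
    (hcomm : ∀ u v : G, ⁅u, v⁆ ∈ Subgroup.zpowers z) (R : Subgroup G) (hRab : ∀ a ∈ R, ∀ b ∈ R, a * b = b * a)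
    (hRexp : ∀ r ∈ R, r ^ p = 1) (hR : ∀ u, u ∈ R ↔ u * y = y * u) (hx : x ∉ R) (hxp : x ^ p = 1) :
    ∃ (E A : Subgroup G), IsMulCommutative A ∧ (∀ a : A, a ^ p = 1) ∧ Nonempty (G ≃* E × A) ∧
      E = Subgroup.closure {x, y} ∧ Cfsg.IsExtraspecial p E ∧ Nat.card E = p ^ 3 ∧
      (p ≠ 2 → Monoid.exponent E = p) := by
  classical
  have hyR : y ∈ R := (hR y).2 rfl
  have hzR : z ∈ R := (hR z).2 (hzc y).symm
  have hzn : ∀ k : ℤ, ∀ u : G, u * z ^ k = z ^ k * u := fun k u => ((Commute.zpow_right (hzc u) k).eq)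
  have hcentral : ∀ {c : G}, c ∈ Subgroup.zpowers z → ∀ u : G, u * c = c * u := by
    rintro c ⟨k, rfl⟩ u; exact hzn k u
  -- commutation with a fixed element
  have hmul : ∀ w u v : G, ⁅u * v, w⁆ = ⁅u, w⁆ * ⁅v, w⁆ := fun w u v => by
    have h := hcentral (hcomm v w)
    calc ⁅u * v, w⁆ = u * ⁅v, w⁆ * (w * u⁻¹ * w⁻¹) := by simp only [commutatorElement_def]; group
      _ = ⁅v, w⁆ * ⁅u, w⁆ := by rw [h u]; simp only [commutatorElement_def]; group
      _ = ⁅u, w⁆ * ⁅v, w⁆ := hcentral (hcomm u w) _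
  let cy : G →* G := MonoidHom.mk' (fun u => ⁅u, y⁆) (hmul y)
  let cx : G →* G := MonoidHom.mk' (fun u => ⁅u, x⁆) (hmul x)
  have hxy : ⁅x, y⁆ ≠ 1 := fun h => hx ((hR x).2 (commutatorElement_eq_one_iff_mul_comm.1 h))
  have hyx : ⁅y, x⁆ ≠ 1 := fun h => hxy (by rw [← commutatorElement_inv, h, inv_one])
  have hRi : ∀ u : G, ∃ i : ℤ, (x ^ i)⁻¹ * u ∈ R := by
    intro u
    obtain ⟨i, hi⟩ := mem_zpowers_of_prime_order hoz (hcomm x y) hxy (hcomm u y)
    refine ⟨i, (hR _).2 (commutatorElement_eq_one_iff_mul_comm.1 ?_)⟩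
    show cy ((x ^ i)⁻¹ * u) = 1
    rw [map_mul, map_inv, map_zpow]
    show (⁅x, y⁆ ^ i)⁻¹ * ⁅u, y⁆ = 1
    rw [show ⁅x, y⁆ ^ i = ⁅u, y⁆ from hi, inv_mul_cancel]
  set Z0 : Subgroup G := R ⊓ cx.ker with hZ0
  have hZc : ∀ a ∈ Z0, ∀ u, u * a = a * u := by
    rintro a ⟨ha, hax⟩ u
    have hax' : a * x = x * a := commutatorElement_eq_one_iff_mul_comm.1 (MonoidHom.mem_ker.1 hax)
    obtain ⟨i, hi⟩ := hRi u
    have h1 : Commute a (x ^ i) := Commute.zpow_right hax' i
    have h2 : Commute a ((x ^ i)⁻¹ * u) := hRab a ha _ hi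
    have := h1.mul_right h2
    rw [mul_inv_cancel_left] at this
    exact this.eq.symm
  have hzZ0 : z ∈ Z0 := ⟨hzR, MonoidHom.mem_ker.2 (commutatorElement_eq_one_iff_mul_comm.2 (hzc x).symm)⟩
  have hRj : ∀ r ∈ R, ∃ j : ℤ, (y ^ j)⁻¹ * r ∈ Z0 := by
    intro r hr
    obtain ⟨j, hj⟩ := mem_zpowers_of_prime_order hoz (hcomm y x) hyx (hcomm r x)
    refine ⟨j, R.mul_mem (R.inv_mem (R.zpow_mem hyR j)) hr, MonoidHom.mem_ker.2 ?_⟩
    rw [map_mul, map_inv, map_zpow]
    show (⁅y, x⁆ ^ j)⁻¹ * ⁅r, x⁆ = 1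
    rw [show ⁅y, x⁆ ^ j = ⁅r, x⁆ from hj, inv_mul_cancel]
  -- a complement to `z` in `Z0`
  obtain ⟨A, hA, hmax⟩ := Set.Finite.exists_maximal (Set.toFinite {B : Subgroup G | B ≤ Z0 ∧ z ∉ B})
    ⟨⊥, bot_le, fun h => by
      rw [Subgroup.mem_bot] at h; rw [h, orderOf_one] at hoz; exact hp.out.ne_one hoz.symm⟩
  obtain ⟨hAZ, hzA⟩ := hA
  have hZA : ∀ w ∈ Z0, ∃ k : ℤ, (z ^ k)⁻¹ * w ∈ A := by
    intro w hw
    by_cases hwA : w ∈ A
    · exact ⟨0, by simpa using hwA⟩
    let B : Subgroup G :=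
      { carrier := {u | ∃ a ∈ A, ∃ k : ℤ, u = a * w ^ k}
        one_mem' := ⟨1, A.one_mem, 0, by simp⟩
        mul_mem' := by
          rintro _ _ ⟨a, ha, k, rfl⟩ ⟨b, hb, l, rfl⟩
          refine ⟨a * b, A.mul_mem ha hb, k + l, ?_⟩
          rw [mul_assoc, ← mul_assoc (w ^ k), hZc b (hAZ hb) (w ^ k), zpow_add, mul_assoc, mul_assoc]
        inv_mem' := by
          rintro _ ⟨a, ha, k, rfl⟩
          exact ⟨a⁻¹, A.inv_mem ha, -k, by rw [mul_inv_rev, zpow_neg, hZc a⁻¹ (Z0.inv_mem (hAZ ha))]⟩ }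
    have hzB : z ∈ B := by
      by_contra hzB
      have hBZ : B ≤ Z0 := by
        rintro _ ⟨a, ha, k, rfl⟩; exact Z0.mul_mem (hAZ ha) (Z0.zpow_mem hw k)
      exact hwA (hmax ⟨hBZ, hzB⟩ (fun a ha => ⟨a, ha, 0, by simp⟩) ⟨1, A.one_mem, 1, by simp⟩)
    obtain ⟨a, ha, k, hk⟩ := hzB
    have hwk : w ^ k ≠ 1 := fun h => hzA (by rw [hk, h, mul_one]; exact ha)
    have hw1 : w ≠ 1 := fun h => hwk (by rw [h, one_zpow])
    obtain ⟨l, hl⟩ := mem_zpowers_of_prime_order (orderOf_eq_prime (hRexp w hw.1) hw1)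
      (Subgroup.zpow_mem _ (Subgroup.mem_zpowers w) k) hwk (Subgroup.mem_zpowers w)
    refine ⟨l, ?_⟩
    rw [hk, Commute.mul_zpow (hZc (w ^ k) (Z0.zpow_mem hw k) a), show (w ^ k) ^ l = w from hl, mul_inv_rev,
      mul_assoc, ← hZc (a ^ l)⁻¹ (Z0.inv_mem (Z0.zpow_mem (hAZ ha) l)), inv_mul_cancel_left]
    exact A.inv_mem (A.zpow_mem ha l)
  -- the extraspecial part
  set E : Subgroup G := Subgroup.closure {x, y} with hE
  have hxE : x ∈ E := Subgroup.subset_closure (by simp)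
  have hyE : y ∈ E := Subgroup.subset_closure (by simp)
  have hzE : z ∈ E := by
    have h1 : ⁅x, y⁆ ∈ E := by
      rw [commutatorElement_def]
      exact E.mul_mem (E.mul_mem (E.mul_mem hxE hyE) (E.inv_mem hxE)) (E.inv_mem hyE)
    exact (Subgroup.zpowers_le.2 h1) (mem_zpowers_of_prime_order hoz (hcomm x y) hxy (Subgroup.mem_zpowers z))
  have hnf : ∀ e ∈ E, ∃ i j k : ℤ, e = x ^ i * y ^ j * z ^ k := by
    intro e he
    induction he using Subgroup.closure_induction with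
    | mem u hu =>
      rcases hu with rfl | rfl
      · exact ⟨1, 0, 0, by simp⟩
      · exact ⟨0, 1, 0, by simp⟩
    | one => exact ⟨0, 0, 0, by simp⟩
    | mul u v _ _ hu hv =>
      obtain ⟨i, j, k, rfl⟩ := hu
      obtain ⟨i', j', k', rfl⟩ := hv
      obtain ⟨m, hm⟩ := hcomm (y ^ j) (x ^ i')
      refine ⟨i + i', j + j', m + k + k', ?_⟩
      have e1 : y ^ j * x ^ i' = z ^ m * (x ^ i' * y ^ j) := by
        rw [show z ^ m = ⁅y ^ j, x ^ i'⁆ from hm, commutatorElement_def]; group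
      calc x ^ i * y ^ j * z ^ k * (x ^ i' * y ^ j' * z ^ k')
          = x ^ i * (y ^ j * x ^ i') * y ^ j' * (z ^ k * z ^ k') := by
            simp only [mul_assoc]; rw [← mul_assoc (z ^ k) (x ^ i'), ← hzn k (x ^ i'), mul_assoc,
              ← mul_assoc (z ^ k) (y ^ j'), ← hzn k (y ^ j'), mul_assoc]
        _ = x ^ (i + i') * y ^ (j + j') * (z ^ m * (z ^ k * z ^ k')) := by
            rw [e1, ← mul_assoc (x ^ i) (z ^ m), hzn m, mul_assoc (z ^ m), ← mul_assoc, zpow_add, zpow_add]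
            simp only [mul_assoc]
            rw [← hzn m (x ^ i * (x ^ i' * (y ^ j * (y ^ j' * (z ^ k * z ^ k'))))), ← hzn m]
            simp only [mul_assoc]
        _ = _ := by simp only [zpow_add, mul_assoc]
    | inv u _ hu =>
      obtain ⟨i, j, k, rfl⟩ := hu
      obtain ⟨m, hm⟩ := hcomm (y ^ (-j)) (x ^ (-i))
      refine ⟨-i, -j, -k + m, ?_⟩
      have e1 : y ^ (-j) * x ^ (-i) = z ^ m * (x ^ (-i) * y ^ (-j)) := by
        rw [show z ^ m = ⁅y ^ (-j), x ^ (-i)⁆ from hm, commutatorElement_def]; group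
      rw [mul_inv_rev, mul_inv_rev, ← zpow_neg, ← zpow_neg, ← zpow_neg, e1, ← mul_assoc, ← zpow_add,
        ← hzn (-k + m)]
  -- exponents are determined
  have hox : orderOf x = p := orderOf_eq_prime hxp fun h => hx (h ▸ R.one_mem)
  have hoy : orderOf y = p := orderOf_eq_prime (hRexp y hyR) fun h => hxy (by rw [h, commutatorElement_one_right])
  have hcy : ∀ i j k : ℤ, cy (x ^ i * y ^ j * z ^ k) = ⁅x, y⁆ ^ i := fun i j k => by
    rw [map_mul, map_mul, map_zpow, map_zpow, map_zpow, show cy y = 1 from commutatorElement_self y,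
      show cy z = 1 from commutatorElement_eq_one_iff_mul_comm.2 (hzc y).symm, one_zpow, one_zpow, mul_one, mul_one]
    rfl
  have hcx : ∀ i j k : ℤ, cx (x ^ i * y ^ j * z ^ k) = ⁅y, x⁆ ^ j := fun i j k => by
    rw [map_mul, map_mul, map_zpow, map_zpow, map_zpow, show cx x = 1 from commutatorElement_self x,
      show cx z = 1 from commutatorElement_eq_one_iff_mul_comm.2 (hzc x).symm, one_zpow, one_zpow, mul_one, one_mul]
    rfl
  have hord : ∀ {c : G}, c ∈ Subgroup.zpowers z → c ≠ 1 → ∀ {i : ℤ}, c ^ i = 1 → (p : ℤ) ∣ i := fun {c} hc hc1 {i} hi => by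
    have ho : orderOf c = p := orderOf_eq_prime (by
      obtain ⟨k, rfl⟩ := hc
      show (z ^ k) ^ p = 1
      rw [← zpow_natCast, ← zpow_mul, mul_comm, zpow_mul, zpow_natCast, ← hoz, pow_orderOf_eq_one, one_zpow]) hc1
    rw [← ho]; exact orderOf_dvd_iff_zpow_eq_one.2 hi
  have hkill : ∀ {g : G}, orderOf g = p → ∀ {i : ℤ}, (p : ℤ) ∣ i → g ^ i = 1 := fun hg _ hi =>
    orderOf_dvd_iff_zpow_eq_one.1 (by rwa [hg])
  have hcardE : Nat.card E = p ^ 3 := by
    let f : ZMod p × ZMod p × ZMod p → E := fun t =>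
      ⟨x ^ (t.1.val : ℤ) * y ^ (t.2.1.val : ℤ) * z ^ (t.2.2.val : ℤ),
        E.mul_mem (E.mul_mem (E.zpow_mem hxE _) (E.zpow_mem hyE _)) (E.zpow_mem hzE _)⟩
    have hf : Function.Bijective f := by
      refine ⟨fun a b hab => ?_, fun e => ?_⟩
      · have h0 : x ^ (a.1.val : ℤ) * y ^ (a.2.1.val : ℤ) * z ^ (a.2.2.val : ℤ) =
            x ^ (b.1.val : ℤ) * y ^ (b.2.1.val : ℤ) * z ^ (b.2.2.val : ℤ) := congrArg Subtype.val hab
        have hval : ∀ s t : ZMod p, (p : ℤ) ∣ (s.val : ℤ) - t.val → s = t := fun s t h => by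
          rw [← ZMod.natCast_zmod_val s, ← ZMod.natCast_zmod_val t, ← Int.cast_natCast, ← Int.cast_natCast (t.val),
            eq_comm, ZMod.intCast_eq_intCast_iff_dvd_sub]
          exact h
        have h1 := congrArg cy h0
        rw [hcy, hcy] at h1
        have e1 : a.1 = b.1 := hval _ _ (hord (hcomm x y) hxy (by rw [zpow_sub, h1, mul_inv_cancel]))
        have h2 := congrArg cx h0
        rw [hcx, hcx] at h2
        have e2 : a.2.1 = b.2.1 := hval _ _ (hord (hcomm y x) hyx (by rw [zpow_sub, h2, mul_inv_cancel]))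
        rw [e1, e2, mul_right_inj] at h0
        have e3 : a.2.2 = b.2.2 := hval _ _ (hord (Subgroup.mem_zpowers z) (fun h => hp.out.ne_one
          (by rw [← hoz, h, orderOf_one])) (by rw [zpow_sub, h0, mul_inv_cancel]))
        exact Prod.ext e1 (Prod.ext e2 e3)
      · obtain ⟨i, j, k, he⟩ := hnf e e.2
        refine ⟨((i : ZMod p), (j : ZMod p), (k : ZMod p)), Subtype.ext ?_⟩
        show x ^ ((i : ZMod p).val : ℤ) * y ^ ((j : ZMod p).val : ℤ) * z ^ ((k : ZMod p).val : ℤ) = _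
        have hred : ∀ {g : G}, orderOf g = p → ∀ i : ℤ, g ^ ((i : ZMod p).val : ℤ) = g ^ i := fun {g} hg i => by
          rw [ZMod.val_intCast, ← hg, zpow_mod_orderOf]
        rw [hred hox, hred hoy, hred hoz, he]
    rw [← Nat.card_congr (Equiv.ofBijective f hf)]
    simp [Nat.card_prod, pow_succ, mul_assoc]
  -- centre, commutator and Frattini subgroup of `E`
  have hcentE : ∀ e : E, e ∈ Subgroup.center E ↔ (e : G) ∈ Subgroup.zpowers z := by
    intro e
    refine ⟨fun he => ?_, fun he => Subgroup.mem_center_iff.2 fun u => Subtype.ext (hcentral he u)⟩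
    obtain ⟨i, j, k, hijk⟩ := hnf e e.2
    have hc : ∀ w ∈ E, ⁅(e : G), w⁆ = 1 := fun w hw => commutatorElement_eq_one_iff_mul_comm.2
      (congrArg Subtype.val (Subgroup.mem_center_iff.1 he ⟨w, hw⟩)).symm
    have h1 : cy (e : G) = 1 := hc y hyE
    have h2 : cx (e : G) = 1 := hc x hxE
    rw [hijk, hcy] at h1
    rw [hijk, hcx] at h2
    rw [hijk, hkill hox (hord (hcomm x y) hxy h1), hkill hoy (hord (hcomm y x) hyx h2), one_mul, one_mul]
    exact Subgroup.zpow_mem _ (Subgroup.mem_zpowers z) k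
  have hcentmap : (Subgroup.center E).map E.subtype = Subgroup.zpowers z := by
    refine le_antisymm ?_ (Subgroup.zpowers_le.2 ⟨⟨z, hzE⟩, (hcentE _).2 (Subgroup.mem_zpowers z), rfl⟩)
    rintro _ ⟨e, he, rfl⟩
    exact (hcentE e).1 he
  have hcardZ : Nat.card (Subgroup.center E) = p := by
    rw [← Subgroup.card_map_of_injective E.subtype_injective, hcentmap, Nat.card_zpowers, hoz]
  have hEp : IsPGroup p E := IsPGroup.of_card hcardE
  have hder : commutator E = Subgroup.center E := by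
    refine le_antisymm ?_ fun e he => ?_
    · rw [commutator_def, Subgroup.commutator_le]
      intro a _ b _
      exact (hcentE _).2 (hcomm a b)
    · have hmem : (⁅(⟨x, hxE⟩ : E), ⟨y, hyE⟩⁆ : E) ∈ commutator E :=
        Subgroup.commutator_mem_commutator (Subgroup.mem_top _) (Subgroup.mem_top _)
      obtain ⟨l, hl⟩ := mem_zpowers_of_prime_order hoz (hcomm x y) hxy ((hcentE e).1 he)
      rw [show e = (⁅(⟨x, hxE⟩ : E), ⟨y, hyE⟩⁆ : E) ^ l from Subtype.ext (by
        rw [SubgroupClass.coe_zpow]; exact hl.symm)]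
      exact Subgroup.zpow_mem _ hmem l
  have hfr : frattini E = Subgroup.center E := by
    haveI : Group.IsNilpotent E := hEp.isNilpotent
    refine le_antisymm (fun e he => (hcentE e).2 ?_) (hder ▸ Cfsg.Agent.SolvStruct.commutator_le_frattini E)
    have hker : ∀ f : E →* G, (∀ u, f u ∈ Subgroup.zpowers z) → f e = 1 := by
      intro f hf
      by_contra hfe
      haveI : Fact (Nat.card f.range).Prime := ⟨by
        have hle : f.range ≤ Subgroup.zpowers z := by rintro _ ⟨u, rfl⟩; exact hf u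
        have hd : Nat.card f.range ∣ p := by rw [← hoz, ← Nat.card_zpowers]; exact Subgroup.card_dvd_of_le hle
        rcases hp.out.eq_one_or_self_of_dvd _ hd with h | h
        · exact absurd (Subgroup.mem_bot.1 ((Subgroup.eq_bot_of_card_eq _ h) ▸ ⟨e, rfl⟩)) hfe
        · rw [h]; exact hp.out⟩
      have hco : IsCoatom f.ker := by
        refine ⟨fun h => hfe (MonoidHom.mem_ker.1 (h.ge (Subgroup.mem_top e))), fun B hB => ?_⟩
        have hbot := (B.map f.rangeRestrict).eq_bot_or_eq_top_of_prime_card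
        rcases hbot with h | h
        · exact absurd hB (not_lt_of_ge fun b hb => MonoidHom.mem_ker.2 (congrArg Subtype.val
            (Subgroup.mem_bot.1 (h ▸ Subgroup.mem_map_of_mem _ hb) : f.rangeRestrict b = 1)))
        · refine eq_top_iff.2 fun u _ => ?_
          obtain ⟨b, hb, hbu⟩ := h.ge (Subgroup.mem_top (f.rangeRestrict u))
          have : b⁻¹ * u ∈ f.ker := by
            rw [MonoidHom.mem_ker, map_mul, map_inv, show f b = f u from congrArg Subtype.val hbu, inv_mul_cancel]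
          simpa using B.mul_mem hb (hB.le this)
      exact hfe (MonoidHom.mem_ker.1 (frattini_le_coatom hco he))
    obtain ⟨i, j, k, hijk⟩ := hnf e e.2
    have h1 : cy (e : G) = 1 := hker (cy.comp E.subtype) fun u => hcomm _ _
    have h2 : cx (e : G) = 1 := hker (cx.comp E.subtype) fun u => hcomm _ _
    rw [hijk, hcy] at h1
    rw [hijk, hcx] at h2
    rw [hijk, hkill hox (hord (hcomm x y) hxy h1), hkill hoy (hord (hcomm y x) hyx h2), one_mul, one_mul]
    exact Subgroup.zpow_mem _ (Subgroup.mem_zpowers z) k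
  -- the product
  have hcom : ∀ (e : E) (a : A), Commute (E.subtype e) (A.subtype a) := fun e a => hZc a (hAZ a.2) e
  have hbij : Function.Bijective (MonoidHom.noncommCoprod E.subtype A.subtype hcom) := by
    refine ⟨(injective_iff_map_eq_one _).2 fun ea h => ?_, fun g => ?_⟩
    · rw [MonoidHom.noncommCoprod_apply] at h
      have he : (ea.1 : G) = (ea.2 : G)⁻¹ := eq_inv_of_mul_eq_one_left h
      have hez : ea.1 ∈ Subgroup.center E := Subgroup.mem_center_iff.2 fun u => Subtype.ext (by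
        show (u : G) * ea.1 = ea.1 * u
        rw [he]; exact hZc _ (Z0.inv_mem (hAZ ea.2.2)) _)
      have h1 : (ea.1 : G) = 1 := by
        by_contra hne
        exact hzA ((Subgroup.zpowers_le.2 (he ▸ A.inv_mem ea.2.2))
          (mem_zpowers_of_prime_order hoz ((hcentE _).1 hez) hne (Subgroup.mem_zpowers z)))
      exact Prod.ext (Subtype.ext h1) (Subtype.ext (by rw [h1, eq_comm, inv_eq_one] at he; exact he))
    · obtain ⟨i, hi⟩ := hRi g
      obtain ⟨j, hj⟩ := hRj _ hi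
      obtain ⟨k, hk⟩ := hZA _ hj
      refine ⟨(⟨x ^ i * y ^ j * z ^ k, E.mul_mem (E.mul_mem (E.zpow_mem hxE _) (E.zpow_mem hyE _))
        (E.zpow_mem hzE _)⟩, ⟨_, hk⟩), ?_⟩
      rw [MonoidHom.noncommCoprod_apply]
      show x ^ i * y ^ j * z ^ k * ((z ^ k)⁻¹ * ((y ^ j)⁻¹ * ((x ^ i)⁻¹ * g))) = g
      group
  refine ⟨E, A, ⟨⟨fun a b => Subtype.ext (hZc b (hAZ b.2) a)⟩⟩, fun a => Subtype.ext (hRexp a (hAZ a.2).1),
    ⟨(MulEquiv.ofBijective _ hbij).symm⟩, rfl, ⟨⟨hEp, hfr, hder⟩, hcardZ⟩, hcardE, fun hp2 => ?_⟩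
  haveI : Nontrivial E := ⟨⟨⟨z, hzE⟩, 1, fun h => hp.out.ne_one
    (by rw [← hoz, show z = 1 from congrArg Subtype.val h, orderOf_one])⟩⟩
  refine (Monoid.exponent_eq_prime_iff hp.out).2 fun e he => orderOf_eq_prime (Subtype.ext ?_) he
  have hcl : ∀ a b : G, ⁅a, b⁆ ∈ Subgroup.center G := fun a b =>
    Subgroup.mem_center_iff.2 fun u => hcentral (hcomm a b) u
  rw [SubmonoidClass.coe_pow]
  refine Cfsg.Agent.PGroupBasics.pow_eq_one_of_mem_closure hp2 hcl ((Subgroup.closure_mono ?_) e.2)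
  rintro u (rfl | rfl)
  · exact hxp
  · exact hRexp u hyR

end Cfsg.Agent.FusionSys
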