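import Cfsg.Agent.Lib.Fusion.StrongClosedOdd
import Cfsg.Agent.Lib.Fusion.GenExtraspecial
import Cfsg.Agent.Lib.TwoGroups.Lifts

/-!
# Strongly closed generalized extraspecial subgroups are normal
-/

set_option autoImplicit false

namespace Cfsg.Agent.FusionSys

open Cfsg Cfsg.FusionSystem
open scoped commutatorElement

variable {Ω : Type*} [Group Ω] {S : Subgroup Ω} [Finite S] {p : ℕ} [hp : Fact p.Prime] {F : FusionSystem S}

/-- A type with a given number of points and no further structure. -/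
def SmallCarrier (n : ℕ) : Type := Fin n

omit hp in
/-- A finite group transported to a type in the bottom universe. -/
theorem exists_small_copy (G : Type*) [Group G] [Finite G] :
    ∃ (H : Type) (_ : Group H), Nonempty (G ≃* H) := by
  let e : SmallCarrier (Nat.card G) ≃ G := (Finite.equivFin G).symm
  letI : Group (SmallCarrier (Nat.card G)) := e.group
  exact ⟨SmallCarrier (Nat.card G), inferInstance, ⟨(Equiv.mulEquiv e).symm⟩⟩

omit hp in
theorem exists_small_copy_comm (G : Type*) [Group G] [Finite G] [IsMulCommutative G] :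
    ∃ (H : Type) (_ : CommGroup H), Nonempty (G ≃* H) := by
  obtain ⟨H, _, ⟨e⟩⟩ := exists_small_copy G
  refine ⟨H, { (inferInstance : Group H) with mul_comm := fun a b => ?_ }, ⟨e⟩⟩
  refine e.symm.injective ?_
  rw [map_mul, map_mul]
  exact Std.Commutative.comm (op := (· * ·)) _ _

/-- The derived subgroup of a strongly closed subgroup is preserved by maps defined on it. -/
theorem derived_apply_mem {P Q : Subgroup Ω} (hP : F.StronglyClosed P) {ψ : Q →* Ω} (hψ : ψ ∈ F.Hom Q)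
    (hPQ : P ≤ Q) {c : Ω} (hc : c ∈ ⁅P, P⁆) (hcQ : c ∈ Q) : ψ ⟨c, hcQ⟩ ∈ ⁅P, P⁆ := by
  have hle : ⁅P, P⁆ ≤ (⁅P, P⁆.comap ψ).map Q.subtype := by
    rw [Subgroup.commutator_le]
    intro a ha b hb
    refine ⟨⁅(⟨a, hPQ ha⟩ : Q), ⟨b, hPQ hb⟩⁆, ?_, rfl⟩
    show ψ ⁅(⟨a, hPQ ha⟩ : Q), ⟨b, hPQ hb⟩⁆ ∈ ⁅P, P⁆
    rw [map_commutatorElement]
    exact Subgroup.commutator_mem_commutator (stronglyClosed_apply_mem hP hψ _ ha)
      (stronglyClosed_apply_mem hP hψ _ hb)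
  obtain ⟨w, hw, hwe⟩ := hle hc
  rw [show (⟨c, hcQ⟩ : Q) = w from Subtype.ext hwe.symm]
  exact hw

theorem genExtraspecial_normal (hS : IsPGroup p S) (hF : F.IsSaturated p) {P : Subgroup Ω} (hP : F.StronglyClosed P)
    (hge : frattini P = commutator P ∧ Nat.card (commutator P) = p)
    (hno : ∀ (E A : Subgroup P) (x y : P), IsMulCommutative A → (∀ a : A, a ^ p = 1) → Nonempty (P ≃* E × A) →
      Cfsg.IsExtraspecial p E → Nat.card E = p ^ 3 → (p ≠ 2 → Monoid.exponent E = p) →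
      E = Subgroup.closure {x, y} → x ^ p = 1 → y ^ p = 1 → x * y ≠ y * x → (x * y) ^ p ∈ commutator P → False) :
    F.IsNormal P := by
  classical
  set Φ : Subgroup Ω := ⁅P, P⁆ with hΦdef
  have hΦmap : (commutator P).map P.subtype = Φ := Subgroup.map_subtype_commutator P
  have hPfin := finite_of_le (S := S) hP.1
  have hΦP : Φ ≤ P := hΦmap ▸ Subgroup.map_subtype_le _
  have hΦS : Φ ≤ S := hΦP.trans hP.1
  have hΦfin := finite_of_le (S := S) hΦS
  have hcard : Nat.card Φ = p := by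
    rw [← hΦmap, Subgroup.card_map_of_injective P.subtype_injective, hge.2]
  haveI : IsCyclic Φ := isCyclic_of_prime_card hcard
  obtain ⟨⟨z, hzΦ⟩, hzgen⟩ := IsCyclic.exists_generator (α := Φ)
  have hΦz : ∀ c ∈ Φ, c ∈ Subgroup.zpowers z := fun c hc => by
    obtain ⟨k, hk⟩ := hzgen ⟨c, hc⟩
    exact ⟨k, congrArg Subtype.val hk⟩
  have hoz : orderOf z = p := by
    rw [← hcard, ← Nat.card_zpowers]
    exact Nat.card_congr (Equiv.setCongr (Set.ext fun c => ⟨fun h => Subgroup.zpowers_le.2 hzΦ h, hΦz c⟩))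
  -- `z` is central in `S`
  have hzcen : ∀ g ∈ S, g * z * g⁻¹ = z := by
    intro g hg
    have hn : g ∈ Subgroup.normalizer (Φ : Set Ω) := by
      refine mem_normalizer_of_conj_mem g (fun c hc => ?_) fun c hc => ?_
      · exact derived_apply_mem hP (F.conj_mem hP.1 hg) le_rfl hc (hΦP hc)
      · simpa using derived_apply_mem hP (F.conj_mem hP.1 (S.inv_mem hg)) le_rfl hc (hΦP hc)
    obtain ⟨a, ha, hae⟩ := exists_conjAut (K := S) (P := Φ) hg hn
    have h1 : a = 1 := by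
      obtain ⟨k, hk⟩ := IsPGroup.iff_orderOf.1 (autInducedBy_isPGroup (P := Φ) hS) ⟨a, ha⟩
      rw [← Subgroup.orderOf_coe] at hk
      have h2 : orderOf a ∣ (p - 1) := by
        have := orderOf_dvd_natCard a
        rwa [IsCyclic.card_mulAut, hcard, Nat.totient_prime hp.out] at this
      have hd := Nat.dvd_gcd (dvd_refl (orderOf a)) h2
      have hco : (p ^ k).Coprime (p - 1) := by
        refine Nat.Coprime.pow_left k ((Nat.Prime.coprime_iff_not_dvd hp.out).2 fun h => ?_)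
        have := Nat.le_of_dvd (by have := hp.out.two_le; omega) h
        have := hp.out.two_le
        omega
      rw [hk, hco.gcd_eq_one] at hd
      exact orderOf_eq_one_iff.1 (hk.trans (Nat.dvd_one.1 hd))
    have := hae ⟨z, hzΦ⟩
    rw [h1] at this
    exact this.symm
  have hΦcen : ∀ c ∈ Φ, ∀ g ∈ S, g * c * g⁻¹ = c := fun c hc g hg => by
    obtain ⟨k, rfl⟩ := hΦz c hc
    show g * z ^ k * g⁻¹ = z ^ k
    rw [← conj_zpow, hzcen g hg]
  -- it suffices that `Φ` is weakly closed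
  suffices key : ∀ φ ∈ F.Hom Φ, φ ⟨z, hzΦ⟩ ∈ Φ by
    have hw : F.WeaklyClosed Φ := by
      refine ⟨hΦS, fun φ hφ => Subgroup.eq_of_le_of_card_ge ?_ (isConj_card ⟨φ, hφ, rfl⟩).le⟩
      rintro _ ⟨c, rfl⟩
      obtain ⟨k, hk⟩ := hzgen c
      have hk' : (⟨z, hzΦ⟩ : Φ) ^ k = c := hk
      rw [← hk', map_zpow]
      exact Subgroup.zpow_mem _ (key φ hφ) k
    refine isNormal_of_chain hS hF hP (n := 2) (C := ![⊥, Φ, P]) rfl rfl ?_ (fun i => ?_) fun i => ?_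
    · refine Fin.monotone_iff_le_succ.2 fun i => ?_
      fin_cases i
      · exact bot_le
      · exact hΦP
    · fin_cases i
      · show ⁅Φ, P⁆ ≤ ⊥
        rw [Subgroup.commutator_le]
        intro a ha b hb
        rw [Subgroup.mem_bot, commutatorElement_eq_one_iff_mul_comm]
        have := hΦcen a ha b (hP.1 hb)
        conv_lhs => rw [← this]
        group
      · exact le_rfl
    · fin_cases i
      · exact stronglyClosed_weaklyClosed (stronglyClosed_bot F)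
      · exact hw
  intro φ0 hφ0
  by_contra hy0
  -- conjugates of `z` outside `Φ` are moved by a map on their centralizer
  have hext : ∀ φ ∈ F.Hom Φ, ∃ C : Subgroup Ω, ∃ ψ : C →* Ω, ∃ hC : φ ⟨z, hzΦ⟩ ∈ C,
      (∀ g ∈ S, g * φ ⟨z, hzΦ⟩ = φ ⟨z, hzΦ⟩ * g → g ∈ C) ∧ ψ ∈ F.Hom C ∧ ψ ⟨_, hC⟩ = z := by
    intro φ hφ
    obtain ⟨ψ, hψ, hψr, hψφ, -⟩ := exists_inv F hφ
    have hfc : F.IsFullyCentralized Φ := ⟨hΦS, fun Q _ => by
      have := finite_of_le (S := S) (centralizerIn_le S Φ)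
      refine Subgroup.card_le_of_le fun g hg => ⟨hg.1, Subgroup.mem_centralizer_iff.2 fun c hc => ?_⟩
      conv_lhs => rw [← hΦcen c hc g hg.1]
      group⟩
    obtain ⟨χ, hχ, hχe⟩ := (fullyCentralized_receptive hS hF hfc).2 _ ψ hψ hψr
    have hmem : ∀ g ∈ S, g * φ ⟨z, hzΦ⟩ = φ ⟨z, hzΦ⟩ * g → g ∈ extender S φ.range ψ := by
      intro g hg hc
      refine centralizerIn_le_extender ψ ⟨hg, Subgroup.mem_centralizer_iff.2 ?_⟩
      rintro _ ⟨c, rfl⟩
      obtain ⟨k, hk⟩ := hzgen c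
      have hk' : (⟨z, hzΦ⟩ : Φ) ^ k = c := hk
      rw [← hk', map_zpow]
      exact ((Commute.zpow_right hc k).eq).symm
    have hyC := hmem _ (hom_apply_mem F hφ _) rfl
    exact ⟨_, χ, hyC, hmem, hχ, (hχe _ ⟨_, rfl⟩ hyC).trans (hψφ _ _)⟩
  have hkey : ∀ φ ∈ F.Hom Φ, φ ⟨z, hzΦ⟩ ∉ Φ → ∀ (C : Subgroup Ω) (ψ : C →* Ω) (hC : φ ⟨z, hzΦ⟩ ∈ C),
      ψ ∈ F.Hom C → ψ ⟨_, hC⟩ = z → ∀ c ∈ Φ, c ≠ 1 → ∀ hcC : c ∈ C, ψ ⟨c, hcC⟩ ∉ Φ := by
    intro φ hφ hy C ψ hC hψ hψy c hc hc1 hcC hψc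
    have hne : ψ ⟨c, hcC⟩ ≠ 1 := fun h => hc1 (congrArg Subtype.val
      (F.injective_of_mem hψ (h.trans (map_one ψ).symm) : (⟨c, hcC⟩ : C) = 1))
    obtain ⟨k, hk⟩ := mem_zpowers_of_prime_order hoz (hΦz _ hψc) hne (Subgroup.mem_zpowers z)
    have : (⟨_, hC⟩ : C) = (⟨c, hcC⟩ : C) ^ k := F.injective_of_mem hψ (by rw [hψy, map_zpow]; exact hk.symm)
    exact hy (by rw [show φ ⟨z, hzΦ⟩ = c ^ k from (congrArg Subtype.val this).trans (SubgroupClass.coe_zpow _ k)]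
                 exact Φ.zpow_mem hc k)
  have hyP : ∀ φ ∈ F.Hom Φ, φ ⟨z, hzΦ⟩ ∈ P := fun φ hφ => hP.2 Φ hΦP φ hφ _
  have hnc : ∀ φ ∈ F.Hom Φ, φ ⟨z, hzΦ⟩ ∉ Φ → ∃ u ∈ P, u * φ ⟨z, hzΦ⟩ ≠ φ ⟨z, hzΦ⟩ * u := by
    intro φ hφ hy
    by_contra hall
    simp only [not_exists, not_and, not_not] at hall
    obtain ⟨C, ψ, hC, hCmem, hψ, hψy⟩ := hext φ hφ
    have hPC : P ≤ C := fun u hu => hCmem u (hP.1 hu) (hall u hu)
    exact hkey φ hφ hy C ψ hC hψ hψy z hzΦ (fun h => hp.out.ne_one (by rw [← hoz, h, orderOf_one]))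
      (hPC (hΦP hzΦ)) (derived_apply_mem hP hψ hPC hzΦ _)
  set y := φ0 ⟨z, hzΦ⟩ with hydef
  obtain ⟨x, hxP, hxy⟩ := hnc φ0 hφ0 hy0
  obtain ⟨C, ψ, hC, hCmem, hψ, hψy⟩ := hext φ0 hφ0
  have hk := hkey φ0 hφ0 hy0 C ψ hC hψ hψy
  -- `R = C_P(y)` is elementary abelian
  set R : Subgroup Ω := P ⊓ Subgroup.centralizer {y} with hRdef
  have hRC : R ≤ C := fun u hu => hCmem u (hP.1 hu.1) (Subgroup.mem_centralizer_iff.1 hu.2 y rfl).symm
  have hpowΦ : ∀ u ∈ P, u ^ p ∈ Φ := fun u hu => by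
    rw [← hΦmap]
    exact ⟨⟨u, hu⟩ ^ p, hge.1 ▸ Cfsg.Agent.PGroupBasics.pow_mem_frattini (hS.to_le hP.1) ⟨u, hu⟩, rfl⟩
  have hψP : ∀ (u : Ω) (hu : u ∈ R), ψ ⟨u, hRC hu⟩ ∈ P := fun u hu => stronglyClosed_apply_mem hP hψ _ hu.1
  have hRexp : ∀ r ∈ R, r ^ p = 1 := by
    intro r hr
    by_contra hne
    refine hk _ (hpowΦ r hr.1) hne (C.pow_mem (hRC hr) p) ?_
    rw [show (⟨r ^ p, _⟩ : C) = (⟨r, hRC hr⟩ : C) ^ p from Subtype.ext rfl, map_pow]
    exact hpowΦ _ (hψP r hr)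
  have hRab : ∀ a ∈ R, ∀ b ∈ R, a * b = b * a := by
    intro a ha b hb
    rw [← commutatorElement_eq_one_iff_mul_comm]
    by_contra hne
    refine hk _ (Subgroup.commutator_mem_commutator ha.1 hb.1) hne
      (hRC (by rw [commutatorElement_def]; exact R.mul_mem (R.mul_mem (R.mul_mem ha hb) (R.inv_mem ha)) (R.inv_mem hb))) ?_
    rw [show (⟨⁅a, b⁆, _⟩ : C) = ⁅(⟨a, hRC ha⟩ : C), ⟨b, hRC hb⟩⁆ from Subtype.ext rfl, map_commutatorElement]
    exact Subgroup.commutator_mem_commutator (hψP a ha) (hψP b hb)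
  have hyR : y ∈ R := ⟨hyP φ0 hφ0, Subgroup.mem_centralizer_iff.2 fun g hg => by rw [Set.mem_singleton_iff.1 hg]⟩
  have hRmem : ∀ u ∈ P, (u ∈ R ↔ u * y = y * u) := fun u hu =>
    ⟨fun h => (Subgroup.mem_centralizer_iff.1 h.2 y rfl).symm,
      fun h => ⟨hu, Subgroup.mem_centralizer_iff.2 fun g hg => by rw [Set.mem_singleton_iff.1 hg, h]⟩⟩
  have hxR : x ∉ R := fun h => hxy ((hRmem x hxP).1 h)
  -- the first case
  have hcaseA : ∀ u ∈ P, u ∉ R → u ^ p ≠ 1 := by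
    intro u huP huR hup
    set zP : P := ⟨z, hΦP hzΦ⟩
    have hzP : ∀ v : P, v * zP = zP * v := fun v => Subtype.ext (by
      show (v : Ω) * z = z * v
      conv_rhs => rw [← hzcen v (hP.1 v.2)]
      group)
    have hcomm : ∀ a b : P, ⁅a, b⁆ ∈ Subgroup.zpowers zP := fun a b => by
      obtain ⟨k, hk⟩ := hΦz _ (Subgroup.commutator_mem_commutator a.2 b.2)
      exact ⟨k, Subtype.ext ((SubgroupClass.coe_zpow zP k).trans hk)⟩
    obtain ⟨E, A, hA, hAp, hiso, hEdef, hEx, hE3, hEexp⟩ := exists_iso_prod (z := zP) (y := ⟨y, hyR.1⟩) (x := ⟨u, huP⟩)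
      hzP (by rw [← Subgroup.orderOf_coe]; exact hoz) hcomm (R.subgroupOf P)
      (fun a ha b hb => Subtype.ext (hRab a ha b hb)) (fun r hr => Subtype.ext (hRexp r hr))
      (fun v => by rw [Subgroup.mem_subgroupOf, hRmem v v.2, Subtype.ext_iff]; rfl) huR (Subtype.ext hup)
    refine hno E A ⟨u, huP⟩ ⟨y, hyR.1⟩ hA hAp hiso hEx hE3 hEexp hEdef (Subtype.ext hup) (Subtype.ext (hRexp y hyR))
      (fun h => huR ((hRmem u huP).2 (congrArg Subtype.val h))) ?_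
    rw [← hge.1]
    exact Cfsg.Agent.PGroupBasics.pow_mem_frattini (hS.to_le hP.1) _
  rcases eq_or_ne p 2 with rfl | hp2
  · have hyx : x * y ∉ R := fun h => hxR (by simpa using R.mul_mem h (R.inv_mem hyR))
    have h1 : x ^ 2 = z := by
      obtain ⟨k, hk⟩ := hΦz _ (hpowΦ x hxP)
      rcases Int.even_or_odd k with ⟨l, rfl⟩ | ⟨l, rfl⟩
      · refine absurd (hk.symm.trans ?_) (hcaseA x hxP hxR)
        show z ^ (l + l) = 1
        rw [← two_mul, zpow_mul, show z ^ (2 : ℤ) = 1 by rw [zpow_two, ← sq, ← hoz, pow_orderOf_eq_one], one_zpow]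
      · rw [← hk]
        show z ^ (2 * l + 1) = z
        rw [zpow_add, zpow_mul, show z ^ (2 : ℤ) = 1 by rw [zpow_two, ← sq, ← hoz, pow_orderOf_eq_one], one_zpow,
          zpow_one, one_mul]
    have hy2 : y * y = 1 := by rw [← sq, hRexp y hyR]
    have hc : ⁅x, y⁆ ∈ Φ := Subgroup.commutator_mem_commutator hxP hyR.1
    refine hcaseA _ (P.mul_mem hxP hyR.1) hyx ?_
    have hcz : ⁅x, y⁆ = z := by
      obtain ⟨k, hk⟩ := hΦz _ hc
      rcases Int.even_or_odd k with ⟨l, rfl⟩ | ⟨l, rfl⟩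
      · refine absurd ?_ hxy
        rw [← commutatorElement_eq_one_iff_mul_comm, ← hk]
        show z ^ (l + l) = 1
        rw [← two_mul, zpow_mul, show z ^ (2 : ℤ) = 1 by rw [zpow_two, ← sq, ← hoz, pow_orderOf_eq_one], one_zpow]
      · rw [← hk]
        show z ^ (2 * l + 1) = z
        rw [zpow_add, zpow_mul, show z ^ (2 : ℤ) = 1 by rw [zpow_two, ← sq, ← hoz, pow_orderOf_eq_one], one_zpow,
          zpow_one, one_mul]
    have hzy : y * z = z * y := by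
      conv_rhs => rw [← hzcen y (hP.1 hyR.1)]
      group
    have e : x * y = z * y * x := by
      conv_rhs => rw [← hcz]
      rw [commutatorElement_def]
      group
    have hxx : x * x = z := by rw [← sq]; exact h1
    calc (x * y) ^ 2 = z * y * (x * x) * y := by rw [sq]; nth_rw 1 [e]; simp only [mul_assoc]
      _ = z * z * (y * y) := by rw [hxx]; simp only [mul_assoc]; rw [← mul_assoc y z, hzy, mul_assoc]
      _ = 1 := by rw [hy2, mul_one, ← sq, ← hoz, pow_orderOf_eq_one]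
  -- odd primes: `R` is the set of elements of order dividing `p`
  have hRsc : F.StronglyClosed R := by
    refine ⟨fun r hr => hP.1 hr.1, fun Q hQ φ hφ u => ?_⟩
    have h1 : φ u ∈ P := stronglyClosed_apply_mem hP hφ u (hQ u.2).1
    by_contra h2
    exact hcaseA _ h1 h2 (by rw [← map_pow, show u ^ p = 1 from Subtype.ext (hRexp _ (hQ u.2)), map_one])
  have hzR : z ∈ R := (hRmem z (hΦP hzΦ)).2 (by
    conv_lhs => rw [← hzcen y (hP.1 hyR.1)]
    group)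
  have hΦR : Φ ≤ R := fun c hc => by
    obtain ⟨k, rfl⟩ := hΦz c hc
    exact R.zpow_mem hzR k
  obtain ⟨α, hα, hαe⟩ := exists_aut_of_isNormal (isNormal_of_abelian hS hF hRsc hRab) hΦR hφ0
  have hαy : ((α ⟨z, hzR⟩ : R) : Ω) = y := hαe ⟨z, hzΦ⟩
  have hRS : R ≤ S := hRsc.1
  have hRfin := finite_of_le (S := S) hRS
  obtain ⟨γ, hγ, hγe⟩ : ∃ γ ∈ F.Hom Φ, γ ⟨z, hzΦ⟩ = ((α⁻¹ ⟨z, hzR⟩ : R) : Ω) :=
    ⟨_, restrict_mem F ((mem_autGroup_iff F hRS α⁻¹).1 (Subgroup.inv_mem _ hα)) hΦR, rfl⟩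
  have hγΦ : γ ⟨z, hzΦ⟩ ∉ Φ := by
    intro h
    obtain ⟨k, hk⟩ := hΦz _ h
    rw [hγe] at hk
    have hk' : (⟨z, hzR⟩ : R) ^ k = α⁻¹ ⟨z, hzR⟩ := Subtype.ext ((SubgroupClass.coe_zpow _ k).trans hk)
    have h2 := congrArg α hk'
    rw [map_zpow, show α (α⁻¹ (⟨z, hzR⟩ : R)) = ⟨z, hzR⟩ from α.apply_symm_apply _] at h2
    have h3 : y ^ k = z := by rw [← hαy, ← SubgroupClass.coe_zpow, h2]
    have hzne : y ^ k ≠ 1 := fun e => hp.out.ne_one (by rw [← hoz, ← h3, e, orderOf_one])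
    have hyne : y ≠ 1 := fun e => hzne (by rw [e, one_zpow])
    obtain ⟨l, hl⟩ := mem_zpowers_of_prime_order (orderOf_eq_prime (hRexp y hyR) hyne)
      (Subgroup.zpow_mem _ (Subgroup.mem_zpowers y) k) hzne (Subgroup.mem_zpowers y)
    exact hy0 (hl ▸ h3 ▸ Φ.zpow_mem hzΦ l)
  obtain ⟨P0, φ, x0, hx0, hz0, hP0, hφ, hfix, hinv, hact⟩ := exists_torus_map hS hF hp2 hP hRsc inf_le_left hRab hRexp
    hzR hxP (hzcen x (hP.1 hxP))
    (fun r hr => hΦz _ (by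
      have h := Subgroup.commutator_mem_commutator (P.inv_mem hr.1) hxP
      simpa [commutatorElement_def, mul_assoc] using h))
    hα (by rw [hαy]; exact fun h => hxy (mul_inv_eq_iff_eq_mul.1 h))
    (by
      rw [← hγe]
      intro h
      obtain ⟨u, hu, hne⟩ := hnc γ hγ hγΦ
      obtain ⟨i, hi⟩ := mem_zpowers_of_prime_order hoz (hΦz _ (Subgroup.commutator_mem_commutator hxP hyR.1))
        (fun e => hxy (commutatorElement_eq_one_iff_mul_comm.1 e))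
        (hΦz _ (Subgroup.commutator_mem_commutator hu hyR.1))
      let cy : P →* Ω := MonoidHom.mk' (fun v => ⁅(v : Ω), y⁆) fun a b => by
        have hb := hΦcen _ (Subgroup.commutator_mem_commutator b.2 hyR.1) a (hP.1 a.2)
        have ha := hΦcen _ (Subgroup.commutator_mem_commutator a.2 hyR.1) _ (hΦS (Subgroup.commutator_mem_commutator b.2 hyR.1))
        calc ⁅((a * b : P) : Ω), y⁆ = (a : Ω) * ⁅(b : Ω), y⁆ * (a : Ω)⁻¹ * ⁅(a : Ω), y⁆ := by
              simp only [commutatorElement_def, Subgroup.coe_mul]; group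
          _ = ⁅(b : Ω), y⁆ * ⁅(a : Ω), y⁆ * ⁅(b : Ω), y⁆⁻¹ * ⁅(b : Ω), y⁆ := by rw [hb]; group
          _ = _ := by rw [ha]
      set v : P := (⟨x, hxP⟩ : P) ^ (-i) * ⟨u, hu⟩ with hv
      have hvR : (v : Ω) ∈ R := by
        refine (hRmem _ v.2).2 (commutatorElement_eq_one_iff_mul_comm.1 ?_)
        show cy v = 1
        rw [hv, map_mul, map_zpow, zpow_neg]
        show (⁅x, y⁆ ^ i)⁻¹ * ⁅u, y⁆ = 1
        rw [show ⁅x, y⁆ ^ i = ⁅u, y⁆ from hi, inv_mul_cancel]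
      have hwR : γ ⟨z, hzΦ⟩ ∈ R := by rw [hγe]; exact (α⁻¹ ⟨z, hzR⟩).2
      have hcx : Commute (γ ⟨z, hzΦ⟩) x := by
        show _ = _
        conv_lhs => rw [← h]
        group
      refine hne (Eq.symm ?_)
      have h2 : Commute (γ ⟨z, hzΦ⟩) (x ^ i * v) := (hcx.zpow_right i).mul_right (hRab _ hwR _ hvR)
      rw [show x ^ i * (v : Ω) = u by simp [hv]] at h2
      exact h2.eq)
  have hx0R : x0 ∉ R := fun h => by
    have h1 := hact y hyR
    rw [hRab x0 h y hyR, mul_inv_cancel_right] at h1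
    exact hxy (mul_inv_eq_iff_eq_mul.1 h1.symm)
  refine hcaseA x0 (hP0 hx0) hx0R ?_
  obtain ⟨k, hk⟩ := hΦz _ (hpowΦ x0 (hP0 hx0))
  have hz0' : (⟨x0, hx0⟩ : P0) ^ p = (⟨z, hz0⟩ : P0) ^ k :=
    Subtype.ext ((SubmonoidClass.coe_pow _ p).trans (hk.symm.trans (SubgroupClass.coe_zpow (⟨z, hz0⟩ : P0) k).symm))
  have h1 := congrArg φ hz0'
  rw [map_pow, map_zpow, hfix, hinv, inv_zpow] at h1
  rw [show z ^ k = x0 ^ p from hk] at h1
  have h2 : x0 ^ p * x0 ^ p = 1 := by rw [mul_eq_one_iff_eq_inv]; exact h1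
  have hzp : (x0 ^ p) ^ p = 1 := by
    rw [← hk, ← zpow_natCast, ← zpow_mul, mul_comm, zpow_mul, zpow_natCast, ← hoz, pow_orderOf_eq_one, one_zpow]
  have hd := Nat.dvd_gcd (orderOf_dvd_of_pow_eq_one (show (x0 ^ p) ^ 2 = 1 by rw [sq]; exact h2))
    (orderOf_dvd_of_pow_eq_one hzp)
  rw [(Nat.coprime_primes Nat.prime_two hp.out).2 (Ne.symm hp2) |>.gcd_eq_one] at hd
  exact orderOf_eq_one_iff.1 (Nat.dvd_one.1 hd)

end Cfsg.Agent.FusionSys
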