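import Cfsg.Agent.Lib.Fusion.Saturated

/-!
# Saturation from the Sylow axiom at `S` and receptivity of fully normalized subgroups
-/

set_option autoImplicit false

namespace Cfsg.Agent.FusionSys

open Cfsg Cfsg.FusionSystem

variable {Ω : Type*} [Group Ω] {S : Subgroup Ω} {p : ℕ} [hp : Fact p.Prime] [Finite S]

theorem restrict_pow {Q R : Subgroup Ω} (hRQ : R ≤ Q) {α : MulAut Q} {β : MulAut R}
    (h : ∀ x : R, ((α (Subgroup.inclusion hRQ x) : Q) : Ω) = (β x : R)) (n : ℕ) :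
    ∀ x : R, (((α ^ n) (Subgroup.inclusion hRQ x) : Q) : Ω) = ((β ^ n) x : R) := by
  induction n with
  | zero => intro x; simp
  | succ n ih =>
    intro x
    rw [pow_succ', pow_succ', MulAut.mul_apply, MulAut.mul_apply, ← h ((β ^ n) x)]
    exact congrArg (fun z => ((α z : Q) : Ω)) (Subtype.ext (ih x))

theorem fullyAutomized_of_receptive (hS : IsPGroup p S) (F : FusionSystem S) (hSA : F.IsFullyAutomized p S)
    (hrec : ∀ P, F.IsFullyNormalized P → F.IsReceptive P) :
    ∀ R : Subgroup Ω, F.IsFullyNormalized R → F.IsFullyAutomized p R := by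
  suffices h : ∀ k, ∀ R : Subgroup Ω, Nat.card S - Nat.card R = k → F.IsFullyNormalized R → F.IsFullyAutomized p R from
    fun R hR => h _ R rfl hR
  intro k
  induction k using Nat.strong_induction_on with
  | _ k ih =>
  intro R hk hR
  rcases eq_or_lt_of_le hR.1 with rfl | hlt
  · exact hSA
  have := finite_of_le hR.1
  set A := autInducedBy S R with hA
  obtain ⟨X, hX, hAX⟩ := exists_isSyl_ge (autInducedBy_isPGroup hS) (autInducedBy_le_autGroup F hR.1)
  rcases eq_or_lt_of_le hAX with hAXe | hAXlt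
  · exact fullyAutomized_of_isSyl_aut hR.1 (hAXe ▸ hX)
  exfalso
  obtain ⟨β, ⟨hβX, hβN⟩, hβA⟩ := SetLike.exists_of_lt
    (Cfsg.Agent.Fusion.lt_inf_normalizer hX.2.1.isNilpotent hAXlt)
  have hφ : R.subtype.comp β.toMonoidHom ∈ F.Hom R := (mem_autGroup_iff F hR.1 β).1 (hX.1 hβX)
  have hφr : (R.subtype.comp β.toMonoidHom).range = R := by
    ext y
    exact ⟨fun ⟨x, hx⟩ => hx ▸ (β x).2, fun hy => ⟨β.symm ⟨y, hy⟩, by simp⟩⟩
  obtain ⟨ψ', hψ', hag⟩ := (hrec R hR).2 R _ hφ hφr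
  have hN : normalizerIn S R ≤ extender S R (R.subtype.comp β.toMonoidHom) := by
    intro g hg
    obtain ⟨a, ha, hae⟩ := exists_conjAut (P := R) hg.1 hg.2
    obtain ⟨h, hh, hhe⟩ := (mem_autInducedBy_iff _).1
      ((Subgroup.mem_normalizer_iff.1 hβN a).1 ha)
    refine Subgroup.subset_closure ⟨hg.1, hg.2, h, hh, fun x hx => ?_⟩
    have h2 := hhe (β x)
    rw [MulAut.mul_apply, MulAut.mul_apply, show β⁻¹ (β x) = x from β.symm_apply_apply _] at h2
    refine Eq.trans ?_ h2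
    show ((β ⟨_, hx⟩ : R) : Ω) = _
    rw [show (⟨g * (x : Ω) * g⁻¹, hx⟩ : R) = a x from Subtype.ext (hae x).symm]
  set Q := normalizerIn S R with hQdef
  have hQS : Q ≤ S := normalizerIn_le S R
  have hRQ : R ≤ Q := le_normalizerIn hR.1
  have hRQlt : R < Q := Cfsg.Agent.Fusion.lt_inf_normalizer hS.isNilpotent hlt
  have := finite_of_le hQS
  have hψ := restrict_mem F hψ' hN
  have hψR : ((ψ'.comp (Subgroup.inclusion hN)).comp (Subgroup.inclusion hRQ)).range = R := by
    conv_rhs => rw [← hφr]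
    congr 1
    exact MonoidHom.ext fun x => hag x x.2 _
  have hψQ : (ψ'.comp (Subgroup.inclusion hN)).range = Q := by
    refine Subgroup.eq_of_le_of_card_ge ?_ (isConj_card ⟨_, hψ, rfl⟩).le
    rintro _ ⟨x, rfl⟩
    exact ⟨hom_apply_mem F hψ x, apply_mem_normalizer _ hRQ hψR x x.2.2⟩
  obtain ⟨α, hα, hαe⟩ := exists_autGroup_of_range F hψ hψQ
  have hres : ∀ x : R, ((α (Subgroup.inclusion hRQ x) : Q) : Ω) = (β x : R) := fun x =>
    (hαe _).trans (hag x x.2 _)
  obtain ⟨u, v, huv, hu, hv, ⟨j, huo⟩, hvo⟩ := Cfsg.Agent.PBasic.exists_pPart_mul (p := p) α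
  have hau : u ∈ F.autGroup Q := (Subgroup.zpowers_le.2 hα) hu
  obtain ⟨n, rfl⟩ := (isOfFinOrder_of_finite α).mem_powers_iff_mem_zpowers.2 hu
  obtain ⟨m, rfl⟩ := (isOfFinOrder_of_finite α).mem_powers_iff_mem_zpowers.2 hv
  have hβm : β ^ m = 1 := by
    refine Cfsg.Agent.PBasic.eq_one_of_isPGroup_of_coprime hX.2.1 (X.pow_mem hβX m) ?_
    refine hvo.coprime_dvd_left (orderOf_dvd_of_pow_eq_one (MulEquiv.ext fun x => Subtype.ext ?_))
    have := restrict_pow hRQ hres (m * orderOf (α ^ m)) x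
    rw [pow_mul, pow_orderOf_eq_one, pow_mul] at this
    exact this.symm
  have hun : ∀ x : R, (((α ^ n) (Subgroup.inclusion hRQ x) : Q) : Ω) = (β x : R) := fun x => by
    have h1 := restrict_pow hRQ hres (n + m) x
    rw [pow_add, pow_add, huv, hβm, mul_one] at h1
    rw [restrict_pow hRQ hres n x, ← h1]
    exact hres x
  obtain ⟨Q', hQQ', hQ'⟩ := exists_fullyNormalized F hQS
  have := finite_of_le hQ'.1
  obtain ⟨χ, hχ, hχr⟩ := id hQQ'
  have hχsyl := isSyl_of_fullyAutomized (ih _ (by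
    rw [← hk, ← isConj_card hQQ']
    have h1 : Nat.card R < Nat.card Q := lt_of_le_of_ne (Subgroup.card_le_of_le hRQ)
      fun he => hRQlt.ne (Subgroup.eq_of_le_of_card_ge hRQ he.ge)
    have h2 : Nat.card Q ≤ Nat.card S := Subgroup.card_le_of_le hQS
    omega) Q' rfl hQ')
  set e := mapEquiv F hχ hχr
  have hpu : IsPGroup p (Subgroup.zpowers (MulAut.congr e (α ^ n))) := by
    refine IsPGroup.of_card (n := j) ?_
    rw [Nat.card_zpowers, MulEquiv.orderOf_eq]
    exact huo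
  obtain ⟨γ, hγ, hγle⟩ := hχsyl.exists_conj hpu (Subgroup.zpowers_le.2
    (congr_mem_autGroup F e (hom_congr F hχ fun _ => rfl) (mapEquiv_symm_mem F hχ hχr) hau))
  obtain ⟨s, hs, hse⟩ := (mem_autInducedBy_iff _).1 (hγle ⟨_, Subgroup.mem_zpowers _, rfl⟩)
  set e' : Q ≃* Q' := e.trans γ with he'
  have hse' : ∀ y : Q, ((e' ((α ^ n) y) : Q') : Ω) = s * (e' y : Q') * s⁻¹ := fun y => by
    have := hse (e' y)
    simp only [MulEquiv.coe_toMonoidHom, MulAut.conj_apply, MulAut.mul_apply] at this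
    rw [show γ⁻¹ (e' y) = e y from γ.symm_apply_apply _, congr_apply, MulEquiv.symm_apply_apply] at this
    exact this
  have he'hom : Q'.subtype.comp e'.toMonoidHom ∈ F.Hom Q :=
    hom_congr F (F.comp_mem (hom_congr F hχ fun _ => rfl : Q'.subtype.comp e.toMonoidHom ∈ F.Hom Q)
      ((mem_autGroup_iff F hQ'.1 γ).1 hγ) fun x => (e x).2) fun _ => rfl
  set R' := ((Q'.subtype.comp e'.toMonoidHom).comp (Subgroup.inclusion hRQ)).range with hR'def
  have hRR' : F.IsConj R R' := ⟨_, restrict_mem F he'hom hRQ, rfl⟩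
  have hR'S := isConj_le_right hRR'
  have := finite_of_le hR'S
  have hQ'N : Q' ≤ normalizerIn S R' := fun y hy => by
    obtain ⟨x, hx⟩ := e'.surjective ⟨y, hy⟩
    have h := apply_mem_normalizer (Q'.subtype.comp e'.toMonoidHom) hRQ rfl x x.2.2
    refine ⟨hQ'.1 hy, ?_⟩
    rwa [show (Q'.subtype.comp e'.toMonoidHom) x = y from congrArg Subtype.val hx] at h
  have hsN : s ∈ normalizerIn S R' := by
    refine ⟨hs, mem_normalizer_of_conj_mem_finite ?_⟩
    rintro _ ⟨x, rfl⟩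
    refine ⟨β x, ?_⟩
    refine Eq.trans ?_ (hse' (Subgroup.inclusion hRQ x))
    exact congrArg (fun z => ((e' z : Q') : Ω)) (Subtype.ext (hun x).symm)
  have hcard := hR.2 R' hRR'
  have heq : Q' = normalizerIn S R' := by
    have := finite_of_le (normalizerIn_le S R')
    exact Subgroup.eq_of_le_of_card_ge hQ'N (hcard.trans (isConj_card hQQ').le)
  obtain ⟨q, hq⟩ := e'.surjective ⟨s, heq.ge hsN⟩
  refine hβA ((mem_autInducedBy_iff _).2 ⟨q, hQS q.2, fun x => ?_⟩)
  rw [← hun x]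
  have h2 : (α ^ n) (Subgroup.inclusion hRQ x) = q * Subgroup.inclusion hRQ x * q⁻¹ := by
    apply e'.injective
    apply Subtype.ext
    rw [hse', map_mul, map_mul, map_inv, hq]
    rfl
  rw [h2]
  rfl

theorem isSaturated_iff_receptive (hS : IsPGroup p S) (F : FusionSystem S) :
    F.IsSaturated p ↔ F.IsFullyAutomized p S ∧ ∀ P, F.IsFullyNormalized P → F.IsReceptive P := by
  constructor
  · intro hF
    refine ⟨?_, fun P hP => fullyNormalized_receptive hS hF hP⟩
    refine (fullyNormalized_imp hS hF ⟨le_rfl, fun Q hQ => ?_⟩).2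
    have := finite_of_le (normalizerIn_le S S)
    exact Subgroup.card_le_of_le (le_inf (normalizerIn_le S Q) ((normalizerIn_le S Q).trans Subgroup.le_normalizer))
  · rintro ⟨h1, h2⟩ P hP
    obtain ⟨Q, hPQ, hQ⟩ := exists_fullyNormalized F hP
    exact ⟨Q, hPQ, fullyAutomized_of_receptive hS F h1 h2 Q hQ, h2 Q hQ⟩

end Cfsg.Agent.FusionSys
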