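import Cfsg.Agent.Lib.Fusion.Normal
import Cfsg.Agent.Lib.Fusion.SaturationCriterion
import Cfsg.Agent.Lib.Fusion.Simple

/-!
# The inner system; systems over abelian groups
-/

set_option autoImplicit false

namespace Cfsg.Agent.FusionSys

open Cfsg Cfsg.FusionSystem

variable {Ω : Type*} [Group Ω] {S : Subgroup Ω} {p : ℕ} [hp : Fact p.Prime] [Finite S]

omit hp in
theorem inner_autGroup_top : (innerFusionSystem S).autGroup S = Inn S := by
  refine le_antisymm (fun a ha => ?_) (inn_le_autGroup _ le_rfl)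
  obtain ⟨-, g, hg, he⟩ := (mem_autGroup_iff _ le_rfl a).1 ha
  rw [inn_eq_autInducedBy_self]
  exact (mem_autInducedBy_iff a).2 ⟨g, hg, he⟩

theorem innerFusionSystem_saturated (hS : IsPGroup p S) : (innerFusionSystem S).IsSaturated p := by
  refine (isSaturated_iff_receptive hS _).2 ⟨⟨le_rfl, ?_⟩, fun Q hQ => ⟨hQ.1, fun P φ hφ hr => ?_⟩⟩
  · have h1 : (autInducedBy S S).subgroupOf ((innerFusionSystem S).autGroup S) = ⊤ := by
      rw [Subgroup.subgroupOf_eq_top, inner_autGroup_top, inn_eq_autInducedBy_self]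
    have hp1 : IsPGroup p ((innerFusionSystem S).autGroup S) := by
      rw [inner_autGroup_top, inn_eq_autInducedBy_self]; exact autInducedBy_isPGroup hS
    obtain ⟨R⟩ : Nonempty (Sylow p ((innerFusionSystem S).autGroup S)) := inferInstance
    exact ⟨R, (R.is_maximal' (hp1.to_subgroup ⊤) le_top).symm.trans h1.symm⟩
  · obtain ⟨hP, g, hg, he⟩ := hφ
    have hext : extender S P φ ≤ S := (Subgroup.closure_le _).2 fun x hx => hx.1
    exact ⟨conjHom _ g, (innerFusionSystem S).conj_mem hext hg, fun x hxP _ => (he ⟨x, hxP⟩).symm⟩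

section abelian

variable (hab : ∀ x ∈ S, ∀ y ∈ S, x * y = y * x)
include hab

omit hp [Finite S] in
theorem inn_eq_bot_of_abelian : Inn S = ⊥ := by
  rw [eq_bot_iff]
  rintro a ⟨g, rfl⟩
  refine Subgroup.mem_bot.2 (MulEquiv.ext fun x => Subtype.ext ?_)
  show (g : Ω) * x * (g : Ω)⁻¹ = x
  rw [hab g g.2 x x.2, mul_inv_cancel_right]

theorem isNormal_top_of_abelian (hS : IsPGroup p S) {F : FusionSystem S} (hF : F.IsSaturated p) : F.IsNormal S :=
  isNormal_of_abelian hS hF (stronglyClosed_self F) hab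

theorem exists_top_aut (hS : IsPGroup p S) {F : FusionSystem S} (hF : F.IsSaturated p) {P : Subgroup Ω}
    {φ : P →* Ω} (hφ : φ ∈ F.Hom P) :
    ∃ α ∈ F.autGroup S, ∀ x : P, ((α ⟨x, hom_le F hφ x.2⟩ : S) : Ω) = φ x :=
  exists_aut_of_isNormal (isNormal_top_of_abelian hab hS hF) (hom_le F hφ) hφ

theorem coprime_card_autGroup (hS : IsPGroup p S) {F : FusionSystem S} (hF : F.IsSaturated p) :
    (Nat.card (F.autGroup S)).Coprime p := by
  obtain ⟨Q, hSQ, ⟨hQ, R, hR⟩, -⟩ := hF S le_rfl
  obtain rfl : Q = S := Subgroup.eq_of_le_of_card_ge hQ (isConj_card hSQ).le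
  have h : (R : Subgroup (F.autGroup Q)) = ⊥ := by
    rw [hR, Subgroup.subgroupOf_eq_bot, ← inn_eq_autInducedBy_self, inn_eq_bot_of_abelian hab]
    exact disjoint_bot_left
  have := R.not_dvd_index
  rw [h, Subgroup.index_bot] at this
  exact ((Nat.Prime.coprime_iff_not_dvd hp.out).2 this).symm

/-- For abelian `S` a system with trivial `Aut_F(S)` has only inclusions. -/
theorem eq_inner_of_autGroup_eq_bot (hS : IsPGroup p S) {F : FusionSystem S} (hF : F.IsSaturated p)
    (h : F.autGroup S = ⊥) (P : Subgroup Ω) : F.Hom P = (innerFusionSystem S).Hom P := by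
  refine Set.Subset.antisymm (fun φ hφ => ?_) (innerFusionSystem_le F P)
  obtain ⟨α, hα, he⟩ := exists_top_aut hab hS hF hφ
  rw [h, Subgroup.mem_bot] at hα
  refine ⟨hom_le F hφ, 1, S.one_mem, fun x => ?_⟩
  rw [← he x, hα]
  simp

/-- `Z(F)` and the focal subgroup decompose an abelian `S`. -/
theorem center_focal (hS : IsPGroup p S) {F : FusionSystem S} (hF : F.IsSaturated p) :
    F.center ⊓ F.focalSubgroup = ⊥ ∧ F.center ⊔ F.focalSubgroup = S := by
  classical
  letI : CommGroup S := { (inferInstance : Group S) with mul_comm := fun a b => Subtype.ext (hab a a.2 b b.2) }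
  letI : Fintype (F.autGroup S) := Fintype.ofFinite _
  set A := F.autGroup S
  let N : S → S := fun x => ∏ a : A, (a : MulAut S) x
  have hN_mul : ∀ x y, N (x * y) = N x * N y := fun x y => by
    simp only [N, map_mul, Finset.prod_mul_distrib]
  have hN_fix : ∀ (b : A) (x : S), (b : MulAut S) (N x) = N x := by
    intro b x
    simp only [N, map_prod]
    exact Fintype.prod_equiv (Equiv.mulLeft b) _ _ fun a => rfl
  have hN_inv : ∀ (b : A) (x : S), N ((b : MulAut S) x) = N x := fun b x => by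
    simp only [N]
    exact Fintype.prod_equiv (Equiv.mulRight b) _ _ fun a => rfl
  have hcen : ∀ x : S, (x : Ω) ∈ F.center ↔ ∀ a ∈ A, a x = x := by
    intro x
    constructor
    · intro hx a ha
      obtain ⟨ψ, hψ, h1, h2⟩ := isCentral_extend (center_isCentral F) ((mem_autGroup_iff F le_rfl a).1 ha)
      have := (h1 x x.2 (Subgroup.mem_sup_left x.2)).symm.trans (h2 x _ hx)
      exact Subtype.ext this
    · intro hx
      refine isCentral_le_center ((isCentral_iff hS hF (Subgroup.zpowers (x : Ω))).2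
        ⟨Subgroup.zpowers_le.2 x.2, ?_⟩) (Subgroup.mem_zpowers _)
      rintro _ ⟨n, rfl⟩ _ ⟨φ, hφ, rfl⟩
      obtain ⟨α, hα, he⟩ := exists_top_aut hab hS hF hφ
      rw [← he ⟨(x : Ω) ^ n, Subgroup.mem_zpowers _⟩]
      show ((α ⟨(x : Ω) ^ n, _⟩ : S) : Ω) = (x : Ω) ^ n
      rw [show (⟨(x : Ω) ^ n, _⟩ : S) = x ^ n from Subtype.ext (SubgroupClass.coe_zpow x n).symm, map_zpow, hx α hα,
        SubgroupClass.coe_zpow]
  have hfoc : ∀ (a : A) (x : S), (x : Ω)⁻¹ * (((a : MulAut S) x : S) : Ω) ∈ F.focalSubgroup := fun a x =>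
    Subgroup.subset_closure ⟨S, _, x, (mem_autGroup_iff F le_rfl _).1 a.2, rfl⟩
  have hfocS : F.focalSubgroup ≤ S := (Subgroup.closure_le _).2 fun y hy => by
    obtain ⟨P, φ, x, hφ, rfl⟩ := hy
    exact S.mul_mem (S.inv_mem (hom_le F hφ x.2)) (hom_apply_mem F hφ x)
  have hkill : ∀ y : S, (y : Ω) ∈ F.focalSubgroup → N y = 1 := by
    let Nh : S →* S := MonoidHom.mk' N hN_mul
    have hle : F.focalSubgroup ≤ Nh.ker.map S.subtype := by
      rw [FusionSystem.focalSubgroup, Subgroup.closure_le]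
      rintro _ ⟨P, φ, x, hφ, rfl⟩
      obtain ⟨α, hα, he⟩ := exists_top_aut hab hS hF hφ
      refine ⟨⟨x, hom_le F hφ x.2⟩⁻¹ * α ⟨x, hom_le F hφ x.2⟩, ?_, by rw [← he x]; rfl⟩
      rw [SetLike.mem_coe, MonoidHom.mem_ker, map_mul, map_inv]
      show (N _)⁻¹ * N (α _) = 1
      rw [hN_inv ⟨α, hα⟩, inv_mul_cancel]
    intro y hy
    obtain ⟨z, hz, hzy⟩ := hle hy
    rw [show y = z from Subtype.ext hzy.symm]
    exact hz
  have hco : (Nat.card S).Coprime (Fintype.card A) := by
    obtain ⟨k, hk⟩ := hS.exists_card_eq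
    rw [hk, ← Nat.card_eq_fintype_card]
    exact ((coprime_card_autGroup hab hS hF).pow_right k).symm
  have hroot : ∀ x : S, x ∈ Subgroup.zpowers (x ^ Fintype.card A) := fun x =>
    mem_zpowers_pow_iff.2 (hco.coprime_dvd_left (orderOf_dvd_natCard x)).symm
  refine ⟨eq_bot_iff.2 fun y hy => ?_, le_antisymm (sup_le (center_isCentral F).1 hfocS) fun y hy => ?_⟩
  · have hyS : y ∈ S := (center_isCentral F).1 hy.1
    have h1 := hkill ⟨y, hyS⟩ hy.2
    simp only [N] at h1
    rw [Finset.prod_congr rfl (fun (a : A) _ => (hcen ⟨y, hyS⟩).1 hy.1 (a : MulAut S) a.2), Finset.prod_const,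
      Finset.card_univ] at h1
    have := hroot ⟨y, hyS⟩
    rw [h1, Subgroup.zpowers_one_eq_bot, Subgroup.mem_bot] at this
    exact Subgroup.mem_bot.2 (congrArg Subtype.val this)
  · have hmem : ((⟨y, hy⟩ : S) ^ Fintype.card A : S) ∈ (F.center ⊔ F.focalSubgroup).subgroupOf S := by
      have hprod : (⟨y, hy⟩ : S) ^ Fintype.card A =
          N ⟨y, hy⟩ * ∏ a : A, ((⟨y, hy⟩ : S)⁻¹ * (a : MulAut S) ⟨y, hy⟩)⁻¹ := by
        simp only [N]
        rw [← Finset.prod_mul_distrib, ← Finset.card_univ, ← Finset.prod_const]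
        exact Finset.prod_congr rfl fun a _ => by rw [mul_inv_rev, inv_inv, mul_inv_cancel_left]
      rw [hprod]
      refine Subgroup.mul_mem _ (Subgroup.mem_sup_left ((hcen _).2 fun a ha => hN_fix ⟨a, ha⟩ _)) ?_
      exact Subgroup.prod_mem _ fun a _ => Subgroup.inv_mem _ (Subgroup.mem_sup_right (hfoc a ⟨y, hy⟩))
    exact Subgroup.zpowers_le.2 hmem (hroot ⟨y, hy⟩)

/-- The simple systems over abelian groups. -/
theorem simple_abelian_iff (hS : IsPGroup p S) {F : FusionSystem S} (hF : F.IsSaturated p) :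
    F.IsSimple p ↔ (Nat.card S = p ∧ ∀ P : Subgroup Ω, F.Hom P = (innerFusionSystem S).Hom P) := by
  constructor
  · rintro ⟨-, hS1, hsimp⟩
    have hnor := isNormal_top_of_abelian hab hS hF
    have hI : (innerFusionSystem S).IsNormalIn F p := by
      refine ⟨⟨innerFusionSystem_saturated hS, hF, innerFusionSystem_le F, stronglyClosed_self F,
        fun P hPT φ hφ α hα => ?_, fun P hPT φ hφ => ?_⟩, fun α hα => ?_⟩
      · obtain ⟨hP', g, hg, he⟩ := hφ
        refine ⟨conjHom _ ((α ⟨g, hg⟩ : S) : Ω), (innerFusionSystem S).conj_mem ?_ (α _).2, fun x hφx hαx => ?_⟩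
        · rintro _ ⟨y, -, rfl⟩; exact (α y).2
        · show ((α ⟨g, hg⟩ : S) : Ω) * ((α ⟨x, hPT x.2⟩ : S) : Ω) * ((α ⟨g, hg⟩ : S) : Ω)⁻¹ = _
          rw [← Subgroup.coe_inv, ← Subgroup.coe_mul, ← Subgroup.coe_mul, ← map_inv, ← map_mul, ← map_mul]
          exact congrArg (fun z : S => ((α z : S) : Ω)) (Subtype.ext (he x).symm)
      · obtain ⟨α, hα, hae⟩ := exists_aut_of_isNormal hnor hPT hφ
        refine ⟨α, hα, conjHom P 1, (innerFusionSystem S).conj_mem hPT S.one_mem, fun x hx => ?_⟩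
        rw [← hae x]
        exact congrArg (fun z : S => ((α z : S) : Ω)) (Subtype.ext (show (x : Ω) = 1 * x * 1⁻¹ by simp))
      · rw [inner_autGroup_top, inn_eq_bot_of_abelian hab, Subgroup.mem_bot] at hα
        subst hα
        exact ⟨1, Subgroup.one_mem _, fun x => rfl, fun c _ => by simp⟩
    have heq : ∀ P : Subgroup Ω, F.Hom P = (innerFusionSystem S).Hom P := fun P =>
      (((hsimp S _ hI).resolve_left hS1).2 P).symm
    refine ⟨?_, heq⟩
    obtain ⟨n, hn⟩ := hS.exists_card_eq
    have hn0 : n ≠ 0 := fun h => hS1 (Subgroup.card_eq_one.1 (by rw [hn, h, pow_zero]))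
    obtain ⟨a, ha⟩ := exists_prime_orderOf_dvd_card' (G := S) p (hn ▸ dvd_pow_self p hn0)
    set T := Subgroup.zpowers (a : Ω) with hT
    have hTS : T ≤ S := Subgroup.zpowers_le.2 a.2
    have hTc : Nat.card T = p := by rw [hT, Nat.card_zpowers, Subgroup.orderOf_coe, ha]
    have := finite_of_le hTS
    have hfix : ∀ (P : Subgroup Ω) (φ : P →* Ω), φ ∈ F.Hom P → ∀ x : P, φ x = x := by
      intro P φ hφ x
      rw [heq P] at hφ
      obtain ⟨hP, g, hg, he⟩ := hφ
      rw [he, hab g hg x (hP x.2), mul_inv_cancel_right]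
    have habT : ∀ x ∈ T, ∀ y ∈ T, x * y = y * x := fun x hx y hy => hab x (hTS hx) y (hTS hy)
    have hTn : (innerFusionSystem T).IsNormalIn F p := by
      refine ⟨⟨innerFusionSystem_saturated (hS.to_le hTS), hF, fun P φ hφ => ?_, ⟨hTS, fun R hR φ hφ x => ?_⟩,
        fun P hPT φ hφ α hα => ?_, fun P hPT φ hφ => ?_⟩, fun α hα => ?_⟩
      · obtain ⟨hP, g, hg, he⟩ := hφ
        exact hom_congr F (F.conj_mem (hP.trans hTS) (hTS hg)) he
      · rw [hfix R φ hφ]; exact hR x.2
      · obtain ⟨hP', g, hg, he⟩ := hφ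
        refine ⟨conjHom _ 1, (innerFusionSystem T).conj_mem ?_ T.one_mem, fun x hφx hαx => ?_⟩
        · rintro _ ⟨y, -, rfl⟩; exact (α y).2
        · show 1 * ((α ⟨x, hPT x.2⟩ : T) : Ω) * 1⁻¹ = _
          rw [one_mul, inv_one, mul_one]
          refine congrArg (fun z : T => ((α z : T) : Ω)) (Subtype.ext ?_)
          show (x : Ω) = φ x
          rw [he, habT g hg x (hPT x.2), mul_inv_cancel_right]
      · exact ⟨1, Subgroup.one_mem _, conjHom P 1, (innerFusionSystem T).conj_mem hPT T.one_mem,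
          fun x hx => by rw [hfix P φ hφ]; show (x : Ω) = 1 * x * 1⁻¹; simp⟩
      · rw [inner_autGroup_top] at hα
        obtain ⟨g, rfl⟩ := hα
        refine ⟨1, Subgroup.one_mem _, fun x => ?_, fun c _ => by simp⟩
        show (x : Ω) = g * x * (g : Ω)⁻¹
        rw [habT g g.2 x x.2, mul_inv_cancel_right]
    rcases hsimp T _ hTn with h | ⟨h, -⟩
    · rw [h, Subgroup.card_bot] at hTc
      exact absurd hTc.symm hp.out.ne_one
    · rw [← h, hTc]
  · rintro ⟨hcard, heq⟩
    refine isSimple_of_inner hF (fun h => ?_) ?_ fun T hT => ?_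
    · rw [h, Subgroup.card_bot] at hcard
      exact hp.out.ne_one hcard.symm
    · refine le_antisymm ?_ (inn_le_autGroup F le_rfl)
      rw [← inner_autGroup_top]
      exact Subgroup.closure_mono fun α hα => (heq S).le hα
    · have := finite_of_le hT.1
      rcases (Nat.dvd_prime hp.out).1 (hcard ▸ Subgroup.card_dvd_of_le hT.1) with h | h
      · exact Or.inl (Subgroup.card_eq_one.1 h)
      · exact Or.inr (Subgroup.eq_of_le_of_card_ge hT.1 (by rw [h, hcard]))

/-- A quasisimple system has nonabelian `S`. -/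
theorem not_quasisimple_of_abelian (hS : IsPGroup p S) (F : FusionSystem S) : ¬ F.Quasisimple p := by
  rintro ⟨hF, hhyp, hsimp⟩
  have hle : F.hyperfocalSubgroup p ≤ F.focalSubgroup := by
    rw [FusionSystem.hyperfocalSubgroup, Subgroup.closure_le]
    rintro _ ⟨P, α, x, hP, -, rfl⟩
    exact Subgroup.subset_closure ⟨P, _, x, (mem_autGroup_iff F hP _).1 α.2, rfl⟩
  have hZ : F.center = ⊥ := by
    rw [← (center_focal hab hS hF).1, eq_comm, inf_eq_left]
    exact (center_isCentral F).1.trans (hhyp.ge.trans hle)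
  set π := QuotientGroup.mk' ((F.center).subgroupOf S) with hπ
  have hinj : Function.Injective π := by
    rw [← MonoidHom.ker_eq_bot_iff, hπ, QuotientGroup.ker_mk', hZ, Subgroup.bot_subgroupOf]
  have hker : ∀ s : S, π s = 1 ↔ (s : Ω) ∈ F.center := fun s =>
    (QuotientGroup.eq_one_iff s).trans Subgroup.mem_subgroupOf
  have hran : π.range = ⊤ := MonoidHom.range_eq_top.2 (QuotientGroup.mk'_surjective _)
  set E := factorSystem F (isNormal_stronglyClosed (isCentral_isNormal (center_isCentral F))) π hker hran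
  have hE := hsimp E (factorSystem_spec F _ π hker hran)
  have hQp : IsPGroup p (⊤ : Subgroup (S ⧸ (F.center).subgroupOf S)) := (hS.to_quotient _).to_subgroup _
  have habQ : ∀ x ∈ (⊤ : Subgroup (S ⧸ (F.center).subgroupOf S)), ∀ y ∈ (⊤ : Subgroup (S ⧸ (F.center).subgroupOf S)),
      x * y = y * x := by
    intro x _ y _
    obtain ⟨a, rfl⟩ := QuotientGroup.mk'_surjective _ x
    obtain ⟨b, rfl⟩ := QuotientGroup.mk'_surjective _ y
    rw [← map_mul, ← map_mul, show a * b = b * a from Subtype.ext (hab a a.2 b b.2)]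
  obtain ⟨-, hEinner⟩ := (simple_abelian_iff habQ hQp hE.1).1 hE
  -- hence every automorphism of `S` in `F` is trivial
  have htriv : F.autGroup S = ⊥ := by
    rw [eq_bot_iff]
    intro a ha
    have hpre : preimageAlong π ⊤ = S := by
      rw [preimageAlong, Subgroup.comap_top, ← MonoidHom.range_eq_map, Subgroup.range_subtype]
    let φ' : (⊤ : Subgroup (S ⧸ (F.center).subgroupOf S)) →* S ⧸ (F.center).subgroupOf S :=
      π.comp (a.toMonoidHom.comp ((MulEquiv.ofBijective π ⟨hinj, QuotientGroup.mk'_surjective _⟩).symm.toMonoidHom.comp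
        (⊤ : Subgroup (S ⧸ (F.center).subgroupOf S)).subtype))
    have hmem : φ' ∈ E.Hom ⊤ := by
      refine ⟨le_rfl, S.subtype.comp (a.toMonoidHom.comp (Subgroup.inclusion hpre.le)),
        restrict_mem F ((mem_autGroup_iff F le_rfl a).1 ha) hpre.le, hpre.le, fun x => (a _).2,
        fun x => Subgroup.mem_top _, fun x => ?_⟩
      show π (a ((MulEquiv.ofBijective π ⟨hinj, QuotientGroup.mk'_surjective _⟩).symm
        (π ⟨x, hpre.le x.2⟩))) = π _
      congr 1
      rw [show ((MulEquiv.ofBijective π ⟨hinj, QuotientGroup.mk'_surjective _⟩).symm (π ⟨x, hpre.le x.2⟩)) =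
        (⟨x, hpre.le x.2⟩ : S) from MulEquiv.symm_apply_apply (MulEquiv.ofBijective π _) _]
      rfl
    rw [hEinner ⊤] at hmem
    obtain ⟨-, g, -, hg⟩ := hmem
    rw [Subgroup.mem_bot]
    refine MulEquiv.ext fun s => hinj ?_
    have h := hg ⟨π s, Subgroup.mem_top _⟩
    rw [habQ g (Subgroup.mem_top _) (π s) (Subgroup.mem_top _), mul_inv_cancel_right] at h
    refine Eq.trans ?_ h
    show π (a s) = π (a ((MulEquiv.ofBijective π ⟨hinj, QuotientGroup.mk'_surjective _⟩).symm (π s)))
    rw [show ((MulEquiv.ofBijective π ⟨hinj, QuotientGroup.mk'_surjective _⟩).symm (π s)) = s from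
      MulEquiv.symm_apply_apply (MulEquiv.ofBijective π _) _]
  have hfoc : F.focalSubgroup = ⊥ := by
    rw [eq_bot_iff, FusionSystem.focalSubgroup, Subgroup.closure_le]
    rintro _ ⟨P, φ, x, hφ, rfl⟩
    obtain ⟨α, hα, he⟩ := exists_top_aut hab hS hF hφ
    rw [htriv, Subgroup.mem_bot] at hα
    rw [← he x, hα]
    simp
  have hSbot : S = ⊥ := eq_bot_iff.2 (hhyp.ge.trans (hle.trans hfoc.le))
  refine hE.2.1 (eq_bot_iff.2 fun y _ => ?_)
  obtain ⟨s, rfl⟩ := QuotientGroup.mk'_surjective _ y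
  rw [Subgroup.mem_bot, show s = 1 from Subtype.ext (Subgroup.mem_bot.1 (hSbot.le s.2)), map_one]

end abelian

/-- An abelian 2-group of invariants of pairwise distinct sizes has no automorphism of odd order. -/
theorem aut_odd_trivial {n : ℕ} (a : Fin n → ℕ) (ha : Function.Injective a) (ha1 : ∀ i, 1 ≤ a i)
    (α : MulAut (Multiplicative ((i : Fin n) → ZMod (2 ^ a i)))) (hα : Odd (orderOf α)) : α = 1 := by
  classical
  haveI : ∀ i, NeZero (2 ^ a i) := fun i => ⟨by positivity⟩
  haveI : Finite (Multiplicative ((i : Fin n) → ZMod (2 ^ a i))) := inferInstanceAs (Finite ((i : Fin n) → ZMod (2 ^ a i)))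
  obtain ⟨m, hm⟩ := hα
  have hiter : ∀ (y z : (Multiplicative ((i : Fin n) → ZMod (2 ^ a i)))), α y = y * z → α z = z → z ^ orderOf α = 1 := by
    intro y z hy hz
    have h : ∀ k : ℕ, (α ^ k) y = y * z ^ k := by
      intro k
      induction k with
      | zero => simp
      | succ k ih => rw [pow_succ', MulAut.mul_apply, ih, map_mul, map_pow, hy, hz, mul_assoc, pow_succ']
    have h1 := h (orderOf α)
    rwa [pow_orderOf_eq_one, MulAut.one_apply, left_eq_mul] at h1
  have hodd_one : ∀ z : (Multiplicative ((i : Fin n) → ZMod (2 ^ a i))), z ^ 2 = 1 → z ^ orderOf α = 1 → z = 1 := by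
    intro z h2 hN
    rw [hm, pow_succ, pow_mul, h2, one_pow, one_mul] at hN
    exact hN
  -- on the involutions and one: a descending series with steps of order at most two
  let D : ℕ → (Multiplicative ((i : Fin n) → ZMod (2 ^ a i))) → Prop := fun k x => ∃ y : (Multiplicative ((i : Fin n) → ZMod (2 ^ a i))), x = y ^ 2 ^ k
  have hfix2 : ∀ (d k : ℕ), (∀ i, a i < k + d) → ∀ x : (Multiplicative ((i : Fin n) → ZMod (2 ^ a i))), x ^ 2 = 1 → D k x → α x = x := by
    intro d
    induction d with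
    | zero =>
      rintro k hk x - ⟨y, rfl⟩
      have : y ^ 2 ^ k = 1 := by
        refine Multiplicative.toAdd.injective (funext fun i => ?_)
        simp only [toAdd_pow, toAdd_one, Pi.smul_apply, Pi.zero_apply, nsmul_eq_mul]
        rw [(ZMod.natCast_eq_zero_iff _ _).2 (pow_dvd_pow 2 (by have := hk i; omega)), zero_mul]
      rw [this, map_one]
    | succ d ih =>
      intro k hk x hx2 hxD
      by_contra hne
      -- a `2`-torsion multiple of `2^k` outside the next layer has one extra coordinate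
      have hα2 : (α x) ^ 2 = 1 := by rw [← map_pow, hx2, map_one]
      have hαD : D k (α x) := by obtain ⟨y, rfl⟩ := hxD; exact ⟨α y, map_pow α y _⟩
      have hlayer : ∀ w : (Multiplicative ((i : Fin n) → ZMod (2 ^ a i))), w ^ 2 = 1 → D k w → ∀ i, a i ≤ k → Multiplicative.toAdd w i = 0 := by
        rintro w - ⟨y, rfl⟩ i hi
        simp only [toAdd_pow, Pi.smul_apply, nsmul_eq_mul]
        rw [(ZMod.natCast_eq_zero_iff _ _).2 (pow_dvd_pow 2 hi), zero_mul]
      have hhalf : ∀ w : (Multiplicative ((i : Fin n) → ZMod (2 ^ a i))), w ^ 2 = 1 → ∀ i, Multiplicative.toAdd w i = 0 ∨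
          Multiplicative.toAdd w i = ((2 ^ (a i - 1) : ℕ) : ZMod (2 ^ a i)) := by
        intro w hw i
        have h := congrArg (fun g : Multiplicative ((i : Fin n) → ZMod (2 ^ a i)) => Multiplicative.toAdd g i) hw
        simp only [toAdd_pow, toAdd_one, Pi.smul_apply, Pi.zero_apply, nsmul_eq_mul] at h
        rw [← ZMod.natCast_zmod_val (Multiplicative.toAdd w i)] at h ⊢
        set v := (Multiplicative.toAdd w i).val
        have hv : v < 2 ^ a i := ZMod.val_lt _
        rw [← Nat.cast_mul, ZMod.natCast_eq_zero_iff] at h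
        have he : 2 ^ a i = 2 * 2 ^ (a i - 1) := by rw [← pow_succ', Nat.sub_add_cancel (ha1 i)]
        rw [he] at h hv
        obtain ⟨c, hc⟩ := Nat.dvd_of_mul_dvd_mul_left two_pos h
        have hc2 : c < 2 := by
          by_contra h'
          push Not at h'
          have : 2 ^ (a i - 1) * 2 ≤ 2 ^ (a i - 1) * c := Nat.mul_le_mul_left _ h'
          omega
        rcases (show c = 0 ∨ c = 1 by omega) with rfl | rfl
        · left; rw [hc]; simp
        · right; rw [hc]; simp
      have hnext : ∀ w : (Multiplicative ((i : Fin n) → ZMod (2 ^ a i))), w ^ 2 = 1 → (∀ i, a i ≤ k + 1 → Multiplicative.toAdd w i = 0) → D (k + 1) w := by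
        intro w hw hz
        have : ∀ i, ∃ c : ZMod (2 ^ a i), Multiplicative.toAdd w i = (2 ^ (k + 1) : ℕ) • c := by
          intro i
          by_cases hi : a i ≤ k + 1
          · exact ⟨0, by rw [smul_zero]; exact hz i hi⟩
          rcases hhalf w hw i with h | h
          · exact ⟨0, by rw [smul_zero]; exact h⟩
          · refine ⟨((2 ^ (a i - 1 - (k + 1)) : ℕ) : ZMod (2 ^ a i)), ?_⟩
            rw [h, nsmul_eq_mul, ← Nat.cast_mul, ← pow_add]
            congr 2
            omega
        choose c hc using this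
        exact ⟨Multiplicative.ofAdd c, Multiplicative.toAdd.injective (funext fun i => by
          simp only [toAdd_pow, toAdd_ofAdd, Pi.smul_apply]; exact hc i)⟩
      have hwD : x⁻¹ * α x ≠ 1 := by rwa [ne_eq, inv_mul_eq_one, eq_comm]
      have hw2 : (x⁻¹ * α x) ^ 2 = 1 := by rw [mul_pow, inv_pow, hx2, hα2, inv_one, one_mul]
      have hsame : ∀ i, a i ≤ k + 1 → Multiplicative.toAdd (α x) i = Multiplicative.toAdd x i ∨
          ∀ j, a j ≤ k + 1 → j ≠ i → Multiplicative.toAdd (α x) j = 0 ∧ Multiplicative.toAdd x j = 0 := by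
        intro i hi
        rcases Nat.lt_or_ge k (a i) with h | h
        · right
          intro j hj hji
          have : a j ≤ k := by
            have : a j ≠ a i := fun e => hji (ha e)
            omega
          exact ⟨hlayer _ hα2 hαD j this, hlayer _ hx2 hxD j this⟩
        · left; rw [hlayer _ hα2 hαD i h, hlayer _ hx2 hxD i h]
      by_cases hxin : D (k + 1) x
      · exact hne (ih (k + 1) (fun i => by have := hk i; omega) x hx2 hxin)
      obtain ⟨i₀, hi₀, hxi₀⟩ : ∃ i, a i ≤ k + 1 ∧ Multiplicative.toAdd x i ≠ 0 := by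
        by_contra h
        push Not at h
        exact hxin (hnext x hx2 h)
      have hzero : ∀ i, a i ≤ k + 1 → i ≠ i₀ → Multiplicative.toAdd (α x) i = 0 ∧ Multiplicative.toAdd x i = 0 := by
        intro i hi hne'
        rcases hsame i₀ hi₀ with h | h
        · rcases Nat.lt_or_ge k (a i₀) with hk' | hk'
          · have : a i ≤ k := by
              have : a i ≠ a i₀ := fun e => hne' (ha e)
              omega
            exact ⟨hlayer _ hα2 hαD i this, hlayer _ hx2 hxD i this⟩
          · exact absurd (hlayer _ hx2 hxD i₀ hk') hxi₀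
        · exact h i hi hne'
      have hαin : ¬ D (k + 1) (α x) := by
        intro hD
        obtain ⟨y, hy⟩ := hD
        exact hxin ⟨α⁻¹ y, by
          rw [← map_pow, ← hy]
          exact (α.symm_apply_apply x).symm⟩
      have hαi₀ : Multiplicative.toAdd (α x) i₀ ≠ 0 := fun h => hαin (hnext _ hα2 fun i hi => by
        rcases eq_or_ne i i₀ with rfl | hne'
        · exact h
        · exact (hzero i hi hne').1)
      have hwz : D (k + 1) (x⁻¹ * α x) := hnext _ hw2 fun i hi => by
        rw [toAdd_mul, toAdd_inv, Pi.add_apply, Pi.neg_apply]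
        rcases eq_or_ne i i₀ with rfl | hne'
        · rw [(hhalf _ hα2 i).resolve_left hαi₀, (hhalf _ hx2 i).resolve_left hxi₀, neg_add_cancel]
        · rw [(hzero i hi hne').1, (hzero i hi hne').2, neg_zero, add_zero]
      have hαw := ih (k + 1) (fun i => by have := hk i; omega) _ hw2 hwz
      exact hwD (hodd_one _ hw2 (hiter x (x⁻¹ * α x) (mul_inv_cancel_left x (α x)).symm hαw))
  obtain ⟨M, hM⟩ : ∃ M, ∀ i, a i < M := ⟨∑ i, a i + 1, fun i =>
    Nat.lt_succ_of_le (Finset.single_le_sum (fun j _ => Nat.zero_le (a j)) (Finset.mem_univ i))⟩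
  have hinv : ∀ x : (Multiplicative ((i : Fin n) → ZMod (2 ^ a i))), x ^ 2 = 1 → α x = x := fun x hx =>
    hfix2 M 0 (fun i => by simpa using hM i) x hx ⟨x, by simp⟩
  have hall : ∀ (k : ℕ) (x : (Multiplicative ((i : Fin n) → ZMod (2 ^ a i)))), x ^ 2 ^ k = 1 → α x = x := by
    intro k
    induction k with
    | zero => intro x hx; rw [pow_zero, pow_one] at hx; rw [hx, map_one]
    | succ k ih =>
      intro x hx
      have h2 : α (x ^ 2) = x ^ 2 := ih _ (by rw [← pow_mul, ← pow_succ']; exact hx)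
      have hw2 : (x⁻¹ * α x) ^ 2 = 1 := by rw [mul_pow, inv_pow, ← map_pow, h2, inv_mul_cancel]
      have := hodd_one _ hw2 (hiter x _ (mul_inv_cancel_left x (α x)).symm (hinv _ hw2))
      rw [inv_mul_eq_one] at this
      exact this.symm
  refine MulEquiv.ext fun x => hall M x ?_
  refine Multiplicative.toAdd.injective (funext fun i => ?_)
  simp only [toAdd_pow, toAdd_one, Pi.smul_apply, Pi.zero_apply, nsmul_eq_mul]
  rw [(ZMod.natCast_eq_zero_iff _ _).2 (pow_dvd_pow 2 (hM i).le), zero_mul]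

end Cfsg.Agent.FusionSys
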