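import Cfsg.Agent.Lib.Fusion.Alperin
import Cfsg.Agent.Lib.Fusion.Group
import Cfsg.Agent.Lib.Transfer.Fusion

/-!
# Focal and hyperfocal subgroups

`foc = hyp ⊔ [S,S]`, the hyperfocal subgroup is strongly closed, and for a group it is `S ∩ O^p(G)`.
-/

set_option autoImplicit false

namespace Cfsg.Agent.FusionSys

open Cfsg Cfsg.FusionSystem
open scoped commutatorElement

variable {Ω : Type*} [Group Ω] {S : Subgroup Ω}

/-- The maps of `F` respecting an equivalence on `S` that is stable under conjugation in `S`. -/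
def relSystem (F : FusionSystem S) (R : Ω → Ω → Prop) (hconj : ∀ x ∈ S, ∀ g ∈ S, R x (g * x * g⁻¹))
    (hsymm : ∀ x ∈ S, ∀ y ∈ S, R x y → R y x)
    (htrans : ∀ x ∈ S, ∀ y ∈ S, ∀ z ∈ S, R x y → R y z → R x z) : FusionSystem S where
  Hom P := {φ | φ ∈ F.Hom P ∧ ∀ x : P, R x (φ x)}
  le_of_mem h := ⟨hom_le F h.1, fun x => hom_apply_mem F h.1 x⟩
  injective_of_mem h := F.injective_of_mem h.1
  conj_mem hP hg := ⟨F.conj_mem hP hg, fun x => hconj x (hP x.2) _ hg⟩
  comp_mem {P Q φ ψ} hφ hψ h := ⟨F.comp_mem hφ.1 hψ.1 h, fun x =>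
    htrans x (hom_le F hφ.1 x.2) (φ x) (hom_apply_mem F hφ.1 x) _ (hom_apply_mem F hψ.1 _) (hφ.2 x) (hψ.2 ⟨φ x, h x⟩)⟩
  inv_mem {P φ} hφ := by
    obtain ⟨ψ, hψ, hψx⟩ := F.inv_mem hφ.1
    refine ⟨ψ, ⟨hψ, fun y => ?_⟩, hψx⟩
    obtain ⟨_, x, rfl⟩ := y
    show R (φ x) (ψ ⟨φ x, ⟨x, rfl⟩⟩)
    rw [hψx]
    exact hsymm _ (hom_le F hφ.1 x.2) _ (hom_apply_mem F hφ.1 x) (hφ.2 x)

variable {p : ℕ} [hp : Fact p.Prime] [Finite S]

theorem fullyNormalized_top (F : FusionSystem S) : F.IsFullyNormalized S := by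
  refine ⟨le_rfl, fun Q _ => ?_⟩
  have := finite_of_le (normalizerIn_le S S)
  exact Subgroup.card_le_of_le (le_inf (normalizerIn_le S Q) ((normalizerIn_le S Q).trans Subgroup.le_normalizer))

/-- A relation respected by the residual automorphisms of fully normalized subgroups is respected by all maps. -/
theorem rel_of_residual (hS : IsPGroup p S) {F : FusionSystem S} (hF : F.IsSaturated p) (R : Ω → Ω → Prop)
    (hconj : ∀ x ∈ S, ∀ g ∈ S, R x (g * x * g⁻¹))
    (hsymm : ∀ x ∈ S, ∀ y ∈ S, R x y → R y x)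
    (htrans : ∀ x ∈ S, ∀ y ∈ S, ∀ z ∈ S, R x y → R y z → R x z)
    (hres : ∀ P : Subgroup Ω, P ≤ S → ∀ a : F.autGroup P, a ∈ pResidual p (F.autGroup P) →
      ∀ x : P, R x (((a : MulAut P) x : P) : Ω))
    {P : Subgroup Ω} {φ : P →* Ω} (hφ : φ ∈ F.Hom P) (x : P) : R x (φ x) := by
  suffices h : F ≤ relSystem F R hconj hsymm htrans from (h P hφ).2 x
  refine alperin hS hF fun P hP α hα => ?_
  have hn : F.IsFullyNormalized P := hP.elim (fun e => e ▸ fullyNormalized_top F) fun e => e.2.1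
  have hPS := hn.1
  have := finite_of_le hPS
  obtain ⟨T, hT⟩ := (fullyNormalized_imp hS hF hn).2.2
  haveI := Cfsg.Agent.PBasic.pResidual_normal_inst p (F.autGroup P)
  have hsup : (⟨α, hα⟩ : F.autGroup P) ∈ (T : Subgroup (F.autGroup P)) ⊔ pResidual p (F.autGroup P) := by
    rw [Cfsg.Agent.PBasic.sylow_sup_pResidual]; exact Subgroup.mem_top _
  rw [← SetLike.mem_coe, Subgroup.mul_normal] at hsup
  obtain ⟨c, hc, r, hr, hcr⟩ := hsup
  rw [hT] at hc
  obtain ⟨g, hg, hge⟩ := (mem_autInducedBy_iff (c : MulAut P)).1 hc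
  rw [mem_autGroup_iff _ hPS]
  refine ⟨(mem_autGroup_iff F hPS α).1 hα, fun x => ?_⟩
  show R x ((α x : P) : Ω)
  rw [show α = (c : MulAut P) * r from (congrArg Subtype.val hcr).symm, MulAut.mul_apply, hge]
  exact htrans _ (hPS x.2) _ (hPS ((r : MulAut P) x).2) _
    (S.mul_mem (S.mul_mem hg (hPS ((r : MulAut P) x).2)) (S.inv_mem hg)) (hres P hPS r hr x)
    (hconj _ (hPS ((r : MulAut P) x).2) g hg)

theorem hyperfocal_mem {F : FusionSystem S} {P : Subgroup Ω} (hP : P ≤ S) {a : F.autGroup P}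
    (ha : a ∈ pResidual p (F.autGroup P)) (x : P) :
    (x : Ω)⁻¹ * (((a : MulAut P) x : P) : Ω) ∈ F.hyperfocalSubgroup p :=
  Subgroup.subset_closure ⟨P, a, x, hP, ha, rfl⟩

omit hp [Finite S] in
theorem hyperfocal_le (F : FusionSystem S) : F.hyperfocalSubgroup p ≤ S :=
  (Subgroup.closure_le _).2 fun _ ⟨P, a, x, hP, _, hy⟩ => hy ▸ S.mul_mem (S.inv_mem (hP x.2)) (hP ((a : MulAut P) x).2)

omit hp [Finite S] in
theorem hyperfocal_conj_mem (F : FusionSystem S) {g y : Ω} (hg : g ∈ S) (hy : y ∈ F.hyperfocalSubgroup p) :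
    g * y * g⁻¹ ∈ F.hyperfocalSubgroup p := by
  suffices h : F.hyperfocalSubgroup p ≤ (F.hyperfocalSubgroup p).comap (MulAut.conj g).toMonoidHom from h hy
  refine (Subgroup.closure_le _).2 ?_
  rintro _ ⟨P, a, x, hP, ha, rfl⟩
  set e : P ≃* P.map (MulAut.conj g).toMonoidHom := P.equivMapOfInjective _ (MulAut.conj g).injective
  have he : equivHom e ∈ F.Hom P := hom_congr F (F.conj_mem hP hg) fun _ => rfl
  have hQ : P.map (MulAut.conj g).toMonoidHom ≤ S := by
    rintro _ ⟨z, hz, rfl⟩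
    exact S.mul_mem (S.mul_mem hg (hP hz)) (S.inv_mem hg)
  have he' : P.subtype.comp e.symm.toMonoidHom ∈ F.Hom (P.map (MulAut.conj g).toMonoidHom) := by
    refine hom_congr F (F.conj_mem hQ (S.inv_mem hg)) fun z => ?_
    obtain ⟨z, rfl⟩ := e.surjective z
    show ((e.symm (e z) : P) : Ω) = g⁻¹ * ((MulAut.conj g) z : Ω) * g⁻¹⁻¹
    rw [e.symm_apply_apply, MulAut.conj_apply]
    group
  let f : F.autGroup P →* F.autGroup (P.map (MulAut.conj g).toMonoidHom) :=
    ((MulAut.congr e).toMonoidHom.comp (F.autGroup P).subtype).codRestrict _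
      fun b => congr_mem_autGroup F e he he' b.2
  have hfa := Cfsg.Agent.PBasic.map_pResidual_le (p := p) f ⟨a, ha, rfl⟩
  have h := Subgroup.subset_closure (k := _) (show ((e x : P.map (MulAut.conj g).toMonoidHom) : Ω)⁻¹ *
      ((((f a : F.autGroup _) : MulAut _) (e x) : P.map (MulAut.conj g).toMonoidHom) : Ω) ∈
      {y : Ω | ∃ (P : Subgroup Ω) (α : F.autGroup P) (x : P), P ≤ S ∧
        α ∈ pResidual p (F.autGroup P) ∧ y = (x : Ω)⁻¹ * ((α : MulAut P) x : P)} from
    ⟨_, f a, e x, hQ, hfa, rfl⟩)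
  show (MulAut.conj g) ((x : Ω)⁻¹ * (((a : MulAut P) x : P) : Ω)) ∈ F.hyperfocalSubgroup p
  rw [map_mul, map_inv]
  have h2 : (((f a : F.autGroup _) : MulAut _) (e x)) = e ((a : MulAut P) x) := by
    show MulAut.congr e (a : MulAut P) (e x) = _
    rw [congr_apply, e.symm_apply_apply]
  rw [h2] at h
  exact h

omit hp [Finite S] in
theorem hyperfocal_le_focal (F : FusionSystem S) : F.hyperfocalSubgroup p ≤ F.focalSubgroup := by
  refine (Subgroup.closure_le _).2 ?_
  rintro _ ⟨P, α, x, hP, -, rfl⟩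
  exact Subgroup.subset_closure ⟨P, _, x, (mem_autGroup_iff F hP _).1 α.2, rfl⟩

omit hp [Finite S] in
theorem commutator_le_focal (F : FusionSystem S) : ⁅S, S⁆ ≤ F.focalSubgroup := by
  rw [Subgroup.commutator_le]
  intro a ha b hb
  refine Subgroup.subset_closure ⟨S, conjHom S b, ⟨a⁻¹, S.inv_mem ha⟩, F.conj_mem le_rfl hb, ?_⟩
  show a * b * a⁻¹ * b⁻¹ = a⁻¹⁻¹ * (b * a⁻¹ * b⁻¹)
  group

theorem focal_eq (hS : IsPGroup p S) {F : FusionSystem S} (hF : F.IsSaturated p) :
    F.focalSubgroup = F.hyperfocalSubgroup p ⊔ ⁅S, S⁆ := by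
  refine le_antisymm ((Subgroup.closure_le _).2 ?_) (sup_le (hyperfocal_le_focal F) (commutator_le_focal F))
  rintro _ ⟨P, φ, x, hφ, rfl⟩
  refine rel_of_residual hS hF (fun x y => x⁻¹ * y ∈ F.hyperfocalSubgroup p ⊔ ⁅S, S⁆) ?_ ?_ ?_ ?_ hφ x
  · intro x hx g hg
    refine Subgroup.mem_sup_right ?_
    have := Subgroup.commutator_mem_commutator (S.inv_mem hx) hg
    rwa [commutatorElement_def, inv_inv, mul_assoc, mul_assoc, ← mul_assoc g] at this
  · intro x _ y _ h
    simpa [mul_inv_rev] using Subgroup.inv_mem _ h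
  · intro x _ y _ z _ h1 h2
    simpa [mul_assoc] using Subgroup.mul_mem _ h1 h2
  · exact fun P hP a ha x => Subgroup.mem_sup_left (hyperfocal_mem hP ha x)

theorem hyperfocal_stronglyClosed (hS : IsPGroup p S) {F : FusionSystem S} (hF : F.IsSaturated p) :
    F.StronglyClosed (F.hyperfocalSubgroup p) := by
  refine ⟨hyperfocal_le F, fun R hR φ hφ x => ?_⟩
  refine (rel_of_residual hS hF (fun x y => x ∈ F.hyperfocalSubgroup p ↔ y ∈ F.hyperfocalSubgroup p)
    ?_ ?_ ?_ ?_ hφ x).1 (hR x.2)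
  · intro x _ g hg
    refine ⟨hyperfocal_conj_mem F hg, fun h => ?_⟩
    simpa [mul_assoc] using hyperfocal_conj_mem F (S.inv_mem hg) h
  · exact fun _ _ _ _ h => h.symm
  · exact fun _ _ _ _ _ _ h1 h2 => h1.trans h2
  · intro P hP a ha x
    have h := hyperfocal_mem hP ha x
    refine ⟨fun hx => ?_, fun hx => ?_⟩
    · simpa using Subgroup.mul_mem _ hx h
    · simpa [mul_inv_rev] using Subgroup.mul_mem _ hx (Subgroup.inv_mem _ h)

section group

variable {G : Type*} [Group G] [Finite G]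

theorem group_hyperfocal (S : Sylow p G) :
    (groupFusionSystem (S : Subgroup G)).hyperfocalSubgroup p = (S : Subgroup G) ⊓ pResidual p G := by
  set F := groupFusionSystem (S : Subgroup G) with hF
  set K := pResidual p G with hK
  haveI := Cfsg.Agent.PBasic.pResidual_normal_inst p G
  refine le_antisymm (le_inf (hyperfocal_le F) ((Subgroup.closure_le _).2 ?_)) ?_
  · rintro _ ⟨P, a, x, hP, ha, rfl⟩
    let f : Subgroup.normalizer (P : Set G) →* F.autGroup P := P.normalizerMonoidHom.codRestrict _ fun k => by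
      rw [hF, group_autGroup S hP]
      exact (mem_autInducedBy_iff _).2 ⟨k, Subgroup.mem_top _, fun _ => rfl⟩
    have hf : Function.Surjective f := fun b => by
      have hb := b.2
      simp only [hF, group_autGroup S hP] at hb
      obtain ⟨k, -, hke⟩ := (mem_autInducedBy_iff _).1 hb
      exact ⟨⟨k, mem_normalizer_of_autInduced hke⟩, Subtype.ext (MulEquiv.ext fun z => Subtype.ext (hke z).symm)⟩
    rw [← Cfsg.Agent.PBasic.map_pResidual_eq f hf] at ha
    obtain ⟨k, hk, rfl⟩ := ha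
    have hkK : (k : G) ∈ K := Cfsg.Agent.PBasic.map_pResidual_le (p := p) (Subgroup.normalizer (P : Set G)).subtype
      ⟨k, hk, rfl⟩
    show (x : G)⁻¹ * ((k : G) * x * (k : G)⁻¹) ∈ K
    have h2 := (Cfsg.Agent.PBasic.pResidual_normal_inst p G).conj_mem _ hkK (x : G)⁻¹
    simpa [mul_assoc] using K.mul_mem h2 (K.inv_mem hkK)
  · set Q := (S : Subgroup G) ⊓ K with hQ
    set H := F.hyperfocalSubgroup p with hH
    set M := ⁅Q, (S : Subgroup G)⁆ ⊔ H with hM
    have hSH : (S : Subgroup G) ≤ Subgroup.normalizer (H : Set G) := fun g hg =>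
      mem_normalizer_of_conj_mem g (fun y hy => hyperfocal_conj_mem F hg hy) fun y hy => by
        simpa using hyperfocal_conj_mem F ((S : Subgroup G).inv_mem hg) hy
    refine Cfsg.Agent.Fusion.le_of_le_commutator_sup (Cfsg.Agent.Fusion.sylow_isNilpotent S) inf_le_left
      (hyperfocal_le F) hSH ?_
    obtain ⟨QK, hQK⟩ := Cfsg.Agent.PBasic.exists_sylow_subgroupOf S K
    have hQKle : (QK : Subgroup K) ≤ commutator K ⊓ (QK : Subgroup K) :=
      le_inf (Cfsg.Agent.Fusion.sylow_le_commutator (Cfsg.Agent.PBasic.pResidual_idem p G) QK) le_rfl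
    rw [Subgroup.commutator_inf_eq_focalSubgroup, Subgroup.focalSubgroup_def] at hQKle
    have hQmap : Q = (QK : Subgroup K).map K.subtype := by rw [hQK, Subgroup.subgroupOf_map_subtype]
    refine (hQmap.le.trans (Subgroup.map_mono hQKle)).trans ?_
    rw [MonoidHom.map_closure, Subgroup.closure_le]
    rintro _ ⟨_, ⟨hz, x, hx, u, rfl⟩, rfl⟩
    have hxQ : (x : G) ∈ Q := hQmap ▸ Subgroup.mem_map_of_mem K.subtype hx
    have hzQ : K.subtype ⁅x, u⁆ ∈ Q := hQmap ▸ Subgroup.mem_map_of_mem K.subtype hz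
    have h2 : (u : G) * (x : G)⁻¹ * (u : G)⁻¹ ∈ (S : Subgroup G) := by
      have h3 := (S : Subgroup G).mul_mem ((S : Subgroup G).inv_mem hxQ.1) hzQ.1
      simpa [commutatorElement_def, mul_assoc] using h3
    have hφ : conjHom (Subgroup.zpowers (x : G)⁻¹) (u : G) ∈ F.Hom (Subgroup.zpowers (x : G)⁻¹) := by
      refine ⟨Subgroup.zpowers_le.2 ((S : Subgroup G).inv_mem hxQ.1), ?_, u, fun _ => rfl⟩
      rintro ⟨_, n, rfl⟩
      show (u : G) * (x : G)⁻¹ ^ n * (u : G)⁻¹ ∈ (S : Subgroup G)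
      rw [← conj_zpow]
      exact zpow_mem h2 n
    have key := (rel_of_residual S.2 (groupFusionSystem_saturated S)
      (fun y y' => (y ∈ Q ↔ y' ∈ Q) ∧ (y ∈ Q → y⁻¹ * y' ∈ M)) ?_ ?_ ?_ ?_ hφ
      ⟨(x : G)⁻¹, Subgroup.mem_zpowers _⟩).2 (Q.inv_mem hxQ)
    · rw [SetLike.mem_coe]
      simpa [commutatorElement_def, mul_assoc] using key
    · intro y hy g hg
      refine ⟨⟨fun h => ⟨(S : Subgroup G).mul_mem ((S : Subgroup G).mul_mem hg h.1) ((S : Subgroup G).inv_mem hg),
          (Cfsg.Agent.PBasic.pResidual_normal_inst p G).conj_mem _ h.2 g⟩, fun h => ⟨hy, ?_⟩⟩, fun h => ?_⟩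
      · simpa [mul_assoc] using (Cfsg.Agent.PBasic.pResidual_normal_inst p G).conj_mem _ h.2 g⁻¹
      · refine Subgroup.mem_sup_left ?_
        have := Subgroup.commutator_mem_commutator (Q.inv_mem h) hg
        rwa [commutatorElement_def, inv_inv, mul_assoc, mul_assoc, ← mul_assoc g] at this
    · intro y _ z _ h
      exact ⟨h.1.symm, fun hz => by simpa [mul_inv_rev] using M.inv_mem (h.2 (h.1.2 hz))⟩
    · intro y _ z _ w _ h1 h2
      exact ⟨h1.1.trans h2.1, fun hy => by simpa [mul_assoc] using M.mul_mem (h1.2 hy) (h2.2 (h1.1.1 hy))⟩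
    · intro P hP a ha y
      have h := hyperfocal_mem hP ha y
      have hle : H ≤ Q := by
        refine le_inf (hyperfocal_le F) ?_
        refine (Subgroup.closure_le _).2 ?_
        rintro _ ⟨P', a', x', hP', ha', rfl⟩
        obtain ⟨φ', hφ', -, hφe⟩ := autGroup_apply_mem_hom F hP' a'.2
        let f : Subgroup.normalizer (P' : Set G) →* F.autGroup P' := P'.normalizerMonoidHom.codRestrict _ fun k => by
          rw [hF, group_autGroup S hP']
          exact (mem_autInducedBy_iff _).2 ⟨k, Subgroup.mem_top _, fun _ => rfl⟩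
        have hf : Function.Surjective f := fun b => by
          have hb := b.2
          simp only [hF, group_autGroup S hP'] at hb
          obtain ⟨k, -, hke⟩ := (mem_autInducedBy_iff _).1 hb
          exact ⟨⟨k, mem_normalizer_of_autInduced hke⟩,
            Subtype.ext (MulEquiv.ext fun z => Subtype.ext (hke z).symm)⟩
        rw [← Cfsg.Agent.PBasic.map_pResidual_eq f hf] at ha'
        obtain ⟨k, hk, rfl⟩ := ha'
        have hkK : (k : G) ∈ K := Cfsg.Agent.PBasic.map_pResidual_le (p := p)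
          (Subgroup.normalizer (P' : Set G)).subtype ⟨k, hk, rfl⟩
        show (x' : G)⁻¹ * ((k : G) * x' * (k : G)⁻¹) ∈ K
        have h2 := (Cfsg.Agent.PBasic.pResidual_normal_inst p G).conj_mem _ hkK (x' : G)⁻¹
        simpa [mul_assoc] using K.mul_mem h2 (K.inv_mem hkK)
      refine ⟨⟨fun hy => ?_, fun hy => ?_⟩, fun _ => Subgroup.mem_sup_right h⟩
      · simpa using Q.mul_mem hy (hle h)
      · simpa [mul_inv_rev] using Q.mul_mem hy (Q.inv_mem (hle h))

end group

end Cfsg.Agent.FusionSys
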