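import Cfsg.Agent.Lib.Fusion.FactorLift
import Cfsg.Agent.Lib.Fusion.Hyperfocal
import Cfsg.Agent.Lib.Fusion.Local
import Cfsg.Prelude.Def_FusionComponents

/-!
# The factor system is an image of the whole system

Surjective morphism onto the factor system, its hyperfocal subgroup, products of strongly closed subgroups.
-/

set_option autoImplicit false

namespace Cfsg.Agent.FusionSys

open Cfsg Cfsg.FusionSystem

variable {Ω : Type*} [Group Ω] {S : Subgroup Ω} [Finite S] {p : ℕ} [hp : Fact p.Prime] {F : FusionSystem S}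

/-- Products of strongly closed subgroups are strongly closed. -/
theorem stronglyClosed_sup (hS : IsPGroup p S) (hF : F.IsSaturated p) {T₁ T₂ : Subgroup Ω}
    (h₁ : F.StronglyClosed T₁) (h₂ : F.StronglyClosed T₂) : F.StronglyClosed (T₁ ⊔ T₂) := by
  refine ⟨sup_le h₁.1 h₂.1, fun R hR φ hφ x => ?_⟩
  obtain ⟨ψ, hψ, hψe⟩ := exists_lift_mod hS hF h₁ hφ
  obtain ⟨u, hu, v, hv, e⟩ := exists_mul_of_mem_sup h₂ h₁.1 (hR x.2)
  have hvm : v ∈ R ⊔ T₁ := by
    have := Subgroup.mul_mem (R ⊔ T₁) (Subgroup.inv_mem _ (Subgroup.mem_sup_right hu)) (Subgroup.mem_sup_left x.2)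
    rwa [e, inv_mul_cancel_left] at this
  have hψx : ψ (Subgroup.inclusion le_sup_left x) ∈ T₁ ⊔ T₂ := by
    rw [show Subgroup.inclusion le_sup_left x = (⟨u, Subgroup.mem_sup_right hu⟩ * ⟨v, hvm⟩ : ↥(R ⊔ T₁)) from
      Subtype.ext e, map_mul]
    exact Subgroup.mul_mem _ (Subgroup.mem_sup_left (stronglyClosed_apply_mem h₁ hψ _ hu))
      (Subgroup.mem_sup_right (stronglyClosed_apply_mem h₂ hψ _ hv))
  simpa using Subgroup.mul_mem _ hψx (Subgroup.inv_mem _ (Subgroup.mem_sup_left (hψe x) : _ ∈ T₁ ⊔ T₂))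

/-- `T C_S(T)` is strongly closed. -/
theorem stronglyClosed_sup_centralizer (hS : IsPGroup p S) (hF : F.IsSaturated p) {T : Subgroup Ω}
    (hT : F.StronglyClosed T) : F.StronglyClosed (T ⊔ centralizerIn S T) := by
  refine ⟨sup_le hT.1 (centralizerIn_le S T), fun R hR φ hφ x => ?_⟩
  obtain ⟨ψ, hψ, hψe⟩ := exists_lift_mod hS hF hT hφ
  have hn : T ≤ Subgroup.normalizer (centralizerIn S T : Set Ω) :=
    (le_inf hT.1 (Subgroup.le_normalizer : T ≤ _)).trans (centralizerIn_normal S T)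
  have hx := hR x.2
  rw [← SetLike.mem_coe, Subgroup.coe_mul_of_left_le_normalizer_right T _ hn] at hx
  obtain ⟨u, hu, v, hv, e⟩ := hx
  have e' : (x : Ω) = u * v := e.symm
  have hvm : v ∈ R ⊔ T := by
    have := Subgroup.mul_mem (R ⊔ T) (Subgroup.inv_mem _ (Subgroup.mem_sup_right hu)) (Subgroup.mem_sup_left x.2)
    rwa [e', inv_mul_cancel_left] at this
  have hψx : ψ (Subgroup.inclusion le_sup_left x) ∈ T ⊔ centralizerIn S T := by
    rw [show Subgroup.inclusion le_sup_left x = (⟨u, Subgroup.mem_sup_right hu⟩ * ⟨v, hvm⟩ : ↥(R ⊔ T)) from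
      Subtype.ext e', map_mul]
    refine Subgroup.mul_mem _ (Subgroup.mem_sup_left (stronglyClosed_apply_mem hT hψ _ hu))
      (Subgroup.mem_sup_right ⟨hom_apply_mem F hψ _, fun t ht => ?_⟩)
    obtain ⟨s, hs, rfl⟩ := exists_preimage_stronglyClosed hT hψ le_sup_right ht
    rw [← map_mul, ← map_mul]
    exact congrArg ψ (Subtype.ext (hv.2 s hs))
  simpa using Subgroup.mul_mem _ hψx (Subgroup.inv_mem _ (Subgroup.mem_sup_left (hψe x) : _ ∈ T ⊔ centralizerIn S T))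

section factor

variable {S₀ : Subgroup Ω} {Ω' : Type*} [Group Ω'] {S' : Subgroup Ω'} {θ : S →* Ω'} {E : FusionSystem S'}

omit [Finite S] hp in
theorem mem_imageAlong {P : Subgroup Ω} {y : Ω'} :
    y ∈ imageAlong θ P ↔ ∃ (x : Ω) (h : x ∈ S), x ∈ P ∧ θ ⟨x, h⟩ = y := by
  constructor
  · rintro ⟨x, hx, rfl⟩; exact ⟨x, x.2, hx, rfl⟩
  · rintro ⟨x, h, hx, rfl⟩; exact Subgroup.mem_map_of_mem θ (show (⟨x, h⟩ : S) ∈ P.subgroupOf S from hx)

/-- Every map induces a map of the factor system. -/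
theorem exists_induced (hS : IsPGroup p S) (hF : F.IsSaturated p) (hS₀ : F.StronglyClosed S₀)
    (hE : F.IsFactorSystem S₀ θ E) {P : Subgroup Ω} {φ : P →* Ω} (hφ : φ ∈ F.Hom P) :
    ∃ φ' ∈ E.Hom (imageAlong θ P), InducedAlong θ φ φ' := by
  obtain ⟨-, hker, hrange, hspec⟩ := hE
  obtain ⟨ψ, hψ, hψe⟩ := exists_lift_mod hS hF hS₀ hφ
  have hPS := hom_le F hφ
  have hWS : P ⊔ S₀ ≤ S := sup_le hPS hS₀.1
  have hsurj : ∀ x : ↥(P ⊔ S₀), θ ⟨x, hWS x.2⟩ ∈ imageAlong θ P := by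
    rintro ⟨x, hx⟩
    obtain ⟨q, hq, t, ht, rfl⟩ := exists_mul_of_mem_sup hS₀ hPS hx
    refine mem_imageAlong.2 ⟨q, hPS hq, hq, ?_⟩
    rw [show (⟨q * t, hWS hx⟩ : S) = ⟨q, hPS hq⟩ * ⟨t, hS₀.1 ht⟩ from rfl, map_mul, (hker ⟨t, _⟩).2 ht, mul_one]
  let g : ↥(P ⊔ S₀) →* imageAlong θ P := (θ.comp (Subgroup.inclusion hWS)).codRestrict _ hsurj
  have hg : Function.Surjective g := fun ⟨y, hy⟩ => by
    obtain ⟨x, h, hx, he⟩ := mem_imageAlong.1 hy
    exact ⟨⟨x, Subgroup.mem_sup_left hx⟩, Subtype.ext he⟩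
  let f : ↥(P ⊔ S₀) →* Ω' := θ.comp (ψ.codRestrict S fun x => hom_apply_mem F hψ x)
  have hle : g.ker ≤ f.ker := fun x hx => by
    have h1 : θ ⟨x, hWS x.2⟩ = 1 := congrArg Subtype.val (MonoidHom.mem_ker.1 hx)
    exact MonoidHom.mem_ker.2 ((hker _).2 (stronglyClosed_apply_mem hS₀ hψ x ((hker _).1 h1)))
  set φ' := g.liftOfSurjective hg ⟨f, hle⟩ with hφ'def
  have hφ'e : ∀ x, φ' (g x) = f x := fun x => g.liftOfRightInverse_comp_apply _ _ ⟨f, hle⟩ x
  have hind : InducedAlong θ φ φ' := by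
    refine ⟨hPS, hom_apply_mem F hφ, fun x => mem_imageAlong.2 ⟨x, _, x.2, rfl⟩, fun x => ?_⟩
    refine (hφ'e (Subgroup.inclusion le_sup_left x)).trans ?_
    refine eq_of_inv_mul_eq_one ?_
    show (θ _)⁻¹ * θ _ = 1
    rw [← map_inv θ]
    rw [← map_mul, hker]
    have := S₀.inv_mem (hψe x)
    rwa [mul_inv_rev, inv_inv] at this
  refine ⟨φ', (hspec _ φ').2 ⟨fun y hy => ?_, ?_⟩, hind⟩
  · obtain ⟨x, h, -, rfl⟩ := mem_imageAlong.1 hy
    exact hrange ▸ ⟨_, rfl⟩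
  have hpre : preimageAlong θ (imageAlong θ P) ≤ P ⊔ S₀ := fun x hx => by
    obtain ⟨h, hm⟩ := (mem_preimageAlong _ _ _).1 hx
    obtain ⟨q, hqS, hq, he⟩ := mem_imageAlong.1 hm
    have h1 : θ (⟨q, hqS⟩⁻¹ * ⟨x, h⟩) = 1 := by rw [map_mul, map_inv, he, inv_mul_cancel]
    have h2 := Subgroup.mul_mem (P ⊔ S₀) (Subgroup.mem_sup_left hq) (Subgroup.mem_sup_right ((hker _).1 h1))
    simpa using h2
  refine ⟨_, restrict_mem F hψ hpre, fun x hx => hWS (hpre hx), fun x => hom_apply_mem F hψ _,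
    fun x => ((mem_preimageAlong _ _ _).1 x.2).2, fun x => ?_⟩
  exact hφ'e (Subgroup.inclusion hpre x)

theorem factor_surjectiveMorphism (hS : IsPGroup p S) (hF : F.IsSaturated p) (hS₀ : F.StronglyClosed S₀)
    (hE : F.IsFactorSystem S₀ θ E) : F.IsSurjectiveMorphism E θ :=
  ⟨⟨fun s => hE.2.2.1 ▸ ⟨s, rfl⟩, fun _ _ hφ => exists_induced hS hF hS₀ hE hφ⟩, hE.2.2.1,
    fun P' _ φ' hφ' => ((hE.2.2.2 P' φ').1 hφ').2⟩

omit hp in
/-- A surjection of finite groups maps the residual onto the residual. -/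
theorem pResidual_le_map {A B : Type*} [Group A] [Group B] [Finite A] [Fact p.Prime] (f : A →* B)
    (hf : Function.Surjective f) : pResidual p B ≤ (pResidual p A).map f := by
  refine (Subgroup.closure_le _).2 fun b hb => ?_
  obtain ⟨a, rfl⟩ := hf b
  have hpr : p.Prime := Fact.out
  set k := (orderOf a).factorization p
  have hone : orderOf a ≠ 0 := (orderOf_pos a).ne'
  have h1 : a ^ p ^ k ∈ pResidual p A := by
    refine Subgroup.subset_closure ?_
    show Nat.Coprime (orderOf (a ^ p ^ k)) p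
    rw [orderOf_pow_of_dvd (pow_ne_zero _ hpr.ne_zero) (Nat.ordProj_dvd _ _)]
    exact (Nat.coprime_ordCompl hpr hone).symm
  have hco : Nat.Coprime (p ^ k) (orderOf (f a)) := (Nat.Coprime.pow_left k (Nat.Coprime.symm hb))
  obtain ⟨m, hm⟩ := exists_pow_eq_self_of_coprime (x := f a) hco
  refine ⟨(a ^ p ^ k) ^ m, Subgroup.pow_mem _ h1 m, ?_⟩
  rw [map_pow, map_pow, hm]

theorem factor_hyperfocal (hS : IsPGroup p S) (hF : F.IsSaturated p) (hT : F.StronglyClosed S₀)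
    (hE : F.IsFactorSystem S₀ θ E) :
    E.hyperfocalSubgroup p = ((F.hyperfocalSubgroup p).subgroupOf S).map θ := by
  classical
  obtain ⟨-, hker, hrange, hspec⟩ := id hE
  haveI : Finite S' := by rw [← hrange]; exact Finite.of_surjective θ.rangeRestrict θ.rangeRestrict_surjective
  refine le_antisymm ((Subgroup.closure_le _).2 ?_) ?_
  · rintro _ ⟨P', α', y, hP', hα', rfl⟩
    set P := preimageAlong θ P' with hPdef
    have hPS : P ≤ S := Subgroup.map_subtype_le _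
    haveI := finite_of_le (S := S) hPS
    have hex : ∀ z : P', ∃ x : P, θ ⟨x, hPS x.2⟩ = z := by
      rintro ⟨z, hz⟩
      obtain ⟨s, rfl⟩ := hrange.ge (hP' hz)
      exact ⟨⟨s, (mem_preimageAlong _ _ _).2 ⟨s.2, hz⟩⟩, rfl⟩
    have hmem : ∀ x : P, θ ⟨x, hPS x.2⟩ ∈ P' := fun x => ((mem_preimageAlong _ _ _).1 x.2).2
    let A : Subgroup (MulAut P) :=
      { carrier := {β | β ∈ F.autGroup P ∧ ∃ β' ∈ E.autGroup P', ∀ x : P,
          θ ⟨(β x : P), hPS (β x).2⟩ = ((β' ⟨_, hmem x⟩ : P') : Ω')}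
        one_mem' := ⟨Subgroup.one_mem _, 1, Subgroup.one_mem _, fun x => rfl⟩
        mul_mem' := by
          rintro β γ ⟨hβ, β', hβ', eβ⟩ ⟨hγ, γ', hγ', eγ⟩
          refine ⟨Subgroup.mul_mem _ hβ hγ, β' * γ', Subgroup.mul_mem _ hβ' hγ', fun x => ?_⟩
          show θ ⟨(β (γ x) : P), _⟩ = ((β' (γ' _) : P') : Ω')
          rw [eβ (γ x)]
          congr 2
          exact Subtype.ext (eγ x)
        inv_mem' := by
          rintro β ⟨hβ, β', hβ', eβ⟩
          refine ⟨Subgroup.inv_mem _ hβ, β'⁻¹, Subgroup.inv_mem _ hβ', fun x => ?_⟩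
          have h := eβ (β⁻¹ x)
          have h2 : β' ⟨_, hmem (β⁻¹ x)⟩ = ⟨_, hmem x⟩ := by
            refine Subtype.ext ?_
            rw [← h]
            congr 2
            exact congrArg Subtype.val (β.apply_symm_apply x)
          rw [← h2]
          show _ = ((β'.symm (β' ⟨_, hmem (β⁻¹ x)⟩) : P') : Ω')
          rw [β'.symm_apply_apply] }
    have hsurj : ∀ β' ∈ E.autGroup P', ∃ β ∈ A, ∀ x : P,
        θ ⟨(β x : P), hPS (β x).2⟩ = ((β' ⟨_, hmem x⟩ : P') : Ω') := by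
      intro β' hβ'
      obtain ⟨_, φ, hφ, _, hφS, hm, he⟩ := (hspec _ _).1 ((mem_autGroup_iff E hP' β').1 hβ')
      have he' : ∀ x : P, θ ⟨φ x, hφS x⟩ = ((β' ⟨_, hmem x⟩ : P') : Ω') := fun x => (he x).symm
      have hr : φ.range = P := by
        refine Subgroup.eq_of_le_of_card_ge ?_ (isConj_card ⟨φ, hφ, rfl⟩).le
        rintro _ ⟨x, rfl⟩
        exact (mem_preimageAlong _ _ _).2 ⟨hφS x, by rw [he']; exact Subtype.prop _⟩
      obtain ⟨β, hβ, hβe⟩ := exists_autGroup_of_range F hφ hr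
      have : ∀ x : P, θ ⟨(β x : P), hPS (β x).2⟩ = ((β' ⟨_, hmem x⟩ : P') : Ω') := fun x => by
        rw [← he']
        congr 2
        exact hβe x
      exact ⟨β, ⟨hβ, β', hβ', this⟩, this⟩
    let ρ : A →* E.autGroup P' := MonoidHom.mk' (fun β => ⟨β.2.2.choose, β.2.2.choose_spec.1⟩) fun β γ => by
      refine Subtype.ext (MulEquiv.ext fun z => ?_)
      obtain ⟨x, hx⟩ := hex z
      obtain rfl : (⟨_, hmem x⟩ : P') = z := Subtype.ext hx
      refine Subtype.ext ?_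
      show ((((β * γ).2.2.choose) ⟨_, hmem x⟩ : P') : Ω') = ((β.2.2.choose (γ.2.2.choose ⟨_, hmem x⟩) : P') : Ω')
      rw [← (β * γ).2.2.choose_spec.2 x,
        show γ.2.2.choose ⟨_, hmem x⟩ = ⟨_, hmem ((γ : MulAut P) x)⟩ from Subtype.ext (γ.2.2.choose_spec.2 x).symm,
        ← β.2.2.choose_spec.2]
      rfl
    have hρ : Function.Surjective ρ := by
      rintro ⟨β', hβ'⟩
      obtain ⟨β, hβ, hβe⟩ := hsurj β' hβ'
      refine ⟨⟨β, hβ⟩, Subtype.ext (MulEquiv.ext fun z => ?_)⟩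
      obtain ⟨x, hx⟩ := hex z
      obtain rfl : (⟨_, hmem x⟩ : P') = z := Subtype.ext hx
      exact Subtype.ext (((⟨β, hβ⟩ : A).2.2.choose_spec.2 x).symm.trans (hβe x))
    obtain ⟨β, hβ, rfl⟩ := pResidual_le_map ρ hρ hα'
    obtain ⟨x, hx⟩ := hex y
    obtain rfl : (⟨_, hmem x⟩ : P') = y := Subtype.ext hx
    have hβ' := Cfsg.Agent.PBasic.map_pResidual_le (p := p)
      (Subgroup.inclusion (show A ≤ F.autGroup P from fun b hb => hb.1)) ⟨β, hβ, rfl⟩
    refine ⟨⟨_, hPS x.2⟩⁻¹ * ⟨_, hPS ((β : MulAut P) x).2⟩, hyperfocal_mem hPS hβ' x, ?_⟩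
    rw [map_mul, map_inv, β.2.2.choose_spec.2 x]
    rfl
  · have hle : F.hyperfocalSubgroup p ≤ ((E.hyperfocalSubgroup p).comap θ).map S.subtype := by
      refine (Subgroup.closure_le _).2 ?_
      rintro _ ⟨P, α, x, hP, hα, rfl⟩
      haveI := finite_of_le (S := S) hP
      have hex : ∀ β : F.autGroup P, ∃ β' : E.autGroup (imageAlong θ P), ∀ x : P,
          ((((β' : MulAut (imageAlong θ P))) ⟨θ ⟨x, hP x.2⟩, mem_imageAlong.2 ⟨x, _, x.2, rfl⟩⟩ : imageAlong θ P) : Ω')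
            = θ ⟨((β : MulAut P) x : P), hP ((β : MulAut P) x).2⟩ := by
        intro β
        obtain ⟨φ', hφ', _, hφS, hm, he⟩ := exists_induced hS hF hT hE ((mem_autGroup_iff F hP _).1 β.2)
        have hr : φ'.range = imageAlong θ P := by
          refine le_antisymm ?_ fun y hy => ?_
          · rintro _ ⟨⟨y, hy⟩, rfl⟩
            obtain ⟨x, h, hx, rfl⟩ := mem_imageAlong.1 hy
            rw [he ⟨x, hx⟩]
            exact mem_imageAlong.2 ⟨_, _, ((β : MulAut P) ⟨x, hx⟩).2, rfl⟩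
          · obtain ⟨x, h, hx, rfl⟩ := mem_imageAlong.1 hy
            obtain ⟨w, hw⟩ := (β : MulAut P).surjective ⟨x, hx⟩
            refine ⟨_, (he w).trans ?_⟩
            congr 2
            exact congrArg Subtype.val hw
        obtain ⟨β', hβ', hβ'e⟩ := exists_autGroup_of_range E hφ' hr
        exact ⟨⟨β', hβ'⟩, fun x => (hβ'e _).trans (he x)⟩
      choose g hg using hex
      let G : F.autGroup P →* E.autGroup (imageAlong θ P) := MonoidHom.mk' g fun β γ => by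
        refine Subtype.ext (MulEquiv.ext fun z => ?_)
        obtain ⟨y, h, hy, hz⟩ := mem_imageAlong.1 z.2
        obtain rfl : (⟨θ ⟨y, hP hy⟩, mem_imageAlong.2 ⟨y, _, hy, rfl⟩⟩ : imageAlong θ P) = z := Subtype.ext hz
        refine Subtype.ext ?_
        show _ = ((((g β : MulAut _)) (((g γ : MulAut _)) _) : imageAlong θ P) : Ω')
        rw [hg (β * γ) ⟨y, hy⟩, show ((g γ : MulAut (imageAlong θ P))) ⟨θ ⟨y, hP hy⟩, mem_imageAlong.2 ⟨y, _, hy, rfl⟩⟩ =
          ⟨θ ⟨((γ : MulAut P) ⟨y, hy⟩ : P), hP ((γ : MulAut P) ⟨y, hy⟩).2⟩,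
            mem_imageAlong.2 ⟨_, _, ((γ : MulAut P) ⟨y, hy⟩).2, rfl⟩⟩ from Subtype.ext (hg γ ⟨y, hy⟩), hg β]
        rfl
      have hI : imageAlong θ P ≤ S' := fun y hy => by
        obtain ⟨x, h, -, rfl⟩ := mem_imageAlong.1 hy
        exact hrange ▸ ⟨_, rfl⟩
      refine ⟨⟨_, hP x.2⟩⁻¹ * ⟨_, hP ((α : MulAut P) x).2⟩, ?_, rfl⟩
      show θ _ ∈ E.hyperfocalSubgroup p
      rw [map_mul, map_inv, ← hg α x]
      exact hyperfocal_mem hI (Cfsg.Agent.PBasic.map_pResidual_le G ⟨α, hα, rfl⟩)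
        (⟨θ ⟨x, hP x.2⟩, mem_imageAlong.2 ⟨x, _, x.2, rfl⟩⟩ : imageAlong θ P)
    rintro _ ⟨s, hs, rfl⟩
    obtain ⟨w, hw, hwe⟩ := hle hs
    rw [show s = w from Subtype.ext hwe.symm]
    exact hw

end factor

end Cfsg.Agent.FusionSys
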