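import Cfsg.Agent.Lib.Fusion.Alperin

/-!
# The Frattini condition for strongly invariant subsystems
-/

set_option autoImplicit false

namespace Cfsg.Agent.FusionSys

open Cfsg Cfsg.FusionSystem

variable {Ω : Type*} [Group Ω] {S : Subgroup Ω} {T : Subgroup Ω}

/-- Invariance of `E` under the automorphisms of its carrier. -/
def AutInvariant (F : FusionSystem S) (E : FusionSystem T) : Prop :=
  ∀ (P : Subgroup Ω) (hPT : P ≤ T) (φ : P →* Ω), φ ∈ E.Hom P → ∀ α ∈ F.autGroup T,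
    ∃ χ ∈ E.Hom ((P.subgroupOf T).map (T.subtype.comp α.toMonoidHom)),
      ∀ (x : P) (hφx : φ x ∈ T)
        (hαx : ((α ⟨x, hPT x.2⟩ : T) : Ω) ∈ (P.subgroupOf T).map (T.subtype.comp α.toMonoidHom)),
        χ ⟨(α ⟨x, hPT x.2⟩ : T), hαx⟩ = ((α ⟨φ x, hφx⟩ : T) : Ω)

/-- A map which is an automorphism of `T` after a map of `E`. -/
def FrattiniMap (F : FusionSystem S) (E : FusionSystem T) (P : Subgroup Ω) (φ : P →* Ω) : Prop :=
  ∃ α ∈ F.autGroup T, ∃ φ₀ ∈ E.Hom P, ∀ (x : P) (hx : φ₀ x ∈ T), φ x = ((α ⟨φ₀ x, hx⟩ : T) : Ω)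

variable {F : FusionSystem S} {E : FusionSystem T}

theorem frattini_of_mem {P : Subgroup Ω} {φ : P →* Ω} (h : φ ∈ E.Hom P) : FrattiniMap F E P φ :=
  ⟨1, Subgroup.one_mem _, φ, h, fun _ _ => rfl⟩

theorem frattini_congr {P : Subgroup Ω} {φ ψ : P →* Ω} (h : FrattiniMap F E P φ) (he : ∀ x, ψ x = φ x) :
    FrattiniMap F E P ψ := by
  obtain ⟨α, hα, φ₀, hφ₀, e⟩ := h
  exact ⟨α, hα, φ₀, hφ₀, fun x hx => (he x).trans (e x hx)⟩

theorem frattini_restrict {P Q : Subgroup Ω} {φ : P →* Ω} (h : FrattiniMap F E P φ) (hQP : Q ≤ P) :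
    FrattiniMap F E Q (φ.comp (Subgroup.inclusion hQP)) := by
  obtain ⟨α, hα, φ₀, hφ₀, e⟩ := h
  exact ⟨α, hα, _, restrict_mem E hφ₀ hQP, fun x hx => e _ hx⟩

theorem frattini_comp (hAI : AutInvariant F E) {P R : Subgroup Ω} {φ : P →* Ω} {φ' : R →* Ω}
    (h : FrattiniMap F E P φ) (h' : FrattiniMap F E R φ') (hR : ∀ x, φ x ∈ R) :
    FrattiniMap F E P (φ'.comp (φ.codRestrict R hR)) := by
  obtain ⟨α, hα, φ₀, hφ₀, e⟩ := h
  obtain ⟨β, hβ, φ₀', hφ₀', e'⟩ := h'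
  obtain ⟨χ, hχ, hχe⟩ := hAI R (hom_le E hφ₀') φ₀' hφ₀' α⁻¹ (Subgroup.inv_mem _ hα)
  have h0 : ∀ x : P, φ₀ x ∈ T := hom_apply_mem E hφ₀
  have hback : ∀ x : P, ((α⁻¹ ⟨φ x, hom_le E hφ₀' (hR x)⟩ : T) : Ω) = φ₀ x := fun x => by
    rw [show (⟨φ x, hom_le E hφ₀' (hR x)⟩ : T) = α ⟨φ₀ x, h0 x⟩ from Subtype.ext (e x (h0 x))]
    exact congrArg Subtype.val (α.symm_apply_apply ⟨φ₀ x, h0 x⟩)
  have hmem : ∀ x : P, φ₀ x ∈ (R.subgroupOf T).map (T.subtype.comp (α⁻¹).toMonoidHom) := fun x =>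
    ⟨⟨φ x, hom_le E hφ₀' (hR x)⟩, hR x, hback x⟩
  refine ⟨β * α, Subgroup.mul_mem _ hβ hα, _, E.comp_mem hφ₀ hχ hmem, fun x hx => ?_⟩
  show φ' ⟨φ x, hR x⟩ = _
  have hy := hom_apply_mem E hφ₀' ⟨φ x, hR x⟩
  rw [e' _ hy]
  show ((β _ : T) : Ω) = ((β (α _) : T) : Ω)
  have key : (⟨χ ⟨φ₀ x, hmem x⟩, hx⟩ : T) = α⁻¹ ⟨φ₀' ⟨φ x, hR x⟩, hy⟩ :=
    Subtype.ext (Eq.trans (apply_congr χ (hback x).symm _ _)
      (hχe ⟨φ x, hR x⟩ hy ((hback x).symm ▸ hmem x)))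
  refine congrArg (fun z : T => ((β z : T) : Ω)) ?_
  refine Eq.trans (α.apply_symm_apply _).symm (congrArg α ?_)
  exact key.symm

theorem frattini_symm (hAI : AutInvariant F E) {A B : Subgroup Ω} (e : A ≃* B)
    (h : FrattiniMap F E A (B.subtype.comp e.toMonoidHom)) :
    FrattiniMap F E B (A.subtype.comp e.symm.toMonoidHom) := by
  obtain ⟨α, hα, φ₀, hφ₀, he⟩ := h
  obtain ⟨θ, hθ, -, hθ1, -⟩ := exists_inv E hφ₀
  have h0 : ∀ x : A, φ₀ x ∈ T := hom_apply_mem E hφ₀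
  obtain ⟨χ, hχ, hχe⟩ := hAI φ₀.range (range_le E hφ₀) θ hθ α hα
  have hB : ∀ b : B, ((α ⟨φ₀ (e.symm b), h0 _⟩ : T) : Ω) = b := fun b => by
    rw [← he (e.symm b) (h0 _)]
    show ((e (e.symm b) : B) : Ω) = b
    rw [e.apply_symm_apply]
  have hmem : B ≤ (φ₀.range.subgroupOf T).map (T.subtype.comp α.toMonoidHom) := fun b hb =>
    ⟨⟨φ₀ (e.symm ⟨b, hb⟩), h0 _⟩, ⟨_, rfl⟩, hB ⟨b, hb⟩⟩
  refine ⟨α⁻¹, Subgroup.inv_mem _ hα, _, restrict_mem E hχ hmem, fun b hx => ?_⟩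
  show ((e.symm b : A) : Ω) = _
  have hA : ((e.symm b : A) : Ω) ∈ T := hom_le E hφ₀ (e.symm b).2
  have hv : θ ⟨φ₀ (e.symm b), ⟨_, rfl⟩⟩ = e.symm b := hθ1 (e.symm b) ⟨_, rfl⟩
  have key : χ (Subgroup.inclusion hmem b) = ((α ⟨(e.symm b : A), hA⟩ : T) : Ω) := by
    refine Eq.trans (apply_congr χ (hB b).symm _ ((hB b).symm ▸ hmem b.2)) ?_
    refine (hχe ⟨φ₀ (e.symm b), ⟨_, rfl⟩⟩ (hom_apply_mem E hθ _) _).trans ?_
    exact congrArg (fun z : T => ((α z : T) : Ω)) (Subtype.ext hv)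
  rw [show (⟨_, hx⟩ : T) = α ⟨(e.symm b : A), hA⟩ from Subtype.ext key]
  exact (congrArg Subtype.val (α.symm_apply_apply ⟨(e.symm b : A), hA⟩)).symm

variable [Finite S] {p : ℕ} [hp : Fact p.Prime]

/-- Strong invariance implies the Frattini condition. -/
theorem frattini_of_strong (hS : IsPGroup p S) (hF : F.IsSaturated p) (hE : E.IsSubsystemOf F)
    (hT : F.StronglyClosed T) (hAI : AutInvariant F E)
    (hnorm : ∀ Q : Subgroup Ω, Q ≤ T → ∀ a ∈ F.autGroup Q, ∀ b ∈ E.autGroup Q, a * b * a⁻¹ ∈ E.autGroup Q)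
    {P : Subgroup Ω} (hPT : P ≤ T) {φ : P →* Ω} (hφ : φ ∈ F.Hom P) : FrattiniMap F E P φ := by
  have := finite_of_le hT.1
  induction hk : Nat.card T - Nat.card P using Nat.strong_induction_on generalizing P with
  | _ k ih =>
  have := finite_of_le (hPT.trans hT.1)
  have hsmall : ∀ {N : Subgroup Ω} {ψ : N →* Ω}, N ≤ T → Nat.card P < Nat.card N → ψ ∈ F.Hom N →
      FrattiniMap F E N ψ := fun {N ψ} hN hlt hψ => by
    refine ih _ ?_ hN hψ rfl
    have : Nat.card N ≤ Nat.card T := Subgroup.card_le_of_le hN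
    omega
  rcases eq_or_lt_of_le hPT with rfl | hlt
  · have hr : φ.range = P := Subgroup.eq_of_le_of_card_ge
      (by rintro _ ⟨x, rfl⟩; exact hT.2 P le_rfl φ hφ x) (isConj_card ⟨φ, hφ, rfl⟩).le
    obtain ⟨α, hα, hαe⟩ := exists_autGroup_of_range F hφ hr
    exact ⟨α, hα, P.subtype, subtype_mem E le_rfl, fun x _ => (hαe x).symm⟩
  obtain ⟨Q, hPQ, hQ⟩ := exists_fullyNormalized F (hom_le F hφ)
  have hQT : Q ≤ T := by
    obtain ⟨θ, hθ, rfl⟩ := hPQ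
    rintro _ ⟨x, rfl⟩
    exact hT.2 P hPT θ hθ x
  have hφT : φ.range ≤ T := by rintro _ ⟨x, rfl⟩; exact hT.2 P hPT φ hφ x
  have hgrow : ∀ A : Subgroup Ω, A ≤ T → Nat.card A = Nat.card P →
      Nat.card P < Nat.card (normalizerIn T A) := by
    intro A hA hc
    have := finite_of_le (hA.trans hT.1)
    have := finite_of_le ((normalizerIn_le T A).trans hT.1)
    have hAlt : A < T := lt_of_le_of_ne hA fun he => hlt.ne
      (Subgroup.eq_of_le_of_card_ge hPT (by rw [← hc, he]))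
    have h1 := lt_normalizerIn (hS.to_le hT.1) hAlt
    rw [← hc]
    exact lt_of_le_of_ne (Subgroup.card_le_of_le h1.le)
      fun he => h1.ne (Subgroup.eq_of_le_of_card_ge h1.le he.ge)
  have step : ∀ A : Subgroup Ω, A ≤ T → F.IsConj A Q → Nat.card A = Nat.card P →
      ∃ e : A ≃* Q, equivHom e ∈ F.Hom A ∧ FrattiniMap F E A (equivHom e) := by
    intro A hA hAQ hc
    obtain ⟨ψ, hψ, -, hψA⟩ := exists_normalizer_map_fullyNormalized hS hF hQ hAQ
    have hle : normalizerIn T A ≤ normalizerIn S A := inf_le_inf_right _ hT.1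
    have h1 := hsmall (normalizerIn_le T A) (hgrow A hA hc) (restrict_mem F hψ hle)
    exact ⟨mapEquiv F (restrict_mem F hψ (le_normalizerIn (hA.trans hT.1))) (extend_restrict_range _ hψA),
      equivHom_mapEquiv F _ _, frattini_congr (frattini_restrict h1 (le_normalizerIn hA)) fun _ => rfl⟩
  have hc1 : Nat.card P = Nat.card φ.range := isConj_card ⟨φ, hφ, rfl⟩
  obtain ⟨e₁, he₁, hg₁⟩ := step P hPT hPQ rfl
  obtain ⟨e₂, he₂, hg₂⟩ := step φ.range hφT (isConj_trans (isConj_symm ⟨φ, hφ, rfl⟩) hPQ) hc1.symm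
  set f := mapEquiv F hφ rfl
  have he₁' : equivHom e₁.symm ∈ F.Hom Q := by
    have h := equivHom_mapEquiv_symm F he₁ (equivHom_range e₁)
    rwa [show mapEquiv F he₁ (equivHom_range e₁) = e₁ from MulEquiv.ext fun x => Subtype.ext rfl] at h
  set γ : MulAut Q := e₁.symm.trans (f.trans e₂)
  have hγ : γ ∈ F.autGroup Q := (equivHom_autGroup F hQ.1).2
    (equivHom_trans F he₁' (equivHom_trans F (equivHom_mapEquiv F hφ rfl) he₂))
  -- the Frattini argument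
  have := finite_of_le hQ.1
  have hBA : E.autGroup Q ≤ F.autGroup Q := autGroup_mono hE Q
  have hA := (isSyl_of_fullyAutomized (fullyNormalized_imp hS hF hQ).2)
  have hn : F.autGroup Q ≤ Subgroup.normalizer (E.autGroup Q : Set (MulAut Q)) := fun a ha =>
    mem_normalizer_of_conj_mem a (fun b hb => hnorm Q hQT a ha b hb)
      (fun b hb => by simpa using hnorm Q hQT a⁻¹ (Subgroup.inv_mem _ ha) b hb)
  have hsyl := hA.inf_normal hBA hn
  set S₀ := autInducedBy S Q ⊓ E.autGroup Q with hS₀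
  haveI : ((E.autGroup Q).subgroupOf (F.autGroup Q)).Normal := ⟨fun b hb a => hnorm Q hQT a a.2 b hb⟩
  have hsyl' : IsSyl p (S₀.subgroupOf (F.autGroup Q)) ((E.autGroup Q).subgroupOf (F.autGroup Q)) :=
    ⟨fun x hx => hsyl.1 hx, isPGroup_subgroupOf hsyl.2.1, by
      rw [Subgroup.relIndex_subgroupOf hBA]; exact hsyl.2.2⟩
  obtain ⟨R, hR⟩ := hsyl'.toSylow
  have hRmap : (R : Subgroup ↥((E.autGroup Q).subgroupOf (F.autGroup Q))).map
      ((E.autGroup Q).subgroupOf (F.autGroup Q)).subtype = S₀.subgroupOf (F.autGroup Q) := by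
    rw [hR, Subgroup.subgroupOf_map_subtype, inf_eq_left.2 hsyl'.1]
  obtain ⟨n, hnn, b, hb, hnb⟩ := Subgroup.mem_sup_of_normal_right.1
    ((Sylow.normalizer_sup_eq_top R).ge (Subgroup.mem_top ⟨γ, hγ⟩))
  replace hnn : n ∈ Subgroup.normalizer ((S₀.subgroupOf (F.autGroup Q) : Subgroup _) : Set ↥(F.autGroup Q)) := by
    rw [← hRmap]; exact hnn
  have hne := (mem_autGroup_iff F hQ.1 _).1 n.2
  have hr : (Q.subtype.comp (n : MulAut Q).toMonoidHom).range = Q := equivHom_range (n : MulAut Q)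
  obtain ⟨ψ, hψ, hψe⟩ := (fullyNormalized_receptive hS hF hQ).2 Q _ hne hr
  have hN : normalizerIn T Q ≤ extender S Q (Q.subtype.comp (n : MulAut Q).toMonoidHom) := by
    intro g hg
    obtain ⟨c, hc, hce⟩ := exists_conjAut (K := S) (P := Q) (hT.1 hg.1) hg.2
    have hcE : c ∈ E.autGroup Q := Subgroup.subset_closure
      (hom_congr E (E.conj_mem hQT hg.1) fun x => hce x)
    have h1 := (Subgroup.mem_normalizer_iff.1 hnn ⟨c, hBA hcE⟩).1 (Subgroup.mem_subgroupOf.2 ⟨hc, hcE⟩)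
    obtain ⟨h, hh, hhe⟩ := (mem_autInducedBy_iff _).1 (Subgroup.mem_subgroupOf.1 h1).1
    refine Subgroup.subset_closure ⟨hT.1 hg.1, hg.2, h, hh, fun x hx => ?_⟩
    have h2 := hhe ((n : MulAut Q) x)
    simp only [Subgroup.coe_mul, Subgroup.coe_inv, MulAut.mul_apply] at h2
    rw [show ((n : MulAut Q))⁻¹ ((n : MulAut Q) x) = x from (n : MulAut Q).symm_apply_apply x] at h2
    refine Eq.trans ?_ h2
    show (((n : MulAut Q) ⟨_, hx⟩ : Q) : Ω) = _
    rw [show (⟨g * (x : Ω) * g⁻¹, hx⟩ : Q) = c x from Subtype.ext (hce x).symm]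
  have hn1 := hsmall (normalizerIn_le T Q) (hgrow Q hQT (isConj_card hPQ).symm) (restrict_mem F hψ hN)
  have hnF : FrattiniMap F E Q (equivHom (n : MulAut Q)) :=
    frattini_congr (frattini_restrict hn1 (le_normalizerIn hQT))
      fun x => (hψe x x.2 (hN (le_normalizerIn hQT x.2))).symm
  have hbF : FrattiniMap F E Q (equivHom (b : MulAut Q)) :=
    frattini_of_mem ((mem_autGroup_iff E hQT _).1 hb)
  have hγF : FrattiniMap F E Q (equivHom γ) :=
    frattini_congr (frattini_comp hAI hbF hnF fun x => ((b : MulAut Q) x).2) fun x =>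
      congrArg (fun α : MulAut Q => ((α x : Q) : Ω)) (congrArg Subtype.val hnb).symm
  have h2' : FrattiniMap F E Q (equivHom e₂.symm) := frattini_symm hAI e₂ hg₂
  refine frattini_congr (frattini_comp hAI (frattini_comp hAI hg₁ hγF fun x => (e₁ x).2) h2'
    fun x => (γ (e₁ x)).2) fun x => ?_
  show φ x = ((e₂.symm (e₂ (f (e₁.symm (e₁ x)))) : _) : Ω)
  rw [e₂.symm_apply_apply, e₁.symm_apply_apply]
  rfl

end Cfsg.Agent.FusionSys
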