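import Cfsg.Agent.Lib.Fusion.CentralizerGood
import Cfsg.Agent.Lib.Fusion.InvariantFrattini
import Cfsg.Agent.Lib.Fusion.FactorMorphism
import Cfsg.Agent.Lib.Fusion.Abelian
import Cfsg.Agent.Lib.Fusion.Hyperfocal
import Cfsg.Prelude.Def_FusionComponents

/-!
# The centralizer system of a normal subgroup is normal; normal subgroups of quasisimple systems are central
-/

set_option autoImplicit false
set_option linter.unusedSectionVars false
set_option linter.style.haveILetI false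

namespace Cfsg.Agent.FusionSys.LayerCore

open Cfsg Cfsg.FusionSystem Cfsg.Agent.FusionSys

variable {Ω : Type*} [Group Ω] {S : Subgroup Ω} [Finite S] {p : ℕ} [hp : Fact p.Prime]

omit hp in
theorem apply_mem_normal {F : FusionSystem S} {Q : Subgroup Ω} (hQ : F.IsNormal Q) {N : Subgroup Ω}
    {ψ : N →* Ω} (hψ : ψ ∈ F.Hom N) (x : N) (hx : (x : Ω) ∈ Q) : ψ x ∈ Q :=
  stronglyClosed_apply_mem (isNormal_stronglyClosed hQ) hψ x hx

omit hp in
/-- Conjugating a map of `C_F(Q)` by a map preserving `Q`. -/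
theorem cent_transport {F : FusionSystem S} {Q : Subgroup Ω} (hQ : F.StronglyClosed Q) {N P P' : Subgroup Ω}
    {ψ : N →* Ω} (hψ : ψ ∈ F.Hom N) (hPN : P ≤ N) (hQN : Q ≤ N) {δ : P →* Ω}
    (hδ : δ ∈ F.centralizerHom Q P) (hδN : ∀ x, δ x ∈ N)
    (hP' : ∀ y ∈ P', ∃ (x : Ω) (hx : x ∈ P), ψ ⟨x, hPN hx⟩ = y) (hP'C : P' ≤ centralizerIn S Q)
    (hCN : ∀ (x : Ω) (hx : x ∈ N), x ∈ centralizerIn S Q → ψ ⟨x, hx⟩ ∈ centralizerIn S Q) :
    ∃ χ ∈ F.centralizerHom Q P', ∀ (x : Ω) (hx : x ∈ P) (h : ψ ⟨x, hPN hx⟩ ∈ P'),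
      χ ⟨_, h⟩ = ψ ⟨δ ⟨x, hx⟩, hδN _⟩ := by
  obtain ⟨hδF, -, hδC, δ', hδ', e1, e2⟩ := hδ
  have hMN : P ⊔ Q ≤ N := sup_le hPN hQN
  have hψN : ∀ u, δ' u ∈ N := apply_mem_of_sup δ' (fun u => by rw [e1]; exact hδN u)
    fun u => by rw [e2]; exact hQN u.2
  have hB : P' ⊔ Q ≤ (ψ.comp (Subgroup.inclusion hMN)).range := by
    refine sup_le (fun y hy => ?_) fun q hq => ?_
    · obtain ⟨x, hx, rfl⟩ := hP' y hy
      exact ⟨⟨x, Subgroup.mem_sup_left hx⟩, rfl⟩
    · obtain ⟨x, hx, rfl⟩ := exists_preimage_stronglyClosed hQ hψ hQN hq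
      exact ⟨⟨x, Subgroup.mem_sup_right hx⟩, rfl⟩
  obtain ⟨τ, hτ, hτe⟩ := FocCent.transport F hψ hδ' hMN hψN hB
  have hval : ∀ (x : Ω) (hx : x ∈ P) (h : ψ ⟨x, hPN hx⟩ ∈ P'),
      τ ⟨_, Subgroup.mem_sup_left h⟩ = ψ ⟨δ ⟨x, hx⟩, hδN _⟩ := fun x hx h =>
    (hτe x (Subgroup.mem_sup_left hx) (Subgroup.mem_sup_left h)).trans
      (congrArg ψ (Subtype.ext (e1 ⟨x, hx⟩)))
  refine ⟨τ.comp (Subgroup.inclusion le_sup_left), ⟨restrict_mem F hτ _, hP'C, fun u => ?_, τ, hτ,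
    fun u => rfl, fun q => ?_⟩, hval⟩
  · obtain ⟨u, hu⟩ := u
    obtain ⟨x, hx, rfl⟩ := hP' u hu
    show τ _ ∈ _
    rw [show Subgroup.inclusion le_sup_left (⟨_, hu⟩ : P') = ⟨_, Subgroup.mem_sup_left hu⟩ from rfl,
      hval x hx hu]
    exact hCN _ _ (hδC _)
  · obtain ⟨x, hx, hxq⟩ := exists_preimage_stronglyClosed hQ hψ hQN q.2
    have h1 := hτe x (Subgroup.mem_sup_right hx) (Subgroup.mem_sup_right (hxq.symm ▸ q.2))
    refine Eq.trans (apply_congr τ hxq.symm _ _) (h1.trans ?_)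
    refine Eq.trans ?_ hxq
    exact congrArg ψ (Subtype.ext (e2 ⟨x, hx⟩))

omit hp in
theorem apply_mem_centralizerIn {F : FusionSystem S} {Q : Subgroup Ω} (hQ : F.StronglyClosed Q) {N : Subgroup Ω}
    {ψ : N →* Ω} (hψ : ψ ∈ F.Hom N) (hQN : Q ≤ N) (x : Ω) (hx : x ∈ N) (hxC : x ∈ centralizerIn S Q) :
    ψ ⟨x, hx⟩ ∈ centralizerIn S Q := by
  refine ⟨hom_apply_mem F hψ _, Subgroup.mem_centralizer_iff.2 fun q hq => ?_⟩
  obtain ⟨u, hu, rfl⟩ := exists_preimage_stronglyClosed hQ hψ hQN hq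
  rw [← map_mul, ← map_mul]
  exact congrArg ψ (Subtype.ext (Subgroup.mem_centralizer_iff.1 hxC.2 u hu))

omit hp in
theorem normal_fullyCentralized {F : FusionSystem S} {Q : Subgroup Ω} (hQ : F.IsNormal Q) :
    F.IsFullyCentralized Q :=
  ⟨hQ.1, fun R ⟨φ, hφ, hr⟩ => by
    rw [← hr, (stronglyClosed_weaklyClosed (isNormal_stronglyClosed hQ)).2 φ hφ]⟩

omit hp in
theorem centralizerIn_stronglyClosed {F : FusionSystem S} {Q : Subgroup Ω} (hQ : F.IsNormal Q) :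
    F.StronglyClosed (centralizerIn S Q) := by
  refine ⟨centralizerIn_le _ _, fun R hR φ hφ x => ?_⟩
  obtain ⟨ψ, hψ, h1, -⟩ := hQ.2 R φ hφ
  rw [← h1 x]
  exact apply_mem_centralizerIn (isNormal_stronglyClosed hQ) hψ le_sup_right _ _ (hR x.2)

/-- The centralizer system of a normal subgroup is normal. -/
theorem centralizer_isNormalIn (hS : IsPGroup p S) {F : FusionSystem S} (hF : F.IsSaturated p)
    {Q : Subgroup Ω} (hQ : F.IsNormal Q) : (centSystem F hQ.1).IsNormalIn F p := by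
  set C := centralizerIn S Q with hCdef
  set CF := centSystem F hQ.1 with hCF
  have hQS := hQ.1
  have hCS : C ≤ S := centralizerIn_le _ _
  haveI : Finite C := finite_of_le hCS
  have hsat : CF.IsSaturated p :=
    centralizerSystem_saturated hS hF (normal_fullyCentralized hQ) CF (centSystem_spec F hQS)
  have hsub : CF.IsSubsystemOf F := fun P φ hφ => hφ.1
  have hCc := centralizerIn_stronglyClosed hQ
  have hAI : AutInvariant F CF := by
    intro P hPC δ hδ α hα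
    obtain ⟨ψ, hψ, hψ1, -⟩ := hQ.2 C _ ((equivHom_autGroup F hCS).1 hα)
    obtain ⟨χ, hχ, hχe⟩ := cent_transport (isNormal_stronglyClosed hQ) hψ (P := P) (hPC.trans le_sup_left) le_sup_right hδ
      (fun x => Subgroup.mem_sup_left (hδ.2.2.1 x))
      (P' := (P.subgroupOf C).map (C.subtype.comp α.toMonoidHom))
      (by rintro _ ⟨u, hu, rfl⟩; exact ⟨u, hu, hψ1 u⟩)
      (by rintro _ ⟨u, -, rfl⟩; exact (α u).2) (apply_mem_centralizerIn (isNormal_stronglyClosed hQ) hψ le_sup_right)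
    refine ⟨χ, hχ, fun x hφx hαx => ?_⟩
    have e1 : ψ ⟨x, Subgroup.mem_sup_left (hPC x.2)⟩ = ((α ⟨x, hPC x.2⟩ : C) : Ω) := hψ1 ⟨x, hPC x.2⟩
    refine Eq.trans (apply_congr χ e1.symm _ _) ((hχe x x.2 (e1.symm ▸ hαx)).trans ?_)
    exact hψ1 ⟨δ x, hφx⟩
  have hnorm : ∀ P : Subgroup Ω, P ≤ C → ∀ a ∈ F.autGroup P, ∀ b ∈ CF.autGroup P,
      a * b * a⁻¹ ∈ CF.autGroup P := by
    intro P hPC a ha b hb
    obtain ⟨ψ, hψ, hψ1, -⟩ := hQ.2 P _ ((equivHom_autGroup F (hPC.trans hCS)).1 ha)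
    obtain ⟨χ, hχ, hχe⟩ := cent_transport (isNormal_stronglyClosed hQ) hψ (P := P) le_sup_left le_sup_right
      ((equivHom_autGroup CF hPC).1 hb) (fun x => Subgroup.mem_sup_left (b x).2) (P' := P)
      (fun y hy => ⟨(a⁻¹ ⟨y, hy⟩ : P), (a⁻¹ ⟨y, hy⟩).2, by
        refine (hψ1 (a⁻¹ ⟨y, hy⟩)).trans ?_
        exact congrArg Subtype.val (a.apply_symm_apply ⟨y, hy⟩)⟩)
      hPC (apply_mem_centralizerIn (isNormal_stronglyClosed hQ) hψ le_sup_right)
    refine (equivHom_autGroup CF hPC).2 (hom_congr CF hχ fun y => ?_)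
    have e1 : ψ ⟨(a⁻¹ y : P), Subgroup.mem_sup_left (a⁻¹ y).2⟩ = (y : Ω) :=
      (hψ1 (a⁻¹ y)).trans (congrArg Subtype.val (a.apply_symm_apply y))
    refine Eq.symm (Eq.trans (apply_congr χ e1.symm _ _) ((hχe _ (a⁻¹ y).2 (e1.symm ▸ y.2)).trans ?_))
    exact hψ1 (b (a⁻¹ y))
  refine ⟨⟨hsat, hF, hsub, hCc, hAI, fun P hP φ hφ => frattini_of_strong hS hF hsub hCc hAI hnorm hP hφ⟩,
    fun α hα => ?_⟩
  set M := C ⊔ Q with hMdef
  obtain ⟨-, -, -, ψ₀, hψ₀, e1, e2⟩ := (equivHom_autGroup CF le_rfl).1 hα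
  have hMS : M ≤ S := sup_le hCS hQS
  haveI := finite_of_le hMS
  have hMinv : ∀ (φ : M →* Ω), φ ∈ F.Hom M → ∀ x, φ x ∈ M := fun φ hφ => apply_mem_of_sup φ
    (fun u => Subgroup.mem_sup_left (stronglyClosed_apply_mem hCc hφ _ u.2))
    fun u => Subgroup.mem_sup_right (apply_mem_normal hQ hφ _ u.2)
  have hfc : F.IsFullyCentralized M := ⟨hMS, fun R ⟨φ, hφ, hr⟩ => by
    have : φ.range = M := Subgroup.eq_of_le_of_card_ge
      (by rintro _ ⟨x, rfl⟩; exact hMinv φ hφ x) (isConj_card ⟨φ, hφ, rfl⟩).le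
    rw [← hr, this]⟩
  have hr0 : ψ₀.range = M := Subgroup.eq_of_le_of_card_ge
    (by rintro _ ⟨x, rfl⟩; exact hMinv ψ₀ hψ₀ x) (isConj_card ⟨ψ₀, hψ₀, rfl⟩).le
  obtain ⟨χ, hχ, hag⟩ := (fullyCentralized_receptive hS hF hfc).2 M ψ₀ hψ₀ hr0
  have hext : C ⊔ centralizerIn S C ≤ extender S M ψ₀ := by
    refine sup_le (le_trans le_sup_left (le_extender F hψ₀)) fun g hg => ?_
    have hgQ : g ∈ Subgroup.normalizer (Q : Set Ω) := isNormal_le_normalizer hQ hg.1
    have hgC : g ∈ Subgroup.normalizer (C : Set Ω) := Subgroup.centralizer_le_normalizer _ hg.2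
    have hgM : g ∈ Subgroup.normalizer (M : Set Ω) := by
      refine mem_normalizer_of_conj_mem_finite fun x hx => ?_
      have hle : M ≤ M.comap (MulAut.conj g).toMonoidHom := sup_le
        (fun u hu => Subgroup.mem_sup_left ((Subgroup.mem_normalizer_iff.1 hgC u).1 hu))
        fun u hu => Subgroup.mem_sup_right ((Subgroup.mem_normalizer_iff.1 hgQ u).1 hu)
      exact hle hx
    refine Subgroup.subset_closure ⟨hg.1, hgM, g, hg.1, ?_⟩
    let c : M →* M := ((MulAut.conj g).toMonoidHom.comp M.subtype).codRestrict M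
      fun x => (Subgroup.mem_normalizer_iff.1 hgM x).1 x.2
    intro x hx
    have key : ∀ u : ↥(C ⊔ Q), ψ₀ (c u) * (g * ψ₀ u * g⁻¹)⁻¹ ∈ (⊥ : Subgroup Ω) := by
      intro u
      rw [Subgroup.mem_bot, mul_inv_eq_one]
      have : ψ₀.comp c = ((MulAut.conj g).toMonoidHom).comp ψ₀ := by
        refine MonoidHom.eq_of_eqOn_dense (s := {u : M | (u : Ω) ∈ C ∨ (u : Ω) ∈ Q}) ?_ ?_
        · rw [eq_top_iff]
          intro u _
          have h1 : (u : Ω) ∈ C ⊔ Q := u.2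
          rw [Subgroup.sup_eq_closure] at h1
          have h2 : (Subgroup.closure {u : M | (u : Ω) ∈ C ∨ (u : Ω) ∈ Q}).map M.subtype
              = Subgroup.closure ((C : Set Ω) ∪ Q) := by
            rw [MonoidHom.map_closure]
            congr 1
            ext z
            constructor
            · rintro ⟨v, hv, rfl⟩; exact hv
            · intro hz
              refine ⟨⟨z, ?_⟩, hz, rfl⟩
              rcases hz with hz | hz
              · exact Subgroup.mem_sup_left hz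
              · exact Subgroup.mem_sup_right hz
          rw [← h2] at h1
          obtain ⟨v, hv, hvu⟩ := h1
          rwa [← Subtype.ext hvu]
        · rintro u (hu | hu)
          · have hcu : c u = u := Subtype.ext (by
              show g * (u : Ω) * g⁻¹ = u
              rw [← Subgroup.mem_centralizer_iff.1 hg.2 u hu, mul_inv_cancel_right])
            show ψ₀ (c u) = g * ψ₀ u * g⁻¹
            rw [hcu]
            have h3 : ψ₀ u ∈ C := by
              have := e1 ⟨u, hu⟩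
              rw [show Subgroup.inclusion le_sup_left (⟨u, hu⟩ : C) = u from Subtype.ext rfl] at this
              rw [this]; exact (α _).2
            rw [← Subgroup.mem_centralizer_iff.1 hg.2 _ h3, mul_inv_cancel_right]
          · have hcu : ((c u : M) : Ω) ∈ Q := (Subgroup.mem_normalizer_iff.1 hgQ u).1 hu
            have h5 : ψ₀ u = u :=
              (congrArg ψ₀ (Subtype.ext rfl : u = Subgroup.inclusion le_sup_right (⟨_, hu⟩ : Q))).trans (e2 _)
            have h6 : ψ₀ (c u) = (c u : M) :=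
              (congrArg ψ₀ (Subtype.ext rfl : c u = Subgroup.inclusion le_sup_right (⟨_, hcu⟩ : Q))).trans
                (e2 _)
            show ψ₀ (c u) = g * ψ₀ u * g⁻¹
            rw [h6, h5]
            rfl
      exact DFunLike.congr_fun this u
    have h4 := key x
    rw [Subgroup.mem_bot, mul_inv_eq_one] at h4
    exact Eq.trans (congrArg ψ₀ (Subtype.ext rfl)) h4
  set χ' := χ.comp (Subgroup.inclusion hext) with hχ'
  have hαC : ∀ u : C, χ' (Subgroup.inclusion le_sup_left u) = ((α u : C) : Ω) := fun u =>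
    (hag u (Subgroup.mem_sup_left u.2) _).trans (e1 u)
  have hrC : (χ'.comp (Subgroup.inclusion (le_sup_left : C ≤ C ⊔ centralizerIn S C))).range = C := by
    rw [show χ'.comp (Subgroup.inclusion le_sup_left) = equivHom α from MonoidHom.ext hαC, equivHom_range]
  have hcC : ∀ u : centralizerIn S C, χ' (Subgroup.inclusion le_sup_right u) ∈ centralizerIn S C := fun u =>
    ⟨hom_apply_mem F (restrict_mem F hχ hext) _, apply_mem_centralizer χ' le_sup_left hrC _ u.2.2⟩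
  haveI := finite_of_le (sup_le hCS (centralizerIn_le S C))
  obtain ⟨β, hβ, hβe⟩ := FocCent.exists_aut_of_invariant F (restrict_mem F hχ hext) fun x => apply_mem_of_sup χ'
    (fun u => by rw [hαC]; exact Subgroup.mem_sup_left (α u).2)
    (fun u => Subgroup.mem_sup_right (hcC u)) x
  refine ⟨β, hβ, fun x => (hβe _).trans (hαC x), fun c hc => ?_⟩
  have hd : ((β c : ↥(C ⊔ centralizerIn S C)) : Ω) ∈ centralizerIn S C := by
    rw [hβe]; exact hcC ⟨c, hc⟩
  have hdd := Subgroup.mul_mem _ (Subgroup.inv_mem _ hc) hd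
  refine ⟨⟨hdd.1, Subgroup.mem_centralizer_iff.2 fun q hq => ?_⟩, hdd.2⟩
  have hqN : q ∈ extender S M ψ₀ := le_extender F hψ₀ (Subgroup.mem_sup_right hq)
  have hq' : (c : Ω) * q * (c : Ω)⁻¹ ∈ Q := (Subgroup.mem_normalizer_iff.1 (isNormal_le_normalizer hQ hc.1) q).1 hq
  have hfix : ∀ (u : Ω) (hu : u ∈ Q) (hu' : u ∈ extender S M ψ₀), χ ⟨u, hu'⟩ = u := fun u hu hu' =>
    (hag u (Subgroup.mem_sup_right hu) hu').trans (e2 ⟨u, hu⟩)
  have h1 := map_apply_conj χ (hext c.2) hqN (le_extender F hψ₀ (Subgroup.mem_sup_right hq'))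
  rw [hfix _ hq', hfix _ hq, show χ ⟨c, hext c.2⟩ = ((β c : ↥(C ⊔ centralizerIn S C)) : Ω) from (hβe c).symm] at h1
  set d := ((β c : ↥(C ⊔ centralizerIn S C)) : Ω)
  calc q * ((c : Ω)⁻¹ * d) = (c : Ω)⁻¹ * ((c : Ω) * q * (c : Ω)⁻¹) * d := by group
    _ = (c : Ω)⁻¹ * d * q := by rw [h1]; group

/-! ### Quasisimple systems -/

/-- The inner system of a central subgroup is normal. -/
theorem inner_isNormalIn_of_central (hS : IsPGroup p S) {F : FusionSystem S} (hF : F.IsSaturated p)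
    {A : Subgroup Ω} (hA : F.IsCentral A) : (innerFusionSystem A).IsNormalIn F p := by
  have hAS := hA.1
  haveI := finite_of_le hAS
  have hfix : ∀ (P : Subgroup Ω) (φ : P →* Ω), φ ∈ F.Hom P → ∀ x : P, (x : Ω) ∈ A → φ x = x := by
    intro P φ hφ x hx
    obtain ⟨ψ, -, h1, h2⟩ := isCentral_extend hA hφ
    rw [← h1 x x.2 (Subgroup.mem_sup_left x.2)]
    exact h2 x _ hx
  have hab : ∀ g ∈ A, ∀ x ∈ A, g * x * g⁻¹ = x := fun g hg x hx =>
    (conjHom_apply A g ⟨x, hx⟩).symm.trans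
      (hfix A _ (F.conj_mem hAS (hAS hg)) ⟨x, hx⟩ hx)
  refine ⟨⟨innerFusionSystem_saturated (hS.to_le hAS), hF, fun P φ hφ => ?_,
    isNormal_stronglyClosed (isCentral_isNormal hA), fun P hPT φ hφ α hα => ?_, fun P hPT φ hφ => ?_⟩,
    fun α hα => ?_⟩
  · obtain ⟨hP, g, hg, he⟩ := hφ
    exact hom_congr F (F.conj_mem (hP.trans hAS) (hAS hg)) he
  · obtain ⟨hP', g, hg, he⟩ := hφ
    refine ⟨conjHom _ 1, (innerFusionSystem A).conj_mem ?_ A.one_mem, fun x hφx hαx => ?_⟩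
    · rintro _ ⟨y, -, rfl⟩; exact (α y).2
    · rw [conjHom_apply, one_mul, inv_one, mul_one]
      refine congrArg (fun z : A => ((α z : A) : Ω)) (Subtype.ext ?_)
      show (x : Ω) = φ x
      rw [he, hab g hg x (hPT x.2)]
  · refine ⟨1, Subgroup.one_mem _, conjHom P 1, (innerFusionSystem A).conj_mem hPT A.one_mem, fun x hx => ?_⟩
    rw [hfix P φ hφ x (hPT x.2)]
    show (x : Ω) = 1 * x * 1⁻¹
    simp
  · rw [inner_autGroup_top] at hα
    obtain ⟨g, rfl⟩ := hα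
    refine ⟨1, Subgroup.one_mem _, fun x => ?_, fun c _ => by simp⟩
    show (x : Ω) = g * x * (g : Ω)⁻¹
    rw [hab g g.2 x x.2]

/-- A nontrivial normal subgroup of a simple system is all of the system, which then consists of identities. -/
theorem simple_fix_of_normal (hS : IsPGroup p S) {F : FusionSystem S} (hF : F.IsSimple p) {A : Subgroup Ω}
    (hA : F.IsNormal A) (hA1 : A ≠ ⊥) (P : Subgroup Ω) (φ : P →* Ω) (hφ : φ ∈ F.Hom P) (x : P) :
    φ x = x := by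
  obtain ⟨hsat, hS1, hsimp⟩ := hF
  haveI := finite_of_le hA.1
  rcases hsimp _ _ (centralizer_isNormalIn hS hsat hA) with h | ⟨h, heq⟩
  · exfalso
    haveI : Nontrivial A := (Subgroup.nontrivial_iff_ne_bot A).2 hA1
    haveI := (hS.to_le hA.1).center_nontrivial
    obtain ⟨z, hz⟩ := exists_ne (1 : Subgroup.center A)
    have : ((z : A) : Ω) ∈ centralizerIn S A := ⟨hA.1 (z : A).2, Subgroup.mem_centralizer_iff.2 fun a ha =>
      congrArg Subtype.val (Subgroup.mem_center_iff.1 z.2 ⟨a, ha⟩)⟩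
    rw [h, Subgroup.mem_bot] at this
    exact hz (Subtype.ext (Subtype.ext this))
  have hcen : F.IsCentral A := ⟨hA.1, fun Q ψ hψ => ((heq Q).ge hψ).2.2.2⟩
  rcases hsimp A _ (inner_isNormalIn_of_central hS hsat hcen) with h' | ⟨h', heq'⟩
  · exact absurd h' hA1
  obtain ⟨ψ, -, h1, h2⟩ := isCentral_extend hcen hφ
  rw [← h1 x x.2 (Subgroup.mem_sup_left x.2)]
  exact h2 x _ (h'.symm ▸ hom_le F hφ x.2)

/-- The image of a normal subgroup is normal in a factor system. -/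
theorem factor_isNormal (hS : IsPGroup p S) {F : FusionSystem S} (hF : F.IsSaturated p) {S₀ : Subgroup Ω}
    (hS₀ : F.StronglyClosed S₀) {Ω' : Type*} [Group Ω'] {S' : Subgroup Ω'} {θ : S →* Ω'}
    {E : FusionSystem S'} (hE : F.IsFactorSystem S₀ θ E) {Q : Subgroup Ω} (hQ : F.IsNormal Q) :
    E.IsNormal (imageAlong θ Q) := by
  refine ⟨fun y hy => ?_, fun P' φ' hφ' => ?_⟩
  · obtain ⟨x, h, -, rfl⟩ := mem_imageAlong.1 hy
    exact hE.2.2.1 ▸ ⟨_, rfl⟩
  obtain ⟨hP', φ, hφ, hind⟩ := (hE.2.2.2 P' φ').1 hφ'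
  obtain ⟨ψ, hψ, hψ1, hψQ⟩ := hQ.2 _ φ hφ
  obtain ⟨ψ', hψ', hind'⟩ := exists_induced hS hF hS₀ hE hψ
  obtain ⟨hPS, hφS, hmem, hφe⟩ := hind
  obtain ⟨hWS, hψS, hmem', hψe⟩ := hind'
  have hP'le : P' ≤ imageAlong θ (preimageAlong θ P' ⊔ Q) := fun y hy => by
    obtain ⟨s, rfl⟩ := hE.2.2.1.ge (hP' hy)
    exact mem_imageAlong.2 ⟨s, s.2, Subgroup.mem_sup_left ((mem_preimageAlong _ _ _).2 ⟨s.2, hy⟩), rfl⟩
  have hQle : imageAlong θ Q ≤ imageAlong θ (preimageAlong θ P' ⊔ Q) := fun y hy => by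
    obtain ⟨x, h, hx, rfl⟩ := mem_imageAlong.1 hy
    exact mem_imageAlong.2 ⟨x, h, Subgroup.mem_sup_right hx, rfl⟩
  refine ⟨ψ'.comp (Subgroup.inclusion (sup_le hP'le hQle)), restrict_mem E hψ' _, fun y => ?_, ?_⟩
  · obtain ⟨y, hy⟩ := y
    obtain ⟨s, rfl⟩ := hE.2.2.1.ge (hP' hy)
    have hsp : (s : Ω) ∈ preimageAlong θ P' := (mem_preimageAlong _ _ _).2 ⟨s.2, hy⟩
    refine (hψe ⟨s, Subgroup.mem_sup_left hsp⟩).trans ?_
    refine Eq.trans ?_ (hφe ⟨s, hsp⟩).symm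
    exact congrArg θ (Subtype.ext (hψ1 ⟨s, hsp⟩))
  · ext z
    constructor
    · rintro ⟨⟨y, hy⟩, hyQ, rfl⟩
      obtain ⟨x, h, hx, rfl⟩ := mem_imageAlong.1 hyQ
      refine mem_imageAlong.2 ⟨ψ ⟨x, Subgroup.mem_sup_right hx⟩, hom_apply_mem F hψ _,
        hψQ.le ⟨⟨x, Subgroup.mem_sup_right hx⟩, hx, rfl⟩, ?_⟩
      exact (hψe ⟨x, Subgroup.mem_sup_right hx⟩).symm
    · intro hz
      obtain ⟨w, h, hw, rfl⟩ := mem_imageAlong.1 hz
      obtain ⟨⟨x, hxW⟩, hxQ, hxw⟩ := hψQ.ge hw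
      have hxI : θ ⟨x, hWS hxW⟩ ∈ imageAlong θ Q := mem_imageAlong.2 ⟨x, _, hxQ, rfl⟩
      refine ⟨⟨_, Subgroup.mem_sup_right hxI⟩, hxI, ?_⟩
      exact (hψe ⟨x, hxW⟩).trans (congrArg θ (Subtype.ext hxw))

/-- A normal subgroup of a quasisimple system is central. -/
theorem normal_central_of_quasisimple (hS : IsPGroup p S) {F : FusionSystem S} (hq : F.Quasisimple p)
    {Q : Subgroup Ω} (hQ : F.IsNormal Q) : F.IsCentral Q := by
  obtain ⟨hF, hhyp, hsimp⟩ := hq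
  set π := QuotientGroup.mk' ((F.center).subgroupOf S) with hπ
  have hker : ∀ s : S, π s = 1 ↔ (s : Ω) ∈ F.center := fun s =>
    (QuotientGroup.eq_one_iff s).trans Subgroup.mem_subgroupOf
  have hran : π.range = ⊤ := MonoidHom.range_eq_top.2 (QuotientGroup.mk'_surjective _)
  have hZc : F.StronglyClosed F.center :=
    isNormal_stronglyClosed (isCentral_isNormal (center_isCentral F))
  set E := factorSystem F hZc π hker hran
  have hspec := factorSystem_spec F hZc π hker hran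
  have hE := hsimp E hspec
  have hQp : IsPGroup p (⊤ : Subgroup (S ⧸ (F.center).subgroupOf S)) := (hS.to_quotient _).to_subgroup _
  have hle : Q ≤ F.center := by
    by_contra hQZ
    obtain ⟨q, hq, hqZ⟩ := SetLike.not_le_iff_exists.1 hQZ
    have hne : imageAlong π Q ≠ ⊥ := fun h => hqZ ((hker ⟨q, hQ.1 hq⟩).1 (by
      rw [← Subgroup.mem_bot, ← h]; exact mem_imageAlong.2 ⟨q, _, hq, rfl⟩))
    have hid := simple_fix_of_normal hQp hE (factor_isNormal hS hF hZc hspec hQ) hne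
    have hSZ : S ≤ F.center := by
      refine hhyp.ge.trans ((hyperfocal_le_focal F).trans ((Subgroup.closure_le _).2 ?_))
      rintro _ ⟨P, φ, x, hφ, rfl⟩
      obtain ⟨φ', hφ', hPS, hφS, hmem, he⟩ := exists_induced hS hF hZc hspec hφ
      have h1 := (he x).symm.trans (hid _ φ' hφ' ⟨_, hmem x⟩)
      have h2 : π ((⟨x, hPS x.2⟩ : S)⁻¹ * ⟨φ x, hφS x⟩) = 1 := by rw [map_mul, map_inv, h1, inv_mul_cancel]
      exact (hker _).1 h2
    exact hne (eq_bot_iff.2 fun y hy => by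
      obtain ⟨x, h, -, rfl⟩ := mem_imageAlong.1 hy
      exact Subgroup.mem_bot.2 ((hker _).2 (hSZ h)))
  refine ⟨hQ.1, fun P φ hφ => ?_⟩
  obtain ⟨ψ, hψ, h1, h2⟩ := isCentral_extend (center_isCentral F) hφ
  exact ⟨ψ.comp (Subgroup.inclusion (sup_le_sup_left hle P)), restrict_mem F hψ _,
    fun x => h1 x x.2 _, fun x => h2 x _ (hle x.2)⟩


end Cfsg.Agent.FusionSys.LayerCore
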