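import Cfsg.Agent.Lib.Fusion.Alperin

/-!
# Maps modulo a strongly closed subgroup

For a saturated system and `T` strongly closed, every map on `P` agrees modulo `T` with a map on `PT`.
-/

set_option autoImplicit false

namespace Cfsg.Agent.FusionSys

open Cfsg Cfsg.FusionSystem

variable {Ω : Type*} [Group Ω] {S : Subgroup Ω} [Finite S] {p : ℕ} [hp : Fact p.Prime]

omit [Finite S] hp in
theorem exists_mul_of_mem_sup {F : FusionSystem S} {T P : Subgroup Ω} (hT : F.StronglyClosed T) (hP : P ≤ S)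
    {g : Ω} (hg : g ∈ P ⊔ T) : ∃ q ∈ P, ∃ t ∈ T, g = q * t := by
  have hn : P ≤ Subgroup.normalizer (T : Set Ω) := hP.trans (stronglyClosed_le_normalizer hT)
  rw [← SetLike.mem_coe, Subgroup.coe_mul_of_left_le_normalizer_right P T hn] at hg
  obtain ⟨q, hq, t, ht, rfl⟩ := hg
  exact ⟨q, hq, t, ht, rfl⟩

omit hp in
/-- A map on `P ⊔ T` restricted to `T` is onto `T`. -/
theorem exists_preimage_stronglyClosed {F : FusionSystem S} {T A : Subgroup Ω} (hT : F.StronglyClosed T)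
    {ψ : A →* Ω} (hψ : ψ ∈ F.Hom A) (hTA : T ≤ A) {y : Ω} (hy : y ∈ T) :
    ∃ (x : Ω) (hx : x ∈ T), ψ ⟨x, hTA hx⟩ = y :=
  exists_preimage_of_card_le F hψ hTA hT.1 (fun x hx => stronglyClosed_apply_mem hT hψ ⟨x, hTA hx⟩ hx) le_rfl y hy

/-- Every map agrees modulo a strongly closed subgroup `T` with a map whose source contains `T`. -/
theorem exists_lift_mod (hS : IsPGroup p S) {F : FusionSystem S} (hF : F.IsSaturated p) {T : Subgroup Ω}
    (hT : F.StronglyClosed T) {P : Subgroup Ω} {φ : P →* Ω} (hφ : φ ∈ F.Hom P) :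
    ∃ ψ ∈ F.Hom (P ⊔ T), ∀ x : P, (φ x)⁻¹ * ψ (Subgroup.inclusion le_sup_left x) ∈ T := by
  induction hk : Nat.card S - Nat.card P using Nat.strong_induction_on generalizing P with
  | _ k ih =>
  have hPS := hom_le F hφ
  have hPfin := finite_of_le (S := S) hPS
  by_cases hTP : T ≤ P
  · refine ⟨φ.comp (Subgroup.inclusion (sup_le le_rfl hTP)), restrict_mem F hφ _, fun x => ?_⟩
    show (φ x)⁻¹ * φ x ∈ T
    rw [inv_mul_cancel]
    exact T.one_mem
  have hTn := stronglyClosed_le_normalizer hT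
  -- maps on the normalizer in the product with `T` already lift
  have step : ∀ (A : Subgroup Ω), A ≤ S → Nat.card A = Nat.card P → ∀ {N : Subgroup Ω} {a : N →* Ω},
      a ∈ F.Hom N → ∀ hN : normalizerIn (A ⊔ T) A ≤ N,
      ∃ a' ∈ F.Hom (A ⊔ T), ∀ (x : Ω) (hx : x ∈ A) (hxN : x ∈ N),
        (a ⟨x, hxN⟩)⁻¹ * a' ⟨x, Subgroup.mem_sup_left hx⟩ ∈ T := by
    intro A hA hAc N a ha hN
    by_cases hTA : T ≤ A
    · have hle : A ⊔ T ≤ N := fun x hx => hN
        ⟨hx, Subgroup.le_normalizer (sup_le le_rfl hTA hx)⟩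
      refine ⟨_, restrict_mem F ha hle, fun x hx hxN => ?_⟩
      show (a ⟨x, hxN⟩)⁻¹ * a ⟨x, _⟩ ∈ T
      rw [inv_mul_cancel]
      exact T.one_mem
    have hAT : A ⊔ T ≤ S := sup_le hA hT.1
    have := finite_of_le (S := S) hAT
    have := finite_of_le (S := S) hA
    have hlt : A < normalizerIn (A ⊔ T) A := lt_normalizerIn (isPGroup_of_le hS hAT)
      (lt_of_le_of_ne le_sup_left fun he => hTA (he.symm ▸ le_sup_right))
    have hMS : normalizerIn (A ⊔ T) A ≤ S := inf_le_left.trans hAT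
    have := finite_of_le (S := S) hMS
    have h1 : Nat.card A < Nat.card (normalizerIn (A ⊔ T) A) := lt_of_le_of_ne (Subgroup.card_le_of_le hlt.le)
      fun he => hlt.ne (Subgroup.eq_of_le_of_card_ge hlt.le he.ge)
    have h2 : Nat.card (normalizerIn (A ⊔ T) A) ≤ Nat.card S := Subgroup.card_le_of_le hMS
    obtain ⟨ψ, hψ, hψe⟩ := ih _ (by omega) (restrict_mem F ha hN) rfl
    exact ⟨_, restrict_mem F hψ (sup_le_sup_right hlt.le T),
      fun x hx hxN => hψe ⟨x, hlt.le hx⟩⟩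
  obtain ⟨Q, hPQ, hQ⟩ := exists_fullyNormalized F hPS
  have hQS := hQ.1
  have hRS : φ.range ≤ S := range_le F hφ
  obtain ⟨a, ha, haN, haP⟩ := exists_normalizer_map_fullyNormalized hS hF hQ hPQ
  obtain ⟨b, hb, hbN, hbR⟩ := exists_normalizer_map_fullyNormalized hS hF hQ
    (isConj_trans (isConj_symm ⟨φ, hφ, rfl⟩) hPQ)
  have ea := extend_restrict_range (le_normalizerIn hPS) haP
  have eb := extend_restrict_range (le_normalizerIn hRS) hbR
  set eA := mapEquiv F (restrict_mem F ha (le_normalizerIn hPS)) ea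
  set eB := mapEquiv F (restrict_mem F hb (le_normalizerIn hRS)) eb
  set f := mapEquiv F hφ (rfl : φ.range = φ.range)
  set α : MulAut Q := eA.symm.trans (f.trans eB) with hαdef
  have hα : α ∈ F.autGroup Q := (equivHom_autGroup F hQS).2 (equivHom_trans F
    (equivHom_mapEquiv_symm F _ ea) (equivHom_trans F (equivHom_mapEquiv F hφ rfl) (equivHom_mapEquiv F _ eb)))
  -- lift the automorphism
  have hα' : ∃ α' ∈ F.Hom (Q ⊔ T),
      ∀ x : Q, ((α x : Q) : Ω)⁻¹ * α' (Subgroup.inclusion le_sup_left x) ∈ T := by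
    have hQfin := finite_of_le (S := S) hQS
    let K : Subgroup (MulAut Q) :=
      { carrier := {β | β ∈ F.autGroup Q ∧ ∀ x : Q, (x : Ω)⁻¹ * ((β x : Q) : Ω) ∈ T}
        one_mem' := ⟨one_mem _, fun x => by
          show (x : Ω)⁻¹ * (x : Ω) ∈ T
          rw [inv_mul_cancel]; exact T.one_mem⟩
        mul_mem' := fun {β γ} hβ hγ => ⟨Subgroup.mul_mem _ hβ.1 hγ.1, fun x => by
          have h1 := T.mul_mem (hγ.2 x) (hβ.2 (γ x))
          rw [show ((x : Ω)⁻¹ * ((γ x : Q) : Ω)) * (((γ x : Q) : Ω)⁻¹ * ((β (γ x) : Q) : Ω)) =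
            (x : Ω)⁻¹ * ((β (γ x) : Q) : Ω) by group] at h1
          exact h1⟩
        inv_mem' := fun {β} hβ => ⟨Subgroup.inv_mem _ hβ.1, fun x => by
          have h1 := T.inv_mem (hβ.2 (β⁻¹ x))
          rw [show β (β⁻¹ x) = x from β.apply_symm_apply x, mul_inv_rev, inv_inv] at h1
          exact h1⟩ }
    have hKn : F.autGroup Q ≤ Subgroup.normalizer (K : Set (MulAut Q)) := by
      intro γ hγ
      refine mem_normalizer_of_conj_mem_finite fun β hβ => ⟨Subgroup.mul_mem _ (Subgroup.mul_mem _ hγ hβ.1)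
        (Subgroup.inv_mem _ hγ), fun x => ?_⟩
      have hmem := hβ.2 (γ⁻¹ x)
      obtain ⟨φγ, hφγ, -, heγ⟩ := autGroup_apply_mem_hom F hQS hγ
      have h1 : φγ ((γ⁻¹ x)⁻¹ * β (γ⁻¹ x)) ∈ T := stronglyClosed_apply_mem hT hφγ _ hmem
      rw [heγ, map_mul, map_inv, show γ (γ⁻¹ x) = x from γ.apply_symm_apply x] at h1
      exact h1
    have hsyl : IsSyl p (autInducedBy S Q ⊓ K) K :=
      (isSyl_of_fullyAutomized (fullyNormalized_imp hS hF hQ).2).inf_normal (fun β hβ => hβ.1) hKn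
    obtain ⟨k, hk, hkR⟩ := hsyl.exists_conj
      (X := (autInducedBy S Q ⊓ K).map (MulAut.conj α).toMonoidHom) (hsyl.2.1.map _) (by
        rintro _ ⟨β, hβ, rfl⟩
        exact (Subgroup.mem_normalizer_iff.1 (hKn hα) β).1 hβ.2)
    obtain ⟨φβ, hφβ, hrβ, heβ⟩ := autGroup_apply_mem_hom F hQS (Subgroup.mul_mem _ hk.1 hα)
    obtain ⟨γ, hγ, hγe⟩ := (fullyNormalized_receptive hS hF hQ).2 Q φβ hφβ hrβ
    have hM : normalizerIn (Q ⊔ T) Q ≤ extender S Q φβ := by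
      rintro g ⟨hg, hgn⟩
      obtain ⟨q, hq, t, ht, rfl⟩ := exists_mul_of_mem_sup hT hQS hg
      refine Subgroup.mul_mem _ (le_extender F hφβ hq) (Subgroup.subset_closure ?_)
      have htn : t ∈ Subgroup.normalizer (Q : Set Ω) := by
        have := Subgroup.mul_mem _ (Subgroup.inv_mem _ (Subgroup.le_normalizer hq)) hgn
        rwa [inv_mul_cancel_left] at this
      obtain ⟨c, hc, hce⟩ := exists_conjAut (K := S) (hT.1 ht) htn
      have hcK : c ∈ K := ⟨autInducedBy_le_autGroup F hQS hc, fun x => by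
        rw [hce]
        have h1 : (x : Ω)⁻¹ * t * x ∈ T := by
          simpa using (Subgroup.mem_normalizer_iff.1 (hTn (S.inv_mem (hQS x.2))) t).1 ht
        simpa [mul_assoc] using T.mul_mem h1 (T.inv_mem ht)⟩
      have hd : (MulAut.conj k) ((MulAut.conj α) c) ∈ autInducedBy S Q ⊓ K :=
        hkR ⟨_, ⟨c, ⟨hc, hcK⟩, rfl⟩, rfl⟩
      obtain ⟨h, hh, hhe⟩ := (mem_autInducedBy_iff _).1 hd.1
      refine ⟨hT.1 ht, htn, h, hh, fun x hx => ?_⟩
      rw [heβ, heβ]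
      have e : (⟨_, hx⟩ : Q) = c x := Subtype.ext (hce x).symm
      rw [e, ← hhe]
      simp [MulAut.conj_apply]
    obtain ⟨α', hα', hα'e⟩ := step Q hQS (isConj_card hPQ).symm hγ hM
    refine ⟨α', hα', fun x => ?_⟩
    have h1 := hα'e x x.2 (le_extender F hφβ x.2)
    rw [hγe _ x.2, heβ] at h1
    have h2 := T.mul_mem (hk.2 (α x)) h1
    simp [mul_assoc] at h2
    exact h2
  obtain ⟨α', hα', hα'e⟩ := hα'
  obtain ⟨a', ha', ha'e⟩ := step P hPS rfl ha (fun x hx => ⟨sup_le hPS hT.1 hx.1, hx.2⟩)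
  obtain ⟨b', hb', hb'e⟩ := step φ.range hRS (isConj_card ⟨φ, hφ, rfl⟩).symm hb
    (fun x hx => ⟨sup_le hRS hT.1 hx.1, hx.2⟩)
  have haim : ∀ x, a' x ∈ Q ⊔ T := by
    rintro ⟨x, hx⟩
    obtain ⟨q, hq, t, ht, rfl⟩ := exists_mul_of_mem_sup hT hPS hx
    rw [show (⟨q * t, hx⟩ : ↥(P ⊔ T)) = ⟨q, Subgroup.mem_sup_left hq⟩ * ⟨t, Subgroup.mem_sup_right ht⟩ from rfl,
      map_mul]
    refine Subgroup.mul_mem _ ?_ (Subgroup.mem_sup_right (stronglyClosed_apply_mem hT ha' _ ht))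
    have h1 := ha'e q hq (le_normalizerIn hPS hq)
    have h2 : a ⟨q, le_normalizerIn hPS hq⟩ ∈ Q := (eA ⟨q, hq⟩).2
    simpa using Subgroup.mul_mem (Q ⊔ T) (Subgroup.mem_sup_left h2) (Subgroup.mem_sup_right h1)
  have hbim : Q ⊔ T ≤ b'.range := by
    refine sup_le (fun q hq => ?_) fun y hy => ?_
    · obtain ⟨y, hy⟩ := eB.surjective ⟨q, hq⟩
      have hy' : b ⟨y, le_normalizerIn hRS y.2⟩ = q := congrArg Subtype.val hy
      have h1 := hb'e y y.2 (le_normalizerIn hRS y.2)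
      rw [hy'] at h1
      obtain ⟨t, ht, hte⟩ := exists_preimage_stronglyClosed hT hb' le_sup_right h1
      refine ⟨⟨y, Subgroup.mem_sup_left y.2⟩ * (⟨t, Subgroup.mem_sup_right ht⟩ : ↥(φ.range ⊔ T))⁻¹, ?_⟩
      rw [map_mul, map_inv, hte]
      group
    · obtain ⟨t, ht, hte⟩ := exists_preimage_stronglyClosed hT hb' le_sup_right hy
      exact ⟨_, hte⟩
  obtain ⟨σ, hσ, hσr, -, hσ2⟩ := exists_inv F hb'
  obtain ⟨χ, hχ, hχe⟩ := comp_hom_mem F ha' hα' haim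
  have hχim : ∀ x, χ x ∈ b'.range := fun x => by
    refine hbim ?_
    rw [hχe]
    obtain ⟨q, hq, t, ht, e⟩ := exists_mul_of_mem_sup hT hQS (haim x)
    rw [show (⟨a' x, haim x⟩ : ↥(Q ⊔ T)) = ⟨q, Subgroup.mem_sup_left hq⟩ * ⟨t, Subgroup.mem_sup_right ht⟩ from
      Subtype.ext e, map_mul]
    refine Subgroup.mul_mem _ ?_ (Subgroup.mem_sup_right (stronglyClosed_apply_mem hT hα' _ ht))
    have h9 := Subgroup.mul_mem (Q ⊔ T) (Subgroup.mem_sup_left (α ⟨q, hq⟩).2)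
      (Subgroup.mem_sup_right (hα'e ⟨q, hq⟩))
    simp at h9
    exact h9
  obtain ⟨ψ, hψ, hψe⟩ := comp_hom_mem F hχ hσ hχim
  refine ⟨ψ, hψ, fun x => ?_⟩
  have hσmem : σ ⟨χ (Subgroup.inclusion le_sup_left x), hχim _⟩ ∈ φ.range ⊔ T := hσr.le ⟨_, rfl⟩
  have key : b' ⟨ψ (Subgroup.inclusion le_sup_left x), hψe _ ▸ hσmem⟩ =
      χ (Subgroup.inclusion le_sup_left x) := by
    refine (apply_congr b' (hψe _) _ hσmem).trans ?_
    exact hσ2 _ hσmem
  set u : ↥(φ.range ⊔ T) := ⟨φ x, Subgroup.mem_sup_left ⟨x, rfl⟩⟩ with hu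
  set w : ↥(φ.range ⊔ T) := ⟨ψ (Subgroup.inclusion le_sup_left x), hψe _ ▸ hσmem⟩ with hw
  have hin : b' (u⁻¹ * w) ∈ T := by
    rw [map_mul, map_inv, key, hχe]
    have hax : a ⟨x, le_normalizerIn hPS x.2⟩ ∈ Q := (eA x).2
    have h1 := ha'e x x.2 (le_normalizerIn hPS x.2)
    have h2 := hb'e (φ x) ⟨x, rfl⟩ (le_normalizerIn hRS ⟨x, rfl⟩)
    have h3 := hα'e ⟨_, hax⟩
    have h4 : ((α ⟨_, hax⟩ : Q) : Ω) = b ⟨φ x, le_normalizerIn hRS ⟨x, rfl⟩⟩ := by
      show ((eB (f (eA.symm (eA x))) : Q) : Ω) = _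
      rw [eA.symm_apply_apply]
      rfl
    rw [h4] at h3
    have h5 : α' ⟨a' (Subgroup.inclusion le_sup_left x), haim _⟩ =
        α' (Subgroup.inclusion le_sup_left ⟨_, hax⟩) *
          α' ⟨(a ⟨x, le_normalizerIn hPS x.2⟩)⁻¹ * a' (Subgroup.inclusion le_sup_left x), Subgroup.mem_sup_right h1⟩ := by
      rw [← map_mul]
      congr 1
      exact Subtype.ext (mul_inv_cancel_left _ _).symm
    rw [h5]
    have h6 := stronglyClosed_apply_mem hT hα' (⟨_, Subgroup.mem_sup_right h1⟩ : ↥(Q ⊔ T)) h1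
    have h7 := T.mul_mem (T.mul_mem (T.inv_mem h2) h3) h6
    simp [mul_assoc] at h7
    exact h7
  obtain ⟨t, ht, hte⟩ := exists_preimage_stronglyClosed hT hb' le_sup_right hin
  have := F.injective_of_mem hb' hte
  have e := congrArg Subtype.val this
  exact (show (φ x)⁻¹ * ψ (Subgroup.inclusion le_sup_left x) = t from e.symm) ▸ ht

end Cfsg.Agent.FusionSys
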