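import Cfsg.Agent.Lib.Fusion.Saturated

/-!
# Centric subgroups: overgroups, and maps agreeing on a centric subgroup
-/

set_option autoImplicit false

namespace Cfsg.Agent.FusionSys

open Cfsg Cfsg.FusionSystem

variable {Ω : Type*} [Group Ω] {S : Subgroup Ω}

/-- An isomorphism of subgroups as a homomorphism into the ambient group. -/
def equivHom {P Q : Subgroup Ω} (e : P ≃* Q) : P →* Ω := Q.subtype.comp e.toMonoidHom

@[simp] theorem equivHom_apply {P Q : Subgroup Ω} (e : P ≃* Q) (x : P) : equivHom e x = (e x : Q) := rfl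

theorem equivHom_trans (F : FusionSystem S) {P Q R : Subgroup Ω} {e : P ≃* Q} {e' : Q ≃* R}
    (he : equivHom e ∈ F.Hom P) (he' : equivHom e' ∈ F.Hom Q) : equivHom (e.trans e') ∈ F.Hom P :=
  hom_congr F (F.comp_mem he he' fun x => (e x).2) fun _ => rfl

theorem equivHom_mapEquiv (F : FusionSystem S) {P Q : Subgroup Ω} {φ : P →* Ω} (hφ : φ ∈ F.Hom P)
    (hr : φ.range = Q) : equivHom (mapEquiv F hφ hr) ∈ F.Hom P :=
  hom_congr F hφ fun _ => rfl

theorem equivHom_mapEquiv_symm (F : FusionSystem S) {P Q : Subgroup Ω} {φ : P →* Ω} (hφ : φ ∈ F.Hom P)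
    (hr : φ.range = Q) : equivHom (mapEquiv F hφ hr).symm ∈ F.Hom Q :=
  mapEquiv_symm_mem F hφ hr

theorem equivHom_autGroup (F : FusionSystem S) {P : Subgroup Ω} (hP : P ≤ S) {α : MulAut P} :
    α ∈ F.autGroup P ↔ equivHom α ∈ F.Hom P :=
  mem_autGroup_iff F hP α

theorem equivHom_range {P Q : Subgroup Ω} (e : P ≃* Q) : (equivHom e).range = Q := by
  ext y
  exact ⟨fun ⟨x, hx⟩ => hx ▸ (e x).2, fun hy => ⟨e.symm ⟨y, hy⟩, by simp⟩⟩

/-- An overgroup of a centric subgroup is centric. -/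
theorem isCentric_mono {F : FusionSystem S} {Q P : Subgroup Ω} (hQ : F.IsCentric Q) (hQP : Q ≤ P)
    (hP : P ≤ S) : F.IsCentric P := by
  refine ⟨hP, fun R hR => ?_⟩
  obtain ⟨φ, hφ, rfl⟩ := hR
  have h := hQ.2 _ ⟨_, restrict_mem F hφ hQP, rfl⟩
  have hle : (φ.comp (Subgroup.inclusion hQP)).range ≤ φ.range := by
    rintro _ ⟨x, rfl⟩; exact ⟨_, rfl⟩
  exact le_trans (inf_le_inf_left S (Subgroup.centralizer_le hle)) (h.trans hle)

theorem mem_of_centralizes {F : FusionSystem S} {Q : Subgroup Ω} (hQ : F.IsCentric Q) {x : Ω} (hx : x ∈ S)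
    (hc : ∀ q ∈ Q, q * x = x * q) : x ∈ Q :=
  hQ.2 Q (isConj_refl F hQ.1) ⟨hx, Subgroup.mem_centralizer_iff.2 hc⟩

variable {p : ℕ} [hp : Fact p.Prime] [Finite S]

/-- An automorphism in `Aut_F(P)` fixing a normal centric subgroup pointwise is conjugation by one of its
elements. -/
theorem exists_conj_of_fix (hS : IsPGroup p S) {F : FusionSystem S} (hF : F.IsSaturated p)
    {P Q : Subgroup Ω} (hQP : Q ≤ P) (hn : P ≤ Subgroup.normalizer (Q : Set Ω)) (hQ : F.IsCentric Q)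
    {α : MulAut P} (hα : α ∈ F.autGroup P) (hP : P ≤ S)
    (hfix : ∀ x : P, (x : Ω) ∈ Q → α x = x) :
    ∃ z ∈ Q, z ∈ Subgroup.centralizer (Q : Set Ω) ∧ ∀ y : P, ((α y : P) : Ω) = z * (y : Ω) * z⁻¹ := by
  have := finite_of_le hP
  -- `α` moves every element by an element of `Z(Q)`
  have hd : ∀ y : P, ((y⁻¹ * α y : P) : Ω) ∈ Q ⊓ Subgroup.centralizer (Q : Set Ω) := fun y => by
    have hc : ∀ q ∈ Q, q * ((y⁻¹ * α y : P) : Ω) = ((y⁻¹ * α y : P) : Ω) * q := fun q hq => by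
      have h2 := hfix ⟨q, hQP hq⟩ hq
      have hq' : (y : Ω) * q * (y : Ω)⁻¹ ∈ Q := (Subgroup.mem_normalizer_iff.1 (hn y.2) q).1 hq
      have h1 := hfix (y * ⟨q, hQP hq⟩ * y⁻¹) hq'
      rw [map_mul, map_mul, map_inv, h2] at h1
      have h3 : (⟨q, hQP hq⟩ : P) * (y⁻¹ * α y) = (y⁻¹ * α y) * ⟨q, hQP hq⟩ := by
        calc (⟨q, hQP hq⟩ : P) * (y⁻¹ * α y) = y⁻¹ * (y * ⟨q, hQP hq⟩ * y⁻¹) * α y := by group
          _ = y⁻¹ * (α y * ⟨q, hQP hq⟩ * (α y)⁻¹) * α y := by rw [← h1]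
          _ = (y⁻¹ * α y) * ⟨q, hQP hq⟩ := by group
      exact congrArg Subtype.val h3
    exact ⟨mem_of_centralizes hQ (hP (y⁻¹ * α y).2) hc, Subgroup.mem_centralizer_iff.2 hc⟩
  -- so a power of `p` kills it
  have hpow : ∀ (n : ℕ) (y : P), (α ^ n) y = y * (y⁻¹ * α y) ^ n := by
    intro n
    induction n with
    | zero => intro y; simp
    | succ n ih =>
      intro y
      rw [pow_succ', MulAut.mul_apply, ih, map_mul, map_pow,
        hfix (y⁻¹ * α y) (hd y).1, pow_succ', ← mul_assoc, mul_inv_cancel_left]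
  obtain ⟨k, hk⟩ := IsPGroup.iff_card.1 (hS.to_le hP)
  have hαk : α ^ (p ^ k) = 1 := MulEquiv.ext fun y => by
    rw [hpow, ← hk, pow_card_eq_one', mul_one]; rfl
  have hαp : IsPGroup p (Subgroup.zpowers α) := IsPGroup.of_card_dvd_pow (n := k) (by
    rw [Nat.card_zpowers]; exact orderOf_dvd_of_pow_eq_one hαk)
  obtain ⟨R, hPR, hR⟩ := exists_fullyNormalized F hP
  obtain ⟨φ, hφ, hφr⟩ := hPR
  have := finite_of_le hR.1
  set e := mapEquiv F hφ hφr with he
  obtain ⟨γ, hγ, hγle⟩ := (isSyl_of_fullyAutomized (fullyNormalized_imp hS hF hR).2).exists_conj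
    (hαp.map (MulAut.congr e).toMonoidHom) (by
      rw [← map_autGroup F e (equivHom_mapEquiv F hφ hφr) (equivHom_mapEquiv_symm F hφ hφr)]
      exact Subgroup.map_mono (Subgroup.zpowers_le.2 hα))
  obtain ⟨g, hg, hge⟩ := (mem_autInducedBy_iff _).1
    (hγle ⟨_, ⟨α, Subgroup.mem_zpowers α, rfl⟩, rfl⟩)
  set e' : P ≃* R := e.trans γ
  have he' : equivHom e' ∈ F.Hom P :=
    equivHom_trans F (equivHom_mapEquiv F hφ hφr) ((equivHom_autGroup F hR.1).1 hγ)
  have hge' : ∀ y : P, ((e' (α y) : R) : Ω) = g * (e' y : R) * g⁻¹ := fun y => by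
    have h := hge (e' y)
    simp only [MulEquiv.coe_toMonoidHom, MulAut.conj_apply, MulAut.mul_apply] at h
    rw [show γ⁻¹ (e' y) = e y from γ.symm_apply_apply _, congr_apply, MulEquiv.symm_apply_apply] at h
    exact h
  have hQ' := isCentric_isConj hQ ⟨_, restrict_mem F he' hQP, rfl⟩
  obtain ⟨q, hq⟩ : g ∈ ((equivHom e').comp (Subgroup.inclusion hQP)).range := by
    refine mem_of_centralizes hQ' hg ?_
    rintro _ ⟨x, rfl⟩
    have h := hge' (Subgroup.inclusion hQP x)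
    rw [hfix _ x.2] at h
    show ((e' _ : R) : Ω) * g = g * (e' _ : R)
    conv_lhs => rw [h]
    rw [inv_mul_cancel_right]
  have hconj : ∀ y : P, α y = Subgroup.inclusion hQP q * y * (Subgroup.inclusion hQP q)⁻¹ := fun y => by
    apply e'.injective
    apply Subtype.ext
    rw [hge', map_mul, map_mul, map_inv, ← hq]
    rfl
  refine ⟨q, q.2, Subgroup.mem_centralizer_iff.2 fun x hx => ?_, fun y => congrArg Subtype.val (hconj y)⟩
  have h := congrArg Subtype.val (hconj ⟨x, hQP hx⟩)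
  rw [hfix _ hx] at h
  simp only [Subgroup.coe_mul, InvMemClass.coe_inv, Subgroup.coe_inclusion] at h
  calc x * (q : Ω) = (q * x * (q : Ω)⁻¹) * q := by rw [← h]
    _ = q * x := by group

/-- Two maps of the system agreeing on a centric subgroup differ by one of its central elements. -/
theorem centric_agree (hS : IsPGroup p S) {F : FusionSystem S} (hF : F.IsSaturated p)
    {P Q : Subgroup Ω} (hQP : Q ≤ P) (hQ : F.IsCentric Q) {φ φ' : P →* Ω}
    (hφ : φ ∈ F.Hom P) (hφ' : φ' ∈ F.Hom P) (h : ∀ x : P, (x : Ω) ∈ Q → φ x = φ' x) :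
    ∃ z : P, (z : Ω) ∈ Q ∧ (z : Ω) ∈ Subgroup.centralizer (Q : Set Ω) ∧ ∀ y : P, φ' y = φ (z * y * z⁻¹) := by
  have hP := hom_le F hφ
  have := finite_of_le hP
  induction hk : Nat.card P - Nat.card Q using Nat.strong_induction_on generalizing Q φ with
  | _ k ih =>
  rcases eq_or_lt_of_le hQP with rfl | hlt
  · exact ⟨1, Q.one_mem, Subgroup.one_mem _, fun y => by simp [h y y.2]⟩
  set N := P ⊓ Subgroup.normalizer (Q : Set Ω) with hN
  have hNP : N ≤ P := inf_le_left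
  have hQN : Q < N := Cfsg.Agent.Fusion.lt_inf_normalizer (hS.to_le hP).isNilpotent hlt
  have h1 := restrict_mem F hφ hNP
  have h2 := restrict_mem F hφ' hNP
  have := finite_of_le (hNP.trans hP)
  -- the two restrictions to `N` have the same image
  have hrange : ∀ y : N, φ' (Subgroup.inclusion hNP y) ∈ (φ.comp (Subgroup.inclusion hNP)).range := fun y => by
    set a := φ (Subgroup.inclusion hNP y) with ha
    set b := φ' (Subgroup.inclusion hNP y) with hb
    have hφQ := isCentric_isConj hQ ⟨_, restrict_mem F hφ (hQN.le.trans hNP), rfl⟩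
    obtain ⟨z, hz⟩ : a⁻¹ * b ∈ (φ.comp (Subgroup.inclusion (hQN.le.trans hNP))).range := by
      refine mem_of_centralizes hφQ (S.mul_mem (S.inv_mem (hom_apply_mem F hφ _)) (hom_apply_mem F hφ' _)) ?_
      rintro _ ⟨x, rfl⟩
      have hxy : (Subgroup.inclusion hNP y : Ω) * x * ((Subgroup.inclusion hNP y : P) : Ω)⁻¹ ∈ Q :=
        (Subgroup.mem_normalizer_iff.1 y.2.2 x).1 x.2
      have e1 := h (Subgroup.inclusion hNP y * Subgroup.inclusion (hQN.le.trans hNP) x *
        (Subgroup.inclusion hNP y)⁻¹) hxy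
      have e2 := h (Subgroup.inclusion (hQN.le.trans hNP) x) x.2
      rw [map_mul, map_mul, map_inv, map_mul, map_mul, map_inv, ← e2, ← ha, ← hb] at e1
      show φ _ * (a⁻¹ * b) = a⁻¹ * b * φ _
      calc φ (Subgroup.inclusion (hQN.le.trans hNP) x) * (a⁻¹ * b)
          = a⁻¹ * (a * φ (Subgroup.inclusion (hQN.le.trans hNP) x) * a⁻¹) * b := by group
        _ = a⁻¹ * (b * φ (Subgroup.inclusion (hQN.le.trans hNP) x) * b⁻¹) * b := by rw [← e1]
        _ = a⁻¹ * b * φ (Subgroup.inclusion (hQN.le.trans hNP) x) := by group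
    refine ⟨y * Subgroup.inclusion hQN.le z, ?_⟩
    rw [map_mul]
    show a * φ _ = b
    rw [show φ (Subgroup.inclusion hNP (Subgroup.inclusion hQN.le z)) = a⁻¹ * b from hz, mul_inv_cancel_left]
  set e := mapEquiv F h1 rfl
  have hr : (φ'.comp (Subgroup.inclusion hNP)).range = (φ.comp (Subgroup.inclusion hNP)).range :=
    haveI := finite_of_le (range_le F h1)
    Subgroup.eq_of_le_of_card_ge (by rintro _ ⟨y, rfl⟩; exact hrange y)
      ((isConj_card ⟨_, h1, rfl⟩).symm.trans (isConj_card ⟨_, h2, rfl⟩)).le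
  set e' := mapEquiv F h2 hr
  have hα : e'.trans e.symm ∈ F.autGroup N :=
    (equivHom_autGroup F (hNP.trans hP)).2
      (equivHom_trans F (equivHom_mapEquiv F h2 hr) (equivHom_mapEquiv_symm F h1 rfl))
  have hfix : ∀ x : N, (x : Ω) ∈ Q → (e'.trans e.symm) x = x := fun x hx => by
    rw [MulEquiv.trans_apply, MulEquiv.symm_apply_eq]
    exact Subtype.ext (h (Subgroup.inclusion hNP x) hx).symm
  obtain ⟨z, hzQ, hzC, hz⟩ := exists_conj_of_fix hS hF hQN.le inf_le_right hQ hα (hNP.trans hP) hfix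
  -- correct `φ` and recurse
  have hzP : z ∈ P := hQP hzQ
  set c : P →* P := (MulAut.conj (⟨z, hzP⟩ : P)).toMonoidHom
  have hφc : φ.comp c ∈ F.Hom P :=
    hom_congr F (F.comp_mem (F.conj_mem hP (hP hzP)) hφ fun x => P.mul_mem (P.mul_mem hzP x.2) (P.inv_mem hzP))
      fun x => rfl
  have hag : ∀ x : P, (x : Ω) ∈ N → (φ.comp c) x = φ' x := fun x hx => by
    have h3 : e ((e'.trans e.symm) ⟨x, hx⟩) = e' ⟨x, hx⟩ := e.apply_symm_apply _
    refine Eq.trans ?_ (congrArg Subtype.val h3)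
    show φ _ = φ _
    exact congrArg φ (Subtype.ext (hz ⟨x, hx⟩).symm)
  obtain ⟨w, hwN, hwC, hw⟩ := ih (Nat.card P - Nat.card N) (by
    rw [← hk]
    have a1 : Nat.card Q < Nat.card N := lt_of_le_of_ne (Subgroup.card_le_of_le hQN.le)
      fun he => hQN.ne (Subgroup.eq_of_le_of_card_ge hQN.le he.ge)
    have a2 : Nat.card N ≤ Nat.card P := Subgroup.card_le_of_le hNP
    omega) hNP (isCentric_mono hQ hQN.le (hNP.trans hP)) hφc hag rfl
  have hwC' : (w : Ω) ∈ Subgroup.centralizer (Q : Set Ω) := Subgroup.centralizer_le hQN.le hwC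
  have hwQ : (w : Ω) ∈ Q := mem_of_centralizes hQ (hP w.2) (Subgroup.mem_centralizer_iff.1 hwC')
  refine ⟨⟨z, hzP⟩ * w, Q.mul_mem hzQ hwQ, Subgroup.mul_mem _ hzC hwC', fun y => ?_⟩
  rw [hw y]
  show φ _ = φ _
  congr 1
  show (⟨z, hzP⟩ : P) * (w * y * w⁻¹) * (⟨z, hzP⟩ : P)⁻¹ = _
  group

end Cfsg.Agent.FusionSys
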