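import Cfsg.Agent.Lib.Fusion.Basic
import Cfsg.Agent.Lib.Fusion.Sylow
import Cfsg.Agent.Lib.Transfer.Basic
import Cfsg.Agent.Lib.Transfer.Fusion
import Mathlib.Algebra.Group.Subgroup.Finite

/-!
# Saturated fusion systems: the Sylow and extension axioms
-/

set_option autoImplicit false

namespace Cfsg.Agent.FusionSys

open Cfsg Cfsg.FusionSystem

variable {Ω : Type*} [Group Ω] {S : Subgroup Ω}

/-! ### Isomorphisms of the system -/

/-- A map of the system as an isomorphism onto its image. -/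
noncomputable def mapEquiv (F : FusionSystem S) {P Q : Subgroup Ω} {φ : P →* Ω} (hφ : φ ∈ F.Hom P)
    (hr : φ.range = Q) : P ≃* Q :=
  (MonoidHom.ofInjective (F.injective_of_mem hφ)).trans (MulEquiv.subgroupCongr hr)

@[simp] theorem mapEquiv_apply (F : FusionSystem S) {P Q : Subgroup Ω} {φ : P →* Ω} (hφ : φ ∈ F.Hom P)
    (hr : φ.range = Q) (x : P) : ((mapEquiv F hφ hr x : Q) : Ω) = φ x := rfl

theorem mapEquiv_symm_mem (F : FusionSystem S) {P Q : Subgroup Ω} {φ : P →* Ω} (hφ : φ ∈ F.Hom P)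
    (hr : φ.range = Q) : P.subtype.comp (mapEquiv F hφ hr).symm.toMonoidHom ∈ F.Hom Q := by
  obtain ⟨ψ, hψ, -, h1, -⟩ := exists_inv F hφ
  subst hr
  refine hom_congr F hψ fun y => ?_
  obtain ⟨x, rfl⟩ := (mapEquiv F hφ rfl).surjective y
  show (((mapEquiv F hφ rfl).symm (mapEquiv F hφ rfl x) : P) : Ω) = _
  rw [MulEquiv.symm_apply_apply]
  exact (h1 x ⟨x, rfl⟩).symm

theorem congr_apply {P Q : Subgroup Ω} (e : P ≃* Q) (α : MulAut P) (y : Q) :
    MulAut.congr e α y = e (α (e.symm y)) := rfl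

theorem congr_mem_autGroup (F : FusionSystem S) {P Q : Subgroup Ω} (e : P ≃* Q)
    (he : Q.subtype.comp e.toMonoidHom ∈ F.Hom P) (he' : P.subtype.comp e.symm.toMonoidHom ∈ F.Hom Q)
    {α : MulAut P} (hα : α ∈ F.autGroup P) : MulAut.congr e α ∈ F.autGroup Q := by
  rw [mem_autGroup_iff F (hom_le F he')]
  rw [mem_autGroup_iff F (hom_le F he)] at hα
  have h1 := F.comp_mem he' hα fun x => (e.symm x).2
  have h2 := F.comp_mem h1 he fun x => (α (e.symm x)).2
  exact hom_congr F h2 fun x => rfl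

theorem map_autGroup (F : FusionSystem S) {P Q : Subgroup Ω} (e : P ≃* Q)
    (he : Q.subtype.comp e.toMonoidHom ∈ F.Hom P) (he' : P.subtype.comp e.symm.toMonoidHom ∈ F.Hom Q) :
    (F.autGroup P).map (MulAut.congr e).toMonoidHom = F.autGroup Q := by
  refine le_antisymm ?_ fun β hβ => ⟨MulAut.congr e.symm β, congr_mem_autGroup F e.symm he' he hβ, ?_⟩
  · rintro _ ⟨α, hα, rfl⟩
    exact congr_mem_autGroup F e he he' hα
  · ext y
    show ((e (e.symm (β (e.symm.symm (e.symm y)))) : Q) : Ω) = β y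
    simp

instance finite_mulAut {P : Type*} [Group P] [Finite P] : Finite (MulAut P) :=
  Finite.of_injective (fun α : MulAut P => (α : P → P)) DFunLike.coe_injective

theorem autInducedBy_isPGroup {p : ℕ} {K P : Subgroup Ω} (hK : IsPGroup p K) :
    IsPGroup p (autInducedBy K P) := by
  intro α
  obtain ⟨g, hg, he⟩ := (mem_autInducedBy_iff _).1 α.2
  obtain ⟨k, hk⟩ := hK ⟨g, hg⟩
  refine ⟨k, Subtype.ext (MulEquiv.ext fun x => Subtype.ext ?_)⟩
  have key : ∀ n : ℕ, ((((α : MulAut P) ^ n) x : P) : Ω) = g ^ n * (x : Ω) * (g ^ n)⁻¹ := by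
    intro n
    induction n with
    | zero => simp
    | succ n ih =>
      rw [pow_succ', MulAut.mul_apply, he, ih, pow_succ', mul_inv_rev]
      simp only [mul_assoc]
  have hk' : g ^ p ^ k = 1 := congrArg Subtype.val hk
  show ((((α : MulAut P) ^ (p ^ k)) x : P) : Ω) = _
  rw [key, hk']
  simp

theorem mem_normalizer_of_conj_mem_finite {Q : Subgroup Ω} [Finite Q] {g : Ω}
    (h : ∀ x ∈ Q, g * x * g⁻¹ ∈ Q) : g ∈ Subgroup.normalizer (Q : Set Ω) :=
  haveI : Finite ((Q : Set Ω) : Type _) := ‹Finite Q›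
  Subgroup.mem_normalizer_fintype h

theorem map_apply_conj {N : Subgroup Ω} (ψ : N →* Ω) {x y : Ω} (hx : x ∈ N) (hy : y ∈ N)
    (h : x * y * x⁻¹ ∈ N) : ψ ⟨x * y * x⁻¹, h⟩ = ψ ⟨x, hx⟩ * ψ ⟨y, hy⟩ * (ψ ⟨x, hx⟩)⁻¹ := by
  rw [← map_inv, ← map_mul, ← map_mul]; rfl

theorem apply_mem_normalizer {N Q R : Subgroup Ω} [Finite R] (ψ : N →* Ω) (hQN : Q ≤ N)
    (hr : (ψ.comp (Subgroup.inclusion hQN)).range = R) (x : N)
    (hx : (x : Ω) ∈ Subgroup.normalizer (Q : Set Ω)) : ψ x ∈ Subgroup.normalizer (R : Set Ω) := by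
  subst hr
  refine mem_normalizer_of_conj_mem_finite ?_
  rintro _ ⟨y, rfl⟩
  have hy := (Subgroup.mem_normalizer_iff.1 hx y).1 y.2
  exact ⟨⟨_, hy⟩, map_apply_conj ψ x.2 (hQN y.2) (hQN hy)⟩

theorem apply_mem_centralizer {N Q R : Subgroup Ω} (ψ : N →* Ω) (hQN : Q ≤ N)
    (hr : (ψ.comp (Subgroup.inclusion hQN)).range = R) (x : N)
    (hx : (x : Ω) ∈ Subgroup.centralizer (Q : Set Ω)) : ψ x ∈ Subgroup.centralizer (R : Set Ω) := by
  subst hr
  rw [Subgroup.mem_centralizer_iff]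
  rintro _ ⟨y, rfl⟩
  show ψ _ * ψ x = ψ x * ψ _
  rw [← map_mul, ← map_mul]
  exact congrArg ψ (Subtype.ext (Subgroup.mem_centralizer_iff.1 hx y y.2))

theorem le_extender {P : Subgroup Ω} (F : FusionSystem S) {φ : P →* Ω} (hφ : φ ∈ F.Hom P) :
    P ≤ extender S P φ := fun g hg =>
  Subgroup.subset_closure ⟨hom_le F hφ hg, Subgroup.le_normalizer hg, φ ⟨g, hg⟩, hom_apply_mem F hφ _,
    fun x hx => map_apply_conj φ hg x.2 hx⟩

theorem extender_le_normalizerIn {P : Subgroup Ω} (φ : P →* Ω) : extender S P φ ≤ normalizerIn S P :=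
  (Subgroup.closure_le _).2 fun _ hx => ⟨hx.1, hx.2.1⟩

theorem centralizerIn_le_extender {P : Subgroup Ω} (φ : P →* Ω) :
    centralizerIn S P ≤ extender S P φ := fun g hg =>
  Subgroup.subset_closure ⟨hg.1, Subgroup.centralizer_le_normalizer _ hg.2, 1, S.one_mem, fun x hx => by
    rw [one_mul, inv_one, mul_one]
    refine apply_congr φ ?_ hx x.2
    rw [← Subgroup.mem_centralizer_iff.1 hg.2 x x.2, mul_inv_cancel_right]⟩

theorem centralizerIn_sup_le_extender {P : Subgroup Ω} (F : FusionSystem S) {φ : P →* Ω}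
    (hφ : φ ∈ F.Hom P) : P ⊔ centralizerIn S P ≤ extender S P φ :=
  sup_le (le_extender F hφ) (centralizerIn_le_extender φ)

theorem card_le_of_hom (F : FusionSystem S) [Finite S] {N A B : Subgroup Ω} {ψ : N →* Ω} (hψ : ψ ∈ F.Hom N)
    (hA : A ≤ N) (hB : B ≤ S) (h : ∀ (x : Ω) (hx : x ∈ A), ψ ⟨x, hA hx⟩ ∈ B) : Nat.card A ≤ Nat.card B :=
  haveI := finite_of_le hB
  Nat.card_le_card_of_injective (fun x : A => (⟨ψ ⟨x, hA x.2⟩, h x x.2⟩ : B)) fun a b hab => by
    have := F.injective_of_mem hψ (congrArg Subtype.val hab)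
    exact Subtype.ext (congrArg Subtype.val this :)

theorem exists_preimage_of_card_le (F : FusionSystem S) [Finite S] {N A B : Subgroup Ω} {ψ : N →* Ω}
    (hψ : ψ ∈ F.Hom N) (hA : A ≤ N) (hB : B ≤ S) (h : ∀ (x : Ω) (hx : x ∈ A), ψ ⟨x, hA hx⟩ ∈ B)
    (hc : Nat.card B ≤ Nat.card A) (y : Ω) (hy : y ∈ B) : ∃ (x : Ω) (hx : x ∈ A), ψ ⟨x, hA hx⟩ = y := by
  have := finite_of_le hB
  have := finite_of_le (hA.trans (hom_le F hψ))
  let f : A → B := fun x => ⟨ψ ⟨x, hA x.2⟩, h x x.2⟩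
  have hf : Function.Injective f := fun a b hab => by
    have := F.injective_of_mem hψ (congrArg Subtype.val hab)
    exact Subtype.ext (congrArg Subtype.val this :)
  have hb : Function.Bijective f :=
    (Nat.bijective_iff_injective_and_card f).2 ⟨hf, le_antisymm (Nat.card_le_card_of_injective f hf) hc⟩
  obtain ⟨x, hx⟩ := hb.2 ⟨y, hy⟩
  exact ⟨x, x.2, congrArg Subtype.val hx⟩

/-- A receptive subgroup is fully centralized. -/
theorem isReceptive_fullyCentralized [Finite S] {F : FusionSystem S} {Q : Subgroup Ω} (h : F.IsReceptive Q) :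
    F.IsFullyCentralized Q := by
  refine ⟨h.1, fun R hR => ?_⟩
  obtain ⟨φ, hφ, hr⟩ := isConj_symm hR
  obtain ⟨ψ, hψ, hag⟩ := h.2 R φ hφ hr
  refine card_le_of_hom F hψ (centralizerIn_le_extender φ) (centralizerIn_le _ _) fun x hx =>
    ⟨hom_apply_mem F hψ _, apply_mem_centralizer ψ (le_extender F hφ) ?_ _ hx.2⟩
  rw [← hr]
  congr 1
  exact MonoidHom.ext fun x => hag x x.2 _

theorem centralizerIn_le_of_isConj {F : FusionSystem S} {U R : Subgroup Ω} [Finite S]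
    (hU : F.IsFullyCentralized U) (hC : centralizerIn S U ≤ U) (hR : F.IsConj U R) :
    centralizerIn S R ≤ R := by
  obtain ⟨φ, hφ, rfl⟩ := hR
  have hsub : centralizerIn S U ≤ U := hC
  have h1 : ∀ (x : Ω) (hx : x ∈ centralizerIn S U),
      φ ⟨x, hsub hx⟩ ∈ centralizerIn S φ.range := fun x hx =>
    ⟨hom_apply_mem F hφ _, apply_mem_centralizer φ le_rfl
      (by rw [show Subgroup.inclusion (le_refl U) = MonoidHom.id U from rfl, MonoidHom.comp_id]) _ hx.2⟩
  intro y hy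
  obtain ⟨x, hx, rfl⟩ := exists_preimage_of_card_le F hφ hsub (centralizerIn_le _ _) h1
    (hU.2 _ ⟨φ, hφ, rfl⟩) y hy
  exact ⟨_, rfl⟩

theorem isCentric_of_fullyCentralized [Finite S] {F : FusionSystem S} {U : Subgroup Ω}
    (hU : F.IsFullyCentralized U) (hC : centralizerIn S U ≤ U) : F.IsCentric U :=
  ⟨hU.1, fun _ hR => centralizerIn_le_of_isConj hU hC hR⟩

theorem exists_fullyNormalized [Finite S] (F : FusionSystem S) {P : Subgroup Ω} (hP : P ≤ S) :
    ∃ Q, F.IsConj P Q ∧ F.IsFullyNormalized Q := by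
  have hfin : {Q : Subgroup Ω | F.IsConj P Q}.Finite := setOf_le_finite.subset fun Q h => isConj_le_right h
  obtain ⟨Q, hQ, hmax⟩ := Set.exists_max_image _ (fun Q => Nat.card (normalizerIn S Q)) hfin
    ⟨P, isConj_refl F hP⟩
  exact ⟨Q, hQ, isConj_le_right hQ, fun R hR => hmax R (isConj_trans hQ hR)⟩

section saturation

variable {p : ℕ} [hp : Fact p.Prime] [Finite S]

theorem isSyl_of_fullyAutomized {F : FusionSystem S} {P : Subgroup Ω} (h : F.IsFullyAutomized p P) :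
    IsSyl p (autInducedBy S P) (F.autGroup P) := by
  have := finite_of_le h.1
  obtain ⟨R, hR⟩ := h.2
  exact isSyl_of_sylow (autInducedBy_le_autGroup F h.1) R hR

theorem fullyAutomized_of_isSyl_aut {F : FusionSystem S} {P : Subgroup Ω} (hP : P ≤ S)
    (h : IsSyl p (autInducedBy S P) (F.autGroup P)) : F.IsFullyAutomized p P :=
  ⟨hP, h.toSylow⟩

theorem extend_restrict_range {N Q R : Subgroup Ω} {ψ : N →* Ω} (hQN : Q ≤ N)
    (h : (Q.subgroupOf N).map ψ = R) : (ψ.comp (Subgroup.inclusion hQN)).range = R := by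
  rw [range_restrict, h]

/-- If `R` is fully automized and receptive and conjugate to `Q`, some map carries `N_S(Q)` into `N_S(R)`
and `Q` onto `R`. -/
theorem exists_normalizer_map (hS : IsPGroup p S) {F : FusionSystem S} {Q R : Subgroup Ω}
    (hA : F.IsFullyAutomized p R) (hR : F.IsReceptive R) (hQR : F.IsConj Q R) :
    ∃ ψ ∈ F.Hom (normalizerIn S Q), (∀ x, ψ x ∈ normalizerIn S R) ∧
      (Q.subgroupOf (normalizerIn S Q)).map ψ = R := by
  obtain ⟨φ, hφ, hr⟩ := hQR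
  have hQS := hom_le F hφ
  have := finite_of_le hA.1
  set e := mapEquiv F hφ hr
  have he : R.subtype.comp e.toMonoidHom ∈ F.Hom Q := hom_congr F hφ fun _ => rfl
  have he' := mapEquiv_symm_mem F hφ hr
  have hsyl := isSyl_of_fullyAutomized hA
  have hle : (autInducedBy S Q).map (MulAut.congr e).toMonoidHom ≤ F.autGroup R := by
    rw [← map_autGroup F e he he']
    exact Subgroup.map_mono (autInducedBy_le_autGroup F hQS)
  obtain ⟨β, hβ, hβle⟩ := hsyl.exists_conj ((autInducedBy_isPGroup hS).map _) hle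
  have hχ : R.subtype.comp (e.toMonoidHom |>.comp (MonoidHom.id Q)) ∈ F.Hom Q := he
  have hχ' := F.comp_mem he ((mem_autGroup_iff F hA.1 β).1 hβ) fun x => (e x).2
  have hr' : ((R.subtype.comp β.toMonoidHom).comp
      ((R.subtype.comp e.toMonoidHom).codRestrict R fun x => (e x).2)).range = R := by
    ext y
    constructor
    · rintro ⟨x, rfl⟩; exact (β _).2
    · intro hy
      refine ⟨e.symm (β.symm ⟨y, hy⟩), ?_⟩
      show ((β (e (e.symm (β.symm ⟨y, hy⟩))) : R) : Ω) = y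
      simp
  obtain ⟨ψ, hψ, hag⟩ := hR.2 Q _ hχ' hr'
  have hN : normalizerIn S Q ≤ extender S Q ((R.subtype.comp β.toMonoidHom).comp
      ((R.subtype.comp e.toMonoidHom).codRestrict R fun x => (e x).2)) := by
    intro g hg
    obtain ⟨a, ha, hae⟩ := exists_conjAut (P := Q) hg.1 hg.2
    have h1 := hβle ⟨_, ⟨a, ha, rfl⟩, rfl⟩
    obtain ⟨h, hh, hhe⟩ := (mem_autInducedBy_iff _).1 h1
    refine Subgroup.subset_closure ⟨hg.1, hg.2, h, hh, fun x hx => ?_⟩
    have h2 := hhe (β (e x))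
    simp only [MulEquiv.coe_toMonoidHom, MulAut.conj_apply, MulAut.mul_apply, congr_apply] at h2
    rw [show β⁻¹ (β (e x)) = e x from β.symm_apply_apply _, MulEquiv.symm_apply_apply] at h2
    refine Eq.trans ?_ h2
    show ((β (e ⟨_, hx⟩) : R) : Ω) = _
    rw [show (⟨g * (x : Ω) * g⁻¹, hx⟩ : Q) = a x from Subtype.ext (hae x).symm]
  have hrange : (Q.subgroupOf (normalizerIn S Q)).map (ψ.comp (Subgroup.inclusion hN)) = R := by
    conv_rhs => rw [← hr']
    rw [← range_restrict _ (le_normalizerIn hQS), MonoidHom.comp_assoc]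
    congr 1
    exact MonoidHom.ext fun x => hag x x.2 _
  refine ⟨ψ.comp (Subgroup.inclusion hN), restrict_mem F hψ hN, fun x => ⟨hom_apply_mem F hψ _, ?_⟩, hrange⟩
  exact apply_mem_normalizer _ (le_normalizerIn hQS) (extend_restrict_range _ hrange) x x.2.2

theorem fullyNormalized_imp (hS : IsPGroup p S) {F : FusionSystem S} (hF : F.IsSaturated p) {Q : Subgroup Ω}
    (hQ : F.IsFullyNormalized Q) : F.IsFullyCentralized Q ∧ F.IsFullyAutomized p Q := by
  obtain ⟨R, hQR, hA, hR⟩ := hF Q hQ.1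
  obtain ⟨ψ, hψ, hmem, hψQ⟩ := exists_normalizer_map hS hA hR hQR
  have hres := extend_restrict_range (le_normalizerIn hQ.1) hψQ
  have := finite_of_le hA.1
  have := finite_of_le hQ.1
  have hsurj : ∀ y ∈ normalizerIn S R, ∃ (x : Ω) (hx : x ∈ normalizerIn S Q), ψ ⟨x, hx⟩ = y := fun y hy =>
    exists_preimage_of_card_le F hψ le_rfl (normalizerIn_le _ _) (fun x hx => hmem ⟨x, hx⟩) (hQ.2 R hQR) y hy
  constructor
  · refine ⟨hQ.1, fun Q' hQ' => ?_⟩
    refine ((isReceptive_fullyCentralized hR).2 Q' (isConj_trans (isConj_symm hQR) hQ')).trans ?_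
    obtain ⟨ψ', hψ', -, h1, -⟩ := exists_inv F hψ
    have hA' : centralizerIn S R ≤ ψ.range := fun y hy => by
      obtain ⟨x, hx, rfl⟩ := hsurj y (centralizerIn_le_normalizerIn S R hy)
      exact ⟨_, rfl⟩
    refine card_le_of_hom F hψ' hA' (centralizerIn_le _ _) fun y hy => ?_
    obtain ⟨x, hx, rfl⟩ := hsurj y (centralizerIn_le_normalizerIn S R hy)
    rw [h1 ⟨x, hx⟩ _]
    refine ⟨hx.1, ?_⟩
    show x ∈ Subgroup.centralizer (Q : Set Ω)
    rw [Subgroup.mem_centralizer_iff]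
    intro q hq
    have h2 : ψ ⟨q, le_normalizerIn hQ.1 hq⟩ ∈ R := hres.le ⟨⟨q, hq⟩, rfl⟩
    have h3 := Subgroup.mem_centralizer_iff.1 hy.2 _ h2
    rw [← map_mul, ← map_mul] at h3
    exact congrArg Subtype.val (F.injective_of_mem hψ h3)
  · refine fullyAutomized_of_isSyl_aut hQ.1 ?_
    have hφ := restrict_mem F hψ (le_normalizerIn hQ.1)
    have hmap := map_autGroup F (mapEquiv F hφ hres) (hom_congr F hφ fun _ => rfl) (mapEquiv_symm_mem F hφ hres)
    have hsyl := isSyl_of_fullyAutomized hA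
    have heq : (autInducedBy S Q).map (MulAut.congr (mapEquiv F hφ hres)).toMonoidHom = autInducedBy S R := by
      ext β
      constructor
      · rintro ⟨a, ha, rfl⟩
        obtain ⟨g, hg, hae⟩ := (mem_autInducedBy_iff _).1 ha
        have hgN : g ∈ normalizerIn S Q := ⟨hg, mem_normalizer_of_autInduced hae⟩
        refine (mem_autInducedBy_iff _).2 ⟨ψ ⟨g, hgN⟩, (hmem _).1, fun y => ?_⟩
        obtain ⟨x, rfl⟩ := (mapEquiv F hφ hres).surjective y
        rw [MulEquiv.coe_toMonoidHom, congr_apply, MulEquiv.symm_apply_apply, mapEquiv_apply, mapEquiv_apply]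
        show ψ _ = ψ _ * ψ _ * (ψ _)⁻¹
        rw [← map_inv, ← map_mul, ← map_mul]
        exact congrArg ψ (Subtype.ext (hae x))
      · intro hβ
        obtain ⟨h, hh, hbe⟩ := (mem_autInducedBy_iff _).1 hβ
        obtain ⟨g, hgN, rfl⟩ := hsurj h ⟨hh, mem_normalizer_of_autInduced hbe⟩
        obtain ⟨a, ha, hae⟩ := exists_conjAut (P := Q) hgN.1 hgN.2
        refine ⟨a, ha, MulEquiv.ext fun y => Subtype.ext ?_⟩
        obtain ⟨x, rfl⟩ := (mapEquiv F hφ hres).surjective y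
        rw [MulEquiv.coe_toMonoidHom, congr_apply, MulEquiv.symm_apply_apply, hbe, mapEquiv_apply, mapEquiv_apply]
        show ψ _ = ψ _ * ψ _ * (ψ _)⁻¹
        rw [← map_inv, ← map_mul, ← map_mul]
        exact congrArg ψ (Subtype.ext (hae x))
    rw [← heq, ← hmap] at hsyl
    refine ⟨autInducedBy_le_autGroup F hQ.1, autInducedBy_isPGroup hS, ?_⟩
    have h := hsyl.2.2
    rwa [Subgroup.relIndex_map_map_of_injective _ _ (MulAut.congr _).injective] at h

theorem fullyCentralized_receptive (hS : IsPGroup p S) {F : FusionSystem S} (hF : F.IsSaturated p)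
    {Q : Subgroup Ω} (hQ : F.IsFullyCentralized Q) : F.IsReceptive Q := by
  refine ⟨hQ.1, fun P φ hφ hr => ?_⟩
  obtain ⟨R, hQR, hA, hR⟩ := hF Q hQ.1
  obtain ⟨ψ, hψ, hmem, hψQ⟩ := exists_normalizer_map hS hA hR hQR
  have hres := extend_restrict_range (le_normalizerIn hQ.1) hψQ
  have := finite_of_le hQ.1
  have hφN : ∀ x, φ x ∈ normalizerIn S Q := fun x => le_normalizerIn hQ.1 (hr.le ⟨x, rfl⟩)
  have hχ := F.comp_mem hφ hψ hφN
  have hχr : (ψ.comp (φ.codRestrict (normalizerIn S Q) hφN)).range = R := by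
    refine le_antisymm ?_ fun y hy => ?_
    · rintro _ ⟨x, rfl⟩
      exact hres.le ⟨⟨φ x, hr.le ⟨x, rfl⟩⟩, rfl⟩
    · obtain ⟨q, rfl⟩ := hres.ge hy
      obtain ⟨x, hx⟩ := hr.ge q.2
      exact ⟨x, congrArg ψ (Subtype.ext hx)⟩
  obtain ⟨χ', hχ', hag⟩ := hR.2 P _ hχ hχr
  have hgen : ∀ g : Ω, g ∈ S → g ∈ Subgroup.normalizer (P : Set Ω) → ∀ h ∈ S,
      (∀ (x : P) (hx : g * (x : Ω) * g⁻¹ ∈ P), φ ⟨_, hx⟩ = h * φ x * h⁻¹) → h ∈ normalizerIn S Q := by
    intro g _ hgN h hh hhx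
    refine ⟨hh, mem_normalizer_of_conj_mem_finite fun y hy => ?_⟩
    obtain ⟨x, rfl⟩ := hr.ge hy
    rw [← hhx x ((Subgroup.mem_normalizer_iff.1 hgN x).1 x.2), ← hr]
    exact ⟨_, rfl⟩
  have hle : extender S P φ ≤ extender S P (ψ.comp (φ.codRestrict (normalizerIn S Q) hφN)) := by
    refine (Subgroup.closure_le _).2 ?_
    rintro g ⟨hgS, hgN, h, hh, hhx⟩
    have hhN := hgen g hgS hgN h hh hhx
    refine Subgroup.subset_closure ⟨hgS, hgN, ψ ⟨h, hhN⟩, (hmem _).1, fun x hx => ?_⟩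
    show ψ _ = ψ _ * ψ _ * (ψ _)⁻¹
    rw [← map_inv, ← map_mul, ← map_mul]
    exact congrArg ψ (Subtype.ext (hhx x hx))
  have hin : ∀ g : extender S P φ, χ' (Subgroup.inclusion hle g) ∈ ψ.range := by
    suffices hsub : extender S P φ ≤
        (ψ.range.comap (χ'.comp (Subgroup.inclusion hle))).map (extender S P φ).subtype by
      intro g
      obtain ⟨g', hg', hgg⟩ := hsub g.2
      rw [show g = g' from Subtype.ext hgg.symm]
      exact hg'
    refine (Subgroup.closure_le _).2 ?_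
    rintro g ⟨hgS, hgN, h, hh, hhx⟩
    have hgE : g ∈ extender S P φ := Subgroup.subset_closure ⟨hgS, hgN, h, hh, hhx⟩
    refine ⟨⟨g, hgE⟩, ?_, rfl⟩
    show χ' ⟨g, hle hgE⟩ ∈ ψ.range
    have hhN := hgen g hgS hgN h hh hhx
    have hd : (ψ ⟨h, hhN⟩)⁻¹ * χ' ⟨g, hle hgE⟩ ∈ centralizerIn S R := by
      refine ⟨S.mul_mem (S.inv_mem (hmem _).1) (hom_apply_mem F hχ' _), ?_⟩
      show (ψ ⟨h, hhN⟩)⁻¹ * χ' ⟨g, hle hgE⟩ ∈ Subgroup.centralizer (R : Set Ω)
      rw [Subgroup.mem_centralizer_iff, ← hχr]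
      rintro _ ⟨x, rfl⟩
      have hgx := (Subgroup.mem_normalizer_iff.1 hgN x).1 x.2
      have hxE : (x : Ω) ∈ extender S P φ := le_extender F hφ x.2
      have hgxE : g * (x : Ω) * g⁻¹ ∈ extender S P φ := le_extender F hφ hgx
      have e1 := hag _ hgx (hle hgxE)
      rw [map_apply_conj χ' (hle hgE) (hle hxE) (hle hgxE), hag _ x.2 (hle hxE)] at e1
      have e2 : (ψ.comp (φ.codRestrict (normalizerIn S Q) hφN)) ⟨_, hgx⟩ =
          ψ ⟨h, hhN⟩ * ψ.comp (φ.codRestrict (normalizerIn S Q) hφN) x * (ψ ⟨h, hhN⟩)⁻¹ := by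
        show ψ _ = ψ _ * ψ _ * (ψ _)⁻¹
        rw [← map_inv, ← map_mul, ← map_mul]
        exact congrArg ψ (Subtype.ext (hhx x hgx))
      rw [e2] at e1
      calc ψ.comp (φ.codRestrict (normalizerIn S Q) hφN) x * ((ψ ⟨h, hhN⟩)⁻¹ * χ' ⟨g, hle hgE⟩)
          = (ψ ⟨h, hhN⟩)⁻¹ * (ψ ⟨h, hhN⟩ * ψ.comp (φ.codRestrict (normalizerIn S Q) hφN) x *
              (ψ ⟨h, hhN⟩)⁻¹) * χ' ⟨g, hle hgE⟩ := by group
        _ = (ψ ⟨h, hhN⟩)⁻¹ * (χ' ⟨g, hle hgE⟩ * ψ.comp (φ.codRestrict (normalizerIn S Q) hφN) x *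
              (χ' ⟨g, hle hgE⟩)⁻¹) * χ' ⟨g, hle hgE⟩ := by rw [← e1]
        _ = (ψ ⟨h, hhN⟩)⁻¹ * χ' ⟨g, hle hgE⟩ * ψ.comp (φ.codRestrict (normalizerIn S Q) hφN) x := by group
    obtain ⟨c, hc, hce⟩ := exists_preimage_of_card_le F hψ (centralizerIn_le_normalizerIn S Q)
      (centralizerIn_le _ _)
      (fun x hx => ⟨hom_apply_mem F hψ _, apply_mem_centralizer ψ (le_normalizerIn hQ.1) hres _ hx.2⟩)
      (hQ.2 R hQR) _ hd
    refine ⟨⟨h, hhN⟩ * ⟨c, centralizerIn_le_normalizerIn S Q hc⟩, ?_⟩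
    rw [map_mul, hce, mul_inv_cancel_left]
  obtain ⟨ψ', hψ', -, h1, -⟩ := exists_inv F hψ
  refine ⟨_, F.comp_mem (restrict_mem F hχ' hle) hψ' hin, fun x hxP hxN => ?_⟩
  show ψ' _ = φ ⟨x, hxP⟩
  refine Eq.trans ?_ (h1 ⟨φ ⟨x, hxP⟩, hφN _⟩ ⟨_, rfl⟩)
  exact congrArg ψ' (Subtype.ext (hag x hxP (hle hxN)))

theorem fullyNormalized_receptive (hS : IsPGroup p S) {F : FusionSystem S} (hF : F.IsSaturated p)
    {Q : Subgroup Ω} (hQ : F.IsFullyNormalized Q) : F.IsReceptive Q :=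
  fullyCentralized_receptive hS hF (fullyNormalized_imp hS hF hQ).1

/-- The extension of a conjugation onto a fully normalized subgroup. -/
theorem exists_normalizer_map_fullyNormalized (hS : IsPGroup p S) {F : FusionSystem S} (hF : F.IsSaturated p)
    {Q R : Subgroup Ω} (hR : F.IsFullyNormalized R) (hQR : F.IsConj Q R) :
    ∃ ψ ∈ F.Hom (normalizerIn S Q), (∀ x, ψ x ∈ normalizerIn S R) ∧
      (Q.subgroupOf (normalizerIn S Q)).map ψ = R :=
  exists_normalizer_map hS (fullyNormalized_imp hS hF hR).2 (fullyNormalized_receptive hS hF hR) hQR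

theorem isSaturated_iff (hS : IsPGroup p S) (F : FusionSystem S) :
    F.IsSaturated p ↔ (∀ P, F.IsFullyNormalized P → F.IsFullyCentralized P ∧ F.IsFullyAutomized p P) ∧
      ∀ P, F.IsFullyCentralized P → F.IsReceptive P := by
  refine ⟨fun hF => ⟨fun P => fullyNormalized_imp hS hF, fun P => fullyCentralized_receptive hS hF⟩, ?_⟩
  rintro ⟨h1, h2⟩ P hP
  obtain ⟨Q, hPQ, hQ⟩ := exists_fullyNormalized F hP
  exact ⟨Q, hPQ, (h1 Q hQ).2, h2 Q (h1 Q hQ).1⟩

end saturation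

end Cfsg.Agent.FusionSys
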