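import Cfsg.Agent.Lib.Fusion.Local
import Cfsg.Agent.Lib.Fusion.Saturated
import Cfsg.Agent.Lib.Fusion.Group
import Cfsg.Agent.Lib.Fusion.Centric

/-!
# Saturation of `K`-normalizer systems

If `Q` is fully `K`-normalized in a saturated system, its `K`-normalizer system is saturated.
-/

set_option autoImplicit false

namespace Cfsg.Agent.FusionSys

open Cfsg Cfsg.FusionSystem

variable {Ω : Type*} [Group Ω] {S : Subgroup Ω} {p : ℕ} [hp : Fact p.Prime]

/-- The elements of `S` inducing on `Q` an automorphism in `K`. -/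
def kNorm (S Q : Subgroup Ω) (K : Subgroup (MulAut Q)) : Subgroup Ω where
  carrier := {g | g ∈ S ∧ ∃ a ∈ K, ∀ q : Q, ((a q : Q) : Ω) = g * (q : Ω) * g⁻¹}
  one_mem' := ⟨S.one_mem, 1, K.one_mem, fun q => by simp⟩
  mul_mem' := by
    rintro g h ⟨hg, a, ha, hag⟩ ⟨hh, b, hb, hbh⟩
    exact ⟨S.mul_mem hg hh, a * b, K.mul_mem ha hb, fun q => by
      rw [MulAut.mul_apply, hag, hbh]; group⟩
  inv_mem' := by
    rintro g ⟨hg, a, ha, hag⟩
    refine ⟨S.inv_mem hg, a⁻¹, K.inv_mem ha, fun q => ?_⟩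
    have h := hag (a⁻¹ q)
    rw [show a (a⁻¹ q) = q from a.apply_symm_apply q] at h
    rw [h]
    group

/-- The maps of the `K`-normalizer system. -/
def kHom (F : FusionSystem S) (Q : Subgroup Ω) (K : Subgroup (MulAut Q)) (P : Subgroup Ω) : Set (P →* Ω) :=
  {φ | φ ∈ F.Hom P ∧ P ≤ kNorm S Q K ∧ (∀ x : P, φ x ∈ kNorm S Q K) ∧
    ∃ ψ ∈ F.Hom (P ⊔ Q), (∀ x : P, ψ (Subgroup.inclusion le_sup_left x) = φ x) ∧
      ∃ a ∈ K, ∀ q : Q, ψ (Subgroup.inclusion le_sup_right q) = a q}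

/-- The elements carried into the `K`-normalizer by an isomorphism onto `Q`. -/
def KPull (S : Subgroup Ω) {Q Q' : Subgroup Ω} (θ : Q' ≃* Q) (K : Subgroup (MulAut Q)) (g : Ω) : Prop :=
  g ∈ S ∧ ∃ a ∈ K, ∀ (x : Q') (h : g * (x : Ω) * g⁻¹ ∈ Q'), a (θ x) = θ ⟨g * x * g⁻¹, h⟩

/-- `Q` is fully `K`-normalized. -/
def IsFullyKNorm (F : FusionSystem S) (Q : Subgroup Ω) (K : Subgroup (MulAut Q)) : Prop :=
  Q ≤ S ∧ ∀ (Q' : Subgroup Ω) (θ : Q' ≃* Q), equivHom θ ∈ F.Hom Q' →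
    ∃ (D : Subgroup Ω) (c : D →* Ω) (hD : Q' ≤ D), c ∈ F.Hom D ∧
      (∀ g : Ω, g ∈ Subgroup.normalizer (Q' : Set Ω) → KPull S θ K g → g ∈ D) ∧
      ∃ k ∈ K, ∀ x : Q', c (Subgroup.inclusion hD x) = ((k (θ x) : Q) : Ω)

/-- The closure defining `N_φ` adds nothing. -/
theorem exists_of_mem_extender {T P : Subgroup Ω} {φ : P →* Ω} {g : Ω} (hg : g ∈ extender T P φ) :
    g ∈ Subgroup.normalizer (P : Set Ω) ∧ ∃ h ∈ T, ∀ (x : P) (hx : g * (x : Ω) * g⁻¹ ∈ P),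
      φ ⟨g * x * g⁻¹, hx⟩ = h * φ x * h⁻¹ := by
  induction hg using Subgroup.closure_induction with
  | mem g hg => exact hg.2
  | one => exact ⟨Subgroup.one_mem _, 1, T.one_mem, fun x hx => by simp⟩
  | mul g₁ g₂ _ _ h₁ h₂ =>
    obtain ⟨n₁, u₁, hu₁, e₁⟩ := h₁
    obtain ⟨n₂, u₂, hu₂, e₂⟩ := h₂
    refine ⟨Subgroup.mul_mem _ n₁ n₂, u₁ * u₂, T.mul_mem hu₁ hu₂, fun x hx => ?_⟩
    have m₂ := (Subgroup.mem_normalizer_iff.1 n₂ (x : Ω)).1 x.2
    have m₁ := (Subgroup.mem_normalizer_iff.1 n₁ _).1 m₂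
    rw [apply_congr φ (show g₁ * g₂ * (x : Ω) * (g₁ * g₂)⁻¹ = g₁ * (g₂ * x * g₂⁻¹) * g₁⁻¹ by group) hx m₁,
      e₁ ⟨_, m₂⟩ m₁, e₂ x m₂]
    group
  | inv g _ h =>
    obtain ⟨n, u, hu, e⟩ := h
    refine ⟨Subgroup.inv_mem _ n, u⁻¹, T.inv_mem hu, fun x hx => ?_⟩
    have h1 := e ⟨_, hx⟩ (show g * (g⁻¹ * (x : Ω) * g⁻¹⁻¹) * g⁻¹ ∈ P by simp [mul_assoc])
    rw [apply_congr φ (show g * (g⁻¹ * (x : Ω) * g⁻¹⁻¹) * g⁻¹ = x by group) _ x.2] at h1
    rw [show φ x = φ ⟨x, x.2⟩ from rfl, h1]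
    group

variable [Finite S]

/-- Automorphisms of `R` stabilizing `P` and acting on `Q` through `K`. -/
def kStab (F : FusionSystem S) {R : Subgroup Ω} (hR : R ≤ S) (P Q : Subgroup Ω) (hQ : Q ≤ R)
    (K : Subgroup (MulAut Q)) : Subgroup (MulAut R) where
  carrier := {β | β ∈ F.autGroup R ∧ (∀ x : R, (x : Ω) ∈ P → ((β x : R) : Ω) ∈ P) ∧
    ∃ a ∈ K, ∀ q : Q, ((β (Subgroup.inclusion hQ q) : R) : Ω) = a q}
  one_mem' := ⟨Subgroup.one_mem _, fun x h => h, 1, K.one_mem, fun q => rfl⟩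
  mul_mem' := by
    rintro β γ ⟨hβ, hβP, a, ha, haQ⟩ ⟨hγ, hγP, b, hb, hbQ⟩
    refine ⟨Subgroup.mul_mem _ hβ hγ, fun x hx => hβP _ (hγP x hx), a * b, K.mul_mem ha hb, fun q => ?_⟩
    rw [MulAut.mul_apply, MulAut.mul_apply, show γ (Subgroup.inclusion hQ q) = Subgroup.inclusion hQ (b q) from
      Subtype.ext (hbQ q), haQ]
  inv_mem' := by
    rintro β ⟨hβ, hβP, a, ha, haQ⟩
    refine ⟨Subgroup.inv_mem _ hβ, fun x hx => ?_, a⁻¹, K.inv_mem ha, fun q => ?_⟩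
    · haveI := finite_of_le (S := S) hR
      have hpow : ∀ n : ℕ, (((β ^ n) x : R) : Ω) ∈ P := by
        intro n
        induction n with
        | zero => exact hx
        | succ n ih => rw [pow_succ', MulAut.mul_apply]; exact hβP _ ih
      obtain ⟨n, hn⟩ : ∃ n : ℕ, β⁻¹ = β ^ n := ⟨orderOf β - 1, by
        rw [inv_eq_iff_mul_eq_one, ← pow_succ', Nat.sub_add_cancel (orderOf_pos β), pow_orderOf_eq_one]⟩
      rw [hn]
      exact hpow n
    · have h : β (Subgroup.inclusion hQ (a⁻¹ q)) = Subgroup.inclusion hQ q := Subtype.ext (by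
        rw [haQ, show a (a⁻¹ q) = q from a.apply_symm_apply q]; rfl)
      rw [← h, show β⁻¹ (β (Subgroup.inclusion hQ (a⁻¹ q))) = Subgroup.inclusion hQ (a⁻¹ q) from β.symm_apply_apply _]
      rfl

omit hp in
theorem congr_kStab (F : FusionSystem S) {R R' : Subgroup Ω} (hR : R ≤ S) (hR' : R' ≤ S) {P P' Q : Subgroup Ω}
    (hQ : Q ≤ R) (hQ' : Q ≤ R') {K : Subgroup (MulAut Q)} (e : R ≃* R') (he : equivHom e ∈ F.Hom R)
    (he' : equivHom e.symm ∈ F.Hom R') (heP : ∀ x : R, ((e x : R') : Ω) ∈ P' ↔ (x : Ω) ∈ P) {k : MulAut Q}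
    (hk : k ∈ K) (heQ : ∀ q : Q, ((e (Subgroup.inclusion hQ q) : R') : Ω) = k q) {β : MulAut R}
    (hβ : β ∈ kStab F hR P Q hQ K) : MulAut.congr e β ∈ kStab F hR' P' Q hQ' K := by
  obtain ⟨hβa, hβP, a, ha, haQ⟩ := hβ
  refine ⟨congr_mem_autGroup F e he he' hβa, fun y hy => ?_, k * a * k⁻¹,
    K.mul_mem (K.mul_mem hk ha) (K.inv_mem hk), fun q => ?_⟩
  · rw [congr_apply]
    refine (heP _).2 (hβP _ ((heP _).1 ?_))
    rwa [e.apply_symm_apply]
  · rw [congr_apply]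
    have h : e.symm (Subgroup.inclusion hQ' q) = Subgroup.inclusion hQ (k⁻¹ q) := by
      rw [e.symm_apply_eq]
      refine Subtype.ext ?_
      rw [heQ, show k (k⁻¹ q) = q from k.apply_symm_apply q]
      rfl
    rw [h, show β (Subgroup.inclusion hQ (k⁻¹ q)) = Subgroup.inclusion hQ (a (k⁻¹ q)) from Subtype.ext (haQ _), heQ]
    rfl

/-- `K`-normalizer systems of fully `K`-normalized subgroups are saturated. -/
theorem kSystem_saturated (hS : IsPGroup p S) {F : FusionSystem S} (hF : F.IsSaturated p) {Q : Subgroup Ω}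
    {K : Subgroup (MulAut Q)} (hfull : IsFullyKNorm F Q K) {T : Subgroup Ω} (hT : T = kNorm S Q K)
    (E : FusionSystem T) (hE : ∀ P, E.Hom P = kHom F Q K P) : E.IsSaturated p := by
  intro P hPT
  obtain ⟨hQS, hfull⟩ := hfull
  have hTS : T ≤ S := hT ▸ fun g hg => hg.1
  haveI : Finite T := finite_of_le (S := S) hTS
  have hTp : IsPGroup p T := isPGroup_of_le hS hTS
  have hPS : P ≤ S := hPT.trans hTS
  have hQfin := finite_of_le (S := S) hQS
  set R := P ⊔ Q with hRdef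
  have hRS : R ≤ S := sup_le hPS hQS
  have hRfin := finite_of_le (S := S) hRS
  have hQR : Q ≤ R := le_sup_right
  -- a fully normalized conjugate of `R`
  obtain ⟨R1, hRR1, hR1⟩ := exists_fullyNormalized F hRS
  have hR1S := hR1.1
  have hR1fin := finite_of_le (S := S) hR1S
  obtain ⟨a0, ha0, -, ha0R⟩ := exists_normalizer_map_fullyNormalized hS hF hR1 hRR1
  have ea0 := extend_restrict_range (le_normalizerIn hRS) ha0R
  set e0 := mapEquiv F (restrict_mem F ha0 (le_normalizerIn hRS)) ea0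
  have he0 : equivHom e0 ∈ F.Hom R := equivHom_mapEquiv F _ ea0
  have he0' : equivHom e0.symm ∈ F.Hom R1 := equivHom_mapEquiv_symm F _ ea0
  obtain ⟨U, hU⟩ := exists_isSyl (p := p) ((kStab F hRS P Q hQR K).map (MulAut.congr e0).toMonoidHom)
  obtain ⟨γ, hγ, hγU⟩ := (isSyl_of_fullyAutomized (fullyNormalized_imp hS hF hR1).2).exists_conj hU.2.1
    (hU.1.trans (by
      rintro _ ⟨β, hβ, rfl⟩
      exact congr_mem_autGroup F e0 he0 he0' hβ.1))
  set δ : R ≃* R1 := e0.trans γ with hδdef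
  have hδ : equivHom δ ∈ F.Hom R := equivHom_trans F he0 ((equivHom_autGroup F hR1S).1 hγ)
  have hδ' : equivHom δ.symm ∈ F.Hom R1 := equivHom_trans F ((equivHom_autGroup F hR1S).1 (Subgroup.inv_mem _ hγ)) he0'
  -- the images of `P` and `Q`
  set P1 : Subgroup Ω := (P.subgroupOf R).map (equivHom δ) with hP1def
  set Q1 : Subgroup Ω := (Q.subgroupOf R).map (equivHom δ) with hQ1def
  have hQ1R : Q1 ≤ R1 := by
    rintro _ ⟨x, -, rfl⟩; exact (δ x).2
  have hP1R : P1 ≤ R1 := by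
    rintro _ ⟨x, -, rfl⟩; exact (δ x).2
  have hQrange : ((equivHom δ).comp (Subgroup.inclusion hQR)).range = Q1 := range_restrict _ hQR
  set θ' : Q ≃* Q1 := mapEquiv F (restrict_mem F hδ hQR) hQrange
  have hθ : equivHom θ'.symm ∈ F.Hom Q1 := equivHom_mapEquiv_symm F _ hQrange
  obtain ⟨D, c, hQ1D, hc, hDmem, k, hk, hck⟩ := hfull Q1 θ'.symm hθ
  have hθ'v : ∀ q : Q, ((θ' q : Q1) : Ω) = ((δ (Subgroup.inclusion hQR q) : R1) : Ω) := fun q => rfl
  have hR1D : R1 ≤ D := by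
    intro y hy
    obtain ⟨x, hx⟩ := δ.surjective ⟨y, hy⟩
    have hle : R ≤ ((D.subgroupOf R1).comap δ.toMonoidHom).map R.subtype := by
      refine sup_le (fun u hu => ⟨⟨u, Subgroup.mem_sup_left hu⟩, ?_, rfl⟩)
        fun u hu => ⟨⟨u, Subgroup.mem_sup_right hu⟩, hQ1D ⟨⟨u, Subgroup.mem_sup_right hu⟩, hu, rfl⟩, rfl⟩
      show ((δ ⟨u, Subgroup.mem_sup_left hu⟩ : R1) : Ω) ∈ D
      obtain ⟨-, a, ha, hau⟩ := (hT ▸ hPT) hu
      have key : ∀ q : Q, ((δ ⟨u, Subgroup.mem_sup_left hu⟩ : R1) : Ω) * θ' q *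
          ((δ ⟨u, Subgroup.mem_sup_left hu⟩ : R1) : Ω)⁻¹ = θ' (a q) := by
        intro q
        rw [hθ'v, hθ'v, ← Subgroup.coe_inv, ← Subgroup.coe_mul, ← Subgroup.coe_mul, ← map_inv, ← map_mul, ← map_mul]
        congr 2
        exact Subtype.ext (hau q).symm
      have hQ1fin := finite_of_le (S := S) (hQ1R.trans hR1S)
      refine hDmem _ (mem_normalizer_of_conj_mem_finite fun x hx => ?_) ⟨hR1S (δ _).2, a, ha, fun x h => ?_⟩
      · obtain ⟨q, hq⟩ := θ'.surjective ⟨x, hx⟩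
        have hq' : ((θ' q : Q1) : Ω) = x := congrArg Subtype.val hq
        rw [← hq', key]
        exact (θ' _).2
      · obtain ⟨q, rfl⟩ := θ'.surjective x
        rw [θ'.symm_apply_apply, eq_comm, θ'.symm_apply_eq]
        exact Subtype.ext (key q)
    obtain ⟨z, hz, hzx⟩ := hle x.2
    rw [show z = x from Subtype.ext hzx] at hz
    have hz' : ((δ x : R1) : Ω) ∈ D := hz
    rwa [hx] at hz'
  -- the final map
  set f : R →* Ω := c.comp ((equivHom δ).codRestrict D fun x => hR1D (δ x).2) with hfdef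
  have hf : f ∈ F.Hom R := F.comp_mem hδ hc _
  have hfQ : ∀ q : Q, f (Subgroup.inclusion hQR q) = k q := by
    intro q
    have h1 := hck (θ' q)
    rw [θ'.symm_apply_apply] at h1
    exact h1
  set P2 : Subgroup Ω := (P.subgroupOf R).map f with hP2def
  have hP2mem : ∀ u (hu : u ∈ P), f ⟨u, Subgroup.mem_sup_left hu⟩ ∈ T := by
    intro u hu
    rw [hT]
    obtain ⟨-, a, ha, hau⟩ := (hT ▸ hPT) hu
    refine ⟨hom_apply_mem F hf _, k * a * k⁻¹, K.mul_mem (K.mul_mem hk ha) (K.inv_mem hk), fun q => ?_⟩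
    rw [MulAut.mul_apply, MulAut.mul_apply, ← hfQ, ← map_inv]
    conv_rhs => rw [show (q : Ω) = ((k (k⁻¹ q) : Q) : Ω) by rw [show k (k⁻¹ q) = q from k.apply_symm_apply q], ← hfQ]
    rw [← map_mul, ← map_mul]
    congr 1
    exact Subtype.ext (hau _)
  have hP2T : P2 ≤ T := by
    rintro _ ⟨⟨u, hu⟩, huP, rfl⟩
    exact hP2mem u huP
  set R2 := P2 ⊔ Q with hR2def
  have hfR : f.range = R2 := by
    refine le_antisymm ?_ (sup_le ?_ fun y hy => ?_)
    · rintro _ ⟨x, rfl⟩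
      exact apply_mem_of_sup f (fun u => Subgroup.mem_sup_left (Subgroup.mem_map_of_mem f
        (show Subgroup.inclusion le_sup_left u ∈ P.subgroupOf R from u.2)))
        (fun q => Subgroup.mem_sup_right (by rw [hfQ]; exact (k q).2)) x
    · rintro _ ⟨x, -, rfl⟩; exact ⟨x, rfl⟩
    · refine ⟨Subgroup.inclusion hQR (k⁻¹ ⟨y, hy⟩), ?_⟩
      rw [hfQ, show k (k⁻¹ ⟨y, hy⟩) = ⟨y, hy⟩ from k.apply_symm_apply _]
  have hR2S : R2 ≤ S := sup_le (hP2T.trans hTS) hQS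
  have hR2fin := finite_of_le (S := S) hR2S
  have hQR2 : Q ≤ R2 := le_sup_right
  set e2 := mapEquiv F hf hfR with he2def
  have he2 : equivHom e2 ∈ F.Hom R := equivHom_mapEquiv F hf hfR
  have he2' : equivHom e2.symm ∈ F.Hom R2 := equivHom_mapEquiv_symm F hf hfR
  have he2P : ∀ x : R, ((e2 x : R2) : Ω) ∈ P2 ↔ (x : Ω) ∈ P := fun x => by
    refine ⟨fun h => ?_, fun h => ⟨x, h, rfl⟩⟩
    obtain ⟨z, hz, hze⟩ := h
    rwa [← F.injective_of_mem hf (show f z = f x from hze)]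
  -- the stabilizer of `P2`
  set A2 := kStab F hR2S P2 Q hQR2 K with hA2def
  have hA2 : (kStab F hRS P Q hQR K).map (MulAut.congr e2).toMonoidHom = A2 := by
    refine le_antisymm ?_ fun β hβ => ⟨MulAut.congr e2.symm β, ?_, ?_⟩
    · rintro _ ⟨β, hβ, rfl⟩
      exact congr_kStab F hRS hR2S hQR hQR2 e2 he2 he2' he2P hk hfQ hβ
    · refine congr_kStab F hR2S hRS hQR2 hQR e2.symm he2' (by rw [MulEquiv.symm_symm]; exact he2)
        (fun y => ?_) (K.inv_mem hk) (fun q => ?_) hβ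
      · rw [← he2P, e2.apply_symm_apply]
      · have h : e2.symm (Subgroup.inclusion hQR2 q) = Subgroup.inclusion hQR (k⁻¹ q) := by
          rw [e2.symm_apply_eq]
          refine Subtype.ext ?_
          show (q : Ω) = f _
          rw [hfQ, show k (k⁻¹ q) = q from k.apply_symm_apply q]
        rw [h]
        rfl
    · ext z
      simp [congr_apply]
  -- `R2` is fully centralized
  have hR1C : F.IsFullyCentralized R1 := (fullyNormalized_imp hS hF hR1).1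
  have hCD : centralizerIn S R1 ≤ D := fun g hg => by
    refine hDmem g (Subgroup.centralizer_le_normalizer Q1 (fun x hx => hg.2 x (hQ1R hx)))
      ⟨hg.1, 1, K.one_mem, fun x h => ?_⟩
    rw [MulAut.one_apply]
    congr 1
    refine Subtype.ext ?_
    show (x : Ω) = g * x * g⁻¹
    rw [← hg.2 x (hQ1R x.2), mul_inv_cancel_right]
  have hcR : (c.comp (Subgroup.inclusion hR1D)).range = R2 := by
    rw [← hfR]
    refine le_antisymm ?_ ?_
    · rintro _ ⟨y, rfl⟩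
      obtain ⟨x, rfl⟩ := δ.surjective y
      exact ⟨x, rfl⟩
    · rintro _ ⟨x, rfl⟩
      exact ⟨δ x, rfl⟩
  have hR2C : F.IsFullyCentralized R2 := by
    refine ⟨hR2S, fun R' hR' => ?_⟩
    have h1 : F.IsConj R1 R' := isConj_trans ⟨_, restrict_mem F hc hR1D, hcR⟩ hR'
    refine (hR1C.2 R' h1).trans (card_le_of_hom F hc hCD (centralizerIn_le S R2) fun x hx => ⟨hom_apply_mem F hc _, ?_⟩)
    exact apply_mem_centralizer c hR1D hcR ⟨x, hCD hx⟩ hx.2
  -- the Sylow subgroup of the stabilizer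
  set M := normalizerIn T P2 with hMdef
  have hMN : ∀ g ∈ M, g ∈ Subgroup.normalizer (R2 : Set Ω) := by
    intro g hg
    obtain ⟨-, a, -, hag⟩ := (hT ▸ hg.1 : g ∈ kNorm S Q K)
    refine mem_normalizer_of_conj_mem_finite fun x hx => ?_
    have h1 : R2.map (MulAut.conj g).toMonoidHom ≤ R2 := by
      rw [hR2def, Subgroup.map_sup]
      refine sup_le_sup ?_ ?_
      · rintro _ ⟨y, hy, rfl⟩; exact (Subgroup.mem_normalizer_iff.1 hg.2 y).1 hy
      · rintro _ ⟨y, hy, rfl⟩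
        show g * y * g⁻¹ ∈ Q
        rw [show g * y * g⁻¹ = a ⟨y, hy⟩ from (hag ⟨y, hy⟩).symm]
        exact (a _).2
    exact h1 (map_conj_apply_mem hx)
  have hAutM : autInducedBy M R2 ≤ A2 := by
    intro β hβ
    obtain ⟨g, hg, hge⟩ := (mem_autInducedBy_iff β).1 hβ
    obtain ⟨-, a, ha, hag⟩ := (hT ▸ hg.1 : g ∈ kNorm S Q K)
    refine ⟨autInducedBy_le_autGroup F hR2S (autInducedBy_mono ((normalizerIn_le T P2).trans hTS) hβ),
      fun x hx => ?_, a, ha, fun q => ?_⟩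
    · rw [hge]; exact (Subgroup.mem_normalizer_iff.1 hg.2 x).1 hx
    · rw [hge, hag]; rfl
  have hMp : IsPGroup p (autInducedBy M R2) := autInducedBy_isPGroup (isPGroup_of_le hTp (normalizerIn_le T P2))
  have hsyl : IsSyl p (autInducedBy M R2) A2 := by
    have hU2 : IsSyl p (U.map (MulAut.congr (e0.symm.trans e2)).toMonoidHom) A2 := by
      have h1 := hU.map (MulAut.congr (e0.symm.trans e2)).toMonoidHom
      rw [Subgroup.map_map] at h1
      have hcomp : (MulAut.congr (e0.symm.trans e2)).toMonoidHom.comp (MulAut.congr e0).toMonoidHom =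
          (MulAut.congr e2).toMonoidHom := by
        ext β x
        simp [congr_apply]
      rwa [hcomp, hA2] at h1
    refine hU2.of_card_ge hMp hAutM (Subgroup.card_le_of_le ?_)
    rintro _ ⟨u, hu, rfl⟩
    obtain ⟨g, hg, hge⟩ := (mem_autInducedBy_iff _).1 (hγU ⟨u, hu, rfl⟩)
    obtain ⟨β, hβ, hβu⟩ := hU.1 hu
    subst hβu
    obtain ⟨hβa, hβP, a, ha, haQ⟩ := hβ
    have hact : ∀ x : R, g * ((δ x : R1) : Ω) * g⁻¹ = ((δ (β x) : R1) : Ω) := by
      intro x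
      rw [← hge]
      congr 1
      show γ (MulAut.congr e0 β (γ⁻¹ (γ (e0 x)))) = γ (e0 (β x))
      rw [show γ⁻¹ (γ (e0 x)) = e0 x from γ.symm_apply_apply _, congr_apply, e0.symm_apply_apply]
    have hgn : g ∈ Subgroup.normalizer (Q1 : Set Ω) := by
      haveI := finite_of_le (S := S) (hQ1R.trans hR1S)
      refine mem_normalizer_of_conj_mem_finite ?_
      rintro _ ⟨x, hx, rfl⟩
      rw [show equivHom δ x = ((δ x : R1) : Ω) from rfl, hact]
      refine ⟨β x, ?_, rfl⟩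
      have := haQ ⟨(x : Ω), hx⟩
      show ((β x : R) : Ω) ∈ Q
      rw [show β x = β (Subgroup.inclusion hQR ⟨(x : Ω), hx⟩) from rfl, this]
      exact (a _).2
    have hgD : g ∈ D := by
      refine hDmem g hgn ⟨hg, a, ha, fun y h => ?_⟩
      obtain ⟨q, rfl⟩ := θ'.surjective y
      rw [θ'.symm_apply_apply, eq_comm, θ'.symm_apply_eq]
      refine Subtype.ext ?_
      show g * ((δ (Subgroup.inclusion hQR q) : R1) : Ω) * g⁻¹ = _
      rw [hact, hθ'v, show β (Subgroup.inclusion hQR q) = Subgroup.inclusion hQR (a q) from Subtype.ext (haQ q)]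
    have hcact : ∀ x : R, c ⟨g, hgD⟩ * f x * (c ⟨g, hgD⟩)⁻¹ = f (β x) := by
      intro x
      show c ⟨g, hgD⟩ * c _ * _ = c _
      rw [← map_inv, ← map_mul, ← map_mul]
      exact congrArg c (Subtype.ext (hact x))
    have hcT : c ⟨g, hgD⟩ ∈ T := by
      rw [hT]
      refine ⟨hom_apply_mem F hc _, k * a * k⁻¹, K.mul_mem (K.mul_mem hk ha) (K.inv_mem hk), fun q => ?_⟩
      conv_rhs => rw [show (q : Ω) = ((k (k⁻¹ q) : Q) : Ω) by rw [show k (k⁻¹ q) = q from k.apply_symm_apply q],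
        ← hfQ, hcact, show β (Subgroup.inclusion hQR (k⁻¹ q)) = Subgroup.inclusion hQR (a (k⁻¹ q)) from
          Subtype.ext (haQ _), hfQ]
      rfl
    have hcP : c ⟨g, hgD⟩ ∈ Subgroup.normalizer (P2 : Set Ω) := by
      haveI := finite_of_le (S := S) (hP2T.trans hTS)
      refine mem_normalizer_of_conj_mem_finite ?_
      rintro _ ⟨x, hx, rfl⟩
      rw [hcact]
      exact ⟨β x, hβP x hx, rfl⟩
    rw [mem_autInducedBy_iff]
    refine ⟨c ⟨g, hgD⟩, ⟨hcT, hcP⟩, fun y => ?_⟩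
    obtain ⟨x, rfl⟩ := e2.surjective y
    have he : (MulAut.congr (e0.symm.trans e2)) ((MulAut.congr e0).toMonoidHom β) (e2 x) = e2 (β x) := by
      simp [congr_apply]
    show (((MulAut.congr (e0.symm.trans e2)) ((MulAut.congr e0).toMonoidHom β) (e2 x) : R2) : Ω) = _
    rw [he]
    exact (hcact x).symm
  -- restriction to `P2`
  haveI hP2fin : Finite P2 := finite_of_le (S := S) (hP2T.trans hTS)
  let ρ : A2 →* MulAut P2 :=
    { toFun := fun β =>
        { toFun := fun x => ⟨(β : MulAut R2) (Subgroup.inclusion le_sup_left x), β.2.2.1 _ x.2⟩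
          invFun := fun x => ⟨((β⁻¹ : A2) : MulAut R2) (Subgroup.inclusion le_sup_left x), (β⁻¹).2.2.1 _ x.2⟩
          left_inv := fun x => Subtype.ext (by
            exact (congrArg (fun z : R2 => (z : Ω)) ((β : MulAut R2).symm_apply_apply (Subgroup.inclusion le_sup_left x)) :))
          right_inv := fun x => Subtype.ext (by
            exact (congrArg (fun z : R2 => (z : Ω)) ((β : MulAut R2).apply_symm_apply (Subgroup.inclusion le_sup_left x)) :))
          map_mul' := fun x y => Subtype.ext (by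
            exact (congrArg (fun z : R2 => (z : Ω))
              (map_mul (β : MulAut R2) (Subgroup.inclusion le_sup_left x) (Subgroup.inclusion le_sup_left y)) :)) }
      map_one' := MulEquiv.ext fun x => rfl
      map_mul' := fun β γ => MulEquiv.ext fun x => rfl }
  have hP2S := hP2T.trans hTS
  have hsymm : E.IsConj P P2 := by
    refine ⟨f.comp (Subgroup.inclusion le_sup_left), ?_, range_restrict f le_sup_left⟩
    rw [hE]
    exact ⟨restrict_mem F hf le_sup_left, hT ▸ hPT, fun x => hT ▸ hP2mem x x.2, f, hf, fun x => rfl, k, hk, hfQ⟩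
  have hautE : E.autGroup P2 = ρ.range := by
    refine le_antisymm ((Subgroup.closure_le _).2 ?_) ?_
    · intro α hα
      have hα' : P2.subtype.comp α.toMonoidHom ∈ kHom F Q K P2 := hE P2 ▸ hα
      obtain ⟨-, -, -, ψ, hψ, hψe, a, ha, hψQ⟩ := hα'
      have hr : ψ.range = R2 := by
        refine le_antisymm ?_ (sup_le (fun y hy => ?_) fun y hy => ?_)
        · rintro _ ⟨x, rfl⟩
          exact apply_mem_of_sup ψ (fun u => Subgroup.mem_sup_left (by rw [hψe]; exact (α u).2))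
            (fun q => Subgroup.mem_sup_right (by rw [hψQ]; exact (a q).2)) x
        · refine ⟨Subgroup.inclusion le_sup_left (α⁻¹ ⟨y, hy⟩), ?_⟩
          rw [hψe]
          exact congrArg Subtype.val (α.apply_symm_apply ⟨y, hy⟩)
        · refine ⟨Subgroup.inclusion le_sup_right (a⁻¹ ⟨y, hy⟩), ?_⟩
          rw [hψQ]
          exact congrArg Subtype.val (a.apply_symm_apply ⟨y, hy⟩)
      obtain ⟨β, hβ, hβe⟩ := exists_autGroup_of_range F hψ hr
      have hβA : β ∈ A2 := ⟨hβ, fun x hx => by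
        rw [hβe, show x = Subgroup.inclusion le_sup_left ⟨(x : Ω), hx⟩ from rfl, hψe]
        exact (α _).2, a, ha, fun q => by rw [hβe, hψQ]⟩
      exact ⟨⟨β, hβA⟩, MulEquiv.ext fun x => Subtype.ext ((hβe _).trans (hψe x))⟩
    · rintro _ ⟨β, rfl⟩
      obtain ⟨φβ, hφβ, -, hβe⟩ := autGroup_apply_mem_hom F hR2S β.2.1
      obtain ⟨a, ha, haQ⟩ := β.2.2.2
      refine (mem_autGroup_iff E hP2T _).2 ?_
      rw [hE]
      refine ⟨hom_congr F (restrict_mem F hφβ (le_sup_left : P2 ≤ R2)) fun x => ?_, hT ▸ hP2T,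
        fun x => hT ▸ hP2T (ρ β x).2, φβ, hφβ, fun x => hβe _, a, ha, fun q => (hβe _).trans (haQ q)⟩
      exact (hβe (Subgroup.inclusion (le_sup_left : P2 ≤ R2) x)).symm
  have hρM : ((autInducedBy M R2).subgroupOf A2).map ρ = autInducedBy T P2 := by
    refine le_antisymm ?_ fun α hα => ?_
    · rintro _ ⟨β, hβ, rfl⟩
      obtain ⟨g, hg, hge⟩ := (mem_autInducedBy_iff _).1 hβ
      exact (mem_autInducedBy_iff _).2 ⟨g, hg.1, fun x => hge _⟩
    · obtain ⟨g, hg, hge⟩ := (mem_autInducedBy_iff α).1 hα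
      have hgM : g ∈ M := ⟨hg, mem_normalizer_of_autInduced hge⟩
      obtain ⟨β, hβ, hβe⟩ := exists_conjAut (K := M) hgM (hMN g hgM)
      exact ⟨⟨β, hAutM hβ⟩, hβ, MulEquiv.ext fun x => Subtype.ext ((hβe _).trans (hge x).symm)⟩
  refine ⟨P2, hsymm, fullyAutomized_of_isSyl_aut hP2T ?_, hP2T, ?_⟩
  · obtain ⟨W, hW⟩ := hsyl.toSylow
    have h := (isSyl_sylow W).map ρ
    rw [hW, hρM, ← MonoidHom.range_eq_map, ← hautE] at h
    exact h
  -- receptivity
  intro P' φ hφ hr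
  obtain ⟨hφF, hP'T, -, ψ, hψ, hψe, k', hk', hψQ⟩ := (hE P').le hφ
  rw [← hT] at hP'T
  have hP'fin := finite_of_le (S := S) (hP'T.trans hTS)
  have hR'fin : Finite ↥(P' ⊔ Q) := finite_of_le (S := S) (sup_le (hP'T.trans hTS) hQS)
  have hψr : ψ.range = R2 := by
    refine le_antisymm ?_ (sup_le (fun y hy => ?_) fun y hy => ?_)
    · rintro _ ⟨x, rfl⟩
      exact apply_mem_of_sup ψ (fun u => Subgroup.mem_sup_left (by rw [hψe, ← hr]; exact ⟨u, rfl⟩))
        (fun q => Subgroup.mem_sup_right (by rw [hψQ]; exact (k' q).2)) x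
    · obtain ⟨u, rfl⟩ := hr.ge hy
      exact ⟨Subgroup.inclusion le_sup_left u, hψe u⟩
    · refine ⟨Subgroup.inclusion le_sup_right (k'⁻¹ ⟨y, hy⟩), ?_⟩
      rw [hψQ]
      exact congrArg Subtype.val (k'.apply_symm_apply ⟨y, hy⟩)
  set ε := mapEquiv F hψ hψr with hεdef
  set Dg : Subgroup Ω := extender T P' φ with hDg
  have hDT : Dg ≤ normalizerIn T P' := extender_le_normalizerIn φ
  have hDgN : ∀ g ∈ Dg, g ∈ Subgroup.normalizer ((P' ⊔ Q : Subgroup Ω) : Set Ω) := by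
    intro g hg
    obtain ⟨-, a, -, hag⟩ := (hT ▸ (hDT hg).1 : g ∈ kNorm S Q K)
    refine mem_normalizer_of_conj_mem_finite fun x hx => ?_
    have h1 : (P' ⊔ Q).map (MulAut.conj g).toMonoidHom ≤ P' ⊔ Q := by
      rw [Subgroup.map_sup]
      refine sup_le_sup ?_ ?_
      · rintro _ ⟨y, hy, rfl⟩; exact (Subgroup.mem_normalizer_iff.1 (hDT hg).2 y).1 hy
      · rintro _ ⟨y, hy, rfl⟩
        show g * y * g⁻¹ ∈ Q
        rw [show g * y * g⁻¹ = a ⟨y, hy⟩ from (hag ⟨y, hy⟩).symm]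
        exact (a _).2
    exact h1 (map_conj_apply_mem hx)
  set B : Subgroup (MulAut R2) := ((autInducedBy T P2).comap ρ).map A2.subtype with hBdef
  have hBM : autInducedBy M R2 ≤ B := fun β hβ =>
    ⟨⟨β, hAutM hβ⟩, show ρ _ ∈ autInducedBy T P2 from hρM.le ⟨_, hβ, rfl⟩, rfl⟩
  have hsylB : IsSyl p (autInducedBy M R2) B := by
    have hBA : B ≤ A2 := Subgroup.map_subtype_le _
    exact ⟨hBM, hMp, fun h => hsyl.2.2 (h.trans (by
      rw [← Subgroup.relIndex_mul_relIndex (autInducedBy M R2) B A2 hBM hBA]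
      exact dvd_mul_right _ _))⟩
  have hX : (autInducedBy Dg (P' ⊔ Q)).map (MulAut.congr ε).toMonoidHom ≤ B := by
    rintro _ ⟨β, hβ, rfl⟩
    obtain ⟨g, hg, hge⟩ := (mem_autInducedBy_iff β).1 hβ
    have hgS : g ∈ S := hTS (hDT hg).1
    obtain ⟨-, a, ha, hag⟩ := (hT ▸ (hDT hg).1 : g ∈ kNorm S Q K)
    have hA : MulAut.congr ε β ∈ A2 := by
      refine congr_kStab F (P := P') (sup_le (hP'T.trans hTS) hQS) hR2S le_sup_right hQR2 ε
        (equivHom_mapEquiv F hψ hψr) (equivHom_mapEquiv_symm F hψ hψr) (fun x => ⟨fun h => ?_, fun h => ?_⟩) hk' hψQ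
        ⟨autInducedBy_le_autGroup F (sup_le (hP'T.trans hTS) hQS)
          (autInducedBy_mono ((hDT.trans (normalizerIn_le T P')).trans hTS) hβ), fun x hx => ?_, a, ha, fun q => ?_⟩
      · obtain ⟨u, hu⟩ := hr.ge h
        have : x = Subgroup.inclusion le_sup_left u := F.injective_of_mem hψ (by rw [hψe]; exact hu.symm)
        rw [this]; exact u.2
      · rw [show x = Subgroup.inclusion le_sup_left ⟨(x : Ω), h⟩ from rfl, ← hr]
        exact ⟨⟨(x : Ω), h⟩, (hψe _).symm⟩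
      · rw [hge]; exact (Subgroup.mem_normalizer_iff.1 (hDT hg).2 x).1 hx
      · rw [hge, hag]; rfl
    refine ⟨⟨_, hA⟩, ?_, rfl⟩
    show ρ _ ∈ autInducedBy T P2
    obtain ⟨-, h, hhT, hhe⟩ := exists_of_mem_extender hg
    refine (mem_autInducedBy_iff _).2 ⟨h, hhT, fun y => ?_⟩
    obtain ⟨u, hu⟩ := hr.ge y.2
    show ((MulAut.congr ε β (Subgroup.inclusion le_sup_left y) : R2) : Ω) = _
    have hyu : Subgroup.inclusion le_sup_left y = ε (Subgroup.inclusion le_sup_left u) :=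
      Subtype.ext (hu.symm.trans (hψe u).symm)
    rw [congr_apply, hyu, ε.symm_apply_apply]
    have hmem := (Subgroup.mem_normalizer_iff.1 (hDT hg).2 (u : Ω)).1 u.2
    have hb : β (Subgroup.inclusion le_sup_left u) = Subgroup.inclusion le_sup_left ⟨_, hmem⟩ := Subtype.ext (hge _)
    rw [hb]
    show ψ _ = h * (y : Ω) * h⁻¹
    rw [hψe, hhe u hmem, hu]
  obtain ⟨b, hb, hbX⟩ := hsylB.exists_conj ((autInducedBy_isPGroup (isPGroup_of_le hTp
    (hDT.trans (normalizerIn_le T P')))).map _) hX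
  obtain ⟨bA, hbρ, rfl⟩ := hb
  obtain ⟨cm, hcm, hcmρ⟩ := hρM.ge hbρ
  set l : A2 := cm⁻¹ * bA with hldef
  have hlρ : ρ l = 1 := by rw [hldef, map_mul, map_inv, hcmρ, inv_mul_cancel]
  have hlX : ((autInducedBy Dg (P' ⊔ Q)).map (MulAut.congr ε).toMonoidHom).map
      (MulAut.conj (l : MulAut R2)).toMonoidHom ≤ autInducedBy M R2 := by
    rintro _ ⟨x, hx, rfl⟩
    have h1 := hbX ⟨x, hx, rfl⟩
    have hcm' : (cm : MulAut R2) ∈ autInducedBy M R2 := hcm
    have h2 := Subgroup.mul_mem _ (Subgroup.mul_mem _ (Subgroup.inv_mem _ hcm') h1) hcm'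
    simpa [hldef, mul_assoc] using h2
  obtain ⟨φl, hφl, -, hle⟩ := autGroup_apply_mem_hom F hR2S l.2.1
  obtain ⟨ψ', hψ', hψ'e⟩ := comp_hom_mem F hψ hφl fun x => hψr.le ⟨x, rfl⟩
  have hψ'v : ∀ x, ψ' x = (((l : MulAut R2) (ε x) : R2) : Ω) := fun x => by
    rw [hψ'e]; exact hle (ε x)
  have hr' : ψ'.range = R2 := by
    refine le_antisymm ?_ fun y hy => ?_
    · rintro _ ⟨x, rfl⟩; rw [hψ'v]; exact Subtype.prop _
    · obtain ⟨x, hx⟩ := ε.surjective ((l : MulAut R2).symm ⟨y, hy⟩)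
      exact ⟨x, by rw [hψ'v, hx, (l : MulAut R2).apply_symm_apply]⟩
  obtain ⟨χ, hχ, hχe⟩ := (fullyCentralized_receptive hS hF hR2C).2 _ ψ' hψ' hr'
  have hDext : Dg ⊔ Q ≤ extender S (P' ⊔ Q) ψ' := by
    refine sup_le (fun g hg => Subgroup.subset_closure ⟨hTS (hDT hg).1, hDgN g hg, ?_⟩)
      (le_sup_right.trans (le_extender F hψ'))
    obtain ⟨β, hβ, hβe⟩ := exists_conjAut (K := Dg) hg (hDgN g hg)
    obtain ⟨h, hh, hhe⟩ := (mem_autInducedBy_iff _).1 (hlX ⟨_, ⟨β, hβ, rfl⟩, rfl⟩)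
    refine ⟨h, hTS hh.1, fun x hx => ?_⟩
    rw [hψ'v, hψ'v, ← hhe, show (⟨_, hx⟩ : ↥(P' ⊔ Q)) = β x from Subtype.ext (hβe x).symm]
    simp [congr_apply, MulAut.conj_apply]
  obtain ⟨aQ, haQK, haQ⟩ := l.2.2.2
  set χ' := χ.comp (Subgroup.inclusion hDext)
  have hχ' : χ' ∈ F.Hom (Dg ⊔ Q) := restrict_mem F hχ hDext
  have hval : ∀ (x : Ω) (hx : x ∈ P' ⊔ Q) (hxD : x ∈ Dg ⊔ Q), χ' ⟨x, hxD⟩ = ψ' ⟨x, hx⟩ :=
    fun x hx hxD => hχe x hx _
  have hχ'Q : ∀ q : Q, χ' (Subgroup.inclusion le_sup_right q) = (aQ * k') q := by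
    intro q
    rw [show χ' (Subgroup.inclusion le_sup_right q) = ψ' (Subgroup.inclusion le_sup_right q) from
      hval q (Subgroup.mem_sup_right q.2) _, hψ'v, show ε (Subgroup.inclusion le_sup_right q) =
      Subgroup.inclusion hQR2 (k' q) from Subtype.ext (hψQ q), haQ]
    rfl
  have hDTS : ∀ x : Dg, χ' (Subgroup.inclusion le_sup_left x) ∈ kNorm S Q K := by
    intro x
    obtain ⟨-, a, ha, hag⟩ := (hT ▸ (hDT x.2).1 : (x : Ω) ∈ kNorm S Q K)
    refine ⟨hom_apply_mem F hχ' _, aQ * k' * a * (aQ * k')⁻¹,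
      K.mul_mem (K.mul_mem (K.mul_mem haQK hk') ha) (K.inv_mem (K.mul_mem haQK hk')), fun q => ?_⟩
    conv_rhs => rw [show (q : Ω) = (((aQ * k') ((aQ * k')⁻¹ q) : Q) : Ω) by
      rw [show (aQ * k') ((aQ * k')⁻¹ q) = q from (aQ * k').apply_symm_apply q], ← hχ'Q, ← map_inv, ← map_mul,
      ← map_mul, show Subgroup.inclusion le_sup_left x * Subgroup.inclusion le_sup_right ((aQ * k')⁻¹ q) *
        (Subgroup.inclusion le_sup_left x)⁻¹ = (Subgroup.inclusion le_sup_right (a ((aQ * k')⁻¹ q)) : ↥(Dg ⊔ Q)) from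
          Subtype.ext (hag _).symm, hχ'Q]
    rfl
  refine ⟨χ'.comp (Subgroup.inclusion le_sup_left), ?_, fun x hx hx' => ?_⟩
  · rw [hE]
    exact ⟨restrict_mem F hχ' le_sup_left, fun x hx => hT ▸ (hDT hx).1, hDTS, χ', hχ', fun x => rfl,
      aQ * k', K.mul_mem haQK hk', hχ'Q⟩
  · show χ' ⟨x, _⟩ = φ ⟨x, hx⟩
    rw [hval x (Subgroup.mem_sup_left hx), hψ'v]
    have h1 : ε (⟨x, Subgroup.mem_sup_left hx⟩ : ↥(P' ⊔ Q)) =
        Subgroup.inclusion le_sup_left (⟨φ ⟨x, hx⟩, hr.le ⟨_, rfl⟩⟩ : P2) := Subtype.ext (hψe ⟨x, hx⟩)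
    rw [h1]
    have h2 := congrArg (fun e : MulAut P2 => ((e ⟨φ ⟨x, hx⟩, hr.le ⟨_, rfl⟩⟩ : P2) : Ω)) hlρ
    exact h2

/-- Normalizer systems of fully normalized subgroups are saturated. -/
theorem normalizerSystem_saturated (hS : IsPGroup p S) {F : FusionSystem S} (hF : F.IsSaturated p) {Q : Subgroup Ω}
    (hQ : F.IsFullyNormalized Q) (E : FusionSystem (normalizerIn S Q)) (hE : F.IsNormalizerSystem Q E) :
    E.IsSaturated p := by
  have hQfin := finite_of_le (S := S) hQ.1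
  have hT : normalizerIn S Q = kNorm S Q ⊤ := by
    ext g
    refine ⟨fun hg => ⟨hg.1, ?_⟩, fun ⟨hg, a, _, ha⟩ => ⟨hg, mem_normalizer_of_autInduced ha⟩⟩
    obtain ⟨a, -, ha⟩ := exists_conjAut (K := S) hg.1 hg.2
    exact ⟨a, Subgroup.mem_top _, ha⟩
  refine kSystem_saturated hS hF (K := ⊤) ⟨hQ.1, fun Q' θ hθ => ?_⟩ hT E fun P => ?_
  · have hQ'S := hom_le F hθ
    obtain ⟨c, hc, -, hcQ⟩ := exists_normalizer_map_fullyNormalized hS hF hQ ⟨_, hθ, equivHom_range θ⟩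
    set e := mapEquiv F (restrict_mem F hc (le_normalizerIn hQ'S)) (extend_restrict_range _ hcQ)
    refine ⟨_, c, le_normalizerIn hQ'S, hc, fun g hgn hg => ⟨hg.1, hgn⟩, θ.symm.trans e, Subgroup.mem_top _,
      fun x => ?_⟩
    show _ = ((e (θ.symm (θ x)) : Q) : Ω)
    rw [θ.symm_apply_apply]
    rfl
  · rw [hE P]
    ext φ
    refine ⟨fun ⟨h1, h2, h3, ψ, hψ, h4, h5⟩ => ⟨h1, hT ▸ h2, fun x => hT ▸ h3 x, ψ, hψ, h4, ?_⟩,
      fun ⟨h1, h2, h3, ψ, hψ, h4, a, _, h5⟩ => ⟨h1, hT ▸ h2, fun x => hT ▸ h3 x, ψ, hψ, h4, ?_⟩⟩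
    · exact ⟨mapEquiv F (restrict_mem F hψ le_sup_right) (extend_restrict_range le_sup_right h5),
        Subgroup.mem_top _, fun q => rfl⟩
    · rw [map_subgroupOf_eq_iff _ le_sup_right]
      refine ⟨fun q => by rw [h5]; exact (a q).2, fun y hy => ⟨a.symm ⟨y, hy⟩, ?_⟩⟩
      rw [h5, a.apply_symm_apply]

/-- Centralizer systems of fully centralized subgroups are saturated. -/
theorem centralizerSystem_saturated (hS : IsPGroup p S) {F : FusionSystem S} (hF : F.IsSaturated p)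
    {Q : Subgroup Ω} (hQ : F.IsFullyCentralized Q) (E : FusionSystem (centralizerIn S Q))
    (hE : F.IsCentralizerSystem Q E) : E.IsSaturated p := by
  have hT : centralizerIn S Q = kNorm S Q ⊥ := by
    ext g
    refine ⟨fun hg => ⟨hg.1, 1, Subgroup.one_mem _, fun q => ?_⟩, fun ⟨hg, a, ha, hag⟩ => ⟨hg, fun q hq => ?_⟩⟩
    · rw [MulAut.one_apply, ← hg.2 q q.2, mul_inv_cancel_right]
    · have h := hag ⟨q, hq⟩
      rw [Subgroup.mem_bot.1 ha, MulAut.one_apply] at h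
      exact eq_mul_inv_iff_mul_eq.1 h
  refine kSystem_saturated hS hF (K := ⊥) ⟨hQ.1, fun Q' θ hθ => ?_⟩ hT E fun P => ?_
  · have hQ'S := hom_le F hθ
    obtain ⟨c, hc, hce⟩ := (fullyCentralized_receptive hS hF hQ).2 Q' _ hθ (equivHom_range θ)
    refine ⟨_, c, le_extender F hθ, hc, fun g hgn hg => centralizerIn_le_extender _ ⟨hg.1, fun x hx => ?_⟩,
      1, Subgroup.one_mem _, fun x => hce x x.2 _⟩
    obtain ⟨a, ha, hax⟩ := hg.2
    have h := hax ⟨x, hx⟩ ((Subgroup.mem_normalizer_iff.1 hgn x).1 hx)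
    rw [Subgroup.mem_bot.1 ha, MulAut.one_apply] at h
    exact eq_mul_inv_iff_mul_eq.1 (congrArg Subtype.val (θ.injective h))
  · rw [hE P]
    ext φ
    refine ⟨fun ⟨h1, h2, h3, ψ, hψ, h4, h5⟩ => ⟨h1, hT ▸ h2, fun x => hT ▸ h3 x, ψ, hψ, h4, 1,
      Subgroup.one_mem _, h5⟩, fun ⟨h1, h2, h3, ψ, hψ, h4, a, ha, h5⟩ => ⟨h1, hT ▸ h2, fun x => hT ▸ h3 x, ψ, hψ, h4,
        fun q => ?_⟩⟩
    rw [h5, Subgroup.mem_bot.1 ha]
    rfl

end Cfsg.Agent.FusionSys
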