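import Cfsg.Agent.Lib.Fusion.BisetTransfer
import Cfsg.Agent.Lib.Fusion.FactorLift
import Cfsg.Agent.Lib.Fusion.KNormalizer
import Cfsg.Agent.Lib.Fusion.Abelian

/-!
# Criteria for a saturated system to be inner
-/

set_option autoImplicit false

namespace Cfsg.Agent.FusionSys

open Cfsg Cfsg.FusionSystem

variable {Ω : Type*} [Group Ω] {S : Subgroup Ω} [Finite S] {p : ℕ} [hp : Fact p.Prime] {F : FusionSystem S}

omit hp in
theorem fullyNormalized_of_normal {P : Subgroup Ω} (hP : P ≤ S) (hn : S ≤ Subgroup.normalizer (P : Set Ω)) :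
    F.IsFullyNormalized P := by
  refine ⟨hP, fun Q _ => ?_⟩
  have := finite_of_le (S := S) (normalizerIn_le S P)
  exact Subgroup.card_le_of_le (le_inf (normalizerIn_le S Q) ((normalizerIn_le S Q).trans hn))

/-- If `S' ≤ T`, `T` is strongly closed and all automorphisms of `S` are inner, every map is trivial mod `T`. -/
theorem trivial_mod (hS : IsPGroup p S) (hF : F.IsSaturated p) {T : Subgroup Ω} (hT : F.StronglyClosed T)
    (hST : ⁅S, S⁆ ≤ T) (hin : ∀ φ ∈ F.Hom S, ∃ g ∈ S, ∀ x : S, φ x = g * (x : Ω) * g⁻¹)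
    {P : Subgroup Ω} {φ : P →* Ω} (hφ : φ ∈ F.Hom P) (x : P) : (x : Ω)⁻¹ * φ x ∈ T := by
  have hcomm : ∀ g ∈ S, ∀ y ∈ S, y⁻¹ * (g * y * g⁻¹) ∈ T := fun g hg y hy => by
    have h := hST (Subgroup.commutator_mem_commutator (S.inv_mem hy) hg)
    simpa [commutatorElement_def, mul_assoc] using h
  obtain ⟨ψ, hψ, hψe⟩ := exists_lift_mod hS hF hT hφ
  have hPS := hom_le F hφ
  have hWS : P ⊔ T ≤ S := sup_le hPS hT.1
  have := finite_of_le (S := S) hWS
  have hWn : S ≤ Subgroup.normalizer ((P ⊔ T : Subgroup Ω) : Set Ω) := fun g hg =>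
    mem_normalizer_of_conj_mem_finite fun y hy => by
      have h := Subgroup.mul_mem (P ⊔ T) hy (Subgroup.mem_sup_right (hcomm g hg y (hWS hy)))
      simpa using h
  have hWN : F.IsFullyNormalized (P ⊔ T) := fullyNormalized_of_normal hWS hWn
  have hSN : S ≤ normalizerIn S (P ⊔ T) := le_inf le_rfl hWn
  -- the image is `P ⊔ T` itself
  obtain ⟨χ, hχ, -, hχW⟩ := exists_normalizer_map_fullyNormalized hS hF hWN (isConj_symm ⟨ψ, hψ, rfl⟩)
  have hψr : ψ.range = P ⊔ T := by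
    have hTr : T ≤ ψ.range := fun y hy => by
      obtain ⟨t, ht, he⟩ := exists_preimage_stronglyClosed hT hψ le_sup_right hy
      exact ⟨_, he⟩
    have hrS := range_le F hψ
    have hRn : S ≤ Subgroup.normalizer (ψ.range : Set Ω) := fun g hg => by
      haveI := finite_of_le (S := S) hrS
      refine mem_normalizer_of_conj_mem_finite fun y hy => ?_
      have h := Subgroup.mul_mem ψ.range hy (hTr (hcomm g hg y (hrS hy)))
      simpa using h
    have hle : S ≤ normalizerIn S ψ.range := le_inf le_rfl hRn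
    obtain ⟨g, hg, hge⟩ := hin _ (restrict_mem F hχ hle)
    have hc : ψ.range ≤ P ⊔ T := by
      intro y hy
      have h1 : χ ⟨y, hle (hrS hy)⟩ ∈ P ⊔ T := hχW.le ⟨⟨y, hle (hrS hy)⟩, hy, rfl⟩
      have h2 : χ ⟨y, hle (hrS hy)⟩ = g * y * g⁻¹ := hge ⟨y, hrS hy⟩
      rw [h2] at h1
      exact (Subgroup.mem_normalizer_iff.1 (hWn hg) y).2 h1
    exact Subgroup.eq_of_le_of_card_ge hc (isConj_card ⟨ψ, hψ, rfl⟩).le
  obtain ⟨β, hβ, hβe⟩ := exists_autGroup_of_range F hψ hψr
  suffices h : ∀ y : ↥(P ⊔ T), (y : Ω)⁻¹ * ((β y : ↥(P ⊔ T)) : Ω) ∈ T by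
    have h1 := T.mul_mem (h (Subgroup.inclusion le_sup_left x)) (T.inv_mem (hψe x))
    rw [hβe] at h1
    simpa [mul_assoc] using h1
  let K : Subgroup (MulAut (P ⊔ T : Subgroup Ω)) :=
    { carrier := {γ | γ ∈ F.autGroup (P ⊔ T : Subgroup Ω) ∧ ∀ y : (P ⊔ T : Subgroup Ω), (y : Ω)⁻¹ * ((γ y : (P ⊔ T : Subgroup Ω)) : Ω) ∈ T}
      one_mem' := ⟨Subgroup.one_mem _, fun y => by
        show (y : Ω)⁻¹ * (y : Ω) ∈ T
        rw [inv_mul_cancel]; exact T.one_mem⟩
      mul_mem' := fun {γ δ} hγ hδ => ⟨Subgroup.mul_mem _ hγ.1 hδ.1, fun y => by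
        have h1 := T.mul_mem (hδ.2 y) (hγ.2 (δ y))
        rw [show ((y : Ω)⁻¹ * ((δ y : (P ⊔ T : Subgroup Ω)) : Ω)) * (((δ y : (P ⊔ T : Subgroup Ω)) : Ω)⁻¹ * ((γ (δ y) : (P ⊔ T : Subgroup Ω)) : Ω)) =
          (y : Ω)⁻¹ * ((γ (δ y) : (P ⊔ T : Subgroup Ω)) : Ω) by group] at h1
        exact h1⟩
      inv_mem' := fun {γ} hγ => ⟨Subgroup.inv_mem _ hγ.1, fun y => by
        have h1 := T.inv_mem (hγ.2 (γ⁻¹ y))
        rw [show γ (γ⁻¹ y) = y from γ.apply_symm_apply y, mul_inv_rev, inv_inv] at h1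
        exact h1⟩ }
  have hSK : autInducedBy S (P ⊔ T : Subgroup Ω) ≤ K := fun γ hγ => ⟨autInducedBy_le_autGroup F hWS hγ, fun y => by
    obtain ⟨g, hg, hge⟩ := (mem_autInducedBy_iff γ).1 hγ
    rw [hge]
    exact hcomm g hg y (hWS y.2)⟩
  have hsyl : IsSyl p (autInducedBy S (P ⊔ T : Subgroup Ω)) K := by
    have h := isSyl_of_fullyAutomized (fullyNormalized_imp hS hF hWN).2
    refine ⟨hSK, h.2.1, fun hd => h.2.2 (hd.trans ?_)⟩
    rw [← Subgroup.relIndex_mul_relIndex (autInducedBy S (P ⊔ T : Subgroup Ω)) K (F.autGroup (P ⊔ T : Subgroup Ω)) hSK fun γ hγ => hγ.1]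
    exact dvd_mul_right _ _
  obtain ⟨k, hk, hkS⟩ := hsyl.exists_conj (X := (autInducedBy S (P ⊔ T : Subgroup Ω)).map (MulAut.conj β).toMonoidHom)
    (hsyl.2.1.map _) (by
      rintro _ ⟨γ, hγ, rfl⟩
      refine ⟨Subgroup.mul_mem _ (Subgroup.mul_mem _ hβ (autInducedBy_le_autGroup F hWS hγ))
        (Subgroup.inv_mem _ hβ), fun y => ?_⟩
      obtain ⟨φβ, hφβ, -, heβ⟩ := autGroup_apply_mem_hom F hWS hβ
      have h1 : φβ ((β⁻¹ y)⁻¹ * γ (β⁻¹ y)) ∈ T :=
        stronglyClosed_apply_mem hT hφβ _ ((hSK hγ).2 (β⁻¹ y))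
      rw [heβ, map_mul, map_inv, show β (β⁻¹ y) = y from β.apply_symm_apply y] at h1
      exact h1)
  obtain ⟨φk, hφk, hrk, hek⟩ := autGroup_apply_mem_hom F hWS (Subgroup.mul_mem _ hk.1 hβ)
  obtain ⟨ω, hω, hωe⟩ := (fullyNormalized_receptive hS hF hWN).2 (P ⊔ T : Subgroup Ω) φk hφk hrk
  have hext : S ≤ extender S (P ⊔ T : Subgroup Ω) φk := fun g hg => by
    obtain ⟨c, hc, hce⟩ := exists_conjAut (K := S) hg (hWn hg)
    obtain ⟨h, hh, hhe⟩ := (mem_autInducedBy_iff _).1 (hkS ⟨_, ⟨c, hc, rfl⟩, rfl⟩)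
    refine Subgroup.subset_closure ⟨hg, hWn hg, h, hh, fun y hy => ?_⟩
    rw [hek, hek, ← hhe, show (⟨_, hy⟩ : (P ⊔ T : Subgroup Ω)) = c y from Subtype.ext (hce y).symm]
    simp [MulAut.conj_apply]
  obtain ⟨g, hg, hge⟩ := hin _ (restrict_mem F hω hext)
  intro y
  have h1 : g * (y : Ω) * g⁻¹ = ((k (β y) : (P ⊔ T : Subgroup Ω)) : Ω) := by
    rw [← MulAut.mul_apply, ← hek]
    exact (hge ⟨y, hWS y.2⟩).symm.trans (hωe y y.2 _)
  have h2 := hk.2 (β y)
  rw [← h1] at h2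
  have h3 := T.mul_mem (hcomm g hg y (hWS y.2)) (T.inv_mem h2)
  simpa [mul_assoc] using h3

omit hp in
theorem inner_autGroup_le {P : Subgroup Ω} : (innerFusionSystem S).autGroup P ≤ autInducedBy S P := by
  refine (Subgroup.closure_le _).2 fun α hα => ?_
  obtain ⟨-, g, hg, he⟩ := hα
  exact (mem_autInducedBy_iff α).2 ⟨g, hg, he⟩

/-- If maps are trivial modulo `Φ(S)`, the system is inner. -/
theorem eq_inner_of_frattini (hS : IsPGroup p S) (hF : F.IsSaturated p)
    (h : ∀ (P : Subgroup Ω) (φ : P →* Ω), φ ∈ F.Hom P → ∀ x : P, (x : Ω)⁻¹ * φ x ∈ (frattini S).map S.subtype) :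
    F = innerFusionSystem S := by
  have hhyp : (innerFusionSystem S).hyperfocalSubgroup p = ⊥ := by
    refine le_bot_iff.1 ((Subgroup.closure_le _).2 ?_)
    rintro _ ⟨P, α, x, hP, hα, rfl⟩
    have hA : IsPGroup p ((innerFusionSystem S).autGroup P) := (autInducedBy_isPGroup hS).to_le inner_autGroup_le
    haveI := finite_of_le (S := S) hP
    have hone : α = 1 := by
      have hle : pResidual p ((innerFusionSystem S).autGroup P) ≤ ⊥ := by
        refine (Subgroup.closure_le _).2 fun β hβ => ?_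
        obtain ⟨k, hk⟩ := IsPGroup.iff_orderOf.1 hA β
        have hβ' : Nat.Coprime (orderOf β) p := hβ
        rw [hk] at hβ'
        rcases Nat.eq_zero_or_pos k with hk0 | hk0
        · rw [hk0, pow_zero] at hk
          exact orderOf_eq_one_iff.1 hk
        · exact absurd ((Nat.coprime_pow_left_iff hk0 p p).1 hβ') (fun h =>
            hp.out.one_lt.ne' ((Nat.coprime_self p).1 h))
      exact Subgroup.mem_bot.1 (hle hα)
    rw [hone]
    show (x : Ω)⁻¹ * (x : Ω) ∈ ((⊥ : Subgroup Ω) : Set Ω)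
    rw [inv_mul_cancel]
    exact Subgroup.one_mem _
  have hF' : F.hyperfocalSubgroup p = ⊥ := by
    refine (hyperfocal_eq_of_frattini hS hF (E := innerFusionSystem S) (innerFusionSystem_le F) ?_).trans hhyp
    refine le_trans ((Subgroup.closure_le _).2 ?_) le_sup_left
    rintro _ ⟨P, α, x, hP, -, rfl⟩
    exact h P _ ((mem_autGroup_iff F hP _).1 α.2) x
  refine eq_inner_of_autGroup_isPGroup hS hF fun P hP α => ?_
  haveI := finite_of_le (S := S) hP
  have hone : orderOf α ≠ 0 := (orderOf_pos α).ne'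
  refine ⟨(orderOf α).factorization p, ?_⟩
  have hmem : α ^ p ^ (orderOf α).factorization p ∈ pResidual p (F.autGroup P) := by
    refine Subgroup.subset_closure ?_
    show Nat.Coprime (orderOf _) p
    rw [orderOf_pow_of_dvd (pow_ne_zero _ hp.out.ne_zero) (Nat.ordProj_dvd _ _)]
    exact (Nat.coprime_ordCompl hp.out hone).symm
  refine Subtype.ext (MulEquiv.ext fun x => Subtype.ext ?_)
  have h1 := hyperfocal_mem hP hmem x
  rw [hF', Subgroup.mem_bot, inv_mul_eq_one] at h1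
  exact h1.symm

/-- `N_F(S)` inner means all maps on `S` are inner. -/
theorem inner_top_of_normalizer
    (hN : ∀ N : FusionSystem (normalizerIn S S), F.IsNormalizerSystem S N →
      ∀ P : Subgroup Ω, N.Hom P = (innerFusionSystem (normalizerIn S S)).Hom P) :
    ∀ φ ∈ F.Hom S, ∃ g ∈ S, ∀ x : S, φ x = g * (x : Ω) * g⁻¹ := by
  intro φ hφ
  have hr : φ.range = S := Subgroup.eq_of_le_of_card_ge (range_le F hφ) (isConj_card ⟨φ, hφ, rfl⟩).le
  have hSN : S ≤ normalizerIn S S := le_normalizerIn le_rfl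
  have hmem : φ ∈ (normSystem F (le_refl S)).Hom S := by
    refine ⟨hφ, hSN, fun x => hSN (hom_apply_mem F hφ x), φ.comp (Subgroup.inclusion (sup_le le_rfl le_rfl)),
      restrict_mem F hφ _, fun x => rfl, ?_⟩
    rw [map_subgroupOf_eq_iff _ le_sup_right]
    refine ⟨fun x => hom_apply_mem F hφ _, fun y hy => ?_⟩
    obtain ⟨x, hx⟩ := hr.ge hy
    exact ⟨x, hx⟩
  rw [hN _ (normSystem_spec F _) S] at hmem
  obtain ⟨-, g, hg, hge⟩ := hmem
  exact ⟨g, hg.1, hge⟩

theorem commutator_le_frattini_map (hS : IsPGroup p S) : ⁅S, S⁆ ≤ (frattini S).map S.subtype := by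
  haveI : Group.IsNilpotent S := hS.isNilpotent
  rw [← Subgroup.map_subtype_commutator]
  exact Subgroup.map_mono (Cfsg.Agent.SolvStruct.commutator_le_frattini S)

/-- `F` is inner iff `N_F(S)` is inner and `Φ(S)` is strongly closed. -/
theorem inner_iff_frattini (hS : IsPGroup p S) (hF : F.IsSaturated p) :
    (∀ P : Subgroup Ω, F.Hom P = (innerFusionSystem S).Hom P) ↔
      (∀ N : FusionSystem (normalizerIn S S), F.IsNormalizerSystem S N →
        ∀ P : Subgroup Ω, N.Hom P = (innerFusionSystem (normalizerIn S S)).Hom P) ∧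
      F.StronglyClosed ((frattini S).map S.subtype) := by
  constructor
  · intro h
    refine ⟨fun N hN P => Set.Subset.antisymm (fun φ hφ => ?_) fun φ hφ => ?_, Subgroup.map_subtype_le _,
      fun R hR φ hφ x => ?_⟩
    · rw [hN P] at hφ
      obtain ⟨hφF, hP, -, -⟩ := hφ
      rw [h P] at hφF
      obtain ⟨-, g, hg, hge⟩ := hφF
      exact ⟨hP, g, le_normalizerIn le_rfl hg, hge⟩
    · haveI := finite_of_le (S := S) (normalizerIn_le S S)
      exact innerFusionSystem_le N P hφ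
    · rw [h R] at hφ
      obtain ⟨-, g, hg, hge⟩ := hφ
      rw [hge]
      obtain ⟨y, hy, hye⟩ := hR x.2
      refine ⟨⟨g, hg⟩ * y * ⟨g, hg⟩⁻¹, ?_, ?_⟩
      · exact (inferInstance : (frattini S).Normal).conj_mem y hy _
      · rw [← hye]; rfl
  · rintro ⟨hN, hT⟩ P
    rw [eq_inner_of_frattini hS hF fun P φ hφ x => trivial_mod hS hF hT (commutator_le_frattini_map hS)
      (inner_top_of_normalizer hN) hφ x]

/-- If `N_F(S)` is inner, so is `N_F(Q)` for `S' ≤ Q ≤ Φ(S)`. -/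
theorem normalizer_inner_of_frattini (hS : IsPGroup p S) (hF : F.IsSaturated p)
    (hN : ∀ N : FusionSystem (normalizerIn S S), F.IsNormalizerSystem S N →
      ∀ P : Subgroup Ω, N.Hom P = (innerFusionSystem (normalizerIn S S)).Hom P)
    {Q : Subgroup Ω} (h1 : (commutator S).map S.subtype ≤ Q) (h2 : Q ≤ (frattini S).map S.subtype)
    (N : FusionSystem (normalizerIn S Q)) (hNQ : F.IsNormalizerSystem Q N) (P : Subgroup Ω) :
    N.Hom P = (innerFusionSystem (normalizerIn S Q)).Hom P := by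
  have hQS : Q ≤ S := h2.trans (Subgroup.map_subtype_le _)
  rw [Subgroup.map_subtype_commutator] at h1
  haveI := finite_of_le (S := S) hQS
  have hn : S ≤ Subgroup.normalizer (Q : Set Ω) := fun g hg =>
    mem_normalizer_of_conj_mem_finite fun y hy => by
      have h := Q.mul_mem (h1 (Subgroup.commutator_mem_commutator hg (hQS hy))) hy
      simpa [commutatorElement_def] using h
  have hsat := normalizerSystem_saturated hS hF (fullyNormalized_of_normal hQS hn) N hNQ
  have key : ∀ (U : Subgroup Ω) (N : FusionSystem U), U = S → N.IsSaturated p →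
      (∀ P, N.Hom P = F.normalizerHom Q P) → N = innerFusionSystem U := by
    rintro U N rfl hsat hspec
    refine eq_inner_of_frattini hS hsat fun R φ hφ x => h2 ?_
    refine trivial_mod hS hsat ⟨hQS, fun R hR φ hφ x => ?_⟩ h1 (fun φ hφ => ?_) hφ x
    · rw [hspec] at hφ
      obtain ⟨-, -, -, ψ, hψ, he, hq⟩ := hφ
      rw [← he]
      exact hq.le ⟨_, hR x.2, rfl⟩
    · rw [hspec] at hφ
      exact inner_top_of_normalizer hN φ hφ.1
  rw [key _ N (le_antisymm (normalizerIn_le S Q) (le_inf le_rfl hn)) hsat hNQ]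

end Cfsg.Agent.FusionSys
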