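import Cfsg.Agent.Lib.Fusion.SaturationCriterion
import Cfsg.Agent.Lib.Fusion.Local
import Cfsg.Agent.Lib.Fusion.KNormalizer
import Cfsg.Agent.Lib.Fusion.Normal

/-!
# Images of saturated systems under surjective morphisms are saturated
-/

set_option autoImplicit false

namespace Cfsg.Agent.FusionSys

open Cfsg Cfsg.FusionSystem

variable {Ω : Type*} [Group Ω] {S : Subgroup Ω} [Finite S] {p : ℕ} [hp : Fact p.Prime] {F : FusionSystem S}
  {Ω' : Type*} [Group Ω'] {S' : Subgroup Ω'} {F' : FusionSystem S'} {α : S →* Ω'}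

theorem saturated_of_surjectiveMorphism (hS : IsPGroup p S) (hF : F.IsSaturated p)
    (hα : F.IsSurjectiveMorphism F' α) : F'.IsSaturated p := by
  obtain ⟨⟨-, hmor⟩, hrange, hlift⟩ := hα
  haveI : Finite S' := by rw [← hrange]; exact Finite.of_surjective α.rangeRestrict α.rangeRestrict_surjective
  have hS' : IsPGroup p S' := by rw [← hrange]; exact hS.of_surjective α.rangeRestrict α.rangeRestrict_surjective
  set K : Subgroup Ω := α.ker.map S.subtype with hKdef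
  have hKS : K ≤ S := Subgroup.map_subtype_le _
  have hK : ∀ s : S, α s = 1 ↔ (s : Ω) ∈ K := fun s => by
    refine ⟨fun h => ⟨s, h, rfl⟩, ?_⟩
    rintro ⟨t, ht, hte⟩
    exact Subtype.ext hte ▸ ht
  have hKc : ∀ {P : Subgroup Ω} {φ : P →* Ω}, φ ∈ F.Hom P → ∀ x : P, (x : Ω) ∈ K → φ x ∈ K := by
    intro P φ hφ x hx
    obtain ⟨φ', -, hP, hφS, hm, he⟩ := hmor P φ hφ
    have h1 := he x
    have h2 : (⟨α ⟨x, hP x.2⟩, hm x⟩ : imageAlong α P) = 1 := Subtype.ext ((hK ⟨x, hP x.2⟩).2 hx)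
    rw [h2, map_one] at h1
    exact (hK ⟨φ x, hφS x⟩).1 h1.symm
  have hpre : ∀ {P' : Subgroup Ω'} (s : S), (s : Ω) ∈ preimageAlong α P' ↔ α s ∈ P' := fun {P'} s =>
    ⟨fun h => ((mem_preimageAlong α P' _).1 h).2, fun h => (mem_preimageAlong α P' _).2 ⟨s.2, h⟩⟩
  have hKpre : ∀ P' : Subgroup Ω', K ≤ preimageAlong α P' := fun P' x hx =>
    (hpre ⟨x, hKS hx⟩).2 ((hK ⟨x, hKS hx⟩).2 hx ▸ P'.one_mem)
  -- a lift of a map of the image, with range the preimage of the range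
  have hliftr : ∀ {P' : Subgroup Ω'} {φ' : P' →* Ω'}, φ' ∈ F'.Hom P' →
      ∃ φ ∈ F.Hom (preimageAlong α P'), φ.range = preimageAlong α φ'.range ∧
        ∀ (x : preimageAlong α P') (hx : (x : Ω) ∈ S) (hφx : φ x ∈ S) (hm : α ⟨x, hx⟩ ∈ P'),
          φ' ⟨α ⟨x, hx⟩, hm⟩ = α ⟨φ x, hφx⟩ := by
    intro P' φ' hφ'
    have hP' := hom_le F' hφ'
    obtain ⟨φ, hφ, hP, hφS, hm, he⟩ := hlift P' hP' φ' hφ'
    refine ⟨φ, hφ, le_antisymm ?_ ?_, fun x hx hφx hmx => he x⟩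
    · rintro _ ⟨x, rfl⟩
      exact (hpre ⟨φ x, hφS x⟩).2 ⟨_, he x⟩
    · intro y hy
      obtain ⟨hyS, ⟨z, hz⟩, hze⟩ := (mem_preimageAlong α _ _).1 hy
      obtain ⟨s, rfl⟩ := hrange.ge (hP' hz)
      set x : preimageAlong α P' := ⟨s, (hpre s).2 hz⟩
      have h1 : α (⟨φ x, hφS x⟩⁻¹ * ⟨y, hyS⟩) = 1 := by
        rw [map_mul, map_inv, ← he x, show (⟨α ⟨x, hP x.2⟩, hm x⟩ : P') = ⟨α s, hz⟩ from rfl, hze, inv_mul_cancel]
      haveI := finite_of_le (S := S) hKS
      haveI := finite_of_le (S := S) (le_preimageAlong α P')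
      obtain ⟨k, hk, hke⟩ := exists_preimage_of_card_le F hφ (hKpre P') hKS (fun k hk => hKc hφ ⟨k, hKpre P' hk⟩ hk)
        le_rfl _ ((hK _).1 h1)
      exact ⟨x * ⟨k, hKpre P' hk⟩, by rw [map_mul, hke]; exact mul_inv_cancel_left _ _⟩
  have hpreimg : ∀ {R : Subgroup Ω}, R ≤ S → K ≤ R → preimageAlong α (imageAlong α R) = R := by
    intro R hRS hKR
    refine le_antisymm (fun x hx => ?_) fun x hx => (hpre ⟨x, hRS hx⟩).2 ⟨⟨x, hRS hx⟩, hx, rfl⟩
    obtain ⟨hxS, s, hs, hse⟩ := (mem_preimageAlong α _ _).1 hx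
    have h1 : α (s⁻¹ * ⟨x, hxS⟩) = 1 := by rw [map_mul, map_inv, hse, inv_mul_cancel]
    simpa using R.mul_mem (show (s : Ω) ∈ R from hs) (hKR ((hK _).1 h1))
  have hnorm : ∀ {P' : Subgroup Ω'}, P' ≤ S' → ∀ s : S,
      (s : Ω) ∈ normalizerIn S (preimageAlong α P') ↔ α s ∈ normalizerIn S' P' := by
    intro P' hP' s
    haveI := finite_of_le (S := S) (le_preimageAlong α P')
    haveI := finite_of_le (S := S') hP'
    constructor
    · intro hs
      refine ⟨hrange.le ⟨s, rfl⟩, mem_normalizer_of_conj_mem_finite fun y hy => ?_⟩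
      obtain ⟨t, rfl⟩ := hrange.ge (hP' hy)
      rw [← map_inv, ← map_mul, ← map_mul, ← hpre]
      exact (Subgroup.mem_normalizer_iff.1 hs.2 t).1 ((hpre t).2 hy)
    · intro hs
      refine ⟨s.2, mem_normalizer_of_conj_mem_finite fun y hy => ?_⟩
      refine (hpre (s * ⟨y, le_preimageAlong α P' hy⟩ * s⁻¹)).2 ?_
      rw [map_mul, map_mul, map_inv]
      exact (Subgroup.mem_normalizer_iff.1 hs.2 _).1 ((hpre ⟨y, le_preimageAlong α P' hy⟩).1 hy)
  have hcard : ∀ {P' : Subgroup Ω'}, P' ≤ S' →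
      Nat.card (normalizerIn S (preimageAlong α P')) = Nat.card α.ker * Nat.card (normalizerIn S' P') := by
    intro P' hP'
    have hs : Function.Surjective (α.subgroupComap (normalizerIn S' P')) := fun ⟨y, hy⟩ => by
      obtain ⟨x, rfl⟩ := hrange.ge (normalizerIn_le S' P' hy)
      exact ⟨⟨x, hy⟩, rfl⟩
    have he : normalizerIn S (preimageAlong α P') = ((normalizerIn S' P').comap α).map S.subtype := by
      ext x
      constructor
      · intro hx; exact ⟨⟨x, hx.1⟩, (hnorm hP' ⟨x, hx.1⟩).1 hx, rfl⟩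
      · rintro ⟨y, hy, rfl⟩; exact (hnorm hP' y).2 hy
    rw [he, Subgroup.card_map_of_injective S.subtype_injective,
      Subgroup.card_eq_card_quotient_mul_card_subgroup (α.subgroupComap (normalizerIn S' P')).ker,
      Nat.card_congr (QuotientGroup.quotientKerEquivOfSurjective _ hs).toEquiv, mul_comm]
    congr 1
    have hle : α.ker ≤ (normalizerIn S' P').comap α := fun x hx => by
      show α x ∈ normalizerIn S' P'
      rw [hx]; exact Subgroup.one_mem _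
    refine (Nat.card_congr ?_).trans (Nat.card_congr (Subgroup.subgroupOfEquivOfLe hle).toEquiv)
    exact Equiv.subtypeEquivRight fun x => ⟨fun h => congrArg Subtype.val h, fun h => Subtype.ext h⟩
  refine (isSaturated_iff_receptive hS' F').2 ⟨⟨le_rfl, ?_⟩, fun P' hP' => ⟨hP'.1, fun R' φ' hφ' hr' => ?_⟩⟩
  · -- the Sylow condition at the top
    have htop : preimageAlong α S' = S := le_antisymm (le_preimageAlong α S')
      fun x hx => (hpre ⟨x, hx⟩).2 (hrange.le ⟨_, rfl⟩)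
    set A := F.autGroup S
    set A' := F'.autGroup S'
    have hex : ∀ a : A, ∃ a' : A', ∀ s : S,
        (((a' : MulAut S') ⟨α s, hrange.le ⟨s, rfl⟩⟩ : S') : Ω') = α ((a : MulAut S) s) := fun a => by
      obtain ⟨φ', hφ', hS0, hφS, hm, he⟩ := hmor S _ ((mem_autGroup_iff F le_rfl _).1 a.2)
      have himg : S' ≤ imageAlong α S := fun y hy => by
        obtain ⟨s, rfl⟩ := hrange.ge hy
        exact ⟨s, s.2, rfl⟩
      have hφ'' := restrict_mem F' hφ' himg
      obtain ⟨b, hb, hbe⟩ := exists_autGroup_of_range F' hφ''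
        (Subgroup.eq_of_le_of_card_ge (range_le F' hφ'') (isConj_card ⟨_, hφ'', rfl⟩).le)
      exact ⟨⟨b, hb⟩, fun s => (hbe _).trans (he s)⟩
    choose g hg using hex
    let G : A →* A' := MonoidHom.mk' g fun a b => by
      refine Subtype.ext (MulEquiv.ext fun z => ?_)
      obtain ⟨s, hs⟩ := hrange.ge z.2
      obtain rfl : (⟨α s, hrange.le ⟨s, rfl⟩⟩ : S') = z := Subtype.ext hs
      refine Subtype.ext ((hg (a * b) s).trans ?_)
      show _ = (((g a : MulAut S') ((g b : MulAut S') _) : S') : Ω')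
      rw [show (g b : MulAut S') ⟨α s, hrange.le ⟨s, rfl⟩⟩ =
        ⟨α ((b : MulAut S) s), hrange.le ⟨_, rfl⟩⟩ from Subtype.ext (hg b s), hg a]
      rfl
    have hG : Function.Surjective G := fun a' => by
      obtain ⟨φ, hφ, hφr, hφe⟩ := hliftr ((mem_autGroup_iff F' le_rfl _).1 a'.2)
      have hφS := restrict_mem F hφ htop.ge
      obtain ⟨b, hb, hbe⟩ := exists_autGroup_of_range F hφS
        (Subgroup.eq_of_le_of_card_ge (range_le F hφS) (isConj_card ⟨_, hφS, rfl⟩).le)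
      refine ⟨⟨b, hb⟩, Subtype.ext (MulEquiv.ext fun z => ?_)⟩
      obtain ⟨s, hs⟩ := hrange.ge z.2
      obtain rfl : (⟨α s, hrange.le ⟨s, rfl⟩⟩ : S') = z := Subtype.ext hs
      refine Subtype.ext ((hg ⟨b, hb⟩ s).trans ?_)
      refine Eq.trans ?_ (hφe (Subgroup.inclusion htop.ge s) s.2 (hom_apply_mem F hφ _) (hrange.le ⟨_, rfl⟩)).symm
      exact congrArg α (Subtype.ext (hbe s))
    obtain ⟨R, hR⟩ := (fullyNormalized_imp hS hF (show F.IsFullyNormalized S from ⟨le_rfl, fun Q _ => by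
      haveI := finite_of_le (normalizerIn_le S S)
      exact Subgroup.card_le_of_le (le_inf (normalizerIn_le S Q) ((normalizerIn_le S Q).trans Subgroup.le_normalizer))⟩)).2.2
    refine ⟨R.mapSurjective hG, ?_⟩
    rw [Sylow.coe_mapSurjective, hR]
    ext a'
    constructor
    · rintro ⟨a, ha, rfl⟩
      obtain ⟨u, hu, hue⟩ := (mem_autInducedBy_iff _).1 (Subgroup.mem_subgroupOf.1 ha)
      refine Subgroup.mem_subgroupOf.2 ((mem_autInducedBy_iff _).2 ⟨α ⟨u, hu⟩, hrange.le ⟨_, rfl⟩, fun z => ?_⟩)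
      obtain ⟨s, hs⟩ := hrange.ge z.2
      obtain rfl : (⟨α s, hrange.le ⟨s, rfl⟩⟩ : S') = z := Subtype.ext hs
      refine (hg a s).trans ?_
      show _ = α ⟨u, hu⟩ * α s * (α ⟨u, hu⟩)⁻¹
      rw [← map_inv, ← map_mul, ← map_mul]
      exact congrArg α (Subtype.ext (hue s))
    · intro ha'
      obtain ⟨u', hu', hue⟩ := (mem_autInducedBy_iff _).1 (Subgroup.mem_subgroupOf.1 ha')
      obtain ⟨u, rfl⟩ := hrange.ge hu'
      obtain ⟨c, hc, hce⟩ := exists_conjAut (K := S) (P := S) u.2 (Subgroup.le_normalizer u.2)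
      refine ⟨⟨c, autInducedBy_le_autGroup F le_rfl hc⟩, Subgroup.mem_subgroupOf.2 hc, Subtype.ext (MulEquiv.ext fun z => ?_)⟩
      obtain ⟨s, hs⟩ := hrange.ge z.2
      obtain rfl : (⟨α s, hrange.le ⟨s, rfl⟩⟩ : S') = z := Subtype.ext hs
      refine Subtype.ext ((hg _ s).trans ?_)
      rw [hue]
      show _ = α u * α s * (α u)⁻¹
      rw [← map_inv, ← map_mul, ← map_mul]
      exact congrArg α (Subtype.ext (hce s))
  · -- receptivity
    have hR'S := hom_le F' hφ'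
    set P := preimageAlong α P' with hPdef
    set R := preimageAlong α R' with hRdef
    have hPS : P ≤ S := le_preimageAlong α P'
    have hRS : R ≤ S := le_preimageAlong α R'
    haveI := finite_of_le (S := S) hPS
    have hPn : F.IsFullyNormalized P := by
      refine ⟨hPS, ?_⟩
      rintro Q ⟨ψ, hψ, rfl⟩
      have hKQ : K ≤ ψ.range := fun k hk => by
        haveI := finite_of_le (S := S) hKS
        obtain ⟨x, hx, hxe⟩ := exists_preimage_of_card_le F hψ (hKpre P') hKS (fun x hx => hKc hψ ⟨x, hKpre P' hx⟩ hx)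
          le_rfl k hk
        exact ⟨_, hxe⟩
      obtain ⟨ψ', hψ', hP0, hψS, hm, he⟩ := hmor P ψ hψ
      have himg : P' ≤ imageAlong α P := fun y hy => by
        obtain ⟨s, rfl⟩ := hrange.ge (hP'.1 hy)
        exact ⟨s, (hpre s).2 hy, rfl⟩
      have hr : (ψ'.comp (Subgroup.inclusion himg)).range = imageAlong α ψ.range := by
        ext z
        constructor
        · rintro ⟨⟨y, hy⟩, rfl⟩
          obtain ⟨s, rfl⟩ := hrange.ge (hP'.1 hy)
          exact ⟨⟨_, hψS ⟨s, (hpre s).2 hy⟩⟩, ⟨_, rfl⟩, (he ⟨s, (hpre s).2 hy⟩).symm⟩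
        · rintro ⟨w, ⟨x, hx⟩, rfl⟩
          refine ⟨⟨α ⟨x, hP0 x.2⟩, (hpre _).1 x.2⟩, (he x).trans ?_⟩
          exact congrArg α (Subtype.ext hx)
      have hc := hP'.2 _ ⟨_, restrict_mem F' hψ' himg, hr⟩
      rw [← hpreimg (range_le F hψ) hKQ, hcard (isConj_le_right ⟨_, restrict_mem F' hψ' himg, hr⟩), hcard hP'.1]
      exact Nat.mul_le_mul_left _ hc
    obtain ⟨φ, hφ, hφr, hφe⟩ := hliftr hφ'
    rw [hr'] at hφr
    set N' := extender S' R' φ'
    set N₀ := preimageAlong α N'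
    have hN₀S : N₀ ≤ S := le_preimageAlong α N'
    have hN₀n : ∀ g : S, (g : Ω) ∈ N₀ → (g : Ω) ∈ Subgroup.normalizer (R : Set Ω) := fun g hg =>
      ((hnorm hR'S g).2 ⟨hrange.le ⟨g, rfl⟩, (exists_of_mem_extender ((hpre g).1 hg)).1⟩).2
    -- automorphisms of `P` acting on `P'` through `S'`
    set f := mapEquiv F hφ hφr
    let B : Subgroup (MulAut P) :=
      { carrier := {b | b ∈ F.autGroup P ∧ ∃ h : S, (h : Ω) ∈ Subgroup.normalizer (P : Set Ω) ∧
          ∀ x : P, α ⟨(b x : P), hPS (b x).2⟩ = α h * α ⟨x, hPS x.2⟩ * (α h)⁻¹}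
        one_mem' := ⟨one_mem _, 1, Subgroup.one_mem _, fun x => by simp⟩
        mul_mem' := by
          rintro b c ⟨hb, h, hh, e⟩ ⟨hc, k, hk, e'⟩
          refine ⟨mul_mem hb hc, h * k, Subgroup.mul_mem _ hh hk, fun x => ?_⟩
          show α ⟨(b (c x) : P), _⟩ = _
          rw [e, e', map_mul]; group
        inv_mem' := by
          rintro b ⟨hb, h, hh, e⟩
          refine ⟨inv_mem hb, h⁻¹, Subgroup.inv_mem _ hh, fun x => ?_⟩
          have h1 := e (b⁻¹ x)
          rw [show (⟨((b (b⁻¹ x)) : P), hPS (b (b⁻¹ x)).2⟩ : S) = ⟨x, hPS x.2⟩ from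
            Subtype.ext (congrArg (fun u : P => (u : Ω)) (b.apply_symm_apply x))] at h1
          rw [h1, map_inv]; group }
    have hSB : autInducedBy S P ≤ B := fun b hb => by
      obtain ⟨g, hg, hge⟩ := (mem_autInducedBy_iff b).1 hb
      refine ⟨autInducedBy_le_autGroup F hPS hb, ⟨g, hg⟩, mem_normalizer_of_autInduced hge, fun x => ?_⟩
      rw [← map_inv, ← map_mul, ← map_mul]
      exact congrArg α (Subtype.ext (hge x))
    have hA := isSyl_of_fullyAutomized (fullyNormalized_imp hS hF hPn).2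
    have hsylB : IsSyl p (autInducedBy S P) B := ⟨hSB, hA.2.1, fun hd => hA.2.2 (hd.trans (by
      rw [← Subgroup.relIndex_mul_relIndex (autInducedBy S P) B (F.autGroup P) hSB fun b hb => hb.1]
      exact dvd_mul_right _ _))⟩
    set X := (autInducedBy N₀ R).map (MulAut.congr f).toMonoidHom
    have hXB : X ≤ B := by
      rintro _ ⟨a, ha, rfl⟩
      obtain ⟨g, hg, hge⟩ := (mem_autInducedBy_iff a).1 ha
      refine ⟨congr_mem_autGroup F f (equivHom_mapEquiv F hφ hφr) (equivHom_mapEquiv_symm F hφ hφr) (autInducedBy_le_autGroup F hRS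
        (autInducedBy_mono hN₀S ha)), ?_⟩
      obtain ⟨hn, h', hh', he'⟩ := exists_of_mem_extender ((hpre ⟨g, hN₀S hg⟩).1 hg)
      obtain ⟨h, rfl⟩ := hrange.ge hh'
      refine ⟨h, ?_, fun x => ?_⟩
      · refine ((hnorm hP'.1 h).2 ⟨hrange.le ⟨h, rfl⟩, ?_⟩).2
        haveI := finite_of_le (S := S') hP'.1
        refine mem_normalizer_of_conj_mem_finite fun y hy => ?_
        obtain ⟨r, rfl⟩ := hr'.ge hy
        have hm : α ⟨g, hN₀S hg⟩ * (r : Ω') * (α ⟨g, hN₀S hg⟩)⁻¹ ∈ R' := (Subgroup.mem_normalizer_iff.1 hn _).1 r.2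
        rw [← he' r hm]
        exact hr' ▸ ⟨_, rfl⟩
      · obtain ⟨r, rfl⟩ := f.surjective x
        show α ⟨(f (a (f.symm (f r))) : P), _⟩ = _
        simp only [f.symm_apply_apply]
        have hr1 : α ⟨r, hRS r.2⟩ ∈ R' := (hpre _).1 r.2
        have hval : ∀ z : R, α ⟨(f z : P), hPS (f z).2⟩ = φ' ⟨α ⟨z, hRS z.2⟩, (hpre _).1 z.2⟩ := fun z =>
          (hφe z (hRS z.2) (hom_apply_mem F hφ z) _).symm
        rw [hval, hval]
        have e2 : α ⟨((a r : R) : Ω), hRS (a r).2⟩ = α ⟨g, hN₀S hg⟩ * α ⟨r, hRS r.2⟩ * (α ⟨g, hN₀S hg⟩)⁻¹ := by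
          rw [← map_inv, ← map_mul, ← map_mul]
          exact congrArg α (Subtype.ext (hge r))
        refine Eq.trans ?_ (he' ⟨_, hr1⟩ ((Subgroup.mem_normalizer_iff.1 hn _).1 hr1))
        exact congrArg φ' (Subtype.ext e2)
    obtain ⟨b, hb, hbX⟩ := hsylB.exists_conj ((autInducedBy_isPGroup (hS.to_le hN₀S)).map _) hXB
    obtain ⟨hbF, h, hhn, hbe⟩ := hb
    set e := f.trans b
    have he : equivHom e ∈ F.Hom R := equivHom_trans F (equivHom_mapEquiv F hφ hφr) ((equivHom_autGroup F hPS).1 hbF)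
    obtain ⟨ψ, hψ, hψe⟩ := (fullyNormalized_receptive hS hF hPn).2 R _ he (equivHom_range e)
    have hNle : N₀ ≤ extender S R (equivHom e) := fun g hg => by
      have hgn := hN₀n ⟨g, hN₀S hg⟩ hg
      obtain ⟨a, ha, hae⟩ := exists_conjAut (K := N₀) (P := R) hg hgn
      obtain ⟨s, hs, hse⟩ := (mem_autInducedBy_iff _).1 (hbX (map_conj_apply_mem ⟨a, ha, rfl⟩))
      refine Subgroup.subset_closure ⟨hN₀S hg, hgn, s, hs, fun x hx => ?_⟩
      have h2 := hse (e x)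
      refine Eq.trans ?_ h2
      have hb' : b⁻¹ (e x) = f x := b.symm_apply_apply _
      rw [MulAut.mul_apply, MulAut.mul_apply, hb']
      show ((b (f ⟨g * (x : Ω) * g⁻¹, hx⟩) : P) : Ω) = ((b (f (a (f.symm (f x)))) : P) : Ω)
      rw [f.symm_apply_apply, show a x = ⟨g * (x : Ω) * g⁻¹, hx⟩ from Subtype.ext (hae x)]
    obtain ⟨ψ', hψ', hP0, hψS, hm, hψ'e⟩ := hmor N₀ _ (restrict_mem F hψ hNle)
    have himg : N' ≤ imageAlong α N₀ := fun y hy => by
      have hyS : y ∈ S' := (show N' ≤ S' from (Subgroup.closure_le _).2 fun z hz => hz.1) hy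
      obtain ⟨s, rfl⟩ := hrange.ge hyS
      exact ⟨s, (hpre s).2 hy, rfl⟩
    have hψ'' := restrict_mem F' hψ' himg
    obtain ⟨χ, hχ, hχe⟩ := comp_hom_mem F' hψ'' (F'.conj_mem (le_refl S') (hrange.le ⟨h⁻¹, rfl⟩ : α h⁻¹ ∈ S'))
      (hom_apply_mem F' hψ'')
    refine ⟨χ, hχ, fun x hxR hxN => ?_⟩
    obtain ⟨s, rfl⟩ := hrange.ge (hR'S hxR)
    rw [hχe]
    show α h⁻¹ * ψ' ⟨α s, himg hxN⟩ * (α h⁻¹)⁻¹ = _
    have h3 : ψ' ⟨α s, himg hxN⟩ = α h * φ' ⟨α s, hxR⟩ * (α h)⁻¹ := by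
      refine (hψ'e ⟨s, (hpre s).2 hxN⟩).trans ?_
      rw [show φ' ⟨α s, hxR⟩ = α ⟨φ ⟨s, (hpre s).2 hxR⟩, hom_apply_mem F hφ _⟩ from
        hφe ⟨s, (hpre s).2 hxR⟩ s.2 _ _]
      refine Eq.trans ?_ (hbe (f ⟨s, (hpre s).2 hxR⟩))
      exact congrArg α (Subtype.ext (hψe s ((hpre s).2 hxR) (hNle ((hpre s).2 hxN))))
    rw [h3, map_inv]
    group

end Cfsg.Agent.FusionSys
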