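import Cfsg.Agent.Lib.Fusion.Centric
import Cfsg.Agent.Lib.LocalEven.StrongEmb
import Cfsg.Agent.Lib.Transfer.Basic

/-!
# Extendable automorphisms, essential subgroups and Alperin's fusion theorem
-/

set_option autoImplicit false

namespace Cfsg.Agent.FusionSys

open Cfsg Cfsg.FusionSystem

variable {Ω : Type*} [Group Ω] {S : Subgroup Ω}

/-- The automorphisms of `P` that extend to a map of the system on a strictly larger subgroup. -/
def extendableAut (F : FusionSystem S) (P : Subgroup Ω) : Set (MulAut P) :=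
  {α | ∃ (Q : Subgroup Ω) (hPQ : P < Q) (φ : Q →* Ω),
    φ ∈ F.Hom Q ∧ ∀ x : P, φ (Subgroup.inclusion hPQ.le x) = α x}

/-- The subgroup they generate. -/
def extendableGroup (F : FusionSystem S) (P : Subgroup Ω) : Subgroup (MulAut P) :=
  Subgroup.closure (extendableAut F P)

theorem extendableGroup_le (F : FusionSystem S) (P : Subgroup Ω) : extendableGroup F P ≤ F.autGroup P := by
  refine (Subgroup.closure_le _).2 ?_
  rintro α ⟨Q, hPQ, φ, hφ, he⟩
  exact Subgroup.subset_closure (hom_congr F (restrict_mem F hφ hPQ.le) fun x => (he x).symm)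

instance innSubgroupOfNormal (P : Subgroup Ω) (A : Subgroup (MulAut P)) : ((Inn P).subgroupOf A).Normal :=
  Subgroup.Normal.subgroupOf (innNormal P) A

/-- The class in `Out_F(P)`. -/
abbrev outMk (F : FusionSystem S) (P : Subgroup Ω) :
    F.autGroup P →* F.autGroup P ⧸ (Inn P).subgroupOf (F.autGroup P) :=
  QuotientGroup.mk' ((Inn P).subgroupOf (F.autGroup P))

/-- `Out_S(P)`. -/
abbrev outS (F : FusionSystem S) (P : Subgroup Ω) :
    Subgroup (F.autGroup P ⧸ (Inn P).subgroupOf (F.autGroup P)) :=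
  ((autInducedBy S P).subgroupOf (F.autGroup P)).map (outMk F P)

theorem outMk_eq_one_iff (F : FusionSystem S) (P : Subgroup Ω) (a : F.autGroup P) :
    outMk F P a = 1 ↔ (a : MulAut P) ∈ Inn P :=
  (QuotientGroup.eq_one_iff a).trans Subgroup.mem_subgroupOf

theorem mem_of_conj_mem_inn {F : FusionSystem S} {P : Subgroup Ω} (hC : centralizerIn S P ≤ P) {g : Ω}
    (hg : g ∈ S) (hP : P ≤ S) {a : MulAut P} (ha : ∀ x : P, ((a x : P) : Ω) = g * (x : Ω) * g⁻¹)
    (hin : a ∈ Inn P) : g ∈ P := by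
  obtain ⟨q, rfl⟩ := hin
  have hd : (q : Ω)⁻¹ * g ∈ centralizerIn S P := by
    refine ⟨S.mul_mem (S.inv_mem (hP q.2)) hg, ?_⟩
    show (q : Ω)⁻¹ * g ∈ Subgroup.centralizer (P : Set Ω)
    rw [Subgroup.mem_centralizer_iff]
    intro x hx
    have h : (q : Ω) * x * (q : Ω)⁻¹ = g * x * g⁻¹ := ha ⟨x, hx⟩
    calc x * ((q : Ω)⁻¹ * g) = (q : Ω)⁻¹ * (q * x * (q : Ω)⁻¹) * g := by group
      _ = (q : Ω)⁻¹ * (g * x * g⁻¹) * g := by rw [h]
      _ = (q : Ω)⁻¹ * g * x := by group
  have := P.mul_mem q.2 (hC hd)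
  rwa [mul_inv_cancel_left] at this

variable {p : ℕ} [hp : Fact p.Prime] [Finite S]

theorem lt_normalizerIn (hS : IsPGroup p S) {P : Subgroup Ω} (hlt : P < S) : P < normalizerIn S P :=
  Cfsg.Agent.Fusion.lt_inf_normalizer hS.isNilpotent hlt

theorem autInducedBy_le_extendable (hS : IsPGroup p S) (F : FusionSystem S) {P : Subgroup Ω} (hlt : P < S) :
    autInducedBy S P ≤ extendableGroup F P := fun α hα => by
  obtain ⟨g, hg, he⟩ := (mem_autInducedBy_iff α).1 hα
  refine Subgroup.subset_closure ⟨normalizerIn S P, lt_normalizerIn hS hlt, conjHom _ g,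
    F.conj_mem (normalizerIn_le S P) hg, fun x => (he x).symm⟩

theorem inn_le_extendable (hS : IsPGroup p S) (F : FusionSystem S) {P : Subgroup Ω} (hlt : P < S) :
    Inn P ≤ extendableGroup F P :=
  (inn_le_autInducedBy hlt.le).trans (autInducedBy_le_extendable hS F hlt)

theorem autGroup_le_extendable_of_not_centric (hS : IsPGroup p S) {F : FusionSystem S} (hF : F.IsSaturated p)
    {P : Subgroup Ω} (hn : F.IsFullyNormalized P) (hC : ¬ centralizerIn S P ≤ P) :
    F.autGroup P ≤ extendableGroup F P := fun α hα => by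
  have hφ := (equivHom_autGroup F hn.1).1 hα
  obtain ⟨ψ, hψ, hag⟩ := (fullyNormalized_receptive hS hF hn).2 P _ hφ (equivHom_range α)
  refine Subgroup.subset_closure ⟨_, lt_of_le_of_ne (le_extender F hφ) fun he => hC ?_, ψ, hψ, fun x => hag x x.2 _⟩
  exact (centralizerIn_le_extender (equivHom α)).trans he.ge

theorem exists_outS_sylow (hS : IsPGroup p S) {F : FusionSystem S} (hF : F.IsSaturated p) {P : Subgroup Ω}
    (hn : F.IsFullyNormalized P) :
    ∃ R : Sylow p (F.autGroup P ⧸ (Inn P).subgroupOf (F.autGroup P)), (R : Subgroup _) = outS F P := by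
  obtain ⟨R, hR⟩ := (fullyNormalized_imp hS hF hn).2.2
  have := finite_of_le hn.1
  exact ⟨R.mapSurjective (QuotientGroup.mk'_surjective _), congrArg (Subgroup.map (outMk F P)) hR⟩

theorem outS_ne_bot (hS : IsPGroup p S) (F : FusionSystem S) {P : Subgroup Ω} (hlt : P < S)
    (hC : centralizerIn S P ≤ P) : outS F P ≠ ⊥ := by
  intro hbot
  obtain ⟨g, hgN, hgP⟩ := SetLike.exists_of_lt (lt_normalizerIn hS hlt)
  obtain ⟨a, ha, hae⟩ := exists_conjAut (P := P) hgN.1 hgN.2
  have h1 : outMk F P ⟨a, autInducedBy_le_autGroup F hlt.le ha⟩ ∈ outS F P := ⟨_, ha, rfl⟩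
  rw [hbot, Subgroup.mem_bot, outMk_eq_one_iff] at h1
  exact hgP (mem_of_conj_mem_inn (F := F) hC hgN.1 hlt.le hae h1)

theorem centralizerIn_le_of_centric {F : FusionSystem S} {P : Subgroup Ω} (h : F.IsCentric P) :
    centralizerIn S P ≤ P := h.2 P (isConj_refl F h.1)

/-- If not everything extends, the image of the extendable automorphisms is strongly `p`-embedded. -/
theorem stronglyEmbedded_of_extendable_ne (hS : IsPGroup p S) {F : FusionSystem S} (hF : F.IsSaturated p)
    {P : Subgroup Ω} (hlt : P < S) (hn : F.IsFullyNormalized P) (hne : extendableGroup F P ≠ F.autGroup P) :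
    F.IsEssential p P ∧ IsStronglyPEmbedded p
      (((extendableGroup F P).subgroupOf (F.autGroup P)).map (outMk F P)) := by
  have := finite_of_le hn.1
  have hC : centralizerIn S P ≤ P := by
    by_contra h
    exact hne (le_antisymm (extendableGroup_le F P) (autGroup_le_extendable_of_not_centric hS hF hn h))
  have hcen : F.IsCentric P := isCentric_of_fullyCentralized (fullyNormalized_imp hS hF hn).1 hC
  obtain ⟨R, hR⟩ := exists_outS_sylow hS hF hn
  set M := ((extendableGroup F P).subgroupOf (F.autGroup P)).map (outMk F P) with hM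
  suffices h : IsStronglyPEmbedded p M from ⟨⟨hcen, hn, innSubgroupOfNormal P _, M, h⟩, h⟩
  refine ⟨?_, ?_, R, (Cfsg.Agent.LEStrongEmb.kGeneratedCore_le_iff R M).2 ?_⟩
  · exact (Cfsg.Agent.LESylow.dvd_card_of_ne_bot R.2 (hR ▸ outS_ne_bot hS F hlt hC)).trans
      (Subgroup.card_subgroup_dvd_card _)
  · intro htop
    refine hne (le_antisymm (extendableGroup_le F P) fun α hα => ?_)
    obtain ⟨b, hb, hbe⟩ : outMk F P ⟨α, hα⟩ ∈ M := htop ▸ Subgroup.mem_top _
    have h1 : ((b : MulAut P))⁻¹ * α ∈ Inn P :=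
      (outMk_eq_one_iff F P (b⁻¹ * ⟨α, hα⟩)).1 (by rw [map_mul, map_inv, hbe, inv_mul_cancel])
    have := Subgroup.mul_mem _ (Subgroup.mem_subgroupOf.1 hb) (inn_le_extendable hS F hlt h1)
    rwa [mul_inv_cancel_left] at this
  · intro X hX hX1 y hy
    obtain ⟨α, rfl⟩ := QuotientGroup.mk'_surjective _ y
    refine ⟨α, ?_, rfl⟩
    show (α : MulAut P) ∈ extendableGroup F P
    have hφ := (equivHom_autGroup F hn.1).1 α.2
    obtain ⟨ψ, hψ, hag⟩ := (fullyNormalized_receptive hS hF hn).2 P _ hφ (equivHom_range (α : MulAut P))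
    obtain ⟨x, hx, hx1⟩ := (Subgroup.ne_bot_iff_exists_ne_one.1 hX1 : ∃ a : X, a ≠ 1) |>
      fun ⟨a, ha⟩ => (⟨a, a.2, fun h => ha (Subtype.ext h)⟩ : ∃ x, x ∈ X ∧ x ≠ 1)
    rw [hR] at hX
    obtain ⟨a, ha, hax⟩ := hX hx
    obtain ⟨g, hg, hge⟩ := (mem_autInducedBy_iff _).1 (Subgroup.mem_subgroupOf.1 ha)
    have hgP : g ∉ P := fun hgP => hx1 (hax ▸ (outMk_eq_one_iff F P a).2
      ((inn_eq_autInducedBy_self P).ge ((mem_autInducedBy_iff _).2 ⟨g, hgP, hge⟩)))
    obtain ⟨b, hb, hbx⟩ := hX ((Subgroup.mem_normalizer_iff.1 hy x).1 hx)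
    have hinn : ((b : MulAut P))⁻¹ * ((α : MulAut P) * a * (α : MulAut P)⁻¹) ∈ Inn P :=
      (outMk_eq_one_iff F P (b⁻¹ * (α * a * α⁻¹))).1 (by
        rw [map_mul, map_inv, hbx, map_mul, map_mul, map_inv, hax, inv_mul_cancel])
    obtain ⟨k, hk, hke⟩ := (mem_autInducedBy_iff _).1
      (Subgroup.mul_mem _ (Subgroup.mem_subgroupOf.1 hb) (inn_le_autInducedBy hlt.le hinn))
    have hgE : g ∈ extender S P (equivHom (α : MulAut P)) := by
      refine Subgroup.subset_closure ⟨hg, mem_normalizer_of_autInduced hge, k, hk, fun u hu => ?_⟩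
      have h2 := hke ((α : MulAut P) u)
      rw [mul_inv_cancel_left, MulAut.mul_apply, MulAut.mul_apply,
        show (α : MulAut P)⁻¹ ((α : MulAut P) u) = u from MulEquiv.symm_apply_apply _ _] at h2
      refine Eq.trans ?_ h2
      show (((α : MulAut P) ⟨_, hu⟩ : P) : Ω) = _
      rw [show (⟨g * (u : Ω) * g⁻¹, hu⟩ : P) = (a : MulAut P) u from Subtype.ext (hge u).symm]
    exact Subgroup.subset_closure ⟨_, lt_of_le_of_ne (le_extender F hφ) fun he => hgP (he ▸ hgE), ψ, hψ,
      fun u => hag u u.2 _⟩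

theorem stronglyEmbedded_map_conj {G : Type*} [Group G] [Finite G] {M : Subgroup G}
    (hM : IsStronglyPEmbedded p M) (b : G) : IsStronglyPEmbedded p (M.map (MulAut.conj b).toMonoidHom) := by
  rw [Cfsg.Agent.LEStrongEmb.iff_normalizers] at hM ⊢
  obtain ⟨h1, h2, h3⟩ := hM
  refine ⟨fun h => h1 ?_, ?_, fun A hA hAp hA1 n hn => ?_⟩
  · refine Subgroup.map_injective (f := (MulAut.conj b).toMonoidHom) (MulAut.conj b).injective ?_
    rw [h, Subgroup.map_top_of_surjective _ (MulAut.conj b).surjective]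
  · rwa [Subgroup.card_map_of_injective (MulAut.conj b).injective]
  · have hA' : A.map (MulAut.conj b⁻¹).toMonoidHom ≤ M := by
      rintro _ ⟨x, hx, rfl⟩
      obtain ⟨m, hm, rfl⟩ := hA hx
      simpa [mul_assoc] using hm
    have hn' := h3 _ hA' (hAp.map _)
      (by rwa [ne_eq, Subgroup.map_eq_bot_iff_of_injective _ (MulAut.conj b⁻¹).injective])
    have : b⁻¹ * n * b ∈ M := hn' (by
      have h := Subgroup.le_normalizer_map (MulAut.conj b⁻¹).toMonoidHom ⟨n, hn, rfl⟩
      simpa [mul_assoc] using h)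
    exact ⟨_, this, by simp [mul_assoc]⟩

theorem exists_stronglyEmbedded_ge_outS (hS : IsPGroup p S) {F : FusionSystem S} (hF : F.IsSaturated p)
    {P : Subgroup Ω} (he : F.IsEssential p P) :
    ∃ M, IsStronglyPEmbedded p M ∧ outS F P ≤ M := by
  obtain ⟨-, hn, _hN, M, hM⟩ := he
  have := finite_of_le hn.1
  obtain ⟨R, hR⟩ := exists_outS_sylow hS hF hn
  obtain ⟨T⟩ : Nonempty (Sylow p M) := inferInstance
  obtain ⟨T', hT'⟩ := Cfsg.Agent.LEStrongEmb.sylow_isSylow hM T
  obtain ⟨b, hb⟩ := Cfsg.Agent.LESylow.exists_conj_eq T' R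
  refine ⟨_, stronglyEmbedded_map_conj hM b, ?_⟩
  rw [← hR, ← hb]
  exact Subgroup.map_mono (hT'.le.trans (Subgroup.map_subtype_le _))

theorem essential_lt (hS : IsPGroup p S) {F : FusionSystem S} (hF : F.IsSaturated p) {P : Subgroup Ω}
    (he : F.IsEssential p P) : P < S := by
  refine lt_of_le_of_ne he.1.1 ?_
  rintro rfl
  obtain ⟨M, hM, hle⟩ := exists_stronglyEmbedded_ge_outS hS hF he
  have := finite_of_le (le_refl P)
  obtain ⟨R, hR⟩ := exists_outS_sylow hS hF he.2.1
  have h1 : outS F P = ⊥ := by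
    rw [eq_bot_iff]
    rintro _ ⟨a, ha, rfl⟩
    exact Subgroup.mem_bot.2 ((outMk_eq_one_iff F P a).2 ((inn_eq_autInducedBy_self P).ge ha))
  exact R.ne_bot_of_dvd_card hM.1 (hR.trans h1)

theorem extendable_ne_of_essential (hS : IsPGroup p S) {F : FusionSystem S} (hF : F.IsSaturated p)
    {P : Subgroup Ω} (he : F.IsEssential p P) : extendableGroup F P ≠ F.autGroup P := by
  have hlt := essential_lt hS hF he
  obtain ⟨M, hM, hle⟩ := exists_stronglyEmbedded_ge_outS hS hF he
  obtain ⟨hcen, hn, -, -⟩ := he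
  have := finite_of_le hn.1
  have key : extendableAut F P ⊆ ((M.comap (outMk F P)).map (F.autGroup P).subtype : Set (MulAut P)) := by
    rintro α ⟨Q, hPQ, φ, hφ, hφe⟩
    have hαA : α ∈ F.autGroup P := extendableGroup_le F P (Subgroup.subset_closure ⟨Q, hPQ, φ, hφ, hφe⟩)
    refine ⟨⟨α, hαA⟩, ?_, rfl⟩
    have := finite_of_le (hom_le F hφ)
    obtain ⟨g, hgN, hgP⟩ := SetLike.exists_of_lt
      (Cfsg.Agent.Fusion.lt_inf_normalizer (hS.to_le (hom_le F hφ)).isNilpotent hPQ)
    obtain ⟨a, ha, hae⟩ := exists_conjAut (K := S) (P := P) (hom_le F hφ hgN.1) hgN.2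
    set ga : F.autGroup P := ⟨a, autInducedBy_le_autGroup F hn.1 ha⟩
    have ha1 : outMk F P ga ≠ 1 := fun h => hgP
      (mem_of_conj_mem_inn (F := F) (centralizerIn_le_of_centric hcen) (hom_le F hφ hgN.1) hn.1 hae
        ((outMk_eq_one_iff F P ga).1 h))
    have hconj : outMk F P ⟨α, hαA⟩ * outMk F P ga * (outMk F P ⟨α, hαA⟩)⁻¹ ∈ outS F P := by
      rw [← map_inv, ← map_mul, ← map_mul]
      refine ⟨_, ?_, rfl⟩
      rw [SetLike.mem_coe, Subgroup.mem_subgroupOf]
      show α * a * α⁻¹ ∈ autInducedBy S P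
      refine (mem_autInducedBy_iff _).2 ⟨φ ⟨g, hgN.1⟩, hom_apply_mem F hφ _, fun x => ?_⟩
      rw [MulAut.mul_apply, MulAut.mul_apply]
      have hx : ((α (α⁻¹ x) : P) : Ω) = x := congrArg Subtype.val (α.apply_symm_apply x)
      conv_rhs => rw [← hx]
      rw [← hφe, ← hφe, ← map_inv, ← map_mul, ← map_mul]
      exact congrArg φ (Subtype.ext (hae _))
    set c := outMk F P ga with hc
    have hcS : c ∈ outS F P := ⟨ga, ha, rfl⟩
    obtain ⟨R, hR⟩ := exists_outS_sylow hS hF hn
    obtain ⟨k, hk⟩ := IsPGroup.iff_orderOf.1 R.2 ⟨c, hR.ge hcS⟩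
    rw [Subgroup.orderOf_mk] at hk
    obtain ⟨k, rfl⟩ : ∃ j, k = j + 1 := ⟨k - 1, by
      rcases k with _ | k
      · rw [pow_zero, orderOf_eq_one_iff] at hk; exact absurd hk ha1
      · rfl⟩
    have hord : orderOf (c ^ p ^ k) = p := by
      rw [orderOf_pow, hk, pow_succ, Nat.gcd_eq_right (Dvd.intro p rfl),
        Nat.mul_div_cancel_left _ (pow_pos hp.out.pos k)]
    show outMk F P ⟨α, hαA⟩ ∈ M
    refine Cfsg.Agent.LEStrongEmb.mem_of_conj_mem hM hord (M.pow_mem (hle hcS) _) ?_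
    rw [← conj_pow]
    exact M.pow_mem (hle hconj) _
  intro heq
  refine hM.2.1 (eq_top_iff.2 fun y _ => ?_)
  obtain ⟨α, rfl⟩ := QuotientGroup.mk'_surjective _ y
  have hmem : (α : MulAut P) ∈ (M.comap (outMk F P)).map (F.autGroup P).subtype :=
    (Subgroup.closure_le _).2 key (heq.ge α.2)
  obtain ⟨β, hβ, hβe⟩ := hmem
  rw [← Subtype.ext (a1 := β) (a2 := α) hβe]
  exact hβ

theorem fullyNormalized_dichotomy (hS : IsPGroup p S) {F : FusionSystem S} (hF : F.IsSaturated p)
    {P : Subgroup Ω} (hlt : P < S) (hn : F.IsFullyNormalized P) :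
    (¬ F.IsEssential p P ∧ extendableGroup F P = F.autGroup P) ∨
      (F.IsEssential p P ∧ IsStronglyPEmbedded p
        (((extendableGroup F P).subgroupOf (F.autGroup P)).map (outMk F P))) := by
  by_cases h : extendableGroup F P = F.autGroup P
  · exact Or.inl ⟨fun he => extendable_ne_of_essential hS hF he h, h⟩
  · exact Or.inr (stronglyEmbedded_of_extendable_ne hS hF hlt hn h)

/-- Alperin's fusion theorem. -/
theorem alperin (hS : IsPGroup p S) {F : FusionSystem S} (hF : F.IsSaturated p) {E : FusionSystem S}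
    (hE : ∀ P : Subgroup Ω, (P = S ∨ F.IsEssential p P) → F.autGroup P ≤ E.autGroup P) : F ≤ E := by
  intro P φ hφ
  induction hk : Nat.card S - Nat.card P using Nat.strong_induction_on generalizing P with
  | _ k ih =>
  have hPS := hom_le F hφ
  have := finite_of_le hPS
  rcases eq_or_lt_of_le hPS with rfl | hlt
  · have hr : φ.range = P := Subgroup.eq_of_le_of_card_ge (range_le F hφ) (isConj_card ⟨φ, hφ, rfl⟩).le
    obtain ⟨α, hα, hαe⟩ := exists_autGroup_of_range F hφ hr
    exact hom_congr E ((equivHom_autGroup E le_rfl).1 (hE P (Or.inl rfl) hα)) fun x => (hαe x).symm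
  obtain ⟨Q, hPQ, hQ⟩ := exists_fullyNormalized F hPS
  have hcard : ∀ (A N : Subgroup Ω), N ≤ S → A < N → Nat.card S - Nat.card N < Nat.card S - Nat.card A := by
    intro A N hN hAN
    have := finite_of_le hN
    have h1 : Nat.card A < Nat.card N := lt_of_le_of_ne (Subgroup.card_le_of_le hAN.le)
      fun he => hAN.ne (Subgroup.eq_of_le_of_card_ge hAN.le he.ge)
    have h2 : Nat.card N ≤ Nat.card S := Subgroup.card_le_of_le hN
    omega
  have step : ∀ (A : Subgroup Ω), F.IsConj A Q → Nat.card A = Nat.card P →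
      ∃ e : A ≃* Q, equivHom e ∈ E.Hom A ∧ equivHom e ∈ F.Hom A := by
    intro A hA hAc
    have hAS := isConj_le_left hA
    have := finite_of_le hAS
    have hAlt : A < S := lt_of_le_of_ne hAS fun he => hlt.ne
      (Subgroup.eq_of_le_of_card_ge hPS (by rw [← hAc, he]))
    obtain ⟨ψ, hψ, -, hψA⟩ := exists_normalizer_map_fullyNormalized hS hF hQ hA
    have h1 := ih _ (hk ▸ hAc ▸ hcard A _ (normalizerIn_le S A) (lt_normalizerIn hS hAlt)) _ hψ rfl
    exact ⟨mapEquiv F (restrict_mem F hψ (le_normalizerIn hAS)) (extend_restrict_range _ hψA),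
      hom_congr E (restrict_mem E h1 (le_normalizerIn hAS)) (fun _ => rfl), equivHom_mapEquiv F _ _⟩
  obtain ⟨e₁, he₁E, he₁⟩ := step P hPQ rfl
  obtain ⟨e₂, he₂E, he₂⟩ := step φ.range (isConj_trans (isConj_symm ⟨φ, hφ, rfl⟩) hPQ)
    (isConj_card ⟨φ, hφ, rfl⟩).symm
  set f := mapEquiv F hφ rfl
  have hsymm : ∀ (D : FusionSystem S) {A B : Subgroup Ω} (e : A ≃* B), equivHom e ∈ D.Hom A →
      equivHom e.symm ∈ D.Hom B := by
    intro D A B e he
    have := equivHom_mapEquiv_symm D he (equivHom_range e)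
    have heq : mapEquiv D he (equivHom_range e) = e := MulEquiv.ext fun x => Subtype.ext rfl
    rwa [heq] at this
  set α : MulAut Q := e₁.symm.trans (f.trans e₂)
  have hα : α ∈ F.autGroup Q := (equivHom_autGroup F hQ.1).2
    (equivHom_trans F (hsymm F e₁ he₁) (equivHom_trans F (equivHom_mapEquiv F hφ rfl) he₂))
  have hαE : α ∈ E.autGroup Q := by
    by_cases hess : F.IsEssential p Q
    · exact hE Q (Or.inr hess) hα
    have hQlt : Q < S := lt_of_le_of_ne hQ.1 fun he => hlt.ne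
      (Subgroup.eq_of_le_of_card_ge hPS (by rw [isConj_card hPQ, he]))
    have heq : extendableGroup F Q = F.autGroup Q := by
      rcases fullyNormalized_dichotomy hS hF hQlt hQ with h | h
      · exact h.2
      · exact absurd h.1 hess
    refine (Subgroup.closure_le _).2 ?_ (heq.ge hα)
    rintro β ⟨N, hQN, ψ, hψ, he⟩
    have h1 := ih _ (hk ▸ (isConj_card hPQ).symm ▸ hcard Q N (hom_le F hψ) hQN) _ hψ rfl
    exact Subgroup.subset_closure (hom_congr E (restrict_mem E h1 hQN.le) fun x => (he x).symm)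
  have := equivHom_trans E he₁E (equivHom_trans E ((equivHom_autGroup E hQ.1).1 hαE) (hsymm E e₂ he₂E))
  refine hom_congr E this fun x => ?_
  show φ x = ((e₂.symm (e₂ (f (e₁.symm (e₁ x)))) : _) : Ω)
  rw [e₂.symm_apply_apply, e₁.symm_apply_apply]
  rfl

theorem radical_of_pCore_out (hS : IsPGroup p S) {F : FusionSystem S} {P : Subgroup Ω} (hP : P ≤ S)
    (h : pCore p (F.autGroup P ⧸ (Inn P).subgroupOf (F.autGroup P)) = ⊥) : F.IsRadical p P := by
  have := finite_of_le hP
  refine ⟨hP, le_antisymm ?_ ?_⟩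
  · rintro _ ⟨a, ha, rfl⟩
    have := Cfsg.Agent.PBasic.map_pCore_le_of_surjective (p := p) (outMk F P) (QuotientGroup.mk'_surjective _)
      ⟨a, ha, rfl⟩
    rw [h, Subgroup.mem_bot, outMk_eq_one_iff] at this
    exact this
  · intro a ha
    refine ⟨⟨a, inn_le_autGroup F hP ha⟩, ?_, rfl⟩
    refine Cfsg.Agent.PBasic.le_pCore (innSubgroupOfNormal P _) ?_ (Subgroup.mem_subgroupOf.2 ha)
    exact ((inn_eq_autInducedBy_self P).symm ▸ autInducedBy_isPGroup (hS.to_le hP)).comap_of_injective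
      _ (F.autGroup P).subtype_injective

theorem essential_radical (hS : IsPGroup p S) {F : FusionSystem S} (hF : F.IsSaturated p) {P : Subgroup Ω}
    (he : F.IsEssential p P) : F.IsRadical p P := by
  have := finite_of_le he.1.1
  obtain ⟨M, hM, hle⟩ := exists_stronglyEmbedded_ge_outS hS hF he
  obtain ⟨R, hR⟩ := exists_outS_sylow hS hF he.2.1
  refine radical_of_pCore_out hS he.1.1 ?_
  by_contra hne
  have hcle := Cfsg.Agent.PBasic.pCore_le_sylow R
  rw [hR] at hcle
  have hnorm : (pCore p (F.autGroup P ⧸ (Inn P).subgroupOf (F.autGroup P))).Normal :=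
    haveI := Cfsg.Agent.PBasic.pCore_characteristic p (F.autGroup P ⧸ (Inn P).subgroupOf (F.autGroup P))
    inferInstance
  refine hM.2.1 (eq_top_iff.2 ?_)
  rw [← Subgroup.normalizer_eq_top_iff.2 hnorm]
  exact Cfsg.Agent.LEStrongEmb.normalizer_le hM (hcle.trans hle) (Cfsg.Agent.PBasic.pCore_isPGroup _ _) hne

theorem alperin_centric_radical (hS : IsPGroup p S) {F : FusionSystem S} (hF : F.IsSaturated p)
    {E : FusionSystem S}
    (hE : ∀ P : Subgroup Ω, (P = S ∨ (F.IsCentric P ∧ F.IsRadical p P ∧ F.IsFullyNormalized P)) →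
      F.autGroup P ≤ E.autGroup P) : F ≤ E :=
  alperin hS hF fun P hP => hE P (hP.imp_right fun h => ⟨h.1, essential_radical hS hF h, h.2.1⟩)

theorem le_antisymm_fusion {F E : FusionSystem S} (h₁ : F ≤ E) (h₂ : E ≤ F) : F = E :=
  hom_ext _ _ fun P => Set.Subset.antisymm (h₁ P) (h₂ P)

theorem innerFusionSystem_le (F : FusionSystem S) : innerFusionSystem S ≤ F := fun P φ hφ => by
  obtain ⟨hP, g, hg, he⟩ := hφ
  exact hom_congr F (F.conj_mem hP hg) he

/-- If every automorphism group is a `p`-group, the system is the inner one. -/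
theorem eq_inner_of_autGroup_isPGroup (hS : IsPGroup p S) {F : FusionSystem S} (hF : F.IsSaturated p)
    (h : ∀ P : Subgroup Ω, P ≤ S → IsPGroup p (F.autGroup P)) : F = innerFusionSystem S := by
  refine le_antisymm_fusion (alperin hS hF fun P hP => ?_) (innerFusionSystem_le F)
  rcases hP with hPS | he
  · obtain ⟨Q, hSQ, hQ⟩ := exists_fullyNormalized F (le_refl S)
    have hQS : Q = S := Subgroup.eq_of_le_of_card_ge hQ.1 (by rw [isConj_card hSQ])
    rw [hQS] at hQ
    obtain ⟨R, hR⟩ := (fullyNormalized_imp hS hF hQ).2.2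
    intro a ha
    subst hPS
    have hR' := R.is_maximal' ((h _ le_rfl).to_subgroup _) le_top
    have ha' : a ∈ autInducedBy P P := Subgroup.mem_subgroupOf.1 (hR.le (hR'.le (Subgroup.mem_top ⟨a, ha⟩)))
    obtain ⟨g, hg, he⟩ := (mem_autInducedBy_iff _).1 ha'
    refine (mem_autGroup_iff _ le_rfl a).2 ⟨le_rfl, g, hg, fun x => he x⟩
  · obtain ⟨M, hM, -⟩ := exists_stronglyEmbedded_ge_outS hS hF he
    have := finite_of_le he.1.1
    have htop : IsPGroup p (⊤ : Subgroup (F.autGroup P ⧸ (Inn P).subgroupOf (F.autGroup P))) :=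
      ((h P he.1.1).to_quotient _).to_subgroup _
    refine absurd (eq_top_iff.2 (Cfsg.Agent.LEStrongEmb.le_of_pSubgroup hM htop ?_)) hM.2.1
    rw [top_inf_eq]
    intro hb
    have h1 := Cfsg.Agent.LEStrongEmb.dvd_card hM
    rw [hb, Subgroup.card_bot] at h1
    exact hp.out.not_dvd_one h1

end Cfsg.Agent.FusionSys
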