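import Cfsg.Prelude.Def_FusionSystem
import Mathlib.GroupTheory.Sylow

/-!
# Fusion systems: formal basics

Identity maps, restriction, inverses, conjugacy, membership in `autGroup` and `autInducedBy`,
and the first properties of normal, central and closed subgroups.
-/

set_option autoImplicit false

namespace Cfsg.Agent.FusionSys

open Cfsg Cfsg.FusionSystem

variable {Ω : Type*} [Group Ω] {S : Subgroup Ω}

/-! ### Maps -/

theorem apply_congr {P : Subgroup Ω} {α : Type*} (φ : P → α) {x y : Ω} (h : x = y) (hx : x ∈ P) (hy : y ∈ P) :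
    φ ⟨x, hx⟩ = φ ⟨y, hy⟩ := by
  subst h; rfl

theorem hom_le (F : FusionSystem S) {P : Subgroup Ω} {φ : P →* Ω} (h : φ ∈ F.Hom P) : P ≤ S :=
  (F.le_of_mem h).1

theorem hom_apply_mem (F : FusionSystem S) {P : Subgroup Ω} {φ : P →* Ω} (h : φ ∈ F.Hom P) (x : P) : φ x ∈ S :=
  (F.le_of_mem h).2 x

theorem range_le (F : FusionSystem S) {P : Subgroup Ω} {φ : P →* Ω} (h : φ ∈ F.Hom P) : φ.range ≤ S := by
  rintro _ ⟨x, rfl⟩; exact hom_apply_mem F h x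

theorem hom_congr (F : FusionSystem S) {P : Subgroup Ω} {φ ψ : P →* Ω} (h : φ ∈ F.Hom P)
    (he : ∀ x, ψ x = φ x) : ψ ∈ F.Hom P := by
  rwa [MonoidHom.ext he]

theorem hom_ext (F E : FusionSystem S) (h : ∀ P, F.Hom P = E.Hom P) : F = E := by
  cases F; cases E
  congr
  exact funext h

@[simp] theorem conjHom_apply (P : Subgroup Ω) (g : Ω) (x : P) : conjHom P g x = g * (x : Ω) * g⁻¹ := rfl

theorem conjHom_range (P : Subgroup Ω) (g : Ω) : (conjHom P g).range = P.map (MulAut.conj g).toMonoidHom := by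
  rw [conjHom, MonoidHom.range_comp, P.range_subtype]

theorem subtype_mem (F : FusionSystem S) {P : Subgroup Ω} (hP : P ≤ S) : P.subtype ∈ F.Hom P :=
  hom_congr F (F.conj_mem hP S.one_mem) (by simp)

theorem comp_hom_mem (F : FusionSystem S) {P Q : Subgroup Ω} {φ : P →* Ω} {ψ : Q →* Ω} (hφ : φ ∈ F.Hom P)
    (hψ : ψ ∈ F.Hom Q) (h : ∀ x, φ x ∈ Q) : ∃ χ ∈ F.Hom P, ∀ x : P, χ x = ψ ⟨φ x, h x⟩ :=
  ⟨_, F.comp_mem hφ hψ h, fun _ => rfl⟩

theorem restrict_mem (F : FusionSystem S) {P Q : Subgroup Ω} {φ : P →* Ω} (hφ : φ ∈ F.Hom P) (hQP : Q ≤ P) :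
    φ.comp (Subgroup.inclusion hQP) ∈ F.Hom Q :=
  hom_congr F (F.comp_mem (subtype_mem F (hQP.trans (hom_le F hφ))) hφ fun x => hQP x.2) fun _ => rfl

theorem range_restrict {P Q : Subgroup Ω} (φ : P →* Ω) (hQP : Q ≤ P) :
    (φ.comp (Subgroup.inclusion hQP)).range = (Q.subgroupOf P).map φ := by
  rw [MonoidHom.range_comp]
  congr 1
  ext x
  simp [Subgroup.mem_subgroupOf]

theorem mem_map_subgroupOf {P Q : Subgroup Ω} {H : Type*} [Group H] (φ : P →* H) (y : H) :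
    y ∈ (Q.subgroupOf P).map φ ↔ ∃ (x : Ω) (hP : x ∈ P), x ∈ Q ∧ φ ⟨x, hP⟩ = y := by
  constructor
  · rintro ⟨⟨x, hx⟩, hxQ, rfl⟩; exact ⟨x, hx, hxQ, rfl⟩
  · rintro ⟨x, hP, hxQ, rfl⟩; exact ⟨⟨x, hP⟩, hxQ, rfl⟩

/-- A map of the system has a two-sided inverse map. -/
theorem exists_inv (F : FusionSystem S) {P : Subgroup Ω} {φ : P →* Ω} (hφ : φ ∈ F.Hom P) :
    ∃ ψ ∈ F.Hom φ.range, ψ.range = P ∧
      (∀ (x : P) (h : φ x ∈ φ.range), ψ ⟨φ x, h⟩ = x) ∧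
      ∀ (y : φ.range) (h : ψ y ∈ P), φ ⟨ψ y, h⟩ = y := by
  obtain ⟨ψ, hψ, h⟩ := F.inv_mem hφ
  refine ⟨ψ, hψ, ?_, fun x _ => h x, ?_⟩
  · ext y
    constructor
    · rintro ⟨⟨_, x, rfl⟩, rfl⟩
      rw [h x]; exact x.2
    · intro hy
      exact ⟨⟨φ ⟨y, hy⟩, _, rfl⟩, h ⟨y, hy⟩⟩
  · rintro ⟨_, x, rfl⟩ hx
    exact congrArg φ (Subtype.ext (h x))

/-! ### Conjugacy -/

theorem isConj_refl (F : FusionSystem S) {P : Subgroup Ω} (hP : P ≤ S) : F.IsConj P P :=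
  ⟨P.subtype, subtype_mem F hP, P.range_subtype⟩

theorem isConj_symm {F : FusionSystem S} {P Q : Subgroup Ω} (h : F.IsConj P Q) : F.IsConj Q P := by
  obtain ⟨φ, hφ, rfl⟩ := h
  obtain ⟨ψ, hψ, hr, -⟩ := exists_inv F hφ
  exact ⟨ψ, hψ, hr⟩

theorem isConj_trans {F : FusionSystem S} {P Q R : Subgroup Ω} (h : F.IsConj P Q) (h' : F.IsConj Q R) :
    F.IsConj P R := by
  obtain ⟨φ, hφ, rfl⟩ := h
  obtain ⟨ψ, hψ, rfl⟩ := h'
  refine ⟨_, F.comp_mem hφ hψ fun x => ⟨x, rfl⟩, ?_⟩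
  ext y
  constructor
  · rintro ⟨x, rfl⟩; exact ⟨_, rfl⟩
  · rintro ⟨⟨_, x, rfl⟩, rfl⟩; exact ⟨x, rfl⟩

theorem isConj_le_left {F : FusionSystem S} {P Q : Subgroup Ω} (h : F.IsConj P Q) : P ≤ S := by
  obtain ⟨φ, hφ, -⟩ := h; exact hom_le F hφ

theorem isConj_le_right {F : FusionSystem S} {P Q : Subgroup Ω} (h : F.IsConj P Q) : Q ≤ S :=
  isConj_le_left (isConj_symm h)

theorem isConj_card {F : FusionSystem S} {P Q : Subgroup Ω} (h : F.IsConj P Q) : Nat.card P = Nat.card Q := by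
  obtain ⟨φ, hφ, rfl⟩ := h
  exact Nat.card_congr (MonoidHom.ofInjective (F.injective_of_mem hφ)).toEquiv

theorem isConj_map_conj (F : FusionSystem S) {P : Subgroup Ω} {g : Ω} (hP : P ≤ S) (hg : g ∈ S) :
    F.IsConj P (P.map (MulAut.conj g).toMonoidHom) :=
  ⟨_, F.conj_mem hP hg, conjHom_range P g⟩

theorem isCentric_isConj {F : FusionSystem S} {P Q : Subgroup Ω} (hP : F.IsCentric P) (h : F.IsConj P Q) :
    F.IsCentric Q :=
  ⟨isConj_le_right h, fun R hR => hP.2 R (isConj_trans h hR)⟩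

/-! ### Automorphism groups -/

theorem autGroup_set_one (F : FusionSystem S) {P : Subgroup Ω} (hP : P ≤ S) :
    P.subtype.comp (1 : MulAut P).toMonoidHom ∈ F.Hom P :=
  hom_congr F (subtype_mem F hP) fun _ => rfl

theorem mem_autGroup_iff (F : FusionSystem S) {P : Subgroup Ω} (hP : P ≤ S) (α : MulAut P) :
    α ∈ F.autGroup P ↔ P.subtype.comp α.toMonoidHom ∈ F.Hom P := by
  refine ⟨fun h => ?_, fun h => Subgroup.subset_closure h⟩
  induction h using Subgroup.closure_induction with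
  | mem x hx => exact hx
  | one => exact autGroup_set_one F hP
  | mul a b _ _ ha hb =>
    exact hom_congr F (F.comp_mem hb ha fun x => (b x).2) fun _ => rfl
  | inv a _ ha =>
    obtain ⟨ψ, hψ, -, h1, -⟩ := exists_inv F ha
    have hle : P ≤ (P.subtype.comp a.toMonoidHom).range := fun x hx =>
      ⟨a⁻¹ ⟨x, hx⟩, congrArg Subtype.val (a.apply_symm_apply ⟨x, hx⟩)⟩
    refine hom_congr F (restrict_mem F hψ hle) fun x => ?_
    have hx : ((a (a⁻¹ x) : P) : Ω) = x := congrArg Subtype.val (a.apply_symm_apply x)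
    have := h1 (a⁻¹ x) ⟨a⁻¹ x, rfl⟩
    refine this.symm.trans ?_
    exact apply_congr ψ hx _ _

theorem autGroup_apply_mem_hom (F : FusionSystem S) {P : Subgroup Ω} (hP : P ≤ S) {α : MulAut P}
    (h : α ∈ F.autGroup P) : ∃ φ ∈ F.Hom P, φ.range = P ∧ ∀ x, φ x = α x :=
  ⟨_, (mem_autGroup_iff F hP α).1 h, by
    ext y
    exact ⟨fun ⟨x, hx⟩ => hx ▸ (α x).2, fun hy => ⟨α.symm ⟨y, hy⟩, by simp⟩⟩, fun _ => rfl⟩

theorem exists_autGroup_of_range (F : FusionSystem S) {P : Subgroup Ω} {φ : P →* Ω} (hφ : φ ∈ F.Hom P)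
    (hr : φ.range = P) : ∃ α ∈ F.autGroup P, ∀ x : P, ((α x : P) : Ω) = φ x := by
  refine ⟨(MonoidHom.ofInjective (F.injective_of_mem hφ)).trans (MulEquiv.subgroupCongr hr), ?_, fun x => rfl⟩
  exact Subgroup.subset_closure (hom_congr F hφ fun _ => rfl)

theorem autGroup_eq_bot (F : FusionSystem S) {P : Subgroup Ω} (hP : ¬ P ≤ S) : F.autGroup P = ⊥ := by
  rw [autGroup, Subgroup.closure_eq_bot_iff]
  exact fun α hα => absurd (hom_le F hα) hP

theorem mem_autInducedBy_iff {K P : Subgroup Ω} (α : MulAut P) :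
    α ∈ autInducedBy K P ↔ ∃ g ∈ K, ∀ x : P, ((α x : P) : Ω) = g * (x : Ω) * g⁻¹ := by
  refine ⟨fun h => ?_, fun h => Subgroup.subset_closure h⟩
  induction h using Subgroup.closure_induction with
  | mem x hx => exact hx
  | one => exact ⟨1, K.one_mem, fun x => by simp⟩
  | mul a b _ _ ha hb =>
    obtain ⟨g, hg, ha⟩ := ha
    obtain ⟨k, hk, hb⟩ := hb
    exact ⟨g * k, K.mul_mem hg hk, fun x => by simp [ha, hb, mul_assoc]⟩
  | inv a _ ha =>
    obtain ⟨g, hg, ha⟩ := ha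
    refine ⟨g⁻¹, K.inv_mem hg, fun x => ?_⟩
    have := ha (a⁻¹ x)
    rw [show a (a⁻¹ x) = x from a.apply_symm_apply x] at this
    rw [this]; group

theorem mem_normalizer_of_conj_mem {P : Subgroup Ω} (g : Ω) (h : ∀ x : Ω, x ∈ P → g * x * g⁻¹ ∈ P)
    (h' : ∀ x : Ω, x ∈ P → g⁻¹ * x * g ∈ P) : g ∈ Subgroup.normalizer (P : Set Ω) := by
  rw [Subgroup.mem_normalizer_iff]
  refine fun x => ⟨h x, fun hx => ?_⟩
  simpa [mul_assoc] using h' _ hx

theorem mem_normalizer_of_autInduced {P : Subgroup Ω} {α : MulAut P} {g : Ω}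
    (h : ∀ x : P, ((α x : P) : Ω) = g * (x : Ω) * g⁻¹) : g ∈ Subgroup.normalizer (P : Set Ω) := by
  refine mem_normalizer_of_conj_mem g (fun x hx => ?_) fun x hx => ?_
  · rw [← h ⟨x, hx⟩]; exact (α _).2
  · have := h (α.symm ⟨x, hx⟩)
    rw [α.apply_symm_apply] at this
    simp only at this
    rw [show g⁻¹ * x * g = (α.symm ⟨x, hx⟩ : P) by
      conv_lhs => rw [this]
      group]
    exact (α.symm _).2

/-- Conjugation by an element of the normalizer, as an automorphism. -/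
theorem exists_conjAut {K P : Subgroup Ω} {g : Ω} (hg : g ∈ K) (hn : g ∈ Subgroup.normalizer (P : Set Ω)) :
    ∃ α ∈ autInducedBy K P, ∀ x : P, ((α x : P) : Ω) = g * (x : Ω) * g⁻¹ :=
  ⟨P.normalizerMonoidHom ⟨g, hn⟩, (mem_autInducedBy_iff _).2 ⟨g, hg, fun _ => rfl⟩, fun _ => rfl⟩

theorem autInducedBy_mono {K L P : Subgroup Ω} (h : K ≤ L) : autInducedBy K P ≤ autInducedBy L P :=
  fun α hα => by
    obtain ⟨g, hg, he⟩ := (mem_autInducedBy_iff α).1 hα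
    exact (mem_autInducedBy_iff α).2 ⟨g, h hg, he⟩

theorem autInducedBy_le_autGroup (F : FusionSystem S) {P : Subgroup Ω} (hP : P ≤ S) :
    autInducedBy S P ≤ F.autGroup P := fun α hα => by
  obtain ⟨g, hg, he⟩ := (mem_autInducedBy_iff α).1 hα
  exact (mem_autGroup_iff F hP α).2 (hom_congr F (F.conj_mem hP hg) he)

theorem inn_eq_autInducedBy_self (P : Subgroup Ω) : Inn P = autInducedBy P P := by
  ext α
  rw [mem_autInducedBy_iff]
  constructor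
  · rintro ⟨g, rfl⟩; exact ⟨g, g.2, fun _ => rfl⟩
  · rintro ⟨g, hg, he⟩
    exact ⟨⟨g, hg⟩, MulEquiv.ext fun x => Subtype.ext (he x).symm⟩

theorem inn_le_autInducedBy {K P : Subgroup Ω} (h : P ≤ K) : Inn P ≤ autInducedBy K P :=
  (inn_eq_autInducedBy_self P).le.trans (autInducedBy_mono h)

theorem inn_le_autGroup (F : FusionSystem S) {P : Subgroup Ω} (hP : P ≤ S) : Inn P ≤ F.autGroup P :=
  (inn_le_autInducedBy hP).trans (autInducedBy_le_autGroup F hP)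

/-! ### Finiteness -/

theorem setOf_le_finite [Finite S] : {Q : Subgroup Ω | Q ≤ S}.Finite := by
  refine Set.Finite.subset (Set.finite_range fun A : Subgroup S => A.map S.subtype) fun Q hQ => ?_
  exact ⟨Q.subgroupOf S, Subgroup.map_subgroupOf_eq_of_le hQ⟩

theorem finite_of_le [Finite S] {P : Subgroup Ω} (hP : P ≤ S) : Finite P :=
  Finite.of_injective _ (Subgroup.inclusion_injective hP)

theorem isPGroup_of_le {p : ℕ} (hS : IsPGroup p S) {P : Subgroup Ω} (hP : P ≤ S) : IsPGroup p P :=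
  hS.to_le hP

theorem normalizerIn_le (S P : Subgroup Ω) : normalizerIn S P ≤ S := inf_le_left

theorem centralizerIn_le (S P : Subgroup Ω) : centralizerIn S P ≤ S := inf_le_left

theorem centralizerIn_le_normalizerIn (S P : Subgroup Ω) : centralizerIn S P ≤ normalizerIn S P :=
  inf_le_inf_left _ (Subgroup.centralizer_le_normalizer _)

theorem le_normalizerIn {P : Subgroup Ω} (hP : P ≤ S) : P ≤ normalizerIn S P :=
  le_inf hP Subgroup.le_normalizer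

/-! ### Strongly closed, weakly closed and normal subgroups -/

theorem stronglyClosed_weaklyClosed {F : FusionSystem S} {P : Subgroup Ω} [Finite S]
    (h : F.StronglyClosed P) : F.WeaklyClosed P := by
  refine ⟨h.1, fun φ hφ => ?_⟩
  have := finite_of_le h.1
  refine Subgroup.eq_of_le_of_card_ge ?_ ?_
  · rintro _ ⟨x, rfl⟩; exact h.2 P le_rfl φ hφ x
  · exact (isConj_card ⟨φ, hφ, rfl⟩).le

theorem stronglyClosed_apply_mem {F : FusionSystem S} {T R : Subgroup Ω} (h : F.StronglyClosed T)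
    {φ : R →* Ω} (hφ : φ ∈ F.Hom R) (x : R) (hx : (x : Ω) ∈ T) : φ x ∈ T := by
  have := h.2 (R ⊓ T) inf_le_right _ (restrict_mem F hφ inf_le_left) ⟨x, x.2, hx⟩
  exact this

theorem stronglyClosed_le_normalizer {F : FusionSystem S} {T : Subgroup Ω} (h : F.StronglyClosed T) :
    S ≤ Subgroup.normalizer (T : Set Ω) := fun g hg => by
  refine mem_normalizer_of_conj_mem g (fun x hx => ?_) fun x hx => ?_
  · exact stronglyClosed_apply_mem h (F.conj_mem h.1 hg) ⟨x, hx⟩ hx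
  · simpa using stronglyClosed_apply_mem h (F.conj_mem h.1 (S.inv_mem hg)) ⟨x, hx⟩ hx

theorem isNormal_bot (F : FusionSystem S) : F.IsNormal ⊥ := by
  refine ⟨bot_le, fun P φ hφ => ⟨φ.comp (Subgroup.inclusion (sup_bot_eq P).le),
    restrict_mem F hφ _, fun x => rfl, ?_⟩⟩
  simp

theorem isCentral_bot (F : FusionSystem S) : F.IsCentral ⊥ := by
  refine ⟨bot_le, fun P φ hφ => ⟨φ.comp (Subgroup.inclusion (sup_bot_eq P).le),
    restrict_mem F hφ _, fun x => rfl, fun x => ?_⟩⟩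
  have hx : (x : Ω) = 1 := Subgroup.mem_bot.1 x.2
  have h1 : x = 1 := Subtype.ext hx
  rw [h1]; simp

theorem isNormal_extend {F : FusionSystem S} {Q P : Subgroup Ω} (h : F.IsNormal Q) {φ : P →* Ω}
    (hφ : φ ∈ F.Hom P) : ∃ ψ ∈ F.Hom (P ⊔ Q),
      (∀ (x : Ω) (hx : x ∈ P) (hx' : x ∈ P ⊔ Q), ψ ⟨x, hx'⟩ = φ ⟨x, hx⟩) ∧
      ∀ (y : Ω), y ∈ Q ↔ ∃ (x : Ω) (hx : x ∈ P ⊔ Q), x ∈ Q ∧ ψ ⟨x, hx⟩ = y := by
  obtain ⟨ψ, hψ, h1, h2⟩ := h.2 P φ hφ
  exact ⟨ψ, hψ, fun x hx _ => h1 ⟨x, hx⟩, fun y => by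
    rw [← mem_map_subgroupOf ψ y, h2]⟩

theorem isNormal_stronglyClosed {F : FusionSystem S} {Q : Subgroup Ω} (h : F.IsNormal Q) :
    F.StronglyClosed Q := by
  refine ⟨h.1, fun R hR φ hφ x => ?_⟩
  obtain ⟨ψ, -, h1, h2⟩ := isNormal_extend h hφ
  rw [← h1 x x.2 (Subgroup.mem_sup_left x.2)]
  exact (h2 _).2 ⟨x, Subgroup.mem_sup_left x.2, hR x.2, rfl⟩

theorem isNormal_le_normalizer {F : FusionSystem S} {Q : Subgroup Ω} (h : F.IsNormal Q) :
    S ≤ Subgroup.normalizer (Q : Set Ω) := stronglyClosed_le_normalizer (isNormal_stronglyClosed h)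

theorem isCentral_extend {F : FusionSystem S} {Q P : Subgroup Ω} (h : F.IsCentral Q) {φ : P →* Ω}
    (hφ : φ ∈ F.Hom P) : ∃ ψ ∈ F.Hom (P ⊔ Q),
      (∀ (x : Ω) (hx : x ∈ P) (hx' : x ∈ P ⊔ Q), ψ ⟨x, hx'⟩ = φ ⟨x, hx⟩) ∧
      ∀ (x : Ω) (hx : x ∈ P ⊔ Q), x ∈ Q → ψ ⟨x, hx⟩ = x := by
  obtain ⟨ψ, hψ, h1, h2⟩ := h.2 P φ hφ
  exact ⟨ψ, hψ, fun x hx _ => h1 ⟨x, hx⟩, fun x _ hx => h2 ⟨x, hx⟩⟩

theorem isCentral_isNormal {F : FusionSystem S} {Q : Subgroup Ω} (h : F.IsCentral Q) : F.IsNormal Q := by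
  refine ⟨h.1, fun P φ hφ => ?_⟩
  obtain ⟨ψ, hψ, h1, h2⟩ := isCentral_extend h hφ
  refine ⟨ψ, hψ, fun x => h1 x x.2 _, ?_⟩
  ext y
  rw [mem_map_subgroupOf]
  exact ⟨fun ⟨x, hP, hQ, he⟩ => by rw [← he, h2 x hP hQ]; exact hQ,
    fun hy => ⟨y, Subgroup.mem_sup_right hy, hy, h2 y _ hy⟩⟩

theorem isNormal_sup {F : FusionSystem S} {Q₁ Q₂ : Subgroup Ω} (h₁ : F.IsNormal Q₁) (h₂ : F.IsNormal Q₂) :
    F.IsNormal (Q₁ ⊔ Q₂) := by
  refine ⟨sup_le h₁.1 h₂.1, fun P φ hφ => ?_⟩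
  obtain ⟨ψ₁, hψ₁, ha, hb⟩ := isNormal_extend h₁ hφ
  obtain ⟨ψ₂, hψ₂, hc, hd⟩ := isNormal_extend h₂ hψ₁
  have hle : P ⊔ (Q₁ ⊔ Q₂) ≤ P ⊔ Q₁ ⊔ Q₂ := (sup_assoc P Q₁ Q₂).ge
  refine ⟨ψ₂.comp (Subgroup.inclusion hle), restrict_mem F hψ₂ hle, fun x => ?_, ?_⟩
  · exact (hc x (Subgroup.mem_sup_left x.2) _).trans (ha x x.2 _)
  · have key : ∀ (A : Subgroup Ω) (hA : A ≤ P ⊔ Q₁ ⊔ Q₂),
        (A.subgroupOf (P ⊔ Q₁ ⊔ Q₂)).map ψ₂ = (ψ₂.comp (Subgroup.inclusion hA)).range :=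
      fun A hA => (range_restrict ψ₂ hA).symm
    rw [← range_restrict _ (le_sup_right : Q₁ ⊔ Q₂ ≤ P ⊔ (Q₁ ⊔ Q₂)),
      MonoidHom.comp_assoc, show (Subgroup.inclusion hle).comp (Subgroup.inclusion le_sup_right) =
      Subgroup.inclusion (le_sup_right.trans hle) from rfl, ← key,
      Subgroup.subgroupOf_sup (le_trans le_sup_right le_sup_left) le_sup_right, Subgroup.map_sup]
    congr 1
    · ext y
      rw [mem_map_subgroupOf, hb y]
      constructor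
      · rintro ⟨x, hx, hxQ, he⟩
        exact ⟨x, Subgroup.mem_sup_right hxQ, hxQ, (hc x (Subgroup.mem_sup_right hxQ) hx).symm.trans he⟩
      · rintro ⟨x, hx, hxQ, he⟩
        exact ⟨x, Subgroup.mem_sup_left hx, hxQ, (hc x hx _).trans he⟩
    · ext y
      rw [mem_map_subgroupOf, hd y]

theorem isCentral_sup {F : FusionSystem S} {Q₁ Q₂ : Subgroup Ω} (h₁ : F.IsCentral Q₁) (h₂ : F.IsCentral Q₂) :
    F.IsCentral (Q₁ ⊔ Q₂) := by
  refine ⟨sup_le h₁.1 h₂.1, fun P φ hφ => ?_⟩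
  obtain ⟨ψ₁, hψ₁, ha, hb⟩ := isCentral_extend h₁ hφ
  obtain ⟨ψ₂, hψ₂, hc, hd⟩ := isCentral_extend h₂ hψ₁
  have hle : P ⊔ (Q₁ ⊔ Q₂) ≤ P ⊔ Q₁ ⊔ Q₂ := (sup_assoc P Q₁ Q₂).ge
  refine ⟨ψ₂.comp (Subgroup.inclusion hle), restrict_mem F hψ₂ hle, fun x => ?_, fun x => ?_⟩
  · exact (hc x (Subgroup.mem_sup_left x.2) _).trans (ha x x.2 _)
  · have hsub : (Q₁ ⊔ Q₂ : Subgroup Ω) ≤ ((MonoidHom.eqLocus ψ₂ (P ⊔ Q₁ ⊔ Q₂).subtype)).map
        (P ⊔ Q₁ ⊔ Q₂).subtype := by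
      refine sup_le (fun y hy => ?_) fun y hy => ?_
      · exact ⟨⟨y, Subgroup.mem_sup_left (Subgroup.mem_sup_right hy)⟩,
          (hc y (Subgroup.mem_sup_right hy) _).trans (hb y _ hy), rfl⟩
      · exact ⟨⟨y, Subgroup.mem_sup_right hy⟩, hd y _ hy, rfl⟩
    obtain ⟨z, hz, hzx⟩ := hsub x.2
    show ψ₂ _ = _
    rw [show (Subgroup.inclusion hle (Subgroup.inclusion le_sup_right x)) = z from Subtype.ext hzx.symm]
    exact hz.trans hzx

theorem sSup_induction_finite {p : Subgroup Ω → Prop} {s : Set (Subgroup Ω)} (hs : s.Finite) (hbot : p ⊥)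
    (hsup : ∀ a b, p a → p b → p (a ⊔ b)) (hp : ∀ a ∈ s, p a) : p (sSup s) := by
  revert hp
  induction s, hs using Set.Finite.induction_on with
  | empty => intro _; simpa using hbot
  | insert _ _ ih =>
    intro hp
    rw [sSup_insert]
    exact hsup _ _ (hp _ (Set.mem_insert _ _)) (ih fun b hb => hp b (Set.mem_insert_of_mem _ hb))

theorem core_isNormal [Finite S] (F : FusionSystem S) : F.IsNormal F.core :=
  sSup_induction_finite (setOf_le_finite.subset fun _ h => h.1) (isNormal_bot F)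
    (fun _ _ => isNormal_sup) fun _ h => h

theorem center_isCentral [Finite S] (F : FusionSystem S) : F.IsCentral F.center :=
  sSup_induction_finite (setOf_le_finite.subset fun _ h => h.1) (isCentral_bot F)
    (fun _ _ => isCentral_sup) fun _ h => h

theorem isNormal_le_core {F : FusionSystem S} {Q : Subgroup Ω} (h : F.IsNormal Q) : Q ≤ F.core :=
  le_sSup h

theorem isCentral_le_center {F : FusionSystem S} {Q : Subgroup Ω} (h : F.IsCentral Q) : Q ≤ F.center :=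
  le_sSup h

/-! ### Automorphism restrictions -/

theorem exists_restrict_aut (F : FusionSystem S) {P Q : Subgroup Ω} (hQP : Q ≤ P) {φ : P →* Ω}
    (hφ : φ ∈ F.Hom P) (h : (Q.subgroupOf P).map φ = Q) :
    ∃ α ∈ F.autGroup Q, ∀ x : Q, ((α x : Q) : Ω) = φ (Subgroup.inclusion hQP x) :=
  exists_autGroup_of_range F (restrict_mem F hφ hQP) (by rw [range_restrict, h])

theorem autGroup_mono {T : Subgroup Ω} {E : FusionSystem T} {F : FusionSystem S} (h : E.IsSubsystemOf F)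
    (P : Subgroup Ω) : E.autGroup P ≤ F.autGroup P :=
  Subgroup.closure_mono fun _ hα => h P hα

theorem subsystem_le {T : Subgroup Ω} {E : FusionSystem T} {F : FusionSystem S} (h : E.IsSubsystemOf F) :
    T ≤ S :=
  hom_le F (h T (subtype_mem E le_rfl))

end Cfsg.Agent.FusionSys
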