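import Cfsg.Agent.Lib.Fusion.LocalEngines
import Cfsg.Agent.Lib.Functors.Induced
import Cfsg.Agent.Lib.Fusion.Group

/-!
# Functors on Sylow subgroups of local models; centres of normalizer systems
-/

set_option autoImplicit false

namespace Cfsg.Agent.FusionSys

open Cfsg Cfsg.FusionSystem

universe u

variable {Ω : Type u} [Group Ω] {S : Subgroup Ω} [Finite S] {p : ℕ} [hp : Fact p.Prime] {F : FusionSystem S}
  {W : ∀ (Q : Type u) [Group Q], Subgroup Q}

omit [Finite S] hp in
theorem inducedFunctor_le (T : Subgroup Ω) : inducedFunctor W T ≤ T := Subgroup.map_subtype_le _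

omit [Finite S] hp in
theorem inducedFunctor_congr {T T' : Subgroup Ω} (h : T = T') : inducedFunctor W T = inducedFunctor W T' := h ▸ rfl

theorem inducedFunctor_conj_mem (hS : IsPGroup p S) (hW : IsCharPFunctor.{u} p W) {T : Subgroup Ω} (hT : T ≤ S)
    {g : Ω} (hg : g ∈ Subgroup.normalizer (T : Set Ω)) {x : Ω} (hx : x ∈ inducedFunctor W T) :
    g * x * g⁻¹ ∈ inducedFunctor W T := by
  haveI := finite_of_le (S := S) hT
  obtain ⟨a, -, ha⟩ := exists_conjAut (K := (⊤ : Subgroup Ω)) (P := T) (Subgroup.mem_top g) hg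
  obtain ⟨y, hy, rfl⟩ := hx
  refine ⟨a y, ?_, ha y⟩
  rw [← hW.2 T T (hS.to_le hT) a]
  exact ⟨y, hy, rfl⟩

theorem normalizerIn_le_inducedFunctor (hS : IsPGroup p S) (hW : IsCharPFunctor.{u} p W) {T : Subgroup Ω}
    (hT : T ≤ S) : normalizerIn S T ≤ normalizerIn S (inducedFunctor W T) := fun g hg =>
  ⟨hg.1, mem_normalizer_of_conj_mem g (fun _ hx => inducedFunctor_conj_mem hS hW hT hg.2 hx) fun x hx => by
    simpa using inducedFunctor_conj_mem hS hW hT (Subgroup.inv_mem _ hg.2) hx⟩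

theorem card_normalizerIn_lt_inducedFunctor (hS : IsPGroup p S) (hW : IsCharPFunctor.{u} p W) {T : Subgroup Ω}
    (hT : T < S) : Nat.card T < Nat.card (normalizerIn S (inducedFunctor W T)) := by
  haveI : Finite (normalizerIn S (inducedFunctor W T)) := finite_of_le (normalizerIn_le _ _)
  haveI : Finite (normalizerIn S T) := finite_of_le (normalizerIn_le _ _)
  refine lt_of_lt_of_le ?_ (Subgroup.card_le_of_le (normalizerIn_le_inducedFunctor hS hW hT.le))
  have h := lt_normalizerIn hS hT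
  exact lt_of_le_of_ne (Subgroup.card_le_of_le h.le) fun e => h.ne (Subgroup.eq_of_le_of_card_ge h.le e.ge)

theorem normalizerIn_inducedFunctor_self (hS : IsPGroup p S) (hW : IsCharPFunctor.{u} p W) :
    normalizerIn S (inducedFunctor W S) = S :=
  le_antisymm (normalizerIn_le _ _) ((le_normalizerIn le_rfl).trans (normalizerIn_le_inducedFunctor hS hW le_rfl))

theorem inducedFunctor_fullyNormalized (hS : IsPGroup p S) (hW : IsCharPFunctor.{u} p W) :
    F.IsFullyNormalized (inducedFunctor W S) :=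
  ⟨inducedFunctor_le S, fun Q _ => (Subgroup.card_le_of_le (normalizerIn_le S Q)).trans_eq
    (by rw [normalizerIn_inducedFunctor_self hS hW])⟩

theorem inducedFunctor_map (hS : IsPGroup p S) (hW : IsCharPFunctor.{u} p W) {T : Subgroup Ω} (hT : T ≤ S)
    {L : Type u} [Group L] (ι : T →* L) (hι : Function.Injective ι) :
    inducedFunctor W ι.range = ((inducedFunctor W T).subgroupOf T).map ι := by
  haveI := finite_of_le (S := S) hT
  rw [show (inducedFunctor W T).subgroupOf T = W T from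
    Subgroup.comap_map_eq_self_of_injective T.subtype_injective _, inducedFunctor,
    ← hW.2 T ι.range (hS.to_le hT) (MonoidHom.ofInjective hι), Subgroup.map_map]
  rfl

omit [Finite S] hp in
/-- An automorphism of `Q` is a map of the normalizer system of `Q`. -/
theorem aut_mem_normalizerSystem {Q : Subgroup Ω} (hQ : Q ≤ S) {N : FusionSystem (normalizerIn S Q)}
    (hN : F.IsNormalizerSystem Q N) {α : MulAut Q} (hα : α ∈ F.autGroup Q) : α ∈ N.autGroup Q := by
  refine Subgroup.subset_closure ?_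
  have hφ := (mem_autGroup_iff F hQ α).1 hα
  show Q.subtype.comp α.toMonoidHom ∈ N.Hom Q
  rw [hN Q]
  refine ⟨hφ, le_normalizerIn hQ, fun x => le_normalizerIn hQ (α x).2, _,
    restrict_mem F hφ (sup_le le_rfl le_rfl : Q ⊔ Q ≤ Q), fun x => rfl, ?_⟩
  rw [map_subgroupOf_eq_iff _ le_sup_right]
  exact ⟨fun x => (α ⟨x.1, x.2⟩).2, fun y hy => ⟨α⁻¹ ⟨y, hy⟩,
    congrArg Subtype.val (α.apply_symm_apply ⟨y, hy⟩)⟩⟩

theorem normalizerSystem_finite_center {Q : Subgroup Ω} (N : FusionSystem (normalizerIn S Q)) :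
    N.IsCentral N.center :=
  haveI : Finite (normalizerIn S Q) := finite_of_le (normalizerIn_le S Q)
  center_isCentral N

/-- An automorphism of `Q` fixes the centre of the normalizer system of `Q`. -/
theorem aut_fix_center {Q : Subgroup Ω} (hQ : Q ≤ S) {N : FusionSystem (normalizerIn S Q)}
    (hN : F.IsNormalizerSystem Q N) {z : Ω} (hz : z ∈ N.center) {α : MulAut Q} (hα : α ∈ F.autGroup Q)
    (hzQ : z ∈ Q) : ((α ⟨z, hzQ⟩ : Q) : Ω) = z := by
  have hφ := (mem_autGroup_iff N (le_normalizerIn hQ) α).1 (aut_mem_normalizerSystem hQ hN hα)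
  obtain ⟨ψ, -, h1, h2⟩ := isCentral_extend (normalizerSystem_finite_center N) hφ
  exact (h1 z hzQ (Subgroup.mem_sup_right hz)).symm.trans (h2 z (Subgroup.mem_sup_right hz) hz)

theorem center_le_normalizer_center (hS : IsPGroup p S) (hF : F.IsSaturated p) (hW : IsCharPFunctor.{u} p W)
    {N : FusionSystem (normalizerIn S (inducedFunctor W S))}
    (hN : F.IsNormalizerSystem (inducedFunctor W S) N) : F.center ≤ N.center := by
  haveI : Finite (normalizerIn S (inducedFunctor W S)) := finite_of_le (normalizerIn_le _ _)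
  have hNs := normalizerSystem_saturated hS hF (inducedFunctor_fullyNormalized hS hW) N hN
  refine isCentral_le_center ((isCentral_iff (hS.to_le (normalizerIn_le _ _)) hNs _).2
    ⟨((center_isCentral F).1).trans (normalizerIn_inducedFunctor_self hS hW).ge, fun x hx y hy => ?_⟩)
  obtain ⟨φ, hφ, rfl⟩ := hy
  rw [hN] at hφ
  exact ((isCentral_iff hS hF _).1 (center_isCentral F)).2 x hx _ ⟨φ, hφ.1, rfl⟩

theorem mem_centralizer_of_normalizer_center (hS : IsPGroup p S) (hW : IsCharPFunctor.{u} p W)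
    {N : FusionSystem (normalizerIn S (inducedFunctor W S))} {z : Ω} (hz : z ∈ N.center) :
    z ∈ S ∧ z ∈ Subgroup.centralizer (S : Set Ω) := by
  haveI : Finite (normalizerIn S (inducedFunctor W S)) := finite_of_le (normalizerIn_le _ _)
  have hzT := (center_isCentral N).1 hz
  refine ⟨normalizerIn_le _ _ hzT, Subgroup.mem_centralizer_iff.2 fun g hg => ?_⟩
  have hgT : g ∈ normalizerIn S (inducedFunctor W S) := (normalizerIn_inducedFunctor_self hS hW).ge hg
  have hφ := N.conj_mem (P := Subgroup.zpowers z) (Subgroup.zpowers_le.2 hzT) hgT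
  obtain ⟨ψ, -, h1, h2⟩ := isCentral_extend (center_isCentral N) hφ
  exact mul_inv_eq_iff_eq_mul.1
    ((h1 z (Subgroup.mem_zpowers z) (Subgroup.mem_sup_right hz)).symm.trans (h2 z (Subgroup.mem_sup_right hz) hz))

/-- `Z(N_F(W(S)))` is in `Z(F)` if weak closure holds in each local model. -/
theorem mem_center_of_functor (hS : IsPGroup p S) (hF : F.IsSaturated p) (hW : IsCharPFunctor.{u} p W)
    (hWZ : ∀ (Q : Type u) [Group Q] [Finite Q], IsPGroup p Q → Subgroup.center Q ≤ W Q)
    {N : FusionSystem (normalizerIn S (inducedFunctor W S))}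
    (hN : F.IsNormalizerSystem (inducedFunctor W S) N) {z : Ω} (hz : z ∈ N.center)
    (hgrp : ∀ (U : Subgroup Ω) (L : Type u) [Group L] [Finite L], F.IsCentric U → F.IsFullyNormalized U →
      ∀ (M : LocalModel F p U L) (P : Sylow p L), (P : Subgroup L) = M.ι.range → ∀ (h : z ∈ normalizerIn S U),
      M.ι ⟨z, h⟩ ∈ pCore p L → M.ι ⟨z, h⟩ ∈ (P : Subgroup L) ⊓ Subgroup.centralizer ((P : Subgroup L) : Set L) →
      (∀ g ∈ Subgroup.normalizer ((inducedFunctor W (P : Subgroup L)) : Set L),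
        g * M.ι ⟨z, h⟩ * g⁻¹ = M.ι ⟨z, h⟩) →
      ∀ g : L, g * M.ι ⟨z, h⟩ * g⁻¹ = M.ι ⟨z, h⟩) :
    z ∈ F.center := by
  obtain ⟨hzS, hzC⟩ := mem_centralizer_of_normalizer_center hS hW hz
  refine mem_center_of_local hS hF hzS hzC ?_
  intro U L _ hUc hU M hzU hIH h g
  haveI := M.finL
  obtain ⟨P, hP⟩ := M.sylow
  haveI : Finite (normalizerIn S U) := finite_of_le (normalizerIn_le S U)
  have hcore : M.ι ⟨z, h⟩ ∈ pCore p L := M.image_le ⟨_, hzU, rfl⟩
  have hcent : M.ι ⟨z, h⟩ ∈ (P : Subgroup L) ⊓ Subgroup.centralizer ((P : Subgroup L) : Set L) := by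
    rw [hP]
    refine ⟨⟨_, rfl⟩, Subgroup.mem_centralizer_iff.2 ?_⟩
    rintro _ ⟨y, rfl⟩
    rw [← map_mul, ← map_mul]
    exact congrArg M.ι (Subtype.ext (Subgroup.mem_centralizer_iff.1 hzC y (normalizerIn_le _ _ y.2)))
  refine hgrp U L hUc hU M P hP h hcore hcent (fun n hn => ?_) g
  have hzY : z ∈ inducedFunctor W (normalizerIn S U) := ⟨⟨z, h⟩, hWZ _ (hS.to_le (normalizerIn_le S U)) (Subgroup.mem_center_iff.2 fun y =>
    Subtype.ext (Subgroup.mem_centralizer_iff.1 hzC y (normalizerIn_le _ _ y.2))), rfl⟩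
  rw [hP, inducedFunctor_map hS hW (normalizerIn_le S U) M.ι M.inj] at hn
  obtain ⟨α, hα, hαe⟩ := M.exists_aut (inducedFunctor_le _) hn
  have hfix : ((α ⟨z, hzY⟩ : inducedFunctor W (normalizerIn S U)) : Ω) = z := by
    rcases eq_or_lt_of_le (normalizerIn_le S U) with he | hlt
    · have key : ∀ (Y : Subgroup Ω), Y = inducedFunctor W S → ∀ α ∈ F.autGroup Y, ∀ hzY : z ∈ Y,
          ((α ⟨z, hzY⟩ : Y) : Ω) = z := by
        rintro Y rfl α hα hzY
        exact aut_fix_center (inducedFunctor_le S) hN hz hα hzY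
      exact key _ (inducedFunctor_congr he) α hα hzY
    · exact hIH _ ((inducedFunctor_le _).trans (normalizerIn_le S U))
        (card_normalizerIn_lt_inducedFunctor hS hW hlt) α hα hzY
  refine (hαe ⟨z, hzY⟩).symm.trans ?_
  exact congrArg M.ι (Subtype.ext hfix)

end Cfsg.Agent.FusionSys
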