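import Cfsg.Agent.Lib.Fusion.FunctorControl
import Cfsg.Agent.Lib.Fusion.FunctorCenter
import Cfsg.Agent.Lib.Fusion.Hyperfocal
import Cfsg.Agent.Lib.Functors.TransferApps
import Cfsg.Agent.Lib.Transfer.Hall

/-!
# Self-centralizing functors controlling transfer

A functor with `C(W(Q)) ≤ W(Q)` that controls transfer in finite groups controls it in saturated fusion systems.
-/

set_option autoImplicit false
set_option linter.style.haveILetI false

namespace Cfsg.Agent.FusionSys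

open Cfsg Cfsg.FusionSystem
open scoped commutatorElement

universe u

variable {Ω : Type u} [Group Ω] {p : ℕ} [hp : Fact p.Prime]
  {W : ∀ (Q : Type u) [Group Q], Subgroup Q}

/-- `x` and `φ x` agree modulo `D`. -/
def MovesIn (D : Subgroup Ω) {P : Subgroup Ω} (φ : P →* Ω) : Prop := ∀ x : P, (x : Ω)⁻¹ * φ x ∈ D

/-- The maps agreeing with the identity modulo `D`. -/
def modSystem {S : Subgroup Ω} (F : FusionSystem S) {D : Subgroup Ω} (hD : ⁅S, S⁆ ≤ D) : FusionSystem S :=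
  relSystem F (fun x y => x⁻¹ * y ∈ D)
    (fun x hx g hg => by
      show x⁻¹ * (g * x * g⁻¹) ∈ D
      have h := hD (Subgroup.commutator_mem_commutator (S.inv_mem hx) hg)
      rwa [show x⁻¹ * (g * x * g⁻¹) = ⁅x⁻¹, g⁆ by rw [commutatorElement_def]; group])
    (fun x _ y _ h => by
      have h' := D.inv_mem h
      rwa [mul_inv_rev, inv_inv] at h')
    (fun x _ y _ z _ h h' => by
      have h2 := D.mul_mem h h'
      rwa [mul_assoc, mul_inv_cancel_left] at h2)

theorem inducedFunctor_not_le (hW : IsCharPFunctor.{u} p W)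
    (hcent : ∀ (Q : Type u) [Group Q] [Finite Q], IsPGroup p Q → Subgroup.centralizer (W Q : Set Q) ≤ W Q)
    {T Q : Subgroup Ω} [Finite T] (hT : IsPGroup p T) {c : Ω} (hcT : c ∈ T)
    (hc : c ∈ Subgroup.centralizer (Q : Set Ω)) (hcQ : c ∉ Q) : ¬ inducedFunctor W T ≤ Q := fun hle =>
  hcQ (hle ⟨⟨c, hcT⟩, hcent T hT (Subgroup.mem_centralizer_iff.2 fun y hy =>
    Subtype.ext (Subgroup.mem_centralizer_iff.1 hc _ (hle ⟨y, hy, rfl⟩))), rfl⟩)

theorem mapsTo_inducedFunctor_normalizer (hW : IsCharPFunctor.{u} p W) {T : Subgroup Ω} [Finite T]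
    (hT : IsPGroup p T) {n : Ω} (hn : n ∈ Subgroup.normalizer (T : Set Ω)) :
    n ∈ Subgroup.normalizer (inducedFunctor W T : Set Ω) := by
  have key : ∀ m ∈ Subgroup.normalizer (T : Set Ω), ∀ x ∈ inducedFunctor W T, m * x * m⁻¹ ∈ inducedFunctor W T := by
    intro m hm
    obtain ⟨e, -, he⟩ := exists_conjAut (K := (⊤ : Subgroup Ω)) (P := T) (Subgroup.mem_top m) hm
    rintro _ ⟨y, hy, rfl⟩
    exact ⟨e y, (hW.2 T T hT e).le ⟨y, hy, rfl⟩, he y⟩
  exact mem_normalizer_of_conj_mem n (key n hn) fun x hx => by simpa using key n⁻¹ (Subgroup.inv_mem _ hn) x hx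

/-- Transfer control in a system with a model. -/
theorem movesIn_of_model (hW : IsCharPFunctor.{u} p W)
    (hctl : ∀ (G : Type u) [Group G] [Finite G], Functors.CtlTR p {W} G)
    {T : Subgroup Ω} [Finite T] {M : FusionSystem T} {L : Type u} [Group L] {ι : T →* L} (hL : M.IsModel p L ι)
    {D : Subgroup Ω} (hN : ∀ Y : Subgroup Ω, ∀ φ ∈ M.normalizerHom (inducedFunctor W T) Y, MovesIn D φ)
    {Y : Subgroup Ω} {φ : Y →* Ω} (hφ : φ ∈ M.Hom Y) : MovesIn D φ := by
  obtain ⟨hfin, ⟨hι, hr⟩, ⟨P, hP⟩, -⟩ := hL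
  haveI := hfin
  intro x
  have hY := hom_le M hφ
  obtain ⟨g, hg⟩ := (hr Y hY φ fun y => hom_apply_mem M hφ y).1 hφ
  set a : T := ⟨x, hY x.2⟩
  set b : T := ⟨φ x, hom_apply_mem M hφ x⟩
  have hab : ι (a⁻¹ * b) ∈ (P : Subgroup L) ⊓ commutator L := by
    refine ⟨hP.ge ⟨_, rfl⟩, ?_⟩
    rw [map_mul, map_inv, hg x, show (ι a)⁻¹ * (g * ι a * g⁻¹) = ⁅(ι a)⁻¹, g⁆ by rw [commutatorElement_def]; group]
    exact Subgroup.commutator_mem_commutator (Subgroup.mem_top _) (Subgroup.mem_top _)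
  rw [Functors.inf_commutator_eq_of_ctl hW (hctl L) P] at hab
  -- the value of the functor
  set e : T ≃* (P : Subgroup L) := (MonoidHom.ofInjective hι).trans (MulEquiv.subgroupCongr hP.symm)
  have hTp : IsPGroup p T := P.2.of_equiv e.symm
  set Vt := inducedFunctor W T
  have hVT : Vt ≤ T := Subgroup.map_subtype_le _
  set N := Subgroup.normalizer ((inducedFunctor W (P : Subgroup L) : Subgroup L) : Set L) with hNdef
  have hWe : inducedFunctor W (P : Subgroup L) = (W T).map ι := by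
    show (W (P : Subgroup L)).map (P : Subgroup L).subtype = _
    rw [← hW.2 T _ hTp e, Subgroup.map_map]
    congr 1
  have hPN : (P : Subgroup L) ≤ N := by
    intro y hy
    have hn : y ∈ Subgroup.normalizer ((P : Subgroup L) : Set L) := Subgroup.le_normalizer hy
    exact mapsTo_inducedFunctor_normalizer hW P.2 hn
  set H : Sylow p N := P.subtype hPN with hH
  have hHeq : (H : Subgroup N) = (P : Subgroup L).subgroupOf N := P.coe_subtype hPN
  obtain ⟨habP, habN⟩ := Subgroup.mem_inf.1 hab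
  rw [← Subgroup.map_subtype_commutator] at habN
  obtain ⟨z, hz, hze⟩ := habN
  have hzf : z ∈ (H : Subgroup N).focalSubgroup := by
    rw [TransferHall.focal_eq (H : Subgroup N) (TransferHall.coprime_of_hall _ H.card_coprime_index)]
    refine ⟨hz, ?_⟩
    rw [hHeq]
    show z ∈ (P : Subgroup L).subgroupOf N
    refine Subgroup.mem_subgroupOf.2 ?_
    show N.subtype z ∈ (P : Subgroup L)
    rw [hze]
    exact habP
  have hle : (H : Subgroup N).focalSubgroup ≤ ((D.subgroupOf T).map ι).comap N.subtype := by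
    rw [Subgroup.focalSubgroup_def, Subgroup.closure_le]
    rintro _ ⟨hgH, y, hy, u, rfl⟩
    rw [hHeq] at hgH hy
    obtain ⟨t, ht⟩ := hP.le (Subgroup.mem_subgroupOf.1 hy)
    obtain ⟨c, hc⟩ := hP.le (Subgroup.mem_subgroupOf.1 hgH)
    -- the map on `⟨t⁻¹⟩ W(T)` induced by `u`
    set t' := t⁻¹ * c with ht'
    set P₂ := Subgroup.zpowers ((t⁻¹ : T) : Ω) ⊔ Vt with hP₂
    have hz2 : Subgroup.zpowers ((t⁻¹ : T) : Ω) ≤ T := Subgroup.zpowers_le.2 (t⁻¹ : T).2
    have hP₂T : P₂ ≤ T := sup_le hz2 hVT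
    let f : T →* L := (MulAut.conj (u : L)).toMonoidHom.comp ι
    have hVm : ∀ v : T, (v : Ω) ∈ Vt → ∃ w : T, (w : Ω) ∈ Vt ∧ f v = ι w := by
      rintro v ⟨v', hv', hvv⟩
      have h1 : ι v ∈ inducedFunctor W (P : Subgroup L) := by
        rw [hWe]; exact ⟨v', hv', congrArg ι (Subtype.ext hvv)⟩
      have h2 := (Subgroup.mem_normalizer_iff.1 u.2 _).1 h1
      rw [hWe] at h2
      obtain ⟨w, hw, hwe⟩ := h2
      exact ⟨w, ⟨w, hw, rfl⟩, hwe.symm⟩
    have htt : f t⁻¹ = ι t' := by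
      show (u : L) * ι t⁻¹ * (u : L)⁻¹ = ι (t⁻¹ * c)
      rw [map_mul, map_inv, ht, hc]
      show _ = (y : L)⁻¹ * ((y : L) * u * (y : L)⁻¹ * (u : L)⁻¹)
      simp only [mul_assoc, inv_mul_cancel_left]
    have hrange : P₂.subgroupOf T ≤ ι.range.comap f := by
      have : P₂ ≤ (ι.range.comap f).map T.subtype := by
        refine sup_le (Subgroup.zpowers_le.2 ⟨t⁻¹, ⟨t', htt.symm⟩, rfl⟩) fun v hv => ?_
        obtain ⟨w, -, hwe⟩ := hVm ⟨v, hVT hv⟩ hv
        exact ⟨⟨v, hVT hv⟩, ⟨w, hwe.symm⟩, rfl⟩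
      intro s hs
      obtain ⟨s', hs', hse⟩ := this hs
      rwa [← show s' = s from Subtype.ext hse]
    set eι := MonoidHom.ofInjective hι
    let ψ : P₂ →* Ω := T.subtype.comp (eι.symm.toMonoidHom.comp
      ((f.comp (Subgroup.inclusion hP₂T)).codRestrict ι.range fun s => hrange (x := ⟨s, hP₂T s.2⟩) s.2))
    have hψv : ∀ s : P₂, ι ⟨ψ s, SetLike.coe_mem _⟩ = f (Subgroup.inclusion hP₂T s) := fun s =>
      congrArg Subtype.val (eι.apply_symm_apply ⟨f (Subgroup.inclusion hP₂T s), hrange (x := ⟨s, hP₂T s.2⟩) s.2⟩)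
    have hψM : ψ ∈ M.Hom P₂ := (hr P₂ hP₂T ψ fun s => SetLike.coe_mem _).2 ⟨u, hψv⟩
    have hTn : T ≤ normalizerIn T Vt := fun s hs => ⟨hs, mapsTo_inducedFunctor_normalizer hW hTp (Subgroup.le_normalizer hs)⟩
    have hmem : ψ.comp (Subgroup.inclusion le_sup_left) ∈ M.normalizerHom Vt (Subgroup.zpowers ((t⁻¹ : T) : Ω)) := by
      refine ⟨restrict_mem M hψM _, hz2.trans hTn, fun s => hTn (SetLike.coe_mem _), ψ, hψM, fun s => rfl, ?_⟩
      rw [map_subgroupOf_eq_iff _ le_sup_right]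
      have hone : ∀ v : Vt, ψ (Subgroup.inclusion le_sup_right v) ∈ Vt := fun v => by
        obtain ⟨w, hw, hwe⟩ := hVm ⟨v, hVT v.2⟩ v.2
        have h1 : (⟨ψ (Subgroup.inclusion le_sup_right v), SetLike.coe_mem _⟩ : T) = w := hι ((hψv _).trans hwe)
        rw [show ψ (Subgroup.inclusion le_sup_right v) = (w : Ω) from congrArg Subtype.val h1]
        exact hw
      refine ⟨hone, fun v hv => ?_⟩
      haveI := finite_of_le (S := T) hVT
      obtain ⟨w, hw⟩ := (Finite.surjective_of_injective (f := fun v : Vt => (⟨_, hone v⟩ : Vt)) fun a b hab =>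
        Subgroup.inclusion_injective le_sup_right (M.injective_of_mem hψM (congrArg (fun z : Vt => (z : Ω)) hab))) ⟨v, hv⟩
      exact ⟨w, congrArg Subtype.val hw⟩
    have hD := hN _ _ hmem ⟨((t⁻¹ : T) : Ω), Subgroup.mem_zpowers _⟩
    have hval : (⟨ψ ⟨((t⁻¹ : T) : Ω), Subgroup.mem_sup_left (Subgroup.mem_zpowers _)⟩, SetLike.coe_mem _⟩ : T) = t' :=
      hι ((hψv _).trans htt)
    refine ⟨t * t', ?_, ?_⟩
    · show ((t * t' : T) : Ω) ∈ D
      rw [Subgroup.coe_mul, ← congrArg Subtype.val hval]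
      change (((t⁻¹ : T) : Ω))⁻¹ * ψ ⟨((t⁻¹ : T) : Ω), _⟩ ∈ D at hD
      simpa using hD
    · rw [ht', mul_inv_cancel_left, hc]; rfl
  obtain ⟨d, hd, hde⟩ := hle hzf
  have : d = a⁻¹ * b := hι (hde.trans hze)
  rw [this] at hd
  exact hd

/-- Normalizer systems lie over those of the ambient system. -/
theorem normalizerHom_mono {S T : Subgroup Ω} {F : FusionSystem S} {M : FusionSystem T} (hTS : T ≤ S)
    (hMF : ∀ P, M.Hom P ⊆ F.Hom P) (V P : Subgroup Ω) : M.normalizerHom V P ⊆ F.normalizerHom V P :=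
  fun φ ⟨h1, h2, h3, ψ, h4, h5, h6⟩ => ⟨hMF P h1, fun x hx => ⟨hTS (h2 hx).1, (h2 hx).2⟩,
    fun x => ⟨hTS (h3 x).1, (h3 x).2⟩, ψ, hMF _ h4, h5, h6⟩

/-- A self-centralizing functor controlling transfer in groups controls it in saturated systems. -/
theorem movesIn_of_normalizer (hW : IsCharPFunctor.{u} p W)
    (hcent : ∀ (Q : Type u) [Group Q] [Finite Q], IsPGroup p Q → Subgroup.centralizer (W Q : Set Q) ≤ W Q)
    (hctl : ∀ (G : Type u) [Group G] [Finite G], Functors.CtlTR p {W} G) :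
    ∀ (k : ℕ) {S : Subgroup Ω} [Finite S], IsPGroup p S → ∀ F : FusionSystem S, F.IsSaturated p → sysRank F = k →
      ∀ D : Subgroup Ω, ⁅S, S⁆ ≤ D → (∀ Y : Subgroup Ω, ∀ φ ∈ F.normalizerHom (inducedFunctor W S) Y, MovesIn D φ) →
        ∀ (Y : Subgroup Ω) (φ : Y →* Ω), φ ∈ F.Hom Y → MovesIn D φ := by
  intro k
  induction k using Nat.strong_induction_on with
  | _ k ih =>
  intro S _ hS F hF hk D hD hhyp
  by_cases hcon : F.IsConstrained p
  · obtain ⟨-, Z, hZn, hZc⟩ := hcon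
    obtain ⟨L, _, ι, hL⟩ := exists_model hS hF ⟨hZn, hZc⟩
    exact fun Y φ hφ => movesIn_of_model hW hctl hL hhyp hφ
  set Q := F.core with hQdef
  have hQ := core_isNormal F
  have hQS := hQ.1
  have hQn : S ≤ Subgroup.normalizer (Q : Set Ω) := isNormal_le_normalizer hQ
  haveI := finite_of_le (S := S) hQS
  have hC : ¬ centralizerIn S Q ≤ Q := fun hle => hcon ⟨hF, Q, hQ, hQS, by
    rintro R ⟨φ, hφ, rfl⟩
    have hr : φ.range = Q := by
      refine Subgroup.eq_of_le_of_card_ge ?_ (isConj_card ⟨φ, hφ, rfl⟩).le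
      rintro _ ⟨x, rfl⟩
      exact stronglyClosed_apply_mem (isNormal_stronglyClosed hQ) hφ x x.2
    rw [hr]
    exact hle⟩
  obtain ⟨c, hc, hcQ, hcx⟩ := exists_centralizer_not_le (p := p) (fun X hX => hS.to_le hX) hQS hQn hC
  set E := modSystem F hD
  have hEmem : ∀ (Y : Subgroup Ω) (φ : Y →* Ω), φ ∈ F.Hom Y → MovesIn D φ → φ ∈ E.Hom Y := fun Y φ h1 h2 => ⟨h1, h2⟩
  suffices hle : F ≤ E from fun Y φ hφ => (hle Y hφ).2
  -- normalizer systems of subgroups outside the core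
  have hstep : ∀ X, F.IsFullyNormalized X → Q ≤ X ∧ ¬ X ≤ Q →
      (∀ Y, ∀ φ ∈ F.normalizerHom (inducedFunctor W (normalizerIn S X)) Y, MovesIn D φ) →
        ∀ Y, F.normalizerHom X Y ⊆ E.Hom Y := by
    intro X hX hQX hV Y φ hφ
    have hN := normSystem_spec F hX.1
    have hTS := normalizerIn_le S X
    haveI := finite_of_le (S := S) hTS
    have hsat := normalizerSystem_saturated hS hF hX _ hN
    have hXn : (normSystem F hX.1).IsNormal X := normalizerSystem_isNormal hX.1 hN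
    have hlt : sysRank (normSystem F hX.1) < k := hk ▸ sysRank_normalizer_lt hX.1 hQX.2 hN hXn
    refine hEmem Y φ hφ.1 (ih _ hlt (hS.to_le hTS) _ hsat rfl D ((Subgroup.commutator_mono hTS hTS).trans hD)
      (fun Z θ hθ => hV Z θ (normalizerHom_mono hTS (fun P θ' h => ((hN P).le h).1) _ _ hθ)) Y φ ?_)
    rw [hN Y]
    exact hφ
  have hpres : ∀ X, F.IsFullyNormalized X → normalizerIn S X = S →
      ∀ Y, ∀ φ ∈ F.normalizerHom (inducedFunctor W (normalizerIn S X)) Y, MovesIn D φ := by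
    intro X _ hXS
    rw [hXS]
    exact hhyp
  refine alperin_step hS hF fun P hP hbig => ?_
  rcases hP with rfl | h
  · -- automorphisms of `S` normalize the functor
    intro α hα
    have hαF := (mem_autGroup_iff F le_rfl α).1 hα
    refine (mem_autGroup_iff E le_rfl α).2 (hEmem _ _ hαF (hhyp _ _ ?_))
    have hWle : inducedFunctor W P ≤ P := Subgroup.map_subtype_le _
    have hPn : P ≤ normalizerIn P (inducedFunctor W P) := fun s hs =>
      ⟨hs, mapsTo_inducedFunctor_normalizer hW hS (Subgroup.le_normalizer hs)⟩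
    refine ⟨hαF, hPn, fun x => hPn (α x).2, (P.subtype.comp α.toMonoidHom).comp
      (Subgroup.inclusion (sup_le le_rfl hWle)), restrict_mem F hαF _, fun x => rfl, ?_⟩
    rw [map_subgroupOf_eq_iff _ le_sup_right]
    refine ⟨fun x => ?_, fun y hy => ?_⟩
    · obtain ⟨w, hw, hwx⟩ := x.2
      refine ⟨α w, (hW.2 P P hS α).le ⟨w, hw, rfl⟩, ?_⟩
      exact congrArg (fun z : P => ((α z : P) : Ω)) (Subtype.ext hwx)
    · obtain ⟨w, hw, rfl⟩ := hy
      obtain ⟨v, hv, rfl⟩ := (hW.2 P P hS α).ge hw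
      exact ⟨⟨v, v, hv, rfl⟩, rfl⟩
  have hPlt : P < S := essential_lt hS hF h
  have hPn := h.2.1
  have hQP : Q ≤ P := isNormal_le_centricRadical hS hQ h.1 (essential_radical hS hF h)
  have hPQ : ¬ P ≤ Q := fun hle => hC fun x hx => hle (centralizerIn_le_of_centric h.1
    ⟨hx.1, Subgroup.centralizer_le hle hx.2⟩)
  haveI := finite_of_le (S := S) (normalizerIn_le S P)
  have hall : ∀ Y, F.normalizerHom P Y ⊆ E.Hom Y := by
    refine tower_climb hS hF E (fun X => Q ≤ X ∧ ¬ X ≤ Q) (fun X X' hX hXX' => ?_) (m := Nat.card P)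
      (fun N ψ hψ hN => hbig N ψ hψ hN) (fun X hX hok hXS => ?_)
      (fun X hX hok hXS => hstep X hX hok (hpres X hX hXS)) P hPn ⟨hQP, hPQ⟩
      (card_lt_of_lt (lt_normalizerIn hS hPlt))
    · obtain ⟨φ, hφ, rfl⟩ := hXX'
      refine ⟨fun q hq => ?_, fun hle => hX.2 fun x hx => ?_⟩
      · obtain ⟨x, hx, hxe⟩ := exists_preimage_stronglyClosed (isNormal_stronglyClosed hQ) hφ hX.1 hq
        exact ⟨_, hxe⟩
      · obtain ⟨q, hq, hqe⟩ := exists_preimage_stronglyClosed (isNormal_stronglyClosed hQ) hφ hX.1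
          (hle ⟨⟨x, hx⟩, rfl⟩)
        have he : q = x := congrArg Subtype.val (F.injective_of_mem hφ hqe)
        exact he ▸ hq
    · set T := normalizerIn S X with hT
      have hTlt : T < S := lt_of_le_of_ne (normalizerIn_le S X) hXS
      haveI := finite_of_le (S := S) hTlt.le
      have hTp : IsPGroup p T := hS.to_le hTlt.le
      set V := inducedFunctor W T with hVdef
      have hVT : V ≤ T := Subgroup.map_subtype_le _
      have hcT : c ∈ T := ⟨hc.1, mem_normalizer_of_conj_mem c (fun x hx => by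
        simpa [mul_assoc] using X.mul_mem hx (hok.1 (hcx x (hX.1 hx)))) fun x hx => by
        haveI := finite_of_le (S := S) hX.1
        have hn : c ∈ Subgroup.normalizer (X : Set Ω) := mem_normalizer_of_conj_mem_finite fun y hy => by
          simpa [mul_assoc] using X.mul_mem hy (hok.1 (hcx y (hX.1 hy)))
        simpa using (Subgroup.mem_normalizer_iff.1 (Subgroup.inv_mem _ hn) x).1 hx⟩
      have hVQ : ¬ V ≤ Q := inducedFunctor_not_le hW hcent hTp hcT hc.2 hcQ
      have hn : ∀ z ∈ normalizerIn S V, z ∈ normalizerIn S (Q ⊔ V) := fun z hz => ⟨hz.1, by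
        refine Subgroup.mem_normalizer_iff_map_conj_eq.2 ?_
        rw [Subgroup.map_sup, Subgroup.mem_normalizer_iff_map_conj_eq.1 (hQn hz.1),
          Subgroup.mem_normalizer_iff_map_conj_eq.1 hz.2]⟩
      refine ⟨Q ⊔ V, sup_le hQS (hVT.trans hTlt.le), ⟨le_sup_left, fun hle => hVQ (le_sup_right.trans hle)⟩, ?_,
        fun hVE => hstep X hX hok fun Y φ hφ => ?_⟩
      · exact lt_of_lt_of_le (lt_normalizerIn hS hTlt) fun z hz => hn z
          ⟨hz.1, mapsTo_inducedFunctor_normalizer hW hTp hz.2⟩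
      · obtain ⟨hφF, hY, hφN, ψ, hψ, e1, e2⟩ := hφ
        refine (hVE Y ?_).2
        obtain ⟨ψ', hψ', f1, f2⟩ := hQ.2 _ ψ hψ
        have hle : Y ⊔ (Q ⊔ V) ≤ Y ⊔ V ⊔ Q := sup_le (le_sup_left.trans le_sup_left)
          (sup_le le_sup_right (le_sup_right.trans le_sup_left))
        refine ⟨hφF, fun y hy => hn y (hY hy), fun y => hn _ (hφN y), ψ'.comp (Subgroup.inclusion hle),
          restrict_mem F hψ' hle, fun y => (f1 (Subgroup.inclusion le_sup_left y)).trans (e1 y), ?_⟩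
        have hsub : Q ⊔ V ≤ Y ⊔ V ⊔ Q := sup_le le_sup_right (le_sup_right.trans le_sup_left)
        haveI := finite_of_le (S := S) (sup_le hQS (hVT.trans hTlt.le) : Q ⊔ V ≤ S)
        rw [← range_restrict _ (le_sup_right : Q ⊔ V ≤ Y ⊔ (Q ⊔ V))]
        refine Subgroup.eq_of_le_of_card_ge ?_
          (isConj_card ⟨_, restrict_mem F (restrict_mem F hψ' hle) le_sup_right, rfl⟩).le
        rintro _ ⟨x, rfl⟩
        refine apply_mem_of_sup (R := Q ⊔ V) (ψ'.comp (Subgroup.inclusion hsub)) (fun q => ?_) (fun v => ?_) x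
        · exact Subgroup.mem_sup_left (((map_subgroupOf_eq_iff ψ' le_sup_right).1 f2).1 q)
        · refine Subgroup.mem_sup_right ?_
          show ψ' (Subgroup.inclusion le_sup_left (Subgroup.inclusion le_sup_right v)) ∈ _
          rw [f1]
          exact ((map_subgroupOf_eq_iff ψ le_sup_right).1 e2).1 v
  intro α hα
  have hPS := hPn.1
  haveI := finite_of_le (S := S) hPS
  have hαF := (mem_autGroup_iff F hPS α).1 hα
  refine (mem_autGroup_iff E hPS α).2 (hall P ⟨hαF, le_normalizerIn hPS, fun x => le_normalizerIn hPS (α x).2,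
    (P.subtype.comp α.toMonoidHom).comp (Subgroup.inclusion (sup_le le_rfl le_rfl)), restrict_mem F hαF _,
    fun x => rfl, ?_⟩)
  rw [map_subgroupOf_eq_iff _ le_sup_right]
  exact ⟨fun x => (α _).2, fun y hy => ⟨α⁻¹ ⟨y, hy⟩, congrArg Subtype.val (α.apply_symm_apply ⟨y, hy⟩)⟩⟩

/-- A `p`-group as automorphism group of `S` keeps the focal subgroup proper. -/
theorem focal_lt_of_functor (hW : IsCharPFunctor.{u} p W)
    (hcent : ∀ (Q : Type u) [Group Q] [Finite Q], IsPGroup p Q → Subgroup.centralizer (W Q : Set Q) ≤ W Q)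
    (hctl : ∀ (G : Type u) [Group G] [Finite G], Functors.CtlTR p {W} G)
    {S : Subgroup Ω} [Finite S] (hS : IsPGroup p S) {F : FusionSystem S} (hF : F.IsSaturated p) (hS1 : S ≠ ⊥)
    (haut : IsPGroup p (F.autGroup S)) : F.focalSubgroup < S := by
  set Y := inducedFunctor W S with hYdef
  have hYS : Y ≤ S := Subgroup.map_subtype_le _
  have hn : S ≤ Subgroup.normalizer (Y : Set Ω) := fun s hs =>
    mapsTo_inducedFunctor_normalizer hW hS (Subgroup.le_normalizer hs)
  have hTS : normalizerIn S Y = S := le_antisymm (normalizerIn_le S Y) fun s hs => ⟨hs, hn hs⟩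
  have hY : F.IsFullyNormalized Y := ⟨hYS, fun R hR => by
    rw [hTS]
    exact Subgroup.card_le_of_le (normalizerIn_le S R)⟩
  set M := normSystem F hYS with hMdef
  have hN := normSystem_spec F hYS
  haveI := finite_of_le (S := S) (normalizerIn_le S Y)
  haveI := finite_of_le (S := S) hYS
  have hTp : IsPGroup p (normalizerIn S Y) := hS.to_le (normalizerIn_le S Y)
  have hMsat := normalizerSystem_saturated hS hF hY M hN
  have hMn : M.IsNormal Y := normalizerSystem_isNormal hYS hN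
  have hMc : M.IsCentric Y := ⟨le_normalizerIn hYS, by
    rintro R ⟨φ, hφ, rfl⟩
    have hr : φ.range = Y := by
      refine Subgroup.eq_of_le_of_card_ge ?_ (isConj_card ⟨φ, hφ, rfl⟩).le
      rintro _ ⟨x, rfl⟩
      exact stronglyClosed_apply_mem (isNormal_stronglyClosed hMn) hφ x x.2
    rw [hr]
    rintro x ⟨hxT, hxC⟩
    refine ⟨⟨x, hxT.1⟩, hcent S hS (Subgroup.mem_centralizer_iff.2 fun y hy => Subtype.ext ?_), rfl⟩
    exact Subgroup.mem_centralizer_iff.1 hxC _ ⟨y, hy, rfl⟩⟩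
  obtain ⟨L, _, ι, hL⟩ := exists_model hTp hMsat ⟨hMn, hMc⟩
  obtain ⟨hfin, ⟨hι, hr⟩, ⟨P, hP⟩, -⟩ := hL
  haveI := hfin
  have hP1 : (P : Subgroup L) ≠ ⊥ := by
    obtain ⟨x, hx, hx1⟩ := (Subgroup.bot_or_exists_ne_one S).resolve_left hS1
    intro hbot
    have h1 : ι ⟨x, hTS.ge hx⟩ ∈ (P : Subgroup L) := hP.ge ⟨_, rfl⟩
    rw [hbot, Subgroup.mem_bot, ← map_one ι] at h1
    exact hx1 (congrArg Subtype.val (hι h1))
  have hcop : ∀ g ∈ Subgroup.normalizer ((P : Subgroup L) : Set L), (orderOf g).Coprime p →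
      g ∈ Subgroup.centralizer ((P : Subgroup L) : Set L) := by
    intro g hg hord
    set eι := MonoidHom.ofInjective hι
    have hmem : ∀ s : normalizerIn S Y, g * ι s * g⁻¹ ∈ ι.range := fun s =>
      hP.le ((Subgroup.mem_normalizer_iff.1 hg _).1 (hP.ge ⟨s, rfl⟩))
    let f : normalizerIn S Y →* normalizerIn S Y := eι.symm.toMonoidHom.comp (((MulAut.conj g).toMonoidHom.comp ι).codRestrict ι.range hmem)
    have hf : ∀ s : normalizerIn S Y, ι (f s) = g * ι s * g⁻¹ := fun s => congrArg Subtype.val (eι.apply_symm_apply ⟨_, hmem s⟩)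
    have hfb : Function.Bijective f := by
      refine Function.Injective.bijective_of_finite fun a b hab => hι ?_
      have h := (hf a).symm.trans ((congrArg ι hab).trans (hf b))
      exact mul_left_cancel (mul_right_cancel h)
    set α : MulAut S := ((MulEquiv.subgroupCongr hTS).symm.trans (MulEquiv.ofBijective f hfb)).trans
      (MulEquiv.subgroupCongr hTS) with hα
    have hαv : ∀ s : S, ((α s : S) : Ω) = (f ⟨s, hTS.ge s.2⟩ : normalizerIn S Y) := fun s => rfl
    have hαF : α ∈ F.autGroup S := by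
      refine (mem_autGroup_iff F le_rfl α).2 ?_
      have hm : S.subtype.comp α.toMonoidHom ∈ M.Hom S :=
        (hr S hTS.ge _ fun s => hTS.ge (α s).2).2 ⟨g, fun s => hf ⟨s, hTS.ge s.2⟩⟩
      exact hm.1
    have hpow : ∀ (n : ℕ) (s : S), ι ⟨((α ^ n) s : S), hTS.ge ((α ^ n) s).2⟩ =
        g ^ n * ι ⟨s, hTS.ge s.2⟩ * (g ^ n)⁻¹ := by
      intro n
      induction n with
      | zero => intro s; simp
      | succ m hm =>
        intro s
        have h1 : ι ⟨((α ((α ^ m) s)) : S), hTS.ge (α _).2⟩ = g * ι ⟨((α ^ m) s : S), hTS.ge ((α ^ m) s).2⟩ * g⁻¹ :=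
          hf ⟨((α ^ m) s : S), hTS.ge ((α ^ m) s).2⟩
        rw [hm] at h1
        simpa only [pow_succ', MulAut.mul_apply, mul_assoc, mul_inv_rev] using h1
    have hα1 : α = 1 := by
      have h1 : α ^ orderOf g = 1 := MulEquiv.ext fun s => Subtype.ext (by
        have := hpow (orderOf g) s
        rw [pow_orderOf_eq_one, one_mul, inv_one, mul_one] at this
        exact congrArg (fun z : normalizerIn S Y => (z : Ω)) (hι this))
      obtain ⟨k, hk⟩ := haut ⟨α, hαF⟩
      have hk' : α ^ p ^ k = 1 := congrArg Subtype.val hk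
      exact orderOf_eq_one_iff.1 (Nat.dvd_one.1 ((hord.pow_right k).gcd_eq_one ▸
        Nat.dvd_gcd (orderOf_dvd_of_pow_eq_one h1) (orderOf_dvd_of_pow_eq_one hk')))
    refine Subgroup.mem_centralizer_iff.2 fun y hy => ?_
    obtain ⟨s, rfl⟩ := hP.le hy
    have h1 : ι s = g * ι s * g⁻¹ := by
      refine Eq.trans ?_ (hf s)
      have h2 := hαv ⟨s, hTS.le s.2⟩
      rw [hα1] at h2
      exact congrArg ι (Subtype.ext h2)
    exact eq_mul_inv_iff_mul_eq.1 h1
  obtain ⟨K, hK, hKidx⟩ := Functors.exists_index_prime_of_ctl hW L (fun Z _ _ _ => hctl Z) P hP1 hcop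
  haveI := hK
  have hnle := Functors.not_le_commutator_of_index (S := P) hKidx
  set D := ((commutator L).comap ι).map (normalizerIn S Y).subtype with hDdef
  have hDS : D ≤ S := (Subgroup.map_subtype_le _).trans hTS.le
  have hSD : ⁅S, S⁆ ≤ D := by
    rw [Subgroup.commutator_le]
    intro a ha b hb
    refine ⟨⁅(⟨a, hTS.ge ha⟩ : normalizerIn S Y), (⟨b, hTS.ge hb⟩ : normalizerIn S Y)⁆, ?_, rfl⟩
    show ι _ ∈ commutator L
    rw [map_commutatorElement]
    exact Subgroup.commutator_mem_commutator (Subgroup.mem_top _) (Subgroup.mem_top _)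
  have hlt : D < S := lt_of_le_of_ne hDS fun heq => hnle fun y hy => by
    obtain ⟨s, rfl⟩ := hP.le hy
    obtain ⟨s', hs', hse⟩ := heq.ge (hTS.le s.2)
    rwa [← show s' = s from Subtype.ext hse]
  have hmove : ∀ Z : Subgroup Ω, ∀ φ ∈ F.normalizerHom Y Z, MovesIn D φ := by
    intro Z φ hφ x
    have hφ' : φ ∈ M.Hom Z := hφ
    have hZ := hom_le M hφ'
    obtain ⟨g, hg⟩ := (hr Z hZ φ fun z => hom_apply_mem M hφ' z).1 hφ'
    refine ⟨(⟨(x : Ω), hZ x.2⟩ : normalizerIn S Y)⁻¹ * ⟨φ x, hom_apply_mem M hφ' x⟩, ?_, rfl⟩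
    show ι _ ∈ commutator L
    rw [map_mul, map_inv, hg x, show ∀ a : L, a⁻¹ * (g * a * g⁻¹) = ⁅a⁻¹, g⁆ from fun a => by
      rw [commutatorElement_def]; group]
    exact Subgroup.commutator_mem_commutator (Subgroup.mem_top _) (Subgroup.mem_top _)
  refine lt_of_le_of_lt ((Subgroup.closure_le _).2 ?_) hlt
  rintro _ ⟨Z, φ, x, hφ, rfl⟩
  exact movesIn_of_normalizer hW hcent hctl _ hS F hF rfl D hSD hmove Z φ hφ x

end Cfsg.Agent.FusionSys
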