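import Cfsg.Agent.Lib.Fusion.SmallCentreShift
import Cfsg.Agent.Lib.Solvable.NilpotentFrattini

/-!
# `|S : Z(S)| = p²`, `O_p(F) = 1`, `p` odd: `S` is extraspecial of order `p³` and exponent `p`
-/

set_option autoImplicit false

namespace Cfsg.Agent.FusionSys

open Cfsg Cfsg.FusionSystem
open scoped commutatorElement

variable {Ω : Type*} [Group Ω] {S : Subgroup Ω} [Finite S] {p : ℕ} [hp : Fact p.Prime] {F : FusionSystem S}
/-- A `p`-group of order `p³` with centre of order `p` and central commutators is extraspecial. -/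
theorem isExtraspecial_of_card_cube {G : Type*} [Group G] [Finite G] (hG : IsPGroup p G) (hcard : Nat.card G = p ^ 3)
    (hcardc : Nat.card (Subgroup.center G) = p) (hcl : ∀ a b : G, ⁅a, b⁆ ∈ Subgroup.center G) :
    Cfsg.IsExtraspecial p G := by
  have hnc : commutator G ≠ ⊥ := fun h => by
    have hc : Subgroup.center G = ⊤ := eq_top_iff.2 fun g _ => Subgroup.mem_center_iff.2 fun u =>
      commutatorElement_eq_one_iff_mul_comm.1 (Subgroup.mem_bot.1 (h ▸ Subgroup.commutator_mem_commutator
        (Subgroup.mem_top u) (Subgroup.mem_top g)))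
    rw [hc, Subgroup.card_top, hcard] at hcardc
    have := Nat.pow_lt_pow_right hp.out.one_lt (show 1 < 3 by norm_num)
    rw [pow_one, hcardc] at this
    exact lt_irrefl _ this
  have hder : commutator G = Subgroup.center G := by
    have hle : commutator G ≤ Subgroup.center G := by
      rw [commutator_def, Subgroup.commutator_le]; exact fun a _ b _ => hcl a b
    haveI : Fact (Nat.card (Subgroup.center G)).Prime := ⟨hcardc ▸ hp.out⟩
    refine le_antisymm hle ?_
    rcases ((commutator G).subgroupOf (Subgroup.center G)).eq_bot_or_eq_top_of_prime_card with h | h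
    · exact absurd ((Subgroup.subgroupOf_eq_bot.1 h).eq_bot_of_le hle) hnc
    · exact Subgroup.subgroupOf_eq_top.1 h
  have hfr : frattini G = Subgroup.center G := by
    haveI : Group.IsNilpotent G := hG.isNilpotent
    refine le_antisymm (fun e he => ?_) (hder ▸ Cfsg.Agent.SolvStruct.commutator_le_frattini G)
    by_contra hec
    obtain ⟨f, hf⟩ : ∃ f : G, f * e ≠ e * f := by
      simpa [Subgroup.mem_center_iff] using hec
    have hlt : Subgroup.center G < Subgroup.centralizer {f} := by
      refine lt_of_le_not_ge (Subgroup.center_le_centralizer _) fun h => hf ?_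
      exact (Subgroup.mem_center_iff.1 (h (Subgroup.mem_centralizer_iff.2 fun g hg => by
        rw [Set.mem_singleton_iff.1 hg])) e).symm
    have hne : Subgroup.centralizer {f} ≠ ⊤ := fun h => hf
      (Subgroup.mem_centralizer_iff.1 (h.ge (Subgroup.mem_top e)) f rfl)
    obtain ⟨M, hM, hMle⟩ := (eq_top_or_exists_le_coatom (Subgroup.centralizer {f})).resolve_left hne
    have he' : e ∈ M := frattini_le_coatom hM he
    by_cases hee : e ∈ Subgroup.centralizer {f}
    · exact hf (Subgroup.mem_centralizer_iff.1 hee f rfl)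
    have h2 : Subgroup.centralizer {f} < M := lt_of_le_not_ge hMle fun h => hee (h he')
    have h3 : M < ⊤ := lt_top_iff_ne_top.2 hM.1
    have hc : ∀ A B : Subgroup G, A < B → p * Nat.card A ≤ Nat.card B := fun A B hAB => by
      obtain ⟨a, -, ha⟩ := (Nat.dvd_prime_pow hp.out).1 (hcard ▸ A.card_subgroup_dvd_card)
      obtain ⟨b, -, hb⟩ := (Nat.dvd_prime_pow hp.out).1 (hcard ▸ B.card_subgroup_dvd_card)
      rw [ha, hb, ← pow_succ']
      refine Nat.pow_le_pow_right hp.out.pos (Nat.succ_le_of_lt ?_)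
      by_contra hle
      refine hAB.ne (Subgroup.eq_of_le_of_card_ge hAB.le ?_)
      rw [ha, hb]; exact Nat.pow_le_pow_right hp.out.pos (by omega)
    have i1 := hc _ _ hlt
    have i2 := hc _ _ h2
    have i3 := hc _ _ h3
    rw [hcardc] at i1
    rw [Subgroup.card_top, hcard] at i3
    have h4 : p ^ 4 ≤ p ^ 3 := by nlinarith [hp.out.pos, Nat.zero_le (p * p)]
    exact absurd h4 (not_le.2 (Nat.pow_lt_pow_right hp.out.one_lt (by norm_num)))
  exact ⟨⟨hG, hfr, hder⟩, hcardc⟩

variable {s : Ω} (hd : SmallCentre S p s)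

include hd in
theorem s_ne_one : s ≠ 1 := fun h => hp.out.ne_one (by rw [← hd.order_s, h, orderOf_one])

include hd in
/-- With trivial core some maximal subgroup has a shift. -/
theorem exists_shift (hS : IsPGroup p S) (hF : F.IsSaturated p) (hcore : F.core = ⊥) :
    ∃ (E : Subgroup Ω) (α : MulAut E), IsShift F p E α := by
  by_contra hno
  simp only [not_exists] at hno
  have hN : F.IsNormal (centerOf S) := by
    refine isNormal_of_autGroup_preserve hS hF fun P hP => ?_
    rcases hP with rfl | hP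
    · exact ⟨centerOf_le P, fun β hβ y hy => center_apply_mem F hβ hy⟩
    · refine ⟨(essential_mid hd hS hF hP).center_le, fun α hα y hy => ?_⟩
      obtain ⟨β, hβ, hβe⟩ := (essential_cases hd hS hF hP hα).resolve_left (hno P α)
      rw [← hβe y]
      exact center_apply_mem F hβ hy
  exact s_ne_one hd (Subgroup.mem_bot.1 (hcore ▸ isNormal_le_core hN hd.s_mem))

include hd in
/-- For odd `p` the fixed parts vanish. -/
theorem fixPart_eq_bot_odd (hS : IsPGroup p S) (hF : F.IsSaturated p) (hcore : F.core = ⊥) (hp2 : p ≠ 2)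
    {E0 : Subgroup Ω} {α0 : MulAut E0} (h0 : IsShift F p E0 α0) : fixPart S E0 α0 = ⊥ := by
  set D := fixPart S E0 α0 with hD
  obtain ⟨σ, hσ, hσs, hσm, hσf⟩ := exists_inverting hd hS hF hp2 h0
  set sS : S := ⟨s, hd.s_mem.1⟩
  have hall : ∀ (E : Subgroup Ω) (α : MulAut E), IsShift F p E α → fixPart S E α = D := by
    intro E α h
    obtain ⟨σ', hσ', hσs', hσm', hσf'⟩ := exists_inverting hd hS hF hp2 h
    ext z
    have key : ∀ hz : z ∈ centerOf S, z ∈ fixPart S E α ↔ z ∈ D := fun hz => by
      rw [show z = ((⟨z, hz.1⟩ : S) : Ω) from rfl, hσf' _ hz, hσf _ hz,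
        inverting_agree hd hS hF hσ hσ' hσs hσs' hσm hσm' _ hz]
    exact ⟨fun h => (key h.1).1 h, fun h => (key h.1).2 h⟩
  have hSinv : ∀ β ∈ F.autGroup S, ∀ y : S, (y : Ω) ∈ D → ((β y : S) : Ω) ∈ D := by
    intro β hβ y hy
    have hyc := center_apply_mem F hβ hy.1
    rw [hD, hσf _ hyc]
    have hτ : β * σ * β⁻¹ ∈ F.autGroup S := Subgroup.mul_mem _ (Subgroup.mul_mem _ hβ hσ) (Subgroup.inv_mem _ hβ)
    have hτs : (β * σ * β⁻¹) sS = sS⁻¹ := by
      obtain ⟨k, hk⟩ := s_apply_mem hd β⁻¹
      have hk' : β⁻¹ sS = sS ^ k := Subtype.ext (by rw [SubgroupClass.coe_zpow]; exact hk.symm)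
      rw [MulAut.mul_apply, MulAut.mul_apply, hk', map_zpow, map_zpow, hσs, map_inv, inv_zpow, ← map_zpow, ← hk']
      rw [show β (β⁻¹ sS) = sS from β.apply_symm_apply sS]
    have hτm : ∀ z : S, (z : Ω) ∈ centerOf S → z⁻¹ * (β * σ * β⁻¹) z ∈ Subgroup.zpowers sS := by
      intro z hz
      obtain ⟨k, hk⟩ := hσm (β⁻¹ z) (center_apply_mem F (Subgroup.inv_mem _ hβ) hz)
      obtain ⟨l, hl⟩ := s_apply_mem hd β
      refine ⟨l * k, ?_⟩
      show sS ^ (l * k) = z⁻¹ * β (σ (β⁻¹ z))
      have h := congrArg β hk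
      rw [map_zpow, map_mul, map_inv, show β (β⁻¹ z) = z from β.apply_symm_apply z] at h
      rw [← h, zpow_mul, show sS ^ l = β sS from Subtype.ext (by rw [SubgroupClass.coe_zpow]; exact hl)]
    have e := inverting_agree hd hS hF hσ hτ hσs hτs hσm hτm (β y) hyc
    rw [e, MulAut.mul_apply, MulAut.mul_apply, show β⁻¹ (β y) = y from β.symm_apply_apply y, (hσf y hy.1).1 hy]
  have hN : F.IsNormal D := by
    refine isNormal_of_autGroup_preserve hS hF fun P hP => ?_
    rcases hP with rfl | hP
    · exact ⟨inf_le_left.trans (centerOf_le P), hSinv⟩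
    · refine ⟨inf_le_left.trans (essential_mid hd hS hF hP).center_le, fun α hα y hy => ?_⟩
      rcases essential_cases hd hS hF hP hα with h | ⟨β, hβ, hβe⟩
      · rw [← hall P α h]
        have hy' := (hall P α⁻¹ (shift_inv hd hS hF h)).ge hy
        obtain ⟨w, hw, hwy⟩ := hy'.2
        refine ⟨?_, y, hy.1, rfl⟩
        rw [show α y = w by rw [← show α⁻¹ w = y from Subtype.ext hwy]; exact α.apply_symm_apply w]
        exact hw
      · rw [← hβe y]
        exact hSinv β hβ _ hy
  exact le_bot_iff.1 (hcore ▸ isNormal_le_core hN)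

include hd in
theorem extraspecial_of_core_trivial_odd (hS : IsPGroup p S) (hF : F.IsSaturated p) (hcore : F.core = ⊥)
    (hp2 : p ≠ 2) : Cfsg.IsExtraspecial p S ∧ Nat.card S = p ^ 3 ∧ Monoid.exponent S = p := by
  obtain ⟨E0, α0, h0⟩ := exists_shift hd hS hF hcore
  have hZs : centerOf S ≤ Subgroup.zpowers s := fun z hz => by
    obtain ⟨sE, t, hf⟩ := shift_facts hd hS hF h0
    obtain ⟨c, hc, k, rfl⟩ := hf.split z hz
    rw [fixPart_eq_bot_odd hd hS hF hcore hp2 h0, Subgroup.mem_bot] at hc
    rw [hc, one_mul]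
    exact Subgroup.zpow_mem _ (Subgroup.mem_zpowers s) k
  have hZeq : centerOf S = Subgroup.zpowers s := le_antisymm hZs (Subgroup.zpowers_le.2 hd.s_mem)
  have hZc : Nat.card (centerOf S) = p := by rw [hZeq, Nat.card_zpowers, hd.order_s]
  have hcard : Nat.card S = p ^ 3 := by rw [hd.card_eq, hZc, ← pow_succ]
  have hcl : ∀ a b : S, ⁅a, b⁆ ∈ Subgroup.center S := fun a b => Subgroup.mem_center_iff.2 fun g => Subtype.ext (by
    have h : ((⁅a, b⁆ : S) : Ω) ∈ centerOf S := by rw [hZeq]; exact hd.comm_mem _ a.2 _ b.2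
    exact centerOf_comm h g.2)
  -- exponent
  have hexp : ∀ x : S, x ^ p = 1 := by
    by_contra hne
    let U : Subgroup S :=
      { carrier := {x | x ^ p = 1}
        one_mem' := one_pow p
        mul_mem' := fun ha hb => Cfsg.Agent.PGroupBasics.mul_pow_eq_one hp2 hcl ha hb
        inv_mem' := fun {x} (hx : x ^ p = 1) => by show x⁻¹ ^ p = 1; rw [inv_pow, hx, inv_one] }
    have hE : ∀ (P : Subgroup Ω) (α : MulAut P), IsShift F p P α → P = U.map S.subtype := by
      intro P α h
      haveI := finite_of_le (S := S) h.mid.le_S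
      letI : CommGroup P := { (inferInstance : Group P) with
        mul_comm := fun e f => Subtype.ext (mid_comm hd h.mid e.2 f.2) }
      obtain ⟨sE, t, hf⟩ := shift_facts hd hS hF h
      have hso : orderOf sE = p := by rw [← Subgroup.orderOf_coe, hf.sE_eq]; exact hd.order_s
      have htr : IsTransv t sE := ⟨(hf.act.fix _).2 (by rw [hf.sE_eq]; exact hd.s_mem), hf.act.transv⟩
      have hexpP : ∀ r : P, r ^ p = 1 := by
        intro r
        obtain ⟨c, k, l, rfl, hc1, hc2⟩ := (transv_decomp htr (htr.conj α) hso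
          (by rw [← hso]; exact orderOf_injective α.toMonoidHom α.injective sE)
          (fun e => hf.move ((hf.act.fix _).1 e)) hf.move' r).1
        have hc : (c : Ω) ∈ fixPart S P α := (hf.fix_iff c).2 ⟨hc1, hc2⟩
        rw [fixPart_eq_bot_odd hd hS hF hcore hp2 h, Subgroup.mem_bot] at hc
        have hsp : sE ^ p = 1 := hso ▸ pow_orderOf_eq_one sE
        rw [show c = 1 from Subtype.ext hc, one_mul, mul_pow, ← zpow_natCast, ← zpow_mul, mul_comm k, zpow_mul,
          zpow_natCast, hsp, one_zpow, one_mul, ← zpow_natCast, ← zpow_mul, mul_comm l, zpow_mul, zpow_natCast,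
          ← map_pow, hsp, map_one, one_zpow]
      have hle : P ≤ U.map S.subtype := fun r hr => by
        refine ⟨⟨r, h.mid.le_S hr⟩, Subtype.ext ?_, rfl⟩
        have := congrArg Subtype.val (hexpP ⟨r, hr⟩)
        simpa using this
      have hUfin := finite_of_le (S := S) (Subgroup.map_subtype_le U)
      refine Subgroup.eq_of_le_of_card_ge hle ?_
      rw [h.mid.card_eq, hZc, Subgroup.card_map_of_injective S.subtype_injective]
      obtain ⟨i, hi, hi'⟩ := (Nat.dvd_prime_pow hp.out).1 (hcard ▸ U.card_subgroup_dvd_card)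
      rw [hi', ← sq]
      refine Nat.pow_le_pow_right hp.out.pos ?_
      by_contra h2
      refine hne fun x => ?_
      have hU : U = ⊤ := Subgroup.eq_top_of_card_eq U (by rw [hi', hcard, show i = 3 by omega])
      exact (hU.ge (Subgroup.mem_top x) : x ∈ U)
    have hN : F.IsNormal (U.map S.subtype) := by
      refine isNormal_of_autGroup_preserve hS hF fun P hP => ?_
      have hPS : P ≤ S := hP.elim (fun e => e.le) fun e => e.1.1
      refine ⟨?_, fun α hα y hy => ?_⟩
      · rcases hP with rfl | hP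
        · exact Subgroup.map_subtype_le U
        · obtain ⟨α, hα⟩ := exists_shift_of_essential hd hS hF hP
          exact (hE P α hα).ge
      · obtain ⟨u, hu, hue⟩ := hy
        refine ⟨⟨(α y : P), hPS (α y).2⟩, Subtype.ext ?_, rfl⟩
        rw [SubmonoidClass.coe_pow, ← SubmonoidClass.coe_pow (α y), ← map_pow,
          show y ^ p = 1 from Subtype.ext (by
            rw [SubmonoidClass.coe_pow, ← show (u : Ω) = y from hue, ← SubmonoidClass.coe_pow,
              show u ^ p = 1 from hu]; rfl), map_one]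
        rfl
    have hsU : s ∈ U.map S.subtype := ⟨⟨s, hd.s_mem.1⟩, Subtype.ext (by
      rw [SubmonoidClass.coe_pow]; exact s_pow hd), rfl⟩
    exact s_ne_one hd (Subgroup.mem_bot.1 (hcore ▸ isNormal_le_core hN hsU))
  have hSne : Nontrivial S := ⟨⟨⟨s, hd.s_mem.1⟩, 1, fun h => s_ne_one hd (congrArg Subtype.val h)⟩⟩
  have hzcen : ∀ g : S, g ∈ Subgroup.center S ↔ (g : Ω) ∈ Subgroup.zpowers s := fun g => by
    rw [← hZeq, ← map_center]
    exact ⟨fun h => ⟨g, h, rfl⟩, fun ⟨w, hw, hwg⟩ => by rwa [← show w = g from Subtype.ext hwg]⟩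
  have hcardc : Nat.card (Subgroup.center S) = p := by
    rw [← Subgroup.card_map_of_injective S.subtype_injective, map_center, hZc]
  exact ⟨isExtraspecial_of_card_cube hS hcard hcardc hcl, hcard,
    (Monoid.exponent_eq_prime_iff hp.out).2 fun g hg => orderOf_eq_prime (hexp g) hg⟩

end Cfsg.Agent.FusionSys
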