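import Cfsg.Agent.Lib.Fusion.Alperin
import Cfsg.Agent.Lib.Fusion.Group
import Cfsg.Agent.Lib.CharP.AxB

/-!
# The Alperin–Goldschmidt conjugation theorem for a group

`centricRadical_local`: the normalizer of a fully normalized centric radical subgroup `D` has
`O_{p'p}(N) = O_{p'}(N) × D`.
`exists_chain`: every conjugation between subsets of `P` is a product of elements of such normalizers.
-/

set_option autoImplicit false

namespace Cfsg.Agent.AlperinGroup

open Cfsg Cfsg.FusionSystem Cfsg.Agent.FusionSys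

variable {G : Type*} [Group G] [Finite G] {p : ℕ} [hp : Fact p.Prime] (S : Sylow p G)

/-- `S` itself is radical. -/
theorem radical_top {Ω : Type*} [Group Ω] {T : Subgroup Ω} [Finite T] (hT : IsPGroup p T) {F : FusionSystem T}
    (hF : F.IsSaturated p) : F.IsRadical p T := by
  obtain ⟨Q, hTQ, ⟨hQ, R, hR⟩, -⟩ := hF T le_rfl
  obtain rfl : Q = T := Subgroup.eq_of_le_of_card_ge hQ (isConj_card hTQ).le
  refine ⟨le_rfl, le_antisymm ?_ ?_⟩
  · rintro _ ⟨a, ha, rfl⟩
    rw [inn_eq_autInducedBy_self]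
    exact Subgroup.mem_subgroupOf.1 (hR.le (Cfsg.Agent.PBasic.pCore_le_sylow R ha))
  · intro a ha
    refine ⟨⟨a, inn_le_autGroup F le_rfl ha⟩, ?_, rfl⟩
    refine Cfsg.Agent.PBasic.le_pCore (innSubgroupOfNormal Q _) ?_ (Subgroup.mem_subgroupOf.2 ha)
    exact ((inn_eq_autInducedBy_self Q).symm ▸ autInducedBy_isPGroup hT).comap_of_injective
      _ (F.autGroup Q).subtype_injective

/-- The conditions on a subgroup occurring in the conjugation theorem. -/
def Local (D : Subgroup G) : Prop :=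
  D ≤ (S : Subgroup G) ∧
    Subgroup.centralizer (D : Set G) ≤
      (pPrimePCore p ↥(Subgroup.normalizer (D : Set G))).map (Subgroup.normalizer (D : Set G)).subtype ∧
    IsInternalDirectProduct
      ((pPrimeCore p ↥(Subgroup.normalizer (D : Set G))).map (Subgroup.normalizer (D : Set G)).subtype) D
      ((pPrimePCore p ↥(Subgroup.normalizer (D : Set G))).map (Subgroup.normalizer (D : Set G)).subtype) ∧
    ¬ p ∣ ((S : Subgroup G) ⊓ Subgroup.normalizer (D : Set G)).relIndex (Subgroup.normalizer (D : Set G))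

theorem centricRadical_local {D : Subgroup G} (hn : (groupFusionSystem (S : Subgroup G)).IsFullyNormalized D)
    (hc : centralizerIn (S : Subgroup G) D ≤ D) (hr : (groupFusionSystem (S : Subgroup G)).IsRadical p D) :
    Local S D := by
  have hDS := hn.1
  have hsyl := (group_fullyNormalized_iff S hDS).1 hn
  set N := Subgroup.normalizer (D : Set G) with hN
  have hDN : D ≤ N := Subgroup.le_normalizer
  set Dn := D.subgroupOf N with hDn
  haveI hDnn : Dn.Normal := Subgroup.normal_in_normalizer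
  have hDnp : IsPGroup p Dn := (S.2.to_le hDS).comap_of_injective _ N.subtype_injective
  set O := pPrimeCore p ↥N with hO
  haveI hOn : O.Normal := Subgroup.sSup_normal _ fun K hK => hK.1
  have hOc : (Nat.card O).Coprime p := AxB.coprime_card_pPrimeCore p
  have hdis : Disjoint O Dn := by
    rw [Subgroup.disjoint_def]
    intro x hxO hxD
    obtain ⟨k, hk⟩ := IsPGroup.iff_orderOf.1 hDnp ⟨x, hxD⟩
    rw [Subgroup.orderOf_mk] at hk
    refine orderOf_eq_one_iff.1 (Nat.eq_one_of_dvd_coprimes (hOc.pow_right k) ?_ hk.dvd)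
    rw [← Subgroup.orderOf_mk x hxO]
    exact orderOf_dvd_natCard _
  have hcomm : ∀ a ∈ O, ∀ b ∈ Dn, a * b = b * a := fun a ha b hb =>
    (Subgroup.commute_of_normal_of_disjoint O Dn hOn hDnn hdis a b ha hb).eq
  -- the centralizer
  set C₀ := Subgroup.centralizer (D : Set G) with hC₀
  have hC₀N : C₀ ≤ N := fun c hc' => by
    refine mem_normalizer_of_conj_mem_finite fun x hx => ?_
    rwa [← Subgroup.mem_centralizer_iff.1 hc' x hx, mul_inv_cancel_right]
  have hCle : ∀ c : N, (c : G) ∈ C₀ → c ∈ O ⊔ Dn := by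
    have h1 := isSyl_centralizerIn_of_normalizerIn (H := ⊤) (T := (S : Subgroup G))
      (hT := isSyl_sylow S) (by rw [normalizerIn_top]; exact hsyl)
    rw [centralizerIn_top] at h1
    obtain ⟨U, hU⟩ := h1.toSylow
    have hUc : ∀ u ∈ (U : Subgroup C₀), ∀ x : C₀, x * u = u * x := by
      intro u hu x
      rw [hU, Subgroup.mem_subgroupOf] at hu
      exact Subtype.ext (Subgroup.mem_centralizer_iff.1 x.2 _ (hc hu)).symm
    have hnc : Subgroup.normalizer ((U : Subgroup C₀) : Set C₀) ≤ Subgroup.centralizer ((U : Subgroup C₀) : Set C₀) :=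
      fun x _ => Subgroup.mem_centralizer_iff.2 fun u hu => (hUc u hu x).symm
    have hcompl := MonoidHom.ker_transferSylow_isComplement' U hnc
    set K := (MonoidHom.transferSylow U hnc).ker with hK
    have hKc : (Nat.card K).Coprime p :=
      ((Fact.out : p.Prime).coprime_iff_not_dvd.2 (MonoidHom.not_dvd_card_ker_transferSylow U hnc)).symm
    have hKmem : ∀ x : C₀, x ∈ K ↔ (orderOf x).Coprime p := by
      refine fun x => ⟨fun hx => hKc.coprime_dvd_left ?_, fun hx => ?_⟩
      · rw [← Subgroup.orderOf_mk x hx]; exact orderOf_dvd_natCard _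
      · rw [hK, MonoidHom.mem_ker]
        obtain ⟨k, hk⟩ := IsPGroup.iff_orderOf.1 U.2 (MonoidHom.transferSylow U hnc x)
        exact orderOf_eq_one_iff.1 (Nat.eq_one_of_dvd_coprimes (hx.pow_right k) (orderOf_map_dvd _ _) hk.dvd)
    have hKO : (K.map C₀.subtype).subgroupOf N ≤ O := by
      refine le_sSup (a := (K.map C₀.subtype).subgroupOf N) ⟨⟨fun x hx n => ?_⟩, ?_⟩
      · obtain ⟨y, hy, hye⟩ := hx
        have hmem : ((n * x * n⁻¹ : N) : G) ∈ C₀ := by
          rw [Subgroup.coe_mul, Subgroup.coe_mul, Subgroup.coe_inv, Subgroup.mem_centralizer_iff]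
          intro d hd
          have hd' : (n : G)⁻¹ * d * n ∈ D := (Subgroup.mem_normalizer_iff''.1 n.2 d).1 hd
          have h2 := Subgroup.mem_centralizer_iff.1 (show (x : G) ∈ C₀ from (show (y : G) = x from hye) ▸ y.2) _ hd'
          calc d * ((n : G) * x * (n : G)⁻¹) = n * ((n : G)⁻¹ * d * n * x) * (n : G)⁻¹ := by group
            _ = n * (x * ((n : G)⁻¹ * d * n)) * (n : G)⁻¹ := by rw [h2]
            _ = _ := by group
        refine ⟨⟨_, hmem⟩, (hKmem _).2 ?_, rfl⟩
        rw [← Subgroup.orderOf_coe]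
        show (orderOf ((n * x * n⁻¹ : N) : G)).Coprime p
        rw [Subgroup.coe_mul, Subgroup.coe_mul, Subgroup.coe_inv,
          show orderOf ((n : G) * (x : G) * (n : G)⁻¹) = orderOf (x : G) from
            orderOf_injective (MulAut.conj (n : G)).toMonoidHom (MulEquiv.injective _) (x : G),
          ← show (y : G) = x from hye,
          Subgroup.orderOf_coe]
        exact (hKmem y).1 hy
      · rw [Nat.card_congr (Subgroup.subgroupOfEquivOfLe ((Subgroup.map_subtype_le K).trans hC₀N)).toEquiv,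
          Subgroup.card_map_of_injective C₀.subtype_injective]
        exact hKc
    intro c hc'
    obtain ⟨⟨⟨k, hk⟩, ⟨u, hu⟩⟩, hku, -⟩ := (Subgroup.isComplement'_def.1 hcompl).existsUnique ⟨c, hc'⟩
    have hu' : (u : G) ∈ D := by
      rw [SetLike.mem_coe, hU, Subgroup.mem_subgroupOf] at hu
      exact hc hu
    have e : c = (⟨k, hC₀N k.2⟩ : N) * ⟨u, hDN hu'⟩ :=
      Subtype.ext (congrArg (fun w : C₀ => (w : G)) hku).symm
    rw [e]
    exact Subgroup.mul_mem _ (Subgroup.mem_sup_left (hKO ⟨k, hk, rfl⟩)) (Subgroup.mem_sup_right hu')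
  -- the second core
  set M := pPrimePCore p ↥N with hM
  haveI : (pCore p (↥N ⧸ O)).Normal := Subgroup.sSup_normal _ fun K hK => hK.1
  haveI hMn : M.Normal := inferInstanceAs ((pCore p (↥N ⧸ O)).comap (QuotientGroup.mk' O)).Normal
  have hOM : O ≤ M := fun x hx => by
    show (QuotientGroup.mk' O) x ∈ pCore p _
    rw [show QuotientGroup.mk' O x = 1 from (QuotientGroup.eq_one_iff x).2 hx]
    exact Subgroup.one_mem _
  have hDM : Dn ≤ M := Subgroup.map_le_iff_le_comap.1
    (AxB.le_pCore (Subgroup.Normal.map hDnn _ (QuotientGroup.mk'_surjective O)) (hDnp.map _))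
  have hMle : M ≤ O ⊔ Dn := by
    have hmem : ∀ n : N, D.normalizerMonoidHom n ∈ (groupFusionSystem (S : Subgroup G)).autGroup D := fun n => by
      rw [group_autGroup S hDS, mem_autInducedBy_iff]
      exact ⟨n, Subgroup.mem_top _, fun _ => rfl⟩
    set π : N →* (groupFusionSystem (S : Subgroup G)).autGroup D := D.normalizerMonoidHom.codRestrict _ hmem with hπ
    have hsurj : Function.Surjective π := by
      rintro ⟨a, ha⟩
      rw [group_autGroup S hDS, mem_autInducedBy_iff] at ha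
      obtain ⟨g, -, hg⟩ := ha
      exact ⟨⟨g, mem_normalizer_of_autInduced hg⟩, Subtype.ext (MulEquiv.ext fun x => Subtype.ext (hg x).symm)⟩
    have hπp : IsPGroup p (M.map π) := by
      rintro ⟨_, m, hm, rfl⟩
      obtain ⟨k, hk⟩ := AxB.isPGroup_pCore p ⟨QuotientGroup.mk' O m, hm⟩
      have h2 : m ^ p ^ k ∈ O := (QuotientGroup.eq_one_iff _).1 (congrArg Subtype.val hk)
      refine ⟨k, Subtype.ext ?_⟩
      show π m ^ p ^ k = 1
      rw [← map_pow]
      refine Subtype.ext (MulEquiv.ext fun x => Subtype.ext ?_)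
      show ((m ^ p ^ k : N) : G) * (x : G) * ((m ^ p ^ k : N) : G)⁻¹ = x
      rw [show ((m ^ p ^ k : N) : G) * (x : G) = x * ((m ^ p ^ k : N) : G) from
        congrArg (fun w : N => (w : G)) (hcomm _ h2 ⟨x, hDN x.2⟩ x.2), mul_inv_cancel_right]
    intro m hm
    have h1 : π m ∈ pCore p ((groupFusionSystem (S : Subgroup G)).autGroup D) :=
      AxB.le_pCore (Subgroup.Normal.map hMn π hsurj) hπp ⟨m, hm, rfl⟩
    have h2 : D.normalizerMonoidHom m ∈ Inn D := hr.2.le ⟨_, h1, rfl⟩
    rw [inn_eq_autInducedBy_self, mem_autInducedBy_iff] at h2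
    obtain ⟨d, hd, hde⟩ := h2
    have h3 : ((⟨d, hDN hd⟩ : N)⁻¹ * m : N) ∈ O ⊔ Dn := hCle _ (Subgroup.mem_centralizer_iff.2 fun x hx => by
      have h4 : (m : G) * x * (m : G)⁻¹ = d * x * d⁻¹ := hde ⟨x, hx⟩
      show x * (d⁻¹ * (m : G)) = d⁻¹ * (m : G) * x
      calc x * (d⁻¹ * (m : G)) = d⁻¹ * (d * x * d⁻¹) * (m : G) := by group
        _ = d⁻¹ * ((m : G) * x * (m : G)⁻¹) * (m : G) := by rw [h4]
        _ = _ := by group)
    have h5 := Subgroup.mul_mem _ (Subgroup.mem_sup_right (show (⟨d, hDN hd⟩ : N) ∈ Dn from hd)) h3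
    rwa [mul_inv_cancel_left] at h5
  have hMeq : M = O ⊔ Dn := le_antisymm hMle (sup_le hOM hDM)
  have hDn_map : Dn.map N.subtype = D := by
    rw [hDn, Subgroup.subgroupOf_map_subtype, inf_eq_left.2 hDN]
  refine ⟨hDS, fun c hc' => ⟨⟨c, hC₀N hc'⟩, hMeq.ge (hCle ⟨c, hC₀N hc'⟩ hc'), rfl⟩,
    ⟨Subgroup.map_mono hOM, hDn_map.ge.trans (Subgroup.map_mono hDM), ?_, ?_, ?_⟩, hsyl.2.2⟩
  · rintro _ ⟨a, ha, rfl⟩ b hb
    exact congrArg (fun w : N => (w : G)) (hcomm a ha ⟨b, hDN hb⟩ hb)
  · refine (congrArg (fun X => O.map N.subtype ⊓ X) hDn_map.symm).trans ?_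
    rw [← Subgroup.map_inf _ _ _ N.subtype_injective, hdis.eq_bot, Subgroup.map_bot]
  · refine (congrArg (fun X => O.map N.subtype ⊔ X) hDn_map.symm).trans ?_
    rw [← Subgroup.map_sup, ← hMeq]

/-- `g` is a product of elements of the normalizers, carrying `A` along. -/
inductive Chain : Set G → G → Prop
  | nil {A : Set G} {c : G} : c ∈ Subgroup.centralizer A → Chain A c
  | cons {A : Set G} {x g : G} (D : Subgroup G) : Local S D →
      x ∈ Subgroup.normalizer (D : Set G) → A ⊆ (D : Set G) →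
      Chain ((fun a => x⁻¹ * a * x) '' A) g → Chain A (x * g)

variable {S}

theorem Chain.cmul {A : Set G} {g : G} (h : Chain S A g) :
    ∀ {B : Set G} {y : G}, (∀ b ∈ B, y⁻¹ * b * y ∈ A) → (∀ b ∈ B, y⁻¹ * b * y = b) →
      Chain S B (y * g) := by
  induction h with
  | nil hc =>
    intro B y hBA hfix
    refine .nil (Subgroup.mem_centralizer_iff.2 fun b hb => ?_)
    have h1 : y * b = b * y := by
      calc y * b = y * (y⁻¹ * b * y) := by rw [hfix b hb]
        _ = b * y := by group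
    have h2 := Subgroup.mem_centralizer_iff.1 hc b ((hfix b hb) ▸ hBA b hb)
    rw [← mul_assoc, ← h1, mul_assoc, h2, mul_assoc]
  | @cons A' x' g' D hD hx hA h' ih =>
    intro B y hBA hfix
    -- move the fixing element past `x'`
    have h1 := ih (B := (fun a => x'⁻¹ * a * x') '' B) (y := x'⁻¹ * y * x') (by
      rintro _ ⟨b, hb, rfl⟩
      refine ⟨b, hfix b hb ▸ hBA b hb, ?_⟩
      have e : (x'⁻¹ * y * x')⁻¹ * (x'⁻¹ * b * x') * (x'⁻¹ * y * x') = x'⁻¹ * (y⁻¹ * b * y) * x' := by group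
      rw [e, hfix b hb]) (by
      rintro _ ⟨b, hb, rfl⟩
      have e : (x'⁻¹ * y * x')⁻¹ * (x'⁻¹ * b * x') * (x'⁻¹ * y * x') = x'⁻¹ * (y⁻¹ * b * y) * x' := by group
      rw [e, hfix b hb])
    have h2 : Chain S B (x' * (x'⁻¹ * y * x' * g')) :=
      .cons D hD hx (fun b hb => hA (hfix b hb ▸ hBA b hb)) h1
    rwa [← mul_assoc, show x' * (x'⁻¹ * y * x') = y * x' by group, mul_assoc] at h2

theorem Chain.mono {A B : Set G} {g : G} (h : Chain S A g) (hB : B ⊆ A) : Chain S B g := by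
  simpa using h.cmul (B := B) (y := 1) (fun b hb => by simpa using hB hb) (fun b _ => by simp)

theorem Chain.trans {A : Set G} {g : G} (h : Chain S A g) :
    ∀ {k : G}, Chain S ((fun a => g⁻¹ * a * g) '' A) k → Chain S A (g * k) := by
  induction h with
  | @nil A c hc =>
    intro k hk
    have e : ∀ b ∈ A, c⁻¹ * b * c = b := fun b hb => by
      rw [mul_assoc, Subgroup.mem_centralizer_iff.1 hc b hb, inv_mul_cancel_left]
    exact hk.cmul (fun b hb => ⟨b, hb, rfl⟩) e
  | @cons A x g D hD hx hA _ ih =>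
    intro k hk
    rw [mul_assoc]
    refine .cons D hD hx hA (ih ?_)
    convert hk using 1
    rw [Set.image_image]
    exact Set.image_congr fun a _ => by group

theorem Chain.exists_inv {A : Set G} {g : G} (h : Chain S A g) :
    Chain S ((fun a => g⁻¹ * a * g) '' A) g⁻¹ := by
  induction h with
  | @nil A c hc =>
    refine .nil (Subgroup.inv_mem _ ?_)
    refine Subgroup.mem_centralizer_iff.2 ?_
    rintro _ ⟨b, hb, rfl⟩
    have h1 := Subgroup.mem_centralizer_iff.1 hc b hb
    calc c⁻¹ * b * c * c = c⁻¹ * (b * c) * c := by group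
      _ = c⁻¹ * (c * b) * c := by rw [h1]
      _ = b * c := by group
      _ = c * b := h1
      _ = c * (c⁻¹ * (c * b)) := by group
      _ = c * (c⁻¹ * b * c) := by rw [← h1]; group
  | @cons A x g D hD hx hA _ ih =>
    have e : (fun a => (x * g)⁻¹ * a * (x * g)) '' A = (fun a => g⁻¹ * a * g) '' ((fun a => x⁻¹ * a * x) '' A) := by
      rw [Set.image_image]; exact Set.image_congr fun a _ => by group
    rw [e, mul_inv_rev]
    refine ih.trans ?_
    have e2 : (fun a => g⁻¹⁻¹ * a * g⁻¹) '' ((fun a => g⁻¹ * a * g) '' ((fun a => x⁻¹ * a * x) '' A)) =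
        (fun a => x⁻¹ * a * x) '' A := by
      rw [Set.image_image]
      conv_rhs => rw [← Set.image_id ((fun a => x⁻¹ * a * x) '' A)]
      exact Set.image_congr fun a _ => by simp [mul_assoc]
    rw [e2]
    have h3 : Chain S ((fun a => x⁻¹ * a * x) '' A) (x⁻¹ * 1) :=
      .cons D hD (Subgroup.inv_mem _ hx) (by
        rintro _ ⟨a, ha, rfl⟩
        exact (Subgroup.mem_normalizer_iff''.1 hx a).1 (hA ha))
        (.nil (Subgroup.one_mem _))
    rwa [mul_one] at h3

variable (S)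

/-- Every conjugation inside `S` is a product of local conjugations. -/
theorem exists_chain {A : Set G} (hA : A ⊆ ((S : Subgroup G) : Set G)) {g : G}
    (hg : (fun a => g⁻¹ * a * g) '' A ⊆ ((S : Subgroup G) : Set G)) : Chain S A g := by
  set F := groupFusionSystem (S : Subgroup G) with hFdef
  have hF := groupFusionSystem_saturated S
  have htop : Local S (S : Subgroup G) := centricRadical_local S
    ⟨le_rfl, fun Q hQ => by
      rw [normalizerIn, normalizerIn, inf_eq_left.2 (Subgroup.le_normalizer : (S : Subgroup G) ≤ _)]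
      exact Subgroup.card_le_of_le inf_le_left⟩
    (centralizerIn_le _ _) (radical_top S.2 hF)
  -- the system of conjugations with a chain
  let E : FusionSystem (S : Subgroup G) :=
  { Hom := fun Q => {φ | φ ∈ F.Hom Q ∧ ∃ g, Chain S (Q : Set G) g ∧ ∀ x : Q, φ x = g⁻¹ * (x : G) * g}
    le_of_mem := fun h => F.le_of_mem h.1
    injective_of_mem := fun h => F.injective_of_mem h.1
    conj_mem := fun {Q u} hQ hu => by
      refine ⟨F.conj_mem hQ hu, u⁻¹, ?_, fun x => by rw [inv_inv]; rfl⟩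
      have h := Chain.cons (A := (Q : Set G)) (x := u⁻¹) (S := S) _ htop
        (Subgroup.le_normalizer (Subgroup.inv_mem _ hu)) (fun x hx => hQ hx) (.nil (Subgroup.one_mem _))
      rwa [mul_one] at h
    comp_mem := by
      rintro Q R φ ψ ⟨hφ, g₁, h₁, e₁⟩ ⟨hψ, g₂, h₂, e₂⟩ hv
      refine ⟨F.comp_mem hφ hψ hv, g₁ * g₂, h₁.trans (h₂.mono ?_), fun x => ?_⟩
      · rintro _ ⟨a, ha, rfl⟩
        show g₁⁻¹ * a * g₁ ∈ R
        rw [← e₁ ⟨a, ha⟩]
        exact hv _
      · show ψ ⟨φ x, hv x⟩ = _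
        rw [e₂]
        show g₂⁻¹ * φ x * g₂ = _
        rw [e₁]; group
    inv_mem := by
      rintro Q φ ⟨hφ, g₁, h₁, e₁⟩
      obtain ⟨ψ, hψ, hψe⟩ := F.inv_mem hφ
      refine ⟨ψ, ⟨hψ, g₁⁻¹, h₁.exists_inv.mono ?_, ?_⟩, hψe⟩
      · rintro _ ⟨x, rfl⟩
        exact ⟨x, x.2, (e₁ x).symm⟩
      · rintro ⟨_, x, rfl⟩
        refine (hψe x).trans ?_
        show _ = g₁⁻¹⁻¹ * φ x * g₁⁻¹
        rw [e₁]; group }
  have hFE : F ≤ E := by
    refine alperin_centric_radical S.2 hF fun D hD => ?_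
    have hDS : D ≤ (S : Subgroup G) := hD.elim (fun h => h.le) fun h => h.1.1
    have hDl : Local S D := by
      rcases hD with rfl | ⟨hc, hr, hn⟩
      · exact htop
      · exact centricRadical_local S hn (centralizerIn_le_of_centric hc) hr
    intro a ha
    refine (mem_autGroup_iff E hDS a).2 ⟨(mem_autGroup_iff F hDS a).1 ha, ?_⟩
    rw [group_autGroup S hDS, mem_autInducedBy_iff] at ha
    obtain ⟨u, -, hu⟩ := ha
    refine ⟨u⁻¹, ?_, fun x => by rw [inv_inv]; exact hu x⟩
    have h := Chain.cons (A := (D : Set G)) (x := u⁻¹) (S := S) D hDl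
      (Subgroup.inv_mem _ (mem_normalizer_of_autInduced hu)) subset_rfl (.nil (Subgroup.one_mem _))
    rwa [mul_one] at h
  have hQ : Subgroup.closure A ≤ (S : Subgroup G) := (Subgroup.closure_le _).2 hA
  have hgQ : ∀ x : Subgroup.closure A, g⁻¹ * (x : G) * g⁻¹⁻¹ ∈ (S : Subgroup G) := by
    intro x
    have h1 : Subgroup.closure A ≤ (S : Subgroup G).comap (MulAut.conj g⁻¹).toMonoidHom :=
      (Subgroup.closure_le _).2 fun a ha => by
        rw [SetLike.mem_coe, Subgroup.mem_comap]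
        show g⁻¹ * a * g⁻¹⁻¹ ∈ (S : Subgroup G)
        rw [inv_inv]
        exact hg ⟨a, ha, rfl⟩
    exact h1 x.2
  obtain ⟨-, g₁, h₁, e₁⟩ := hFE _ (show conjHom (Subgroup.closure A) g⁻¹ ∈ F.Hom _ from ⟨hQ, hgQ, g⁻¹, fun _ => rfl⟩)
  have h₂ := (h₁.mono Subgroup.subset_closure).cmul (B := A) (y := g * g₁⁻¹)
  have hfix : ∀ b ∈ A, (g * g₁⁻¹)⁻¹ * b * (g * g₁⁻¹) = b := by
    intro b hb
    have h3 : g⁻¹ * b * g⁻¹⁻¹ = g₁⁻¹ * b * g₁ := e₁ ⟨b, Subgroup.subset_closure hb⟩
    rw [inv_inv] at h3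
    calc (g * g₁⁻¹)⁻¹ * b * (g * g₁⁻¹) = g₁ * (g⁻¹ * b * g) * g₁⁻¹ := by group
      _ = g₁ * (g₁⁻¹ * b * g₁) * g₁⁻¹ := by rw [h3]
      _ = b := by group
  have h4 := h₂ (fun b hb => (hfix b hb).symm ▸ hb) hfix
  rwa [inv_mul_cancel_right] at h4

end Cfsg.Agent.AlperinGroup
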