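import Cfsg.Agent.Lib.Fusion.FunctorCenter
import Cfsg.Agent.S2799
import Cfsg.Prelude.Def_PLocal
import Cfsg.Prelude.Def_FusionReduction

/-!
# The Thompson subgroup as a functor; its version of the centre theorem
-/

set_option autoImplicit false

namespace Cfsg.Agent.FusionSys

open Cfsg Cfsg.FusionSystem

universe u

theorem map_mem_maxAbelian {Q R : Type u} [Group Q] [Group R] [Finite Q] (φ : Q ≃* R) {A : Subgroup Q}
    (hA : A ∈ maxAbelianSubgroups Q) : A.map φ.toMonoidHom ∈ maxAbelianSubgroups R := by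
  obtain ⟨h1, h2⟩ := hA
  refine ⟨Subgroup.map_isMulCommutative _ _, fun B hB => ?_⟩
  have := h2 (B.map φ.symm.toMonoidHom) (Subgroup.map_isMulCommutative _ _)
  rwa [Subgroup.card_map_of_injective φ.injective, ← Subgroup.card_map_of_injective (f := φ.symm.toMonoidHom) φ.symm.injective]

theorem map_thompsonA {Q R : Type u} [Group Q] [Group R] [Finite Q] (φ : Q ≃* R) :
    (thompsonSubgroupA Q).map φ.toMonoidHom = thompsonSubgroupA R := by
  haveI : Finite R := Finite.of_equiv Q φ.toEquiv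
  refine le_antisymm ?_ (sSup_le fun B hB => ?_)
  · rw [thompsonSubgroupA, sSup_eq_iSup', Subgroup.map_iSup]
    exact iSup_le fun A => le_sSup (map_mem_maxAbelian φ A.2)
  · have h : (B.map φ.symm.toMonoidHom).map φ.toMonoidHom = B := by
      rw [Subgroup.map_map]; convert Subgroup.map_id B; ext; simp
    rw [← h]
    exact Subgroup.map_mono (le_sSup (map_mem_maxAbelian φ.symm hB))

theorem center_le_thompsonA {Q : Type u} [Group Q] [Finite Q] : Subgroup.center Q ≤ thompsonSubgroupA Q := by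
  obtain ⟨A, hA, hmax⟩ := Set.exists_max_image {A : Subgroup Q | IsMulCommutative A} (fun A => Nat.card A)
    (Set.toFinite _) ⟨⊥, IsMulCommutative.of_setLike_mul_comm fun x hx y hy => by rw [Subgroup.mem_bot.1 hx, Subgroup.mem_bot.1 hy]⟩
  have hcomm : IsMulCommutative (A ⊔ Subgroup.center Q : Subgroup Q) := by
    refine .of_setLike_mul_comm fun x hx y hy => ?_
    haveI : (Subgroup.center Q).Normal := inferInstance
    rw [← SetLike.mem_coe, Subgroup.mul_normal] at hx hy
    obtain ⟨a, ha, c, hc, rfl⟩ := hx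
    obtain ⟨b, hb, d, hd, rfl⟩ := hy
    have hc' := Subgroup.mem_center_iff.1 hc
    have hd' := Subgroup.mem_center_iff.1 hd
    have hab : a * b = b * a := congrArg Subtype.val (hA.is_comm.comm (⟨a, ha⟩ : A) ⟨b, hb⟩)
    calc a * c * (b * d) = a * (c * b) * d := by group
      _ = a * (b * c) * d := by rw [hc' b]
      _ = b * a * (c * d) := by rw [← mul_assoc, hab]; group
      _ = b * (a * (d * c)) := by rw [← hd' c]; group
      _ = b * ((a * d) * c) := by group
      _ = b * d * (a * c) := by rw [hd' a]; group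
  have he : A = A ⊔ Subgroup.center Q := Subgroup.eq_of_le_of_card_ge le_sup_left (hmax _ hcomm)
  have hAmem : A ∈ maxAbelianSubgroups Q := ⟨hA, fun B hB => hmax B hB⟩
  exact (le_sup_right.trans he.ge).trans (le_sSup hAmem)

theorem isCharPFunctor_thompsonA (p : ℕ) [Fact p.Prime] : IsCharPFunctor.{u} p thompsonSubgroupA := by
  refine ⟨fun Q _ _ hQ hn h => ?_, fun Q R _ _ _ _ φ => map_thompsonA φ⟩
  haveI := hn
  haveI := hQ.center_nontrivial
  exact (Subgroup.nontrivial_iff_ne_bot _).1 inferInstance (eq_bot_iff.2 (center_le_thompsonA.trans h.le))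

variable {Ω : Type u} [Group Ω] {S : Subgroup Ω} [Finite S] {p : ℕ} [hp : Fact p.Prime] {F : FusionSystem S}

omit [Finite S] hp in
/-- Every element of the subgroup generated by `p`-th powers of an abelian group is a `p`-th power. -/
theorem exists_pow_of_mem_closure {A : Subgroup Ω} (hA : ∀ x ∈ A, ∀ y ∈ A, x * y = y * x) {z : Ω}
    (hz : z ∈ Subgroup.closure ((fun w : Ω => w ^ p) '' (A : Set Ω))) : ∃ w ∈ A, w ^ p = z := by
  induction hz using Subgroup.closure_induction with
  | mem x hx => exact hx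
  | one => exact ⟨1, A.one_mem, one_pow p⟩
  | mul a b _ _ ha hb =>
    obtain ⟨v, hv, rfl⟩ := ha
    obtain ⟨w, hw, rfl⟩ := hb
    exact ⟨v * w, A.mul_mem hv hw, (show Commute v w from hA v hv w hw).mul_pow p⟩
  | inv a _ ha =>
    obtain ⟨v, hv, rfl⟩ := ha
    exact ⟨v⁻¹, A.inv_mem hv, inv_pow v p⟩

theorem exists_pow_of_mem_zPow {z : Ω}
    (hz : z ∈ Subgroup.closure ((fun w : Ω => w ^ p) '' ((S ⊓ Subgroup.centralizer (S : Set Ω) : Subgroup Ω) : Set Ω))) :
    ∃ w ∈ S ⊓ Subgroup.centralizer (S : Set Ω), w ^ p = z :=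
  exists_pow_of_mem_closure (fun x hx y hy => Subgroup.mem_centralizer_iff.1 (Subgroup.mem_inf.1 hy).2 x (Subgroup.mem_inf.1 hx).1) hz

/-- `Z(N_F(J(S)))` is central in `F` for `p` odd, for `p`-th powers, and for `S₄`-free systems. -/
theorem mem_center_of_thompsonA (hS : IsPGroup p S) (hF : F.IsSaturated p)
    {N : FusionSystem (normalizerIn S (thompsonSubgroupAOf S))}
    (hN : F.IsNormalizerSystem (thompsonSubgroupAOf S) N) {z : Ω} (hz : z ∈ N.center)
    (h : p ≠ 2 ∨ (∃ w ∈ S ⊓ Subgroup.centralizer (S : Set Ω), w ^ p = z) ∨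
      F.IsSectionFree p (Equiv.Perm (Fin 4))) : z ∈ F.center := by
  refine mem_center_of_functor (W := thompsonSubgroupA) hS hF (isCharPFunctor_thompsonA p)
    (fun Q _ _ _ => center_le_thompsonA) hN hz ?_
  intro U L _ _ hUc hU M P hP hzT hcore hcent hfix g
  haveI := Cfsg.Agent.FiniteGroup.pCore_normal (G := L) p
  refine S2799.result P _ hcent.1 ⟨⟨_, ?_⟩, ?_, rfl⟩ ?_ g (?_)
  · exact Subgroup.le_normalizer (show M.ι ⟨z, hzT⟩ ∈ thompsonSubgroupAOf (P : Subgroup L) from
      ⟨⟨_, hcent.1⟩, center_le_thompsonA (Subgroup.mem_center_iff.2 fun y =>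
        Subtype.ext (Subgroup.mem_centralizer_iff.1 hcent.2 y y.2)), rfl⟩)
  · refine Subgroup.mem_center_iff.2 fun n => Subtype.ext ?_
    exact mul_inv_eq_iff_eq_mul.1 (hfix n n.2)
  · rcases h with h | ⟨w, hw, rfl⟩ | h
    · exact Or.inl h
    · have hwT : w ∈ normalizerIn S U := le_normalizerIn hU.1
        (centralizerIn_le_of_centric hUc ⟨hw.1, Subgroup.centralizer_le hU.1 hw.2⟩)
      refine Or.inr (Or.inl ⟨M.ι ⟨w, hwT⟩, ⟨hP ▸ ⟨_, rfl⟩, ?_⟩, ?_⟩)
      · refine Subgroup.mem_centralizer_iff.2 ?_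
        rw [hP]
        rintro _ ⟨y, rfl⟩
        rw [← map_mul, ← map_mul]
        exact congrArg M.ι (Subtype.ext (Subgroup.mem_centralizer_iff.1 hw.2 y (normalizerIn_le _ _ y.2)))
      · rw [← map_pow]; rfl
    · exact Or.inr (Or.inr (h U hU hUc _ (normSystem_spec F hU.1) L M.ι (M.model _ (normSystem_spec F hU.1))))
  · exact hP ▸ (hP.symm ▸ Cfsg.Agent.PBasic.pCore_le_sylow P) ((‹(pCore p L).Normal›).conj_mem _ hcore g)

end Cfsg.Agent.FusionSys
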