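import Cfsg.Agent.Lib.Fusion.ModelLocal
import Cfsg.Agent.Lib.Fusion.Alperin
import Cfsg.Agent.Lib.Fusion.Normal
import Cfsg.Agent.Lib.Fusion.InnerCriterion

/-!
# Induction over local models

To prove that a saturated system is inner, or fixes a central element, it is enough to do so in each local model,
assuming the statement for all subgroups with a larger normalizer.
-/

set_option autoImplicit false

namespace Cfsg.Agent.FusionSys

open Cfsg Cfsg.FusionSystem

universe u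

variable {Ω : Type u} [Group Ω] {S : Subgroup Ω} [Finite S] {p : ℕ} [hp : Fact p.Prime] {F : FusionSystem S}

/-- A model of `N_F(U)` with the facts used in local arguments. -/
structure LocalModel (F : FusionSystem S) (p : ℕ) (U : Subgroup Ω) (L : Type u) [Group L] where
  ι : normalizerIn S U →* L
  inj : Function.Injective ι
  finL : Finite L
  sylow : ∃ T : Sylow p L, (T : Subgroup L) = ι.range
  constrained : Subgroup.centralizer ((pCore p L : Subgroup L) : Set L) ≤ pCore p L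
  model : ∀ E : FusionSystem (normalizerIn S U), F.IsNormalizerSystem U E → E.IsModel p L ι
  image_normal : ((U.subgroupOf (normalizerIn S U)).map ι).Normal
  image_le : (U.subgroupOf (normalizerIn S U)).map ι ≤ pCore p L
  realize : ∀ α ∈ F.autGroup U, ∃ g : L, ∀ (x : U) (h : ((α x : U) : Ω) ∈ normalizerIn S U)
    (h' : (x : Ω) ∈ normalizerIn S U), ι ⟨_, h⟩ = g * ι ⟨_, h'⟩ * g⁻¹
  hom : ∀ (P : Subgroup Ω) (hP : P ≤ normalizerIn S U) (g : L),
    (∀ x : P, g * ι ⟨x, hP x.2⟩ * g⁻¹ ∈ ι.range) →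
      ∃ φ ∈ F.Hom P, ∃ h : ∀ x, φ x ∈ normalizerIn S U, ∀ x : P, ι ⟨φ x, h x⟩ = g * ι ⟨x, hP x.2⟩ * g⁻¹

theorem exists_localModel (hS : IsPGroup p S) (hF : F.IsSaturated p) {U : Subgroup Ω}
    (hU : F.IsFullyNormalized U) (hUc : F.IsCentric U) :
    ∃ (L : Type u) (_ : Group L), Nonempty (LocalModel F p U L) := by
  set E := normSystem F hU.1 with hEdef
  have hE : F.IsNormalizerSystem U E := normSystem_spec F hU.1
  obtain ⟨hEs, hEQ⟩ := normalizerSystem_constrained hS hF hU hUc hE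
  haveI : Finite (normalizerIn S U) := finite_of_le (normalizerIn_le S U)
  obtain ⟨L, _, ι, hL⟩ := exists_model (hS.to_le (normalizerIn_le S U)) hEs hEQ
  haveI := hL.1
  have hmodel : ∀ E' : FusionSystem (normalizerIn S U), F.IsNormalizerSystem U E' → E'.IsModel p L ι := by
    intro E' hE'
    rwa [show E' = E from hom_ext _ _ fun P => (hE' P).trans (hE P).symm]
  have hUN : U ≤ normalizerIn S U := le_normalizerIn hU.1
  have hnorm : ((U.subgroupOf (normalizerIn S U)).map ι).Normal := by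
    refine ⟨?_⟩
    rintro _ ⟨x, hx, rfl⟩ g
    obtain ⟨q, hq, hqe⟩ := model_conj_mem hL hEQ.normal g hx
    exact ⟨q, hq, hqe⟩
  refine ⟨L, inferInstance, ⟨⟨ι, hL.2.1.1, hL.1, hL.2.2.1, hL.2.2.2, hmodel, hnorm, ?_, ?_, ?_⟩⟩⟩
  · exact Cfsg.Agent.PBasic.le_pCore inferInstance ((((hS.to_le (normalizerIn_le S U)).to_subgroup _).map ι))
  · intro α hα
    have hφ := (mem_autGroup_iff F hU.1 α).1 hα
    have hφE : U.subtype.comp α.toMonoidHom ∈ E.Hom U := by
      rw [hE U]
      refine ⟨hφ, hUN, fun x => hUN (α x).2, _,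
        restrict_mem F hφ (sup_le le_rfl le_rfl : U ⊔ U ≤ U), fun x => rfl, ?_⟩
      rw [map_subgroupOf_eq_iff _ le_sup_right]
      exact ⟨fun x => (α ⟨x.1, x.2⟩).2, fun y hy => ⟨α⁻¹ ⟨y, hy⟩,
        congrArg Subtype.val (α.apply_symm_apply ⟨y, hy⟩)⟩⟩
    obtain ⟨g, hg⟩ := (hL.2.1.2 U hUN _ fun x => hUN (α x).2).1 hφE
    exact ⟨g, fun x _ _ => hg x⟩
  · intro P hP g hg
    set e := MonoidHom.ofInjective hL.2.1.1
    let φ : P →* Ω := (normalizerIn S U).subtype.comp (e.symm.toMonoidHom.comp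
      ((((MulAut.conj g).toMonoidHom.comp ι).comp (Subgroup.inclusion hP)).codRestrict ι.range hg))
    have hφm : ∀ x, φ x ∈ normalizerIn S U := fun x => SetLike.coe_mem _
    have hφ : ∀ x, ι ⟨φ x, hφm x⟩ = g * ι ⟨x, hP x.2⟩ * g⁻¹ := fun x =>
      congrArg Subtype.val (e.apply_symm_apply ⟨_, hg x⟩)
    have hφE : φ ∈ E.Hom P := (hL.2.1.2 P hP φ hφm).2 ⟨g, hφ⟩
    rw [hE P] at hφE
    exact ⟨φ, hφE.1, hφm, hφ⟩

/-- A normalizer element gives an automorphism. -/
theorem LocalModel.exists_aut {U : Subgroup Ω} {L : Type u} [Group L] (M : LocalModel F p U L)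
    {Y : Subgroup Ω} (hY : Y ≤ normalizerIn S U) {g : L}
    (hg : g ∈ Subgroup.normalizer ((((Y.subgroupOf (normalizerIn S U)).map M.ι) : Subgroup L) : Set L)) :
    ∃ α ∈ F.autGroup Y, ∀ x : Y, M.ι ⟨(α x : Y), hY (α x).2⟩ = g * M.ι ⟨x, hY x.2⟩ * g⁻¹ := by
  have hmem : ∀ x : Y, g * M.ι ⟨x, hY x.2⟩ * g⁻¹ ∈ (Y.subgroupOf (normalizerIn S U)).map M.ι := fun x =>
    (Subgroup.mem_normalizer_iff.1 hg _).1 ⟨⟨x, hY x.2⟩, x.2, rfl⟩
  obtain ⟨φ, hφ, hφm, hφe⟩ := M.hom Y hY g fun x => Subgroup.map_le_range _ _ (hmem x)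
  have hin : ∀ x, φ x ∈ Y := fun x => by
    obtain ⟨y, hy, hye⟩ := hmem x
    rw [← hφe x] at hye
    have := congrArg Subtype.val (M.inj hye)
    rw [← show (y : Ω) = φ x from this]
    exact hy
  have hr : φ.range = Y := by
    haveI := finite_of_le (S := S) (hY.trans (normalizerIn_le S U))
    refine Subgroup.eq_of_le_of_card_ge (by rintro _ ⟨x, rfl⟩; exact hin x) ?_
    exact le_of_eq (Nat.card_congr (MonoidHom.ofInjective (F.injective_of_mem hφ)).toEquiv)
  obtain ⟨α, hα, hαe⟩ := exists_autGroup_of_range F hφ hr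
  refine ⟨α, hα, fun x => ?_⟩
  rw [← hφe x]
  exact congrArg M.ι (Subtype.ext (hαe x))

/-- An automorphism of a fully normalized subgroup extends to a centric subgroup with no smaller normalizer. -/
theorem exists_extend_centric (hS : IsPGroup p S) (hF : F.IsSaturated p) {Y : Subgroup Ω}
    (hY : F.IsFullyNormalized Y) :
    ∃ R : Subgroup Ω, ∃ hYR : Y ≤ R, R = Y ⊔ centralizerIn S Y ∧ F.IsCentric R ∧ normalizerIn S Y ≤ normalizerIn S R ∧
      ∀ α ∈ F.autGroup Y, ∃ β ∈ F.autGroup R, ∀ y : Y, ((β (Subgroup.inclusion hYR y) : R) : Ω) = α y := by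
  have hYc := (fullyNormalized_imp hS hF hY).1
  set R := Y ⊔ centralizerIn S Y with hRdef
  have hRS : R ≤ S := sup_le hY.1 (centralizerIn_le S Y)
  refine ⟨R, le_sup_left, rfl, ⟨hRS, ?_⟩, ?_, ?_⟩
  · rintro _ ⟨φ, hφ, rfl⟩
    have hY' : F.IsConj Y ((Y.subgroupOf R).map φ) := ⟨_, restrict_mem F hφ le_sup_left, range_restrict _ _⟩
    have hle : ((centralizerIn S Y).subgroupOf R).map φ ≤ centralizerIn S ((Y.subgroupOf R).map φ) := by
      rintro _ ⟨c, hc, rfl⟩
      refine ⟨hom_apply_mem F hφ c, Subgroup.mem_centralizer_iff.2 ?_⟩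
      rintro _ ⟨y, hy, rfl⟩
      rw [← map_mul, ← map_mul]
      exact congrArg φ (Subtype.ext (Subgroup.mem_centralizer_iff.1 hc.2 y hy))
    haveI : Finite (centralizerIn S ((Y.subgroupOf R).map φ)) := finite_of_le (centralizerIn_le _ _)
    have heq := Subgroup.eq_of_le_of_card_ge hle (by
      refine (hYc.2 _ hY').trans (le_of_eq ?_)
      rw [Nat.card_congr (Subgroup.equivMapOfInjective _ φ (F.injective_of_mem hφ)).toEquiv.symm,
        Nat.card_congr (Subgroup.subgroupOfEquivOfLe (le_sup_right : centralizerIn S Y ≤ R)).toEquiv])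
    intro x hx
    have hx' : x ∈ centralizerIn S ((Y.subgroupOf R).map φ) :=
      ⟨hx.1, Subgroup.centralizer_le (by rintro _ ⟨y, -, rfl⟩; exact ⟨y, rfl⟩) hx.2⟩
    rw [← heq] at hx'
    exact Subgroup.map_le_range _ _ hx'
  · intro g hg
    have hC : ∀ h ∈ normalizerIn S Y, ∀ x ∈ R, h * x * h⁻¹ ∈ R := by
      rintro h ⟨hhS, hhN⟩ x hx
      refine apply_mem_of_sup (conjHom R h) (R := R) (fun y => ?_) (fun c => ?_) ⟨x, hx⟩
      · exact Subgroup.mem_sup_left ((Subgroup.mem_normalizer_iff.1 hhN y).1 y.2)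
      · refine Subgroup.mem_sup_right ⟨S.mul_mem (S.mul_mem hhS c.2.1) (S.inv_mem hhS),
          Subgroup.mem_centralizer_iff.2 fun y hy => ?_⟩
        have hy' : h⁻¹ * y * h ∈ Y := by
          simpa using (Subgroup.mem_normalizer_iff.1 (Subgroup.inv_mem _ hhN) y).1 hy
        have e := Subgroup.mem_centralizer_iff.1 c.2.2 _ hy'
        show y * (h * (c : Ω) * h⁻¹) = h * (c : Ω) * h⁻¹ * y
        calc y * (h * (c : Ω) * h⁻¹) = h * (h⁻¹ * y * h * c) * h⁻¹ := by group
          _ = h * (c * (h⁻¹ * y * h)) * h⁻¹ := by rw [e]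
          _ = h * (c : Ω) * h⁻¹ * y := by group
    refine ⟨hg.1, mem_normalizer_of_conj_mem g (fun x hx => hC g hg x hx) fun x hx => ?_⟩
    simpa using hC g⁻¹ (Subgroup.inv_mem _ hg) x hx
  · intro α hα
    have hφ := (mem_autGroup_iff F hY.1 α).1 hα
    have hr : (Y.subtype.comp α.toMonoidHom).range = Y := equivHom_range α
    obtain ⟨ψ, hψ, hψe⟩ := (fullyNormalized_receptive hS hF hY).2 Y _ hφ hr
    have hRN : R ≤ extender S Y (Y.subtype.comp α.toMonoidHom) := centralizerIn_sup_le_extender F hφ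
    set χ := ψ.comp (Subgroup.inclusion hRN) with hχdef
    have hχ : χ ∈ F.Hom R := restrict_mem F hψ hRN
    have hχY : ∀ y : Y, χ (Subgroup.inclusion le_sup_left y) = α y := fun y => hψe y y.2 _
    have hr' : χ.range = R := by
      haveI := finite_of_le (S := S) hRS
      refine Subgroup.eq_of_le_of_card_ge ?_
        (le_of_eq (Nat.card_congr (MonoidHom.ofInjective (F.injective_of_mem hχ)).toEquiv))
      rintro _ ⟨x, rfl⟩
      refine apply_mem_of_sup χ (R := R) (fun y => ?_) (fun c => ?_) x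
      · rw [hχY]; exact Subgroup.mem_sup_left (α y).2
      · refine Subgroup.mem_sup_right ⟨hom_apply_mem F hχ _, Subgroup.mem_centralizer_iff.2 fun y hy => ?_⟩
        have hy' : χ (Subgroup.inclusion le_sup_left (α⁻¹ ⟨y, hy⟩)) = y :=
          (hχY _).trans (congrArg Subtype.val (α.apply_symm_apply ⟨y, hy⟩))
        rw [← hy', ← map_mul, ← map_mul]
        exact congrArg χ (Subtype.ext (Subgroup.mem_centralizer_iff.1 c.2.2 _ (α⁻¹ ⟨y, hy⟩).2))
    obtain ⟨β, hβ, hβe⟩ := exists_autGroup_of_range F hχ hr'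
    exact ⟨β, hβ, fun y => (hβe _).trans (hχY y)⟩

end Cfsg.Agent.FusionSys
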