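import Cfsg.Agent.Lib.Fusion.Group
import Cfsg.Agent.Lib.Fusion.Simple
import Cfsg.Prelude.Def_FusionComponents

/-!
# Subsystems over strongly closed subgroups, normal subgroups and quotients of groups
-/

set_option autoImplicit false

namespace Cfsg.Agent.FusionSys

open Cfsg Cfsg.FusionSystem
open scoped Pointwise

section strongly

variable {Ω : Type*} [Group Ω] {S : Subgroup Ω} {p : ℕ} [hp : Fact p.Prime]

/-- Full centralization is inherited by subsystems over strongly closed subgroups. -/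
theorem fullyCentralized_subsystem [Finite S] (hS : IsPGroup p S) {F : FusionSystem S} (hF : F.IsSaturated p)
    {T : Subgroup Ω} (hT : F.StronglyClosed T) {E : FusionSystem T} (hE : E.IsSubsystemOf F) {Q : Subgroup Ω}
    (hQT : Q ≤ T) (hQ : F.IsFullyCentralized Q) : E.IsFullyCentralized Q := by
  refine ⟨hQT, fun R hR => ?_⟩
  obtain ⟨φ, hφ, hr⟩ := isConj_symm hR
  obtain ⟨ψ, hψ, hψe⟩ := (fullyCentralized_receptive hS hF hQ).2 R φ (hE R hφ) hr
  have hRe : R ≤ extender S R φ := le_extender F (hE R hφ)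
  have hCe : centralizerIn T R ≤ extender S R φ := fun x hx =>
    centralizerIn_le_extender φ ⟨hT.1 hx.1, hx.2⟩
  have hrange : (ψ.comp (Subgroup.inclusion hRe)).range = Q := by
    have he : ψ.comp (Subgroup.inclusion hRe) = φ := MonoidHom.ext fun x => hψe x x.2 (hRe x.2)
    rw [he, hr]
  refine card_le_of_hom F hψ hCe ((centralizerIn_le T Q).trans hT.1) fun x hx => ⟨?_, ?_⟩
  · exact stronglyClosed_apply_mem hT hψ ⟨x, hCe hx⟩ hx.1
  · exact apply_mem_centralizer ψ hRe hrange ⟨x, hCe hx⟩ hx.2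

/-- Full normalization is inherited by subsystems over strongly closed subgroups. -/
theorem fullyNormalized_subsystem [Finite S] (hS : IsPGroup p S) {F : FusionSystem S} (hF : F.IsSaturated p)
    {T : Subgroup Ω} (hT : F.StronglyClosed T) {E : FusionSystem T} (hE : E.IsSubsystemOf F) {Q : Subgroup Ω}
    (hQT : Q ≤ T) (hQ : F.IsFullyNormalized Q) : E.IsFullyNormalized Q := by
  refine ⟨hQT, fun R hR => ?_⟩
  obtain ⟨φ, hφ, hr⟩ := isConj_symm hR
  obtain ⟨ψ, hψ, hψN, hψR⟩ := exists_normalizer_map_fullyNormalized hS hF hQ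
    (show F.IsConj R Q from ⟨φ, hE R hφ, hr⟩)
  have hle : normalizerIn T R ≤ normalizerIn S R := fun x hx => ⟨hT.1 hx.1, hx.2⟩
  refine card_le_of_hom F hψ hle ((normalizerIn_le T Q).trans hT.1) fun x hx => ⟨?_, ?_⟩
  · exact stronglyClosed_apply_mem hT hψ ⟨x, hle hx⟩ hx.1
  · exact (hψN ⟨x, hle hx⟩).2

omit hp in
/-- A subnormal subsystem lives on a subgroup. -/
theorem subnormal_le {T : Subgroup Ω} {E : FusionSystem T} {F : FusionSystem S} (h : E.IsSubnormalIn F p) :
    T ≤ S := by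
  induction h with
  | refl => exact le_rfl
  | step _ hD ih => exact ih.trans hD.1.2.2.2.1.1

/-- A subgroup fully normalized in `F` is fully normalized in every subnormal subsystem containing it. -/
theorem subnormal_fullyNormalized {T : Subgroup Ω} {E : FusionSystem T} {F : FusionSystem S}
    (h : E.IsSubnormalIn F p) [Finite S] (hS : IsPGroup p S) (hF : F.IsSaturated p) {P : Subgroup Ω}
    (hPT : P ≤ T) (hP : F.IsFullyNormalized P) : E.IsFullyNormalized P := by
  rename_i hfin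
  revert hp hfin hS hF hPT hP
  induction h with
  | refl => exact fun {_} {_} _ _ _ hP => hP
  | @step U S E D F q hED hD ih =>
    intro hp hfin hS hF hPT hP
    have hsc := hD.1.2.2.2.1
    haveI : Finite U := finite_of_le (S := S) hsc.1
    exact ih (isPGroup_of_le hS hsc.1) hD.1.1 hPT
      (fullyNormalized_subsystem hS hF hsc hD.1.2.2.1 (hPT.trans (subnormal_le hED)) hP)

end strongly

section normal

variable {G : Type*} [Group G] [Finite G] {p : ℕ} [hp : Fact p.Prime] (S : Sylow p G) (H : Subgroup G) [H.Normal]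

theorem isSyl_inf_normal : IsSyl p ((S : Subgroup G) ⊓ H) H :=
  (isSyl_sylow S).inf_normal le_top (by rw [Subgroup.normalizer_eq_top])

/-- Frattini argument: `G = N(S ∩ H) H`. -/
theorem exists_frattini (g : G) :
    ∃ n ∈ Subgroup.normalizer (((S : Subgroup G) ⊓ H : Subgroup G) : Set G), ∃ h ∈ H, g = n * h := by
  have hT := isSyl_inf_normal S H
  obtain ⟨b, hb, hbT⟩ := hT.exists_conj
    (X := ((S : Subgroup G) ⊓ H).map (MulAut.conj g).toMonoidHom) (hT.2.1.map _) (by
      rintro _ ⟨x, hx, rfl⟩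
      exact ‹H.Normal›.conj_mem x hx.2 g)
  rw [map_conj_map_conj] at hbT
  have hn : b * g ∈ Subgroup.normalizer (((S : Subgroup G) ⊓ H : Subgroup G) : Set G) :=
    mem_normalizer_of_conj_mem_finite fun x hx => hbT (map_conj_apply_mem hx)
  refine ⟨b * g, hn, (b * g)⁻¹ * b⁻¹ * (b * g), ?_, by group⟩
  simpa using ‹H.Normal›.conj_mem b⁻¹ (H.inv_mem hb) (b * g)⁻¹

theorem stronglyClosed_inf_normal : (groupFusionSystem (S : Subgroup G)).StronglyClosed ((S : Subgroup G) ⊓ H) :=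
  (group_stronglyClosed_iff S).2 ⟨inf_le_left, fun g x hx hgx => ⟨hgx, ‹H.Normal›.conj_mem x hx.2 g⟩⟩

/-- The fusion system of a normal subgroup is invariant in that of the group. -/
theorem isWeaklyNormalIn_of_normal :
    (fusionSystemOfSubgroup H ((S : Subgroup G) ⊓ H) inf_le_right).IsWeaklyNormalIn
      (groupFusionSystem (S : Subgroup G)) p := by
  refine ⟨ofSubgroup_saturated (isSyl_inf_normal S H) _, groupFusionSystem_saturated S, ?_,
    stronglyClosed_inf_normal S H, ?_, ?_⟩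
  · rintro P φ ⟨hP, hφ, h, -, hh⟩
    exact ⟨hP.trans inf_le_left, fun x => (hφ x).1, h, hh⟩
  · rintro P hPT φ ⟨-, hφT, h, hhH, hh⟩ α hα
    rw [group_autGroup S inf_le_left, mem_autInducedBy_iff] at hα
    obtain ⟨g, -, hg⟩ := hα
    refine ⟨conjHom _ (g * h * g⁻¹), ⟨?_, ?_, g * h * g⁻¹, ‹H.Normal›.conj_mem h hhH g, fun _ => rfl⟩, ?_⟩
    · rintro y ⟨z, -, rfl⟩
      exact (α z).2
    · rintro ⟨y, z, hz, rfl⟩
      show g * h * g⁻¹ * ((α z : _) : G) * (g * h * g⁻¹)⁻¹ ∈ (S : Subgroup G) ⊓ H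
      have hzP : (z : G) ∈ P := hz
      have e : g * h * g⁻¹ * ((α z : _) : G) * (g * h * g⁻¹)⁻¹
          = ((α ⟨φ ⟨z, hzP⟩, hφT _⟩ : _) : G) := by
        rw [hg z, hg ⟨φ ⟨z, hzP⟩, hφT _⟩]
        show _ = g * φ ⟨z, hzP⟩ * g⁻¹
        rw [hh]
        group
      rw [e]
      exact (α _).2
    · intro x hφx hαx
      show g * h * g⁻¹ * ((α ⟨x, hPT x.2⟩ : _) : G) * (g * h * g⁻¹)⁻¹ = _
      rw [hg ⟨x, hPT x.2⟩, hg ⟨φ x, hφx⟩]
      show _ = g * φ x * g⁻¹
      rw [hh]
      group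
  · rintro P hPT φ ⟨-, hφS, g, hg⟩
    obtain ⟨n, hn, h, hhH, rfl⟩ := exists_frattini S H g
    obtain ⟨α, hα, hαe⟩ := exists_conjAut (K := ⊤) (Subgroup.mem_top n) hn
    have hφH : ∀ x : P, φ x ∈ (S : Subgroup G) ⊓ H :=
      fun x => ⟨hφS x, by rw [hg]; exact ‹H.Normal›.conj_mem _ (hPT x.2).2 _⟩
    have hval : ∀ x : P, h * (x : G) * h⁻¹ ∈ (S : Subgroup G) ⊓ H := by
      intro x
      have h1 := (Subgroup.mem_normalizer_iff.1 (Subgroup.inv_mem _ hn) (φ x)).1 (hφH x)
      rw [hg] at h1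
      simpa [mul_assoc] using h1
    refine ⟨α, ?_, conjHom P h, ⟨hPT, hval, h, hhH, fun _ => rfl⟩, fun x hx => ?_⟩
    · rw [group_autGroup S inf_le_left]
      exact hα
    · rw [hαe, hg]
      show n * h * (x : G) * (n * h)⁻¹ = n * (h * (x : G) * h⁻¹) * n⁻¹
      group

/-- An automorphism of `S ∩ H` induced by `H` is induced by an element of `H` normalizing `C_S(S ∩ H)`. -/
theorem exists_normalizing {h : G} (hh : h ∈ H)
    (hn : h ∈ Subgroup.normalizer (((S : Subgroup G) ⊓ H : Subgroup G) : Set G)) :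
    ∃ u ∈ H, u ∈ Subgroup.normalizer (((S : Subgroup G) ⊓ H : Subgroup G) : Set G) ∧
      (∀ x ∈ (S : Subgroup G) ⊓ H, u * x * u⁻¹ = h * x * h⁻¹) ∧
      ∀ c ∈ centralizerIn (S : Subgroup G) ((S : Subgroup G) ⊓ H),
        u * c * u⁻¹ ∈ centralizerIn (S : Subgroup G) ((S : Subgroup G) ⊓ H) := by
  set T := (S : Subgroup G) ⊓ H with hTdef
  set A := centralizerIn (S : Subgroup G) T with hAdef
  set K := centralizerIn H T with hKdef
  have hTn : (S : Subgroup G) ≤ Subgroup.normalizer (T : Set G) := fun g hg =>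
    mem_normalizer_of_conj_mem_finite fun x hx =>
      ⟨(S : Subgroup G).mul_mem ((S : Subgroup G).mul_mem hg hx.1) ((S : Subgroup G).inv_mem hg),
        ‹H.Normal›.conj_mem x hx.2 g⟩
  have hA : IsSyl p A (Subgroup.centralizer (T : Set G)) :=
    (group_fullyCentralized_iff S inf_le_left).1 (fullyNormalized_imp S.2 (groupFusionSystem_saturated S)
      (group_fullyNormalized_of_le_normalizer S inf_le_left hTn)).1
  have hAK : A ≤ Subgroup.normalizer (K : Set G) := fun a ha =>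
    mem_normalizer_of_conj_mem_finite fun x hx => ⟨‹H.Normal›.conj_mem x hx.1 a,
      mul_mem (mul_mem ha.2 hx.2) (Subgroup.inv_mem _ ha.2)⟩
  have hAM : IsSyl p A (A ⊔ K) := by
    refine ⟨le_sup_left, hA.2.1, fun h => hA.2.2 (h.trans ?_)⟩
    rw [← Subgroup.relIndex_mul_relIndex A (A ⊔ K) (Subgroup.centralizer (T : Set G)) le_sup_left
      (sup_le inf_le_right inf_le_right)]
    exact dvd_mul_right _ _
  have hX : A.map (MulAut.conj h).toMonoidHom ≤ A ⊔ K := by
    rintro _ ⟨c, hc, rfl⟩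
    show h * c * h⁻¹ ∈ A ⊔ K
    have hC : h * c * h⁻¹ ∈ Subgroup.centralizer (T : Set G) := by
      intro t ht
      have ht' := (Subgroup.mem_normalizer_iff.1 (Subgroup.inv_mem _ hn) t).1 ht
      have h2 := hc.2 _ ht'
      calc t * (h * c * h⁻¹) = h * ((h⁻¹ * t * h⁻¹⁻¹) * c) * h⁻¹ := by group
        _ = h * (c * (h⁻¹ * t * h⁻¹⁻¹)) * h⁻¹ := by rw [h2]
        _ = h * c * h⁻¹ * t := by group
    have hK : h * c * h⁻¹ * c⁻¹ ∈ K := by
      refine ⟨?_, mul_mem hC (Subgroup.inv_mem _ hc.2)⟩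
      have := ‹H.Normal›.conj_mem h⁻¹ (H.inv_mem hh) c
      simpa [mul_assoc] using H.mul_mem hh this
    have e : h * c * h⁻¹ = (h * c * h⁻¹ * c⁻¹) * c := by group
    rw [e]
    exact mul_mem (Subgroup.mem_sup_right hK) (Subgroup.mem_sup_left hc)
  obtain ⟨b, hb, hbA⟩ := hAM.exists_conj (hA.2.1.map _) hX
  have hb' : b ∈ (A : Set G) * (K : Set G) := by
    rw [← Subgroup.coe_mul_of_left_le_normalizer_right A K hAK]
    exact hb
  obtain ⟨a, ha, k, hk, rfl⟩ := hb'
  rw [map_conj_map_conj] at hbA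
  refine ⟨k * h, H.mul_mem hk.1 hh, ?_, fun x hx => ?_, fun c hc => ?_⟩
  · exact mul_mem (Subgroup.mem_normalizer_iff.2 fun x => by
      constructor
      · intro hx
        rwa [← hk.2 x hx, mul_inv_cancel_right]
      · intro hx
        have e := hk.2 _ hx
        have e2 : k * x * k⁻¹ = x := by
          calc k * x * k⁻¹ = k⁻¹ * (k * (k * x * k⁻¹)) := by group
            _ = k⁻¹ * (k * x * k⁻¹ * k) := by rw [e]
            _ = x := by group
        rwa [e2] at hx) hn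
  · have h1 : h * x * h⁻¹ ∈ T := (Subgroup.mem_normalizer_iff.1 hn x).1 hx
    have h2 := hk.2 _ h1
    calc k * h * x * (k * h)⁻¹ = k * (h * x * h⁻¹) * k⁻¹ := by group
      _ = h * x * h⁻¹ * k * k⁻¹ := by rw [h2]
      _ = h * x * h⁻¹ := by group
  · have h1 : a * k * h * c * (a * k * h)⁻¹ ∈ A := hbA (map_conj_apply_mem hc)
    have h2 := A.mul_mem (A.mul_mem (A.inv_mem ha) h1) ha
    simpa [mul_assoc] using h2

/-- The fusion system of a normal subgroup is normal in that of the group. -/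
theorem isNormalIn_of_normal :
    (fusionSystemOfSubgroup H ((S : Subgroup G) ⊓ H) inf_le_right).IsNormalIn
      (groupFusionSystem (S : Subgroup G)) p := by
  refine ⟨isWeaklyNormalIn_of_normal S H, fun α hα => ?_⟩
  rw [ofSubgroup_autGroup _ le_rfl, mem_autInducedBy_iff] at hα
  obtain ⟨h, hh, hhα⟩ := hα
  obtain ⟨u, huH, huN, hux, huC⟩ := exists_normalizing S H hh (mem_normalizer_of_autInduced hhα)
  set T := (S : Subgroup G) ⊓ H with hTdef
  set A := centralizerIn (S : Subgroup G) T with hAdef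
  have hTA : T ⊔ A ≤ S := sup_le inf_le_left inf_le_left
  have hN : u ∈ Subgroup.normalizer ((T ⊔ A : Subgroup G) : Set G) := by
    refine mem_normalizer_of_conj_mem_finite fun x hx => ?_
    have h1 : (T ⊔ A).map (MulAut.conj u).toMonoidHom ≤ T ⊔ A := by
      rw [Subgroup.map_sup]
      refine sup_le_sup ?_ ?_
      · rintro _ ⟨y, hy, rfl⟩
        exact (Subgroup.mem_normalizer_iff.1 huN y).1 hy
      · rintro _ ⟨y, hy, rfl⟩
        exact huC y hy
    exact h1 (map_conj_apply_mem hx)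
  obtain ⟨β, hβ, hβe⟩ := exists_conjAut (K := ⊤) (Subgroup.mem_top u) hN
  refine ⟨β, by rw [group_autGroup S hTA]; exact hβ, fun x => ?_, fun c hc => ?_⟩
  · rw [hβe, hhα]
    exact hux x x.2
  · rw [hβe]
    have h1 := huC c hc
    have h2 : (c : G)⁻¹ * (u * c * u⁻¹) ∈ H := by
      have := ‹H.Normal›.conj_mem u huH (c : G)⁻¹
      simpa [mul_assoc] using H.mul_mem this (H.inv_mem huH)
    exact ⟨⟨mul_mem (Subgroup.inv_mem _ hc.1) h1.1, h2⟩, mul_mem (Subgroup.inv_mem _ hc.2) h1.2⟩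

/-- A conjugation in `G/H` of a subgroup of `S` into `SH/H` lifts to one into `S`. -/
theorem exists_lift_conj {P : Subgroup G} (hP : P ≤ S) (γ : G ⧸ H)
    (hγ : ∀ x ∈ P, γ * QuotientGroup.mk x * γ⁻¹ ∈ (S : Subgroup G).map (QuotientGroup.mk' H)) :
    ∃ g : G, QuotientGroup.mk g = γ ∧ ∀ x ∈ P, g * x * g⁻¹ ∈ (S : Subgroup G) := by
  obtain ⟨g, rfl⟩ := QuotientGroup.mk_surjective γ
  have hM : IsSyl p (S : Subgroup G) ((S : Subgroup G) ⊔ H) :=
    ⟨le_sup_left, S.2, fun h => (isSyl_sylow S).2.2 (h.trans (by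
      rw [← Subgroup.relIndex_mul_relIndex (S : Subgroup G) ((S : Subgroup G) ⊔ H) ⊤ le_sup_left le_top]
      exact dvd_mul_right _ _))⟩
  obtain ⟨b, hb, hbS⟩ := hM.exists_conj (X := P.map (MulAut.conj g).toMonoidHom)
    ((isPGroup_of_le S.2 hP).map _) (by
      rintro _ ⟨x, hx, rfl⟩
      obtain ⟨s, hs, hse⟩ := hγ x hx
      have h1 : s⁻¹ * (g * x * g⁻¹) ∈ H := QuotientGroup.eq.1 hse
      have e : MulAut.conj g x = s * (s⁻¹ * (g * x * g⁻¹)) := by simp
      exact e ▸ mul_mem (Subgroup.mem_sup_left hs) (Subgroup.mem_sup_right h1))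
  obtain ⟨s, hs, k, hk, rfl⟩ := Subgroup.mem_sup_of_normal_right.1 hb
  refine ⟨k * g, ?_, fun x hx => ?_⟩
  · show ((k * g : G) : G ⧸ H) = g
    rw [QuotientGroup.mk_mul, (QuotientGroup.eq_one_iff k).2 hk, one_mul]
  · rw [map_conj_map_conj] at hbS
    have h1 : s * k * g * x * (s * k * g)⁻¹ ∈ (S : Subgroup G) := hbS (map_conj_apply_mem hx)
    have h2 := (S : Subgroup G).mul_mem ((S : Subgroup G).mul_mem ((S : Subgroup G).inv_mem hs) h1) hs
    simpa [mul_assoc] using h2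

/-- The fusion system of `G/H` is the factor system of that of `G`. -/
theorem isFactorSystem_quotient :
    (groupFusionSystem (S : Subgroup G)).IsFactorSystem ((S : Subgroup G) ⊓ H)
      ((QuotientGroup.mk' H).comp (S : Subgroup G).subtype)
      (groupFusionSystem ((S : Subgroup G).map (QuotientGroup.mk' H))) := by
  refine ⟨inf_le_left, fun s => ?_, ?_, fun P' φ' => ⟨?_, ?_⟩⟩
  · simp [QuotientGroup.eq_one_iff, Subgroup.mem_inf, s.2]
  · rw [MonoidHom.range_comp, Subgroup.range_subtype]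
  · rintro ⟨hP', hφ', γ, hγ⟩
    set θ := (QuotientGroup.mk' H).comp (S : Subgroup G).subtype with hθ
    have hPS : preimageAlong θ P' ≤ S := Subgroup.map_subtype_le _
    have hmem : ∀ x : preimageAlong θ P', θ ⟨x, hPS x.2⟩ ∈ P' := by
      rintro ⟨_, y, hy, rfl⟩
      exact hy
    obtain ⟨g, rfl, hg⟩ := exists_lift_conj S H hPS γ fun x hx => by
      have := hφ' ⟨_, hmem ⟨x, hx⟩⟩
      rw [hγ] at this
      exact this
    refine ⟨hP', conjHom _ g, ⟨hPS, fun x => hg x x.2, g, fun _ => rfl⟩, hPS, fun x => hg x x.2, hmem, fun x => ?_⟩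
    rw [hγ]
    rfl
  · rintro ⟨hP', φ, ⟨-, -, g, hg⟩, hPS, hφS, hmem, he⟩
    have hcover : ∀ y : P', ∃ x : preimageAlong ((QuotientGroup.mk' H).comp (S : Subgroup G).subtype) P',
        (y : G ⧸ H) = ((QuotientGroup.mk' H).comp (S : Subgroup G).subtype) ⟨x, hPS x.2⟩ := by
      intro y
      obtain ⟨s, hs, hse⟩ := hP' y.2
      refine ⟨⟨s, Subgroup.mem_map.2 ⟨⟨s, hs⟩, ?_, rfl⟩⟩, hse.symm⟩
      show (QuotientGroup.mk' H) s ∈ P'
      rw [hse]
      exact y.2
    refine ⟨hP', fun y => ?_, g, fun y => ?_⟩ <;> obtain ⟨x, hxy⟩ := hcover y <;>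
      rw [show y = ⟨_, hmem x⟩ from Subtype.ext hxy, he x]
    · exact Subgroup.mem_map_of_mem _ (hφS x)
    · show (QuotientGroup.mk' H) (φ x) = _ * (QuotientGroup.mk' H) (x : G) * _
      rw [hg]
      simp

end normal

end Cfsg.Agent.FusionSys
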