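import Cfsg.Agent.Lib.FiniteGroup.FittingPow
import Mathlib.GroupTheory.Sylow
import Cfsg.Agent.Lib.Fusion.Sylow

/-!
# Characteristic `p`: normal subgroups and central quotients
-/

set_option autoImplicit false

namespace Cfsg.Agent.FusionSys

variable {G : Type*} [Group G] [Finite G] {p : ℕ} [hp : Fact p.Prime]

/-- A subgroup without nontrivial elements of order prime to `p` is a `p`-group. -/
theorem isPGroup_of_coprime_elems {C : Subgroup G} (h : ∀ c ∈ C, (orderOf c).Coprime p → c = 1) :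
    IsPGroup p C := fun ⟨c, hc⟩ => by
  obtain ⟨k, m, hm, hkm⟩ := Nat.exists_eq_pow_mul_and_not_dvd (orderOf_pos c).ne' p hp.out.ne_one
  refine ⟨k, Subtype.ext (h _ (C.pow_mem hc _) ?_)⟩
  rw [SubmonoidClass.coe_pow, orderOf_pow, hkm, Nat.gcd_mul_right_left,
    Nat.mul_div_cancel_left _ (pow_pos hp.out.pos k)]
  exact ((Nat.Prime.coprime_iff_not_dvd hp.out).2 hm).symm

/-- An element of order prime to `p` moving `y` by an element of a `p`-subgroup fixed by it fixes `y`. -/
theorem fix_of_commutator {A : Subgroup G} (hA : IsPGroup p A) {c y : G} (hc : (orderOf c).Coprime p)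
    (hw : y⁻¹ * (c * y * c⁻¹) ∈ A) (hfix : c * (y⁻¹ * (c * y * c⁻¹)) * c⁻¹ = y⁻¹ * (c * y * c⁻¹)) :
    c * y = y * c := by
  set w := y⁻¹ * (c * y * c⁻¹) with hwd
  have hn : ∀ n : ℕ, c ^ n * y * (c ^ n)⁻¹ = y * w ^ n := fun n => by
    induction n with
    | zero => simp
    | succ n ih =>
      rw [pow_succ' c, pow_succ']
      calc c * c ^ n * y * (c * c ^ n)⁻¹ = c * (c ^ n * y * (c ^ n)⁻¹) * c⁻¹ := by group
        _ = c * y * c⁻¹ * (c * w * c⁻¹) ^ n := by rw [ih, conj_pow]; group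
        _ = y * (w * w ^ n) := by rw [hfix, ← mul_assoc y, show y * w = c * y * c⁻¹ from mul_inv_cancel_left _ _]
  have h1 := hn (orderOf c)
  rw [pow_orderOf_eq_one, one_mul, inv_one, mul_one, left_eq_mul] at h1
  obtain ⟨k, hk⟩ := hA ⟨w, hw⟩
  have hw1 : w = 1 := orderOf_eq_one_iff.1 (Nat.eq_one_of_dvd_coprimes
    (Nat.Coprime.pow_right k hc) (orderOf_dvd_of_pow_eq_one h1)
    (orderOf_dvd_of_pow_eq_one (congrArg Subtype.val hk)))
  exact mul_inv_eq_iff_eq_mul.1 (inv_mul_eq_one.1 hw1).symm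

/-- Normal subgroups of groups of characteristic `p` have characteristic `p`. -/
theorem centralizer_pCore_le_of_normal
    (h : Subgroup.centralizer (Cfsg.pCore p G : Set G) ≤ Cfsg.pCore p G) (N : Subgroup G) [N.Normal] :
    Subgroup.centralizer (Cfsg.pCore p N : Set N) ≤ Cfsg.pCore p N := by
  haveI := Cfsg.Agent.FiniteGroup.pCore_normal (G := G) p
  set O := Cfsg.pCore p G
  have hO := Cfsg.Agent.FiniteGroup.pCore_isPGroup (G := G) p
  haveI : (O.subgroupOf N).Normal := Subgroup.Normal.subgroupOf inferInstance N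
  have hA : O.subgroupOf N ≤ Cfsg.pCore p N :=
    le_sSup ⟨inferInstance, hO.comap_of_injective _ N.subtype_injective⟩
  haveI := Cfsg.Agent.FiniteGroup.pCore_normal (G := N) p
  refine le_sSup ⟨inferInstance, isPGroup_of_coprime_elems fun c hc hco => ?_⟩
  have hco' : (orderOf (c : G)).Coprime p := by rwa [Subgroup.orderOf_coe]
  have hcent : (c : G) ∈ Subgroup.centralizer (O : Set G) := Subgroup.mem_centralizer_iff.2 fun y hy => by
    have hwO : y⁻¹ * ((c : G) * y * (c : G)⁻¹) ∈ O := O.mul_mem (O.inv_mem hy)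
      (Subgroup.Normal.conj_mem inferInstance y hy c)
    have hwN : y⁻¹ * ((c : G) * y * (c : G)⁻¹) ∈ N := by
      have := N.mul_mem (Subgroup.Normal.conj_mem ‹N.Normal› c c.2 y⁻¹) (N.inv_mem c.2)
      simpa [mul_assoc] using this
    have hfix : c * (⟨_, hwN⟩ : N) = ⟨_, hwN⟩ * c :=
      (Subgroup.mem_centralizer_iff.1 hc _ (hA (show (⟨_, hwN⟩ : N) ∈ O.subgroupOf N from hwO))).symm
    refine (fix_of_commutator hO hco' hwO ?_).symm
    exact mul_inv_eq_iff_eq_mul.2 (congrArg Subtype.val hfix)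
  obtain ⟨k, hk⟩ := hO ⟨c, h hcent⟩
  exact Subtype.ext (orderOf_eq_one_iff.1 (Nat.eq_one_of_dvd_coprimes (hco'.pow_right k) dvd_rfl
    (orderOf_dvd_of_pow_eq_one (congrArg Subtype.val hk))))

/-- Quotients by central `p`-subgroups keep characteristic `p`. -/
theorem centralizer_pCore_le_quotient
    (h : Subgroup.centralizer (Cfsg.pCore p G : Set G) ≤ Cfsg.pCore p G) (K : Subgroup G) [K.Normal]
    (hK : IsPGroup p K) (hKc : ∀ k ∈ K, ∀ g : G, g * k = k * g) :
    Subgroup.centralizer (Cfsg.pCore p (G ⧸ K) : Set (G ⧸ K)) ≤ Cfsg.pCore p (G ⧸ K) := by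
  haveI := Cfsg.Agent.FiniteGroup.pCore_normal (G := G) p
  haveI := Cfsg.Agent.FiniteGroup.pCore_normal (G := G ⧸ K) p
  have hO := Cfsg.Agent.FiniteGroup.pCore_isPGroup (G := G) p
  set f := QuotientGroup.mk' K
  haveI hOn : ((Cfsg.pCore p G).map f).Normal := Subgroup.Normal.map inferInstance _ (QuotientGroup.mk'_surjective K)
  have hle : (Cfsg.pCore p G).map f ≤ Cfsg.pCore p (G ⧸ K) := le_sSup ⟨hOn, hO.map f⟩
  set D := (Subgroup.centralizer (Cfsg.pCore p (G ⧸ K) : Set (G ⧸ K))).comap f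
  haveI : D.Normal := Subgroup.Normal.comap inferInstance f
  have hD : IsPGroup p D := isPGroup_of_coprime_elems fun c hc hco => by
    have hcent : c ∈ Subgroup.centralizer (Cfsg.pCore p G : Set G) := Subgroup.mem_centralizer_iff.2 fun y hy => by
      have h1 := Subgroup.mem_centralizer_iff.1 hc _ (hle ⟨y, hy, rfl⟩)
      have hwK : y⁻¹ * (c * y * c⁻¹) ∈ K := by
        rw [← QuotientGroup.eq]
        show f y = f (c * y * c⁻¹)
        rw [map_mul, map_mul, map_inv, ← h1, mul_inv_cancel_right]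
      exact (fix_of_commutator hK hco hwK (by rw [hKc _ hwK c, mul_inv_cancel_right])).symm
    obtain ⟨k, hk⟩ := hO ⟨c, h hcent⟩
    exact orderOf_eq_one_iff.1 (Nat.eq_one_of_dvd_coprimes (hco.pow_right k) dvd_rfl
      (orderOf_dvd_of_pow_eq_one (congrArg Subtype.val hk)))
  intro x hx
  obtain ⟨g, rfl⟩ := QuotientGroup.mk'_surjective K x
  exact hle ⟨g, (le_sSup ⟨inferInstance, hD⟩ : D ≤ Cfsg.pCore p G) hx, rfl⟩

end Cfsg.Agent.FusionSys
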