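import Mathlib.GroupTheory.Sylow
import Mathlib.GroupTheory.GroupAction.Quotient
import Mathlib.LinearAlgebra.Dual.Lemmas
import Mathlib.Algebra.CharP.Lemmas
import Mathlib.Data.Nat.Choose.Factorization
import Mathlib.NumberTheory.Padics.PadicVal.Basic
import Mathlib.Algebra.Field.ZMod
import Mathlib.Algebra.Module.ZMod
import Mathlib.Algebra.CharP.Algebra
import Mathlib.GroupTheory.Nilpotent
import Mathlib.Data.Finite.Perm

/-!
# Cocycle products and wreath quotients

The products of a multiplicative cocycle over a finite set acted on, and the criterion: if a norm of a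
homomorphism to `C_p` from a maximal subgroup of a `p`-group is nontrivial, then `C_p ≀ C_p` is a quotient.
-/

set_option autoImplicit false

namespace Cfsg.Agent.FusionSys

section cocycle

open MulAction Finset

variable {G J A : Type*} [Group G] [MulAction G J] [Fintype J] [CommGroup A]

/-- A multiplicative cocycle gives a homomorphism. -/
noncomputable def cocycleHom (c : G → J → A) (hc : ∀ x y j, c (x * y) j = c x (y • j) * c y j) : G →* A :=
  MonoidHom.mk' (fun x => ∏ j, c x j) fun x y => by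
    rw [Finset.prod_congr rfl fun j _ => hc x y j, Finset.prod_mul_distrib]
    congr 1
    exact Fintype.prod_bijective (fun j => y • j) (MulAction.bijective y) _ _ fun _ => rfl

omit [Fintype J] in
theorem cocycle_pow (c : G → J → A) (hc : ∀ x y j, c (x * y) j = c x (y • j) * c y j) (x : G) (j : J) (l : ℕ) :
    c (x ^ l) j = ∏ i ∈ Finset.range l, c x (x ^ i • j) := by
  induction l with
  | zero =>
    rw [pow_zero, Finset.range_zero, Finset.prod_empty]
    have := hc 1 1 j
    rw [one_mul, one_smul] at this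
    exact mul_left_cancel (a := c 1 j) (by rw [mul_one]; exact this.symm)
  | succ l ih => rw [pow_succ', hc, ih, Finset.prod_range_succ, mul_comm]

/-- Only fixed points contribute, if the long cycles contribute trivially. -/
theorem cocycle_prod_fixed [DecidableEq J] [Finite G] (c : G → J → A)
    (hc : ∀ x y j, c (x * y) j = c x (y • j) * c y j) (x : G)
    (h : ∀ (j : J) (l : ℕ), x • j ≠ j → x ^ l • j = j → c (x ^ l) j = 1) :
    ∏ j, c x j = ∏ j ∈ Finset.univ.filter (fun j => x • j = j), c x j := by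
  suffices hU : ∀ U : Finset J, (∀ j, j ∈ U → x • j ∈ U) → (∀ j ∈ U, x • j ≠ j) → ∏ j ∈ U, c x j = 1 by
    rw [← Finset.prod_filter_mul_prod_filter_not Finset.univ (fun j => x • j = j), hU (Finset.univ.filter fun j => ¬ x • j = j) ?_ ?_, mul_one]
    · intro j hj
      simp only [Finset.mem_filter, Finset.mem_univ, true_and] at hj ⊢
      exact fun he => hj (smul_left_cancel x he)
    · intro j hj
      simpa using hj
  intro U
  induction U using Finset.strongInduction with
  | _ U ih =>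
  intro hinv hmov
  rcases U.eq_empty_or_nonempty with rfl | ⟨j, hj⟩
  · simp
  set l := Function.minimalPeriod (x • ·) j
  have hl : 0 < l := by
    refine Function.IsPeriodicPt.minimalPeriod_pos (orderOf_pos x) ?_
    show (x • ·)^[orderOf x] j = j
    rw [smul_iterate, pow_orderOf_eq_one]
    exact one_smul G j
  have hper : x ^ l • j = j := by
    have : (x • ·)^[l] j = j := Function.isPeriodicPt_minimalPeriod (x • ·) j
    rwa [smul_iterate] at this
  let C : Finset J := (Finset.range l).image fun i => x ^ i • j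
  have hinj : Set.InjOn (fun i => x ^ i • j) (Finset.range l) := by
    intro a ha b hb hab
    refine Function.iterate_injOn_Iio_minimalPeriod (f := (x • ·)) (x := j) (Finset.mem_range.1 ha)
      (Finset.mem_range.1 hb) ?_
    show (x • ·)^[a] j = (x • ·)^[b] j
    rw [smul_iterate, smul_iterate]
    exact hab
  have hmem : ∀ i : ℕ, x ^ i • j ∈ U := by
    intro i
    induction i with
    | zero => simpa using hj
    | succ i ihi => rw [pow_succ', mul_smul]; exact hinv _ ihi
  have hCU : C ⊆ U := Finset.image_subset_iff.2 fun i _ => hmem i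
  have hCinv : ∀ k, x • k ∈ C → k ∈ C := by
    intro k hk
    obtain ⟨i, -, hik⟩ := Finset.mem_image.1 hk
    refine Finset.mem_image.2 ⟨(i + l - 1) % l, Finset.mem_range.2 (Nat.mod_lt _ hl), ?_⟩
    refine smul_left_cancel x (Eq.trans ?_ hik)
    have hmod : ∀ m, x ^ (m % l) • j = x ^ m • j := fun m => by
      conv_rhs => rw [← Nat.mod_add_div m l, pow_add, pow_mul, mul_smul]
      congr 1
      induction (m / l) with
      | zero => rw [pow_zero, one_smul]
      | succ a iha => rw [pow_succ, mul_smul, hper]; exact iha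
    rw [hmod, ← mul_smul, ← pow_succ', show i + l - 1 + 1 = i + l by omega, pow_add, mul_smul, hper]
  have hC1 : ∏ k ∈ C, c x k = 1 := by
    rw [Finset.prod_image hinj, ← cocycle_pow c hc]
    exact h j l (hmov j hj) hper
  rw [← Finset.prod_sdiff hCU, hC1, mul_one]
  refine ih _ (Finset.sdiff_ssubset hCU ⟨j, Finset.mem_image.2 ⟨0, Finset.mem_range.2 hl, by simp⟩⟩) ?_
    fun k hk => hmov k (Finset.mem_sdiff.1 hk).1
  intro k hk
  obtain ⟨h1, h2⟩ := Finset.mem_sdiff.1 hk
  exact Finset.mem_sdiff.2 ⟨hinv k h1, fun h3 => h2 (hCinv k h3)⟩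

end cocycle

/-- A shift-invariant subgroup of `(ℤ/p)^p` with an element of nonzero sum is everything. -/
theorem eq_top_of_sum_ne_zero {p : ℕ} [Fact p.Prime] (I : AddSubgroup (ZMod p → ZMod p))
    (hshift : ∀ w ∈ I, (fun i => w (i + 1)) ∈ I) {v : ZMod p → ZMod p} (hv : v ∈ I) (hsum : ∑ i, v i ≠ 0) :
    I = ⊤ := by
  let W : Submodule (ZMod p) (ZMod p → ZMod p) := AddSubgroup.toZModSubmodule p I
  by_contra hne
  have hW : W < ⊤ := lt_top_iff_ne_top.2 fun h => hne (by
    rw [eq_top_iff]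
    intro w _
    have : w ∈ W := h.ge Submodule.mem_top
    exact this)
  obtain ⟨f, hf0, hf⟩ := Submodule.exists_le_ker_of_lt_top W hW
  let σ : (ZMod p → ZMod p) →ₗ[ZMod p] (ZMod p → ZMod p) := LinearMap.funLeft (ZMod p) (ZMod p) (fun i => i + 1)
  have hσp : σ ^ p = 1 := by
    refine LinearMap.ext fun w => funext fun i => ?_
    have hiter : ∀ k : ℕ, (σ ^ k) w i = w (i + (k : ZMod p)) := by
      intro k
      induction k generalizing i with
      | zero => simp
      | succ k ih =>
        rw [pow_succ', Module.End.mul_apply]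
        show (σ ^ k) w (i + 1) = _
        rw [ih, Nat.cast_succ]
        ring_nf
    rw [hiter, ZMod.natCast_self, add_zero]
    rfl
  haveI : CharP (Module.End (ZMod p) (ZMod p → ZMod p)) p :=
    charP_of_injective_algebraMap (algebraMap (ZMod p) _).injective p
  have hnil : (σ - 1) ^ p = 0 := by
    rw [sub_pow_char_of_commute _ (Commute.one_right σ), hσp, one_pow, sub_self]
  have hex : ∃ k, f.comp ((σ - 1) ^ k) ≠ 0 ∧ f.comp ((σ - 1) ^ (k + 1)) = 0 := by
    classical
    by_contra hno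
    have hall : ∀ k, f.comp ((σ - 1) ^ k) ≠ 0 := by
      intro k
      induction k with
      | zero => exact hf0
      | succ k ih => exact fun h => hno ⟨k, ih, h⟩
    exact hall p (by rw [hnil]; exact LinearMap.comp_zero f)
  obtain ⟨k, hk, hk1⟩ := hex
  set g := f.comp ((σ - 1) ^ k) with hg
  have hinv : ∀ w, g (σ w) = g w := by
    intro w
    have := LinearMap.congr_fun hk1 w
    rw [LinearMap.comp_apply, pow_succ, Module.End.mul_apply, LinearMap.sub_apply, map_sub, map_sub,
      LinearMap.zero_apply, sub_eq_zero] at this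
    exact this
  have hgker : ∀ w ∈ W, g w = 0 := by
    intro w hw
    refine hf ?_
    show ((σ - 1) ^ k) w ∈ W
    clear hk hk1 hg g hinv
    induction k with
    | zero => exact hw
    | succ k ih =>
      rw [pow_succ', Module.End.mul_apply, LinearMap.sub_apply]
      exact W.sub_mem (show σ _ ∈ W from hshift _ ih) ih
  classical
  have hconst : ∀ i : ZMod p, g (Pi.single i 1) = g (Pi.single 0 1) := by
    intro i
    rw [← ZMod.natCast_zmod_val i]
    induction i.val with
    | zero => simp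
    | succ n ih =>
      rw [← ih, ← hinv (Pi.single (((n + 1 : ℕ) : ZMod p)) 1)]
      congr 1
      funext j
      show (Pi.single (((n + 1 : ℕ) : ZMod p)) (1 : ZMod p) : ZMod p → ZMod p) (j + 1) = _
      simp only [Pi.single_apply, Nat.cast_succ, add_left_inj]
  have hform : ∀ w, g w = g (Pi.single 0 1) * ∑ i, w i := by
    intro w
    conv_lhs => rw [← Finset.univ_sum_single w]
    rw [map_sum, Finset.mul_sum]
    refine Finset.sum_congr rfl fun i _ => ?_
    rw [← hconst i, show (Pi.single i (w i) : ZMod p → ZMod p) = w i • Pi.single i (1 : ZMod p) by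
      rw [← Pi.single_smul, smul_eq_mul, mul_one], map_smul, smul_eq_mul, mul_comm]
  have h0 : g (Pi.single 0 1) = 0 := by
    have := hgker v (show v ∈ W from hv)
    rw [hform] at this
    exact (mul_eq_zero.1 this).resolve_right hsum
  exact hk (LinearMap.ext fun w => by rw [hform, h0, zero_mul, LinearMap.zero_apply])

/-- A nontrivial norm on a maximal subgroup gives a quotient `C_p ≀ C_p`. -/
theorem exists_wreath_quotient {p : ℕ} [hp : Fact p.Prime] {S : Type*} [Group S] [Finite S] (hS : IsPGroup p S)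
    (M : Subgroup S) [M.Normal] (hM : M.index = p) (μ : M →* Multiplicative (ZMod p)) [Fintype (S ⧸ M)]
    (x : M) (hne : ∏ t : S ⧸ M, μ ⟨t.out⁻¹ * x * t.out, by simpa using ‹M.Normal›.conj_mem x x.2 t.out⁻¹⟩ ≠ 1) :
    ∃ (W : Sylow p (Equiv.Perm (Fin (p ^ 2)))) (f : S →* ↥(W : Subgroup (Equiv.Perm (Fin (p ^ 2))))),
      Function.Surjective f := by
  have hpP := hp.out
  have hconjM : ∀ (s : S) (m : M), s⁻¹ * (m : S) * s ∈ M := fun s m => by
    simpa using ‹M.Normal›.conj_mem m m.2 s⁻¹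
  -- `μ` is invariant under conjugation in `M`
  have hμinv : ∀ (a : M) (m : M), μ (a⁻¹ * m * a) = μ m := fun a m => by
    rw [map_mul, map_mul, map_inv, mul_comm, mul_inv_cancel_left]
  obtain ⟨g, hg⟩ : ∃ g : S, g ∉ M := by
    by_contra h
    exact hpP.ne_one (hM.symm.trans (by rw [show M = ⊤ from eq_top_iff.2 fun y _ => not_not.1 fun hy => h ⟨y, hy⟩, Subgroup.index_top]))
  haveI : Fact p.Prime := hp
  have hcardQ : Nat.card (S ⧸ M) = p := hM
  have hgp : g ^ p ∈ M := hM ▸ M.pow_index_mem g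
  -- the cosets are the powers of `g`
  have hcover : Function.Bijective fun i : ZMod p => (QuotientGroup.mk (g ^ i.val) : S ⧸ M) := by
    haveI : Finite (S ⧸ M) := inferInstance
    refine (Nat.bijective_iff_injective_and_card _).2 ⟨?_, by rw [Nat.card_zmod, hcardQ]⟩
    have hord : orderOf (QuotientGroup.mk g : S ⧸ M) = p := by
      refine orderOf_eq_prime (by rw [← QuotientGroup.mk_pow, QuotientGroup.eq_one_iff]; exact hgp) ?_
      rwa [ne_eq, QuotientGroup.eq_one_iff]
    intro i j hij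
    simp only [QuotientGroup.mk_pow] at hij
    refine ZMod.val_injective p (pow_injOn_Iio_orderOf ?_ ?_ hij) <;> rw [hord] <;> exact ZMod.val_lt _
  have hshiftmem : ∀ (i : ZMod p), ∃ a : M, g ^ (i + 1).val = (g * g ^ i.val) * a := fun i => by
    refine ⟨⟨(g * g ^ i.val)⁻¹ * g ^ (i + 1).val, QuotientGroup.eq.1 ?_⟩, by group⟩
    rw [← pow_succ', QuotientGroup.mk_pow, QuotientGroup.mk_pow, pow_eq_pow_iff_modEq]
    have hord : orderOf (QuotientGroup.mk g : S ⧸ M) = p := by
      refine orderOf_eq_prime (by rw [← QuotientGroup.mk_pow, QuotientGroup.eq_one_iff]; exact hgp) ?_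
      rwa [ne_eq, QuotientGroup.eq_one_iff]
    rw [hord, ← ZMod.natCast_eq_natCast_iff]
    simp
  let Ψ : M → ZMod p → ZMod p := fun m i => Multiplicative.toAdd (μ ⟨(g ^ i.val)⁻¹ * m * g ^ i.val, hconjM _ m⟩)
  have hΨmul : ∀ a b, Ψ (a * b) = Ψ a + Ψ b := fun a b => funext fun i => by
    simp only [Ψ, Pi.add_apply]
    rw [← toAdd_mul, ← map_mul]
    congr 2
    exact Subtype.ext (by show _ = (g ^ i.val)⁻¹ * a * g ^ i.val * ((g ^ i.val)⁻¹ * b * g ^ i.val); simp [mul_assoc])
  let Ψ' : M →* Multiplicative (ZMod p → ZMod p) := MonoidHom.mk' (fun m => Multiplicative.ofAdd (Ψ m)) fun a b => by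
    show Multiplicative.ofAdd (Ψ (a * b)) = _
    rw [hΨmul, ofAdd_add]
  let I : AddSubgroup (ZMod p → ZMod p) := Subgroup.toAddSubgroup' Ψ'.range
  have hI : ∀ m, Ψ m ∈ I := fun m => ⟨m, rfl⟩
  have hIeq : ∀ w ∈ I, ∃ m, Ψ m = w := by
    rintro w ⟨m, hm⟩
    exact ⟨m, congrArg Multiplicative.toAdd hm⟩
  have hsum : ∑ i, Ψ x i ≠ 0 := by
    intro h0
    refine hne (Multiplicative.toAdd.injective ?_)
    rw [toAdd_prod, toAdd_one, ← h0]
    refine (Fintype.sum_bijective _ hcover _ _ fun i => ?_).symm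
    set t := (QuotientGroup.mk (g ^ i.val) : S ⧸ M).out with ht
    have hmem : (g ^ i.val)⁻¹ * t ∈ M := QuotientGroup.eq.1 (QuotientGroup.out_eq' _).symm
    show Multiplicative.toAdd _ = Multiplicative.toAdd _
    rw [← hμinv ⟨_, hmem⟩ ⟨(g ^ i.val)⁻¹ * x * g ^ i.val, hconjM _ x⟩]
    congr 2
    exact Subtype.ext (by simp [mul_assoc, ← ht])
  have htop : I = ⊤ := by
    refine eq_top_of_sum_ne_zero I (fun w hw => ?_) (hI x) hsum
    obtain ⟨m, rfl⟩ := hIeq w hw
    have : (fun i => Ψ m (i + 1)) = Ψ ⟨g⁻¹ * m * g, hconjM g m⟩ := funext fun i => by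
      obtain ⟨a, ha⟩ := hshiftmem i
      show Multiplicative.toAdd _ = Multiplicative.toAdd _
      rw [← hμinv a ⟨(g ^ i.val)⁻¹ * (g⁻¹ * m * g) * g ^ i.val, hconjM _ ⟨_, hconjM g m⟩⟩]
      congr 2
      exact Subtype.ext (by simp [ha, mul_assoc])
    rw [this]
    exact hI _
  have hcardI : Nat.card Ψ'.range = p ^ p := by
    rw [show Ψ'.range = ⊤ from eq_top_iff.2 fun w _ => by
      obtain ⟨m, hm⟩ := hIeq w.toAdd (htop.symm ▸ AddSubgroup.mem_top _)
      exact ⟨m, Multiplicative.toAdd.injective hm⟩, Subgroup.card_top, Nat.card_congr Multiplicative.toAdd,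
      Nat.card_fun, Nat.card_zmod]
  -- the permutation representation on the cosets of `ker μ`
  set L : Subgroup S := μ.ker.map M.subtype with hL
  have hμsurj : Function.Surjective μ := by
    have hone : μ.range ≠ ⊥ := fun h => hne (Finset.prod_eq_one fun t _ => Subgroup.mem_bot.1 (h ▸ ⟨_, rfl⟩))
    haveI : Fact (Nat.card (Multiplicative (ZMod p))).Prime := ⟨by
      rw [Nat.card_congr Multiplicative.toAdd, Nat.card_zmod]; exact hpP⟩
    exact MonoidHom.range_eq_top.1 ((μ.range.eq_bot_or_eq_top_of_prime_card).resolve_left hone)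
  have hLindex : L.index = p ^ 2 := by
    rw [hL, Subgroup.index_map, M.ker_subtype, sup_bot_eq, Subgroup.range_subtype, hM, Subgroup.index_ker,
      MonoidHom.range_eq_top.2 hμsurj, Subgroup.card_top, Nat.card_congr Multiplicative.toAdd, Nat.card_zmod, sq]
  haveI : Finite (S ⧸ L) := inferInstance
  let e : S ⧸ L ≃ Fin (p ^ 2) := (Finite.equivFinOfCardEq hLindex)
  let f0 : S →* Equiv.Perm (Fin (p ^ 2)) := e.permCongrHom.toMonoidHom.comp (MulAction.toPermHom S (S ⧸ L))
  have hker : f0.ker = Ψ'.ker.map M.subtype := by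
    ext y
    have hy : y ∈ f0.ker ↔ ∀ s : S, s⁻¹ * y * s ∈ L := by
      rw [MonoidHom.mem_ker]
      show e.permCongrHom (MulAction.toPermHom S (S ⧸ L) y) = 1 ↔ _
      rw [MulEquiv.map_eq_one_iff, Equiv.ext_iff]
      refine ⟨fun h s => ?_, fun h q => ?_⟩
      · have h1 : (QuotientGroup.mk (y * s) : S ⧸ L) = QuotientGroup.mk s := h (QuotientGroup.mk s)
        rw [QuotientGroup.eq] at h1
        simpa [mul_assoc] using L.inv_mem h1
      · obtain ⟨s, rfl⟩ := QuotientGroup.mk_surjective q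
        show (QuotientGroup.mk (y * s) : S ⧸ L) = QuotientGroup.mk s
        rw [QuotientGroup.eq]
        simpa [mul_assoc] using L.inv_mem (h s)
    rw [hy]
    constructor
    · intro h
      obtain ⟨m, hm, hme⟩ := h 1
      have hyM : y ∈ M := by simp at hme; exact hme ▸ m.2
      refine ⟨⟨y, hyM⟩, MonoidHom.mem_ker.2 (congrArg Multiplicative.ofAdd (funext fun i => ?_)), rfl⟩
      obtain ⟨a, ha, hae⟩ := h (g ^ i.val)
      show Multiplicative.toAdd _ = 0
      rw [show (⟨(g ^ i.val)⁻¹ * y * g ^ i.val, hconjM _ ⟨y, hyM⟩⟩ : M) = a from Subtype.ext hae.symm,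
        MonoidHom.mem_ker.1 ha]
      rfl
    · rintro ⟨m, hm, rfl⟩ s
      obtain ⟨i, hi⟩ := hcover.2 (QuotientGroup.mk s)
      have hmem : (g ^ i.val)⁻¹ * s ∈ M := QuotientGroup.eq.1 hi
      refine ⟨⟨s⁻¹ * m * s, hconjM s m⟩, ?_, rfl⟩
      have h1 : μ ⟨(g ^ i.val)⁻¹ * m * g ^ i.val, hconjM _ m⟩ = 1 :=
        Multiplicative.toAdd.injective (congrFun (congrArg Multiplicative.toAdd (MonoidHom.mem_ker.1 hm)) i)
      rw [← hμinv ⟨_, hmem⟩] at h1
      rw [SetLike.mem_coe, MonoidHom.mem_ker, ← h1]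
      congr 1
      exact Subtype.ext (by simp [mul_assoc])
  have hrange : Nat.card f0.range = p ^ (p + 1) := by
    rw [← Subgroup.index_ker, hker, Subgroup.index_map, M.ker_subtype, sup_bot_eq, Subgroup.range_subtype, hM,
      Subgroup.index_ker, hcardI, pow_succ]
  have hfac : (Nat.card (Equiv.Perm (Fin (p ^ 2)))).factorization p = p + 1 := by
    rw [Nat.card_perm, Nat.card_fin, Nat.factorization_def _ hpP, padicValNat_factorial (b := 3) (by
      rw [Nat.log_pow hpP.one_lt]; omega)]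
    rw [show Finset.Ico 1 3 = {1, 2} from rfl, Finset.sum_insert (by simp), Finset.sum_singleton, pow_one,
      sq, Nat.mul_div_cancel _ hpP.pos, Nat.div_self (Nat.mul_pos hpP.pos hpP.pos)]
  obtain ⟨W, hW⟩ := (hS.of_surjective f0.rangeRestrict f0.rangeRestrict_surjective).exists_le_sylow
  refine ⟨W, (Subgroup.inclusion hW).comp f0.rangeRestrict, ?_⟩
  have hc : Nat.card (W : Subgroup (Equiv.Perm (Fin (p ^ 2)))) ≤ Nat.card f0.range := by
    rw [Sylow.card_eq_multiplicity, hfac, hrange]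
  have heq : f0.range = W := Subgroup.eq_of_le_of_card_ge hW hc
  rintro ⟨w, hw⟩
  obtain ⟨s, hs⟩ := heq.ge hw
  exact ⟨s, Subtype.ext hs⟩

open MulAction in
/-- On a transitive part, the product of the fixed-point values of a cocycle to `C_p` is trivial unless there is
a wreath quotient. -/
theorem fixed_prod_eq_one {p : ℕ} [hp : Fact p.Prime] {S : Type*} [Group S] [Finite S] (hS : IsPGroup p S)
    (hnw : ¬ ∃ (W : Sylow p (Equiv.Perm (Fin (p ^ 2)))) (f : S →* ↥(W : Subgroup (Equiv.Perm (Fin (p ^ 2))))),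
      Function.Surjective f)
    (P : Subgroup S) (hP : P ≠ ⊤) (ϕ : P →* Multiplicative (ZMod p)) (x : S)
    (hlow : ∀ (g : S) (l : ℕ) (h : g⁻¹ * x ^ l * g ∈ P), p ∣ l → ϕ ⟨_, h⟩ = 1)
    [Fintype (S ⧸ P)] [DecidableEq (S ⧸ P)] (c : S ⧸ P → Multiplicative (ZMod p))
    (hcdef : ∀ (g : S) (h : g⁻¹ * x * g ∈ P), c (QuotientGroup.mk g) = ϕ ⟨_, h⟩) :
    ∏ q ∈ Finset.univ.filter (fun q : S ⧸ P => x • q = q), c q = 1 := by
  classical
  have hfix : ∀ g : S, x • (QuotientGroup.mk g : S ⧸ P) = QuotientGroup.mk g ↔ g⁻¹ * x * g ∈ P := fun g => by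
    rw [MulAction.Quotient.smul_mk, smul_eq_mul, eq_comm, QuotientGroup.eq]
    simp [mul_assoc]
  obtain ⟨M, hM, hPM⟩ := (eq_top_or_exists_le_coatom P).resolve_left hP
  haveI : Group.IsNilpotent S := hS.isNilpotent
  haveI hMn : M.Normal := Subgroup.NormalizerCondition.normal_of_coatom M Group.normalizerCondition_of_isNilpotent hM
  have hMi : M.index = p := by
    obtain ⟨k, hk⟩ := hS.index M
    haveI : IsSimpleGroup (S ⧸ M) := by
      haveI : Nontrivial (S ⧸ M) := QuotientGroup.nontrivial_iff.2 hM.1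
      refine ⟨fun N _ => ?_⟩
      have hle : M ≤ N.comap (QuotientGroup.mk' M) := fun y hy => by
        rw [Subgroup.mem_comap, QuotientGroup.mk'_apply, (QuotientGroup.eq_one_iff y).2 hy]
        exact N.one_mem
      rcases hM.le_iff.1 hle with h | h
      · right; rw [eq_top_iff]; intro q _; obtain ⟨y, rfl⟩ := QuotientGroup.mk_surjective q
        exact (h.ge (Subgroup.mem_top y) : y ∈ N.comap (QuotientGroup.mk' M))
      · left; rw [eq_bot_iff]; intro q hq; obtain ⟨y, rfl⟩ := QuotientGroup.mk_surjective q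
        rw [Subgroup.mem_bot, QuotientGroup.eq_one_iff]
        exact h.le hq
    haveI : Group.IsNilpotent (S ⧸ M) := (hS.to_quotient M).isNilpotent
    have hpr : (Nat.card (S ⧸ M)).Prime := IsSimpleGroup.prime_card
    have hk' : Nat.card (S ⧸ M) = p ^ k := hk
    rw [hk'] at hpr
    have hk1 : k = 1 := Nat.Prime.eq_one_of_pow hpr
    rw [hk, hk1, pow_one]
  by_cases hxM : x ∈ M
  swap
  · refine Finset.prod_eq_one fun q hq => absurd ?_ hxM
    obtain ⟨g, rfl⟩ := QuotientGroup.mk_surjective q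
    have h1 := hPM ((hfix g).1 (Finset.mem_filter.1 hq).2)
    simpa [mul_assoc] using hMn.conj_mem _ h1 g
  -- the transfer to `P` in `M`
  set P' := P.subgroupOf M
  letI : Fintype (↥M ⧸ P') := Fintype.ofFinite _
  letI : Fintype (S ⧸ M) := Fintype.ofFinite _
  let cM : ↥M → ↥M ⧸ P' → Multiplicative (ZMod p) := fun y q =>
    ϕ ⟨(((y • q).out⁻¹ * y * q.out : ↥M) : S), by
      have h : (y • q).out⁻¹ * (y * q.out) ∈ P' := QuotientGroup.eq.1 (by
        conv_lhs => rw [QuotientGroup.out_eq']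
        conv_lhs => rw [← QuotientGroup.out_eq' q, MulAction.Quotient.smul_mk, smul_eq_mul])
      rw [← mul_assoc] at h
      exact h⟩
  have hcM : ∀ y z q, cM (y * z) q = cM y (z • q) * cM z q := fun y z q => by
    simp only [cM]
    rw [← map_mul]
    refine congrArg ϕ (Subtype.ext ?_)
    show _ = ((((y • z • q).out⁻¹ * y * (z • q).out : ↥M) : S)) * (((z • q).out⁻¹ * z * q.out : ↥M) : S)
    show ((((y * z) • q).out⁻¹ * (y * z) * q.out : ↥M) : S) = _
    rw [← Subgroup.coe_mul, mul_smul]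
    congr 1
    group
  let μ : ↥M →* Multiplicative (ZMod p) := cocycleHom cM hcM
  have hconj : ∀ t : S ⧸ M, t.out⁻¹ * x * t.out ∈ M := fun t => by simpa using hMn.conj_mem x hxM t.out⁻¹
  have hμval : ∀ t : S ⧸ M, μ ⟨_, hconj t⟩ =
      ∏ u ∈ Finset.univ.filter (fun u : ↥M ⧸ P' => (⟨_, hconj t⟩ : ↥M) • u = u), cM ⟨_, hconj t⟩ u := by
    intro t
    refine cocycle_prod_fixed cM hcM _ fun u l hne hl => ?_
    have hdvd : p ∣ l := by
      by_contra hndvd
      have hco : (orderOf (⟨_, hconj t⟩ : ↥M)).Coprime l := by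
        obtain ⟨k, hk⟩ := IsPGroup.iff_orderOf.1 (hS.to_subgroup M) ⟨_, hconj t⟩
        rw [hk]
        exact Nat.Coprime.pow_left k ((Nat.Prime.coprime_iff_not_dvd hp.out).2 hndvd)
      obtain ⟨m, hm⟩ := exists_pow_eq_self_of_coprime hco.symm
      refine hne ?_
      conv_lhs => rw [← hm]
      exact MulAction.mem_stabilizer_iff.1 (Subgroup.pow_mem _ (MulAction.mem_stabilizer_iff.2 hl) m)
    have hval : ((((⟨_, hconj t⟩ : ↥M) ^ l • u).out⁻¹ * (⟨_, hconj t⟩ : ↥M) ^ l * u.out : ↥M) : S) =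
        (t.out * (u.out : S))⁻¹ * x ^ l * (t.out * (u.out : S)) := by
      rw [hl]
      push_cast
      rw [show (t.out⁻¹ * x * t.out) ^ l = t.out⁻¹ * x ^ l * t.out by
        rw [show t.out⁻¹ * x * t.out = t.out⁻¹ * x * t.out⁻¹⁻¹ by rw [inv_inv], conj_pow, inv_inv]]
      group
    show ϕ _ = 1
    rw [← hlow (t.out * (u.out : S)) l (hval ▸ (by
      have h : ((⟨_, hconj t⟩ : ↥M) ^ l • u).out⁻¹ * ((⟨_, hconj t⟩ : ↥M) ^ l * u.out) ∈ P' := QuotientGroup.eq.1 (by
        conv_lhs => rw [QuotientGroup.out_eq']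
        conv_lhs => rw [← QuotientGroup.out_eq' u, MulAction.Quotient.smul_mk, smul_eq_mul])
      rw [← mul_assoc] at h
      exact h)) hdvd]
    exact congrArg ϕ (Subtype.ext hval)
  have key : ∏ q ∈ Finset.univ.filter (fun q : S ⧸ P => x • q = q), c q =
      ∏ t : S ⧸ M, μ ⟨_, hconj t⟩ := by
    rw [Finset.prod_congr rfl fun t _ => hμval t, Finset.prod_sigma' Finset.univ]
    refine (Finset.prod_bij (fun (a : Σ _ : S ⧸ M, ↥M ⧸ P') _ =>
      (QuotientGroup.mk (a.1.out * (a.2.out : S)) : S ⧸ P)) ?_ ?_ ?_ ?_).symm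
    · rintro ⟨t, u⟩ hu
      simp only [Finset.mem_sigma, Finset.mem_filter, Finset.mem_univ, true_and] at hu ⊢
      rw [hfix]
      conv_lhs at hu => rw [← QuotientGroup.out_eq' u, MulAction.Quotient.smul_mk, smul_eq_mul]
      conv_rhs at hu => rw [← QuotientGroup.out_eq' u]
      rw [eq_comm, QuotientGroup.eq] at hu
      have hu' : ((u.out⁻¹ * ((⟨_, hconj t⟩ : ↥M) * u.out) : ↥M) : S) ∈ P := hu
      simpa [mul_assoc] using hu'
    · rintro ⟨t, u⟩ - ⟨t', u'⟩ - h
      rw [QuotientGroup.eq] at h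
      have hz : (t.out * (u.out : S))⁻¹ * (t'.out * (u'.out : S)) ∈ M := hPM h
      have ht : t = t' := by
        rw [← QuotientGroup.out_eq' t, ← QuotientGroup.out_eq' t', QuotientGroup.eq]
        have := M.mul_mem (M.mul_mem u.out.2 hz) (M.inv_mem u'.out.2)
        simpa [mul_assoc] using this
      subst ht
      congr 1
      rw [← QuotientGroup.out_eq' u, ← QuotientGroup.out_eq' u', QuotientGroup.eq]
      show ((u.out⁻¹ * u'.out : ↥M) : S) ∈ P
      simpa [mul_assoc] using h
    · intro q hq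
      obtain ⟨g, rfl⟩ := QuotientGroup.mk_surjective q
      simp only [Finset.mem_filter, Finset.mem_univ, true_and, hfix] at hq
      have hm : (QuotientGroup.mk g : S ⧸ M).out⁻¹ * g ∈ M := QuotientGroup.eq.1 (QuotientGroup.out_eq' _)
      set t := (QuotientGroup.mk g : S ⧸ M)
      set u := (QuotientGroup.mk (⟨_, hm⟩ : ↥M) : ↥M ⧸ P')
      have hu : (⟨t.out⁻¹ * g, hm⟩ : ↥M)⁻¹ * u.out ∈ P' := QuotientGroup.eq.1 (QuotientGroup.out_eq' u).symm
      have hu' : (t.out⁻¹ * g)⁻¹ * (u.out : S) ∈ P := hu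
      have hgu : (g⁻¹ * (t.out * (u.out : S))) ∈ P := by simpa [mul_assoc] using hu'
      have hfixmem : (t.out * (u.out : S))⁻¹ * x * (t.out * (u.out : S)) ∈ P := by
        have := P.mul_mem (P.mul_mem (P.inv_mem hgu) hq) hgu
        simpa [mul_assoc] using this
      refine ⟨⟨t, u⟩, ?_, (QuotientGroup.eq.2 hgu).symm⟩
      simp only [Finset.mem_sigma, Finset.mem_filter, Finset.mem_univ, true_and]
      conv_lhs => rw [← QuotientGroup.out_eq' u, MulAction.Quotient.smul_mk, smul_eq_mul]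
      conv_rhs => rw [← QuotientGroup.out_eq' u]
      rw [eq_comm, QuotientGroup.eq]
      show ((u.out⁻¹ * ((⟨_, hconj t⟩ : ↥M) * u.out) : ↥M) : S) ∈ P
      simpa [mul_assoc] using hfixmem
    · rintro ⟨t, u⟩ hu
      simp only [Finset.mem_sigma, Finset.mem_filter, Finset.mem_univ, true_and] at hu
      have hval : (((((⟨_, hconj t⟩ : ↥M) • u).out)⁻¹ * (⟨_, hconj t⟩ : ↥M) * u.out : ↥M) : S) =
          (t.out * (u.out : S))⁻¹ * x * (t.out * (u.out : S)) := by
        rw [hu]; push_cast; group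
      have hmem : (t.out * (u.out : S))⁻¹ * x * (t.out * (u.out : S)) ∈ P := hval ▸ (by
        have h : ((⟨_, hconj t⟩ : ↥M) • u).out⁻¹ * ((⟨_, hconj t⟩ : ↥M) * u.out) ∈ P' := QuotientGroup.eq.1 (by
          conv_lhs => rw [QuotientGroup.out_eq']
          conv_lhs => rw [← QuotientGroup.out_eq' u, MulAction.Quotient.smul_mk, smul_eq_mul])
        rw [← mul_assoc] at h
        exact h)
      rw [hcdef _ hmem]
      exact congrArg ϕ (Subtype.ext hval)
  rw [key]
  by_contra hne
  exact hnw (exists_wreath_quotient hS M hMi μ ⟨x, hxM⟩ hne)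

end Cfsg.Agent.FusionSys
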