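import Cfsg.Agent.Lib.Fusion.Alperin

/-!
# Alperin's fusion theorem with an induction hypothesis
-/

set_option autoImplicit false

namespace Cfsg.Agent.FusionSys

open Cfsg Cfsg.FusionSystem

variable {Ω : Type*} [Group Ω] {S : Subgroup Ω} {p : ℕ} [hp : Fact p.Prime] [Finite S]

/-- Alperin's fusion theorem, where the maps on larger subgroups may be assumed. -/
theorem alperin_ind (hS : IsPGroup p S) {F : FusionSystem S} (hF : F.IsSaturated p) {E : FusionSystem S}
    (hE : ∀ P : Subgroup Ω, (P = S ∨ F.IsEssential p P) →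
      (∀ N : Subgroup Ω, P < N → F.Hom N ⊆ E.Hom N) → F.autGroup P ≤ E.autGroup P) : F ≤ E := by
  intro P φ hφ
  induction hk : Nat.card S - Nat.card P using Nat.strong_induction_on generalizing P with
  | _ k ih =>
  have hPS := hom_le F hφ
  have := finite_of_le hPS
  rcases eq_or_lt_of_le hPS with rfl | hlt
  · have hr : φ.range = P := Subgroup.eq_of_le_of_card_ge (range_le F hφ) (isConj_card ⟨φ, hφ, rfl⟩).le
    obtain ⟨α, hα, hαe⟩ := exists_autGroup_of_range F hφ hr
    exact hom_congr E ((equivHom_autGroup E le_rfl).1 (hE P (Or.inl rfl)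
      (fun N hN ψ hψ => absurd (hom_le F hψ) (not_le_of_gt hN)) hα)) fun x => (hαe x).symm
  obtain ⟨Q, hPQ, hQ⟩ := exists_fullyNormalized F hPS
  have hcard : ∀ (A N : Subgroup Ω), N ≤ S → A < N → Nat.card S - Nat.card N < Nat.card S - Nat.card A := by
    intro A N hN hAN
    have := finite_of_le hN
    have h1 : Nat.card A < Nat.card N := lt_of_le_of_ne (Subgroup.card_le_of_le hAN.le)
      fun he => hAN.ne (Subgroup.eq_of_le_of_card_ge hAN.le he.ge)
    have h2 : Nat.card N ≤ Nat.card S := Subgroup.card_le_of_le hN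
    omega
  have step : ∀ (A : Subgroup Ω), F.IsConj A Q → Nat.card A = Nat.card P →
      ∃ e : A ≃* Q, equivHom e ∈ E.Hom A ∧ equivHom e ∈ F.Hom A := by
    intro A hA hAc
    have hAS := isConj_le_left hA
    have := finite_of_le hAS
    have hAlt : A < S := lt_of_le_of_ne hAS fun he => hlt.ne
      (Subgroup.eq_of_le_of_card_ge hPS (by rw [← hAc, he]))
    obtain ⟨ψ, hψ, -, hψA⟩ := exists_normalizer_map_fullyNormalized hS hF hQ hA
    have h1 := ih _ (hk ▸ hAc ▸ hcard A _ (normalizerIn_le S A) (lt_normalizerIn hS hAlt)) _ hψ rfl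
    exact ⟨mapEquiv F (restrict_mem F hψ (le_normalizerIn hAS)) (extend_restrict_range _ hψA),
      hom_congr E (restrict_mem E h1 (le_normalizerIn hAS)) (fun _ => rfl), equivHom_mapEquiv F _ _⟩
  obtain ⟨e₁, he₁E, he₁⟩ := step P hPQ rfl
  obtain ⟨e₂, he₂E, he₂⟩ := step φ.range (isConj_trans (isConj_symm ⟨φ, hφ, rfl⟩) hPQ)
    (isConj_card ⟨φ, hφ, rfl⟩).symm
  set f := mapEquiv F hφ rfl
  have hsymm : ∀ (D : FusionSystem S) {A B : Subgroup Ω} (e : A ≃* B), equivHom e ∈ D.Hom A →
      equivHom e.symm ∈ D.Hom B := by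
    intro D A B e he
    have := equivHom_mapEquiv_symm D he (equivHom_range e)
    have heq : mapEquiv D he (equivHom_range e) = e := MulEquiv.ext fun x => Subtype.ext rfl
    rwa [heq] at this
  set α : MulAut Q := e₁.symm.trans (f.trans e₂)
  have hα : α ∈ F.autGroup Q := (equivHom_autGroup F hQ.1).2
    (equivHom_trans F (hsymm F e₁ he₁) (equivHom_trans F (equivHom_mapEquiv F hφ rfl) he₂))
  have hαE : α ∈ E.autGroup Q := by
    by_cases hess : F.IsEssential p Q
    · exact hE Q (Or.inr hess) (fun N hN ψ hψ => ih _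
        (hk ▸ (isConj_card hPQ).symm ▸ hcard Q N (hom_le F hψ) hN) _ hψ rfl) hα
    have hQlt : Q < S := lt_of_le_of_ne hQ.1 fun he => hlt.ne
      (Subgroup.eq_of_le_of_card_ge hPS (by rw [isConj_card hPQ, he]))
    have heq : extendableGroup F Q = F.autGroup Q := by
      rcases fullyNormalized_dichotomy hS hF hQlt hQ with h | h
      · exact h.2
      · exact absurd h.1 hess
    refine (Subgroup.closure_le _).2 ?_ (heq.ge hα)
    rintro β ⟨N, hQN, ψ, hψ, he⟩
    have h1 := ih _ (hk ▸ (isConj_card hPQ).symm ▸ hcard Q N (hom_le F hψ) hQN) _ hψ rfl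
    exact Subgroup.subset_closure (hom_congr E (restrict_mem E h1 hQN.le) fun x => (he x).symm)
  have := equivHom_trans E he₁E (equivHom_trans E ((equivHom_autGroup E hQ.1).1 hαE) (hsymm E e₂ he₂E))
  refine hom_congr E this fun x => ?_
  show φ x = ((e₂.symm (e₂ (f (e₁.symm (e₁ x)))) : _) : Ω)
  rw [e₂.symm_apply_apply, e₁.symm_apply_apply]
  rfl

end Cfsg.Agent.FusionSys
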