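/-
The strong form of the Alperin–Goldschmidt conjugation theorem: the local elements may be taken in
`O^p` of the smallest normal subgroup of order divisible by `p` of a disconnected local quotient.
-/
import Cfsg.Agent.Lib.Fusion.AlperinGroup
import Cfsg.Agent.Lib.SylowChains.PPrime
import Cfsg.Agent.Lib.Components.Extended
import Cfsg.Agent.Lib.Components.BenderMaximal

set_option autoImplicit false
set_option linter.unusedSectionVars false

namespace Cfsg.Agent.AlperinStrong

open Subgroup
open scoped Pointwise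

variable {G : Type*} [Group G] [Finite G] {p : ℕ} [hp : Fact p.Prime]

/-- Conjugation, as a map of sets. -/
abbrev cj (g : G) (A : Set G) : Set G := (fun a => g⁻¹ * a * g) '' A

/-- The allowed factors: `(H, X, x)`. -/
def Piece (S : Sylow p G) (H X : Subgroup G) (x : G) : Prop :=
  H ≤ (S : Subgroup G) ∧
  ¬ p ∣ ((S : Subgroup G) ⊓ normalizer (H : Set G)).relIndex (normalizer (H : Set G)) ∧
  (S : Subgroup G) ⊓ centralizer (H : Set G) ≤ H ∧
  (Cfsg.pPrimePCore p ↥(normalizer (H : Set G))).map (normalizer (H : Set G)).subtype =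
    H ⊔ centralizer (H : Set G) ∧
  ¬ Cfsg.IsSylowChainConnected p (↥(normalizer (H : Set G)) ⧸ H.subgroupOf (normalizer (H : Set G))) ∧
  (H ≤ X ∧ X ≤ normalizer (H : Set G) ∧ (X.subgroupOf (normalizer (H : Set G))).Normal ∧
    p ∣ H.relIndex X ∧
    ∀ Y : Subgroup G, H ≤ Y → Y ≤ normalizer (H : Set G) →
      (Y.subgroupOf (normalizer (H : Set G))).Normal → p ∣ H.relIndex Y → X ≤ Y) ∧
  x ∈ (Cfsg.pResidual p ↥X).map X.subtype

/-- The piece is invariant under automorphisms stabilizing `S`. -/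
theorem Piece.map {S : Sylow p G} {H X : Subgroup G} {x : G} (h : Piece S H X x) (φ : G ≃* G)
    (hS : (S : Subgroup G).map φ.toMonoidHom = S) :
    Piece S (H.map φ.toMonoidHom) (X.map φ.toMonoidHom) (φ x) := by
  obtain ⟨h1, h2, h3, h4, h5, ⟨h6, h7, h8, h9, h10⟩, h11⟩ := h
  have hNn : (normalizer (H : Set G)).map φ.toMonoidHom = normalizer ((H.map φ.toMonoidHom : Subgroup G) : Set G) :=
    map_equiv_normalizer_eq H φ
  have hC : (centralizer (H : Set G)).map φ.toMonoidHom = centralizer ((H.map φ.toMonoidHom : Subgroup G) : Set G) :=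
    Components.map_centralizer_equiv φ H
  let e : ↥(normalizer (H : Set G)) ≃* ↥(normalizer ((H.map φ.toMonoidHom : Subgroup G) : Set G)) := (φ.subgroupMap _).trans (MulEquiv.subgroupCongr hNn)
  have he : ∀ n, (e n : G) = φ n := fun _ => rfl
  refine ⟨hS ▸ Subgroup.map_mono h1, ?_, ?_, ?_, ?_,
    ⟨Subgroup.map_mono h6, (Subgroup.map_mono h7).trans hNn.le, ?_, ?_, fun Y hY1 hY2 hY3 hY4 => ?_⟩, ?_⟩
  · conv_rhs => rw [← hNn, ← hS, ← map_inf _ _ _ φ.injective, relIndex_map_map_of_injective _ _ φ.injective]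
    exact h2
  · rw [← hC]
    conv_lhs => rw [← hS, ← map_inf _ _ _ φ.injective]
    exact Subgroup.map_mono h3
  · rw [← hC, ← Subgroup.map_sup, ← h4, ← Components.pPrimePCore_map_equiv e, Subgroup.map_map, Subgroup.map_map]
    rfl
  · rw [SylowConn.not_connected_iff] at h5 ⊢
    obtain ⟨M, hM1, hM2, hM3⟩ := h5
    let q : (↥(normalizer (H : Set G)) ⧸ H.subgroupOf (normalizer (H : Set G))) ≃*
        (↥(normalizer ((H.map φ.toMonoidHom : Subgroup G) : Set G)) ⧸
          (H.map φ.toMonoidHom).subgroupOf (normalizer ((H.map φ.toMonoidHom : Subgroup G) : Set G))) :=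
      QuotientGroup.congr _ _ e (by
      ext y
      obtain ⟨n, rfl⟩ := e.surjective y
      rw [show (e : _ →* _) = e.toMonoidHom from rfl, mem_map_equiv, e.symm_apply_apply, mem_subgroupOf,
        mem_subgroupOf, he]
      exact (mem_map_iff_mem φ.injective).symm)
    refine ⟨M.map q.toMonoidHom, fun ht => hM1 ?_, ?_, fun g hg => ?_⟩
    · exact Subgroup.map_injective (f := q.toMonoidHom) q.injective
        (ht.trans (map_top_of_surjective q.toMonoidHom q.surjective).symm)
    · rw [card_map_of_injective (f := q.toMonoidHom) q.injective]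
      exact hM2
    · obtain ⟨g₀, rfl⟩ := q.surjective g
      have hconj : (M.map q.toMonoidHom).map (MulAut.conj (q g₀)).toMonoidHom =
          (M.map (MulAut.conj g₀).toMonoidHom).map q.toMonoidHom := by
        rw [Subgroup.map_map, Subgroup.map_map]
        refine congrArg (fun f => Subgroup.map f M) (MonoidHom.ext fun y => ?_)
        show q g₀ * q y * (q g₀)⁻¹ = q (g₀ * y * g₀⁻¹)
        rw [map_mul, map_mul, map_inv]
      rw [hconj, ← map_inf _ _ q.toMonoidHom q.injective, card_map_of_injective (f := q.toMonoidHom) q.injective]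
      exact hM3 g₀ fun hmem => hg ⟨g₀, hmem, rfl⟩
  · rw [← hNn]
    exact (normal_subgroupOf_iff_le_normalizer (Subgroup.map_mono h7)).2
      ((Subgroup.map_mono ((normal_subgroupOf_iff_le_normalizer h7).1 h8)).trans
        (map_equiv_normalizer_eq X φ).le)
  · rw [relIndex_map_map_of_injective _ _ φ.injective]; exact h9
  · set Y₀ := Y.map φ.symm.toMonoidHom with hY₀
    have hback : Y₀.map φ.toMonoidHom = Y := by
      rw [hY₀, Subgroup.map_map]
      convert Subgroup.map_id Y
      ext y; simp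
    rw [← hback] at hY1 hY2 hY3 hY4 ⊢
    rw [Subgroup.map_le_map_iff_of_injective φ.injective] at hY1 ⊢
    rw [← hNn, Subgroup.map_le_map_iff_of_injective φ.injective] at hY2
    rw [relIndex_map_map_of_injective _ _ φ.injective] at hY4
    refine h10 Y₀ hY1 hY2 ((normal_subgroupOf_iff_le_normalizer hY2).2 ?_) hY4
    rw [← Subgroup.map_le_map_iff_of_injective (f := φ.toMonoidHom) φ.injective, hNn,
      map_equiv_normalizer_eq]
    exact (normal_subgroupOf_iff_le_normalizer ((Subgroup.map_mono hY2).trans hNn.le)).1 hY3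
  · obtain ⟨y, hy, rfl⟩ := h11
    refine ⟨φ.subgroupMap X y, ?_, rfl⟩
    rw [Cfsg.pResidual] at hy ⊢
    have h := mem_map_of_mem (φ.subgroupMap X).toMonoidHom hy
    rw [MonoidHom.map_closure] at h
    refine closure_mono ?_ h
    rintro _ ⟨w, hw, rfl⟩
    show (orderOf (φ.subgroupMap X w)).Coprime p
    rw [MulEquiv.orderOf_eq]
    exact hw

/-- Decompositions into allowed factors. -/
inductive Good (S : Sylow p G) : Set G → G → Prop
  | nil {A : Set G} {c y : G} : c ∈ centralizer A → y ∈ normalizer ((S : Subgroup G) : Set G) →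
      Good S A (c * y)
  | cons {A : Set G} {x g : G} (H X : Subgroup G) : Piece S H X x → A ⊆ (H : Set G) →
      Good S (cj x A) g → Good S A (x * g)

variable {S : Sylow p G}

theorem good_normalizer (A : Set G) {y : G} (hy : y ∈ normalizer ((S : Subgroup G) : Set G)) :
    Good S A y := by
  have := Good.nil (S := S) (A := A) (one_mem (centralizer A)) hy
  rwa [one_mul] at this

theorem cj_cj (x y : G) (A : Set G) : cj y (cj x A) = cj (x * y) A := by
  simp only [cj, Set.image_image]
  exact Set.image_congr fun a _ => by group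

theorem Good.mono {B : Set G} {g : G} (h : Good S B g) : ∀ {A : Set G}, A ⊆ B → Good S A g := by
  induction h with
  | nil hc hy => exact fun hA => .nil (centralizer_le hA hc) hy
  | cons H X hP hB _ ih => exact fun hA => .cons H X hP (hA.trans hB) (ih (Set.image_mono hA))

/-- Moving a centralizing element in. -/
theorem Good.cmul {A : Set G} {k : G} (h : Good S A k) :
    ∀ {c : G}, c ∈ centralizer A → Good S A (c * k) := by
  induction h with
  | nil hc hy => exact fun hd => by rw [← mul_assoc]; exact .nil (mul_mem hd hc) hy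
  | @cons A x g H X hP hA _ ih =>
    intro c hc
    rw [show c * (x * g) = x * (x⁻¹ * c * x * g) by group]
    refine .cons H X hP hA (ih (mem_centralizer_iff.2 ?_))
    rintro _ ⟨a, ha, rfl⟩
    calc x⁻¹ * a * x * (x⁻¹ * c * x) = x⁻¹ * (a * c) * x := by group
      _ = x⁻¹ * (c * a) * x := by rw [mem_centralizer_iff.1 hc a ha]
      _ = x⁻¹ * c * x * (x⁻¹ * a * x) := by group

/-- Moving an element of `N(S)` in. -/
theorem Good.ymul {A : Set G} {k : G} (h : Good S A k) :
    ∀ {y : G}, y ∈ normalizer ((S : Subgroup G) : Set G) → Good S (cj y⁻¹ A) (y * k) := by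
  induction h with
  | @nil A c y₀ hc hy₀ =>
    intro y hy
    rw [show y * (c * y₀) = (y * c * y⁻¹) * (y * y₀) by group]
    refine .nil (mem_centralizer_iff.2 ?_) (mul_mem hy hy₀)
    rintro _ ⟨a, ha, rfl⟩
    calc y⁻¹⁻¹ * a * y⁻¹ * (y * c * y⁻¹) = y * (a * c) * y⁻¹ := by group
      _ = y * (c * a) * y⁻¹ := by rw [mem_centralizer_iff.1 hc a ha]
      _ = y * c * y⁻¹ * (y⁻¹⁻¹ * a * y⁻¹) := by group
  | @cons A x g H X hP hA _ ih =>
    intro y hy
    rw [show y * (x * g) = (y * x * y⁻¹) * (y * g) by group]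
    have hP' := hP.map (MulAut.conj y) (LEBasic.map_conj_eq_iff_mem_normalizer.2 hy)
    refine .cons _ _ hP' ?_ ?_
    · rintro _ ⟨a, ha, rfl⟩
      exact ⟨a, hA ha, by simp⟩
    · have := ih hy
      rw [cj_cj] at this ⊢
      rwa [show y⁻¹ * (y * x * y⁻¹) = x * y⁻¹ by group]

theorem Good.trans {A : Set G} {g : G} (h : Good S A g) :
    ∀ {k : G}, Good S (cj g A) k → Good S A (g * k) := by
  induction h with
  | @nil A c y hc hy =>
    intro k hk
    rw [mul_assoc]
    refine Good.cmul ?_ hc
    have h1 := hk.ymul hy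
    rw [cj_cj, mul_inv_cancel_right] at h1
    refine h1.mono fun a ha => ⟨a, ha, ?_⟩
    show c⁻¹ * a * c = a
    rw [mul_assoc, mem_centralizer_iff.1 hc a ha, inv_mul_cancel_left]
  | @cons A x g H X hP hA _ ih =>
    intro k hk
    rw [mul_assoc]
    refine .cons H X hP hA (ih ?_)
    rwa [cj_cj]

/-- A generation criterion from chain-connectedness. -/
theorem eq_top_of_connected {Q : Type*} [Group Q] [Finite Q] (hconn : Cfsg.IsSylowChainConnected p Q)
    (T : Sylow p Q) (hT : (T : Subgroup Q) ≠ ⊥) (W : Subgroup Q)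
    (hW : ∀ m : Q, (T : Subgroup Q) ⊓ ((m • T : Sylow p Q) : Subgroup Q) ≠ ⊥ → m ∈ W) : W = ⊤ := by
  have hfix : ∀ m : Q, m • T = T → m ∈ W := fun m hm => hW m (by rw [hm, inf_idem]; exact hT)
  rw [eq_top_iff]
  intro g _
  obtain ⟨n, c, h0, hn, -, hadj⟩ := hconn T (g • T)
  have hall : ∀ i : Fin (n + 1), ∃ k ∈ W, k • T = c i := by
    intro i
    induction i using Fin.induction with
    | zero => exact ⟨1, one_mem _, by rw [one_smul, h0]⟩
    | succ i ih =>
      obtain ⟨k, hk, hkc⟩ := ih
      obtain ⟨l, hl⟩ := MulAction.exists_smul_eq Q T (c i.succ)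
      have h1 : k⁻¹ * l ∈ W := hW _ fun hb => (hadj i).2 (by
        rw [← hkc, ← hl, show l • T = k • ((k⁻¹ * l) • T) by rw [← mul_smul, mul_inv_cancel_left],
          SylowConn.coe_smul', SylowConn.coe_smul' k ((k⁻¹ * l) • T),
          ← Subgroup.map_inf _ _ _ (MulAut.conj k).injective, hb, Subgroup.map_bot])
      exact ⟨l, by simpa using mul_mem hk h1, hl⟩
  obtain ⟨k, hk, hkc⟩ := hall (Fin.last n)
  rw [hn] at hkc
  simpa using mul_mem hk (hfix (k⁻¹ * g) (by rw [mul_smul, ← hkc, inv_smul_smul]))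

/-- A least normal subgroup of order divisible by `p`. -/
theorem exists_least {Q : Type*} [Group Q] [Finite Q] {M : Subgroup Q} (hM : SylowConn.IsSE p M) :
    ∃ X : Subgroup Q, X.Normal ∧ p ∣ Nat.card X ∧
      ∀ Y : Subgroup Q, Y.Normal → p ∣ Nat.card Y → X ≤ Y := by
  classical
  have hex : ∃ k, ∃ X : Subgroup Q, X.Normal ∧ p ∣ Nat.card X ∧ Nat.card X = k :=
    ⟨_, ⊤, inferInstance, by rw [card_top]; exact hM.2.1.trans (card_subgroup_dvd_card M), rfl⟩
  obtain ⟨X, hX, hXp, hXk⟩ := Nat.find_spec hex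
  refine ⟨X, hX, hXp, fun Y hY hYp => ?_⟩
  haveI := hX
  haveI := hY
  have hmin := Nat.find_min' hex ⟨X ⊓ Y, inferInstance, hM.dvd_card_inf X Y hXp hYp, rfl⟩
  exact inf_eq_left.1 (eq_of_le_of_card_ge inf_le_left (hXk.le.trans hmin))

theorem commute_core {D : Subgroup G} {o d : G}
    (ho : o ∈ (Cfsg.pPrimeCore p ↥(normalizer (D : Set G))).map (normalizer (D : Set G)).subtype)
    (hd : d ∈ D) (hDp : IsPGroup p D) : o * d = d * o := by
  haveI : (Cfsg.pPrimeCore p ↥(normalizer (D : Set G))).Normal := Subgroup.sSup_normal _ fun K hK => hK.1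
  have hcore : ∀ x ∈ (Cfsg.pPrimeCore p ↥(normalizer (D : Set G))).map (normalizer (D : Set G)).subtype,
      (orderOf x).Coprime p := by
    rintro _ ⟨o₀, ho₀, rfl⟩
    rw [coe_subtype, orderOf_coe]
    exact PBasic.coprime_orderOf_of_mem (AxB.coprime_card_pPrimeCore p) ho₀
  have hoN : o ∈ normalizer (D : Set G) := map_subtype_le _ ho
  have h1 : o * d * o⁻¹ * d⁻¹ ∈ D := mul_mem ((mem_normalizer_iff.1 hoN d).1 hd) (inv_mem hd)
  have h2 : o * d * o⁻¹ * d⁻¹ ∈ (Cfsg.pPrimeCore p ↥(normalizer (D : Set G))).map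
      (normalizer (D : Set G)).subtype := by
    rw [mul_assoc, mul_assoc, ← mul_assoc d]
    exact mul_mem ho ((mem_normalizer_iff.1 (BenderMax.le_normalizer_map _ (le_normalizer hd)) _).1 (inv_mem ho))
  have h3 := PBasic.eq_one_of_isPGroup_of_coprime hDp h1 (hcore _ h2)
  rwa [mul_inv_eq_one, mul_inv_eq_iff_eq_mul] at h3

/-- The set of elements of a local normalizer with a decomposition. -/
theorem local_step {D : Subgroup G} (hD : AlperinGroup.Local S D) (hne : D ≠ (S : Subgroup G))
    (hbig : ∀ B : Subgroup G, Nat.card D < Nat.card B → B ≤ (S : Subgroup G) → ∀ g : G,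
      cj g (B : Set G) ⊆ ((S : Subgroup G) : Set G) → Good S (B : Set G) g) :
    ∀ x ∈ normalizer (D : Set G), Good S (D : Set G) x := by
  classical
  obtain ⟨hDS, hCD, ⟨-, hdD, -, -, hsup⟩, hsyl⟩ := hD
  set N := normalizer (D : Set G) with hN
  have hDN : D ≤ N := le_normalizer
  set Dn := D.subgroupOf N with hDn
  haveI : Dn.Normal := normal_in_normalizer
  have hfixD : ∀ x ∈ N, cj x (D : Set G) = (D : Set G) := by
    intro x hx
    ext y
    refine ⟨?_, fun hy => ⟨x * y * x⁻¹, (mem_normalizer_iff.1 hx y).1 hy, by group⟩⟩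
    rintro ⟨a, ha, rfl⟩
    exact (mem_normalizer_iff''.1 hx a).1 ha
  -- the subgroup of elements with a decomposition
  have hmul : ∀ x y : ↥N, Good S (D : Set G) x → Good S (D : Set G) y → Good S (D : Set G) (x * y : ↥N) :=
    fun x y hx hy => hx.trans (by rw [hfixD x x.2]; exact hy)
  have hone : Good S (D : Set G) ((1 : ↥N) : G) := good_normalizer _ (one_mem _)
  let W : Subgroup ↥N :=
    { carrier := {x | Good S (D : Set G) x}
      one_mem' := hone
      mul_mem' := fun {x y} => hmul x y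
      inv_mem' := fun {x} hx => by
        have hpow : ∀ k : ℕ, Good S (D : Set G) ((x ^ k : ↥N) : G) := by
          intro k
          induction k with
          | zero => rw [pow_zero]; exact hone
          | succ k ih => rw [pow_succ]; exact hmul _ _ ih hx
        have e : x⁻¹ = x ^ (orderOf x - 1) := inv_eq_of_mul_eq_one_right (by
          rw [← pow_succ', Nat.sub_add_cancel (orderOf_pos x), pow_orderOf_eq_one])
        show Good S (D : Set G) ((x⁻¹ : ↥N) : G)
        rw [e]; exact hpow _ }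
  suffices hW : W = ⊤ from fun x hx => (hW.ge (mem_top (⟨x, hx⟩ : ↥N)) : _)
  -- the Sylow subgroup of `N`
  have hT0 : IsPGroup p (((S : Subgroup G) ⊓ N).subgroupOf N) :=
    (S.isPGroup'.to_le inf_le_left).comap_of_injective _ N.subtype_injective
  let T : Sylow p ↥N := hT0.toSylow hsyl
  have hTmem : ∀ x : ↥N, x ∈ (T : Subgroup ↥N) ↔ (x : G) ∈ (S : Subgroup G) := fun x =>
    ⟨fun h => h.1, fun h => ⟨h, x.2⟩⟩
  have hDT : Dn ≤ (T : Subgroup ↥N) := fun x hx => (hTmem x).2 (hDS hx)
  have hDnT : Dn ≠ (T : Subgroup ↥N) := fun heq => hne (LESylow.eq_of_normalizer_inf_le S.isPGroup' hDS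
    fun x hx => by
      have : (⟨x, hx.2⟩ : ↥N) ∈ Dn := heq ▸ (hTmem _).2 hx.1
      exact this)
  -- big intersections
  have hR : ∀ (R : Subgroup ↥N) (m : ↥N), Dn ≤ R → R ≠ Dn → R ≤ (T : Subgroup ↥N) →
      (∀ r ∈ R, m⁻¹ * r * m ∈ (T : Subgroup ↥N)) → m ∈ W := by
    intro R m hDR hRD hRT hm
    have hmap : D = Dn.map N.subtype := (map_subgroupOf_eq_of_le hDN).symm
    have hlt : Nat.card D < Nat.card (R.map N.subtype) := by
      rw [hmap, card_map_of_injective N.subtype_injective, card_map_of_injective N.subtype_injective]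
      exact lt_of_le_of_ne (card_le_of_le hDR) fun he => hRD (eq_of_le_of_card_ge hDR he.ge).symm
    refine (hbig _ hlt ?_ m ?_).mono fun d hd => ⟨⟨d, hDN hd⟩, hDR hd, rfl⟩
    · rintro _ ⟨r, hr, rfl⟩; exact (hTmem r).1 (hRT hr)
    · rintro _ ⟨_, ⟨r, hr, rfl⟩, rfl⟩
      exact (hTmem _).1 (hm r hr)
  -- the quotient
  let π := QuotientGroup.mk' Dn
  have hπ : Function.Surjective π := QuotientGroup.mk'_surjective Dn
  let Tb : Sylow p (↥N ⧸ Dn) := T.mapSurjective hπ
  have hTb : ∀ x : ↥N, π x ∈ (Tb : Subgroup (↥N ⧸ Dn)) ↔ x ∈ (T : Subgroup ↥N) := fun x => by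
    show π x ∈ (T : Subgroup ↥N).map π ↔ _
    rw [← mem_comap, comap_map_eq, QuotientGroup.ker_mk', sup_eq_left.2 hDT]
  have hTb1 : (Tb : Subgroup (↥N ⧸ Dn)) ≠ ⊥ := fun hb => hDnT (le_antisymm hDT fun x hx => by
    have := (hTb x).2 hx
    rwa [hb, mem_bot, QuotientGroup.mk'_apply, QuotientGroup.eq_one_iff] at this)
  by_cases hconn : Cfsg.IsSylowChainConnected p (↥N ⧸ Dn)
  · have h := eq_top_of_connected hconn Tb hTb1 (W.map π) fun mb hmb => by
      obtain ⟨m, rfl⟩ := hπ mb
      refine mem_map_of_mem π ?_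
      let R : Subgroup ↥N := ((Tb : Subgroup (↥N ⧸ Dn)) ⊓ ((π m • Tb : Sylow p _) : Subgroup _)).comap π
      have hDR : Dn ≤ R := fun d hd => by
        refine mem_comap.2 ?_
        rw [show π d = 1 from (QuotientGroup.eq_one_iff d).2 hd]
        exact one_mem _
      refine hR R m hDR (fun he => hmb ?_) (fun r hr => (hTb r).1 hr.1) fun r hr => ?_
      · rw [← map_comap_eq_self_of_surjective hπ ((Tb : Subgroup (↥N ⧸ Dn)) ⊓ _)]
        show R.map π = ⊥
        rw [he, QuotientGroup.map_mk'_self]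
      · have h2 : π r ∈ ((π m • Tb : Sylow p _) : Subgroup _) := hr.2
        rw [SylowConn.coe_smul', LEBasic.mem_map_conj, ← map_inv, ← map_mul, ← map_mul] at h2
        exact (hTb _).1 h2
    rw [eq_top_iff]
    intro x _
    obtain ⟨w, hw, hwx⟩ := h.ge (mem_top (π x))
    have h1 : w⁻¹ * x ∈ Dn := (QuotientGroup.eq).1 hwx
    have h2 : w⁻¹ * x ∈ W := by
      refine hR (T : Subgroup ↥N) _ hDT (Ne.symm hDnT) le_rfl fun r hr => ?_
      exact mul_mem (mul_mem (inv_mem (hDT h1)) hr) (hDT h1)
    have := W.mul_mem hw h2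
    rwa [mul_inv_cancel_left] at this
  · obtain ⟨M, hM⟩ := SylowConn.not_connected_iff.1 hconn
    obtain ⟨Xb, hXn, hXp, hXl⟩ := exists_least hM
    haveI := hXn
    let X₀ : Subgroup ↥N := Xb.comap π
    haveI : X₀.Normal := inferInstance
    have hDX₀ : Dn ≤ X₀ := fun d hd => by
      show π d ∈ Xb
      rw [show π d = 1 from (QuotientGroup.eq_one_iff d).2 hd]
      exact one_mem _
    let X : Subgroup G := X₀.map N.subtype
    have hXN : X ≤ N := map_subtype_le X₀
    have hXX : X.subgroupOf N = X₀ := comap_map_eq_self_of_injective N.subtype_injective X₀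
    have hrel : ∀ Y₀ : Subgroup ↥N, Dn ≤ Y₀ →
        Nat.card (Y₀.map π) = D.relIndex (Y₀.map N.subtype) := by
      intro Y₀ hY₀
      have h1 := relIndex_map_map π Dn Y₀
      rw [QuotientGroup.map_mk'_self, QuotientGroup.ker_mk', sup_idem, sup_eq_left.2 hY₀,
        relIndex_bot_left] at h1
      rw [h1, ← relIndex_map_map_of_injective (f := N.subtype) Dn Y₀ N.subtype_injective,
        map_subgroupOf_eq_of_le hDN]
    have hXb : X₀.map π = Xb := map_comap_eq_self_of_surjective hπ Xb
    have hDX : D ≤ X := fun d hd => ⟨⟨d, hDN hd⟩, hDX₀ hd, rfl⟩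
    have hcond : ∀ x, x ∈ (Cfsg.pResidual p ↥X).map X.subtype → Piece S D X x := by
      intro x hx
      refine ⟨hDS, hsyl, ?_, ?_, hconn, ⟨hDX, hXN, hXX ▸ ‹X₀.Normal›, ?_, fun Y hDY hYN hYn hYp => ?_⟩, hx⟩
      · intro c hc
        obtain ⟨hcS, hcC⟩ := mem_inf.1 hc
        have hcM := hCD hcC
        rw [← hsup, ← SetLike.mem_coe,
          coe_mul_of_right_le_normalizer_left _ _ (hDN.trans (by
            haveI : (Cfsg.pPrimeCore p ↥N).Normal := Subgroup.sSup_normal _ fun K hK => hK.1
            exact BenderMax.le_normalizer_map _))] at hcM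
        obtain ⟨o, ho, d, hd, rfl⟩ := hcM
        have hoS : o ∈ (S : Subgroup G) := by
          simpa using mul_mem hcS (inv_mem (hDS hd))
        have ho1 : o = 1 := by
          obtain ⟨o₀, ho₀, rfl⟩ := ho
          refine PBasic.eq_one_of_isPGroup_of_coprime S.isPGroup' hoS ?_
          show (orderOf (o₀ : G)).Coprime p
          rw [orderOf_coe]
          exact PBasic.coprime_orderOf_of_mem (AxB.coprime_card_pPrimeCore p) ho₀
        simpa [ho1] using hd
      · refine le_antisymm ?_ (sup_le hdD hCD)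
        rw [← hsup]
        refine sup_le (fun o ho => mem_sup_right (mem_centralizer_iff.2 fun d hd => ?_)) le_sup_left
        exact (commute_core ho hd (S.isPGroup'.to_le hDS)).symm
      · rw [← hrel X₀ hDX₀, hXb]; exact hXp
      · have hY₀ : Dn ≤ Y.subgroupOf N := fun d hd => hDY hd
        have h2 := hXl ((Y.subgroupOf N).map π) (hYn.map _ hπ)
          (by rw [hrel _ hY₀, map_subgroupOf_eq_of_le hYN]; exact hYp)
        have h3 := Subgroup.comap_mono (f := π) h2
        rw [comap_map_eq, QuotientGroup.ker_mk', sup_eq_left.2 hY₀] at h3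
        calc X ≤ (Y.subgroupOf N).map N.subtype := Subgroup.map_mono h3
          _ ≤ Y := by rw [map_subgroupOf_eq_of_le hYN]
    -- the residual
    have hres : (Cfsg.pResidual p ↥X₀).map X₀.subtype ≤ W := by
      rintro _ ⟨x, hx, rfl⟩
      show Good S (D : Set G) ((x : ↥N) : G)
      let e : ↥X₀ ≃* ↥X := X₀.equivMapOfInjective N.subtype N.subtype_injective
      have hx' : e x ∈ Cfsg.pResidual p ↥X := by
        rw [Cfsg.pResidual] at hx ⊢
        have h := mem_map_of_mem e.toMonoidHom hx
        rw [MonoidHom.map_closure] at h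
        refine closure_mono ?_ h
        rintro _ ⟨w, hw, rfl⟩
        show (orderOf (e w)).Coprime p
        rw [MulEquiv.orderOf_eq]
        exact hw
      have h := Good.cons (S := S) (A := (D : Set G)) D X (hcond _ ⟨e x, hx', rfl⟩) subset_rfl
        (good_normalizer _ (one_mem _))
      rw [mul_one] at h
      exact h
    obtain ⟨Q, hQ⟩ := PBasic.exists_sylow_subgroupOf T X₀
    have hTX : (Q : Subgroup ↥X₀).map X₀.subtype = (T : Subgroup ↥N) ⊓ X₀ := by
      rw [hQ, subgroupOf_map_subtype]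
    have hTXD : (T : Subgroup ↥N) ⊓ X₀ ≠ Dn := fun he => by
      have hd := Q.not_dvd_index
      rw [hQ, show ((T : Subgroup ↥N).subgroupOf X₀).index = (T : Subgroup ↥N).relIndex X₀ from rfl,
        ← inf_relIndex_right, he, ← relIndex_map_map_of_injective (f := N.subtype) Dn X₀ N.subtype_injective,
        map_subgroupOf_eq_of_le hDN, ← hrel X₀ hDX₀, hXb] at hd
      exact hd hXp
    have hTXT : (T : Subgroup ↥N) ⊓ X₀ ≤ W := by
      intro r hr
      refine hR (T : Subgroup ↥N) r hDT (Ne.symm hDnT) le_rfl fun s hs => ?_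
      exact mul_mem (mul_mem (inv_mem hr.1) hs) hr.1
    have hX₀W : X₀ ≤ W := by
      have h1 := congrArg (Subgroup.map X₀.subtype) (PBasic.sylow_sup_pResidual Q)
      rw [Subgroup.map_sup, hTX, ← MonoidHom.range_eq_map, range_subtype] at h1
      rw [← h1]
      exact sup_le hTXT hres
    rw [eq_top_iff, ← Sylow.normalizer_sup_eq_top Q, hTX]
    refine sup_le (fun m hm => ?_) hX₀W
    refine hR ((T : Subgroup ↥N) ⊓ X₀) m (le_inf hDT hDX₀) hTXD inf_le_left fun r hr => ?_
    exact ((mem_normalizer_iff''.1 hm r).1 hr).1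

theorem card_closure_cj (x : G) (A : Set G) : Nat.card (closure (cj x A)) = Nat.card (closure A) := by
  have : closure (cj x A) = (closure A).map (MulAut.conj x⁻¹).toMonoidHom := by
    rw [MonoidHom.map_closure]
    congr 1
    exact Set.image_congr fun a _ => by simp
  rw [this, card_map_of_injective (MulAut.conj x⁻¹).injective]

/-- From a chain to a decomposition, given the local statement in large subgroups. -/
theorem of_chain (d : ℕ) (hloc : ∀ D : Subgroup G, AlperinGroup.Local S D → d ≤ Nat.card D →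
      ∀ x ∈ normalizer (D : Set G), Good S (D : Set G) x)
    {A : Set G} {g : G} (h : AlperinGroup.Chain S A g) :
    d ≤ Nat.card (closure A) → Good S A g := by
  induction h with
  | @nil A c hc => exact fun _ => by simpa using (good_normalizer A (one_mem _)).cmul hc
  | @cons A x g D hD hx hA _ ih =>
    intro hd
    have h1 : closure A ≤ D := (closure_le _).2 hA
    exact ((hloc D hD (hd.trans (card_le_of_le h1)) x hx).mono hA).trans
      (ih (hd.trans (card_closure_cj x A).ge))

theorem local_all : ∀ k : ℕ, ∀ D : Subgroup G, AlperinGroup.Local S D →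
    Nat.card (S : Subgroup G) - Nat.card D ≤ k → ∀ x ∈ normalizer (D : Set G), Good S (D : Set G) x := by
  intro k
  induction k using Nat.strong_induction_on with
  | _ k ih =>
    intro D hD hk x hx
    by_cases hne : D = (S : Subgroup G)
    · subst hne; exact good_normalizer _ hx
    refine local_step hD hne (fun B hB hBS g hg => ?_) x hx
    refine of_chain (Nat.card B) (fun D' hD' hd' => ih _ ?_ D' hD' le_rfl)
      (AlperinGroup.exists_chain S hBS hg) (by rw [closure_eq])
    have := card_le_of_le hD'.1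
    omega

theorem exists_good {A : Set G} (hA : A ⊆ ((S : Subgroup G) : Set G)) {g : G}
    (hg : cj g A ⊆ ((S : Subgroup G) : Set G)) : Good S A g :=
  of_chain 0 (fun D hD _ => local_all _ D hD le_rfl) (AlperinGroup.exists_chain S hA hg) (Nat.zero_le _)

/-- The list form. -/
theorem Good.exists_list {A : Set G} {g : G} (h : Good S A g) :
    ∃ (n : ℕ) (H X : Fin n → Subgroup G) (x : Fin n → G) (c y : G),
      c ∈ centralizer A ∧ y ∈ normalizer ((S : Subgroup G) : Set G) ∧
      g = c * (List.ofFn x).prod * y ∧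
      ∀ i : Fin n, Piece S (H i) (X i) (x i) ∧
        cj ((List.ofFn x).take i.val).prod A ⊆ (H i : Set G) := by
  induction h with
  | @nil A c y hc hy => exact ⟨0, Fin.elim0, Fin.elim0, Fin.elim0, c, y, hc, hy, by simp, fun i => i.elim0⟩
  | @cons A x₀ g H₀ X₀ hP hA _ ih =>
    obtain ⟨n, H, X, x, c, y, hc, hy, hg, hi⟩ := ih
    refine ⟨n + 1, Fin.cons H₀ H, Fin.cons X₀ X, Fin.cons x₀ x, x₀ * c * x₀⁻¹, y, ?_, hy, ?_, fun i => ?_⟩
    · refine mem_centralizer_iff.2 fun a ha => ?_
      have h1 := mem_centralizer_iff.1 hc (x₀⁻¹ * a * x₀) ⟨a, ha, rfl⟩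
      calc a * (x₀ * c * x₀⁻¹) = x₀ * (x₀⁻¹ * a * x₀ * c) * x₀⁻¹ := by group
        _ = x₀ * (c * (x₀⁻¹ * a * x₀)) * x₀⁻¹ := by rw [h1]
        _ = x₀ * c * x₀⁻¹ * a := by group
    · rw [List.ofFn_cons, List.prod_cons, hg]; group
    · induction i using Fin.cases with
      | zero => exact ⟨by simpa using hP, by simpa [cj] using hA⟩
      | succ i =>
        refine ⟨by simpa using (hi i).1, ?_⟩
        rw [List.ofFn_cons, Fin.val_succ, List.take_succ_cons, List.prod_cons, ← cj_cj, Fin.cons_succ]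
        exact (hi i).2

end Cfsg.Agent.AlperinStrong
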