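import Cfsg.Agent.Lib.Fusion.AltModel

/-!
# The strongly closed subgroups of the Sylow subgroup of `A_n`

`sylow_gen`: Sylow subgroups of symmetric groups are generated by elements with `x ^ p = 1` (also their even
parts); `closed_eq_top`: the model Sylow subgroup of `A_n` has no proper nontrivial strongly closed subgroup.
-/

set_option autoImplicit false

namespace Cfsg.Agent.AltModel

open Equiv Finset

theorem sign_addLeft_two : ∀ v : ZMod 2, Perm.sign (Equiv.addLeft v) = if v = 0 then 1 else -1 := by decide

theorem ite_mul_two : ∀ u v : ZMod 2, (if u = 0 then (1 : ℤˣ) else -1) * (if v = 0 then 1 else -1) =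
    if u + v = 0 then 1 else -1 := by decide

theorem two_one : (1 : ZMod 2) + 1 = 0 := by decide

theorem two_one' : ∀ v : ZMod 2, 1 + (1 + v) = v := by decide

theorem two_cases : ∀ v : ZMod 2, v = 0 ∨ v = 1 := by decide

theorem two_add : ∀ v : ZMod 2, v + 1 + 1 = v ∧ 1 + (1 + v) = v ∧ v + v = 0 := by decide

theorem sum_single_const {ι A : Type*} [Fintype ι] [DecidableEq ι] [AddCommMonoid A] (a : ι) (f : ι → A) :
    ∑ x, Pi.single (M := fun _ => A) a (f x) = Pi.single a (∑ x, f x) := by
  funext i
  rw [Finset.sum_apply]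
  by_cases hi : i = a
  · subst hi; simp
  · simp [hi]

variable {p q r b : ℕ} [hp : Fact p.Prime]

/-- The weight: the number of blocks moved by a translation. -/
def wt (h : Bl p q r → ZMod p) : ℕ := (univ.filter fun x => h x ≠ 0).card

/-- The indicator of a set of blocks. -/
def ind (J : Finset (Bl p q r)) : Bl p q r → ZMod p := fun x => if x ∈ J then 1 else 0

theorem wt_ind (J : Finset (Bl p q r)) : wt (ind J) = J.card := by
  unfold wt
  congr 1
  ext x
  by_cases hx : x ∈ J <;> simp [ind, hx]

theorem sum_ind (J : Finset (Bl p q r)) : ∑ x, ind J x = (J.card : ZMod p) := by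
  simp [ind]

theorem support_tr (h : Bl p q r → ZMod p) : (tr (b := b) h).support.card = p * wt h := by
  have he : (tr (b := b) h).support = ((univ.filter fun x => h x ≠ 0) ×ˢ univ).map ⟨Sum.inl, Sum.inl_injective⟩ := by
    ext z
    rcases z with ⟨x, y⟩ | e
    · simp [Perm.mem_support]
    · simp [Perm.mem_support]
  rw [he, card_map, card_product, card_univ, ZMod.card, mul_comm]
  rfl

theorem sign_perm (π : Perm (Bl p q r)) :
    Perm.sign (aff (b := b) (0 : Bl p q r → ZMod p) 1 π) = Perm.sign π ^ p := by
  have he : aff (b := b) (0 : Bl p q r → ZMod p) 1 π =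
      Equiv.sumCongr (Equiv.prodCongrLeft fun _ : ZMod p => π) 1 := by
    refine Equiv.ext fun z => ?_
    rcases z with ⟨x, y⟩ | e <;> simp
  rw [he]
  refine (Perm.sign_sumCongr _ _).trans ?_
  rw [Perm.sign_one, mul_one, Perm.sign_prodCongrLeft, prod_const, card_univ, ZMod.card]

theorem sign_chunkHom_two (hp2 : p = 2) (τ : Perm (Fin q)) : Perm.sign (chunkHom (r := r) (b := b) (p := p) τ) = 1 := by
  refine (sign_perm (b := b) (blc 0 τ)).trans ?_
  rcases Int.units_eq_one_or (Perm.sign (blc (r := r) (0 : Fin q → ZMod p) τ)) with h | h <;> rw [h, hp2] <;> decide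

theorem sign_of_pow_odd {α : Type*} [Fintype α] [DecidableEq α] {x : Perm α} {n : ℕ} (hn : Odd n)
    (hx : x ^ n = 1) : Perm.sign x = 1 := by
  have h : Perm.sign x ^ n = 1 := by rw [← map_pow, hx, map_one]
  rcases Int.units_eq_one_or (Perm.sign x) with h1 | h1
  · exact h1
  · rw [h1, hn.neg_one_pow] at h
    exact absurd h (by decide)

theorem sign_tr_two (hp2 : p = 2) (h : Bl p q r → ZMod p) :
    Perm.sign (tr (b := b) h) = if ∑ x, h x = 0 then 1 else -1 := by
  subst hp2
  have he : tr (b := b) h = Equiv.sumCongr (Equiv.prodCongrRight fun x => Equiv.addLeft (h x)) 1 := by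
    refine Equiv.ext fun z => ?_
    rcases z with ⟨x, y⟩ | e <;> simp
  rw [he]
  refine (Perm.sign_sumCongr _ _).trans ?_
  rw [Perm.sign_one, mul_one, Perm.sign_prodCongrRight]
  simp only [sign_addLeft_two]
  induction (univ : Finset (Bl 2 q r)) using Finset.induction_on with
  | empty => simp
  | insert a s ha ih => rw [prod_insert ha, sum_insert ha, ih, ite_mul_two]

theorem tr_mem_alt (hp2 : p ≠ 2) (h : Bl p q r → ZMod p) : tr h ∈ alternatingGroup (Pt p q r b) :=
  Perm.mem_alternatingGroup.2 (sign_of_pow_odd (hp.out.odd_of_ne_two hp2) (tr_pow_p h))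

theorem mem_alt_of_isPGroup (hp2 : p ≠ 2) {α : Type*} [Fintype α] [DecidableEq α] {H : Subgroup (Perm α)}
    (hH : IsPGroup p H) {x : Perm α} (hx : x ∈ H) : x ∈ alternatingGroup α := by
  obtain ⟨k, hk⟩ := hH ⟨x, hx⟩
  exact Perm.mem_alternatingGroup.2 (sign_of_pow_odd ((hp.out.odd_of_ne_two hp2).pow)
    (congrArg Subtype.val hk))

variable (r b) in
/-- The even part of the model. -/
def SA (P : Subgroup (Perm (Fin q))) : Subgroup (Perm (Pt p q r b)) :=
  SM r b P ⊓ alternatingGroup (Pt p q r b)

/-- Elements with `x ^ p = 1`. -/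
def small {α : Type*} [Fintype α] [DecidableEq α] (p : ℕ) (H : Subgroup (Perm α)) : Set (Perm α) :=
  {x | x ∈ H ∧ x ^ p = 1}

theorem chunk_mem_closure (P : Subgroup (Perm (Fin q))) (hgen : P ≤ Subgroup.closure (small p P))
    {S : Subgroup (Perm (Pt p q r b))} (hS : ∀ τ ∈ P, τ ^ p = 1 → chunkHom (p := p) τ ∈ S) {τ : Perm (Fin q)}
    (hτ : τ ∈ P) : chunkHom (p := p) τ ∈ Subgroup.closure (small p S) := by
  refine (Subgroup.closure_le (K := (Subgroup.closure (small p S)).comap (chunkHom (p := p)))).2 ?_ (hgen hτ)
  rintro x ⟨hx, hx1⟩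
  exact Subgroup.subset_closure (show chunkHom (p := p) x ∈ small p S from ⟨hS x hx hx1, by rw [← map_pow, hx1, map_one]⟩)

theorem SM_gen (P : Subgroup (Perm (Fin q))) (hgen : P ≤ Subgroup.closure (small p P)) :
    SM (p := p) r b P ≤ Subgroup.closure (small p (SM r b P)) := by
  rintro _ ⟨h, c, τ, hτ, rfl⟩
  rw [aff_split]
  refine Subgroup.mul_mem _ (Subgroup.mul_mem _ ?_ ?_) ?_
  · exact chunk_mem_closure (S := SM r b P) P hgen (fun τ hτ _ => ⟨0, 0, τ, hτ, rfl⟩) hτ
  · exact Subgroup.subset_closure ⟨⟨0, c, 1, P.one_mem, rfl⟩, chunk_pow_p c⟩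
  · exact Subgroup.subset_closure ⟨tr_mem P h, tr_pow_p h⟩

theorem chunk_even (c : Fin q → ZMod p) :
    aff (0 : Bl p q r → ZMod p) 1 (blc c 1) ∈ alternatingGroup (Pt p q r b) := by
  by_cases hp2 : p = 2
  · refine Perm.mem_alternatingGroup.2 ((sign_perm _).trans ?_)
    rcases Int.units_eq_one_or (Perm.sign (blc (r := r) c 1)) with h | h <;> rw [h, hp2] <;> decide
  · exact Perm.mem_alternatingGroup.2 (sign_of_pow_odd (hp.out.odd_of_ne_two hp2) (chunk_pow_p c))

theorem SA_gen (P : Subgroup (Perm (Fin q))) (hP : IsPGroup p (SM (p := p) r b P))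
    (hgen : P ≤ Subgroup.closure (small p P)) :
    SA (p := p) r b P ≤ Subgroup.closure (small p (SA r b P)) := by
  by_cases hp2 : p = 2
  · subst hp2
    rintro _ ⟨⟨h, c, τ, hτ, rfl⟩, hev⟩
    rw [aff_split] at hev ⊢
    have hchunk : ∀ τ : Perm (Fin q), chunkHom (r := r) (b := b) (p := 2) τ ∈ alternatingGroup (Pt 2 q r b) :=
      fun τ => Perm.mem_alternatingGroup.2 (sign_chunkHom_two rfl τ)
    have htr : tr h ∈ alternatingGroup (Pt 2 q r b) :=
      (Subgroup.mul_mem_cancel_left _ (Subgroup.mul_mem _ (hchunk τ) (chunk_even c))).1 hev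
    refine Subgroup.mul_mem _ (Subgroup.mul_mem _ ?_ ?_) ?_
    · exact chunk_mem_closure (S := SA r b P) P hgen (fun τ hτ _ => ⟨⟨0, 0, τ, hτ, rfl⟩, hchunk τ⟩) hτ
    · exact Subgroup.subset_closure ⟨⟨⟨0, c, 1, P.one_mem, rfl⟩, chunk_even c⟩, chunk_pow_p c⟩
    · rw [Perm.mem_alternatingGroup, sign_tr_two rfl] at htr
      have hsum : ∑ x, h x = 0 := by
        by_contra hne
        rw [if_neg hne] at htr
        exact absurd htr (by decide)
      rcases isEmpty_or_nonempty (Bl 2 q r) with hB | ⟨⟨a₀⟩⟩
      · rw [show h = 0 from funext fun x => isEmptyElim x, tr_zero]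
        exact Subgroup.one_mem _
      have hdec : h = ∑ x, (Pi.single x (h x) + Pi.single a₀ (h x)) := by
        rw [sum_add_distrib, Finset.univ_sum_single, sum_single_const, hsum, Pi.single_zero, add_zero]
      rw [hdec]
      generalize (univ : Finset (Bl 2 q r)) = s
      induction s using Finset.induction_on with
      | empty => rw [sum_empty, tr_zero]; exact Subgroup.one_mem _
      | insert a s ha ih =>
        rw [sum_insert ha, ← tr_mul]
        refine Subgroup.mul_mem _ (Subgroup.subset_closure ⟨⟨tr_mem P _, ?_⟩, tr_pow_p _⟩) ih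
        refine Perm.mem_alternatingGroup.2 ((sign_tr_two rfl _).trans (if_pos ?_))
        simp only [Pi.add_apply, sum_add_distrib, sum_pi_single', mem_univ, if_true]
        exact CharTwo.add_self_eq_zero _
  · have : SA (p := p) r b P = SM r b P := inf_eq_left.2 fun x hx => mem_alt_of_isPGroup hp2 hP hx
    rw [this]
    exact SM_gen P hgen

/-- A Sylow subgroup of a symmetric group generated by elements with `x ^ p = 1`. -/
theorem sylow_gen (n : ℕ) : ∃ P : Sylow p (Perm (Fin n)),
    (P : Subgroup (Perm (Fin n))) ≤ Subgroup.closure (small p (P : Subgroup (Perm (Fin n)))) := by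
  induction n using Nat.strong_induction_on with
  | _ n ih =>
  rcases Nat.eq_zero_or_pos n with hn | hn
  · subst hn
    refine ⟨default, fun x _ => ?_⟩
    rw [Subsingleton.elim x 1]
    exact Subgroup.one_mem _
  obtain ⟨P, hP⟩ := ih (n / p / p) (lt_of_le_of_lt (Nat.div_le_self _ _) (Nat.div_lt_self hn hp.out.one_lt))
  let e : Pt p (n / p / p) (n / p % p) (n % p) ≃ Fin n :=
    Fintype.equivFinOfCardEq (by rw [card_pt, Nat.div_add_mod (n / p) p, Nat.div_add_mod n p])
  let S₁ := sylow P (Nat.mod_lt _ hp.out.pos : n / p % p < p) (Nat.mod_lt _ hp.out.pos : n % p < p)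
  have hf : Function.Surjective (e.permCongrHom.toMonoidHom) := e.permCongrHom.surjective
  refine ⟨S₁.mapSurjective hf, ?_⟩
  rw [Sylow.coe_mapSurjective]
  refine (Subgroup.map_mono (SM_gen _ hP)).trans ?_
  rw [MonoidHom.map_closure]
  refine Subgroup.closure_mono ?_
  rintro _ ⟨x, ⟨hx, hx1⟩, rfl⟩
  exact ⟨⟨x, hx, rfl⟩, by rw [← map_pow, hx1, map_one]⟩

theorem cycleType_small {α : Type*} [Fintype α] [DecidableEq α] {x : Perm α} (hx : x ^ p = 1) :
    ∃ k, x.cycleType = Multiset.replicate k p ∧ x.support.card = p * k := by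
  refine ⟨_, Perm.cycleType_of_pow_prime_eq_one hx, ?_⟩
  rw [← Perm.sum_cycleType, Perm.cycleType_of_pow_prime_eq_one hx, Multiset.sum_replicate,
    Multiset.card_replicate, smul_eq_mul, mul_comm]

theorem isConj_small {α : Type*} [Fintype α] [DecidableEq α] {x y : Perm α} (hx : x ^ p = 1) (hy : y ^ p = 1)
    (h : x.support.card = y.support.card) : IsConj x y := by
  obtain ⟨k, hk, hk'⟩ := cycleType_small hx
  obtain ⟨l, hl, hl'⟩ := cycleType_small hy
  rw [hk', hl'] at h
  rw [Perm.isConj_iff_cycleType_eq, hk, hl, Nat.eq_of_mul_eq_mul_left hp.out.pos h]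

/-- The centralizer of a standard element contains an odd permutation. -/
theorem exists_odd_comm (hB : 2 ≤ Fintype.card (Bl p q r)) (J : Finset (Bl p q r)) (hJ : J.Nonempty) :
    ∃ o : Perm (Pt p q r b), Perm.sign o = -1 ∧ Commute o (tr (ind J)) := by
  obtain ⟨a, ha⟩ := hJ
  by_cases hp2 : p = 2
  · refine ⟨tr (Pi.single a 1), ?_, ?_⟩
    · rw [sign_tr_two hp2, if_neg]
      simp
    · show _ * _ = _ * _
      rw [tr_mul, tr_mul, add_comm]
  by_cases h2 : ∃ c ∈ J, c ≠ a
  · obtain ⟨c, hc, hca⟩ := h2
    refine ⟨aff 0 1 (Equiv.swap a c), ?_, ?_⟩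
    · rw [sign_perm, Perm.sign_swap hca.symm, (hp.out.odd_of_ne_two hp2).neg_one_pow]
    · show _ * _ = _ * _
      rw [tr, aff_mul, aff_mul, mul_one, one_mul]
      congr 1
      funext x
      simp only [Pi.zero_apply, Pi.one_apply, Units.val_one, one_mul, mul_zero, add_zero, zero_add, ind,
        Perm.coe_one, id_eq]
      rcases eq_or_ne x a with rfl | hxa
      · rw [Equiv.swap_apply_left, if_pos ha, if_pos hc]
      rcases eq_or_ne x c with rfl | hxc
      · rw [Equiv.swap_apply_right, if_pos ha, if_pos hc]
      · rw [Equiv.swap_apply_of_ne_of_ne hxa hxc]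
  · push Not at h2
    obtain ⟨c, hc⟩ : ∃ c, c ≠ a := Fintype.exists_ne_of_one_lt_card hB a
    have hcJ : c ∉ J := fun h => hc (h2 c h)
    refine ⟨Equiv.swap (Sum.inl (c, 0)) (Sum.inl (c, 1)), ?_, ?_⟩
    · exact Perm.sign_swap (by simp)
    · show _ * _ = _ * _
      rw [Equiv.mul_swap_eq_swap_mul]
      simp [ind, hcJ]

/-- Two elements of the same type as a standard one are conjugate by an even permutation. -/
theorem even_conj (hB : 2 ≤ Fintype.card (Bl p q r)) {J : Finset (Bl p q r)} (hJ : J.Nonempty)
    {x y : Perm (Pt p q r b)} (hx : x ^ p = 1) (hy : y ^ p = 1) (hxJ : x.support.card = p * J.card)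
    (hyJ : y.support.card = p * J.card) : ∃ g ∈ alternatingGroup (Pt p q r b), g * x * g⁻¹ = y := by
  obtain ⟨o, ho, hoc⟩ := exists_odd_comm (b := b) hB J hJ
  have hs : (tr (b := b) (ind J)).support.card = p * J.card := by rw [support_tr, wt_ind]
  obtain ⟨g, hg⟩ := isConj_iff.1 (isConj_small hx (tr_pow_p (ind J)) (hxJ.trans hs.symm))
  obtain ⟨k, hk⟩ := isConj_iff.1 (isConj_small (tr_pow_p (ind J)) hy (hs.trans hyJ.symm))
  rcases Int.units_eq_one_or (Perm.sign (k * g)) with h | h
  · refine ⟨k * g, Perm.mem_alternatingGroup.2 h, ?_⟩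
    rw [← hk, ← hg]; group
  · refine ⟨k * o * g, Perm.mem_alternatingGroup.2 ?_, ?_⟩
    · rw [map_mul, map_mul, mul_right_comm, ← map_mul, h, ho]; decide
    · rw [← hk, show k * o * g * x * (k * o * g)⁻¹ = k * (o * (g * x * g⁻¹) * o⁻¹) * k⁻¹ by group, hg,
        hoc.eq, mul_inv_cancel_right]

/-- No proper nontrivial strongly closed subgroup. -/
theorem closed_eq_top (hq : 1 ≤ q) (hb : b < p) (h6 : 6 ≤ Fintype.card (Pt p q r b))
    (hb1 : b ≤ 1) (P : Subgroup (Perm (Fin q))) (hP : IsPGroup p (SM (p := p) r b P))
    (hgen : P ≤ Subgroup.closure (small p P)) (T : Subgroup (Perm (Pt p q r b))) (hT : T ≤ SA r b P)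
    (hne : T ≠ ⊥) (hcl : ∀ g ∈ alternatingGroup (Pt p q r b), ∀ x ∈ T, g * x * g⁻¹ ∈ SA r b P → g * x * g⁻¹ ∈ T) :
    T = SA r b P := by
  refine le_antisymm hT ((SA_gen P hP hgen).trans ((Subgroup.closure_le _).2 ?_))
  have hBcard : Fintype.card (Bl p q r) = q * p + r := by simp
  have hB : 2 ≤ Fintype.card (Bl p q r) := by
    rw [hBcard]; nlinarith [hp.out.two_le]
  have hpt : Fintype.card (Pt p q r b) = p * Fintype.card (Bl p q r) + b := by
    rw [card_pt, hBcard, mul_comm p q]
  -- a class of small elements
  have class_le : ∀ x : Perm (Pt p q r b), x ^ p = 1 → ∃ J : Finset (Bl p q r), x.support.card = p * J.card := by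
    intro x hx
    obtain ⟨k, -, hk⟩ := cycleType_small hx
    have h1 := card_le_univ x.support
    rw [hpt, hk] at h1
    have : k ≤ Fintype.card (Bl p q r) := by
      by_contra hlt
      push Not at hlt
      have : p * (Fintype.card (Bl p q r) + 1) ≤ p * k := Nat.mul_le_mul_left _ hlt
      rw [mul_add, mul_one] at this
      omega
    obtain ⟨J, -, hJ⟩ := Finset.exists_subset_card_eq (s := (univ : Finset (Bl p q r))) (n := k)
      (by rwa [card_univ])
    exact ⟨J, by rw [hJ, hk]⟩
  have cls : ∀ x ∈ T, x ^ p = 1 → x ≠ 1 → ∀ y ∈ SA r b P, y ^ p = 1 → y.support.card = x.support.card → y ∈ T := by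
    intro x hxT hx hx1 y hyS hy hxy
    obtain ⟨J, hJ⟩ := class_le x hx
    have hJne : J.Nonempty := by
      refine Finset.card_ne_zero.1 fun h0 => ?_
      rw [h0, mul_zero, card_eq_zero, Perm.support_eq_empty_iff] at hJ
      exact hx1 hJ
    obtain ⟨g, hg, rfl⟩ := even_conj hB hJne hx hy hJ (hxy.trans hJ)
    exact hcl g hg x hxT hyS
  have trSA : ∀ h : Bl p q r → ZMod p, Perm.sign (tr (b := b) h) = 1 → tr h ∈ SA r b P :=
    fun h hs => ⟨tr_mem P h, Perm.mem_alternatingGroup.2 hs⟩
  obtain ⟨z, hzT, hz, hz1⟩ : ∃ z ∈ T, z ^ p = 1 ∧ z ≠ 1 := by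
    have hTp : IsPGroup p T := hP.to_le (hT.trans inf_le_left)
    have hnt : Nontrivial T := T.nontrivial_iff_ne_bot.2 hne
    obtain ⟨k, hk0, hk⟩ := hTp.nontrivial_iff_card.1 hnt
    obtain ⟨z, hz⟩ := exists_prime_orderOf_dvd_card' p (hk ▸ dvd_pow_self p hk0.ne')
    refine ⟨z, z.2, ?_, ?_⟩
    · have h1 := pow_orderOf_eq_one z
      rw [hz] at h1
      exact congrArg Subtype.val h1
    · intro h1
      rw [show z = 1 from Subtype.ext h1, orderOf_one] at hz
      exact hp.out.one_lt.ne hz
  obtain ⟨J, hJ⟩ := class_le z hz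
  have hJ0 : J.card ≠ 0 := by
    intro h0
    rw [h0, mul_zero, card_eq_zero, Perm.support_eq_empty_iff] at hJ
    exact hz1 hJ
  have hzs : Perm.sign z = 1 := Perm.mem_alternatingGroup.1 (hT hzT).2
  have sign_eq : ∀ y : Perm (Pt p q r b), y ^ p = 1 → y.support.card = z.support.card → Perm.sign y = 1 := by
    intro y hy hyz
    obtain ⟨g, rfl⟩ := isConj_iff.1 (isConj_small hz hy hyz.symm)
    rw [map_mul, map_mul, map_inv, mul_comm (Perm.sign g), mul_inv_cancel_right, hzs]
  have trT : ∀ h : Bl p q r → ZMod p, wt h = J.card → tr h ∈ T := by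
    intro h hw
    have hc : (tr (b := b) h).support.card = z.support.card := by rw [support_tr, hw, hJ]
    exact cls z hzT hz hz1 _ (trSA h (sign_eq _ (tr_pow_p h) hc)) (tr_pow_p h) hc
  -- all even translations
  have allTr : ∀ h : Bl p q r → ZMod p, Perm.sign (tr (b := b) h) = 1 → tr h ∈ T := by
    intro h hh
    by_cases hp2 : p = 2
    · subst hp2
      have hpair : ∀ a c : Bl 2 q r, a ≠ c → tr (b := b) (Pi.single a 1 + Pi.single c 1) ∈ T := by
        intro a c hac
        have hsign : Perm.sign (tr (b := b) (Pi.single a (1 : ZMod 2) + Pi.single c 1)) = 1 := by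
          rw [sign_tr_two rfl, if_pos]
          simp only [Pi.add_apply, sum_add_distrib, sum_pi_single', mem_univ, if_true]
          exact two_one
        by_cases hlt : J.card < Fintype.card (Bl 2 q r)
        · obtain ⟨K, hK, hKc⟩ := Finset.exists_subset_card_eq
            (s := ((univ : Finset (Bl 2 q r)).erase c).erase a) (n := J.card - 1) (by
              rw [card_erase_of_mem (by simp [hac]), card_erase_of_mem (mem_univ c), card_univ]; omega)
          have haK : a ∉ K := fun h => by simpa using hK h
          have hcK : c ∉ K := fun h => by simpa using hK h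
          have h1 := trT (ind (insert a K)) (by rw [wt_ind, card_insert_of_notMem haK, hKc]; omega)
          have h2 := trT (ind (insert c K)) (by rw [wt_ind, card_insert_of_notMem hcK, hKc]; omega)
          have := T.mul_mem h1 h2
          rw [tr_mul] at this
          convert this using 2
          funext x
          by_cases hxa : x = a
          · subst hxa; simp [ind, haK, hac]
          by_cases hxc : x = c
          · subst hxc; simp [ind, hcK, Ne.symm hac]
          by_cases hxK : x ∈ K
          · simp only [Pi.add_apply, Pi.single_apply, if_neg hxa, if_neg hxc, ind,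
              if_pos (mem_insert_of_mem hxK)]
            rw [two_one, add_zero]
          · simp [ind, hxa, hxc, hxK]
        · have hJc : J.card = Fintype.card (Bl 2 q r) := le_antisymm (card_le_univ J) (not_lt.1 hlt)
          obtain ⟨i₀⟩ : Nonempty (Fin q) := ⟨⟨0, hq⟩⟩
          let h2 : Bl 2 q r → ZMod 2 := fun x =>
            match x with
            | Sum.inl (i, _) => if i = i₀ then 0 else 1
            | Sum.inr _ => 1
          let v : Perm (Pt 2 q r b) := aff h2 1 (blc (Pi.single i₀ 1) 1)
          let u : Perm (Pt 2 q r b) := tr 1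
          have hfull : ∀ g : Perm (Pt 2 q r b), (∀ e, g (Sum.inr e) = Sum.inr e) → (∀ z, g (Sum.inl z) ≠ Sum.inl z) →
              g.support.card = 2 * J.card := by
            intro g h0 h1
            rw [hJc, show g.support = (univ : Finset (Bl 2 q r × ZMod 2)).map ⟨Sum.inl, Sum.inl_injective⟩ from by
              ext z; rcases z with z | e <;> simp [Perm.mem_support, h0, h1]]
            rw [card_map, card_univ, Fintype.card_prod, ZMod.card, mul_comm]
          have hu : u.support.card = z.support.card := by
            rw [hJ]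
            refine hfull u (fun _ => rfl) ?_
            rintro ⟨x, y⟩
            simp [u]
          have hv : v.support.card = z.support.card := by
            rw [hJ]
            refine hfull v (fun _ => rfl) ?_
            rintro ⟨⟨i, x⟩ | j, y⟩
            · by_cases hi : i = i₀
              · subst hi; simp [v, h2]
              · simp [v, h2, hi]
            · simp [v, h2]
          have hvp : v ^ 2 = 1 := by
            rw [pow_two]
            refine Equiv.ext fun z => ?_
            rcases z with ⟨⟨i, x⟩ | j, y⟩ | e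
            · by_cases hi : i = i₀
              · subst hi; simp [v, h2, add_assoc, two_one, two_one']
              · simp [v, h2, hi, add_assoc, two_one, two_one']
            · simp [v, h2, add_assoc, two_one, two_one']
            · simp [v]
          have hvS : v ∈ SA r b P :=
            ⟨⟨h2, _, 1, P.one_mem, rfl⟩, Perm.mem_alternatingGroup.2 (sign_eq v hvp hv)⟩
          have huT : u ∈ T := trT 1 (by simp [wt, hJc])
          have hvT : v ∈ T := cls z hzT hz hz1 v hvS hvp hv
          have hw : (u * v).support.card = 2 * 2 := by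
            rw [show (u * v).support = (({Sum.inl (i₀, 0), Sum.inl (i₀, 1)} : Finset (Bl 2 q r)) ×ˢ
                (univ : Finset (ZMod 2))).map ⟨Sum.inl, Sum.inl_injective⟩ from ?_]
            · rw [card_map, card_product, card_univ, ZMod.card, card_pair (by simp)]
            ext z
            rcases z with ⟨⟨i, x⟩ | j, y⟩ | e
            · by_cases hi : i = i₀
              · subst hi
                rcases two_cases x with rfl | rfl <;> simp [u, v, h2, Perm.mem_support]
              · simp [u, v, h2, hi, Perm.mem_support, add_assoc, two_one, two_one']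
            · simp [u, v, h2, Perm.mem_support, add_assoc, two_one, two_one']
            · simp [u, v, Perm.mem_support]
          have hwp : (u * v) ^ 2 = 1 := by
            rw [pow_two]
            refine Equiv.ext fun z => ?_
            rcases z with ⟨⟨i, x⟩ | j, y⟩ | e
            · by_cases hi : i = i₀
              · subst hi
                simp [u, v, h2, add_assoc, two_one, two_one']
              · simp [u, v, h2, hi, add_assoc, two_one, two_one']
            · simp [u, v, h2, add_assoc, two_one, two_one']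
            · simp [u, v]
          refine cls _ (T.mul_mem huT hvT) hwp ?_ _ (trSA _ hsign) (tr_pow_p _) ?_
          · intro h1
            rw [h1, Perm.support_one, card_empty] at hw
            omega
          · rw [support_tr, hw]
            congr 1
            unfold wt
            rw [show (univ.filter fun x => (Pi.single a (1 : ZMod 2) + Pi.single c 1 : Bl 2 q r → ZMod 2) x ≠ 0) =
              {a, c} from ?_, card_pair hac]
            ext x
            by_cases hxa : x = a
            · subst hxa; simp [hac]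
            by_cases hxc : x = c
            · subst hxc; simp [Ne.symm hac]
            · simp [hxa, hxc]
      rw [sign_tr_two rfl] at hh
      have hsum : ∑ x, h x = 0 := by
        by_contra hne'
        rw [if_neg hne'] at hh
        exact absurd hh (by decide)
      obtain ⟨a₀⟩ : Nonempty (Bl 2 q r) := Fintype.card_pos_iff.1 (by omega)
      have hdec : h = ∑ x, (Pi.single x (h x) + Pi.single a₀ (h x)) := by
        rw [sum_add_distrib, Finset.univ_sum_single, sum_single_const, hsum, Pi.single_zero, add_zero]
      rw [hdec]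
      generalize (univ : Finset (Bl 2 q r)) = s
      induction s using Finset.induction_on with
      | empty => rw [sum_empty, tr_zero]; exact T.one_mem
      | insert a s ha ih =>
        rw [sum_insert ha, ← tr_mul]
        refine T.mul_mem ?_ ih
        rcases two_cases (h a) with hv | hv
        · rw [hv, Pi.single_zero, Pi.single_zero, add_zero, tr_zero]; exact T.one_mem
        rcases eq_or_ne a a₀ with rfl | hne'
        · rw [← Pi.single_add, show h a + h a = 0 from CharTwo.add_self_eq_zero _, Pi.single_zero, tr_zero]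
          exact T.one_mem
        · rw [hv]; exact hpair a a₀ hne'
    · have hone : ∀ a : Bl p q r, tr (b := b) (Pi.single a 1) ∈ T := by
        intro a
        obtain ⟨K, hK, hKc⟩ := Finset.exists_subset_card_eq
          (s := (univ : Finset (Bl p q r)).erase a) (n := J.card - 1) (by
            rw [card_erase_of_mem (mem_univ a), card_univ]; have := card_le_univ J; omega)
        have haK : a ∉ K := fun h => by simpa using hK h
        have hc : (insert a K).card = J.card := by rw [card_insert_of_notMem haK, hKc]; omega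
        have h1 := trT (ind (insert a K)) (by rw [wt_ind, hc])
        have h22 : (1 : ZMod p) + 1 ≠ 0 := by
          intro h0
          have h3 : ((2 : ℕ) : ZMod p) = 0 := by rw [← h0]; norm_num
          exact hp2 ((Nat.prime_dvd_prime_iff_eq hp.out Nat.prime_two).1
            ((ZMod.natCast_eq_zero_iff _ _).1 h3))
        have h2 := trT (ind (insert a K) + Pi.single a 1) (by
          rw [← hc]
          unfold wt
          congr 1
          ext x
          by_cases hxa : x = a
          · subst hxa; simpa [ind] using h22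
          · by_cases hxK : x ∈ K <;> simp [ind, hxa, hxK])
        have := T.mul_mem (T.inv_mem h1) h2
        rwa [tr_inv, tr_mul, neg_add_cancel_left] at this
      rw [← Finset.univ_sum_single h]
      generalize (univ : Finset (Bl p q r)) = s
      induction s using Finset.induction_on with
      | empty => rw [sum_empty, tr_zero]; exact T.one_mem
      | insert a s ha ih =>
        rw [sum_insert ha, ← tr_mul]
        refine T.mul_mem ?_ ih
        have := T.pow_mem (hone a) (h a).val
        rwa [tr_pow, ← Pi.single_smul, nsmul_eq_mul, mul_one, ZMod.natCast_zmod_val] at this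
  rintro y ⟨hy, hy1⟩
  rcases eq_or_ne y 1 with rfl | hne1
  · exact T.one_mem
  obtain ⟨K, hK⟩ := class_le y hy1
  have hc : (tr (b := b) (ind K)).support.card = y.support.card := by rw [support_tr, wt_ind, hK]
  have hsg : Perm.sign (tr (b := b) (ind K)) = 1 := by
    obtain ⟨g, hg⟩ := isConj_iff.1 (isConj_small hy1 (tr_pow_p (ind K)) hc.symm)
    rw [← hg, map_mul, map_mul, map_inv, mul_comm (Perm.sign g), mul_inv_cancel_right]
    exact Perm.mem_alternatingGroup.1 hy.2
  refine cls _ (allTr _ hsg) (tr_pow_p _) (fun h1 => hne1 ?_) y hy hy1 hc.symm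
  rw [h1, Perm.support_one, card_empty] at hc
  exact Perm.support_eq_empty_iff.1 (card_eq_zero.1 hc.symm)

end Cfsg.Agent.AltModel
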