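import Cfsg.Agent.Lib.Fusion.AltClosed

/-!
# Local subgroups of the model of `A_n`, `p` odd

`EB` (generated by the `p`-cycles of the model) with its affine normalizer and `RB` (translations of the chunks).
`normalizer_mem`: an even element of the normalizer of the model is, up to a fixed `gt`, in the subgroup generated
by `p`-elements normalizing `EB`; `gt` lies in the one of `RB`.
-/

set_option autoImplicit false

namespace Cfsg.Agent.AltModel

open Equiv Finset

variable {p q r b : ℕ} [hp : Fact p.Prime]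

theorem prod_mulSingle_const {ι A : Type*} [Fintype ι] [DecidableEq ι] [CommMonoid A] (a : ι) (f : ι → A) :
    ∏ x, Pi.mulSingle (M := fun _ => A) a (f x) = Pi.mulSingle a (∏ x, f x) := by
  funext i
  rw [Finset.prod_apply]
  by_cases hi : i = a
  · subst hi; simp
  · simp [hi]

variable (p q r b) in
/-- The subgroup generated by the `p`-cycles of the model. -/
def EB : Subgroup (Perm (Pt p q r b)) where
  carrier := {σ | ∃ h, σ = tr h}
  one_mem' := ⟨0, tr_zero.symm⟩
  mul_mem' := by rintro _ _ ⟨h, rfl⟩ ⟨h', rfl⟩; exact ⟨_, tr_mul h h'⟩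
  inv_mem' := by rintro _ ⟨h, rfl⟩; exact ⟨_, tr_inv h⟩

/-- A translation of the chunks. -/
abbrev rtr (c e : Fin q → ZMod p) (h : Fin r → ZMod p) : Perm (Pt p q r b) :=
  aff (Sum.elim (fun z => e z.1) h) 1 (blc c 1)

theorem rtr_mul (c e c' e' : Fin q → ZMod p) (h h' : Fin r → ZMod p) :
    rtr (b := b) c e h * rtr c' e' h' = rtr (c + c') (e + e') (h + h') := by
  rw [rtr, rtr, aff_mul, blc_mul, mul_one]
  congr 1
  · funext x
    rcases x with ⟨i, x⟩ | j <;> simp
  · funext x; simp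

theorem rtr_zero : rtr (b := b) (0 : Fin q → ZMod p) 0 (0 : Fin r → ZMod p) = 1 := by
  rw [rtr, blc_one]
  convert aff_one (p := p) (q := q) (r := r) (b := b) using 2
  funext x; rcases x with ⟨i, x⟩ | j <;> simp

variable (p q r b) in
/-- The translations of the chunks. -/
def RB : Subgroup (Perm (Pt p q r b)) where
  carrier := {σ | ∃ c e h, σ = rtr c e h}
  one_mem' := ⟨0, 0, 0, rtr_zero.symm⟩
  mul_mem' := by rintro _ _ ⟨c, e, h, rfl⟩ ⟨c', e', h', rfl⟩; exact ⟨_, _, _, rtr_mul c e c' e' h h'⟩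
  inv_mem' := by
    rintro _ ⟨c, e, h, rfl⟩
    refine ⟨-c, -e, -h, inv_eq_of_mul_eq_one_right ?_⟩
    rw [rtr_mul, add_neg_cancel, add_neg_cancel, add_neg_cancel, rtr_zero]

theorem EB_le (P : Subgroup (Perm (Fin q))) : EB p q r b ≤ SM r b P := by
  rintro _ ⟨h, rfl⟩; exact tr_mem P h

theorem RB_le (P : Subgroup (Perm (Fin q))) : RB p q r b ≤ SM r b P := by
  rintro _ ⟨c, e, h, rfl⟩; exact ⟨_, c, 1, P.one_mem, rfl⟩

theorem mem_normalizer_of_conj {G : Type*} [Group G] [Finite G] {H : Subgroup G} {g : G}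
    (h : ∀ x ∈ H, g * x * g⁻¹ ∈ H) : g ∈ Subgroup.normalizer (H : Set G) := by
  rw [Subgroup.mem_normalizer_iff_map_conj_eq]
  refine Subgroup.eq_of_le_of_card_ge (by rintro _ ⟨x, hx, rfl⟩; exact h x hx) ?_
  rw [Subgroup.card_map_of_injective (MulAut.conj g).injective]

theorem small_mem_EB {P : Subgroup (Perm (Fin q))} {σ : Perm (Pt p q r b)} (hσ : σ ∈ SM r b P)
    (hs : σ.support.card ≤ p) : σ ∈ EB p q r b := by
  obtain ⟨h, c, τ, -, rfl⟩ := hσ
  by_cases hπ : blc (r := r) c τ = 1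
  · exact ⟨h, by rw [hπ]⟩
  exfalso
  have hsub : ((blc (r := r) c τ).support ×ˢ (univ : Finset (ZMod p))).map ⟨Sum.inl, Sum.inl_injective⟩ ⊆
      (aff (b := b) h 1 (blc c τ)).support := by
    intro z hz
    simp only [mem_map, mem_product, mem_univ, and_true, Function.Embedding.coeFn_mk] at hz
    obtain ⟨⟨x, y⟩, hx, rfl⟩ := hz
    rw [Perm.mem_support] at hx ⊢
    intro he
    rw [aff_inl] at he
    exact hx (congrArg Prod.fst (Sum.inl_injective he))
  have h1 := card_le_card hsub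
  rw [card_map, card_product, card_univ, ZMod.card] at h1
  have h2 : 2 * p ≤ (blc (r := r) c τ).support.card * p :=
    Nat.mul_le_mul_right p (Perm.two_le_card_support_of_ne_one hπ)
  have := hp.out.pos
  omega

theorem single_support (x : Bl p q r) (v : ZMod p) (hv : v ≠ 0) :
    (tr (b := b) (Pi.single x v)).support.card = p := by
  rw [support_tr, show wt (Pi.single x v : Bl p q r → ZMod p) = 1 from ?_, mul_one]
  unfold wt
  rw [card_eq_one]
  refine ⟨x, ?_⟩
  ext y
  by_cases hy : y = x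
  · subst hy; simp [hv]
  · simp [hy]

/-- The normalizer of the model normalizes `EB`. -/
theorem normalizer_le (P : Subgroup (Perm (Fin q))) {σ : Perm (Pt p q r b)}
    (hσ : σ ∈ Subgroup.normalizer (SM (p := p) r b P : Set (Perm (Pt p q r b)))) :
    σ ∈ Subgroup.normalizer (EB p q r b : Set (Perm (Pt p q r b))) := by
  refine mem_normalizer_of_conj ?_
  rintro _ ⟨h, rfl⟩
  rw [← Finset.univ_sum_single h]
  generalize (univ : Finset (Bl p q r)) = s
  induction s using Finset.induction_on with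
  | empty =>
    rw [sum_empty, tr_zero, mul_one, mul_inv_cancel]
    exact Subgroup.one_mem _
  | insert a s ha ih =>
    rw [sum_insert ha, ← tr_mul, ← conj_mul]
    refine Subgroup.mul_mem _ ?_ ih
    refine small_mem_EB (P := P) ((Subgroup.mem_normalizer_iff.1 hσ _).1 (tr_mem P _)) ?_
    rw [Perm.card_support_conj]
    rcases eq_or_ne (h a) 0 with h0 | h0
    · rw [h0, Pi.single_zero, tr_zero, Perm.support_one, card_empty]; exact Nat.zero_le _
    · rw [single_support a _ h0]

/-- The normalizer of `EB` is affine. -/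
theorem exists_aff (hb : b ≤ 1) {σ : Perm (Pt p q r b)}
    (hσ : σ ∈ Subgroup.normalizer (EB p q r b : Set (Perm (Pt p q r b)))) :
    ∃ h d π, σ = aff h d π := by
  have key : ∀ x : Bl p q r, ∃ (x' : Bl p q r) (v : ZMod p), v ≠ 0 ∧
      σ * tr (Pi.single x 1) * σ⁻¹ = tr (Pi.single x' v) := by
    intro x
    obtain ⟨k, hk⟩ := (Subgroup.mem_normalizer_iff.1 hσ (tr (Pi.single x 1))).1 ⟨_, rfl⟩
    have h1 : wt k = 1 := by
      have h2 := congrArg (fun g => (Perm.support g).card) hk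
      rw [Perm.card_support_conj, single_support x 1 one_ne_zero, support_tr] at h2
      exact Nat.eq_of_mul_eq_mul_left hp.out.pos (h2.symm.trans (mul_one p).symm)
    obtain ⟨x', hx'⟩ := card_eq_one.1 h1
    have hx0 : k x' ≠ 0 := (mem_filter.1 (hx'.ge (mem_singleton_self x'))).2
    refine ⟨x', k x', hx0, hk.trans (congrArg tr (funext fun y => ?_))⟩
    rcases eq_or_ne y x' with rfl | hy
    · simp
    · rw [Pi.single_eq_of_ne hy]
      by_contra hne
      exact hy (mem_singleton.1 (hx'.le (mem_filter.2 ⟨mem_univ y, hne⟩)))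
  choose f v hv hconj using key
  have hmove : ∀ x : Bl p q r, ∀ y : ZMod p, ∀ z : ZMod p, σ (Sum.inl (x, y)) ≠ Sum.inl (f x, z) →
      tr (b := b) (Pi.single (f x) (v x)) (σ (Sum.inl (x, y))) = σ (Sum.inl (x, y)) → False := by
    intro x y z _ he
    rw [← hconj, Perm.mul_apply, Perm.mul_apply, Perm.inv_def, σ.symm_apply_apply] at he
    simpa using σ.injective he
  have hblock : ∀ (x : Bl p q r) (y : ZMod p), ∃ z, σ (Sum.inl (x, y)) = Sum.inl (f x, z) := by
    intro x y
    by_contra hne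
    push Not at hne
    refine hmove x y 0 (hne 0) ?_
    rcases hz : σ (Sum.inl (x, y)) with ⟨a, c⟩ | e
    · have ha : a ≠ f x := fun h => hne c (by rw [hz, h])
      simp [ha]
    · simp
  choose g hg using hblock
  have hstep : ∀ x y, g x (1 + y) = v x + g x y := by
    intro x y
    have h1 := Equiv.ext_iff.1 (hconj x) (σ (Sum.inl (x, y)))
    rw [Perm.mul_apply, Perm.mul_apply, Perm.inv_def, σ.symm_apply_apply, hg] at h1
    simpa [hg] using h1
  have hlin : ∀ x (n : ℕ), g x (n : ZMod p) = g x 0 + v x * (n : ZMod p) := by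
    intro x n
    induction n with
    | zero => simp
    | succ n ih => rw [Nat.cast_succ, add_comm (n : ZMod p) 1, hstep, ih]; ring
  have hlin' : ∀ x y, g x y = g x 0 + v x * y := fun x y => by
    have := hlin x y.val
    rwa [ZMod.natCast_zmod_val] at this
  have hinj : Function.Injective f := by
    intro x x' he
    have h1 : σ (Sum.inl (x, (g x' 0 - g x 0) / v x)) = σ (Sum.inl (x', 0)) := by
      rw [hg, hg, hlin', he]
      congr 2
      have := hv x
      field_simp
      ring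
    exact congrArg Prod.fst (Sum.inl_injective (σ.injective h1))
  let π : Perm (Bl p q r) := Equiv.ofBijective f (Finite.injective_iff_bijective.1 hinj)
  refine ⟨fun x => g x 0, fun x => Units.mk0 (v x) (hv x), π, Equiv.ext fun z => ?_⟩
  rcases z with ⟨x, y⟩ | e
  · rw [hg, aff_inl, hlin']
    rfl
  · rw [aff_inr]
    rcases hz : σ (Sum.inr e) with ⟨a, c⟩ | e'
    · exfalso
      obtain ⟨x, rfl⟩ := π.surjective a
      have h1 : σ (Sum.inl (x, (c - g x 0) / v x)) = σ (Sum.inr e) := by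
        rw [hz, hg, hlin']
        show Sum.inl (f x, _) = Sum.inl (f x, c)
        congr 2
        have := hv x
        field_simp
        ring
      simp at h1
    · congr 1
      have := e.2; have := e'.2
      ext; omega

theorem centralizer_EB (hb : b ≤ 1) {σ : Perm (Pt p q r b)}
    (hσ : ∀ x ∈ EB p q r b, σ * x = x * σ) : σ ∈ EB p q r b := by
  obtain ⟨h, d, π, rfl⟩ := exists_aff hb (mem_normalizer_of_conj (H := EB p q r b) (g := σ) fun x hx => by
    rw [hσ x hx, mul_inv_cancel_right]; exact hx)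
  have hπ : ∀ x, π x = x ∧ d x = 1 := by
    intro x
    have h1 := Equiv.ext_iff.1 (hσ _ ⟨Pi.single x 1, rfl⟩) (Sum.inl (x, 0))
    simp only [Perm.mul_apply, aff_inl, Perm.coe_one, id_eq, Pi.one_apply, Units.val_one, one_mul, mul_zero,
      add_zero, Pi.single_eq_same, mul_one, Sum.inl.injEq, Prod.mk.injEq, true_and] at h1
    have hx : π x = x := by
      by_contra hne
      rw [Pi.single_eq_of_ne hne, zero_add] at h1
      exact Units.ne_zero (d x) (by simpa using h1)
    rw [hx, Pi.single_eq_same, add_comm (1 : ZMod p)] at h1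
    exact ⟨hx, Units.ext (add_left_cancel h1)⟩
  exact ⟨h, by rw [show π = 1 from Equiv.ext fun x => (hπ x).1, show d = 1 from funext fun x => (hπ x).2]⟩

theorem centralizer_RB (hb : b ≤ 1) {σ : Perm (Pt p q r b)}
    (hσ : ∀ x ∈ RB p q r b, σ * x = x * σ) : σ ∈ RB p q r b := by
  have hcomm : ∀ (c e : Fin q → ZMod p) (h : Fin r → ZMod p) z, σ (rtr c e h z) = rtr c e h (σ z) :=
    fun c e h z => Equiv.ext_iff.1 (hσ _ ⟨c, e, h, rfl⟩) z
  have hchunk : ∀ i : Fin q, ∃ x y, σ (Sum.inl (Sum.inl (i, 0), 0)) = Sum.inl (Sum.inl (i, x), y) := by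
    intro i
    rcases hz : σ (Sum.inl (Sum.inl (i, 0), 0)) with ⟨⟨i', x⟩ | j, y⟩ | e
    · refine ⟨x, y, ?_⟩
      by_contra hne
      have hi : i' ≠ i := fun h => hne (by rw [h])
      have h1 := hcomm (Pi.single i 1) 0 0 (Sum.inl (Sum.inl (i, 0), 0))
      rw [hz] at h1
      simp [hi] at h1
      rw [← hz] at h1
      simpa using σ.injective h1
    all_goals
      exfalso
      have h1 := hcomm (Pi.single i 1) 0 0 (Sum.inl (Sum.inl (i, 0), 0))
      rw [hz] at h1
      simp at h1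
      rw [← hz] at h1
      simpa using σ.injective h1
  have hblock : ∀ j : Fin r, ∃ y, σ (Sum.inl (Sum.inr j, 0)) = Sum.inl (Sum.inr j, y) := by
    intro j
    rcases hz : σ (Sum.inl (Sum.inr j, 0)) with ⟨⟨i', x⟩ | j', y⟩ | e
    · exfalso
      have h1 := hcomm 0 0 (Pi.single j 1) (Sum.inl (Sum.inr j, 0))
      rw [hz] at h1
      simp at h1
      rw [← hz] at h1
      simpa using σ.injective h1
    · refine ⟨y, ?_⟩
      by_contra hne
      have hj : j' ≠ j := fun h => hne (by rw [h])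
      have h1 := hcomm 0 0 (Pi.single j 1) (Sum.inl (Sum.inr j, 0))
      rw [hz] at h1
      simp [hj] at h1
      rw [← hz] at h1
      simpa using σ.injective h1
    · exfalso
      have h1 := hcomm 0 0 (Pi.single j 1) (Sum.inl (Sum.inr j, 0))
      rw [hz] at h1
      simp at h1
      rw [← hz] at h1
      simpa using σ.injective h1
  choose c e hce using hchunk
  choose h hh using hblock
  refine ⟨c, e, h, Equiv.ext fun z => ?_⟩
  rcases z with ⟨⟨i, x⟩ | j, y⟩ | e₀
  · have h1 := hcomm (Pi.single i x) (Pi.single i y) 0 (Sum.inl (Sum.inl (i, 0), 0))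
    rw [hce] at h1
    simpa [add_comm] using h1
  · have h1 := hcomm 0 0 (Pi.single j y) (Sum.inl (Sum.inr j, 0))
    rw [hh] at h1
    simpa [add_comm] using h1
  · rcases hz : σ (Sum.inr e₀) with ⟨⟨i, x⟩ | j, y⟩ | e'
    · exfalso
      have h1 := hcomm (Pi.single i 1) 0 0 (Sum.inr e₀)
      simp [hz] at h1
    · exfalso
      have h1 := hcomm 0 0 (Pi.single j 1) (Sum.inr e₀)
      simp [hz] at h1
    · rw [rtr, aff_inr]
      congr 1
      have := e₀.2; have := e'.2
      ext; omega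

/-- The subgroup generated by the elements of `p`-power order normalizing `H`. -/
def localP (p : ℕ) {G : Type*} [Group G] (H : Subgroup G) : Subgroup G :=
  Subgroup.closure {g : G | g ∈ Subgroup.normalizer (H : Set G) ∧ ∃ k : ℕ, g ^ p ^ k = 1}

omit hp in
theorem localP_conj {G : Type*} [Group G] {H : Subgroup G} {n : G} (hn : n ∈ Subgroup.normalizer (H : Set G))
    {g : G} (hg : g ∈ localP p H) : n * g * n⁻¹ ∈ localP p H := by
  refine (Subgroup.closure_le (K := (localP p H).comap (MulAut.conj n).toMonoidHom)).2 ?_ hg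
  rintro x ⟨hx, k, hk⟩
  exact Subgroup.subset_closure (show n * x * n⁻¹ ∈ {g : G | g ∈ Subgroup.normalizer (H : Set G) ∧ ∃ k : ℕ,
    g ^ p ^ k = 1} from ⟨Subgroup.mul_mem _ (Subgroup.mul_mem _ hn hx) (Subgroup.inv_mem _ hn), k, by
      rw [conj_pow, hk, mul_one, mul_inv_cancel]⟩)

theorem aff_mem_normalizer (h : Bl p q r → ZMod p) (d : Bl p q r → (ZMod p)ˣ) (π : Perm (Bl p q r)) :
    aff h d π ∈ Subgroup.normalizer (EB p q r b : Set (Perm (Pt p q r b))) := by
  refine mem_normalizer_of_conj ?_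
  rintro _ ⟨k, rfl⟩
  refine ⟨fun x => (d (π.symm x) : ZMod p) * k (π.symm x), ?_⟩
  rw [mul_inv_eq_iff_eq_mul, tr, tr, aff_mul, aff_mul, mul_one, one_mul]
  congr 1
  · funext x; simp [add_comm]
  · funext x; simp

/-- The block permutations as a homomorphism. -/
def blHom : Perm (Bl p q r) →* Perm (Pt p q r b) :=
  MonoidHom.mk' (fun π => aff 0 1 π) fun π π' => by
    rw [aff_mul]
    congr 1 <;> funext x <;> simp

theorem blHom_alt (hp2 : p ≠ 2) (hB : 3 ≤ Fintype.card (Bl p q r)) (hpB : p ≤ Fintype.card (Bl p q r))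
    {π : Perm (Bl p q r)} (hπ : π ∈ alternatingGroup (Bl p q r)) :
    blHom π ∈ localP p (EB p q r b) := by
  set N := Subgroup.closure {π : Perm (Bl p q r) | ∃ k : ℕ, π ^ p ^ k = 1} with hN
  suffices h : alternatingGroup (Bl p q r) ≤ N by
    refine (Subgroup.closure_le (K := (localP p (EB p q r b)).comap blHom)).2 ?_ (h hπ)
    rintro x ⟨k, hk⟩
    exact Subgroup.subset_closure (show blHom x ∈ {g : Perm (Pt p q r b) |
      g ∈ Subgroup.normalizer (EB p q r b : Set (Perm (Pt p q r b))) ∧ ∃ k : ℕ, g ^ p ^ k = 1} from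
      ⟨aff_mem_normalizer 0 1 x, k, by rw [← map_pow, hk, map_one]⟩)
  by_cases hp3 : p = 3
  · subst hp3
    rw [← Equiv.Perm.closure_three_cycles_eq_alternating]
    refine Subgroup.closure_mono fun x hx => ⟨1, ?_⟩
    have h1 := pow_orderOf_eq_one x
    rw [hx.orderOf] at h1
    rwa [pow_one]
  have hp5 : 5 ≤ p := hp.out.five_le_of_ne_two_of_ne_three hp2 hp3
  have : IsSimpleGroup (alternatingGroup (Bl p q r)) :=
    alternatingGroup.isSimpleGroup (by rw [Nat.card_eq_fintype_card]; omega)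
  have hn : (N.subgroupOf (alternatingGroup (Bl p q r))).Normal := by
    have : N.Normal := by
      refine ⟨fun x hx g => ?_⟩
      refine (Subgroup.closure_le (K := N.comap (MulAut.conj g).toMonoidHom)).2 ?_ hx
      rintro y ⟨k, hk⟩
      exact Subgroup.subset_closure (show g * y * g⁻¹ ∈ {π : Perm (Bl p q r) | ∃ k : ℕ, π ^ p ^ k = 1} from
        ⟨k, by rw [conj_pow, hk, mul_one, mul_inv_cancel]⟩)
    exact this.subgroupOf _
  rcases hn.eq_bot_or_eq_top with hb | ht
  · exfalso
    obtain ⟨x, hx⟩ := exists_prime_orderOf_dvd_card' (G := Perm (Bl p q r)) p (by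
      rw [Nat.card_perm, Nat.card_eq_fintype_card]; exact (hp.out.dvd_factorial).2 hpB)
    have hx1 : x ^ p = 1 := by
      have h1 := pow_orderOf_eq_one x
      rwa [hx] at h1
    have hxA : x ∈ alternatingGroup (Bl p q r) :=
      Perm.mem_alternatingGroup.2 (sign_of_pow_odd (hp.out.odd_of_ne_two hp2) hx1)
    have hxN : (⟨x, hxA⟩ : alternatingGroup (Bl p q r)) ∈ N.subgroupOf _ :=
      Subgroup.subset_closure (show x ∈ {π : Perm (Bl p q r) | ∃ k : ℕ, π ^ p ^ k = 1} from ⟨1, by rwa [pow_one]⟩)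
    rw [hb, Subgroup.mem_bot] at hxN
    rw [show x = 1 from congrArg Subtype.val hxN, orderOf_one] at hx
    exact hp.out.one_lt.ne hx
  · exact Subgroup.subgroupOf_eq_top.1 ht

/-- Scalings. -/
def scHom : (Bl p q r → (ZMod p)ˣ) →* Perm (Pt p q r b) :=
  MonoidHom.mk' (fun d => aff 0 d 1) fun d d' => by
    rw [aff_mul]
    congr 1 <;> funext x <;> simp

theorem scHom_mem (hp2 : p ≠ 2) (hB : 3 ≤ Fintype.card (Bl p q r)) (hpB : p ≤ Fintype.card (Bl p q r))
    {d : Bl p q r → (ZMod p)ˣ} (hd : ∏ x, d x = 1) : scHom d ∈ localP p (EB p q r b) := by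
  obtain ⟨a⟩ : Nonempty (Bl p q r) := Fintype.card_pos_iff.1 (by omega)
  have hpair : ∀ x (t : (ZMod p)ˣ), scHom (Pi.mulSingle x t * (Pi.mulSingle a t)⁻¹) ∈ localP p (EB p q r b) := by
    intro x t
    rcases eq_or_ne x a with rfl | hxa
    · rw [mul_inv_cancel, map_one]; exact Subgroup.one_mem _
    obtain ⟨c, hc⟩ := Finset.exists_mem_notMem_of_card_lt_card (s := ({x, a} : Finset (Bl p q r))) (t := univ)
      (lt_of_le_of_lt card_le_two (by rw [card_univ]; omega))
    have hca : c ≠ a := fun h => hc.2 (by simp [h])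
    have hcx : c ≠ x := fun h => hc.2 (by simp [h])
    let π : Perm (Bl p q r) := Equiv.swap a c * Equiv.swap a x
    have hπ : π ∈ alternatingGroup (Bl p q r) := by
      rw [Perm.mem_alternatingGroup, map_mul, Perm.sign_swap hca.symm, Perm.sign_swap hxa.symm]; decide
    have hπa : π a = x := by
      simp only [π, Perm.mul_apply, Equiv.swap_apply_left]
      exact Equiv.swap_apply_of_ne_of_ne hxa hcx.symm
    have hb := blHom_alt (b := b) hp2 hB hpB hπ
    have h1 : blHom π * (scHom (Pi.mulSingle a t) * (blHom π)⁻¹ * (scHom (Pi.mulSingle a t))⁻¹) ∈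
        localP p (EB p q r b) :=
      Subgroup.mul_mem _ hb (localP_conj (aff_mem_normalizer _ _ _) (Subgroup.inv_mem _ hb))
    have h2 : blHom π * scHom (Pi.mulSingle a t) * (blHom π)⁻¹ = (scHom (Pi.mulSingle x t) : Perm (Pt p q r b)) := by
      rw [mul_inv_eq_iff_eq_mul]
      show aff _ _ _ * aff _ _ _ = aff _ _ _ * aff _ _ _
      rw [aff_mul, aff_mul, mul_one, one_mul]
      congr 1
      · funext y; simp
      · funext y
        simp only [Pi.one_apply, one_mul, mul_one]
        rw [← hπa, Pi.mulSingle_apply, Pi.mulSingle_apply]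
        simp [π.injective.eq_iff]
    rw [← mul_assoc, ← mul_assoc, h2, ← map_inv, ← map_mul] at h1
    exact h1
  have hdec : d = ∏ x, (Pi.mulSingle x (d x) * (Pi.mulSingle a (d x))⁻¹) := by
    rw [prod_mul_distrib, Finset.univ_prod_mulSingle, prod_inv_distrib, prod_mulSingle_const, hd,
      Pi.mulSingle_one, inv_one, mul_one]
  rw [hdec]
  exact Subgroup.prod_mem ((localP p (EB p q r b)).comap scHom) fun x _ => hpair x (d x)

/-- An even element of the normalizer of `EB` with product of scalings `1` is in the local subgroup. -/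
theorem aff_mem_local (hp2 : p ≠ 2) (hB : 3 ≤ Fintype.card (Bl p q r)) (hpB : p ≤ Fintype.card (Bl p q r))
    {h : Bl p q r → ZMod p} {d : Bl p q r → (ZMod p)ˣ} {π : Perm (Bl p q r)} (hd : ∏ x, d x = 1)
    (hev : aff h d π ∈ alternatingGroup (Pt p q r b)) : aff h d π ∈ localP p (EB p q r b) := by
  have hdec : aff (b := b) h d π = blHom π * tr h * scHom d := by
    show _ = aff _ _ _ * aff _ _ _ * aff _ _ _
    rw [aff_mul, aff_mul]
    congr 1 <;> first | (funext x; simp) | simp
  have htr : tr h ∈ localP p (EB p q r b) :=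
    Subgroup.subset_closure ⟨aff_mem_normalizer _ _ _, 1, by rw [pow_one]; exact tr_pow_p h⟩
  have hsc := scHom_mem (b := b) hp2 hB hpB hd
  have hle : localP p (EB p q r b) ≤ alternatingGroup (Pt p q r b) := (Subgroup.closure_le _).2 fun x hx => by
    obtain ⟨k, hk⟩ := hx.2
    exact Perm.mem_alternatingGroup.2 (sign_of_pow_odd ((hp.out.odd_of_ne_two hp2).pow) hk)
  rw [hdec] at hev ⊢
  have h1 : Perm.sign (blHom (b := b) π) = 1 :=
    (Subgroup.mul_mem_cancel_right _ (tr_mem_alt hp2 h)).1 ((Subgroup.mul_mem_cancel_right _ (hle hsc)).1 hev)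
  have h2 : Perm.sign π = 1 := by
    have h3 : Perm.sign π ^ p = 1 := (sign_perm (b := b) π).symm.trans h1
    rcases Int.units_eq_one_or (Perm.sign π) with h4 | h4
    · exact h4
    · rw [h4, (hp.out.odd_of_ne_two hp2).neg_one_pow] at h3; exact absurd h3 (by decide)
  exact Subgroup.mul_mem _ (Subgroup.mul_mem _ (blHom_alt hp2 hB hpB (Perm.mem_alternatingGroup.2 h2)) htr) hsc

/-- A shear of the chunks. -/
def shU (a : Fin q → ZMod p) : Perm (Pt p q r b) where
  toFun z := match z with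
    | Sum.inl (Sum.inl (i, x), y) => Sum.inl (Sum.inl (i, x + a i * y), y)
    | Sum.inl (Sum.inr j, y) => Sum.inl (Sum.inr j, y)
    | Sum.inr e => Sum.inr e
  invFun z := match z with
    | Sum.inl (Sum.inl (i, x), y) => Sum.inl (Sum.inl (i, x - a i * y), y)
    | Sum.inl (Sum.inr j, y) => Sum.inl (Sum.inr j, y)
    | Sum.inr e => Sum.inr e
  left_inv z := by rcases z with ⟨⟨i, x⟩ | j, y⟩ | e <;> simp
  right_inv z := by rcases z with ⟨⟨i, x⟩ | j, y⟩ | e <;> simp

@[simp] theorem shU_inl (a : Fin q → ZMod p) (i : Fin q) (x y : ZMod p) :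
    shU (r := r) (b := b) a (Sum.inl (Sum.inl (i, x), y)) = Sum.inl (Sum.inl (i, x + a i * y), y) := rfl

@[simp] theorem shU_inr (a : Fin q → ZMod p) (j : Fin r) (y : ZMod p) :
    shU (b := b) a (Sum.inl (Sum.inr j, y)) = Sum.inl (Sum.inr j, y) := rfl

@[simp] theorem shU_rest (a : Fin q → ZMod p) (e : Fin b) :
    shU (r := r) a (Sum.inr e) = Sum.inr e := rfl

/-- The other shear. -/
abbrev shL (a : Fin q → ZMod p) : Perm (Pt p q r b) := tr (Sum.elim (fun z => a z.1 * z.2) 0)

theorem shU_mem (a : Fin q → ZMod p) : shU a ∈ localP p (RB p q r b) := by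
  refine Subgroup.subset_closure ⟨mem_normalizer_of_conj ?_, 1, ?_⟩
  · rintro _ ⟨c, e, h, rfl⟩
    refine ⟨fun i => c i + a i * e i, e, h, ?_⟩
    rw [mul_inv_eq_iff_eq_mul]
    refine Equiv.ext fun z => ?_
    rcases z with ⟨⟨i, x⟩ | j, y⟩ | e₀ <;> simp [Perm.mul_apply, rtr]
    ring
  · rw [pow_one]
    have h : ∀ n : ℕ, shU (r := r) (b := b) a ^ n = shU (n • a) := by
      intro n
      induction n with
      | zero => refine Equiv.ext fun z => ?_; rcases z with ⟨⟨i, x⟩ | j, y⟩ | e₀ <;> simp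
      | succ n ih =>
        rw [pow_succ, ih]
        refine Equiv.ext fun z => ?_
        rcases z with ⟨⟨i, x⟩ | j, y⟩ | e₀ <;> simp [Perm.mul_apply, succ_nsmul]
        ring
    rw [h, show p • a = 0 from funext fun i => by simp]
    refine Equiv.ext fun z => ?_
    rcases z with ⟨⟨i, x⟩ | j, y⟩ | e₀ <;> simp

theorem shL_mem (a : Fin q → ZMod p) : shL a ∈ localP p (RB p q r b) := by
  refine Subgroup.subset_closure ⟨mem_normalizer_of_conj ?_, 1, by rw [pow_one]; exact tr_pow_p _⟩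
  rintro _ ⟨c, e, h, rfl⟩
  refine ⟨c, fun i => e i + a i * c i, h, ?_⟩
  rw [mul_inv_eq_iff_eq_mul]
  refine Equiv.ext fun z => ?_
  rcases z with ⟨⟨i, x⟩ | j, y⟩ | e₀ <;> simp [Perm.mul_apply, rtr, shL, tr]
  ring

/-- The block permutation of `gt`. -/
def gtPerm (t : Fin q → (ZMod p)ˣ) : Perm (Bl p q r) where
  toFun z := match z with
    | Sum.inl (i, x) => Sum.inl (i, (t i : ZMod p) * x)
    | Sum.inr j => Sum.inr j
  invFun z := match z with
    | Sum.inl (i, x) => Sum.inl (i, ((t i)⁻¹ : (ZMod p)ˣ) * x)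
    | Sum.inr j => Sum.inr j
  left_inv z := by rcases z with ⟨i, x⟩ | j <;> simp [-Units.val_inv_eq_inv_val, -ZMod.inv_coe_unit]
  right_inv z := by rcases z with ⟨i, x⟩ | j <;> simp [-Units.val_inv_eq_inv_val, -ZMod.inv_coe_unit]

/-- The scalings of `gt`. -/
def gtScale (t : Fin q → (ZMod p)ˣ) : Bl p q r → (ZMod p)ˣ := Sum.elim (fun z => (t z.1)⁻¹) 1

/-- The element `diag (t, t⁻¹)` on the chunks. -/
abbrev gt (t : Fin q → (ZMod p)ˣ) : Perm (Pt p q r b) := aff 0 (gtScale t) (gtPerm t)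

theorem gt_mem_local (t : Fin q → (ZMod p)ˣ) : gt t ∈ localP p (RB p q r b) := by
  have he : gt (r := r) (b := b) t = shU (fun i => (t i : ZMod p)) * shL (fun i => -(((t i)⁻¹ : (ZMod p)ˣ) : ZMod p)) *
      shU (fun i => (t i : ZMod p)) * (shU (fun _ => -1) * shL (fun _ => 1) * shU (fun _ => -1)) := by
    refine Equiv.ext fun z => ?_
    rcases z with ⟨⟨i, x⟩ | j, y⟩ | e₀
    · have h1 : ((t i : ZMod p)) * ((t i)⁻¹ : (ZMod p)ˣ) = 1 := Units.mul_inv _
      simp only [gt, shL, tr, Perm.mul_apply, aff_inl, shU_inl, gtPerm, gtScale, Equiv.coe_fn_mk, Sum.elim_inl,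
        Pi.zero_apply, Perm.coe_one, id_eq, Pi.one_apply, Units.val_one, one_mul, zero_add,
        Sum.inl.injEq, Prod.mk.injEq, true_and]
      constructor
      · linear_combination ((t i : ZMod p) * x - y) * h1
      · linear_combination x * h1
    · simp [-Units.val_inv_eq_inv_val, -ZMod.inv_coe_unit, gt, shL, tr, gtPerm, gtScale, Perm.mul_apply]
    · simp [-Units.val_inv_eq_inv_val, -ZMod.inv_coe_unit, gt, shL, tr, Perm.mul_apply]
  rw [he]
  refine Subgroup.mul_mem _ (Subgroup.mul_mem _ (Subgroup.mul_mem _ ?_ ?_) ?_)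
    (Subgroup.mul_mem _ (Subgroup.mul_mem _ ?_ ?_) ?_) <;> first | exact shU_mem _ | exact shL_mem _

theorem gt_mem_normalizer (P : Subgroup (Perm (Fin q))) (t : Fin q → (ZMod p)ˣ)
    (ht : ∀ τ ∈ P, ∀ i, t (τ i) = t i) :
    gt t ∈ Subgroup.normalizer (SM (p := p) r b P : Set (Perm (Pt p q r b))) := by
  refine mem_normalizer_of_conj ?_
  rintro _ ⟨h, c, τ, hτ, rfl⟩
  refine ⟨fun z => match z with
    | Sum.inl (i, x) => ((t i)⁻¹ : (ZMod p)ˣ) * h (Sum.inl (i, ((t i)⁻¹ : (ZMod p)ˣ) * x))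
    | Sum.inr j => h (Sum.inr j), fun i => (t i : ZMod p) * c i, τ, hτ, ?_⟩
  rw [mul_inv_eq_iff_eq_mul]
  refine Equiv.ext fun z => ?_
  rcases z with ⟨⟨i, x⟩ | j, y⟩ | e₀
  · simp [-Units.val_inv_eq_inv_val, -ZMod.inv_coe_unit, gt, gtPerm, gtScale, Perm.mul_apply, ht τ hτ i, mul_add]
  · simp [-Units.val_inv_eq_inv_val, -ZMod.inv_coe_unit, gt, gtPerm, gtScale, Perm.mul_apply]
  · simp [-Units.val_inv_eq_inv_val, -ZMod.inv_coe_unit, gt, Perm.mul_apply]

theorem gt_prod (t : Fin q → (ZMod p)ˣ) : ∏ x, gtScale (r := r) t x = (∏ i, t i)⁻¹ := by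
  rw [gtScale, Fintype.prod_sum_type]
  simp only [Sum.elim_inl, Sum.elim_inr, Pi.one_apply, prod_const_one, mul_one, Fintype.prod_prod_type,
    prod_const, card_univ, ZMod.card]
  rw [← prod_inv_distrib]
  refine prod_congr rfl fun i _ => Units.ext ?_
  rw [Units.val_pow_eq_pow_val, ZMod.pow_card]

/-- An element of the normalizer of the model, up to some `gt`, lies in the local subgroup of `EB`. -/
theorem normalizer_mem (hp2 : p ≠ 2) (hb : b ≤ 1) (hq : 1 ≤ q) (P : Subgroup (Perm (Fin q)))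
    (hP : IsPGroup p P) {σ : Perm (Pt p q r b)} (hev : σ ∈ alternatingGroup (Pt p q r b))
    (hσ : σ ∈ Subgroup.normalizer (SM (p := p) r b P : Set (Perm (Pt p q r b)))) :
    ∃ t : Fin q → (ZMod p)ˣ, gt t ∈ Subgroup.normalizer (SM (p := p) r b P : Set (Perm (Pt p q r b))) ∧
      gt (r := r) (b := b) t ∈ localP p (RB p q r b) ∧ σ * (gt t)⁻¹ ∈ localP p (EB p q r b) := by
  obtain ⟨h, d, π, rfl⟩ := exists_aff hb (normalizer_le P hσ)
  obtain ⟨i₀⟩ : Nonempty (Fin q) := ⟨⟨0, hq⟩⟩
  classical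
  let O : Finset (Fin q) := univ.filter fun i => i ∈ MulAction.orbit P i₀
  let t : Fin q → (ZMod p)ˣ := fun i => if i ∈ O then (∏ x, d x)⁻¹ else 1
  have ht : ∀ τ ∈ P, ∀ i, t (τ i) = t i := by
    intro τ hτ i
    have : τ i ∈ O ↔ i ∈ O := by
      simp only [O, mem_filter, mem_univ, true_and]
      constructor
      · rintro ⟨g, hg⟩
        refine ⟨(⟨τ, hτ⟩ : P)⁻¹ * g, ?_⟩
        show (τ⁻¹ * (g : Perm (Fin q))) i₀ = i
        rw [Perm.mul_apply]
        show τ⁻¹ ((g : Perm (Fin q)) i₀) = i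
        rw [show (g : Perm (Fin q)) i₀ = τ i from hg, Perm.inv_def, Equiv.symm_apply_apply]
      · rintro ⟨g, hg⟩
        refine ⟨(⟨τ, hτ⟩ : P) * g, ?_⟩
        show τ ((g : Perm (Fin q)) i₀) = τ i
        rw [show (g : Perm (Fin q)) i₀ = i from hg]
    simp only [t, this]
  have hprod : ∏ i, t i = (∏ x, d x)⁻¹ := by
    obtain ⟨k, hk⟩ := hP.card_orbit i₀
    have hO : O.card = p ^ k := by
      rw [← hk]
      exact (Nat.subtype_card O (fun i => by simp [O])).symm
    simp only [t]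
    rw [prod_ite_mem, univ_inter, prod_const, hO]
    refine Units.ext ?_
    rw [Units.val_pow_eq_pow_val, ZMod.pow_card_pow]
  refine ⟨t, gt_mem_normalizer P t ht, gt_mem_local t, ?_⟩
  have hgtA : gt t ∈ alternatingGroup (Pt p q r b) :=
    ((Subgroup.closure_le _).2 fun x hx => by
      obtain ⟨k, hk⟩ := hx.2
      exact Perm.mem_alternatingGroup.2 (sign_of_pow_odd ((hp.out.odd_of_ne_two hp2).pow) hk) :
      localP p (RB p q r b) ≤ alternatingGroup (Pt p q r b)) (gt_mem_local t)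
  have hev' := Subgroup.mul_mem _ hev (Subgroup.inv_mem _ hgtA)
  obtain ⟨h', d', π', he⟩ := exists_aff hb (σ := aff h d π * (gt t)⁻¹)
    (Subgroup.mul_mem _ (aff_mem_normalizer h d π) (Subgroup.inv_mem _ (aff_mem_normalizer _ _ _)))
  have hB : p ≤ Fintype.card (Bl p q r) := by
    simp only [Fintype.card_sum, Fintype.card_prod, Fintype.card_fin, ZMod.card]
    nlinarith [hp.out.pos]
  rw [he] at hev' ⊢
  refine aff_mem_local hp2 (by have := hp.out.two_le; omega) hB ?_ hev'
  have h1 : aff (b := b) h d π = aff h' d' π' * gt t := by rw [← he, inv_mul_cancel_right]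
  have h2 : ∀ x, d x = d' (gtPerm t x) * gtScale t x := by
    intro x
    have e0 := Equiv.ext_iff.1 h1 (Sum.inl (x, 0))
    have e1 := Equiv.ext_iff.1 h1 (Sum.inl (x, 1))
    rw [Perm.mul_apply, gt, aff_inl, aff_inl, aff_inl, Sum.inl.injEq, Prod.mk.injEq] at e0 e1
    refine Units.ext ?_
    rw [Units.val_mul]
    have := e0.2
    simp only [Pi.zero_apply, zero_add, mul_zero, add_zero, mul_one] at this e1
    rw [this] at e1
    exact add_left_cancel e1.2
  have h3 : ∏ x, d x = (∏ x, d' x) * ∏ x, d x := by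
    conv_lhs => rw [prod_congr rfl fun x _ => h2 x, prod_mul_distrib, gt_prod, hprod, inv_inv,
      Equiv.prod_comp (gtPerm t) d']
  exact mul_eq_right.1 h3.symm

end Cfsg.Agent.AltModel
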