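import Mathlib

/-!
# A model of a Sylow `p`-subgroup of a symmetric group, two levels deep

The points are `q` chunks `ZMod p × ZMod p`, `r` further blocks `ZMod p`, and `b` more points.
`aff h d π` permutes the blocks by `π` and is affine inside them; `SM P` is the `p`-group over `P ≤ Sym q`.
-/

set_option autoImplicit false

namespace Cfsg.Agent.AltModel

open Equiv

variable (p q r b : ℕ)

/-- The blocks. -/
abbrev Bl : Type := (Fin q × ZMod p) ⊕ Fin r

/-- The points. -/
abbrev Pt : Type := (Bl p q r × ZMod p) ⊕ Fin b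

variable {p q r b}

/-- Move the block `x` to `π x`, acting on it by `y ↦ h x + d x * y`. -/
def aff (h : Bl p q r → ZMod p) (d : Bl p q r → (ZMod p)ˣ) (π : Perm (Bl p q r)) : Perm (Pt p q r b) where
  toFun z := match z with
    | Sum.inl (x, y) => Sum.inl (π x, h x + d x * y)
    | Sum.inr e => Sum.inr e
  invFun z := match z with
    | Sum.inl (x, y) => Sum.inl (π.symm x, ((d (π.symm x))⁻¹ : (ZMod p)ˣ) * (y - h (π.symm x)))
    | Sum.inr e => Sum.inr e
  left_inv z := by rcases z with ⟨x, y⟩ | e <;> simp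
  right_inv z := by rcases z with ⟨x, y⟩ | e <;> simp

@[simp] theorem aff_inl (h : Bl p q r → ZMod p) (d : Bl p q r → (ZMod p)ˣ) (π : Perm (Bl p q r)) (x : Bl p q r)
    (y : ZMod p) : aff (b := b) h d π (Sum.inl (x, y)) = Sum.inl (π x, h x + d x * y) := rfl

@[simp] theorem aff_inr (h : Bl p q r → ZMod p) (d : Bl p q r → (ZMod p)ˣ) (π : Perm (Bl p q r)) (e : Fin b) :
    aff h d π (Sum.inr e) = Sum.inr e := rfl

theorem aff_mul (h h' : Bl p q r → ZMod p) (d d' : Bl p q r → (ZMod p)ˣ) (π π' : Perm (Bl p q r)) :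
    aff (b := b) h d π * aff h' d' π' =
      aff (fun x => h (π' x) + d (π' x) * h' x) (fun x => d (π' x) * d' x) (π * π') := by
  refine Equiv.ext fun z => ?_
  rcases z with ⟨x, y⟩ | e <;> simp [Perm.mul_apply, mul_add, add_assoc, mul_assoc]

@[simp] theorem aff_one : aff (b := b) (0 : Bl p q r → ZMod p) 1 1 = 1 := by
  refine Equiv.ext fun z => ?_
  rcases z with ⟨x, y⟩ | e <;> simp

theorem aff_inj {h h' : Bl p q r → ZMod p} {π π' : Perm (Bl p q r)}
    (e : aff (b := b) h 1 π = aff h' 1 π') : h = h' ∧ π = π' := by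
  have h1 := fun x => Equiv.ext_iff.1 e (Sum.inl (x, 0))
  simp only [aff_inl, mul_zero, add_zero, Sum.inl.injEq, Prod.mk.injEq] at h1
  exact ⟨funext fun x => (h1 x).2, Equiv.ext fun x => (h1 x).1⟩

/-- Translations inside the blocks. -/
abbrev tr (h : Bl p q r → ZMod p) : Perm (Pt p q r b) := aff h 1 1

theorem tr_mul (h h' : Bl p q r → ZMod p) : tr (b := b) h * tr h' = tr (h + h') := by
  rw [tr, tr, aff_mul]; congr 1 <;> funext x <;> simp

theorem tr_zero : tr (b := b) (0 : Bl p q r → ZMod p) = 1 := aff_one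

theorem tr_inv (h : Bl p q r → ZMod p) : (tr (b := b) h)⁻¹ = tr (-h) :=
  inv_eq_of_mul_eq_one_right (by rw [tr_mul, add_neg_cancel, tr_zero])

theorem tr_pow (h : Bl p q r → ZMod p) (n : ℕ) : tr (b := b) h ^ n = tr (n • h) := by
  induction n with
  | zero => rw [pow_zero, zero_nsmul, tr_zero]
  | succ n ih => rw [pow_succ, ih, tr_mul, succ_nsmul]

theorem tr_pow_p (h : Bl p q r → ZMod p) : tr (b := b) h ^ p = 1 := by
  rw [tr_pow, show p • h = 0 from funext fun x => by simp, tr_zero]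

/-- Translations of chunks. -/
def blc (c : Fin q → ZMod p) (τ : Perm (Fin q)) : Perm (Bl p q r) where
  toFun z := match z with
    | Sum.inl (i, x) => Sum.inl (τ i, x + c i)
    | Sum.inr j => Sum.inr j
  invFun z := match z with
    | Sum.inl (i, x) => Sum.inl (τ.symm i, x - c (τ.symm i))
    | Sum.inr j => Sum.inr j
  left_inv z := by rcases z with ⟨i, x⟩ | j <;> simp
  right_inv z := by rcases z with ⟨i, x⟩ | j <;> simp

@[simp] theorem blc_inl (c : Fin q → ZMod p) (τ : Perm (Fin q)) (i : Fin q) (x : ZMod p) :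
    blc (r := r) c τ (Sum.inl (i, x)) = Sum.inl (τ i, x + c i) := rfl

@[simp] theorem blc_inr (c : Fin q → ZMod p) (τ : Perm (Fin q)) (j : Fin r) :
    blc c τ (Sum.inr j) = Sum.inr j := rfl

theorem blc_mul (c c' : Fin q → ZMod p) (τ τ' : Perm (Fin q)) :
    blc (r := r) c τ * blc c' τ' = blc (fun i => c (τ' i) + c' i) (τ * τ') := by
  refine Equiv.ext fun z => ?_
  rcases z with ⟨i, x⟩ | j <;> simp [Perm.mul_apply, add_comm (c' _), add_assoc]

@[simp] theorem blc_one : blc (r := r) (0 : Fin q → ZMod p) 1 = 1 := by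
  refine Equiv.ext fun z => ?_
  rcases z with ⟨i, x⟩ | j <;> simp

theorem blc_inj [NeZero p] {c c' : Fin q → ZMod p} {τ τ' : Perm (Fin q)}
    (e : blc (r := r) c τ = blc c' τ') : c = c' ∧ τ = τ' := by
  have h1 := fun i => Equiv.ext_iff.1 e (Sum.inl (i, 0))
  simp only [blc_inl, zero_add, Sum.inl.injEq, Prod.mk.injEq] at h1
  exact ⟨funext fun i => (h1 i).2, Equiv.ext fun i => (h1 i).1⟩

variable (r b) in
/-- The `p`-group over `P`. -/
def SM (P : Subgroup (Perm (Fin q))) : Subgroup (Perm (Pt p q r b)) where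
  carrier := {σ | ∃ h c τ, τ ∈ P ∧ σ = aff h 1 (blc c τ)}
  one_mem' := ⟨0, 0, 1, P.one_mem, by rw [blc_one, aff_one]⟩
  mul_mem' := by
    rintro _ _ ⟨h, c, τ, hτ, rfl⟩ ⟨h', c', τ', hτ', rfl⟩
    refine ⟨fun x => h (blc c' τ' x) + h' x, fun i => c (τ' i) + c' i, τ * τ', P.mul_mem hτ hτ', ?_⟩
    rw [aff_mul, blc_mul]
    congr 1 <;> funext x <;> simp
  inv_mem' := by
    rintro _ ⟨h, c, τ, hτ, rfl⟩
    have hπ : blc (r := r) (fun i => -c (τ⁻¹ i)) τ⁻¹ * blc c τ = 1 := by
      rw [blc_mul]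
      convert blc_one (p := p) (q := q) (r := r) <;> simp
    refine ⟨fun x => -h ((blc c τ)⁻¹ x), fun i => -c (τ⁻¹ i), τ⁻¹, P.inv_mem hτ, inv_eq_of_mul_eq_one_left ?_⟩
    rw [aff_mul, hπ]
    convert aff_one (p := p) (q := q) (r := r) (b := b) using 2 <;> funext x <;> simp

theorem mem_SM {P : Subgroup (Perm (Fin q))} {σ : Perm (Pt p q r b)} :
    σ ∈ SM r b P ↔ ∃ h c τ, τ ∈ P ∧ σ = aff h 1 (blc c τ) := Iff.rfl

theorem tr_mem (P : Subgroup (Perm (Fin q))) (h : Bl p q r → ZMod p) : tr (b := b) h ∈ SM r b P :=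
  ⟨h, 0, 1, P.one_mem, by rw [blc_one]⟩

theorem card_SM [Fact p.Prime] (P : Subgroup (Perm (Fin q))) :
    Nat.card (SM (p := p) r b P) = p ^ (q * p + r) * p ^ q * Nat.card P := by
  let f : (Bl p q r → ZMod p) × (Fin q → ZMod p) × P → SM (p := p) r b P :=
    fun z => ⟨aff z.1 1 (blc z.2.1 z.2.2), z.1, z.2.1, z.2.2, z.2.2.2, rfl⟩
  have hf : Function.Bijective f := by
    constructor
    · rintro ⟨h, c, τ⟩ ⟨h', c', τ'⟩ e
      obtain ⟨h1, h2⟩ := aff_inj (congrArg Subtype.val e)
      obtain ⟨h3, h4⟩ := blc_inj h2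
      simp only at h1 h3 h4
      simp [h1, h3, Subtype.ext h4]
    · rintro ⟨_, h, c, τ, hτ, rfl⟩
      exact ⟨(h, c, ⟨τ, hτ⟩), rfl⟩
  rw [← Nat.card_congr (Equiv.ofBijective f hf), Nat.card_prod, Nat.card_prod, Nat.card_fun, Nat.card_fun]
  simp [mul_assoc]

theorem card_pt [Fact p.Prime] : Fintype.card (Pt p q r b) = p * (p * q + r) + b := by
  simp; ring

theorem card_SM_factorization [hp : Fact p.Prime] (P : Sylow p (Perm (Fin q))) (hr : r < p) (hb : b < p) :
    Nat.card (SM (p := p) r b (P : Subgroup (Perm (Fin q)))) =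
      p ^ (Nat.card (Perm (Pt p q r b))).factorization p := by
  classical
  rw [card_SM, P.card_eq_multiplicity, Nat.card_perm, Nat.card_perm, Nat.card_fin, Nat.card_eq_fintype_card,
    card_pt, Nat.factorization_def _ hp.out, Nat.factorization_def _ hp.out,
    padicValNat_factorial_mul_add (p * q + r) hb, padicValNat_factorial_mul,
    padicValNat_factorial_mul_add q hr, padicValNat_factorial_mul, ← pow_add, ← pow_add]
  congr 1
  ring

/-- The model is a Sylow subgroup. -/
noncomputable def sylow [Fact p.Prime] (P : Sylow p (Perm (Fin q))) (hr : r < p) (hb : b < p) :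
    Sylow p (Perm (Pt p q r b)) :=
  Sylow.ofCard (SM r b (P : Subgroup (Perm (Fin q)))) (card_SM_factorization P hr hb)

/-- The chunk part as a homomorphism. -/
def chunkHom : Perm (Fin q) →* Perm (Pt p q r b) :=
  MonoidHom.mk' (fun τ => aff 0 1 (blc 0 τ)) fun τ τ' => by
    rw [aff_mul, blc_mul]
    congr 1
    · funext x; simp
    · funext x; simp
    · congr 1; funext i; simp

theorem aff_split (h : Bl p q r → ZMod p) (c : Fin q → ZMod p) (τ : Perm (Fin q)) :
    aff (b := b) h 1 (blc c τ) = chunkHom τ * aff 0 1 (blc c 1) * tr h := by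
  rw [chunkHom, MonoidHom.mk'_apply, aff_mul, blc_mul, aff_mul, mul_one, mul_one]
  congr 1
  · funext x; simp
  · funext x; simp
  · congr 1
    funext i; simp

theorem chunk_pow_p (c : Fin q → ZMod p) : aff (b := b) (0 : Bl p q r → ZMod p) 1 (blc c 1) ^ p = 1 := by
  have h : ∀ n : ℕ, aff (b := b) (0 : Bl p q r → ZMod p) 1 (blc c 1) ^ n = aff 0 1 (blc (n • c) 1) := by
    intro n
    induction n with
    | zero => rw [pow_zero, zero_nsmul, blc_one, aff_one]
    | succ n ih =>
      rw [pow_succ, ih, aff_mul, blc_mul, succ_nsmul, mul_one]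
      congr 1
      · funext x; simp
      · funext x; simp
  rw [h, show p • c = 0 from funext fun x => by simp, blc_one, aff_one]

end Cfsg.Agent.AltModel
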