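import Cfsg.Agent.Lib.Fusion.Transport

/-!
# Transport of simplicity along an isomorphism of fusion systems
-/

set_option autoImplicit false

namespace Cfsg.Agent.FusionSys

open Cfsg Cfsg.FusionSystem

variable {Ω Ω' : Type*} [Group Ω] [Group Ω'] {S : Subgroup Ω} {T : Subgroup Ω'} {ι : S →* Ω'}

/-- Two systems, on subgroups of `S` and of the image, have the same maps read through `ι`. -/
structure Agrees {S₀ : Subgroup Ω} {T₀ : Subgroup Ω'} (F : FusionSystem S₀) (E : FusionSystem T₀) (ι : S →* Ω') :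
    Prop where
  fwd : ∀ (P : Subgroup Ω) (hP : P ≤ S) (φ : P →* Ω) (hφ : ∀ x : P, φ x ∈ S), φ ∈ F.Hom P →
    ∀ (Q : Subgroup Ω') (φ' : Q →* Ω'), Q ≤ imageAlong ι P →
      (∀ (x : P) (hx : ι ⟨x, hP x.2⟩ ∈ Q), φ' ⟨ι ⟨x, hP x.2⟩, hx⟩ = ι ⟨φ x, hφ x⟩) → φ' ∈ E.Hom Q
  bwd : ∀ (P : Subgroup Ω) (hP : P ≤ S) (φ : P →* Ω) (hφ : ∀ x : P, φ x ∈ S) (Q : Subgroup Ω') (φ' : Q →* Ω'),
    φ' ∈ E.Hom Q → imageAlong ι P ≤ Q →
      (∀ (x : P) (hx : ι ⟨x, hP x.2⟩ ∈ Q), φ' ⟨ι ⟨x, hP x.2⟩, hx⟩ = ι ⟨φ x, hφ x⟩) → φ ∈ F.Hom P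

/-- A map read through `ι`. -/
noncomputable def pushMap (hι : Function.Injective ι) {P : Subgroup Ω} (hP : P ≤ S) (φ : P →* Ω)
    (hφ : ∀ x : P, φ x ∈ S) : imageAlong ι P →* Ω' :=
  (ι.comp (φ.codRestrict S hφ)).comp (imageEquiv hι hP).symm.toMonoidHom

theorem pushMap_apply (hι : Function.Injective ι) {P : Subgroup Ω} (hP : P ≤ S) (φ : P →* Ω)
    (hφ : ∀ x : P, φ x ∈ S) (x : P) (hx : ι ⟨x, hP x.2⟩ ∈ imageAlong ι P) :
    pushMap hι hP φ hφ ⟨ι ⟨x, hP x.2⟩, hx⟩ = ι ⟨φ x, hφ x⟩ :=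
  congrArg ι (Subtype.ext (congrArg φ ((imageEquiv hι hP).symm_apply_apply x)))

theorem IsFusIso.agrees {F : FusionSystem S} {E : FusionSystem T} (h : IsFusIso F E ι) : Agrees F E ι := by
  constructor
  · intro P hP φ hφ hm Q φ' hQ he
    have h1 := (h.hom_iff P hP φ hφ _ fun x hx => pushMap_apply h.inj hP φ hφ x hx).1 hm
    refine hom_congr E (restrict_mem E h1 hQ) ?_
    rintro ⟨y, hy⟩
    obtain ⟨x, hx, rfl⟩ := hQ hy
    exact (he ⟨x, hx⟩ hy).trans (pushMap_apply h.inj hP φ hφ ⟨x, hx⟩ (hQ hy)).symm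
  · intro P hP φ hφ Q φ' hm hQ he
    refine (h.hom_iff P hP φ hφ _ fun x hx => pushMap_apply h.inj hP φ hφ x hx).2 (hom_congr E (restrict_mem E hm hQ) ?_)
    rintro ⟨_, x, hx, rfl⟩
    exact (pushMap_apply h.inj hP φ hφ ⟨x, hx⟩ _).trans (he ⟨x, hx⟩ _).symm

/-- The pull-back of a system along `ι`. -/
noncomputable def pullSystem (hι : Function.Injective ι) {U : Subgroup Ω'} (D : FusionSystem U) :
    FusionSystem (preimageAlong ι U) where
  Hom P := {φ | ∃ (hP : P ≤ S) (hφ : ∀ x : P, φ x ∈ S), pushMap hι hP φ hφ ∈ D.Hom (imageAlong ι P)}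
  le_of_mem := by
    rintro P φ ⟨hP, hφ, hm⟩
    refine ⟨fun x hx => ⟨⟨x, hP hx⟩, hom_le D hm (imageAlong_mem (x := ⟨x, hP hx⟩) hx), rfl⟩, fun x => ?_⟩
    refine ⟨⟨φ x, hφ x⟩, ?_, rfl⟩
    have := hom_apply_mem D hm ⟨_, imageAlong_mem (ι := ι) (x := ⟨x, hP x.2⟩) x.2⟩
    rwa [pushMap_apply] at this
  injective_of_mem := by
    rintro P φ ⟨hP, hφ, hm⟩ a b hab
    have h1 : pushMap hι hP φ hφ (imageEquiv hι hP a) = pushMap hι hP φ hφ (imageEquiv hι hP b) :=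
      (pushMap_apply hι hP φ hφ a _).trans
        ((congrArg ι (Subtype.ext hab)).trans (pushMap_apply hι hP φ hφ b _).symm)
    exact (imageEquiv hι hP).injective (D.injective_of_mem hm h1)
  conj_mem := by
    rintro P g hP ⟨⟨g, hgS⟩, hg, rfl⟩
    have hPS : P ≤ S := hP.trans (Subgroup.map_subtype_le _)
    have hle : imageAlong ι P ≤ U := by
      rintro _ ⟨x, hx, rfl⟩
      obtain ⟨y, hy, hye⟩ := hP hx
      rwa [← Subtype.ext hye]
    refine ⟨hPS, fun x => S.mul_mem (S.mul_mem hgS (hPS x.2)) (S.inv_mem hgS),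
      hom_congr D (D.conj_mem hle hg) ?_⟩
    rintro ⟨_, x, hx, rfl⟩
    refine (pushMap_apply hι hPS _ _ ⟨x, hx⟩ _).trans ?_
    show ι _ = ι ⟨g, hgS⟩ * ι x * (ι ⟨g, hgS⟩)⁻¹
    simp only [← map_inv, ← map_mul]
    rfl
  comp_mem := by
    rintro P Q φ ψ ⟨hP, hφ, hm⟩ ⟨hQ, hψ, hm'⟩ h
    have hv : ∀ y : imageAlong ι P, pushMap hι hP φ hφ y ∈ imageAlong ι Q := by
      rintro ⟨_, x, hx, rfl⟩
      exact (pushMap_apply hι hP φ hφ ⟨x, hx⟩ (imageAlong_mem hx)) ▸ imageAlong_mem (ι := ι) (x := ⟨φ ⟨x, hx⟩, hφ _⟩) (h ⟨x, hx⟩)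
    refine ⟨hP, fun x => hψ _, hom_congr D (D.comp_mem hm hm' hv) ?_⟩
    rintro ⟨_, x, hx, rfl⟩
    refine (pushMap_apply hι hP _ _ ⟨x, hx⟩ _).trans ?_
    refine Eq.trans (pushMap_apply hι hQ ψ hψ ⟨φ ⟨x, hx⟩, h _⟩ (imageAlong_mem (h ⟨x, hx⟩))).symm ?_
    exact apply_congr (pushMap hι hQ ψ hψ) (pushMap_apply hι hP φ hφ ⟨x, hx⟩ (imageAlong_mem hx)).symm _ _
  inv_mem := by
    rintro P φ ⟨hP, hφ, hm⟩
    have hinj : Function.Injective φ := fun a b hab => by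
      have h1 : pushMap hι hP φ hφ (imageEquiv hι hP a) = pushMap hι hP φ hφ (imageEquiv hι hP b) :=
        (pushMap_apply hι hP φ hφ a _).trans
          ((congrArg ι (Subtype.ext hab)).trans (pushMap_apply hι hP φ hφ b _).symm)
      exact (imageEquiv hι hP).injective (D.injective_of_mem hm h1)
    obtain ⟨χ, hχ, hχe⟩ := D.inv_mem hm
    set ψ : φ.range →* Ω := P.subtype.comp (MonoidHom.ofInjective hinj).symm.toMonoidHom
    have hR : φ.range ≤ S := by rintro _ ⟨x, rfl⟩; exact hφ x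
    have hle : imageAlong ι φ.range ≤ (pushMap hι hP φ hφ).range := by
      rintro _ ⟨z, ⟨x, hx⟩, rfl⟩
      exact ⟨⟨_, imageAlong_mem (ι := ι) (P := P) (x := ⟨x, hP x.2⟩) x.2⟩,
        (pushMap_apply hι hP φ hφ x _).trans (congrArg ι (Subtype.ext hx))⟩
    have hψe : ∀ x : P, ψ ⟨φ x, x, rfl⟩ = x :=
      fun x => congrArg Subtype.val ((MonoidHom.ofInjective hinj).symm_apply_apply x)
    refine ⟨ψ, ⟨hR, fun y => hP (Subtype.coe_prop _), hom_congr D (restrict_mem D hχ hle) ?_⟩, hψe⟩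
    rintro ⟨_, ⟨z, hz⟩, hzr, rfl⟩
    obtain ⟨x, hx⟩ := (hzr : z ∈ φ.range)
    refine (pushMap_apply hι hR ψ _ ⟨z, x, hx⟩ _).trans ?_
    have hψz : ψ ⟨z, x, hx⟩ = x := (congrArg ψ (Subtype.ext hx.symm)).trans (hψe x)
    refine Eq.trans (congrArg ι (Subtype.ext hψz)) (Eq.trans (hχe ⟨ι ⟨x, hP x.2⟩, imageAlong_mem x.2⟩).symm ?_)
    exact apply_congr χ ((pushMap_apply hι hP φ hφ x _).trans (congrArg ι (Subtype.ext hx))) _ _

theorem pullSystem_agrees (hι : Function.Injective ι) {U : Subgroup Ω'} (D : FusionSystem U) :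
    Agrees (pullSystem hι D) D ι := by
  constructor
  · rintro P hP φ hφ ⟨_, _, hm⟩ Q φ' hQ he
    refine hom_congr D (restrict_mem D hm hQ) ?_
    rintro ⟨y, hy⟩
    obtain ⟨x, hx, rfl⟩ := hQ hy
    exact (he ⟨x, hx⟩ hy).trans (pushMap_apply hι hP φ hφ ⟨x, hx⟩ (hQ hy)).symm
  · intro P hP φ hφ Q φ' hm hQ he
    refine ⟨hP, hφ, hom_congr D (restrict_mem D hm hQ) ?_⟩
    rintro ⟨_, x, hx, rfl⟩
    exact (pushMap_apply hι hP φ hφ ⟨x, hx⟩ _).trans (he ⟨x, hx⟩ _).symm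

/-- Corresponding subgroups are isomorphic. -/
noncomputable def equivOf (hι : Function.Injective ι) {Q : Subgroup Ω} {Q' : Subgroup Ω'} (hQ : Q ≤ S)
    (he : imageAlong ι Q = Q') : Q ≃* Q' :=
  (imageEquiv hι hQ).trans (MulEquiv.subgroupCongr he)

theorem equivOf_apply (hι : Function.Injective ι) {Q : Subgroup Ω} {Q' : Subgroup Ω'} (hQ : Q ≤ S)
    (he : imageAlong ι Q = Q') (x : Q) : (equivOf hι hQ he x : Ω') = ι ⟨x, hQ x.2⟩ := rfl

theorem Agrees.autGroup_iff {S₀ : Subgroup Ω} {T₀ : Subgroup Ω'} {F : FusionSystem S₀} {E : FusionSystem T₀}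
    (h : Agrees F E ι) (hι : Function.Injective ι) {Q : Subgroup Ω} {Q' : Subgroup Ω'} (hQS : Q ≤ S)
    (hQ : Q ≤ S₀) (hQ' : Q' ≤ T₀) (he : imageAlong ι Q = Q') (a : MulAut Q) :
    a ∈ F.autGroup Q ↔ MulAut.congr (equivOf hι hQS he) a ∈ E.autGroup Q' := by
  rw [mem_autGroup_iff F hQ, mem_autGroup_iff E hQ']
  have hag : ∀ (x : Q) (hx : ι ⟨x, hQS x.2⟩ ∈ Q'),
      (Q'.subtype.comp (MulAut.congr (equivOf hι hQS he) a).toMonoidHom) ⟨ι ⟨x, hQS x.2⟩, hx⟩ =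
        ι ⟨(Q.subtype.comp a.toMonoidHom) x, hQS (a x).2⟩ := by
    intro x hx
    show ((equivOf hι hQS he (a ((equivOf hι hQS he).symm (equivOf hι hQS he x))) : Q') : Ω') = _
    rw [MulEquiv.symm_apply_apply]
    rfl
  exact ⟨fun hm => h.fwd Q hQS _ (fun x => hQS (a x).2) hm Q' _ he.ge hag,
    fun hm => h.bwd Q hQS _ (fun x => hQS (a x).2) Q' _ hm he.le hag⟩

theorem imageAlong_centralizerIn (hι : Function.Injective ι) (hr : ι.range = T) {U₀ : Subgroup Ω}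
    {U : Subgroup Ω'} (hU₀ : U₀ ≤ S) (he : imageAlong ι U₀ = U) :
    imageAlong ι (centralizerIn S U₀) = centralizerIn T U := by
  subst he
  ext y
  constructor
  · rintro ⟨x, ⟨-, hx⟩, rfl⟩
    refine ⟨hr ▸ ⟨x, rfl⟩, ?_⟩
    rintro _ ⟨z, hz, rfl⟩
    rw [← map_mul, ← map_mul]
    exact congrArg ι (Subtype.ext (hx z hz))
  · rintro ⟨hy, hyc⟩
    obtain ⟨x, rfl⟩ : y ∈ ι.range := hr.symm ▸ hy
    refine ⟨x, ⟨x.2, fun z hz => ?_⟩, rfl⟩
    have h1 := hyc _ (imageAlong_mem (ι := ι) (x := ⟨z, hU₀ hz⟩) hz)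
    rw [← map_mul, ← map_mul] at h1
    exact congrArg Subtype.val (hι h1)

theorem imageAlong_sup {A B : Subgroup Ω} (hA : A ≤ S) (hB : B ≤ S) :
    imageAlong ι (A ⊔ B) = imageAlong ι A ⊔ imageAlong ι B := by
  rw [imageAlong, Subgroup.subgroupOf_sup hA hB, Subgroup.map_sup]; rfl

theorem preimageAlong_le_src (ι : S →* Ω') (U : Subgroup Ω') : preimageAlong ι U ≤ S := Subgroup.map_subtype_le _

/-- The inclusion of the preimage of a subgroup of the image is an isomorphism onto it. -/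
theorem pullSystem_isFusIso (hι : Function.Injective ι) {U : Subgroup Ω'} (hU : U ≤ ι.range) (D : FusionSystem U) :
    IsFusIso (pullSystem hι D) D (ι.comp (Subgroup.inclusion (preimageAlong_le_src ι U))) := by
  have hU₀S : preimageAlong ι U ≤ S := Subgroup.map_subtype_le _
  have himgU : imageAlong ι (preimageAlong ι U) = U := IsFusIso.imageAlong_preimage rfl hU
  have hpag := pullSystem_agrees hι D
  refine ⟨hι.comp (Subgroup.inclusion_injective _), ?_, fun P hP φ hφ φ' he => ?_⟩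
  · rw [MonoidHom.range_comp, Subgroup.inclusion_range]; exact himgU
  have hle : ∀ y, y ∈ imageAlong (ι.comp (Subgroup.inclusion hU₀S)) P ↔ y ∈ imageAlong ι P := by
    intro y
    constructor
    · rintro ⟨x, hx, rfl⟩; exact imageAlong_mem (x := Subgroup.inclusion hU₀S x) hx
    · rintro ⟨x, hx, rfl⟩; exact ⟨⟨x, hP hx⟩, hx, rfl⟩
  exact ⟨fun hm => hpag.fwd P (hP.trans hU₀S) φ (fun x => hU₀S (hφ x)) hm _ φ' (fun y hy => (hle y).1 hy)
      fun x hx => he x hx,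
    fun hm => hpag.bwd P (hP.trans hU₀S) φ (fun x => hU₀S (hφ x)) _ φ' hm (fun y hy => (hle y).2 hy)
      fun x hx => he x hx⟩

/-- A normal subsystem pulls back to a normal subsystem along an isomorphism. -/
theorem IsFusIso.normal_pull [Finite S] {p : ℕ} [Fact p.Prime] {F : FusionSystem S} {E : FusionSystem T}
    (h : IsFusIso F E ι) (hFs : F.IsSaturated p) {U : Subgroup Ω'} {D : FusionSystem U} (hD : D.IsNormalIn E p) :
    (pullSystem h.inj D).IsNormalIn F p := by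
  have hag := h.agrees
  obtain ⟨⟨hDs, -, hsub, hUc, hinv, hfr⟩, hext⟩ := hD
  have hUT := hUc.1
  set U₀ := preimageAlong ι U with hU₀
  have hU₀S : U₀ ≤ S := Subgroup.map_subtype_le _
  have himgU : imageAlong ι U₀ = U := IsFusIso.imageAlong_preimage h.range hUT
  have hle₀ : ∀ {P : Subgroup Ω}, P ≤ U₀ → imageAlong ι P ≤ U := fun hP =>
    himgU ▸ Subgroup.map_mono (Subgroup.comap_mono hP)
  have hpre : ∀ (z : Ω) (hzS : z ∈ S), ι ⟨z, hzS⟩ ∈ U → z ∈ U₀ := fun z hzS hz => ⟨⟨z, hzS⟩, hz, rfl⟩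
  have hpag := pullSystem_agrees h.inj D
  set eU := equivOf h.inj hU₀S himgU with heU
  have hisoU := pullSystem_isFusIso h.inj (hUT.trans h.range.ge) D
  haveI := finite_of_le hU₀S
  -- pulling a map of `D` back
  have hpull : ∀ {P : Subgroup Ω} (hP : P ≤ S) {Q : Subgroup Ω'} {χ : Q →* Ω'}, χ ∈ D.Hom Q →
      ∀ hPQ : imageAlong ι P ≤ Q, ∃ φ ∈ (pullSystem h.inj D).Hom P, ∃ hφ : ∀ x : P, φ x ∈ S,
        ∀ x : P, χ ⟨ι ⟨x, hP x.2⟩, hPQ (imageAlong_mem x.2)⟩ = ι ⟨φ x, hφ x⟩ := by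
    intro P hP Q χ hχ hPQ
    obtain ⟨φ, -, hφ, hφe⟩ := h.exists_pull hP (hsub _ (restrict_mem D hχ hPQ))
    exact ⟨φ, hpag.bwd P hP φ hφ Q χ hχ hPQ fun x hx => hφe x (imageAlong_mem x.2),
      hφ, fun x => hφe x (imageAlong_mem x.2)⟩
  refine ⟨⟨hisoU.saturated hDs, hFs, fun P φ hm => ?_, ⟨hU₀S, fun R hR φ hφ x => ?_⟩,
    fun P hP φ hφ α hα => ?_, fun P hP φ hφ => ?_⟩, fun α hα => ?_⟩
  · obtain ⟨hP, hφ, hm⟩ := hm
    exact hag.bwd P hP φ hφ _ _ (hsub _ hm) le_rfl fun x hx => pushMap_apply h.inj hP φ hφ x hx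
  · refine hpre _ (hom_apply_mem F hφ x) ?_
    obtain ⟨φ', hφ', he⟩ := h.exists_push hφ
    rw [← he x (imageAlong_mem x.2)]
    exact hUc.2 _ (hle₀ hR) φ' hφ' _
  · obtain ⟨hPS, hφS, hm⟩ := hφ
    have hα' : MulAut.congr eU α ∈ E.autGroup U := (hag.autGroup_iff h.inj hU₀S hU₀S hUT himgU α).1 hα
    obtain ⟨χ', hχ', hχe⟩ := hinv _ (hle₀ hP) _ hm _ hα'
    have hR : (P.subgroupOf U₀).map (U₀.subtype.comp α.toMonoidHom) ≤ S := by
      rintro _ ⟨z, -, rfl⟩; exact hU₀S (α z).2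
    have hαe : ∀ z : U₀, ((MulAut.congr eU α (eU z) : U) : Ω') = ι ⟨α z, hU₀S (α z).2⟩ := by
      intro z
      show ((eU (α (eU.symm (eU z))) : U) : Ω') = _
      rw [MulEquiv.symm_apply_apply]; rfl
    have hle : imageAlong ι ((P.subgroupOf U₀).map (U₀.subtype.comp α.toMonoidHom)) ≤
        ((imageAlong ι P).subgroupOf U).map (U.subtype.comp (MulAut.congr eU α).toMonoidHom) := by
      rintro _ ⟨⟨_, _⟩, ⟨z, hz, rfl⟩, rfl⟩
      exact ⟨eU z, imageAlong_mem (ι := ι) (P := P) (x := ⟨z, hU₀S z.2⟩) hz, hαe z⟩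
    obtain ⟨χ, hχ, hχS, hχe'⟩ := hpull hR hχ' hle
    refine ⟨χ, hχ, fun x hφx hαx => congrArg Subtype.val (h.inj (a₁ := ⟨_, hχS _⟩) (a₂ := ⟨_, hU₀S (α ⟨φ x, hφx⟩).2⟩) ?_)⟩
    rw [← hχe' ⟨_, hαx⟩, ← hαe ⟨φ x, hφx⟩]
    have h1 := hαe ⟨x, hP x.2⟩
    have h2 : pushMap h.inj hPS φ hφS ⟨ι ⟨x, hPS x.2⟩, imageAlong_mem x.2⟩ = ι ⟨φ x, hφS x⟩ :=
      pushMap_apply h.inj hPS φ hφS x _
    have hmemU : pushMap h.inj hPS φ hφS ⟨ι ⟨x, hPS x.2⟩, imageAlong_mem x.2⟩ ∈ U :=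
      h2 ▸ (eU ⟨φ x, hφx⟩).2
    refine Eq.trans ?_ (Eq.trans (hχe ⟨ι ⟨x, hPS x.2⟩, imageAlong_mem x.2⟩ hmemU (h1 ▸ hle (imageAlong_mem hαx))) ?_)
    · exact apply_congr χ' h1.symm _ _
    · exact congrArg (fun u : U => ((MulAut.congr eU α u : U) : Ω')) (Subtype.ext h2)
  · obtain ⟨φ', hφ', he⟩ := h.exists_push hφ
    obtain ⟨α', hα', φ₀', hφ₀', hf⟩ := hfr _ (hle₀ hP) φ' hφ'
    have hPS := hP.trans hU₀S
    obtain ⟨φ₀, hφ₀, hφ₀S, h₀e⟩ := hpull hPS hφ₀' le_rfl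
    refine ⟨MulAut.congr eU.symm α', ?_, φ₀, hφ₀, fun x hx => ?_⟩
    · refine (hag.autGroup_iff h.inj hU₀S hU₀S hUT himgU _).2 ?_
      convert hα' using 1
      refine MulEquiv.ext fun y => ?_
      show eU (eU.symm (α' (eU.symm.symm (eU.symm y)))) = α' y
      simp
    · refine congrArg Subtype.val (h.inj (a₁ := ⟨φ x, hom_apply_mem F hφ x⟩) (a₂ := ⟨_, hU₀S (MulAut.congr eU.symm α' ⟨φ₀ x, hx⟩).2⟩) ?_)
      rw [← he x (imageAlong_mem x.2), hf _ ((h₀e x).symm ▸ (eU ⟨φ₀ x, hx⟩).2)]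
      show _ = ((eU (eU.symm (α' (eU.symm.symm ⟨φ₀ x, hx⟩))) : U) : Ω')
      rw [MulEquiv.apply_symm_apply]
      exact congrArg (fun u : U => ((α' u : U) : Ω')) (Subtype.ext (h₀e x))
  · have hα' : MulAut.congr eU α ∈ D.autGroup U :=
      (hpag.autGroup_iff h.inj hU₀S le_rfl le_rfl himgU α).1 hα
    obtain ⟨β', hβ', hβe, hβc⟩ := hext _ hα'
    have hWS : U₀ ⊔ centralizerIn S U₀ ≤ S := sup_le hU₀S (centralizerIn_le _ _)
    have hWT : U ⊔ centralizerIn T U ≤ T := sup_le hUT (centralizerIn_le _ _)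
    have himgW : imageAlong ι (U₀ ⊔ centralizerIn S U₀) = U ⊔ centralizerIn T U := by
      rw [imageAlong_sup hU₀S (centralizerIn_le _ _), himgU, imageAlong_centralizerIn h.inj h.range hU₀S himgU]
    set eW := equivOf h.inj hWS himgW
    have hβι : ∀ c, ι ⟨(MulAut.congr eW.symm β' c : ↥(U₀ ⊔ centralizerIn S U₀)), hWS (Subtype.coe_prop _)⟩ =
        ((β' (eW c) : ↥(U ⊔ centralizerIn T U)) : Ω') :=
      fun c => congrArg Subtype.val (eW.apply_symm_apply (β' (eW c)))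
    refine ⟨MulAut.congr eW.symm β', ?_, fun x => ?_, fun c hc => ?_⟩
    · refine (hag.autGroup_iff h.inj hWS hWS hWT himgW _).2 ?_
      convert hβ' using 1
      refine MulEquiv.ext fun y => ?_
      show eW (eW.symm (β' (eW.symm.symm (eW.symm y)))) = β' y
      simp
    · refine congrArg Subtype.val (h.inj (a₁ := ⟨((MulAut.congr eW.symm β' (Subgroup.inclusion le_sup_left x) : ↥(U₀ ⊔ centralizerIn S U₀)) : Ω), hWS (Subtype.coe_prop _)⟩) (a₂ := ⟨_, hU₀S (α x).2⟩) ?_)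
      rw [hβι]
      refine (congrArg (fun u => ((β' u : ↥(U ⊔ centralizerIn T U)) : Ω')) (Subtype.ext ?_)).trans
        ((hβe (eU x)).trans ?_)
      · rfl
      · show ((eU (α (eU.symm (eU x))) : U) : Ω') = _
        rw [MulEquiv.symm_apply_apply]; rfl
    · have hc' : (eW c : Ω') ∈ centralizerIn T U :=
        (imageAlong_centralizerIn h.inj h.range hU₀S himgU).le (imageAlong_mem (x := ⟨(c : Ω), hWS c.2⟩) hc)
      obtain ⟨hmU, hmC⟩ := hβc (eW c) hc'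
      rw [← hβι c, equivOf_apply, ← map_inv, ← map_mul] at hmU hmC
      refine ⟨hpre _ (S.mul_mem (S.inv_mem (hWS c.2)) (hWS (Subtype.coe_prop _))) hmU, fun u hu => ?_⟩
      have h3 := hmC _ (eU ⟨u, hu⟩).2
      rw [heU, equivOf_apply, ← map_mul, ← map_mul] at h3
      exact congrArg Subtype.val (h.inj h3)

theorem IsFusIso.simple_push [Finite S] {p : ℕ} [Fact p.Prime] {F : FusionSystem S} {E : FusionSystem T}
    (h : IsFusIso F E ι) (hF : F.IsSimple p) (hE : E.IsSaturated p) : E.IsSimple p := by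
  have hag := h.agrees
  refine ⟨hE, fun hT => hF.2.1 ?_, fun U D hD => ?_⟩
  · rw [Subgroup.eq_bot_iff_forall]
    intro x hx
    have h1 : ι ⟨x, hx⟩ ∈ T := h.range ▸ ⟨_, rfl⟩
    rw [hT, Subgroup.mem_bot, ← map_one ι] at h1
    exact congrArg Subtype.val (h.inj h1)
  have hN : (pullSystem h.inj D).IsNormalIn F p := h.normal_pull hF.1 hD
  obtain ⟨⟨-, -, hsub, hUc, -, -⟩, -⟩ := hD
  have hUT := hUc.1
  set U₀ := preimageAlong ι U with hU₀
  have himgU : imageAlong ι U₀ = U := IsFusIso.imageAlong_preimage h.range hUT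
  have hpag := pullSystem_agrees h.inj D
  rcases hF.2.2 _ _ hN with hbot | ⟨htop, hhom⟩
  · left
    rw [← himgU, show U₀ = ⊥ from hbot, imageAlong, Subgroup.bot_subgroupOf, Subgroup.map_bot]
  · refine Or.inr ⟨?_, fun P' => Set.Subset.antisymm (hsub P') fun φ' hφ' => ?_⟩
    · rw [← himgU, show U₀ = S from htop, imageAlong, Subgroup.subgroupOf_self, ← MonoidHom.range_eq_map, h.range]
    · have hP' := hom_le E hφ'
      have hPe := IsFusIso.imageAlong_preimage h.range hP'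
      obtain ⟨φ, hφ, hφS, he⟩ := h.exists_pull (Subgroup.map_subtype_le _) (P := (P'.comap ι).map S.subtype)
        (restrict_mem E hφ' hPe.le)
      rw [← hhom] at hφ
      exact hpag.fwd _ (Subgroup.map_subtype_le _) φ hφS hφ P' φ' hPe.ge
        fun x hx => he x (imageAlong_mem x.2)

end Cfsg.Agent.FusionSys
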