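import Cfsg.Agent.Lib.Fusion.Simple
import Cfsg.Agent.Lib.Fusion.SimpleTransport

/-!
# Simplicity: local subgroups need not be fully normalized; transport along a group isomorphism

An invariant subsystem over `S` contains every automorphism of `p`-power order of every subgroup of `S`
(`pPower_mem_autGroup_any`), so `conj_mem_of_centric` needs only a centric `R`.
-/

set_option autoImplicit false

namespace Cfsg.Agent.FusionSys

open Cfsg Cfsg.FusionSystem

variable {Ω : Type*} [Group Ω] {S : Subgroup Ω} [Finite S] {p : ℕ} [hp : Fact p.Prime]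

omit hp in
/-- In an invariant subsystem over `S`, automorphism groups are carried by the isomorphisms of the big system. -/
theorem congr_mem_of_invariant {F E : FusionSystem S} (hE : E.IsInvariantIn F) {R R' : Subgroup Ω} (hR : R ≤ S)
    (hR' : R' ≤ S) (e : R ≃* R') (he₀ : R'.subtype.comp e.toMonoidHom ∈ F.Hom R) {b : MulAut R}
    (hb : b ∈ E.autGroup R) : MulAut.congr e b ∈ E.autGroup R' := by
  obtain ⟨hsub, -, hinv, hfr⟩ := hE
  have := finite_of_le hR
  obtain ⟨α, hα, φ₀, hφ₀, he⟩ := hfr R hR _ he₀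
  set f := mapEquiv E hφ₀ rfl
  have hb' : MulAut.congr f b ∈ E.autGroup φ₀.range :=
    congr_mem_autGroup E f (hom_congr E hφ₀ fun _ => rfl) (mapEquiv_symm_mem E hφ₀ rfl) hb
  obtain ⟨χ, hχ, hχe⟩ := hinv φ₀.range (range_le E hφ₀) _
    ((mem_autGroup_iff E (range_le E hφ₀) _).1 hb') α hα
  have himg : ∀ x : R, ((α ⟨φ₀ x, hom_apply_mem E hφ₀ x⟩ : S) : Ω) = e x := fun x => (he x _).symm
  have hle : R' ≤ (φ₀.range.subgroupOf S).map (S.subtype.comp α.toMonoidHom) := fun r hr =>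
    ⟨⟨φ₀ (e.symm ⟨r, hr⟩), hom_apply_mem E hφ₀ _⟩, ⟨_, rfl⟩, by
      show ((α _ : S) : Ω) = r
      rw [himg, e.apply_symm_apply]⟩
  refine (mem_autGroup_iff E hR' _).2 (hom_congr E (restrict_mem E hχ hle) fun r => ?_)
  obtain ⟨x, rfl⟩ := e.surjective r
  have h1 := hχe ⟨φ₀ x, ⟨x, rfl⟩⟩ (hom_apply_mem E hφ₀ (b x) |> fun h => by
    show ((MulAut.congr f b ⟨φ₀ x, ⟨x, rfl⟩⟩ : φ₀.range) : Ω) ∈ S
    exact range_le E hφ₀ (Subtype.coe_prop _)) (by
      show ((α _ : S) : Ω) ∈ _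
      rw [himg]
      exact hle (e x).2)
  have he' : MulAut.congr f b ⟨φ₀ x, ⟨x, rfl⟩⟩ = f (b x) := by
    rw [congr_apply, show (⟨φ₀ x, ⟨x, rfl⟩⟩ : φ₀.range) = f x from rfl, f.symm_apply_apply]
  show ((e (b (e.symm (e x))) : R') : Ω) = χ _
  rw [e.symm_apply_apply, ← himg (b x)]
  refine Eq.trans ?_ (h1.symm.trans (apply_congr χ (himg x) _ _))
  refine congrArg (fun y : S => ((α y : S) : Ω)) (Subtype.ext ?_)
  show φ₀ (b x) = ((MulAut.congr f b ⟨φ₀ x, ⟨x, rfl⟩⟩ : φ₀.range) : Ω)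
  rw [he']
  rfl

/-- An invariant subsystem over `S` contains the automorphisms of `p`-power order of every subgroup of `S`. -/
theorem pPower_mem_autGroup_any {F E : FusionSystem S} (hF : F.IsSaturated p) (hE : E.IsInvariantIn F)
    {R : Subgroup Ω} (hR : R ≤ S) {a : MulAut R} (ha : a ∈ F.autGroup R) (ho : ∃ k : ℕ, orderOf a = p ^ k) :
    a ∈ E.autGroup R := by
  obtain ⟨R', ⟨φ, hφ, hr⟩, haut, -⟩ := hF R hR
  set e := mapEquiv F hφ hr
  have he : R'.subtype.comp e.toMonoidHom ∈ F.Hom R := hom_congr F hφ fun _ => rfl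
  have ha' := congr_mem_autGroup F e he (mapEquiv_symm_mem F hφ hr) ha
  have h1 := pPower_mem_autGroup hE haut ha' (by rwa [MulEquiv.orderOf_eq])
  have h2 := congr_mem_of_invariant hE haut.1 hR e.symm (mapEquiv_symm_mem F hφ hr) h1
  rwa [show MulAut.congr e.symm (MulAut.congr e a) = a from
    MulEquiv.ext fun x => by simp [congr_apply]] at h2

section group

variable {G : Type*} [Group G] [Finite G] (S : Sylow p G)

/-- A subgroup of `S` containing its centralizer is centric. -/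
theorem group_isCentric_of_centralizer_le {R : Subgroup G} (hR : R ≤ S)
    (hc : Subgroup.centralizer (R : Set G) ≤ R) : (groupFusionSystem (S : Subgroup G)).IsCentric R := by
  refine ⟨hR, fun Q hQ => ?_⟩
  obtain ⟨-, -, g, rfl⟩ := (group_isConj_iff S).1 hQ
  rintro x ⟨-, hx⟩
  refine ⟨g⁻¹ * x * g, hc ?_, by simp [mul_assoc]⟩
  intro r hr
  have h1 : g * r * g⁻¹ * x = x * (g * r * g⁻¹) := Subgroup.mem_centralizer_iff.1 hx _ ⟨r, hr, rfl⟩
  calc r * (g⁻¹ * x * g) = g⁻¹ * (g * r * g⁻¹ * x) * g := by group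
    _ = g⁻¹ * x * g * r := by rw [h1]; group

/-- A weakly normal subsystem over `S` contains conjugation by every element of `N_G(S)` lying in the subgroup
generated by the elements of `p`-power order of `N_G(R)`, `R` centric. -/
theorem conj_mem_of_centric {E : FusionSystem (S : Subgroup G)}
    (hE : E.IsWeaklyNormalIn (groupFusionSystem (S : Subgroup G)) p) {R : Subgroup G}
    (hc : (groupFusionSystem (S : Subgroup G)).IsCentric R) {g : G}
    (hg : g ∈ Subgroup.closure {g : G | g ∈ Subgroup.normalizer (R : Set G) ∧ ∃ k : ℕ, orderOf g = p ^ k})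
    (hgS : g ∈ Subgroup.normalizer ((S : Subgroup G) : Set G)) :
    conjHom (S : Subgroup G) g ∈ E.Hom (S : Subgroup G) := by
  have hF := groupFusionSystem_saturated S
  have key : ∀ y ∈ Subgroup.closure {g : G | g ∈ Subgroup.normalizer (R : Set G) ∧ ∃ k : ℕ, orderOf g = p ^ k},
      ∃ a ∈ E.autGroup R, ∀ x : R, ((a x : R) : G) = y * (x : G) * y⁻¹ := by
    intro y hy
    induction hy using Subgroup.closure_induction with
    | mem y hy =>
      obtain ⟨hyN, k, hk⟩ := hy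
      refine ⟨R.normalizerMonoidHom ⟨y, hyN⟩, ?_, fun x => rfl⟩
      refine pPower_mem_autGroup_any hF hE.2.2 hc.1 ?_ ?_
      · rw [group_autGroup S hc.1, mem_autInducedBy_iff]
        exact ⟨y, Subgroup.mem_top y, fun _ => rfl⟩
      · have hd : orderOf (R.normalizerMonoidHom ⟨y, hyN⟩) ∣ p ^ k := by
          rw [← hk, ← Subgroup.orderOf_mk _ hyN]
          exact orderOf_map_dvd _ _
        obtain ⟨j, -, hj⟩ := (Nat.dvd_prime_pow hp.out).1 hd
        exact ⟨j, hj⟩
    | one => exact ⟨1, Subgroup.one_mem _, fun x => by simp⟩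
    | mul y z _ _ hy hz =>
      obtain ⟨a, ha, hae⟩ := hy
      obtain ⟨b, hb, hbe⟩ := hz
      exact ⟨a * b, Subgroup.mul_mem _ ha hb, fun x => by simp [hae, hbe, mul_assoc]⟩
    | inv y _ hy =>
      obtain ⟨a, ha, hae⟩ := hy
      refine ⟨a⁻¹, Subgroup.inv_mem _ ha, fun x => ?_⟩
      have := hae (a⁻¹ x)
      rw [show a (a⁻¹ x) = x from a.apply_symm_apply x] at this
      rw [this]; group
  obtain ⟨a, ha, hae⟩ := key g hg
  have hφ : conjHom (S : Subgroup G) g ∈ (groupFusionSystem (S : Subgroup G)).Hom (S : Subgroup G) :=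
    ⟨le_rfl, fun x => (Subgroup.mem_normalizer_iff.1 hgS x).1 x.2, g, fun _ => rfl⟩
  refine top_mem_of_restrict S.2 hF hE.1 hE.2.2.1 hφ hc.1 hc (fun x hx => ?_) ?_
  · show g * (x : G) * g⁻¹ ∈ R
    exact hae ⟨x, hx⟩ ▸ (a ⟨x, hx⟩).2
  · exact hom_congr E ((mem_autGroup_iff E hc.1 a).1 ha) fun x => (hae x).symm

/-- Simplicity is transported along a group isomorphism. -/
theorem group_isSimple_transport {H : Type*} [Group H] [Finite H] (f : G ≃* H) (T : Sylow p H)
    (hT : (S : Subgroup G).map f.toMonoidHom = T)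
    (hS : (groupFusionSystem (S : Subgroup G)).IsSimple p) :
    (groupFusionSystem (T : Subgroup H)).IsSimple p := by
  refine IsFusIso.simple_push (ι := f.toMonoidHom.comp (S : Subgroup G).subtype) ?_ hS
    (groupFusionSystem_saturated T)
  refine ⟨f.injective.comp (Subgroup.subtype_injective _), ?_, fun P hP φ hφ φ' he => ⟨?_, ?_⟩⟩
  · rw [MonoidHom.range_comp, Subgroup.range_subtype, hT]
  · rintro ⟨-, -, g, hg⟩
    refine ⟨?_, ?_, f g, ?_⟩
    · rintro _ ⟨x, -, rfl⟩
      exact hT.le ⟨x, x.2, rfl⟩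
    · rintro ⟨_, x, hx, rfl⟩
      rw [he ⟨x, hx⟩ ⟨x, hx, rfl⟩]
      exact hT.le ⟨_, hφ ⟨x, hx⟩, rfl⟩
    · rintro ⟨_, x, hx, rfl⟩
      rw [he ⟨x, hx⟩ ⟨x, hx, rfl⟩]
      show f (φ ⟨x, hx⟩) = f g * f x * (f g)⁻¹
      rw [hg, map_mul, map_mul, map_inv]
  · rintro ⟨-, -, g, hg⟩
    refine ⟨hP, hφ, f.symm g, fun x => f.injective ?_⟩
    have h1 := (he x (imageAlong_mem x.2)).symm.trans (hg ⟨_, imageAlong_mem (P := P) x.2⟩)
    rw [map_mul, map_mul, map_inv, f.apply_symm_apply]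
    exact h1

end group

end Cfsg.Agent.FusionSys
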