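import Cfsg.Agent.Lib.Fusion.AltLocal
import Cfsg.Agent.Lib.Fusion.SimpleAny
import Cfsg.Agent.Lib.Perm.SylowTwoNormalizer

/-!
# The fusion system of `A_n` is simple, `n ≥ 6`, `p² ≤ n`, `n % p ≤ 1`
-/

set_option autoImplicit false

namespace Cfsg.Agent.AltModel

open Equiv Cfsg Cfsg.FusionSystem Cfsg.Agent.FusionSys

variable {p q r b : ℕ} [hp : Fact p.Prime]

theorem localP_lift (hp2 : p ≠ 2) {α : Type*} [Fintype α] [DecidableEq α] (H : Subgroup (alternatingGroup α))
    {g : alternatingGroup α} (hg : (g : Perm α) ∈ localP p (H.map (alternatingGroup α).subtype)) :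
    g ∈ Subgroup.closure {x : alternatingGroup α | x ∈ Subgroup.normalizer (H : Set (alternatingGroup α)) ∧
      ∃ k : ℕ, orderOf x = p ^ k} := by
  have hle : localP p (H.map (alternatingGroup α).subtype) ≤ (Subgroup.closure {x : alternatingGroup α |
      x ∈ Subgroup.normalizer (H : Set (alternatingGroup α)) ∧ ∃ k : ℕ, orderOf x = p ^ k}).map
      (alternatingGroup α).subtype := by
    rw [localP, MonoidHom.map_closure]
    refine Subgroup.closure_mono ?_
    rintro x ⟨hx, k, hk⟩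
    have hxA : x ∈ alternatingGroup α :=
      Perm.mem_alternatingGroup.2 (sign_of_pow_odd ((hp.out.odd_of_ne_two hp2).pow) hk)
    refine ⟨⟨x, hxA⟩, ⟨mem_normalizer_of_conj fun y hy => ?_, ?_⟩, rfl⟩
    · obtain ⟨z, hz, hze⟩ := (Subgroup.mem_normalizer_iff.1 hx (y : Perm α)).1 ⟨y, hy, rfl⟩
      rwa [show z = ⟨x, hxA⟩ * y * (⟨x, hxA⟩ : alternatingGroup α)⁻¹ from Subtype.ext hze] at hz
    · obtain ⟨j, -, hj⟩ := (Nat.dvd_prime_pow hp.out).1 (orderOf_dvd_of_pow_eq_one
        (show (⟨x, hxA⟩ : alternatingGroup α) ^ p ^ k = 1 from Subtype.ext hk))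
      exact ⟨j, hj⟩
  obtain ⟨y, hy, hye⟩ := hle hg
  rwa [Subtype.ext hye] at hy

theorem centralizer_lift {α : Type*} [Fintype α] [DecidableEq α] {H' : Subgroup (Perm α)}
    (hH : H' ≤ alternatingGroup α) (hc : ∀ σ : Perm α, (∀ x ∈ H', σ * x = x * σ) → σ ∈ H') :
    Subgroup.centralizer ((H'.subgroupOf (alternatingGroup α) : Subgroup (alternatingGroup α)) :
      Set (alternatingGroup α)) ≤ H'.subgroupOf (alternatingGroup α) := by
  intro σ hσ
  refine hc σ fun x hx => ?_
  exact congrArg Subtype.val (Subgroup.mem_centralizer_iff.1 hσ ⟨x, hH hx⟩ hx).symm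

theorem model_isSimple (P : Sylow p (Perm (Fin q)))
    (hgen : (P : Subgroup (Perm (Fin q))) ≤ Subgroup.closure (small p (P : Subgroup (Perm (Fin q)))))
    (hq : 1 ≤ q) (hr : r < p) (hb : b ≤ 1) {n : ℕ} (hn : Fintype.card (Pt p q r b) = n) (h6 : 6 ≤ n)
    (SS : Sylow p (alternatingGroup (Pt p q r b)))
    (hSS : (SS : Subgroup (alternatingGroup (Pt p q r b))) =
      (SA r b (P : Subgroup (Perm (Fin q)))).subgroupOf (alternatingGroup (Pt p q r b))) :
    (groupFusionSystem (SS : Subgroup (alternatingGroup (Pt p q r b)))).IsSimple p := by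
  classical
  revert SS hSS
  set A := alternatingGroup (Pt p q r b) with hA
  intro SS hSS
  have hbp : b < p := lt_of_le_of_lt hb hp.out.one_lt
  have hSMp : IsPGroup p (SM (p := p) r b (P : Subgroup (Perm (Fin q)))) := (sylow P hr hbp).2
  obtain ⟨i₀⟩ : Nonempty (Fin q) := ⟨⟨0, hq⟩⟩
  have hS1 : (SS : Subgroup A) ≠ ⊥ := by
    intro h0
    have hw : (⟨_, chunk_even (r := r) (b := b) (Pi.single i₀ 1)⟩ : A) ∈ (SS : Subgroup A) := by
      rw [hSS]
      exact ⟨⟨0, _, 1, one_mem _, rfl⟩, chunk_even _⟩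
    rw [h0, Subgroup.mem_bot] at hw
    have := Equiv.ext_iff.1 (congrArg Subtype.val hw) (Sum.inl (Sum.inl (i₀, 0), 0))
    simp at this
  have hsc : ∀ T : Subgroup A, (groupFusionSystem (SS : Subgroup A)).StronglyClosed T → T = ⊥ ∨
      T = (SS : Subgroup A) := by
    intro T hT
    obtain ⟨hTS, hcl⟩ := (group_stronglyClosed_iff SS).1 hT
    rcases eq_or_ne T ⊥ with h | hne
    · exact Or.inl h
    refine Or.inr ?_
    have hle : T.map A.subtype ≤ SA r b (P : Subgroup (Perm (Fin q))) := by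
      rintro _ ⟨x, hx, rfl⟩
      have := hTS hx
      rwa [hSS] at this
    have h1 := closed_eq_top hq hbp (hn ▸ h6) hb _ hSMp hgen (T.map A.subtype) hle
      (by rwa [Ne, Subgroup.map_eq_bot_iff_of_injective _ A.subtype_injective])
      (by
        rintro g hg _ ⟨x, hx, rfl⟩ hgx
        refine ⟨⟨g, hg⟩ * x * (⟨g, hg⟩ : A)⁻¹, hcl _ x hx ?_, rfl⟩
        rw [hSS]
        exact hgx)
    rw [hSS, ← h1]
    exact (Subgroup.comap_map_eq_self_of_injective A.subtype_injective T).symm
  by_cases hp2 : p = 2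
  · subst hp2
    refine group_isSimple_of_generated SS hS1 hsc fun g hg => Subgroup.subset_closure ⟨hg, Or.inr (Or.inl ?_)⟩
    let e : Pt 2 q r b ≃ Fin n := Fintype.equivFinOfCardEq hn
    let f := e.altCongrHom
    have h1 := Cfsg.Agent.SylTwoNorm.normalizer_sylow_two_alternating h6
      (SS.mapSurjective (f := f.toMonoidHom) f.surjective)
    have h2 : f g ∈ Subgroup.normalizer
        ((SS.mapSurjective (f := f.toMonoidHom) f.surjective : Subgroup (alternatingGroup (Fin n))) :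
          Set (alternatingGroup (Fin n))) := by
      refine mem_normalizer_of_conj ?_
      rintro _ ⟨x, hx, rfl⟩
      exact ⟨g * x * g⁻¹, (Subgroup.mem_normalizer_iff.1 hg x).1 hx, by simp⟩
    rw [h1] at h2
    obtain ⟨x, hx, hxe⟩ := h2
    rwa [f.injective hxe] at hx
  refine isSimple_of_autGroup_le (groupFusionSystem_saturated SS) hS1 hsc fun E hE => ?_
  rw [group_autGroup SS le_rfl]
  intro a ha
  obtain ⟨g, -, hge⟩ := (mem_autInducedBy_iff a).1 ha
  have hgN := mem_normalizer_of_autInduced hge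
  have hSMA : SM r b (P : Subgroup (Perm (Fin q))) ≤ A := fun x hx => mem_alt_of_isPGroup hp2 hSMp hx
  have hSA : SA r b (P : Subgroup (Perm (Fin q))) = SM r b (P : Subgroup (Perm (Fin q))) := inf_eq_left.2 hSMA
  rw [hSA] at hSS
  have hgN' : (g : Perm (Pt p q r b)) ∈
      Subgroup.normalizer (SM (p := p) r b (P : Subgroup (Perm (Fin q))) : Set (Perm (Pt p q r b))) := by
    refine mem_normalizer_of_conj fun x hx => ?_
    have h1 := (Subgroup.mem_normalizer_iff.1 hgN ⟨x, hSMA hx⟩).1 (by rw [hSS]; exact hx)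
    rw [hSS] at h1
    exact h1
  obtain ⟨t, htN, htL, hL⟩ := normalizer_mem hp2 hb hq _ P.2 g.2 hgN'
  have htA : gt (r := r) (b := b) t ∈ A :=
    ((Subgroup.closure_le _).2 fun x hx => by
      obtain ⟨k, hk⟩ := hx.2
      exact Perm.mem_alternatingGroup.2 (sign_of_pow_odd ((hp.out.odd_of_ne_two hp2).pow) hk) :
      localP p (RB p q r b) ≤ A) htL
  set u : A := ⟨gt t, htA⟩ with hu
  have huN : u ∈ Subgroup.normalizer ((SS : Subgroup A) : Set A) := by
    refine mem_normalizer_of_conj fun x hx => ?_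
    rw [hSS] at hx ⊢
    exact (Subgroup.mem_normalizer_iff.1 htN (x : Perm (Pt p q r b))).1 hx
  have hEA : EB p q r b ≤ A := (EB_le _).trans hSMA
  have hRA : RB p q r b ≤ A := (RB_le _).trans hSMA
  have hu' : conjHom (SS : Subgroup A) u ∈ E.Hom (SS : Subgroup A) := by
    refine conj_mem_of_centric SS hE (R := (RB p q r b).subgroupOf A)
      (group_isCentric_of_centralizer_le SS (by rw [hSS]; exact Subgroup.comap_mono (RB_le _))
        (centralizer_lift hRA fun σ hσ => centralizer_RB hb hσ)) ?_ huN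
    refine localP_lift hp2 _ ?_
    rwa [Subgroup.map_subgroupOf_eq_of_le hRA]
  have hg' : conjHom (SS : Subgroup A) (g * u⁻¹) ∈ E.Hom (SS : Subgroup A) := by
    refine conj_mem_of_centric SS hE (R := (EB p q r b).subgroupOf A)
      (group_isCentric_of_centralizer_le SS (by rw [hSS]; exact Subgroup.comap_mono (EB_le _))
        (centralizer_lift hEA fun σ hσ => centralizer_EB hb hσ)) ?_
      (Subgroup.mul_mem _ hgN (Subgroup.inv_mem _ huN))
    refine localP_lift hp2 _ ?_
    rw [Subgroup.map_subgroupOf_eq_of_le hEA]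
    exact hL
  have hcomp := E.comp_mem hu' hg' fun x => (Subgroup.mem_normalizer_iff.1 huN x).1 x.2
  refine (mem_autGroup_iff E le_rfl a).2 (hom_congr E hcomp fun x => ?_)
  show ((a x : (SS : Subgroup A)) : A) = (g * u⁻¹) * (u * (x : A) * u⁻¹) * (g * u⁻¹)⁻¹
  rw [hge x]
  group

/-- The theorem. -/
theorem alternating_isSimple (n : ℕ) (hn : 6 ≤ n) (hnp : p ^ 2 ≤ n) (hb : n % p ≤ 1)
    (S : Sylow p (alternatingGroup (Fin n))) :
    (groupFusionSystem (S : Subgroup (alternatingGroup (Fin n)))).IsSimple p := by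
  classical
  obtain ⟨P, hP⟩ := sylow_gen (p := p) (n / p / p)
  have hq : 1 ≤ n / p / p := by
    rw [Nat.div_div_eq_div_mul, ← pow_two]
    exact (Nat.one_le_div_iff (pow_pos hp.out.pos 2)).2 hnp
  have hr : n / p % p < p := Nat.mod_lt _ hp.out.pos
  have hbp : n % p < p := Nat.mod_lt _ hp.out.pos
  have hcard : Fintype.card (Pt p (n / p / p) (n / p % p) (n % p)) = n := by
    rw [card_pt, Nat.div_add_mod (n / p) p, Nat.div_add_mod n p]
  have hsyl := (isSyl_sylow (sylow P hr hbp)).inf_normal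
    (C := alternatingGroup (Pt p (n / p / p) (n / p % p) (n % p))) le_top
    (by rw [Subgroup.normalizer_eq_top])
  obtain ⟨SS, hSS⟩ := hsyl.toSylow
  have hsimple := model_isSimple P hP hq hr hb hcard hn SS hSS
  let f := (Fintype.equivFinOfCardEq hcard).altCongrHom
  obtain ⟨g, hg⟩ := MulAction.exists_smul_eq (alternatingGroup (Fin n))
    (SS.mapSurjective (f := f.toMonoidHom) f.surjective) S
  refine group_isSimple_transport SS (f.trans (MulAut.conj g)) S ?_ hsimple
  rw [← hg, Sylow.coe_subgroup_smul]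
  ext y
  constructor
  · rintro ⟨x, hx, rfl⟩
    exact ⟨f x, ⟨x, hx, rfl⟩, rfl⟩
  · rintro ⟨_, ⟨x, hx, rfl⟩, rfl⟩
    exact ⟨x, hx, rfl⟩

end Cfsg.Agent.AltModel
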