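import Cfsg.Agent.Lib.Fusion.Alperin
import Cfsg.Agent.Lib.Fusion.Abelian

/-!
# The fusion system over a `p`-group given by a group of automorphisms containing the inner ones
-/

set_option autoImplicit false

namespace Cfsg.Agent.FusionSys

open Cfsg Cfsg.FusionSystem

variable {Ω : Type*} [Group Ω] {S : Subgroup Ω} {p : ℕ} [hp : Fact p.Prime]

/-- The maps are the restrictions of the elements of `A`. -/
def autSystem (A : Subgroup (MulAut S)) (hA : Inn S ≤ A) : FusionSystem S where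
  Hom P := {φ | P ≤ S ∧ ∃ a ∈ A, ∀ (x : P) (hx : (x : Ω) ∈ S), φ x = ((a ⟨x, hx⟩ : S) : Ω)}
  le_of_mem := fun {P} {φ} ⟨hP, a, _, he⟩ => ⟨hP, fun x => by rw [he x (hP x.2)]; exact (a _).2⟩
  injective_of_mem := fun {P} {φ} ⟨hP, a, _, he⟩ x y h => by
    rw [he x (hP x.2), he y (hP y.2)] at h
    exact Subtype.ext (congrArg (fun z : S => (z : Ω)) (a.injective (Subtype.ext h)))
  conj_mem := fun {P} {g} hP hg => ⟨hP, MulAut.conj (⟨g, hg⟩ : S), hA ⟨⟨g, hg⟩, rfl⟩, fun x hx => rfl⟩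
  comp_mem := fun {P} {Q} {φ} {ψ} ⟨hP, a, ha, he⟩ ⟨hQ, b, hb, he'⟩ h => ⟨hP, b * a, A.mul_mem hb ha, fun x hx => by
    rw [MonoidHom.comp_apply, he' _ (hQ (h x))]
    exact congrArg (fun z : S => ((b z : S) : Ω)) (Subtype.ext (he x hx))⟩
  inv_mem := fun {P} {φ} ⟨hP, a, ha, he⟩ => by
    have hR : φ.range ≤ S := by rintro _ ⟨x, rfl⟩; rw [he x (hP x.2)]; exact (a _).2
    refine ⟨S.subtype.comp ((a⁻¹ : MulAut S).toMonoidHom.comp (Subgroup.inclusion hR)),
      ⟨hR, a⁻¹, A.inv_mem ha, fun y hy => rfl⟩, fun x => ?_⟩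
    show ((a⁻¹ ⟨φ x, _⟩ : S) : Ω) = x
    rw [show (⟨φ x, hR ⟨x, rfl⟩⟩ : S) = a ⟨x, hP x.2⟩ from Subtype.ext (he x (hP x.2)), MulAut.inv_apply_self]

theorem autSystem_autGroup (A : Subgroup (MulAut S)) (hA : Inn S ≤ A) : (autSystem A hA).autGroup S = A := by
  ext α
  rw [mem_autGroup_iff _ le_rfl]
  constructor
  · rintro ⟨-, a, ha, he⟩
    rwa [show α = a from MulEquiv.ext fun x => Subtype.ext (he x x.2)]
  · exact fun hα => ⟨le_rfl, α, hα, fun x hx => rfl⟩

/-- Saturation when the inner automorphisms have index prime to `p`. -/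
theorem autSystem_saturated [Finite S] (hS : IsPGroup p S) (A : Subgroup (MulAut S)) (hA : Inn S ≤ A)
    (hidx : ((Inn S).relIndex A).Coprime p) : (autSystem A hA).IsSaturated p := by
  refine (isSaturated_iff_receptive hS _).2 ⟨⟨le_rfl, ?_⟩, fun Q hQ => ⟨hQ.1, fun P φ hφ hr => ?_⟩⟩
  · set B := (autInducedBy S S).subgroupOf ((autSystem A hA).autGroup S) with hB
    have hBp : IsPGroup p B := (autInducedBy_isPGroup hS).comap_of_injective _ (Subgroup.subtype_injective _)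
    have hBi : ¬ p ∣ B.index := by
      have h : B.index = (Inn S).relIndex A := by
        show (autInducedBy S S).relIndex ((autSystem A hA).autGroup S) = _
        rw [autSystem_autGroup, ← inn_eq_autInducedBy_self]
      rw [h]
      exact (Nat.Prime.coprime_iff_not_dvd hp.out).1 hidx.symm
    exact ⟨hBp.toSylow hBi, rfl⟩
  · obtain ⟨hP, a, ha, he⟩ := hφ
    have hext : extender S P φ ≤ S := (Subgroup.closure_le _).2 fun x hx => hx.1
    exact ⟨S.subtype.comp (a.toMonoidHom.comp (Subgroup.inclusion hext)), ⟨hext, a, ha, fun x hx => rfl⟩,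
      fun x hxP _ => (he ⟨x, hxP⟩ (hP hxP)).symm⟩

end Cfsg.Agent.FusionSys
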