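import Cfsg.Agent.Lib.Fusion.Marks
import Cfsg.Agent.Lib.Fusion.Saturated
import Cfsg.Agent.Lib.Fusion.Centric

/-!
# A stable biset for a saturated fusion system

For a saturated system over a finite `p`-group `S` there is a finite `S × S`-set whose stabilizers are twisted
diagonals of maps of the system, whose fixed-point counts depend only on the class of the source, and with
`n |S|` points, `n` prime to `p`.
-/

set_option autoImplicit false

namespace Cfsg.Agent.FusionSys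

open Cfsg Cfsg.FusionSystem MulAction

/-- A set acted on through a homomorphism. -/
def Via {N M : Type*} [Group N] [Group M] (_f : N →* M) (X : Type*) : Type _ := X

instance {N M X : Type*} [Group N] [Group M] [MulAction M X] (f : N →* M) : MulAction N (Via f X) :=
  MulAction.compHom X f

instance {N M X : Type*} [Group N] [Group M] [Finite X] (f : N →* M) : Finite (Via f X) := ‹Finite X›

theorem fixCount_via {N M X : Type*} [Group N] [Group M] [MulAction M X] (f : N →* M) (E : Subgroup N) :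
    fixCount (Via f X) E = fixCount X (E.map f) := by
  refine Nat.card_congr (Equiv.subtypeEquiv (Equiv.refl X) fun x => ?_)
  rw [Subgroup.map_le_iff_le_comap]
  rfl

variable {Ω : Type*} [Group Ω] {S : Subgroup Ω}

/-- The twisted diagonal of a map of the system. -/
def FDiag (F : FusionSystem S) (D : Subgroup (S × S)) : Prop :=
  ∃ (P : Subgroup Ω) (φ : P →* Ω), φ ∈ F.Hom P ∧
    ∀ z : S × S, z ∈ D ↔ ∃ h : (z.1 : Ω) ∈ P, φ ⟨z.1, h⟩ = z.2

/-- The source of a twisted diagonal. -/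
def diagDom (D : Subgroup (S × S)) : Subgroup Ω := D.map (S.subtype.comp (MonoidHom.fst S S))

variable {F : FusionSystem S}

theorem diagDom_eq {D : Subgroup (S × S)} {P : Subgroup Ω} {φ : P →* Ω} (hφ : φ ∈ F.Hom P)
    (hD : ∀ z : S × S, z ∈ D ↔ ∃ h : (z.1 : Ω) ∈ P, φ ⟨z.1, h⟩ = z.2) : diagDom D = P := by
  refine le_antisymm ?_ fun x hx => ?_
  · rintro _ ⟨z, hz, rfl⟩
    exact ((hD z).1 hz).1
  · exact ⟨(⟨x, hom_le F hφ hx⟩, ⟨φ ⟨x, hx⟩, hom_apply_mem F hφ _⟩), (hD _).2 ⟨hx, rfl⟩, rfl⟩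

theorem exists_fdiag {P : Subgroup Ω} {φ : P →* Ω} (hφ : φ ∈ F.Hom P) :
    ∃ D : Subgroup (S × S), FDiag F D ∧ diagDom D = P ∧
      ∀ z : S × S, z ∈ D ↔ ∃ h : (z.1 : Ω) ∈ P, φ ⟨z.1, h⟩ = z.2 := by
  let D : Subgroup (S × S) :=
    { carrier := {z | ∃ h : (z.1 : Ω) ∈ P, φ ⟨z.1, h⟩ = z.2}
      one_mem' := ⟨P.one_mem, map_one φ⟩
      mul_mem' := by
        rintro a b ⟨ha, ha'⟩ ⟨hb, hb'⟩
        exact ⟨P.mul_mem ha hb, (map_mul φ ⟨_, ha⟩ ⟨_, hb⟩).trans (congrArg₂ (· * ·) ha' hb')⟩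
      inv_mem' := by
        rintro a ⟨ha, ha'⟩
        exact ⟨P.inv_mem ha, (map_inv φ ⟨_, ha⟩).trans (congrArg (·⁻¹) ha')⟩ }
  have hD : ∀ z : S × S, z ∈ D ↔ ∃ h : (z.1 : Ω) ∈ P, φ ⟨z.1, h⟩ = z.2 := fun _ => Iff.rfl
  exact ⟨D, ⟨P, φ, hφ, hD⟩, diagDom_eq hφ hD, hD⟩

theorem fdiag_le {D : Subgroup (S × S)} (_hD : FDiag F D) : diagDom D ≤ S := by
  rintro _ ⟨z, -, rfl⟩
  exact z.1.2

theorem fdiag_card {D : Subgroup (S × S)} (hD : FDiag F D) : Nat.card D = Nat.card (diagDom D) := by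
  obtain ⟨P, φ, hφ, h⟩ := hD
  rw [diagDom_eq hφ h]
  refine Nat.card_congr (Equiv.ofBijective (fun z => ⟨(z.1.1 : Ω), ((h z.1).1 z.2).1⟩)
    ⟨fun a b hab => ?_, fun x => ?_⟩)
  · have e : (a.1.1 : Ω) = b.1.1 := congrArg (fun y : P => (y : Ω)) hab
    obtain ⟨ha, ha'⟩ := (h a.1).1 a.2
    obtain ⟨hb, hb'⟩ := (h b.1).1 b.2
    exact Subtype.ext (Prod.ext (Subtype.ext e)
      (Subtype.ext (ha'.symm.trans ((apply_congr φ e ha hb).trans hb'))))
  · exact ⟨⟨(⟨x, hom_le F hφ x.2⟩, ⟨φ x, hom_apply_mem F hφ _⟩), (h _).2 ⟨x.2, rfl⟩⟩, rfl⟩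

theorem fdiag_mono {D E : Subgroup (S × S)} (hD : FDiag F D) (hED : E ≤ D) : FDiag F E := by
  obtain ⟨P, φ, hφ, h⟩ := hD
  have hle : diagDom E ≤ P := diagDom_eq hφ h ▸ Subgroup.map_mono hED
  refine ⟨diagDom E, _, restrict_mem F hφ hle, fun z => ⟨fun hz => ?_, ?_⟩⟩
  · exact ⟨⟨z, hz, rfl⟩, ((h z).1 (hED hz)).2⟩
  · rintro ⟨⟨w, hw, hwe⟩, he⟩
    obtain ⟨hw1, hw2⟩ := (h w).1 (hED hw)
    have e : (w.1 : Ω) = z.1 := hwe
    have : w = z := Prod.ext (Subtype.ext e)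
      (Subtype.ext (hw2.symm.trans ((apply_congr φ e hw1 (hle ⟨w, hw, hwe⟩)).trans he)))
    exact this ▸ hw

theorem fdiag_right_free {D : Subgroup (S × S)} (hD : FDiag F D) {s : S} (h : ((1, s) : S × S) ∈ D) : s = 1 := by
  obtain ⟨P, φ, hφ, hz⟩ := hD
  obtain ⟨h1, h2⟩ := (hz _).1 h
  exact Subtype.ext (h2.symm.trans (map_one φ))

/-- Twisted diagonals go to twisted diagonals under pairs of maps of the system. -/
theorem fdiag_transform {A₁ A₂ : Subgroup Ω} {χ₁ : A₁ →* Ω} {χ₂ : A₂ →* Ω} (h₁ : χ₁ ∈ F.Hom A₁)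
    (h₂ : χ₂ ∈ F.Hom A₂) {E E' : Subgroup (S × S)} (hA : ∀ z ∈ E, (z.1 : Ω) ∈ A₁ ∧ (z.2 : Ω) ∈ A₂)
    (hE' : ∀ z' : S × S, z' ∈ E' ↔ ∃ z ∈ E, ∃ (a : (z.1 : Ω) ∈ A₁) (b : (z.2 : Ω) ∈ A₂),
      χ₁ ⟨z.1, a⟩ = z'.1 ∧ χ₂ ⟨z.2, b⟩ = z'.2)
    (hE : FDiag F E) : FDiag F E' ∧ F.IsConj (diagDom E) (diagDom E') := by
  obtain ⟨P, φ, hφ, h⟩ := hE
  rw [diagDom_eq hφ h]
  have hPA : P ≤ A₁ := fun x hx =>
    (hA (⟨x, hom_le F hφ hx⟩, ⟨φ ⟨x, hx⟩, hom_apply_mem F hφ _⟩) ((h _).2 ⟨hx, rfl⟩)).1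
  have hφA : ∀ x : P, φ x ∈ A₂ := fun x =>
    (hA (⟨x, hom_le F hφ x.2⟩, ⟨φ x, hom_apply_mem F hφ _⟩) ((h _).2 ⟨x.2, rfl⟩)).2
  have hr : χ₁.comp (Subgroup.inclusion hPA) ∈ F.Hom P := restrict_mem F h₁ hPA
  obtain ⟨σ, hσ, hσr, hσ1, -⟩ := exists_inv F hr
  obtain ⟨χ, hχ, hχe⟩ := comp_hom_mem F hφ h₂ hφA
  obtain ⟨φ', hφ', hφe⟩ := comp_hom_mem F hσ hχ fun y => hσr.le ⟨y, rfl⟩
  have hval : ∀ (x : P) (hx' : χ₁ (Subgroup.inclusion hPA x) ∈ (χ₁.comp (Subgroup.inclusion hPA)).range),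
      φ' ⟨_, hx'⟩ = χ₂ ⟨φ x, hφA x⟩ := by
    intro x hx'
    rw [hφe, hχe]
    have e : σ ⟨_, hx'⟩ = (x : Ω) := hσ1 x hx'
    exact congrArg χ₂ (Subtype.ext (congrArg φ (Subtype.ext e)))
  have key : ∀ z' : S × S, z' ∈ E' ↔
      ∃ h : (z'.1 : Ω) ∈ (χ₁.comp (Subgroup.inclusion hPA)).range, φ' ⟨z'.1, h⟩ = z'.2 := by
    intro z'
    rw [hE']
    constructor
    · rintro ⟨z, hz, a, b, e1, e2⟩
      obtain ⟨hzP, hze⟩ := (h z).1 hz
      have hm : (z'.1 : Ω) ∈ (χ₁.comp (Subgroup.inclusion hPA)).range := ⟨⟨z.1, hzP⟩, e1⟩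
      refine ⟨hm, ?_⟩
      rw [← e2]
      refine (apply_congr φ' e1.symm hm ⟨⟨z.1, hzP⟩, rfl⟩).trans ((hval ⟨z.1, hzP⟩ _).trans ?_)
      exact congrArg χ₂ (Subtype.ext hze)
    · rintro ⟨⟨x, hx⟩, he⟩
      refine ⟨(⟨x, hom_le F hφ x.2⟩, ⟨φ x, hom_apply_mem F hφ _⟩), (h _).2 ⟨x.2, rfl⟩, hPA x.2, hφA x, hx, ?_⟩
      rw [← he]
      refine Eq.symm ((apply_congr φ' hx.symm _ ⟨x, rfl⟩).trans (hval x _))
  exact ⟨⟨_, φ', hφ', key⟩, diagDom_eq hφ' key ▸ ⟨_, hr, rfl⟩⟩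

theorem fdiag_transform_iff {A₁ A₂ : Subgroup Ω} {χ₁ : A₁ →* Ω} {χ₂ : A₂ →* Ω} (h₁ : χ₁ ∈ F.Hom A₁)
    (h₂ : χ₂ ∈ F.Hom A₂) {E E' : Subgroup (S × S)} (hA : ∀ z ∈ E, (z.1 : Ω) ∈ A₁ ∧ (z.2 : Ω) ∈ A₂)
    (hE' : ∀ z' : S × S, z' ∈ E' ↔ ∃ z ∈ E, ∃ (a : (z.1 : Ω) ∈ A₁) (b : (z.2 : Ω) ∈ A₂),
      χ₁ ⟨z.1, a⟩ = z'.1 ∧ χ₂ ⟨z.2, b⟩ = z'.2) : FDiag F E ↔ FDiag F E' := by
  refine ⟨fun h => (fdiag_transform h₁ h₂ hA hE' h).1, fun h => ?_⟩
  obtain ⟨σ₁, hσ₁, -, s1, -⟩ := exists_inv F h₁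
  obtain ⟨σ₂, hσ₂, -, s2, -⟩ := exists_inv F h₂
  refine (fdiag_transform hσ₁ hσ₂ ?_ (fun z => ⟨fun hz => ?_, ?_⟩) h).1
  · intro z' hz'
    obtain ⟨z, -, a, b, e1, e2⟩ := (hE' z').1 hz'
    exact ⟨⟨_, e1⟩, ⟨_, e2⟩⟩
  · obtain ⟨a, b⟩ := hA z hz
    refine ⟨(⟨χ₁ ⟨z.1, a⟩, hom_apply_mem F h₁ _⟩, ⟨χ₂ ⟨z.2, b⟩, hom_apply_mem F h₂ _⟩),
      (hE' _).2 ⟨z, hz, a, b, rfl, rfl⟩, ⟨_, rfl⟩, ⟨_, rfl⟩, s1 _ _, s2 _ _⟩
  · rintro ⟨z', hz', a', b', e1, e2⟩
    obtain ⟨w, hw, a, b, f1, f2⟩ := (hE' z').1 hz'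
    have g1 : (z.1 : Ω) = w.1 := by
      rw [← e1]
      exact (apply_congr σ₁ f1.symm a' ⟨_, rfl⟩).trans (s1 _ _)
    have g2 : (z.2 : Ω) = w.2 := by
      rw [← e2]
      exact (apply_congr σ₂ f2.symm b' ⟨_, rfl⟩).trans (s2 _ _)
    rwa [show z = w from Prod.ext (Subtype.ext g1) (Subtype.ext g2)]

theorem fdiag_conj {D : Subgroup (S × S)} (hD : FDiag F D) (g : S × S) :
    FDiag F (D.map (MulAut.conj g).toMonoidHom) ∧
      F.IsConj (diagDom D) (diagDom (D.map (MulAut.conj g).toMonoidHom)) := by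
  refine fdiag_transform (F.conj_mem le_rfl g.1.2) (F.conj_mem le_rfl g.2.2)
    (fun z _ => ⟨z.1.2, z.2.2⟩) (fun z' => ⟨?_, ?_⟩) hD
  · rintro ⟨z, hz, rfl⟩
    exact ⟨z, hz, z.1.2, z.2.2, rfl, rfl⟩
  · rintro ⟨z, hz, _, _, e1, e2⟩
    exact ⟨z, hz, Prod.ext (Subtype.ext e1) (Subtype.ext e2)⟩

/-- The least value to which the counts on a class can be raised. -/
def Admissible (F : FusionSystem S) (f W : Subgroup (S × S) → ℕ)
    (rep : Subgroup (S × S) → Prop) (P : Subgroup Ω) (v : ℕ) : Prop :=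
  ∀ D, rep D → FDiag F D → F.IsConj (diagDom D) P → f D ≤ v ∧ f D ≡ v [MOD W D]

variable (S) in
/-- Conjugacy of subgroups of `S × S`. -/
def conjSetoid : Setoid (Subgroup (S × S)) where
  r D E := ∃ g : S × S, D.map (MulAut.conj g).toMonoidHom = E
  iseqv := by
    refine ⟨fun D => ⟨1, ?_⟩, ?_, ?_⟩
    · rw [map_one]; exact Subgroup.map_id D
    · rintro D _ ⟨g, rfl⟩
      refine ⟨g⁻¹, ?_⟩
      rw [Subgroup.map_map]
      convert Subgroup.map_id D using 2
      ext x <;> simp [mul_assoc]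
    · rintro D _ _ ⟨g, rfl⟩ ⟨k, rfl⟩
      refine ⟨k * g, ?_⟩
      rw [Subgroup.map_map]
      congr 1
      ext x <;> simp [mul_assoc]

variable (S) in
/-- Classes of subgroups of `S × S`. -/
abbrev Cls : Type _ := Quotient (conjSetoid S)

theorem out_conj (D : Subgroup (S × S)) :
    ∃ g : S × S, (Quotient.mk (conjSetoid S) D).out.map (MulAut.conj g).toMonoidHom = D :=
  Quotient.mk_out (s := conjSetoid S) D

theorem fdiag_out_iff (D : Subgroup (S × S)) :
    (FDiag F (Quotient.mk (conjSetoid S) D).out ↔ FDiag F D) ∧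
      (FDiag F D → F.IsConj (diagDom D) (diagDom (Quotient.mk (conjSetoid S) D).out)) := by
  obtain ⟨g, hg⟩ := out_conj D
  obtain ⟨g', hg'⟩ := (conjSetoid S).iseqv.symm ⟨g, hg⟩
  refine ⟨⟨fun h => hg ▸ (fdiag_conj h g).1, fun h => hg' ▸ (fdiag_conj h g').1⟩, fun h => ?_⟩
  have := (fdiag_conj h g').2
  rwa [hg'] at this

theorem card_out (D : Subgroup (S × S)) :
    Nat.card (Quotient.mk (conjSetoid S) D).out = Nat.card D := by
  obtain ⟨g, hg⟩ := out_conj D
  conv_rhs => rw [← hg]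
  exact (Subgroup.card_map_of_injective (MulAut.conj g).injective).symm

theorem fixCount_out {X : Type*} [MulAction (S × S) X] (D : Subgroup (S × S)) :
    fixCount X (Quotient.mk (conjSetoid S) D).out = fixCount X D := by
  obtain ⟨g, hg⟩ := out_conj D
  conv_rhs => rw [← hg]
  exact (fixCount_conj _ g).symm

/-- The orbit set with prescribed multiplicities. -/
abbrev Orbits (m : Cls S → ℕ) : Type _ := Σ a : Σ q : Cls S, Fin (m q), (S × S) ⧸ a.1.out

variable [Finite S]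

theorem fixCount_orbits [Fintype (Cls S)] (m : Cls S → ℕ) (E : Subgroup (S × S)) :
    fixCount (Orbits m) E = ∑ q : Cls S, m q * fixCount ((S × S) ⧸ q.out) E := by
  have e : {y : Orbits m // E ≤ stabilizer (S × S) y} ≃
      Σ a : Σ q : Cls S, Fin (m q), {x : (S × S) ⧸ a.1.out // E ≤ stabilizer (S × S) x} :=
    { toFun := fun y => ⟨y.1.1, ⟨y.1.2, fun g hg => mem_stabilizer_iff.2 (eq_of_heq
        (Sigma.mk.injEq .. ▸ (mem_stabilizer_iff.1 (y.2 hg) : g • y.1 = y.1)).2)⟩⟩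
      invFun := fun w => ⟨⟨w.1, w.2.1⟩, fun g hg =>
        mem_stabilizer_iff.2 (congrArg (Sigma.mk w.1) (mem_stabilizer_iff.1 (w.2.2 hg)))⟩
      left_inv := fun _ => rfl
      right_inv := fun _ => rfl }
  unfold fixCount
  rw [Nat.card_congr e, Nat.card_sigma, Fintype.sum_sigma]
  refine Finset.sum_congr rfl fun q _ => ?_
  show ∑ _y : Fin (m q), Nat.card {x : (S × S) ⧸ q.out // E ≤ stabilizer (S × S) x} = _
  have h : ∀ c : ℕ, ∑ _y : Fin (m q), c = m q * c := by simp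
  exact h _

theorem conj_le_of_fixCount_ne {D E : Subgroup (S × S)} (h : fixCount ((S × S) ⧸ D) E ≠ 0) :
    ∃ g : S × S, E.map (MulAut.conj g).toMonoidHom ≤ D := by
  obtain ⟨⟨x, hx⟩⟩ := (Nat.card_ne_zero.1 h).1
  obtain ⟨g, rfl⟩ := QuotientGroup.mk_surjective x
  refine ⟨g⁻¹, ?_⟩
  rintro _ ⟨e, he, rfl⟩
  have h1 := mem_stabilizer_iff.1 (hx he)
  rw [MulAction.Quotient.smul_mk, QuotientGroup.eq] at h1
  simpa [mul_assoc] using D.inv_mem h1

theorem fixCount_self (D : Subgroup (S × S)) :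
    fixCount ((S × S) ⧸ D) D = (D.subgroupOf (Subgroup.normalizer (D : Set (S × S)))).index := by
  refine (Nat.card_congr ((Equiv.subtypeEquivRight fun x => ?_).trans
    (Sylow.fixedPointsMulLeftCosetsEquivQuotient D))).trans rfl
  exact ⟨fun h g => h g.2, fun h g hg => h ⟨g, hg⟩⟩

theorem eq_out_of_fixCount_ne {q : Cls S} {E : Subgroup (S × S)} (h : fixCount ((S × S) ⧸ q.out) E ≠ 0)
    (hc : Nat.card q.out ≤ Nat.card E) : Quotient.mk (conjSetoid S) E = q := by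
  obtain ⟨g, hg⟩ := conj_le_of_fixCount_ne h
  have he : E.map (MulAut.conj g).toMonoidHom = q.out :=
    Subgroup.eq_of_le_of_card_ge hg (by rwa [Subgroup.card_map_of_injective (MulAut.conj g).injective])
  rw [← q.out_eq]
  exact Quotient.sound ⟨g, he⟩

variable {p : ℕ} [hp : Fact p.Prime]

theorem isPGroup_pair (hS : IsPGroup p S) : IsPGroup p (S × S) := by
  intro z
  obtain ⟨a, ha⟩ := hS z.1
  obtain ⟨b, hb⟩ := hS z.2
  refine ⟨a + b, Prod.ext ?_ ?_⟩
  · rw [Prod.pow_fst, pow_add, pow_mul, ha, one_pow]; rfl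
  · rw [Prod.pow_snd, pow_add, mul_comm, pow_mul, hb, one_pow]; rfl

/-- The normalizer of a twisted diagonal maps into that of the diagonal of a fully normalized conjugate. -/
theorem exists_normalizer_hom (hS : IsPGroup p S) (hF : F.IsSaturated p) {Q : Subgroup Ω}
    (hQ : F.IsFullyNormalized Q) {D Δ : Subgroup (S × S)} (hD : FDiag F D) (hDQ : F.IsConj (diagDom D) Q)
    (hΔ : ∀ z : S × S, z ∈ Δ ↔ (z.1 : Ω) ∈ Q ∧ (z.1 : Ω) = z.2) :
    ∃ ψ : ↥(Subgroup.normalizer (D : Set (S × S))) →* S × S, Function.Injective ψ ∧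
      (D.subgroupOf (Subgroup.normalizer (D : Set (S × S)))).map ψ = Δ ∧
      ∀ E : Subgroup ↥(Subgroup.normalizer (D : Set (S × S))),
        (FDiag F (E.map (Subgroup.normalizer (D : Set (S × S))).subtype) ↔ FDiag F (E.map ψ)) ∧
        (FDiag F (E.map (Subgroup.normalizer (D : Set (S × S))).subtype) → F.IsConj
          (diagDom (E.map (Subgroup.normalizer (D : Set (S × S))).subtype)) (diagDom (E.map ψ))) := by
  obtain ⟨P, φ, hφ, h⟩ := hD
  rw [diagDom_eq hφ h] at hDQ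
  have hPS := hom_le F hφ
  have hRS : φ.range ≤ S := range_le F hφ
  obtain ⟨a, ha, haN, haP⟩ := exists_normalizer_map_fullyNormalized hS hF hQ hDQ
  obtain ⟨b, hb, hbN, hbR⟩ := exists_normalizer_map_fullyNormalized hS hF hQ
    (isConj_trans (isConj_symm ⟨φ, hφ, rfl⟩) hDQ)
  have ea := extend_restrict_range (le_normalizerIn hPS) haP
  have eb := extend_restrict_range (le_normalizerIn hRS) hbR
  set a' := mapEquiv F (restrict_mem F ha (le_normalizerIn hPS)) ea
  set b' := mapEquiv F (restrict_mem F hb (le_normalizerIn hRS)) eb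
  set f := mapEquiv F hφ (rfl : φ.range = φ.range)
  set β : MulAut Q := a'.symm.trans (f.trans b') with hβdef
  have hβ : β ∈ F.autGroup Q := (equivHom_autGroup F hQ.1).2 (equivHom_trans F
    (equivHom_mapEquiv_symm F _ ea) (equivHom_trans F (equivHom_mapEquiv F hφ rfl) (equivHom_mapEquiv F _ eb)))
  have hβa : ∀ x : P, β (a' x) = b' (f x) := fun x => by
    show b' (f (a'.symm (a' x))) = _
    rw [a'.symm_apply_apply]
  obtain ⟨φβ, hφβ, hrβ, heβ⟩ := autGroup_apply_mem_hom F hQ.1 hβ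
  obtain ⟨γ, hγ, hγe⟩ := (fullyNormalized_receptive hS hF hQ).2 Q φβ hφβ hrβ
  set N := Subgroup.normalizer (D : Set (S × S))
  have hN1 : ∀ z ∈ N, ∀ x : P, ∃ h1 : (z.1 : Ω) * x * (z.1 : Ω)⁻¹ ∈ P,
      φ ⟨_, h1⟩ = (z.2 : Ω) * φ x * (z.2 : Ω)⁻¹ := by
    intro z hz x
    have hx : ((⟨x, hPS x.2⟩, ⟨φ x, hom_apply_mem F hφ _⟩) : S × S) ∈ D := (h _).2 ⟨x.2, rfl⟩
    exact (h _).1 ((Subgroup.mem_normalizer_iff.1 hz _).1 hx)
  haveI : Finite P := finite_of_le (S := S) hPS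
  haveI : Finite Q := finite_of_le (S := S) hQ.1
  haveI : Finite φ.range := finite_of_le (S := S) hRS
  have hz1 : ∀ z ∈ N, (z.1 : Ω) ∈ normalizerIn S P := fun z hz =>
    ⟨z.1.2, mem_normalizer_of_conj_mem_finite fun x hx => (hN1 z hz ⟨x, hx⟩).1⟩
  have hz2 : ∀ z ∈ N, (z.2 : Ω) ∈ normalizerIn S φ.range := fun z hz => by
    refine ⟨z.2.2, mem_normalizer_of_conj_mem_finite ?_⟩
    rintro _ ⟨x, rfl⟩
    obtain ⟨h1, h2⟩ := hN1 z hz x
    exact ⟨_, h2⟩
  have hext : ∀ (z : S × S) (hz : z ∈ N), a ⟨z.1, hz1 z hz⟩ ∈ extender S Q φβ := by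
    intro z hz
    refine Subgroup.subset_closure ⟨(haN _).1, (haN _).2, b ⟨z.2, hz2 z hz⟩, (hbN _).1, fun q hq => ?_⟩
    obtain ⟨x, rfl⟩ := a'.surjective q
    obtain ⟨h1, h2⟩ := hN1 z hz x
    have e : (⟨_, hq⟩ : Q) = a' ⟨_, h1⟩ := by
      refine Subtype.ext ?_
      show a ⟨z.1, hz1 z hz⟩ * (a' x : Ω) * (a ⟨z.1, hz1 z hz⟩)⁻¹ = a ⟨_, le_normalizerIn hPS h1⟩
      rw [map_apply_conj a (hz1 z hz) (le_normalizerIn hPS x.2)]
      rfl
    rw [e, heβ, hβa, heβ, hβa]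
    show b ⟨φ ⟨_, h1⟩, le_normalizerIn hRS ⟨_, rfl⟩⟩ = b ⟨z.2, hz2 z hz⟩ * b ⟨φ x, le_normalizerIn hRS ⟨_, rfl⟩⟩ *
      (b ⟨z.2, hz2 z hz⟩)⁻¹
    rw [← map_apply_conj b (hz2 z hz) (le_normalizerIn hRS ⟨x, rfl⟩) (h2 ▸ le_normalizerIn hRS ⟨_, rfl⟩)]
    exact apply_congr b h2 _ _
  set A₁ : Subgroup Ω := N.map (S.subtype.comp (MonoidHom.fst S S)) with hA₁
  have hA1 : A₁ ≤ normalizerIn S P := by
    rintro _ ⟨z, hz, rfl⟩
    exact hz1 z hz
  obtain ⟨χ, hχ, hχe⟩ := comp_hom_mem F (restrict_mem F ha hA1) hγ (by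
    rintro ⟨_, z, hz, rfl⟩
    exact hext z hz)
  let p1 : ↥N →* A₁ := (S.subtype.comp ((MonoidHom.fst S S).comp N.subtype)).codRestrict A₁
    fun z => ⟨z, z.2, rfl⟩
  let p2 : ↥N →* ↥(normalizerIn S φ.range) :=
    (S.subtype.comp ((MonoidHom.snd S S).comp N.subtype)).codRestrict _ fun z => hz2 z z.2
  let ψ : ↥N →* S × S := ((χ.comp p1).codRestrict S fun z => hom_apply_mem F hχ _).prod
    ((b.comp p2).codRestrict S fun z => hom_apply_mem F hb _)
  have hspec : ∀ (E : Subgroup ↥N) (z' : S × S), z' ∈ E.map ψ ↔ ∃ z ∈ E.map N.subtype,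
      ∃ (u : (z.1 : Ω) ∈ A₁) (v : (z.2 : Ω) ∈ normalizerIn S φ.range),
        χ ⟨z.1, u⟩ = z'.1 ∧ b ⟨z.2, v⟩ = z'.2 := by
    intro E z'
    constructor
    · rintro ⟨z, hz, rfl⟩
      exact ⟨z, ⟨z, hz, rfl⟩, _, _, rfl, rfl⟩
    · rintro ⟨_, ⟨z, hz, rfl⟩, u, v, e1, e2⟩
      exact ⟨z, hz, Prod.ext (Subtype.ext e1) (Subtype.ext e2)⟩
  have hin : ∀ (E : Subgroup ↥N) (z : S × S), z ∈ E.map N.subtype →
      (z.1 : Ω) ∈ A₁ ∧ (z.2 : Ω) ∈ normalizerIn S φ.range := by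
    rintro E _ ⟨z, -, rfl⟩
    exact ⟨⟨z, z.2, rfl⟩, hz2 z z.2⟩
  refine ⟨ψ, fun z w hzw => ?_, ?_, fun E => ⟨fdiag_transform_iff hχ hb (hin E) (hspec E),
    fun hE => (fdiag_transform hχ hb (hin E) (hspec E) hE).2⟩⟩
  · have e1 : χ (p1 z) = χ (p1 w) := congrArg (fun y : S × S => (y.1 : Ω)) hzw
    have e2 : b (p2 z) = b (p2 w) := congrArg (fun y : S × S => (y.2 : Ω)) hzw
    have f1 : ((p1 z : A₁) : Ω) = p1 w := congrArg Subtype.val (F.injective_of_mem hχ e1)
    have f2 : ((p2 z : normalizerIn S φ.range) : Ω) = p2 w := congrArg Subtype.val (F.injective_of_mem hb e2)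
    exact Subtype.ext (Prod.ext (Subtype.ext f1) (Subtype.ext f2))
  · ext z'
    rw [hΔ]
    have hval : ∀ (x : P) (hu : (x : Ω) ∈ A₁) (hv : φ x ∈ normalizerIn S φ.range),
        χ ⟨x, hu⟩ = ((b' (f x) : Q) : Ω) ∧ b ⟨φ x, hv⟩ = ((b' (f x) : Q) : Ω) := by
      intro x hu hv
      refine ⟨?_, rfl⟩
      rw [hχe, ← hβa]
      have hmem : a ⟨x, le_normalizerIn hPS x.2⟩ ∈ Q := (a' x).2
      refine (hγe _ hmem (le_extender F hφβ hmem)).trans ?_
      exact heβ (a' x)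
    constructor
    · intro hz'
      obtain ⟨_, ⟨z, hz, rfl⟩, u, v, e1, e2⟩ := (hspec _ z').1 hz'
      obtain ⟨g1, g2⟩ := (h z).1 hz
      obtain ⟨k1, k2⟩ := hval ⟨_, g1⟩ u (g2 ▸ v)
      have e2' : ((b' (f ⟨_, g1⟩) : Q) : Ω) = z'.2 := by
        rw [← k2, ← e2]
        exact apply_congr b g2 _ _
      have e1' : ((b' (f ⟨_, g1⟩) : Q) : Ω) = z'.1 := k1.symm.trans e1
      exact ⟨e1' ▸ (b' (f ⟨_, g1⟩)).2, e1'.symm.trans e2'⟩
    · rintro ⟨hq, he⟩
      obtain ⟨x, hx⟩ := (f.trans b').surjective ⟨z'.1, hq⟩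
      have hxD : ((⟨x, hPS x.2⟩, ⟨φ x, hom_apply_mem F hφ _⟩) : S × S) ∈ D := (h _).2 ⟨x.2, rfl⟩
      have hxN := Subgroup.le_normalizer hxD
      obtain ⟨k1, k2⟩ := hval x ⟨_, hxN, rfl⟩ (hz2 _ hxN)
      have hx' : ((b' (f x) : Q) : Ω) = z'.1 := congrArg Subtype.val hx
      exact (hspec _ z').2 ⟨_, ⟨⟨_, hxN⟩, hxD, rfl⟩, ⟨_, hxN, rfl⟩, hz2 _ hxN, k1.trans hx',
        k2.trans (hx'.trans he)⟩

/-- Counts constant on classes above a level are congruent at it to the count at the fully normalized diagonal. -/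
theorem fixCount_congr_of_stable (hS : IsPGroup p S) (hF : F.IsSaturated p) {X : Type*} [MulAction (S × S) X]
    [Finite X] (hX : ∀ E : Subgroup (S × S), fixCount X E ≠ 0 → FDiag F E) {Q : Subgroup Ω}
    (hQ : F.IsFullyNormalized Q) {D Δ : Subgroup (S × S)} (hD : FDiag F D) (hDQ : F.IsConj (diagDom D) Q)
    (hΔ : ∀ z : S × S, z ∈ Δ ↔ (z.1 : Ω) ∈ Q ∧ (z.1 : Ω) = z.2)
    (hst : ∀ E E', FDiag F E → FDiag F E' → F.IsConj (diagDom E) (diagDom E') → Nat.card D < Nat.card E →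
      fixCount X E = fixCount X E') :
    fixCount X D ≡ fixCount X Δ [MOD fixCount ((S × S) ⧸ D) D] ∧
      fixCount ((S × S) ⧸ D) D ∣ fixCount ((S × S) ⧸ Δ) Δ := by
  obtain ⟨ψ, hinj, hψD, hψ⟩ := exists_normalizer_hom hS hF hQ hD hDQ hΔ
  have hDN : D ≤ (Subgroup.normalizer (D : Set (S × S))) := Subgroup.le_normalizer
  have hmapD : (D.subgroupOf (Subgroup.normalizer (D : Set (S × S)))).map (Subgroup.normalizer (D : Set (S × S))).subtype = D := Subgroup.map_subgroupOf_eq_of_le hDN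
  refine ⟨?_, ?_⟩
  · rw [fixCount_self]
    have h := fixCount_modEq (A := Via (Subgroup.normalizer (D : Set (S × S))).subtype X) (B := Via ψ X) (D.subgroupOf (Subgroup.normalizer (D : Set (S × S)))) fun E hE => by
      rw [fixCount_via, fixCount_via]
      by_cases hEd : FDiag F (E.map (Subgroup.normalizer (D : Set (S × S))).subtype)
      · refine hst _ _ hEd ((hψ E).1.1 hEd) ((hψ E).2 hEd) ?_
        rw [Subgroup.card_map_of_injective (Subgroup.normalizer (D : Set (S × S))).subtype_injective,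
          ← Nat.card_congr (Subgroup.subgroupOfEquivOfLe hDN).toEquiv]
        exact Set.ncard_lt_ncard (SetLike.coe_ssubset_coe.2 hE) (Set.toFinite _)
      · rw [not_not.1 (mt (hX (E.map (Subgroup.normalizer (D : Set (S × S))).subtype)) hEd), not_not.1 (mt (hX (E.map ψ)) (mt (hψ E).1.2 hEd))]
    rwa [fixCount_via, fixCount_via, hmapD, hψD] at h
  · rw [fixCount_self, fixCount_self]
    
    obtain ⟨a, ha⟩ := ((isPGroup_pair hS).to_subgroup (Subgroup.normalizer (D : Set (S × S)))).index (D.subgroupOf (Subgroup.normalizer (D : Set (S × S))))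
    obtain ⟨b, hb⟩ := ((isPGroup_pair hS).to_subgroup (Subgroup.normalizer (Δ : Set (S × S)))).index (Δ.subgroupOf (Subgroup.normalizer (Δ : Set (S × S))))
    rw [ha, hb]
    refine pow_dvd_pow p ((Nat.pow_le_pow_iff_right hp.out.one_lt).1 ?_)
    rw [← ha, ← hb]
    have hNK : ψ.range ≤ (Subgroup.normalizer (Δ : Set (S × S))) := by
      rintro _ ⟨n, rfl⟩
      rw [← hψD]
      exact Subgroup.le_normalizer_map ψ ⟨n, by
        rw [Subgroup.normalizer_eq_top (H := D.subgroupOf (Subgroup.normalizer (D : Set (S × S))))]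
        exact Subgroup.mem_top _, rfl⟩
    have hc : Nat.card (Subgroup.normalizer (D : Set (S × S))) ≤ Nat.card (Subgroup.normalizer (Δ : Set (S × S))) :=
      (Nat.card_congr (MonoidHom.ofInjective hinj).toEquiv).trans_le (Subgroup.card_le_of_le hNK)
    have hcard : Nat.card Δ = Nat.card (D.subgroupOf (Subgroup.normalizer (D : Set (S × S)))) := by
      rw [← hψD, Subgroup.card_map_of_injective hinj]
    have i1 := Subgroup.card_mul_index (D.subgroupOf (Subgroup.normalizer (D : Set (S × S))))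
    have i2 := Subgroup.card_mul_index (Δ.subgroupOf (Subgroup.normalizer (Δ : Set (S × S))))
    rw [Nat.card_congr (Subgroup.subgroupOfEquivOfLe (Subgroup.le_normalizer (H := Δ))).toEquiv, hcard] at i2
    exact Nat.le_of_mul_le_mul_left (i1.trans_le (hc.trans i2.ge)) Nat.card_pos

omit hp in
theorem fdiag_of_fixCount_ne {m : Cls S → ℕ} (hm : ∀ q, m q ≠ 0 → FDiag F q.out) (E : Subgroup (S × S))
    (h : fixCount (Orbits m) E ≠ 0) : FDiag F E := by
  classical
  letI := Fintype.ofFinite (Cls S)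
  rw [fixCount_orbits] at h
  obtain ⟨q, -, hq⟩ := Finset.exists_ne_zero_of_sum_ne_zero h
  obtain ⟨g, hg⟩ := conj_le_of_fixCount_ne (Nat.mul_ne_zero_iff.1 hq).2
  have h1 := fdiag_mono (hm q (Nat.mul_ne_zero_iff.1 hq).1) hg
  have h2 := (fdiag_conj h1 g⁻¹).1
  rw [Subgroup.map_map] at h2
  convert h2
  symm
  convert Subgroup.map_id E using 2
  ext x <;> simp [mul_assoc]

omit hp in
theorem fdiag_card_le {D : Subgroup (S × S)} (hD : FDiag F D) : Nat.card D ≤ Nat.card S :=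
  (fdiag_card hD).trans_le (Subgroup.card_le_of_le (fdiag_le hD))

omit hp in
theorem exists_diagonal (F : FusionSystem S) {Q : Subgroup Ω} (hQ : Q ≤ S) :
    ∃ Δ : Subgroup (S × S), FDiag F Δ ∧ diagDom Δ = Q ∧
      ∀ z : S × S, z ∈ Δ ↔ (z.1 : Ω) ∈ Q ∧ (z.1 : Ω) = z.2 := by
  obtain ⟨Δ, h1, h2, h3⟩ := exists_fdiag (subtype_mem F hQ)
  exact ⟨Δ, h1, h2, fun z => (h3 z).trans ⟨fun ⟨a, b⟩ => ⟨a, b⟩, fun ⟨a, b⟩ => ⟨a, b⟩⟩⟩

omit hp in
/-- Every top diagonal is the image of the diagonal of `S` under a twist of the second factor. -/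
theorem exists_twist {D : Subgroup (S × S)} (hD : FDiag F D) (hc : Nat.card D = Nat.card S) :
    ∃ α ∈ F.autGroup S, ∀ z : S × S, z ∈ D ↔ z.2 = α z.1 := by
  obtain ⟨P, φ, hφ, h⟩ := hD
  have hPS : P = S := Subgroup.eq_of_le_of_card_ge (hom_le F hφ)
    (by rw [← hc, fdiag_card ⟨P, φ, hφ, h⟩, diagDom_eq hφ h])
  subst hPS
  obtain ⟨α, hα, he⟩ := exists_autGroup_of_range F hφ
    (Subgroup.eq_of_le_of_card_ge (range_le F hφ) (isConj_card ⟨φ, hφ, rfl⟩).le)
  refine ⟨α, hα, fun z => (h z).trans ⟨fun ⟨_, e⟩ => Subtype.ext ?_, fun e => ⟨z.1.2, ?_⟩⟩⟩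
  · rw [he, ← e]
  · rw [e, he]

omit hp in
theorem fixCount_self_twist {D Δ : Subgroup (S × S)} {α : MulAut S} (hD : ∀ z : S × S, z ∈ D ↔ z.2 = α z.1)
    (hΔ : ∀ z : S × S, z ∈ Δ ↔ z.2 = z.1) :
    fixCount ((S × S) ⧸ D) D = fixCount ((S × S) ⧸ Δ) Δ := by
  let e : (S × S) ≃* (S × S) := (MulEquiv.refl S).prodCongr α
  have hmap : Δ.map e.toMonoidHom = D := by
    ext z
    rw [Subgroup.mem_map_equiv, hΔ, hD]
    show α.symm z.2 = z.1 ↔ _
    exact α.symm_apply_eq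
  have hN : (Subgroup.normalizer (Δ : Set (S × S))).map e.toMonoidHom = Subgroup.normalizer (D : Set (S × S)) := by
    rw [← hmap]
    exact Subgroup.map_equiv_normalizer_eq Δ e
  rw [fixCount_self, fixCount_self]
  have key : ∀ B : Subgroup (S × S), (B.subgroupOf (Subgroup.normalizer (B : Set (S × S)))).index * Nat.card B =
      Nat.card (Subgroup.normalizer (B : Set (S × S))) := fun B => by
    rw [← Nat.card_congr (Subgroup.subgroupOfEquivOfLe (Subgroup.le_normalizer (H := B))).toEquiv]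
    exact Subgroup.index_mul_card _
  have hcD : Nat.card D = Nat.card Δ := by rw [← hmap, Subgroup.card_map_of_injective e.injective]
  have hcN : Nat.card (Subgroup.normalizer (D : Set (S × S))) = Nat.card (Subgroup.normalizer (Δ : Set (S × S))) := by
    rw [← hN, Subgroup.card_map_of_injective e.injective]
  refine Nat.eq_of_mul_eq_mul_right (Nat.card_pos (α := Δ)) ?_
  rw [key Δ, ← hcN, ← key D, hcD]

/-- Multiplicities with constant counts on classes. -/
theorem exists_stable (hS : IsPGroup p S) (hF : F.IsSaturated p) :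
    ∃ m : Cls S → ℕ, (∀ q, m q ≠ 0 → FDiag F q.out) ∧
      (∀ q, FDiag F q.out → Nat.card q.out = Nat.card S → m q = 1) ∧
      ∀ E E', FDiag F E → FDiag F E' → F.IsConj (diagDom E) (diagDom E') →
        fixCount (Orbits m) E = fixCount (Orbits m) E' := by
  classical
  letI := Fintype.ofFinite (Cls S)
  letI := Fintype.ofFinite (Subgroup (S × S))
  suffices h : ∀ j, ∃ m : Cls S → ℕ, (∀ q, m q ≠ 0 → FDiag F q.out) ∧
      (∀ q, FDiag F q.out → Nat.card q.out = Nat.card S → m q = 1) ∧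
      ∀ E E', FDiag F E → FDiag F E' → F.IsConj (diagDom E) (diagDom E') → Nat.card S ≤ Nat.card E + j →
        fixCount (Orbits m) E = fixCount (Orbits m) E' by
    obtain ⟨m, h1, h2, h3⟩ := h (Nat.card S)
    exact ⟨m, h1, h2, fun E E' hE hE' hc => h3 E E' hE hE' hc (Nat.le_add_left _ _)⟩
  have hcard : ∀ E E' : Subgroup (S × S), FDiag F E → FDiag F E' → F.IsConj (diagDom E) (diagDom E') →
      Nat.card E = Nat.card E' := fun E E' hE hE' hc => by
    rw [fdiag_card hE, fdiag_card hE', isConj_card hc]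
  intro j
  induction j with
  | zero =>
    refine ⟨fun q => if FDiag F q.out ∧ Nat.card q.out = Nat.card S then 1 else 0,
      fun q hq => ?_, fun q h1 h2 => by simp [h1, h2], ?_⟩
    · by_contra hn
      simp [hn] at hq
    obtain ⟨Δ, -, -, hΔ⟩ := exists_diagonal F (le_refl S)
    have hΔ' : ∀ z : S × S, z ∈ Δ ↔ z.2 = z.1 := fun z =>
      (hΔ z).trans ⟨fun h => (Subtype.ext h.2).symm, fun h => ⟨z.1.2, by rw [h]⟩⟩
    have key : ∀ E, FDiag F E → Nat.card E = Nat.card S →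
        fixCount (Orbits fun q => if FDiag F q.out ∧ Nat.card q.out = Nat.card S then 1 else 0) E =
          fixCount ((S × S) ⧸ Δ) Δ := by
      intro E hE hc
      have ho := (fdiag_out_iff (F := F) E).1.2 hE
      have hco : Nat.card (Quotient.mk (conjSetoid S) E).out = Nat.card S := (card_out E).trans hc
      rw [fixCount_orbits, Finset.sum_eq_single (Quotient.mk (conjSetoid S) E) ?_ (by simp)]
      · rw [if_pos ⟨ho, hco⟩, one_mul, ← fixCount_out]
        obtain ⟨α, -, hα⟩ := exists_twist ho hco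
        exact fixCount_self_twist hα hΔ'
      · intro q _ hq
        rw [Nat.mul_eq_zero]
        by_cases hd : FDiag F q.out ∧ Nat.card q.out = Nat.card S
        · refine Or.inr ?_
          by_contra hne
          exact hq (eq_out_of_fixCount_ne hne (hd.2.trans hc.symm).le).symm
        · exact Or.inl (if_neg hd)
    intro E E' hE hE' hc hle
    have h1 : Nat.card E = Nat.card S := le_antisymm (fdiag_card_le hE) (by simpa using hle)
    rw [key E hE h1, key E' hE' ((hcard E E' hE hE' hc).symm.trans h1)]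
  | succ j ih =>
    obtain ⟨m, hsupp, htop, hst⟩ := ih
    rcases Nat.lt_or_ge (Nat.card S) (j + 1) with hj | hj
    · exact ⟨m, hsupp, htop, fun E E' hE hE' hc _ => hst E E' hE hE' hc (by omega)⟩
    set k := Nat.card S - (j + 1) with hk
    let f : Subgroup (S × S) → ℕ := fun D => fixCount (Orbits m) D
    let W : Subgroup (S × S) → ℕ := fun D => fixCount ((S × S) ⧸ D) D
    let rep : Subgroup (S × S) → Prop := fun D => (Quotient.mk (conjSetoid S) D).out = D
    let v : Subgroup Ω → ℕ := fun P => sInf {v | Admissible F f W rep P v}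
    have hv : ∀ D, rep D → FDiag F D → Nat.card D = k → f D ≤ v (diagDom D) ∧ f D ≡ v (diagDom D) [MOD W D] := by
      intro D hDr hD hDc
      obtain ⟨Q, hQc, hQ⟩ := exists_fullyNormalized F (fdiag_le hD)
      obtain ⟨Δ, hΔd, hΔQ, hΔ⟩ := exists_diagonal F hQ.1
      have hcongr : ∀ D', FDiag F D' → F.IsConj (diagDom D') (diagDom D) →
          f D' ≡ f Δ [MOD W D'] ∧ W D' ∣ W Δ := fun D' hD' hc' =>
        fixCount_congr_of_stable hS hF (fdiag_of_fixCount_ne hsupp) hQ hD' (isConj_trans hc' hQc) hΔ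
          fun E E' hE hE' hc hlt => hst E E' hE hE' hc (by
            have := hcard D' D hD' hD hc'
            omega)
      have hne : {v | Admissible F f W rep (diagDom D) v}.Nonempty := by
        refine ⟨f Δ + (∑ D', f D') * W Δ, fun D' _ hD' hc' => ⟨?_, ?_⟩⟩
        · refine le_add_left ((Finset.single_le_sum (fun _ _ => Nat.zero_le _) (Finset.mem_univ D')).trans ?_)
          refine Nat.le_mul_of_pos_right _ ?_
          show 0 < fixCount ((S × S) ⧸ Δ) Δ
          rw [fixCount_self]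
          exact Nat.pos_of_ne_zero Subgroup.index_ne_zero_of_finite
        · obtain ⟨h1, h2⟩ := hcongr D' hD' hc'
          refine h1.trans (Nat.ModEq.symm ?_)
          exact (Nat.ModEq.add_left (f Δ) (Nat.modEq_zero_iff_dvd.2 (h2.mul_left _))).trans
            (by rw [Nat.add_zero])
      exact Nat.sInf_mem hne D hDr hD (isConj_refl F (fdiag_le hD))
    let d : Cls S → ℕ := fun q =>
      if FDiag F q.out ∧ Nat.card q.out = k then (v (diagDom q.out) - f q.out) / W q.out else 0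
    have hadd : ∀ E, fixCount (Orbits (fun q => m q + d q)) E =
        f E + ∑ q, d q * fixCount ((S × S) ⧸ q.out) E := by
      intro E
      show _ = fixCount (Orbits m) E + _
      rw [fixCount_orbits, fixCount_orbits, ← Finset.sum_add_distrib]
      simp only [add_mul]
    have hzero : ∀ E : Subgroup (S × S), k ≤ Nat.card E → ∀ q, Quotient.mk (conjSetoid S) E ≠ q ∨ k < Nat.card E →
        d q * fixCount ((S × S) ⧸ q.out) E = 0 := by
      intro E hE q hq
      by_cases hd : FDiag F q.out ∧ Nat.card q.out = k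
      · by_contra hne
        have h1 := (Nat.mul_ne_zero_iff.1 hne).2
        have h2 := eq_out_of_fixCount_ne h1 (hd.2.trans_le hE)
        rcases hq with hq | hq
        · exact hq h2
        · have h3 := card_out E
          rw [h2, hd.2] at h3
          omega
      · simp only [d, if_neg hd, Nat.zero_mul]
    have hhigh : ∀ E : Subgroup (S × S), k < Nat.card E → fixCount (Orbits (fun q => m q + d q)) E = f E := fun E hE => by
      rw [hadd, Finset.sum_eq_zero fun q _ => hzero E hE.le q (Or.inr hE), Nat.add_zero]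
    have hlevel : ∀ E : Subgroup (S × S), FDiag F E → Nat.card E = k →
        fixCount (Orbits (fun q => m q + d q)) E = v (diagDom (Quotient.mk (conjSetoid S) E).out) := by
      intro E hE hc
      set q := Quotient.mk (conjSetoid S) E with hq
      have ho : FDiag F q.out := (fdiag_out_iff (F := F) E).1.2 hE
      have hco : Nat.card q.out = k := (card_out E).trans hc
      have hrep : rep q.out := by
        show (Quotient.mk (conjSetoid S) q.out).out = q.out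
        rw [Quotient.out_eq]
      rw [hadd, Finset.sum_eq_single q (fun r _ hr => hzero E hc.ge r (Or.inl (hq ▸ hr.symm))) (by simp)]
      obtain ⟨h1, h2⟩ := hv q.out hrep ho hco
      show fixCount (Orbits m) E + d q * fixCount ((S × S) ⧸ q.out) E = _
      rw [← fixCount_out, ← fixCount_out (X := (S × S) ⧸ q.out)]
      show f q.out + d q * W q.out = _
      simp only [d, if_pos (show FDiag F q.out ∧ Nat.card q.out = k from ⟨ho, hco⟩)]
      rw [Nat.div_mul_cancel ((Nat.modEq_iff_dvd' h1).1 h2)]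
      omega
    refine ⟨fun q => m q + d q, fun q hq => ?_, fun q h1 h2 => ?_, fun E E' hE hE' hc hle => ?_⟩
    · by_cases hm : m q = 0
      · simp only [hm, Nat.zero_add, d] at hq
        by_contra hn
        simp [hn] at hq
      · exact hsupp q hm
    · have hne : Nat.card q.out ≠ k := by omega
      simp [d, htop q h1 h2, hne]
    · have hE2 := hcard E E' hE hE' hc
      by_cases hlt : k < Nat.card E
      · rw [hhigh E hlt, hhigh E' (hE2 ▸ hlt)]
        exact hst E E' hE hE' hc (by omega)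
      · have hEk : Nat.card E = k := by omega
        rw [hlevel E hE hEk, hlevel E' hE' (hE2 ▸ hEk)]
        have hcc : F.IsConj (diagDom (Quotient.mk (conjSetoid S) E).out) (diagDom (Quotient.mk (conjSetoid S) E').out) :=
          isConj_trans (isConj_symm ((fdiag_out_iff (F := F) E).2 hE))
            (isConj_trans hc ((fdiag_out_iff (F := F) E').2 hE'))
        show sInf _ = sInf _
        congr 1
        ext w
        exact ⟨fun h D a b c => h D a b (isConj_trans c (isConj_symm hcc)),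
          fun h D a b c => h D a b (isConj_trans c hcc)⟩

/-- The classes of top diagonals correspond to the outer automorphisms of `S`. -/
theorem card_top_classes :
    Nat.card {q : Cls S // FDiag F q.out ∧ Nat.card q.out = Nat.card S} =
      ((Inn S).subgroupOf (F.autGroup S)).index := by
  have hgraph : ∀ α : F.autGroup S, ∃ D : Subgroup (S × S), FDiag F D ∧ Nat.card D = Nat.card S ∧
      ∀ z : S × S, z ∈ D ↔ z.2 = (α : MulAut S) z.1 := by
    intro α
    obtain ⟨φ, hφ, -, he⟩ := autGroup_apply_mem_hom F le_rfl α.2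
    obtain ⟨D, hD, hdom, h⟩ := exists_fdiag hφ
    refine ⟨D, hD, by rw [fdiag_card hD, hdom], fun z => (h z).trans ⟨fun ⟨_, e⟩ => Subtype.ext ?_, fun e => ⟨z.1.2, ?_⟩⟩⟩
    · rw [← e, he]
    · rw [he, e]
  choose G hG hGc hGm using hgraph
  let g : F.autGroup S → {q : Cls S // FDiag F q.out ∧ Nat.card q.out = Nat.card S} := fun α =>
    ⟨Quotient.mk (conjSetoid S) (G α), (fdiag_out_iff (F := F) _).1.2 (hG α), (card_out _).trans (hGc α)⟩
  have hiff : ∀ α β : F.autGroup S, g α = g β ↔ α⁻¹ * β ∈ (Inn S).subgroupOf (F.autGroup S) := by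
    intro α β
    constructor
    · intro h
      obtain ⟨⟨a, b⟩, hab⟩ := Quotient.exact (s := conjSetoid S) (congrArg Subtype.val h)
      rw [Subgroup.mem_subgroupOf]
      refine ⟨((α : MulAut S).symm b) * a⁻¹, MulEquiv.ext fun x => ?_⟩
      have hy : (MulAut.conj (a, b)) (a⁻¹ * x * a, (α : MulAut S) (a⁻¹ * x * a)) ∈ G β :=
        hab ▸ Subgroup.mem_map_of_mem _ ((hGm α _).2 rfl)
      have h1 := (hGm β _).1 hy
      simp only [MulAut.conj_apply, Prod.fst_mul, Prod.snd_mul, Prod.fst_inv, Prod.snd_inv] at h1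
      have e : a * (a⁻¹ * x * a) * a⁻¹ = x := by group
      rw [e] at h1
      show MulAut.conj _ x = (α : MulAut S).symm ((β : MulAut S) x)
      rw [← h1]
      simp [MulAut.conj_apply, mul_assoc]
    · intro h
      obtain ⟨u, hu⟩ := Subgroup.mem_subgroupOf.1 h
      refine Subtype.ext (Quotient.sound (s := conjSetoid S) ⟨(u⁻¹, 1), ?_⟩)
      have hb : ∀ x : S, (β : MulAut S) x = (α : MulAut S) (u * x * u⁻¹) := fun x => by
        rw [← MulAut.conj_apply, hu]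
        exact ((α : MulAut S).apply_symm_apply _).symm
      ext z
      simp only [Subgroup.mem_map_equiv, hGm]
      rw [hb]
      show ((MulAut.conj (u⁻¹, (1 : S))).symm z).2 = _ ↔ _
      simp [MulAut.conj_symm_apply]
  refine (Nat.card_congr (Equiv.ofBijective (Quotient.lift g fun α β h =>
    (hiff α β).2 (QuotientGroup.leftRel_apply.1 h)) ⟨?_, ?_⟩)).symm
  · rintro ⟨α⟩ ⟨β⟩ h
    exact Quotient.sound (QuotientGroup.leftRel_apply.2 ((hiff α β).1 h))
  · rintro ⟨q, hq, hqc⟩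
    obtain ⟨α, hα, hαm⟩ := exists_twist hq hqc
    refine ⟨Quotient.mk _ ⟨α, hα⟩, Subtype.ext ?_⟩
    show Quotient.mk (conjSetoid S) (G ⟨α, hα⟩) = q
    conv_rhs => rw [← q.out_eq]
    congr 1
    ext z
    rw [hGm, hαm]

/-- A stable biset. -/
theorem exists_biset.{v} {Ω : Type v} [Group Ω] {S : Subgroup Ω} [Finite S] {F : FusionSystem S}
    (hS : IsPGroup p S) (hF : F.IsSaturated p) :
    ∃ (X : Type v) (_ : MulAction (S × S) X) (_ : Finite X) (n : ℕ),
      Nat.card X = n * Nat.card S ∧ ¬ p ∣ n ∧ (∀ x : X, FDiag F (stabilizer (S × S) x)) ∧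
      ∀ E E', FDiag F E → FDiag F E' → F.IsConj (diagDom E) (diagDom E') → fixCount X E = fixCount X E' := by
  classical
  letI := Fintype.ofFinite (Cls S)
  obtain ⟨m, hsupp, htop, hst⟩ := exists_stable hS hF
  refine ⟨Orbits m, inferInstance, inferInstance, ∑ q, m q * (Nat.card S / Nat.card q.out), ?_, ?_, fun x => ?_, hst⟩
  · rw [Nat.card_sigma, Fintype.sum_sigma, Finset.sum_mul]
    refine Finset.sum_congr rfl fun q _ => ?_
    show ∑ _y : Fin (m q), Nat.card ((S × S) ⧸ q.out) = _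
    have h : ∀ c : ℕ, ∑ _y : Fin (m q), c = m q * c := by simp
    rw [h, mul_assoc]
    by_cases hm : m q = 0
    · simp [hm]
    congr 1
    have hdvd : Nat.card q.out ∣ Nat.card S := by
      rw [fdiag_card (hsupp q hm)]
      exact Subgroup.card_dvd_of_le (fdiag_le (hsupp q hm))
    have h1 := Subgroup.card_eq_card_quotient_mul_card_subgroup q.out
    rw [Nat.card_prod] at h1
    refine Nat.eq_of_mul_eq_mul_right (Nat.card_pos (α := q.out)) ?_
    rw [← h1, mul_right_comm, Nat.div_mul_cancel hdvd]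
  · have h1 : (Finset.univ.filter fun q : Cls S => FDiag F q.out ∧ Nat.card q.out = Nat.card S).card =
        ((Inn S).subgroupOf (F.autGroup S)).index := by
      rw [← Fintype.card_subtype, ← Nat.card_eq_fintype_card, card_top_classes]
    have h2 : (∑ q, m q * (Nat.card S / Nat.card q.out)) ≡
        (∑ q : Cls S, if FDiag F q.out ∧ Nat.card q.out = Nat.card S then 1 else 0) [MOD p] := by
      refine Nat.ModEq.sum fun q _ => ?_
      by_cases hq : FDiag F q.out ∧ Nat.card q.out = Nat.card S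
      · rw [if_pos hq, htop q hq.1 hq.2, hq.2, Nat.div_self Nat.card_pos, mul_one]
      rw [if_neg hq]
      by_cases hm : m q = 0
      · rw [hm, zero_mul]
      refine Nat.modEq_zero_iff_dvd.2 (dvd_mul_of_dvd_right ?_ _)
      have hf := hsupp q hm
      obtain ⟨k, hk⟩ := (IsPGroup.iff_card.1 hS)
      have hdvd : Nat.card q.out ∣ Nat.card S := by
        rw [fdiag_card hf]
        exact Subgroup.card_dvd_of_le (fdiag_le hf)
      obtain ⟨i, hi, hie⟩ := (Nat.dvd_prime_pow hp.out).1 (hk ▸ hdvd)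
      have hne : i ≠ k := fun h => hq ⟨hf, by rw [hie, h, hk]⟩
      rw [hk, hie, Nat.pow_div hi hp.out.pos]
      exact dvd_pow_self p (by omega)
    intro hdvd
    rw [Finset.sum_boole, Nat.cast_id, h1] at h2
    obtain ⟨R, hR⟩ := ((isSaturated_iff hS F).1 hF).1 S ⟨le_rfl, fun Q hQ => by
      have := finite_of_le (S := S) (normalizerIn_le S S)
      exact Subgroup.card_le_of_le (le_inf (normalizerIn_le S Q)
        ((normalizerIn_le S Q).trans Subgroup.le_normalizer))⟩ |>.2.2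
    rw [← inn_eq_autInducedBy_self] at hR
    exact hR ▸ R.not_dvd_index <| Nat.modEq_zero_iff_dvd.1 (h2.symm.trans (Nat.modEq_zero_iff_dvd.2 hdvd))
  · refine fdiag_of_fixCount_ne hsupp _ (Nat.card_ne_zero.2 ⟨⟨⟨x, le_rfl⟩⟩, inferInstance⟩)

omit hp in
/-- Stability: precomposing with a map of the system gives an isomorphic biset. -/
theorem exists_equiv_of_hom {X : Type*} [MulAction (S × S) X] [Finite X]
    (hX : ∀ x : X, FDiag F (stabilizer (S × S) x))
    (hst : ∀ E E', FDiag F E → FDiag F E' → F.IsConj (diagDom E) (diagDom E') → fixCount X E = fixCount X E')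
    {P : Subgroup Ω} {φ : P →* Ω} (hφ : φ ∈ F.Hom P) :
    ∃ e : X ≃ X, ∀ (a : S) (ha : (a : Ω) ∈ P) (s : S) (y : X),
      e ((a, s) • y) = ((⟨φ ⟨a, ha⟩, hom_apply_mem F hφ _⟩, s) : S × S) • e y := by
  let N : Subgroup (S × S) := (P.subgroupOf S).prod ⊤
  let pr : ↥N →* P := (S.subtype.comp ((MonoidHom.fst S S).comp N.subtype)).codRestrict P fun z => z.2.1
  let i2 : ↥N →* S × S := ((φ.comp pr).codRestrict S fun z => hom_apply_mem F hφ _).prod
    ((MonoidHom.snd S S).comp N.subtype)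
  have hzero : ∀ E : Subgroup (S × S), ¬ FDiag F E → fixCount X E = 0 := fun E hE =>
    Nat.card_eq_zero.2 (Or.inl ⟨fun x => hE (fdiag_mono (hX x.1) x.2)⟩)
  have hfix : ∀ E : Subgroup ↥N, fixCount (Via N.subtype X) E = fixCount (Via i2 X) E := by
    intro E
    rw [fixCount_via, fixCount_via]
    have hA : ∀ z ∈ E.map N.subtype, (z.1 : Ω) ∈ P ∧ (z.2 : Ω) ∈ S := by
      rintro _ ⟨z, -, rfl⟩
      exact ⟨z.2.1, (z : S × S).2.2⟩
    have hspec : ∀ z' : S × S, z' ∈ E.map i2 ↔ ∃ z ∈ E.map N.subtype, ∃ (a : (z.1 : Ω) ∈ P) (b : (z.2 : Ω) ∈ S),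
        φ ⟨z.1, a⟩ = z'.1 ∧ S.subtype ⟨z.2, b⟩ = z'.2 := by
      intro z'
      constructor
      · rintro ⟨z, hz, rfl⟩
        exact ⟨z, ⟨z, hz, rfl⟩, _, (z : S × S).2.2, rfl, rfl⟩
      · rintro ⟨_, ⟨z, hz, rfl⟩, a, b, e1, e2⟩
        exact ⟨z, hz, Prod.ext (Subtype.ext e1) (Subtype.ext e2)⟩
    by_cases hE : FDiag F (E.map N.subtype)
    · obtain ⟨h1, h2⟩ := fdiag_transform hφ (subtype_mem F le_rfl) hA hspec hE
      exact hst _ _ hE h1 h2
    · rw [hzero _ hE, hzero _ (fun h => hE ((fdiag_transform_iff hφ (subtype_mem F le_rfl) hA hspec).2 h))]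
  obtain ⟨e, he⟩ := exists_equiv_of_fixCount hfix
  exact ⟨e, fun a ha s y => he ⟨(a, s), ha, Subgroup.mem_top s⟩ y⟩

end Cfsg.Agent.FusionSys
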