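import Cfsg.Agent.Lib.Fusion.Biset
import Cfsg.Agent.Lib.Fusion.Hyperfocal
import Cfsg.Agent.Lib.Solvable.NilpotentFrattini
import Mathlib.GroupTheory.Frattini
import Mathlib.GroupTheory.Abelianization.Defs

/-!
# Transfer along a stable biset

`foc ∩ Z(F) = S' ∩ Z(F)`, invariant homomorphisms on the hyperfocal subgroup extend, and Tate's theorem.
-/

set_option autoImplicit false

namespace Cfsg.Agent.FusionSys

open Cfsg Cfsg.FusionSystem MulAction
open scoped commutatorElement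

section coord

variable {G X : Type*} [Group G] [MulAction (G × G) X] {J : Type*}

/-- Coordinates: representatives of the right orbits, acted on freely. -/
def IsCoord (G : Type*) [Group G] [MulAction (G × G) X] (r : J → X) : Prop := Function.Bijective fun a : J × G => (((1, a.2) : G × G)) • r a.1

theorem exists_step {r : J → X} (hr : IsCoord G r) (x : G) (j : J) :
    ∃ (k : J) (s : G), ((x, s) : G × G) • r j = r k := by
  obtain ⟨⟨k, u⟩, h⟩ := hr.2 (((x, 1) : G × G) • r j)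
  refine ⟨k, u⁻¹, ?_⟩
  have h' : ((1, u) : G × G) • r k = ((x, 1) : G × G) • r j := h
  rw [show ((x, u⁻¹) : G × G) = (1, u⁻¹) * (x, 1) by simp, mul_smul, ← h', smul_smul]
  simp [← Prod.one_eq_mk]

theorem step_unique {r : J → X} (hr : IsCoord G r) {x : G} {j k k' : J} {s s' : G}
    (h : ((x, s) : G × G) • r j = r k) (h' : ((x, s') : G × G) • r j = r k') : k = k' ∧ s = s' := by
  have e : ((1, s' * s⁻¹) : G × G) • r k = ((1, 1) : G × G) • r k' := by
    rw [← h, ← h', smul_smul, smul_smul]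
    simp
  obtain ⟨e1, e2⟩ := Prod.ext_iff.1 (hr.1 (a₁ := (k, s' * s⁻¹)) (a₂ := (k', 1)) e)
  exact ⟨e1, (mul_inv_eq_one.1 e2).symm⟩

/-- The permutation of the representatives. -/
noncomputable def nxt {r : J → X} (hr : IsCoord G r) (x : G) (j : J) : J := (exists_step hr x j).choose

/-- The coefficient. -/
noncomputable def coef {r : J → X} (hr : IsCoord G r) (x : G) (j : J) : G := (exists_step hr x j).choose_spec.choose

theorem coef_spec {r : J → X} (hr : IsCoord G r) (x : G) (j : J) :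
    ((x, coef hr x j) : G × G) • r j = r (nxt hr x j) :=
  (exists_step hr x j).choose_spec.choose_spec

theorem nxt_injective {r : J → X} (hr : IsCoord G r) (x : G) : Function.Injective (nxt hr x) := by
  intro i j h
  have h1 := coef_spec hr x i
  rw [h, ← coef_spec hr x j, ← eq_inv_smul_iff, smul_smul] at h1
  simp only [Prod.inv_mk, Prod.mk_mul_mk, inv_mul_cancel] at h1
  refine congrArg Prod.fst (hr.1 (a₁ := (i, 1)) (a₂ := (j, (coef hr x i)⁻¹ * coef hr x j)) ?_)
  show ((1, 1) : G × G) • r i = ((1, (coef hr x i)⁻¹ * coef hr x j) : G × G) • r j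
  rw [← h1, ← Prod.one_eq_mk, one_smul]

theorem coef_mul {r : J → X} (hr : IsCoord G r) (x y : G) (j : J) :
    coef hr (x * y) j = coef hr x (nxt hr y j) * coef hr y j := by
  refine (step_unique hr (coef_spec hr (x * y) j) (k' := nxt hr x (nxt hr y j)) ?_).2
  rw [← coef_spec hr x, ← coef_spec hr y, smul_smul, Prod.mk_mul_mk]

variable [Fintype J] {A : Type*} [CommGroup A]

/-- The transfer. -/
noncomputable def tr {r : J → X} (hr : IsCoord G r) (θ : G → A) (x : G) : A := ∏ j, θ (coef hr x j)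

theorem prod_nxt {r : J → X} (hr : IsCoord G r) (x : G) (f : J → A) : ∏ j, f (nxt hr x j) = ∏ j, f j :=
  Fintype.prod_bijective _ ((Finite.injective_iff_bijective).1 (nxt_injective hr x)) _ _ fun _ => rfl

/-- The transfer does not change under an isomorphism intertwining `x` with `x'`, for coefficients in `T`. -/
theorem tr_congr {r : J → X} (hr : IsCoord G r) (θ : G → A) {T : Subgroup G} (hTn : T.Normal)
    (hθ : ∀ a ∈ T, ∀ b ∈ T, θ (a * b) = θ a * θ b) (hinv : ∀ g : G, ∀ a ∈ T, θ (g * a * g⁻¹) = θ a)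
    {x x' : G} (e : X ≃ X) (he : ∀ (s : G) (y : X), e (((x, s) : G × G) • y) = ((x', s) : G × G) • e y)
    (he1 : ∀ (s : G) (y : X), e (((1, s) : G × G) • y) = ((1, s) : G × G) • e y)
    (hx : ∀ j, coef hr x j ∈ T) (hx' : ∀ j, coef hr x' j ∈ T) : tr hr θ x = tr hr θ x' := by
  have hex : ∀ j, ∃ (i : J) (u : G), ((1, u) : G × G) • r i = e (r j) := fun j => by
    obtain ⟨⟨i, u⟩, h⟩ := hr.2 (e (r j))
    exact ⟨i, u, h⟩
  choose π u hu using hex
  have hπ : Function.Injective π := by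
    intro i j h
    have h1 : e (((1, 1) : G × G) • r i) = e (((1, u i * (u j)⁻¹) : G × G) • r j) := by
      rw [he1, he1, ← hu, ← hu, h, smul_smul, smul_smul]
      simp
    exact congrArg Prod.fst (hr.1 (a₁ := (i, 1)) (a₂ := (j, u i * (u j)⁻¹)) (e.injective h1))
  have hstep : ∀ j, nxt hr x' (π j) = π (nxt hr x j) ∧
      coef hr x' (π j) = (u (nxt hr x j))⁻¹ * coef hr x j * u j := by
    intro j
    refine step_unique hr (coef_spec hr x' (π j)) ?_
    have h1 := congrArg e (coef_spec hr x j)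
    rw [he, ← hu, ← hu, smul_smul, Prod.mk_mul_mk] at h1
    rw [show ((x', (u (nxt hr x j))⁻¹ * coef hr x j * u j) : G × G) =
      (1, (u (nxt hr x j))⁻¹) * (x' * 1, coef hr x j * u j) by simp [mul_assoc], mul_smul, h1, smul_smul]
    simp [← Prod.one_eq_mk]
  have hd : ∀ j, (u (nxt hr x j))⁻¹ * u j ∈ T := fun j => by
    have e1 : (u (nxt hr x j))⁻¹ * u j =
        coef hr x' (π j) * ((u j)⁻¹ * (coef hr x j)⁻¹ * u j) := by
      rw [(hstep j).2]; group
    rw [e1]
    refine T.mul_mem (hx' _) ?_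
    simpa using hTn.conj_mem _ (T.inv_mem (hx j)) (u j)⁻¹
  let τ : G → G := fun g => (QuotientGroup.mk g : G ⧸ T).out
  have hτ : ∀ g, g⁻¹ * τ g ∈ T := fun g => QuotientGroup.eq.1 (QuotientGroup.out_eq' _).symm
  let t : J → G := fun j => (u j)⁻¹ * τ (u j)
  have hsplit : ∀ j, θ (coef hr x' (π j)) * θ (t j) = θ (coef hr x j) * θ (t (nxt hr x j)) := by
    intro j
    have hτe : τ (u (nxt hr x j)) = τ (u j) := congrArg Quotient.out (QuotientGroup.eq.2 (hd j))
    have e2 : coef hr x' (π j) =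
        ((u (nxt hr x j))⁻¹ * coef hr x j * u (nxt hr x j)) * ((u (nxt hr x j))⁻¹ * u j) := by
      rw [(hstep j).2]; group
    have hcj : (u (nxt hr x j))⁻¹ * coef hr x j * u (nxt hr x j) ∈ T := by
      simpa using hTn.conj_mem _ (hx j) (u (nxt hr x j))⁻¹
    have hci : θ ((u (nxt hr x j))⁻¹ * coef hr x j * u (nxt hr x j)) = θ (coef hr x j) := by
      simpa using hinv (u (nxt hr x j))⁻¹ _ (hx j)
    rw [e2, hθ _ hcj _ (hd j), hci, mul_assoc, ← hθ _ (hd j) _ (hτ _)]
    congr 2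
    show _ * ((u j)⁻¹ * τ (u j)) = (u (nxt hr x j))⁻¹ * τ (u (nxt hr x j))
    rw [hτe]
    group
  have h := Finset.prod_congr (rfl : (Finset.univ : Finset J) = Finset.univ) fun j _ => hsplit j
  rw [Finset.prod_mul_distrib, Finset.prod_mul_distrib, prod_nxt hr x fun j => θ (t j)] at h
  have h2 : ∏ j, θ (coef hr x' (π j)) = tr hr θ x' :=
    Fintype.prod_bijective π ((Finite.injective_iff_bijective).1 hπ) _ _ fun _ => rfl
  rw [h2] at h
  exact (mul_right_cancel h).symm

theorem exists_coord [Finite G] [Finite X] (hfree : ∀ (x : X) (s : G), ((1, s) : G × G) • x = x → s = 1)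
    (C : X → Prop) (hC : ∀ x, ∃ u : G, C (((1, u) : G × G) • x)) :
    ∃ (m : ℕ) (r : Fin m → X), IsCoord G r ∧ Nat.card X = m * Nat.card G ∧ ∀ j, C (r j) := by
  classical
  let ι : G →* G × G := MonoidHom.inr G G
  let Q := orbitRel.Quotient G (Via ι X)
  haveI : Finite Q := Quotient.finite _
  let eQ : Fin (Nat.card Q) ≃ Q := (Finite.equivFin Q).symm
  choose u hu using hC
  let x0 : Q → X := fun q => (q.out : Via ι X)
  let r : Fin (Nat.card Q) → X := fun j => ((1, u (x0 (eQ j))) : G × G) • x0 (eQ j)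
  have hr : IsCoord G r := by
    refine ⟨fun a b h => ?_, fun y => ?_⟩
    · have h0 : ((1, a.2 * u (x0 (eQ a.1))) : G × G) • x0 (eQ a.1) =
          ((1, b.2 * u (x0 (eQ b.1))) : G × G) • x0 (eQ b.1) := by
        have h' : ((1, a.2) : G × G) • r a.1 = ((1, b.2) : G × G) • r b.1 := h
        simpa [r, smul_smul] using h'
      have hq : eQ a.1 = eQ b.1 := by
        rw [← Quotient.out_eq (eQ a.1), ← Quotient.out_eq (eQ b.1)]
        refine Quotient.sound ⟨(a.2 * u (x0 (eQ a.1)))⁻¹ * (b.2 * u (x0 (eQ b.1))), ?_⟩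
        show ((1, (a.2 * u (x0 (eQ a.1)))⁻¹ * (b.2 * u (x0 (eQ b.1)))) : G × G) • x0 (eQ b.1) = x0 (eQ a.1)
        rw [show ((1, (a.2 * u (x0 (eQ a.1)))⁻¹ * (b.2 * u (x0 (eQ b.1)))) : G × G) =
          (1, a.2 * u (x0 (eQ a.1)))⁻¹ * (1, b.2 * u (x0 (eQ b.1))) by simp, mul_smul, inv_smul_eq_iff]
        exact h0.symm
      obtain ⟨a1, a2⟩ := a
      obtain ⟨b1, b2⟩ := b
      obtain rfl : a1 = b1 := eQ.injective hq
      rw [eq_comm, ← inv_smul_eq_iff, smul_smul] at h0
      have h1 := hfree _ ((a2 * u (x0 (eQ a1)))⁻¹ * (b2 * u (x0 (eQ a1)))) (by simpa using h0)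
      rw [inv_mul_eq_one] at h1
      exact Prod.ext rfl (mul_right_cancel h1)
    · obtain ⟨k, hk⟩ := Quotient.exact (Quotient.out_eq (Quotient.mk (orbitRel G (Via ι X)) y)).symm
      have hk' : ((1, k) : G × G) • x0 (Quotient.mk (orbitRel G (Via ι X)) y) = y := hk
      refine ⟨(eQ.symm (Quotient.mk (orbitRel G (Via ι X)) y),
        k * (u (x0 (Quotient.mk (orbitRel G (Via ι X)) y)))⁻¹), ?_⟩
      simp only [r, Equiv.apply_symm_apply, smul_smul, Prod.mk_mul_mk, one_mul, inv_mul_cancel_right]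
      exact hk'
  refine ⟨_, r, hr, ?_, fun j => hu _⟩
  rw [← Nat.card_congr (Equiv.ofBijective _ hr), Nat.card_prod, Nat.card_fin]

end coord

variable {Ω : Type*} [Group Ω] {S : Subgroup Ω} [Finite S] {p : ℕ} [hp : Fact p.Prime] {F : FusionSystem S}

omit [Finite S] hp in
theorem free_of_fdiag {X : Type*} [MulAction (S × S) X] (hX : ∀ x : X, FDiag F (stabilizer (S × S) x))
    (x : X) (s : S) (h : ((1, s) : S × S) • x = x) : s = 1 :=
  fdiag_right_free (hX x) h

theorem coprime_of_isPGroup {A : Type*} [Group A] [Finite A] (hA : IsPGroup p A) {n : ℕ} (hn : ¬ p ∣ n) :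
    (Nat.card A).Coprime n := by
  obtain ⟨k, hk⟩ := IsPGroup.iff_card.1 hA
  rw [hk]
  exact ((Nat.Prime.coprime_iff_not_dvd hp.out).2 hn).pow_left k

/-- `foc ∩ Z(F) ≤ S'`. -/
theorem focal_inf_center_le (hS : IsPGroup p S) (hF : F.IsSaturated p) :
    F.focalSubgroup ⊓ F.center ≤ ⁅S, S⁆ := by
  classical
  obtain ⟨X, _, _, n, hcard, hn, hX, hst⟩ := exists_biset hS hF
  let θ : S →* Abelianization S := Abelianization.of
  rintro _ ⟨hz, hzc⟩
  have hfocS : F.focalSubgroup ≤ S := by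
    refine (Subgroup.closure_le _).2 ?_
    rintro _ ⟨P, φ, x, hφ, rfl⟩
    exact S.mul_mem (S.inv_mem (hom_le F hφ x.2)) (hom_apply_mem F hφ x)
  rename_i zΩ
  have hzS : zΩ ∈ S := hfocS hz
  set z : S := ⟨zΩ, hzS⟩ with hzdef
  -- coordinates normalized along `z`
  let K : Subgroup (S × S) := (Subgroup.zpowers z).prod ⊤
  let l : ↥K →* Abelianization S :=
    (θ.comp ((MonoidHom.fst S S).comp K.subtype))⁻¹ * θ.comp ((MonoidHom.snd S S).comp K.subtype)
  have hCfix : ∀ x : X, ∀ g : ↥K, g ∈ stabilizer ↥K x → l g = 1 := by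
    intro x g hg
    obtain ⟨P, φ, hφ, h⟩ := hX x
    obtain ⟨h1, h2⟩ := (h g).1 hg
    have hgc : ((g : S × S).1 : Ω) ∈ F.center := by
      obtain ⟨i, hi⟩ := g.2.1
      have hi' : z ^ i = (g : S × S).1 := hi
      rw [← hi', Subgroup.coe_zpow]
      exact Subgroup.zpow_mem _ hzc i
    obtain ⟨ψ, hψ, hψe, hψfix⟩ := isCentral_extend (center_isCentral F) hφ
    have e : φ ⟨_, h1⟩ = ((g : S × S).1 : Ω) := by
      rw [← hψe _ h1 (Subgroup.mem_sup_left h1)]
      exact hψfix _ _ hgc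
    have e' : (g : S × S).1 = (g : S × S).2 := Subtype.ext (e.symm.trans h2)
    show (θ (g : S × S).1)⁻¹ * θ (g : S × S).2 = 1
    rw [e', inv_mul_cancel]
  letI actA : MulAction ↥K (Abelianization S) := MulAction.compHom _ l
  obtain ⟨μ, hμ⟩ := exists_equivariant (K := ↥K) (X := X) (Y := Abelianization S)
    fun x => ⟨(1 : Abelianization S), fun g hg => by
      show l g • (1 : Abelianization S) = (1 : Abelianization S)
      rw [hCfix x g hg, one_smul]⟩
  obtain ⟨m, r, hr, hm, hC⟩ := exists_coord (G := S) (free_of_fdiag hX)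
    (fun x => (μ x : Abelianization S) = 1) (fun x => by
      obtain ⟨u, hu⟩ := QuotientGroup.mk_surjective ((μ x : Abelianization S))⁻¹
      refine ⟨u, ?_⟩
      show μ ((⟨(1, u), Subgroup.one_mem _, Subgroup.mem_top u⟩ : ↥K) • x) = (1 : Abelianization S)
      rw [hμ]
      show (θ 1)⁻¹ * θ u * (μ x : Abelianization S) = 1
      rw [map_one, inv_one, one_mul, show θ u = (μ x : Abelianization S)⁻¹ from hu, inv_mul_cancel])
  have hmn : m = n := Nat.eq_of_mul_eq_mul_right (Nat.card_pos (α := S)) (hm.symm.trans hcard)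
  have htrz : tr hr θ z = θ z ^ n := by
    have hval : ∀ j, θ (coef hr z j) = θ z := fun j => by
      have hmem : ((z, coef hr z j) : S × S) ∈ K := ⟨Subgroup.mem_zpowers z, Subgroup.mem_top _⟩
      have h1 := hμ ⟨_, hmem⟩ (r j)
      rw [show ((⟨_, hmem⟩ : ↥K) • r j : X) = r (nxt hr z j) from coef_spec hr z j, hC] at h1
      have h2 : (1 : Abelianization S) = (θ z)⁻¹ * θ (coef hr z j) * (μ (r j) : Abelianization S) := h1
      rw [hC, mul_one, eq_comm, inv_mul_eq_one] at h2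
      exact h2.symm
    unfold tr
    rw [Finset.prod_congr rfl fun j _ => hval j, Finset.prod_const, Finset.card_univ, Fintype.card_fin, hmn]
  have hhom : ∀ x y, tr hr θ (x * y) = tr hr θ x * tr hr θ y := fun x y => by
    unfold tr
    rw [Finset.prod_congr rfl fun j _ => show θ (coef hr (x * y) j) = θ (coef hr x (nxt hr y j)) * θ (coef hr y j) by
      rw [coef_mul, map_mul], Finset.prod_mul_distrib, prod_nxt hr y fun j => θ (coef hr x j)]
  let h : S →* Abelianization S := MonoidHom.mk' _ hhom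
  have hfoc : ∀ y ∈ F.focalSubgroup, ∀ hy : y ∈ S, h ⟨y, hy⟩ = 1 := by
    have hle : F.focalSubgroup ≤ h.ker.map S.subtype := by
      refine (Subgroup.closure_le _).2 ?_
      rintro _ ⟨P, φ, x, hφ, rfl⟩
      have hxS := hom_le F hφ x.2
      have hφxS := hom_apply_mem F hφ x
      obtain ⟨e, he⟩ := exists_equiv_of_hom hX hst hφ
      have hc : tr hr θ (⟨x, hxS⟩ : S) = tr hr θ ⟨φ x, hφxS⟩ := by
        refine tr_congr hr θ (T := ⊤) inferInstance (fun a _ b _ => map_mul θ a b) (fun g a _ => ?_) e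
          (fun s y => he ⟨x, hxS⟩ x.2 s y) (fun s y => ?_) (fun _ => Subgroup.mem_top _) (fun _ => Subgroup.mem_top _)
        · rw [map_mul, map_mul, map_inv, mul_comm (θ g), mul_inv_cancel_right]
        · rw [he 1 P.one_mem s y]
          congr 2
          exact Subtype.ext (map_one φ)
      refine ⟨(⟨x, hxS⟩ : S)⁻¹ * ⟨φ x, hφxS⟩, ?_, rfl⟩
      show h _ = 1
      rw [map_mul, map_inv]
      exact inv_mul_eq_one.2 hc
    intro y hy hyS
    obtain ⟨w, hw, hwe⟩ := hle hy
    rw [show (⟨y, hyS⟩ : S) = w from Subtype.ext hwe.symm]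
    exact hw
  have h1 : θ z ^ n = 1 := htrz ▸ hfoc zΩ hz hzS
  haveI : Finite (Abelianization S) := Quotient.finite _
  have h2 : θ z = 1 := by
    have hA : IsPGroup p (Abelianization S) := hS.to_quotient _
    have hord := Nat.dvd_gcd (orderOf_dvd_natCard (θ z)) (orderOf_dvd_of_pow_eq_one h1)
    rw [coprime_of_isPGroup hA hn] at hord
    exact orderOf_eq_one_iff.1 (Nat.dvd_one.1 hord)
  have h3 : z ∈ commutator S := (QuotientGroup.eq_one_iff z).1 h2
  rw [← Subgroup.map_subtype_commutator]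
  exact ⟨z, h3, rfl⟩

/-- Maps of a saturated system are, modulo the hyperfocal subgroup, conjugations by elements of `S`. -/
theorem conj_mod_hyperfocal (hS : IsPGroup p S) (hF : F.IsSaturated p) {P : Subgroup Ω} {φ : P →* Ω}
    (hφ : φ ∈ F.Hom P) :
    ∃ b ∈ S, ∀ x : P, (b * x * b⁻¹)⁻¹ * φ x ∈ F.hyperfocalSubgroup p := by
  let E : FusionSystem S :=
    { Hom := fun P => {φ | φ ∈ F.Hom P ∧ ∃ b ∈ S, ∀ x : P, (b * x * b⁻¹)⁻¹ * φ x ∈ F.hyperfocalSubgroup p}
      le_of_mem := fun h => F.le_of_mem h.1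
      injective_of_mem := fun h => F.injective_of_mem h.1
      conj_mem := fun {P g} hP hg => ⟨F.conj_mem hP hg, g, hg, fun x => by
        show (g * x * g⁻¹)⁻¹ * (g * x * g⁻¹) ∈ _
        rw [inv_mul_cancel]; exact Subgroup.one_mem _⟩
      comp_mem := by
        rintro P Q φ ψ ⟨hφ, b, hb, hbx⟩ ⟨hψ, c, hc, hcx⟩ h
        refine ⟨F.comp_mem hφ hψ h, c * b, S.mul_mem hc hb, fun x => ?_⟩
        have h1 := hyperfocal_conj_mem F hc (hbx x)
        have h2 := Subgroup.mul_mem _ h1 (hcx ⟨φ x, h x⟩)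
        show _ * ψ ⟨φ x, h x⟩ ∈ _
        simpa [mul_assoc] using h2
      inv_mem := by
        rintro P φ ⟨hφ, b, hb, hbx⟩
        obtain ⟨ψ, hψ, hψe⟩ := F.inv_mem hφ
        refine ⟨ψ, ⟨hψ, b⁻¹, S.inv_mem hb, ?_⟩, hψe⟩
        rintro ⟨_, x, rfl⟩
        rw [hψe]
        show (b⁻¹ * φ x * b⁻¹⁻¹)⁻¹ * (x : Ω) ∈ _
        have h1 := hyperfocal_conj_mem F (S.inv_mem hb) (Subgroup.inv_mem _ (hbx x))
        simpa [mul_assoc] using h1 }
  suffices h : F ≤ E from (h P hφ).2
  refine alperin hS hF fun P hP α hα => ?_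
  have hn : F.IsFullyNormalized P := hP.elim (fun e => e ▸ fullyNormalized_top F) fun e => e.2.1
  have hPS := hn.1
  have := finite_of_le (S := S) hPS
  obtain ⟨T, hT⟩ := (fullyNormalized_imp hS hF hn).2.2
  haveI := Cfsg.Agent.PBasic.pResidual_normal_inst p (F.autGroup P)
  have hsup : (⟨α, hα⟩ : F.autGroup P) ∈ (T : Subgroup (F.autGroup P)) ⊔ pResidual p (F.autGroup P) := by
    rw [Cfsg.Agent.PBasic.sylow_sup_pResidual]; exact Subgroup.mem_top _
  rw [← SetLike.mem_coe, Subgroup.mul_normal] at hsup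
  obtain ⟨c, hc, r, hr, hcr⟩ := hsup
  rw [hT] at hc
  obtain ⟨g, hg, hge⟩ := (mem_autInducedBy_iff (c : MulAut P)).1 hc
  rw [mem_autGroup_iff E hPS]
  refine ⟨(mem_autGroup_iff F hPS α).1 hα, g, hg, fun x => ?_⟩
  show (g * x * g⁻¹)⁻¹ * ((α x : P) : Ω) ∈ _
  rw [show α = (c : MulAut P) * r from (congrArg Subtype.val hcr).symm, MulAut.mul_apply, hge]
  have h1 := hyperfocal_conj_mem F hg (hyperfocal_mem hPS hr x)
  simpa [mul_assoc] using h1

/-- An invariant homomorphism of the hyperfocal subgroup to a finite abelian `p`-group extends to `S`. -/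
theorem exists_extension (hS : IsPGroup p S) (hF : F.IsSaturated p) {A : Type*} [CommGroup A] [Finite A]
    (hA : IsPGroup p A) (θ : S → A)
    (hθ : ∀ a b : S, (a : Ω) ∈ F.hyperfocalSubgroup p → (b : Ω) ∈ F.hyperfocalSubgroup p → θ (a * b) = θ a * θ b)
    (hinv : ∀ g a : S, (a : Ω) ∈ F.hyperfocalSubgroup p → θ (g * a * g⁻¹) = θ a) :
    ∃ h : S →* A, ∀ t : S, (t : Ω) ∈ F.hyperfocalSubgroup p → h t = θ t := by
  classical
  set T : Subgroup S := (F.hyperfocalSubgroup p).subgroupOf S with hTdef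
  have hTn : T.Normal := ⟨fun n hn g => hyperfocal_conj_mem F g.2 hn⟩
  haveI := hTn
  have hθ' : ∀ a ∈ T, ∀ b ∈ T, θ (a * b) = θ a * θ b := fun a ha b hb => hθ a b ha hb
  have hθ1 : θ 1 = 1 := by
    have := hθ 1 1 T.one_mem T.one_mem
    rw [one_mul] at this
    exact mul_left_cancel (a := θ 1) (by rw [mul_one, ← this])
  have hθinv : ∀ a ∈ T, θ a⁻¹ = (θ a)⁻¹ := fun a ha => eq_inv_of_mul_eq_one_left (by
    rw [← hθ' _ (T.inv_mem ha) _ ha, inv_mul_cancel, hθ1])
  obtain ⟨X, _, _, n, hcard, hn, hX, hst⟩ := exists_biset hS hF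
  -- the two-sided action on `S/T`
  letI act : MulAction (S × S) (S ⧸ T) :=
    { smul := fun g y => QuotientGroup.mk g.2 * y * (QuotientGroup.mk g.1)⁻¹
      one_smul := fun y => by
        show QuotientGroup.mk (1 : S) * y * (QuotientGroup.mk (1 : S))⁻¹ = y
        simp
      mul_smul := fun g h y => by
        show QuotientGroup.mk (g.2 * h.2) * y * (QuotientGroup.mk (g.1 * h.1))⁻¹ =
          QuotientGroup.mk g.2 * (QuotientGroup.mk h.2 * y * (QuotientGroup.mk h.1)⁻¹) * (QuotientGroup.mk g.1)⁻¹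
        rw [QuotientGroup.mk_mul, QuotientGroup.mk_mul]
        group }
  obtain ⟨lam, hlam⟩ := exists_equivariant (K := S × S) (X := X) (Y := S ⧸ T) fun x => by
    obtain ⟨P, φ, hφ, h⟩ := hX x
    obtain ⟨b, hb, hbx⟩ := conj_mod_hyperfocal hS hF hφ
    refine ⟨QuotientGroup.mk ⟨b, hb⟩, fun g hg => ?_⟩
    obtain ⟨h1, h2⟩ := (h g).1 hg
    show QuotientGroup.mk g.2 * QuotientGroup.mk (⟨b, hb⟩ : S) * (QuotientGroup.mk g.1)⁻¹ =
      QuotientGroup.mk (⟨b, hb⟩ : S)
    have e : (QuotientGroup.mk g.2 : S ⧸ T) = QuotientGroup.mk ((⟨b, hb⟩ : S) * g.1 * (⟨b, hb⟩ : S)⁻¹) := by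
      refine (QuotientGroup.eq.2 ?_).symm
      rw [hTdef, Subgroup.mem_subgroupOf]
      have h3 := hbx ⟨g.1, h1⟩
      rw [h2] at h3
      exact h3
    rw [e, QuotientGroup.mk_mul, QuotientGroup.mk_mul, QuotientGroup.mk_inv]
    group
  obtain ⟨m, r, hr, hm, hC⟩ := exists_coord (G := S) (free_of_fdiag hX) (fun x => lam x = 1) (fun x => by
    obtain ⟨u, hu⟩ := QuotientGroup.mk_surjective (lam x)⁻¹
    refine ⟨u, ?_⟩
    rw [hlam]
    show QuotientGroup.mk u * lam x * (QuotientGroup.mk (1 : S))⁻¹ = 1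
    rw [hu, QuotientGroup.mk_one, inv_one, mul_one, inv_mul_cancel])
  obtain rfl : n = m := Nat.eq_of_mul_eq_mul_right (Nat.card_pos (α := S)) (hcard.symm.trans hm)
  have hs : ∀ x j, x⁻¹ * coef hr x j ∈ T := fun x j => by
    have h1 := hlam (x, coef hr x j) (r j)
    rw [coef_spec hr x j, hC] at h1
    have h2 : (1 : S ⧸ T) = QuotientGroup.mk (coef hr x j) * lam (r j) * (QuotientGroup.mk x)⁻¹ := h1
    rw [hC, mul_one, eq_comm, mul_inv_eq_one] at h2
    exact QuotientGroup.eq.1 h2.symm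
  have hsT : ∀ t ∈ T, ∀ j, coef hr t j ∈ T := fun t ht j => by
    simpa using T.mul_mem ht (hs t j)
  have htrinv : ∀ {P : Subgroup Ω} {φ : P →* Ω} (hφ : φ ∈ F.Hom P) (t t' : S) (htP : (t : Ω) ∈ P),
      φ ⟨t, htP⟩ = t' → t ∈ T → t' ∈ T → tr hr θ t = tr hr θ t' := by
    intro P φ hφ t t' htP het ht ht'
    obtain ⟨e, he⟩ := exists_equiv_of_hom hX hst hφ
    refine tr_congr hr θ hTn (fun a ha b hb => hθ a b ha hb) (fun g a ha => hinv g a ha) e
      (fun s y => ?_) (fun s y => ?_) (hsT t ht) (hsT t' ht')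
    · rw [he t htP s y]
      congr 2
      exact Subtype.ext het
    · rw [he 1 P.one_mem s y]
      congr 2
      exact Subtype.ext (map_one φ)
  have htrmul : ∀ a ∈ T, ∀ b ∈ T, tr hr θ (a * b) = tr hr θ a * tr hr θ b := fun a ha b hb => by
    unfold tr
    rw [Finset.prod_congr rfl fun j _ => show θ (coef hr (a * b) j) = θ (coef hr a (nxt hr b j)) * θ (coef hr b j) by
      rw [coef_mul, hθ _ _ (hsT a ha _) (hsT b hb _)], Finset.prod_mul_distrib,
      prod_nxt hr b fun j => θ (coef hr a j)]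
  have htr1 : tr hr θ 1 = 1 := mul_left_cancel (a := tr hr θ 1) (by
    rw [mul_one, ← htrmul 1 T.one_mem 1 T.one_mem, one_mul])
  -- the transfer kills the hyperfocal subgroup
  have hkill : ∀ t ∈ T, tr hr θ t = 1 := by
    have hgen : ∀ (Q : Subgroup Ω) (hQ : Q ≤ S) (α : F.autGroup Q), α ∈ pResidual p (F.autGroup Q) →
        ∀ (x : Q), tr hr θ ((⟨x, hQ x.2⟩ : S)⁻¹ * ⟨(α : MulAut Q) x, hQ ((α : MulAut Q) x).2⟩) = 1 := by
      intro Q hQ α hα
      haveI := finite_of_le (S := S) hQ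
      let δ : F.autGroup Q → Q → S := fun α x =>
        (⟨x, hQ x.2⟩ : S)⁻¹ * ⟨(α : MulAut Q) x, hQ ((α : MulAut Q) x).2⟩
      have hδT : ∀ β ∈ pResidual p (F.autGroup Q), ∀ x, δ β x ∈ T := fun β hβ x => hyperfocal_mem hQ hβ x
      have hδmul : ∀ β γ : F.autGroup Q, ∀ x, δ (β * γ) x = δ γ x * δ β ((γ : MulAut Q) x) := fun β γ x =>
        Subtype.ext (by simp [δ, mul_assoc])
      have hδ1 : ∀ x, δ 1 x = 1 := fun x => Subtype.ext (by simp [δ])
      have key : pResidual p (F.autGroup Q) ≤ Subgroup.closure {β : F.autGroup Q | Nat.Coprime (orderOf β) p} :=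
        le_of_eq rfl
      suffices hall : ∀ β : F.autGroup Q, β ∈ Subgroup.closure {β : F.autGroup Q | Nat.Coprime (orderOf β) p} →
          ∀ x, tr hr θ (δ β x) = 1 from hall α (key hα)
      intro β hβ
      induction hβ using Subgroup.closure_induction with
      | mem β hβ =>
        intro x
        have hβr : β ∈ pResidual p (F.autGroup Q) := Subgroup.subset_closure hβ
        have hstep : ∀ y, tr hr θ (δ β y) = tr hr θ (δ β ((β : MulAut Q) y)) := fun y => by
          have hmem : ((δ β y : S) : Ω) ∈ Q := Q.mul_mem (Q.inv_mem y.2) ((β : MulAut Q) y).2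
          refine htrinv ((mem_autGroup_iff F hQ _).1 β.2) _ _ hmem ?_ (hδT β hβr y) (hδT β hβr _)
          show (((β : MulAut Q) ⟨_, hmem⟩ : Q) : Ω) = _
          rw [show (⟨((δ β y : S) : Ω), hmem⟩ : Q) = y⁻¹ * (β : MulAut Q) y from rfl, map_mul, map_inv]
          rfl
        have hpow : ∀ i : ℕ, tr hr θ (δ (β ^ i) x) = tr hr θ (δ β x) ^ i ∧
            tr hr θ (δ β (((β ^ i : F.autGroup Q) : MulAut Q) x)) = tr hr θ (δ β x) := by
          intro i
          induction i with
          | zero => exact ⟨by rw [pow_zero, hδ1, htr1, pow_zero], by simp⟩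
          | succ i ih =>
            refine ⟨?_, ?_⟩
            · rw [pow_succ', hδmul, htrmul _ (hδT _ (Subgroup.pow_mem _ hβr i) x) _ (hδT β hβr _), ih.1, ih.2,
                pow_succ]
            · rw [pow_succ', Subgroup.coe_mul, MulAut.mul_apply, ← hstep, ih.2]
        have h1 := (hpow (orderOf β)).1
        rw [pow_orderOf_eq_one, hδ1, htr1] at h1
        have hord := Nat.dvd_gcd (orderOf_dvd_natCard (tr hr θ (δ β x))) (orderOf_dvd_of_pow_eq_one h1.symm)
        rw [coprime_of_isPGroup hA (fun h => hp.out.one_lt.ne'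
          (Nat.dvd_one.1 ((show Nat.Coprime (orderOf β) p from hβ).symm.eq_one_of_dvd h ▸ dvd_rfl)))] at hord
        exact orderOf_eq_one_iff.1 (Nat.dvd_one.1 hord)
      | one => intro x; rw [hδ1, htr1]
      | mul β γ hβ hγ ihβ ihγ =>
        intro x
        rw [hδmul, htrmul _ (hδT _ hγ x) _ (hδT _ hβ _), ihβ, ihγ, one_mul]
      | inv β hβ ih =>
        intro x
        have h1 := hδmul β β⁻¹ x
        rw [mul_inv_cancel, hδ1] at h1
        have h2 := congrArg (tr hr θ) h1
        rw [htr1, htrmul _ (hδT _ (Subgroup.inv_mem _ hβ) x) _ (hδT _ hβ _), ih, mul_one] at h2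
        exact h2.symm
    intro t ht
    have hle : F.hyperfocalSubgroup p ≤
        (Subgroup.map S.subtype
          { carrier := {t | t ∈ T ∧ tr hr θ t = 1}
            one_mem' := ⟨T.one_mem, htr1⟩
            mul_mem' := fun a b => ⟨T.mul_mem a.1 b.1, by rw [htrmul _ a.1 _ b.1, a.2, b.2, one_mul]⟩
            inv_mem' := fun {a} ha => ⟨T.inv_mem ha.1, by
              have := htrmul _ (T.inv_mem ha.1) _ ha.1
              rw [inv_mul_cancel, htr1, ha.2, mul_one] at this
              exact this.symm⟩ }) := by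
      refine (Subgroup.closure_le _).2 ?_
      rintro _ ⟨Q, α, x, hQ, hα, rfl⟩
      exact ⟨_, ⟨hyperfocal_mem hQ hα x, hgen Q hQ α hα x⟩, rfl⟩
    obtain ⟨w, hw, hwe⟩ := hle ht
    rw [show t = w from Subtype.ext hwe.symm]
    exact hw.2
  -- the extension
  let h0 : S → A := fun x => ∏ j, θ (x⁻¹ * coef hr x j)
  have h0mul : ∀ x y, h0 (x * y) = h0 x * h0 y := fun x y => by
    have e : ∀ j, (x * y)⁻¹ * coef hr (x * y) j =
        (y⁻¹ * (x⁻¹ * coef hr x (nxt hr y j)) * y) * (y⁻¹ * coef hr y j) := fun j => by rw [coef_mul]; group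
    show ∏ j, _ = _
    rw [Finset.prod_congr rfl fun j _ => show θ ((x * y)⁻¹ * coef hr (x * y) j) =
        θ (x⁻¹ * coef hr x (nxt hr y j)) * θ (y⁻¹ * coef hr y j) by
      rw [e, hθ' _ (by simpa using hTn.conj_mem _ (hs x _) y⁻¹) _ (hs y j)]
      congr 1
      simpa using hinv y⁻¹ (x⁻¹ * coef hr x (nxt hr y j)) (hs x (nxt hr y j)), Finset.prod_mul_distrib,
      prod_nxt hr y fun j => θ (x⁻¹ * coef hr x j)]
  have hcop : (Nat.card A).Coprime n := coprime_of_isPGroup hA hn
  refine ⟨MonoidHom.mk' (fun x => (powCoprime hcop).symm (h0 x)⁻¹) fun x y => ?_, fun t ht => ?_⟩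
  · refine (powCoprime hcop).injective ?_
    rw [Equiv.apply_symm_apply, h0mul, mul_inv]
    refine Eq.trans ?_ (mul_pow _ _ n).symm
    exact (congrArg₂ (· * ·) ((powCoprime hcop).apply_symm_apply _) ((powCoprime hcop).apply_symm_apply _)).symm
  · show (powCoprime hcop).symm (h0 t)⁻¹ = θ t
    rw [Equiv.symm_apply_eq]
    show (∏ j, θ (t⁻¹ * coef hr t j))⁻¹ = θ t ^ n
    rw [Finset.prod_congr rfl fun j _ => show θ (t⁻¹ * coef hr t j) = (θ t)⁻¹ * θ (coef hr t j) by
      rw [hθ' _ (T.inv_mem ht) _ (hsT t ht j), hθinv t ht], Finset.prod_mul_distrib, Finset.prod_const,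
      Finset.card_univ, Fintype.card_fin]
    show ((θ t)⁻¹ ^ n * tr hr θ t)⁻¹ = _
    rw [hkill t ht, mul_one, inv_pow, inv_inv]

omit hp in
theorem hyperfocal_mono {E : FusionSystem S} (h : E.IsSubsystemOf F) :
    E.hyperfocalSubgroup p ≤ F.hyperfocalSubgroup p := by
  refine (Subgroup.closure_le _).2 ?_
  rintro _ ⟨P, α, x, hP, hα, rfl⟩
  have := Cfsg.Agent.PBasic.map_pResidual_le (p := p) (Subgroup.inclusion (autGroup_mono h P)) ⟨α, hα, rfl⟩
  exact Subgroup.subset_closure ⟨P, _, x, hP, this, rfl⟩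

/-- If the hyperfocal subgroups agree modulo `Φ(S)`, they agree. -/
theorem hyperfocal_eq_of_frattini (hS : IsPGroup p S) (hF : F.IsSaturated p) {E : FusionSystem S}
    (hle : E.IsSubsystemOf F)
    (h : F.hyperfocalSubgroup p ≤ (frattini S).map S.subtype ⊔ E.hyperfocalSubgroup p) :
    F.hyperfocalSubgroup p = E.hyperfocalSubgroup p := by
  classical
  refine le_antisymm ?_ (hyperfocal_mono hle)
  by_contra hne
  set T : Subgroup S := (F.hyperfocalSubgroup p).subgroupOf S with hT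
  set R : Subgroup S := (E.hyperfocalSubgroup p).subgroupOf S with hR
  haveI : T.Normal := ⟨fun n hn g => hyperfocal_conj_mem F g.2 hn⟩
  haveI : R.Normal := ⟨fun n hn g => hyperfocal_conj_mem E g.2 hn⟩
  set U : Subgroup S := R ⊔ ⁅T, (⊤ : Subgroup S)⁆ with hU
  have hRT : R ≤ T := fun x hx => hyperfocal_mono hle hx
  have hUT : U ≤ T := sup_le hRT (Subgroup.commutator_le_left T ⊤)
  haveI := Cfsg.Agent.Fusion.sylow_isNilpotent (G := S) (p := p)
  have hTU : ¬ T ≤ U := fun hTU => hne fun x hx => by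
    haveI : Group.IsNilpotent S := hS.isNilpotent
    exact Cfsg.Agent.Fusion.le_of_le_commutator_sup_normal T R (by rw [sup_comm]; exact hTU)
      (show (⟨x, hyperfocal_le F hx⟩ : S) ∈ T from hx)
  haveI : U.Normal := Subgroup.sup_normal _ _
  let A := ↥T ⧸ U.subgroupOf T
  letI : CommGroup A :=
    { (inferInstance : Group A) with
      mul_comm := by
        rintro ⟨a⟩ ⟨b⟩
        refine QuotientGroup.eq.2 ?_
        rw [Subgroup.mem_subgroupOf]
        have h1 : ⁅((b : S))⁻¹, ((a : S))⁻¹⁆ ∈ U := Subgroup.mem_sup_right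
          (Subgroup.commutator_mem_commutator (T.inv_mem b.2) (Subgroup.mem_top _))
        simpa [commutatorElement_def, mul_assoc] using h1 }
  let θ : S → A := fun x => if hx : x ∈ T then QuotientGroup.mk ⟨x, hx⟩ else 1
  have hθv : ∀ x (hx : x ∈ T), θ x = QuotientGroup.mk ⟨x, hx⟩ := fun x hx => dif_pos hx
  obtain ⟨f, hf⟩ := exists_extension hS hF (A := A) ((hS.to_subgroup T).to_quotient _) θ
    (fun a b ha hb => by
      rw [hθv (a * b) (T.mul_mem ha hb), hθv a ha, hθv b hb]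
      rfl)
    (fun g a ha => by
      rw [hθv (g * a * g⁻¹) (‹T.Normal›.conj_mem a ha g), hθv a ha]
      refine QuotientGroup.eq.2 ?_
      rw [Subgroup.mem_subgroupOf]
      have h1 : ⁅g, a⁻¹⁆ ∈ U := Subgroup.mem_sup_right (by
        rw [Subgroup.commutator_comm]
        exact Subgroup.commutator_mem_commutator (Subgroup.mem_top _) (T.inv_mem ha))
      simpa [commutatorElement_def, mul_assoc] using h1)
  have hsurj : Function.Surjective f := by
    rintro ⟨a⟩
    exact ⟨a, (hf a a.2).trans (hθv a a.2)⟩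
  haveI : Nontrivial A := by
    refine QuotientGroup.nontrivial_iff.2 ?_
    rw [ne_eq, Subgroup.subgroupOf_eq_top]
    exact hTU
  have hfr : ∀ a : A, a ∈ frattini A := by
    rintro ⟨a⟩
    have h1 : ((a : S) : Ω) ∈ ((frattini S ⊔ R).map S.subtype) := by
      rw [Subgroup.map_sup, hR, Subgroup.map_subgroupOf_eq_of_le (hyperfocal_le E)]
      exact h a.2
    obtain ⟨w, hw, hwe⟩ := h1
    have hw' : (a : S) ∈ frattini S ⊔ R := by
      rwa [← show w = (a : S) from Subtype.ext hwe]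
    rw [← SetLike.mem_coe, Subgroup.mul_normal] at hw'
    obtain ⟨φ, hφ, u, hu, hφu⟩ := hw'
    have e : (Quot.mk _ a : A) = f (a : S) := ((hf a a.2).trans (hθv a a.2)).symm
    have hfu : f u = 1 := by
      rw [hf u (hRT hu), hθv u (hRT hu)]
      exact (QuotientGroup.eq_one_iff _).2 (Subgroup.mem_sup_left hu)
    rw [e, ← hφu, map_mul, hfu, mul_one]
    exact frattini_le_comap_frattini_of_surjective hsurj hφ
  obtain ⟨K, hK, -⟩ := (eq_top_or_exists_le_coatom (⊥ : Subgroup A)).resolve_left bot_ne_top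
  exact hK.1 (eq_top_iff.2 fun a _ => frattini_le_coatom hK (hfr a))

/-- Tate's theorem: agreement of focal subgroups modulo `Φ(S)` gives agreement. -/
theorem tate (hS : IsPGroup p S) (hF : F.IsSaturated p) {E : FusionSystem S} (hE : E.IsSaturated p)
    (hle : E.IsSubsystemOf F) :
    ((frattini S).map S.subtype ⊔ F.focalSubgroup = (frattini S).map S.subtype ⊔ E.focalSubgroup ↔
        F.focalSubgroup = E.focalSubgroup) ∧
      (F.focalSubgroup = E.focalSubgroup ↔ F.hyperfocalSubgroup p = E.hyperfocalSubgroup p) := by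
  haveI : Group.IsNilpotent S := hS.isNilpotent
  have hc : ⁅S, S⁆ ≤ (frattini S).map S.subtype := by
    rw [← Subgroup.map_subtype_commutator]
    exact Subgroup.map_mono (Cfsg.Agent.SolvStruct.commutator_le_frattini S)
  have hfwd : F.hyperfocalSubgroup p = E.hyperfocalSubgroup p → F.focalSubgroup = E.focalSubgroup := fun h => by
    rw [focal_eq hS hF, focal_eq hS hE, h]
  have hkey : (frattini S).map S.subtype ⊔ F.focalSubgroup = (frattini S).map S.subtype ⊔ E.focalSubgroup →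
      F.hyperfocalSubgroup p = E.hyperfocalSubgroup p := fun h => by
    refine hyperfocal_eq_of_frattini hS hF hle ?_
    rw [focal_eq hS hF, focal_eq hS hE] at h
    calc F.hyperfocalSubgroup p ≤ (frattini S).map S.subtype ⊔ (F.hyperfocalSubgroup p ⊔ ⁅S, S⁆) :=
          le_sup_left.trans le_sup_right
      _ = (frattini S).map S.subtype ⊔ (E.hyperfocalSubgroup p ⊔ ⁅S, S⁆) := h
      _ ≤ _ := sup_le le_sup_left (sup_le le_sup_right (hc.trans le_sup_left))
  exact ⟨⟨fun h => hfwd (hkey h), fun h => by rw [h]⟩, ⟨fun h => hkey (by rw [h]), hfwd⟩⟩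

end Cfsg.Agent.FusionSys
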