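import Cfsg.Prelude.Def_FusionSystem
import Mathlib.SetTheory.Cardinal.Finite
import Mathlib.GroupTheory.Index

/-!
# A strict inclusion of finite subgroups has smaller order
-/

set_option autoImplicit false

namespace Cfsg.Agent.FusionSys

variable {Ω : Type*} [Group Ω]

theorem card_lt_of_lt {A B : Subgroup Ω} [Finite B] (h : A < B) : Nat.card A < Nat.card B := by
  refine lt_of_le_of_ne (Subgroup.card_le_of_le h.le) fun he => h.ne (Subgroup.eq_of_le_of_card_ge h.le he.ge)

end Cfsg.Agent.FusionSys
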