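import Cfsg.Agent.Lib.Fusion.InnerCriteria
import Cfsg.Agent.Lib.Functors.JQuad

/-!
# Fusion in constrained groups is generated by `C(℧¹(Z(T)))` and `N(J(T))`
-/

set_option autoImplicit false
set_option linter.style.haveILetI false

namespace Cfsg.Agent.CentNorm

open Cfsg

universe u

variable {p : ℕ} [hp : Fact p.Prime]

/-- A quadratic element of order `p` modulo `O_p` centralizes `p`-th powers of the centre of `O_p`. -/
theorem exists_outside_centralizing {L : Type u} [Group L] [Finite L] (T : Sylow p L)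
    (hJ : ¬ (thompsonSubgroupAOf (T : Subgroup L)).Normal) :
    ∃ g ∈ (T : Subgroup L), g ∉ pCore p L ∧
      g ∈ Subgroup.centralizer ((powerClosure p 1 (pCore p L ⊓ Subgroup.centralizer ((pCore p L : Subgroup L) : Set L))
        : Subgroup L) : Set L) := by
  haveI hcn := Cfsg.Agent.FiniteGroup.pCore_normal (G := L) p
  set Q := pCore p L with hQ
  set V := Q ⊓ Subgroup.centralizer ((Q : Subgroup L) : Set L) with hV
  obtain ⟨g₀, hg₀T, hg₀Q, hq⟩ := Cfsg.Agent.JQuad.exists_quadratic T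
    (by rwa [← Cfsg.Agent.JQuad.thompsonSubgroupAOf_eq (p := p)])
  obtain ⟨k, hk⟩ := T.isPGroup' ⟨g₀, hg₀T⟩
  have hk' : g₀ ^ p ^ k ∈ Q := by rw [show g₀ ^ p ^ k = 1 from congrArg Subtype.val hk]; exact Q.one_mem
  obtain ⟨j, hj1, hj2⟩ : ∃ j, g₀ ^ p ^ j ∉ Q ∧ (g₀ ^ p ^ j) ^ p ∈ Q := by
    by_contra hcon
    have : ∀ j, g₀ ^ p ^ j ∉ Q := by
      intro j
      induction j with
      | zero => simpa using hg₀Q
      | succ j ihj =>
        intro h
        exact hcon ⟨j, ihj, by rwa [← pow_mul, ← pow_succ]⟩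
    exact this k hk'
  set g := g₀ ^ p ^ j with hg
  refine ⟨g, (T : Subgroup L).pow_mem hg₀T _, hj1, Subgroup.mem_centralizer_iff.2 fun x hx => ?_⟩
  suffices h : powerClosure p 1 V ≤ Subgroup.centralizer ({g} : Set L) by
    exact (Subgroup.mem_centralizer_iff.1 (h hx) g rfl).symm
  refine (Subgroup.closure_le _).2 ?_
  rintro _ ⟨v, hv, rfl⟩
  rw [pow_one]
  set c := g * v * g⁻¹ * v⁻¹ with hc
  have hgz : g ∈ Subgroup.zpowers g₀ := Subgroup.mem_zpowers_iff.2 ⟨((p ^ j : ℕ) : ℤ), by rw [zpow_natCast]⟩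
  have hvc : c⁻¹ ∈ ⁅V, Subgroup.zpowers g₀⁆ := by
    have h := Subgroup.commutator_mem_commutator hv hgz
    rw [commutatorElement_def] at h
    rwa [hc, show (g * v * g⁻¹ * v⁻¹)⁻¹ = v * g * v⁻¹ * g⁻¹ by group]
  have hgc : Commute g c := by
    have h := Subgroup.commutator_mem_commutator hvc hgz
    rw [hq, Subgroup.mem_bot, commutatorElement_eq_one_iff_mul_comm] at h
    exact (inv_inv c ▸ (show Commute c⁻¹ g from h).inv_left).symm
  have hcV : c ∈ V := by
    haveI : V.Normal := by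
      refine ⟨fun y hy h => ⟨hcn.conj_mem y hy.1 h, Subgroup.mem_centralizer_iff.2 fun q hq' => ?_⟩⟩
      have hq'' : h⁻¹ * q * h ∈ Q := by simpa using hcn.conj_mem q hq' h⁻¹
      calc q * (h * y * h⁻¹) = h * (h⁻¹ * q * h * y) * h⁻¹ := by group
        _ = h * (y * (h⁻¹ * q * h)) * h⁻¹ := by rw [Subgroup.mem_centralizer_iff.1 hy.2 _ hq'']
        _ = h * y * h⁻¹ * q := by group
    exact V.mul_mem (Subgroup.Normal.conj_mem inferInstance v hv g) (V.inv_mem hv)
  have hiter : ∀ n : ℕ, g ^ n * v * (g ^ n)⁻¹ = c ^ n * v := by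
    intro n
    induction n with
    | zero => simp
    | succ n ih =>
      have e : g * (g ^ n * v * (g ^ n)⁻¹) * g⁻¹ = g ^ (n + 1) * v * (g ^ (n + 1))⁻¹ := by
        rw [pow_succ' g n]; group
      rw [← e, ih, show g * (c ^ n * v) * g⁻¹ = (g * c ^ n) * v * g⁻¹ by group, (hgc.pow_right n).eq,
        show c ^ n * g * v * g⁻¹ = c ^ n * ((g * v * g⁻¹ * v⁻¹) * v) by group, ← hc, pow_succ]
      group
  have hcomm : Commute c v := Subgroup.mem_centralizer_iff.1 (Subgroup.mem_inf.1 hv).2 c hcV.1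
  have hcp : c ^ p = 1 := by
    have h := hiter p
    have hgv : Commute (g ^ p) v := Subgroup.mem_centralizer_iff.1 (Subgroup.mem_inf.1 hv).2 _ hj2
    rw [hgv.eq, mul_inv_cancel_right] at h
    exact mul_eq_right.1 h.symm
  rw [SetLike.mem_coe, Subgroup.mem_centralizer_iff]
  intro a ha
  rw [Set.mem_singleton_iff] at ha
  rw [ha]
  refine mul_inv_eq_iff_eq_mul.1 ?_
  rw [← conj_pow, show g * v * g⁻¹ = c * v by rw [hc]; group, hcomm.mul_pow, hcp, one_mul]

/-- The generation lemma. -/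
theorem factor_fusion : ∀ (L : Type u) [Group L] [Finite L] (T : Sylow p L),
    Subgroup.centralizer ((pCore p L : Subgroup L) : Set L) ≤ pCore p L →
    ∀ R : Subgroup L → L → Prop,
    (∀ A : Subgroup L, A ≤ T → ∀ h₁ h₂ : L, (∀ a ∈ A, h₁ * a * h₁⁻¹ ∈ (T : Subgroup L)) →
      (∀ a ∈ A, h₂ * (h₁ * a * h₁⁻¹) * h₂⁻¹ ∈ (T : Subgroup L)) →
      R A h₁ → R (A.map (MulAut.conj h₁).toMonoidHom) h₂ → R A (h₂ * h₁)) →
    (∀ A : Subgroup L, A ≤ T → ∀ g ∈ Subgroup.centralizer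
      ((powerClosure p 1 ((T : Subgroup L) ⊓ Subgroup.centralizer ((T : Subgroup L) : Set L)) : Subgroup L) : Set L),
      (∀ a ∈ A, g * a * g⁻¹ ∈ (T : Subgroup L)) → R A g) →
    (∀ A : Subgroup L, A ≤ T → ∀ g ∈ Subgroup.normalizer ((thompsonSubgroupAOf (T : Subgroup L)) : Set L),
      (∀ a ∈ A, g * a * g⁻¹ ∈ (T : Subgroup L)) → R A g) →
    ∀ A : Subgroup L, A ≤ T → ∀ g : L, (∀ a ∈ A, g * a * g⁻¹ ∈ (T : Subgroup L)) → R A g := by
  intro L _ _
  induction hn : Nat.card L using Nat.strong_induction_on generalizing L with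
  | _ n ih =>
  intro T hc R hcomp hC hN A hA g hg
  by_cases hJ : (thompsonSubgroupAOf (T : Subgroup L)).Normal
  · exact hN A hA g (by rw [Subgroup.normalizer_eq_top_iff.2 hJ]; trivial) hg
  haveI hcn := Cfsg.Agent.FiniteGroup.pCore_normal (G := L) p
  set Q := pCore p L with hQ
  have hQT : Q ≤ (T : Subgroup L) := Cfsg.Agent.PBasic.pCore_le_sylow T
  set D := powerClosure p 1 (Q ⊓ Subgroup.centralizer ((Q : Subgroup L) : Set L)) with hD
  set K := Subgroup.centralizer ((D : Subgroup L) : Set L) with hK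
  haveI hKn : K.Normal := by
    refine ⟨fun k hk h => Subgroup.mem_centralizer_iff.2 fun x hx => ?_⟩
    suffices hD' : D ≤ Subgroup.centralizer ({h * k * h⁻¹} : Set L) by
      exact (Subgroup.mem_centralizer_iff.1 (hD' hx) _ rfl).symm
    refine (Subgroup.closure_le _).2 ?_
    rintro _ ⟨v, hv, rfl⟩
    rw [SetLike.mem_coe, Subgroup.mem_centralizer_iff]
    rintro a ha
    rw [Set.mem_singleton_iff] at ha
    rw [ha]
    have hv' : h⁻¹ * v * h⁻¹⁻¹ ∈ Q ⊓ Subgroup.centralizer ((Q : Subgroup L) : Set L) := by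
      refine ⟨hcn.conj_mem v hv.1 _, Subgroup.mem_centralizer_iff.2 fun q hq => ?_⟩
      rw [inv_inv]
      have hq' : h * q * h⁻¹ ∈ Q := hcn.conj_mem q hq h
      calc q * (h⁻¹ * v * h) = h⁻¹ * (h * q * h⁻¹ * v) * h := by group
        _ = h⁻¹ * (v * (h * q * h⁻¹)) * h := by rw [Subgroup.mem_centralizer_iff.1 hv.2 _ hq']
        _ = h⁻¹ * v * h * q := by group
    have hk' := Subgroup.mem_centralizer_iff.1 hk _ (Subgroup.subset_closure ⟨_, hv', rfl⟩)
    rw [conj_pow, inv_inv] at hk'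
    calc h * k * h⁻¹ * v ^ p ^ 1 = h * (k * (h⁻¹ * v ^ p ^ 1 * h)) * h⁻¹ := by group
      _ = h * (h⁻¹ * v ^ p ^ 1 * h * k) * h⁻¹ := by rw [hk']
      _ = v ^ p ^ 1 * (h * k * h⁻¹) := by group
  have hKC : K ≤ Subgroup.centralizer
      ((powerClosure p 1 ((T : Subgroup L) ⊓ Subgroup.centralizer ((T : Subgroup L) : Set L)) : Subgroup L) : Set L) := by
    refine Subgroup.centralizer_le (Subgroup.closure_mono ?_)
    rintro _ ⟨v, hv, rfl⟩
    exact ⟨v, ⟨hc (Subgroup.centralizer_le hQT hv.2), Subgroup.centralizer_le hQT hv.2⟩, rfl⟩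
  set P := (T : Subgroup L) ⊓ K with hP
  obtain ⟨x, hxT, hxQ, hxK⟩ := exists_outside_centralizing T hJ
  set N := Subgroup.normalizer (P : Set L) with hNdef
  have hTN : (T : Subgroup L) ≤ N := by
    have h : ∀ g ∈ (T : Subgroup L), ∀ x ∈ P, g * x * g⁻¹ ∈ P := fun g hg x hx =>
      ⟨(T : Subgroup L).mul_mem ((T : Subgroup L).mul_mem hg hx.1) ((T : Subgroup L).inv_mem hg),
        hKn.conj_mem x hx.2 g⟩
    exact fun g hg => Cfsg.Agent.FusionSys.mem_normalizer_of_conj_mem g (fun x hx => h g hg x hx) fun x hx => by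
      simpa using h g⁻¹ (Subgroup.inv_mem _ hg) x hx
  have hNne : N ≠ ⊤ := fun e => hxQ (Cfsg.Agent.PBasic.le_pCore (Subgroup.normalizer_eq_top_iff.1 e)
    (T.isPGroup'.to_le inf_le_left) (show x ∈ P from ⟨hxT, hxK⟩))
  have hlt : Nat.card N < n := hn ▸ lt_of_le_of_ne (Subgroup.card_le_card_group N) fun e =>
    hNne ((Subgroup.card_eq_iff_eq_top N).1 e)
  obtain ⟨QK, hQK⟩ := Cfsg.Agent.PBasic.exists_sylow_subgroupOf T K
  have hfr : N ⊔ K = ⊤ := by
    have := Sylow.normalizer_sup_eq_top QK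
    rwa [hQK, Subgroup.subgroupOf_map_subtype] at this
  obtain ⟨k, hk, m, hm, rfl⟩ : ∃ k ∈ K, ∃ m ∈ N, k * m = g := by
    have hgm : g ∈ K ⊔ N := by rw [sup_comm, hfr]; trivial
    exact Subgroup.mem_sup_of_normal_left.1 hgm
  -- move the intermediate subgroup into `T`
  set M := ((T : Subgroup L) ⊔ K) ⊓ N with hM
  have hTM : (T : Subgroup L) ≤ M := le_inf le_sup_left hTN
  have hA1 : A.map (MulAut.conj m).toMonoidHom ≤ M := by
    rintro _ ⟨a, ha, rfl⟩
    refine ⟨?_, N.mul_mem (N.mul_mem hm (hTN (hA ha))) (N.inv_mem hm)⟩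
    show m * a * m⁻¹ ∈ _
    rw [show m * a * m⁻¹ = k⁻¹ * (k * m * a * (k * m)⁻¹) * k by group]
    exact Subgroup.mul_mem _ (Subgroup.mul_mem _ (Subgroup.mem_sup_right (K.inv_mem hk))
      (Subgroup.mem_sup_left (hg a ha))) (Subgroup.mem_sup_right hk)
  obtain ⟨T', hT'⟩ := IsPGroup.exists_le_sylow (G := M) (P := (A.map (MulAut.conj m).toMonoidHom).subgroupOf M)
    (((T.isPGroup'.to_le hA).map _).comap_subtype)
  obtain ⟨y, hy⟩ := MulAction.exists_smul_eq M T' (T.subtype hTM)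
  obtain ⟨t, ht, k2, hk2, hyk⟩ : ∃ t ∈ (T : Subgroup L), ∃ k2 ∈ K, t * k2 = (y : L) :=
    Subgroup.mem_sup_of_normal_right.1 (Subgroup.mem_inf.1 y.2).1
  have hk2N : k2 ∈ N := by
    have := N.mul_mem (N.inv_mem (hTN ht)) (Subgroup.mem_inf.1 y.2).2
    rwa [← hyk, inv_mul_cancel_left] at this
  have hmid : ∀ a ∈ A, k2 * m * a * (k2 * m)⁻¹ ∈ (T : Subgroup L) := by
    intro a ha
    have h1 : (⟨m * a * m⁻¹, hA1 ⟨a, ha, rfl⟩⟩ : M) ∈ (T' : Subgroup M) :=
      hT' (Subgroup.mem_subgroupOf.2 ⟨a, ha, rfl⟩)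
    have h2 : y * ⟨m * a * m⁻¹, hA1 ⟨a, ha, rfl⟩⟩ * y⁻¹ ∈ ((T.subtype hTM : Sylow p M) : Subgroup M) := by
      rw [← hy, Sylow.coe_subgroup_smul]
      exact ⟨_, h1, rfl⟩
    rw [Sylow.coe_subtype, Subgroup.mem_subgroupOf] at h2
    have h3 : (T : Subgroup L).carrier (t⁻¹ * ((y : L) * (m * a * m⁻¹) * (y : L)⁻¹) * t) :=
      (T : Subgroup L).mul_mem ((T : Subgroup L).mul_mem ((T : Subgroup L).inv_mem ht) h2) ht
    rw [show k2 * m * a * (k2 * m)⁻¹ = t⁻¹ * ((y : L) * (m * a * m⁻¹) * (y : L)⁻¹) * t by rw [← hyk]; group]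
    exact h3
  have hsplit : k * m = (k * k2⁻¹) * (k2 * m) := by group
  have hlast : ∀ a ∈ A, k * k2⁻¹ * (k2 * m * a * (k2 * m)⁻¹) * (k * k2⁻¹)⁻¹ ∈ (T : Subgroup L) := fun a ha => by
    rw [show k * k2⁻¹ * (k2 * m * a * (k2 * m)⁻¹) * (k * k2⁻¹)⁻¹ = k * m * a * (k * m)⁻¹ by group]
    exact hg a ha
  rw [hsplit]
  refine hcomp A hA _ _ hmid hlast ?_ ?_
  · -- the part in `N`
    set T₁ := T.subtype hTN with hT₁
    have hT₁map : (T₁ : Subgroup N).map N.subtype = T := by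
      rw [hT₁, Sylow.coe_subtype, Subgroup.subgroupOf_map_subtype, inf_eq_left.2 hTN]
    have h := ih _ hlt N rfl T₁ (Cfsg.Agent.FusionSys.pCore_centralizer_of_le (hQT.trans hTN) hc)
      (fun B b => R (B.map N.subtype) (b : L)) ?_ ?_ ?_ (A.subgroupOf N) ?_ ⟨k2 * m, N.mul_mem hk2N hm⟩ ?_
    · rwa [Subgroup.subgroupOf_map_subtype, inf_eq_left.2 (hA.trans hTN)] at h
    · intro B hB h₁ h₂ c₁ c₂ r₁ r₂
      refine hcomp _ ((Subgroup.map_mono hB).trans hT₁map.le) h₁ h₂ ?_ ?_ r₁ ?_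
      · rintro _ ⟨b, hb, rfl⟩; exact c₁ b hb
      · rintro _ ⟨b, hb, rfl⟩; exact c₂ b hb
      · show R _ (h₂ : L)
        have e : (B.map (MulAut.conj h₁).toMonoidHom).map N.subtype =
            (B.map N.subtype).map (MulAut.conj (h₁ : L)).toMonoidHom := by
          rw [Subgroup.map_map, Subgroup.map_map]; rfl
        rwa [← e]
    · intro B hB b hb hbc
      refine hC _ ((Subgroup.map_mono hB).trans hT₁map.le) b ?_ (by rintro _ ⟨c, hc', rfl⟩; exact hbc c hc')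
      suffices hle : powerClosure p 1 ((T : Subgroup L) ⊓ Subgroup.centralizer ((T : Subgroup L) : Set L)) ≤
          Subgroup.centralizer ({(b : L)} : Set L) from
        Subgroup.mem_centralizer_iff.2 fun z hz => (Subgroup.mem_centralizer_iff.1 (hle hz) _ rfl).symm
      refine (Subgroup.closure_le _).2 ?_
      rintro _ ⟨v, hv, rfl⟩
      rw [SetLike.mem_coe, Subgroup.mem_centralizer_iff]
      intro a ha
      rw [Set.mem_singleton_iff] at ha
      rw [ha]
      have hz : (⟨v ^ p ^ 1, N.pow_mem (hTN hv.1) _⟩ : N) ∈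
          powerClosure p 1 ((T₁ : Subgroup N) ⊓ Subgroup.centralizer ((T₁ : Subgroup N) : Set N)) :=
        Subgroup.subset_closure ⟨⟨v, hTN hv.1⟩, ⟨hv.1, Subgroup.mem_centralizer_iff.2 fun w hw =>
          Subtype.ext (Subgroup.mem_centralizer_iff.1 hv.2 (w : L) hw)⟩, Subtype.ext (by simp)⟩
      exact (congrArg Subtype.val (Subgroup.mem_centralizer_iff.1 hb _ hz)).symm
    · intro B hB b hb hbc
      refine hN _ ((Subgroup.map_mono hB).trans hT₁map.le) b ?_ (by rintro _ ⟨c, hc', rfl⟩; exact hbc c hc')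
      have e : thompsonSubgroupAOf (T : Subgroup L) = (thompsonSubgroupAOf (T₁ : Subgroup N)).map N.subtype := by
        conv_lhs => rw [← hT₁map]
        exact Cfsg.Agent.Functors.inducedFunctor_map_of_injective
          (Cfsg.Agent.FusionSys.isCharPFunctor_thompsonA p) T₁.isPGroup' N.subtype_injective
      rw [e]
      exact Subgroup.le_normalizer_map N.subtype ⟨b, hb, rfl⟩
    · exact fun a ha => hA ha
    · exact fun a ha => hmid a ha
  · refine hC _ ?_ _ (hKC (K.mul_mem hk (K.inv_mem hk2))) ?_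
    · rintro _ ⟨a, ha, rfl⟩; exact hmid a ha
    · rintro _ ⟨a, ha, rfl⟩; exact hlast a ha

end Cfsg.Agent.CentNorm
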