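import Cfsg.Agent.Lib.Fusion.CentNormFusion

/-!
# A saturated system is generated by `C_F(℧¹(Z(S)))` and `N_F(J(S))`
-/

set_option autoImplicit false
set_option linter.style.haveILetI false

namespace Cfsg.Agent.FusionSys

open Cfsg Cfsg.FusionSystem

universe u

variable {Ω : Type u} [Group Ω] {S : Subgroup Ω} [Finite S] {p : ℕ} [hp : Fact p.Prime] {F : FusionSystem S}

omit [Finite S] hp in
/-- Transport of a map along a map of both systems. -/
theorem exists_transport (E : FusionSystem S) {N : Subgroup Ω} {χ : N →* Ω} (hχ : χ ∈ F.Hom N) (hχE : χ ∈ E.Hom N)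
    {P : Subgroup Ω} (hP : P ≤ N) {φ : P →* Ω} (hφ : φ ∈ F.Hom P) (hφN : ∀ x, φ x ∈ N) :
    ∃ φ' ∈ F.Hom ((P.subgroupOf N).map χ),
      (∀ (x : P) (h : χ ⟨x, hP x.2⟩ ∈ (P.subgroupOf N).map χ), φ' ⟨χ ⟨x, hP x.2⟩, h⟩ = χ ⟨φ x, hφN x⟩) ∧
        (φ' ∈ E.Hom _ → φ ∈ E.Hom P) := by
  obtain ⟨ψ, hψ, -, h1, -⟩ := exists_inv F hχ
  have hle : (P.subgroupOf N).map χ ≤ χ.range := Subgroup.map_le_range _ _
  have hσP : ∀ y, (ψ.comp (Subgroup.inclusion hle)) y ∈ P := by
    rintro ⟨_, x, hx, rfl⟩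
    show ψ ⟨χ x, _⟩ ∈ P
    rw [h1 x]; exact hx
  have hσ := restrict_mem F hψ hle
  have hφσ := F.comp_mem hσ hφ hσP
  have hN' : ∀ y, (φ.comp ((ψ.comp (Subgroup.inclusion hle)).codRestrict P hσP)) y ∈ N := fun y => hφN _
  have hall := F.comp_mem hφσ hχ hN'
  have hform : ∀ (x : P) (h : χ ⟨x, hP x.2⟩ ∈ (P.subgroupOf N).map χ),
      χ.comp ((φ.comp ((ψ.comp (Subgroup.inclusion hle)).codRestrict P hσP)).codRestrict N hN') ⟨χ ⟨x, hP x.2⟩, h⟩ =
        χ ⟨φ x, hφN x⟩ := by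
    intro x h
    refine congrArg χ (Subtype.ext ?_)
    refine congrArg φ (Subtype.ext ?_)
    exact h1 ⟨x, hP x.2⟩ _
  refine ⟨_, hall, hform, fun hE => ?_⟩
  -- back along `χ`
  obtain ⟨ψE, hψE, -, e1, -⟩ := exists_inv E hχE
  have hχP : ∀ x, (χ.comp (Subgroup.inclusion hP)) x ∈ (P.subgroupOf N).map χ := fun x =>
    ⟨Subgroup.inclusion hP x, x.2, rfl⟩
  have hstep := E.comp_mem (restrict_mem E hχE hP) hE hχP
  have hr : ∀ x, ((χ.comp ((φ.comp ((ψ.comp (Subgroup.inclusion hle)).codRestrict P hσP)).codRestrict N hN')).comp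
      ((χ.comp (Subgroup.inclusion hP)).codRestrict _ hχP)) x ∈ χ.range := fun x => ⟨_, rfl⟩
  refine hom_congr E (E.comp_mem hstep hψE hr) fun x => ?_
  refine (e1 ⟨φ x, hφN x⟩ ⟨_, rfl⟩).symm.trans ?_
  refine congrArg ψE (Subtype.ext ?_)
  exact (hform x _).symm

omit hp in
theorem mem_of_finite_image {Y P : Subgroup Ω} (hY : Y ≤ S) (hYP : Y ≤ P) {φ : P →* Ω} (hφ : φ ∈ F.Hom P)
    (h : ∀ y : Y, φ (Subgroup.inclusion hYP y) ∈ Y) {z : Ω} (hz : z ∈ Y) :
    ∃ y : Y, φ (Subgroup.inclusion hYP y) = z := by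
  haveI := finite_of_le (S := S) hY
  obtain ⟨y, hy⟩ := (Finite.surjective_of_injective (f := fun y : Y => (⟨_, h y⟩ : Y)) fun a b hab =>
    Subgroup.inclusion_injective hYP (F.injective_of_mem hφ (congrArg Subtype.val hab))) ⟨z, hz⟩
  exact ⟨y, congrArg Subtype.val hy⟩

omit hp in
theorem apply_mem_normalizerIn {Y P : Subgroup Ω} (hY : Y ≤ S) (hYP : Y ≤ P) (hP : P ≤ normalizerIn S Y)
    {φ : P →* Ω} (hφ : φ ∈ F.Hom P) (h : ∀ y : Y, φ (Subgroup.inclusion hYP y) ∈ Y) (x : P) :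
    φ x ∈ normalizerIn S Y := by
  haveI := finite_of_le (S := S) hY
  refine ⟨hom_apply_mem F hφ x, mem_normalizer_of_conj_mem_finite fun z hz => ?_⟩
  obtain ⟨y, hye⟩ := mem_of_finite_image hY hYP hφ h hz
  have hc : (x : Ω) * y * (x : Ω)⁻¹ ∈ Y := (Subgroup.mem_normalizer_iff.1 (hP x.2).2 y).1 y.2
  have := h ⟨_, hc⟩
  rw [show Subgroup.inclusion hYP ⟨_, hc⟩ = x * Subgroup.inclusion hYP y * x⁻¹ from Subtype.ext rfl, map_mul,
    map_mul, map_inv, hye] at this
  exact this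

/-- The main step of the induction. -/
theorem claim_step (hS : IsPGroup p S) (hF : F.IsSaturated p)
    {C : FusionSystem (centralizerIn S (powerClosure p 1 (S ⊓ Subgroup.centralizer (S : Set Ω))))}
    (hC : F.IsCentralizerSystem (powerClosure p 1 (S ⊓ Subgroup.centralizer (S : Set Ω))) C)
    {N : FusionSystem (normalizerIn S (thompsonSubgroupAOf S))}
    (hN : F.IsNormalizerSystem (thompsonSubgroupAOf S) N) {E : FusionSystem S} (hCE : C.IsSubsystemOf E)
    (hNE : N.IsSubsystemOf E) {Y : Subgroup Ω} (hYc : F.IsCentric Y) (hY : F.IsFullyNormalized Y)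
    (hJ : normalizerIn S Y = S ∨ F.IsFullyNormalized (thompsonSubgroupAOf (normalizerIn S Y)))
    (hbig : ∀ R : Subgroup Ω, F.IsCentric R → Nat.card (normalizerIn S Y) < Nat.card (normalizerIn S R) →
      ∀ (P : Subgroup Ω) (φ : P →* Ω) (hRP : R ≤ P), P ≤ normalizerIn S R → φ ∈ F.Hom P →
        (∀ r : R, φ (Subgroup.inclusion hRP r) ∈ R) → φ ∈ E.Hom P)
    (P : Subgroup Ω) (φ : P →* Ω) (hYP : Y ≤ P) (hP : P ≤ normalizerIn S Y) (hφ : φ ∈ F.Hom P)
    (hφY : ∀ y : Y, φ (Subgroup.inclusion hYP y) ∈ Y) : φ ∈ E.Hom P := by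
  set Z0 := S ⊓ Subgroup.centralizer (S : Set Ω) with hZ0
  set V0 := powerClosure p 1 Z0 with hV0
  obtain ⟨L, _, ⟨M⟩⟩ := exists_localModel hS hF hY hYc
  haveI := M.finL
  haveI := M.finite_dom
  obtain ⟨T, hT⟩ := M.sylow
  have hTS : normalizerIn S Y ≤ S := normalizerIn_le S Y
  have hYN : Y ≤ normalizerIn S Y := le_normalizerIn hY.1
  have hZY : Z0 ≤ Y := fun z hz =>
    centralizerIn_le_of_centric hYc ⟨(Subgroup.mem_inf.1 hz).1, Subgroup.centralizer_le hY.1 (Subgroup.mem_inf.1 hz).2⟩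
  have hV0Z : V0 ≤ Z0 := (Subgroup.closure_le _).2 fun y hy => by
    obtain ⟨x, hx, rfl⟩ := hy
    exact pow_mem hx _
  have hSV0 : S ≤ centralizerIn S V0 := fun s hs => ⟨hs, Subgroup.mem_centralizer_iff.2 fun v hv =>
    (Subgroup.mem_centralizer_iff.1 (Subgroup.mem_inf.1 (hV0Z hv)).2 s hs).symm⟩
  -- maps fixing `V0` are in `E`
  have hfixE : ∀ (X : Subgroup Ω) (θ : X →* Ω), θ ∈ F.Hom X → ∀ hX : V0 ≤ X,
      (∀ v : V0, θ (Subgroup.inclusion hX v) = v) → θ ∈ E.Hom X := by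
    intro X θ hθ hX hfix
    refine hCE X ?_
    rw [hC X]
    exact ⟨hθ, (hom_le F hθ).trans hSV0, fun x => hSV0 (hom_apply_mem F hθ x),
      θ.comp (Subgroup.inclusion (sup_le le_rfl hX)), restrict_mem F hθ _, fun x => rfl, fun v => hfix v⟩
  set R : Subgroup L → L → Prop := fun A g => ∀ (P : Subgroup Ω) (hP : P ≤ normalizerIn S Y) (φ : P →* Ω),
    Y ≤ P → (∀ x : P, M.ι ⟨x, hP x.2⟩ ∈ A) → φ ∈ F.Hom P → ∀ hφ : ∀ x, φ x ∈ normalizerIn S Y,
      (∀ x : P, M.ι ⟨φ x, hφ x⟩ = g * M.ι ⟨x, hP x.2⟩ * g⁻¹) → φ ∈ E.Hom P with hR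
  have hkey : ∀ A : Subgroup L, A ≤ T → ∀ g : L, (∀ a ∈ A, g * a * g⁻¹ ∈ (T : Subgroup L)) → R A g := by
    refine Cfsg.Agent.CentNorm.factor_fusion L T M.constrained R ?_ ?_ ?_
    · -- composition
      intro A hA h₁ h₂ hc₁ hc₂ r₁ r₂ P hP φ hYP hPA hφ hφm hφe
      obtain ⟨φ₁, hφ₁, hφ₁m, hφ₁e⟩ := M.hom P hP h₁ fun x => hT.le (hc₁ _ (hPA x))
      have hY₁ : ∀ y : Y, φ₁ (Subgroup.inclusion hYP y) ∈ Y := fun y => by
        obtain ⟨w, hw, hwe⟩ := M.image_normal.conj_mem _ ⟨⟨y, hYN y.2⟩, y.2, rfl⟩ h₁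
        rw [show φ₁ (Subgroup.inclusion hYP y) = (w : Ω) from
          congrArg Subtype.val (M.inj ((hφ₁e _).trans hwe.symm))]
        exact hw
      have hP₁ : φ₁.range ≤ normalizerIn S Y := by rintro _ ⟨x, rfl⟩; exact hφ₁m x
      have hY₁' : Y ≤ φ₁.range := fun z hz => by
        obtain ⟨y, hy⟩ := mem_of_finite_image hY.1 hYP hφ₁ hY₁ hz
        exact ⟨_, hy⟩
      have hconj : ∀ x : φ₁.range, h₂ * M.ι ⟨x, hP₁ x.2⟩ * h₂⁻¹ ∈ M.ι.range := by
        rintro ⟨_, x, rfl⟩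
        rw [hφ₁e x]
        exact hT.le (hc₂ _ (hPA x))
      obtain ⟨φ₂, hφ₂, hφ₂m, hφ₂e⟩ := M.hom φ₁.range hP₁ h₂ hconj
      have e₁ := r₁ P hP φ₁ hYP hPA hφ₁ hφ₁m hφ₁e
      have e₂ := r₂ φ₁.range hP₁ φ₂ hY₁' (by
        rintro ⟨_, x, rfl⟩
        exact ⟨_, hPA x, (hφ₁e x).symm⟩) hφ₂ hφ₂m hφ₂e
      refine hom_congr E (E.comp_mem e₁ e₂ fun x => ⟨x, rfl⟩) fun x => ?_
      refine congrArg Subtype.val (M.inj ?_ : (⟨φ x, hφm x⟩ : normalizerIn S Y) = ⟨_, hφ₂m _⟩)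
      rw [hφ₂e, hφe]
      show _ = h₂ * M.ι ⟨φ₁ x, hφ₁m x⟩ * h₂⁻¹
      rw [hφ₁e]
      group
    · -- the centralizer
      intro A hA g hg hgc P hP φ hYP hPA hφ hφm hφe
      refine hfixE P φ hφ ((hV0Z.trans hZY).trans hYP) fun v => ?_
      have hvN : (v : Ω) ∈ normalizerIn S Y := hYN (hZY (hV0Z v.2))
      have hvmem : M.ι ⟨v, hvN⟩ ∈
          powerClosure p 1 ((T : Subgroup L) ⊓ Subgroup.centralizer ((T : Subgroup L) : Set L)) := by
        suffices h : V0 ≤ ((powerClosure p 1 ((T : Subgroup L) ⊓ Subgroup.centralizer ((T : Subgroup L) : Set L))).comap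
            M.ι).map (normalizerIn S Y).subtype by
          obtain ⟨w, hw, hwe⟩ := h v.2
          rw [show (⟨(v : Ω), hvN⟩ : normalizerIn S Y) = w from Subtype.ext hwe.symm]
          exact hw
        refine (Subgroup.closure_le _).2 ?_
        rintro _ ⟨z, hz, rfl⟩
        have hzN : z ∈ normalizerIn S Y := hYN (hZY hz)
        refine ⟨⟨z, hzN⟩ ^ p ^ 1, ?_, by simp⟩
        refine Subgroup.mem_comap.2 ?_
        rw [map_pow]
        refine Subgroup.subset_closure ⟨_, ⟨hT.ge ⟨_, rfl⟩, Subgroup.mem_centralizer_iff.2 ?_⟩, rfl⟩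
        rw [hT]
        rintro _ ⟨y, rfl⟩
        rw [← map_mul, ← map_mul]
        exact congrArg M.ι (Subtype.ext (Subgroup.mem_centralizer_iff.1 (Subgroup.mem_inf.1 hz).2 y (hTS y.2)))
      have h1 : M.ι ⟨_, hφm (Subgroup.inclusion ((hV0Z.trans hZY).trans hYP) v)⟩ = M.ι ⟨v, hvN⟩ :=
        (hφe _).trans (mul_inv_eq_iff_eq_mul.2 (Subgroup.mem_centralizer_iff.1 hg _ hvmem).symm)
      exact congrArg Subtype.val (M.inj h1)
    · -- the normalizer
      intro A hA g hg hgc P hP φ hYP hPA hφ hφm hφe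
      set W := thompsonSubgroupAOf (normalizerIn S Y) with hW
      have hWT : W ≤ normalizerIn S Y := Subgroup.map_subtype_le _
      rw [hT, thompsonAOf_range hS hTS M.ι M.inj, ← hW] at hg
      have hgW : ∀ w : W, g * M.ι ⟨w, hWT w.2⟩ * g⁻¹ ∈ (W.subgroupOf (normalizerIn S Y)).map M.ι := fun w =>
        (Subgroup.mem_normalizer_iff.1 hg _).1 ⟨⟨w, hWT w.2⟩, w.2, rfl⟩
      set X := P ⊔ W with hX
      have hXT : X ≤ normalizerIn S Y := sup_le hP hWT
      obtain ⟨φX, hφX, hφXm, hφXe⟩ := M.hom X hXT g (fun x => by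
        have h : X ≤ (M.ι.range.comap ((MulAut.conj g).toMonoidHom.comp M.ι)).map (normalizerIn S Y).subtype := by
          refine sup_le (fun x hx => ⟨⟨x, hP hx⟩, ⟨_, hφe ⟨x, hx⟩⟩, rfl⟩) fun w hw => ⟨⟨w, hWT hw⟩, ?_, rfl⟩
          exact Subgroup.map_le_range _ _ (hgW ⟨w, hw⟩)
        obtain ⟨w, hw, hwe⟩ := h x.2
        rw [show (⟨(x : Ω), hXT x.2⟩ : normalizerIn S Y) = w from Subtype.ext hwe.symm]
        exact hw)
      have hφW : ∀ w : W, φX (Subgroup.inclusion le_sup_right w) ∈ W := fun w => by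
        obtain ⟨z, hz, hze⟩ := hgW w
        rw [show φX (Subgroup.inclusion le_sup_right w) = (z : Ω) from
          congrArg Subtype.val (M.inj ((hφXe _).trans hze.symm))]
        exact hz
      suffices hXE : φX ∈ E.Hom X by
        refine hom_congr E (restrict_mem E hXE (le_sup_left : P ≤ X)) fun x => ?_
        exact congrArg Subtype.val (M.inj ((hφe x).trans (hφXe (Subgroup.inclusion le_sup_left x)).symm) :
          (⟨φ x, hφm x⟩ : normalizerIn S Y) = ⟨_, hφXm _⟩)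
      have hWS : W ≤ S := hWT.trans hTS
      have hWX : W ≤ X := le_sup_right
      rcases eq_or_lt_of_le hTS with he | hlt
      · -- `T = S`
        have hWeq : W = thompsonSubgroupAOf S := by rw [hW, he]
        have hSW : S ≤ normalizerIn S (thompsonSubgroupAOf S) := (le_normalizerIn le_rfl).trans
          (normalizerIn_le_inducedFunctor hS (isCharPFunctor_thompsonA p) le_rfl)
        refine hNE X ?_
        rw [hN X]
        refine ⟨hφX, (hXT.trans hTS).trans hSW, fun x => hSW (hTS (hφXm x)),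
          φX.comp (Subgroup.inclusion (sup_le le_rfl (hWeq.ge.trans hWX))), restrict_mem F hφX _, fun x => rfl, ?_⟩
        rw [map_subgroupOf_eq_iff _ le_sup_right]
        refine ⟨fun w => ?_, fun z hz => ?_⟩
        · exact hWeq.le (hφW ⟨w, hWeq.ge w.2⟩)
        · obtain ⟨w, hw⟩ := mem_of_finite_image hWS hWX hφX hφW (hWeq.ge hz : z ∈ W)
          exact ⟨⟨w, hWeq.le w.2⟩, hw⟩
      · -- `T < S`
        have hWn : F.IsFullyNormalized W := hJ.resolve_left hlt.ne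
        have hr : (φX.comp (Subgroup.inclusion hWX)).range = W := le_antisymm
          (by rintro _ ⟨w, rfl⟩; exact hφW w)
          fun z hz => by
            obtain ⟨w, hw⟩ := mem_of_finite_image hWS hWX hφX hφW hz
            exact ⟨w, hw⟩
        have hα := restrict_mem F hφX hWX
        obtain ⟨ψ, hψ, hψe⟩ := (fullyNormalized_receptive hS hF hWn).2 W _ hα hr
        obtain ⟨Rc, hWR, hReq, hRc, hNR, -⟩ := exists_extend_centric hS hF hWn
        have hTW : normalizerIn S Y ≤ normalizerIn S W :=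
          (le_normalizerIn hTS).trans (normalizerIn_le_inducedFunctor hS (isCharPFunctor_thompsonA p) hTS)
        have hext : X ⊔ Rc ≤ extender S W (φX.comp (Subgroup.inclusion hWX)) := by
          refine sup_le (fun x hx => ?_) (hReq.le.trans (centralizerIn_sup_le_extender F hα))
          have hxN := hTW (hXT hx)
          refine Subgroup.subset_closure ⟨hxN.1, hxN.2, φX ⟨x, hx⟩, hom_apply_mem F hφX _, fun w hw => ?_⟩
          show φX (Subgroup.inclusion hWX ⟨_, hw⟩) = _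
          rw [show Subgroup.inclusion hWX ⟨_, hw⟩ = ⟨x, hx⟩ * Subgroup.inclusion hWX w * ⟨x, hx⟩⁻¹ from
            Subtype.ext rfl, map_mul, map_mul, map_inv]
          rfl
        set B := X ⊔ Rc with hB
        set γ := ψ.comp (Subgroup.inclusion hext) with hγ
        have hγF : γ ∈ F.Hom B := restrict_mem F hψ hext
        have hγW : ∀ w : W, γ (Subgroup.inclusion (hWX.trans le_sup_left) w) = φX (Subgroup.inclusion hWX w) :=
          fun w => hψe w w.2 _
        have hnR : Nat.card (normalizerIn S Y) < Nat.card (normalizerIn S Rc) := by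
          haveI := finite_of_le (S := S) (normalizerIn_le S Rc)
          refine lt_of_lt_of_le ?_ (Subgroup.card_le_of_le hNR)
          exact card_normalizerIn_lt_inducedFunctor hS (isCharPFunctor_thompsonA p) hlt
        have hγE : γ ∈ E.Hom B := by
          refine hbig Rc hRc hnR B γ le_sup_right
            (sup_le ((hXT.trans hTW).trans hNR) (le_normalizerIn hRc.1)) hγF fun r => ?_
          subst hReq
          refine apply_mem_of_sup (γ.comp (Subgroup.inclusion (le_sup_right : W ⊔ centralizerIn S W ≤ B)))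
            (R := W ⊔ centralizerIn S W) (fun w => ?_) (fun c => ?_) r
          · refine Subgroup.mem_sup_left ?_
            show γ (Subgroup.inclusion (hWX.trans le_sup_left) w) ∈ W
            rw [hγW]; exact hφW w
          · refine Subgroup.mem_sup_right ⟨hom_apply_mem F hγF _, Subgroup.mem_centralizer_iff.2 fun z hz => ?_⟩
            obtain ⟨w, hw⟩ := mem_of_finite_image hWS hWX hφX hφW hz
            rw [← hw, ← hγW]
            show γ _ * γ _ = γ _ * γ _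
            rw [← map_mul, ← map_mul]
            exact congrArg γ (Subtype.ext (Subgroup.mem_centralizer_iff.1 c.2.2 w w.2))
        -- the difference fixes `W`
        set γX := γ.comp (Subgroup.inclusion (le_sup_left : X ≤ B)) with hγX
        have hγXF : γX ∈ F.Hom X := restrict_mem F hγF _
        obtain ⟨σ, hσ, hσr, hσ1, -⟩ := exists_inv F hγXF
        have hσX : ∀ y, σ y ∈ X := fun y => hσr.le ⟨y, rfl⟩
        have hθ := F.comp_mem hσ hφX hσX
        have hV0W : V0 ≤ W := fun v hv => ⟨⟨v, hYN (hZY (hV0Z hv))⟩, center_le_thompsonA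
          (Subgroup.mem_center_iff.2 fun y => Subtype.ext
            (Subgroup.mem_centralizer_iff.1 (Subgroup.mem_inf.1 (hV0Z hv)).2 y (hTS y.2))), rfl⟩
        have hWimg : W ≤ γX.range := fun z hz => by
          obtain ⟨w, hw⟩ := mem_of_finite_image hWS hWX hφX hφW hz
          exact ⟨Subgroup.inclusion hWX w, (hγW w).trans hw⟩
        have hθE := hfixE γX.range _ hθ (hV0W.trans hWimg) fun v => by
          obtain ⟨w, hw⟩ := mem_of_finite_image hWS hWX hφX hφW (hV0W v.2)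
          have h1 := hσ1 (Subgroup.inclusion hWX w) ⟨_, rfl⟩
          show φX ⟨σ ⟨(v : Ω), _⟩, _⟩ = v
          refine Eq.trans (congrArg φX (Subtype.ext ?_)) hw
          refine Eq.trans (congrArg σ (Subtype.ext ?_)) h1
          exact ((hγW w).trans hw).symm
        refine hom_congr E (E.comp_mem (restrict_mem E hγE (le_sup_left : X ≤ B)) hθE fun x => ⟨x, rfl⟩) fun x => ?_
        refine congrArg φX (Subtype.ext ?_)
        exact (hσ1 x ⟨x, rfl⟩).symm
  have hφm := apply_mem_normalizerIn hY.1 hYP hP hφ hφY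
  have hNs := normSystem_spec F hY.1
  have hφN : φ ∈ (normSystem F hY.1).Hom P := by
    rw [hNs P]
    refine ⟨hφ, hP, hφm, φ.comp (Subgroup.inclusion (sup_le le_rfl hYP)), restrict_mem F hφ _, fun x => rfl, ?_⟩
    rw [map_subgroupOf_eq_iff _ le_sup_right]
    exact ⟨fun y => hφY y, fun z hz => mem_of_finite_image hY.1 hYP hφ hφY hz⟩
  obtain ⟨g, hg⟩ := ((M.model _ hNs).2.1.2 P hP φ hφm).1 hφN
  refine hkey ((P.subgroupOf (normalizerIn S Y)).map M.ι) (hT ▸ Subgroup.map_le_range _ _) g ?_ P hP φ hYP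
    (fun x => ⟨⟨x, hP x.2⟩, x.2, rfl⟩) hφ hφm hg
  rintro _ ⟨⟨x, hx⟩, hxP, rfl⟩
  exact hT.ge ⟨_, hg ⟨x, hxP⟩⟩

/-- `F = ⟨C_F(℧¹(Z(S))), N_F(J(S))⟩`. -/
theorem le_of_cent_norm (hS : IsPGroup p S) (hF : F.IsSaturated p)
    {C : FusionSystem (centralizerIn S (powerClosure p 1 (S ⊓ Subgroup.centralizer (S : Set Ω))))}
    (hC : F.IsCentralizerSystem (powerClosure p 1 (S ⊓ Subgroup.centralizer (S : Set Ω))) C)
    {N : FusionSystem (normalizerIn S (thompsonSubgroupAOf S))}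
    (hN : F.IsNormalizerSystem (thompsonSubgroupAOf S) N) {E : FusionSystem S} (hCE : C.IsSubsystemOf E)
    (hNE : N.IsSubsystemOf E) : F ≤ E := by
  haveI : ∀ X : Subgroup Ω, Finite (normalizerIn S X) := fun X => finite_of_le (normalizerIn_le S X)
  have hSc : F.IsCentric S := ⟨le_rfl, fun Q hQ => by
    rw [show Q = S from Subgroup.eq_of_le_of_card_ge (isConj_le_right hQ) (by rw [isConj_card hQ])]
    exact inf_le_left⟩
  have hlt : ∀ {A B : Subgroup Ω}, A < B → B ≤ S → Nat.card A < Nat.card B := fun {A B} h hB => by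
    haveI := finite_of_le (S := S) hB
    exact lt_of_le_of_ne (Subgroup.card_le_of_le h.le) fun e => h.ne (Subgroup.eq_of_le_of_card_ge h.le e.ge)
  have key : ∀ n, ∀ Y : Subgroup Ω, F.IsCentric Y → n ≤ Nat.card (normalizerIn S Y) →
      ∀ (P : Subgroup Ω) (φ : P →* Ω) (hYP : Y ≤ P), P ≤ normalizerIn S Y → φ ∈ F.Hom P →
        (∀ y : Y, φ (Subgroup.inclusion hYP y) ∈ Y) → φ ∈ E.Hom P := by
    intro n
    induction hk : Nat.card S + 1 - n using Nat.strong_induction_on generalizing n with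
    | _ k ih =>
    intro Y hYc hn P φ hYP hP hφ hφY
    have hle : Nat.card (normalizerIn S Y) ≤ Nat.card S := Subgroup.card_le_of_le (normalizerIn_le S Y)
    rcases Nat.lt_or_eq_of_le hn with hn' | hn'
    · exact ih _ (by omega) (n + 1) rfl Y hYc hn' P φ hYP hP hφ hφY
    have hnext : ∀ R : Subgroup Ω, F.IsCentric R → n < Nat.card (normalizerIn S R) →
        ∀ (P : Subgroup Ω) (φ : P →* Ω) (hRP : R ≤ P), P ≤ normalizerIn S R → φ ∈ F.Hom P →
          (∀ r : R, φ (Subgroup.inclusion hRP r) ∈ R) → φ ∈ E.Hom P :=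
      fun R hR hlt' => ih _ (by omega) (n + 1) rfl R hR hlt'
    have haut : ∀ Q, Q = S ∨ F.IsEssential p Q → n < Nat.card (normalizerIn S Q) →
        F.autGroup Q ≤ E.autGroup Q := by
      intro Q hQ hQn α hα
      have hQc : F.IsCentric Q := hQ.elim (fun e => e ▸ hSc) fun e => e.1
      rw [mem_autGroup_iff _ hQc.1]
      exact hnext Q hQc hQn Q _ le_rfl (le_normalizerIn hQc.1) ((mem_autGroup_iff F hQc.1 α).1 hα) fun r => (α r).2
    rcases eq_or_lt_of_le (normalizerIn_le S Y) with he | hltS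
    · have hYn : F.IsFullyNormalized Y := ⟨hYc.1, fun Q _ =>
        (Subgroup.card_le_of_le (normalizerIn_le S Q)).trans_eq (by rw [he])⟩
      exact claim_step hS hF hC hN hCE hNE hYc hYn (Or.inl he) (fun R hR hc => hnext R hR (hn' ▸ hc)) P φ hYP hP hφ hφY
    -- `N_S(Y) < S`
    have hlarge : ∀ {X : Subgroup Ω} {θ : X →* Ω}, θ ∈ F.Hom X → n ≤ Nat.card X → θ ∈ E.Hom X := by
      intro X θ hθ hX
      refine alperin_ge hS hF (n := n) (fun Q hQ hQn => haut Q hQ ?_) hX hθ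
      rcases hQ with rfl | hQ
      · calc n = Nat.card (normalizerIn _ Y) := hn'
          _ < Nat.card Q := hlt hltS le_rfl
          _ ≤ _ := Subgroup.card_le_of_le (le_normalizerIn le_rfl)
      · exact hQn.trans_lt (hlt (lt_normalizerIn hS (essential_lt hS hF hQ)) (normalizerIn_le _ _))
    -- moving along a map on a subgroup containing the normalizer
    have htrans : ∀ {Y₀ D : Subgroup Ω} {χ : D →* Ω}, χ ∈ F.Hom D → n ≤ Nat.card D →
        ∀ (hD : normalizerIn S Y₀ ≤ D) (hY₀ : Y₀ ≤ S) (Y₁ : Subgroup Ω),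
        (∀ (y : Ω) (hy : y ∈ Y₀), χ ⟨y, hD (le_normalizerIn hY₀ hy)⟩ ∈ Y₁) →
        (∀ z ∈ Y₁, ∃ (y : Ω) (hy : y ∈ Y₀), χ ⟨y, hD (le_normalizerIn hY₀ hy)⟩ = z) →
        (∀ (P : Subgroup Ω) (φ : P →* Ω) (hYP : Y₁ ≤ P), P ≤ normalizerIn S Y₁ → φ ∈ F.Hom P →
          (∀ y : Y₁, φ (Subgroup.inclusion hYP y) ∈ Y₁) → φ ∈ E.Hom P) →
        ∀ (P : Subgroup Ω) (φ : P →* Ω) (hYP : Y₀ ≤ P), P ≤ normalizerIn S Y₀ → φ ∈ F.Hom P →
          (∀ y : Y₀, φ (Subgroup.inclusion hYP y) ∈ Y₀) → φ ∈ E.Hom P := by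
      intro Y₀ D χ hχ hD' hD hY₀ Y₁ hto honto hcl P φ hYP hP hφ hφY
      haveI := finite_of_le (S := S) (hom_le F hχ)
      have hφm := apply_mem_normalizerIn hY₀ hYP hP hφ hφY
      obtain ⟨φ', hφ', hform, hback⟩ := exists_transport E hχ (hlarge hχ hD') (hP.trans hD) hφ fun x => hD (hφm x)
      have hY₁ : Y₁ ≤ (P.subgroupOf D).map χ := fun z hz => by
        obtain ⟨y, hy, rfl⟩ := honto z hz
        exact ⟨_, hYP hy, rfl⟩
      refine hback (hcl _ φ' hY₁ ?_ hφ' ?_)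
      · rintro _ ⟨⟨x, hxD⟩, hx, rfl⟩
        refine ⟨hom_apply_mem F hχ _, ?_⟩
        haveI : Finite Y₁ := finite_of_le (S := S) fun z hz => by
          obtain ⟨y, hy, rfl⟩ := honto z hz
          exact hom_apply_mem F hχ _
        refine mem_normalizer_of_conj_mem_finite fun z hz => ?_
        obtain ⟨y, hy, rfl⟩ := honto z hz
        have hc : x * y * x⁻¹ ∈ Y₀ := (Subgroup.mem_normalizer_iff.1 (hP hx).2 y).1 hy
        have h := hto _ hc
        rwa [show (⟨x * y * x⁻¹, hD (le_normalizerIn hY₀ hc)⟩ : D) = ⟨x, hxD⟩ * ⟨y, hD (le_normalizerIn hY₀ hy)⟩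
          * ⟨x, hxD⟩⁻¹ from Subtype.ext rfl, map_mul, map_mul, map_inv] at h
      · rintro ⟨z, hz⟩
        obtain ⟨y, hy, rfl⟩ := honto z hz
        show φ' ⟨χ ⟨y, _⟩, _⟩ ∈ Y₁
        rw [hform ⟨y, hYP hy⟩]
        exact hto _ (hφY ⟨y, hy⟩)
    obtain ⟨Y', hY', hYY', χ, hχ, hχm, e, he, -⟩ := exists_transfer hS hF hYc.1
    have hto : ∀ (y : Ω) (hy : y ∈ Y), χ ⟨y, le_normalizerIn hYc.1 hy⟩ ∈ Y' := fun y hy => by
      rw [show χ ⟨y, le_normalizerIn hYc.1 hy⟩ = (e ⟨y, hy⟩ : Ω) from he ⟨y, hy⟩]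
      exact (e ⟨y, hy⟩).2
    have honto : ∀ z ∈ Y', ∃ (y : Ω) (hy : y ∈ Y), χ ⟨y, le_normalizerIn hYc.1 hy⟩ = z := fun z hz =>
      ⟨e.symm ⟨z, hz⟩, (e.symm ⟨z, hz⟩).2, (he (e.symm ⟨z, hz⟩)).trans (congrArg Subtype.val (e.apply_symm_apply _))⟩
    refine htrans hχ hn'.le le_rfl hYc.1 Y' hto honto ?_ P φ hYP hP hφ hφY
    have hY'c : F.IsCentric Y' := isCentric_isConj hYc hYY'
    rcases Nat.lt_or_eq_of_le (hn'.le.trans (card_le_normalizer_map hχ hχm)) with hgt | heq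
    · exact hnext Y' hY'c hgt
    -- make the Thompson subgroup fully normalized
    have hT' : normalizerIn S Y' < S := lt_of_le_of_ne (normalizerIn_le S Y') fun e' => by
      have h := hlt hltS le_rfl
      rw [← hn', heq, e'] at h
      exact lt_irrefl _ h
    set W := thompsonSubgroupAOf (normalizerIn S Y') with hW
    have hWS : W ≤ S := (Subgroup.map_subtype_le _).trans (normalizerIn_le S Y')
    obtain ⟨W'', hW'', -, χ₂, hχ₂, hχ₂m, e₂, he₂, -⟩ := exists_transfer hS hF hWS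
    have hTW : normalizerIn S Y' ≤ normalizerIn S W := (le_normalizerIn (normalizerIn_le S Y')).trans
      (normalizerIn_le_inducedFunctor hS (isCharPFunctor_thompsonA p) (normalizerIn_le S Y'))
    have hY'W : Y' ≤ normalizerIn S W := (le_normalizerIn hY'.1).trans hTW
    set Y'' := (Y'.subgroupOf (normalizerIn S W)).map χ₂ with hY''def
    have hconj : F.IsConj Y' Y'' := ⟨_, restrict_mem F hχ₂ hY'W, range_restrict _ _⟩
    have hsame := card_le_of_hom F hχ₂ hTW (normalizerIn_le S Y'') fun x hx => by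
      refine ⟨hom_apply_mem F hχ₂ _, ?_⟩
      haveI := finite_of_le (S := S) (isConj_le_right hconj)
      refine mem_normalizer_of_conj_mem_finite ?_
      rintro _ ⟨y, hy, rfl⟩
      refine ⟨⟨x, hTW hx⟩ * y * ⟨x, hTW hx⟩⁻¹, (Subgroup.mem_normalizer_iff.1 hx.2 _).1 hy, ?_⟩
      rw [map_mul, map_mul, map_inv]
    have hY''n : F.IsFullyNormalized Y'' := ⟨isConj_le_right hconj, fun Q hQ =>
      (hY'.2 Q (isConj_trans hconj hQ)).trans hsame⟩
    have hT'' : normalizerIn S Y'' = (χ₂.comp (Subgroup.inclusion hTW)).range := by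
      haveI := finite_of_le (S := S) (hom_le F hχ₂)
      refine (Subgroup.eq_of_le_of_card_ge ?_ ?_).symm
      · rintro _ ⟨⟨x, hx⟩, rfl⟩
        refine ⟨hom_apply_mem F hχ₂ _, ?_⟩
        haveI := finite_of_le (S := S) (isConj_le_right hconj)
        refine mem_normalizer_of_conj_mem_finite ?_
        rintro _ ⟨y, hy, rfl⟩
        refine ⟨⟨x, hTW hx⟩ * y * ⟨x, hTW hx⟩⁻¹, (Subgroup.mem_normalizer_iff.1 hx.2 _).1 hy, ?_⟩
        rw [map_mul, map_mul, map_inv]
        rfl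
      · refine (hY'.2 _ hconj).trans (le_of_eq ?_)
        exact Nat.card_congr (MonoidHom.ofInjective (F.injective_of_mem (restrict_mem F hχ₂ hTW))).toEquiv
    have hJ'' : thompsonSubgroupAOf (normalizerIn S Y'') = W'' := by
      rw [hT'', thompsonAOf_range hS (normalizerIn_le S Y') _ (F.injective_of_mem (restrict_mem F hχ₂ hTW)), ← hW]
      ext z
      constructor
      · rintro ⟨⟨w, hwT⟩, hw, rfl⟩
        rw [show (χ₂.comp (Subgroup.inclusion hTW)) ⟨w, hwT⟩ = (e₂ ⟨w, hw⟩ : Ω) from he₂ ⟨w, hw⟩]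
        exact (e₂ ⟨w, hw⟩).2
      · intro hz
        exact ⟨⟨e₂.symm ⟨z, hz⟩, (Subgroup.map_subtype_le _ : W ≤ normalizerIn S Y') (e₂.symm ⟨z, hz⟩).2⟩,
          (e₂.symm ⟨z, hz⟩).2, (he₂ (e₂.symm ⟨z, hz⟩)).trans (congrArg Subtype.val (e₂.apply_symm_apply _))⟩
    refine htrans hχ₂ ?_ hTW hY'.1 Y'' (fun y hy => ⟨_, hy, rfl⟩) (fun z ⟨⟨y, _⟩, hy, hye⟩ => ⟨y, hy, hye⟩) ?_
    · exact heq.le.trans (Subgroup.card_le_of_le hTW)
    refine fun P φ hYP hP hφ hφY => claim_step hS hF hC hN hCE hNE (isCentric_isConj hY'c hconj) hY''n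
      (Or.inr (hJ''.symm ▸ hW'')) (fun R hR hc => hnext R hR ?_) P φ hYP hP hφ hφY
    exact (heq.le.trans hsame).trans_lt hc
  refine alperin hS hF fun Q hQ α hα => ?_
  have hQc : F.IsCentric Q := hQ.elim (fun e => e ▸ hSc) fun e => e.1
  rw [mem_autGroup_iff _ hQc.1]
  exact key 0 Q hQc (Nat.zero_le _) Q _ le_rfl (le_normalizerIn hQc.1) ((mem_autGroup_iff F hQc.1 α).1 hα)
    fun r => (α r).2

end Cfsg.Agent.FusionSys
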