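import Cfsg.Agent.Lib.Fusion.ResidualNormal

/-!
# `O^{p'}` of a weakly normal subsystem is normal: extension to `T C_S(T)`

An automorphism of `P C_S(T)` fixing `P` and acting with order prime to `p` on `C_S(T)` modulo `T` comes from one
of `T C_S(T)` fixing `T`.
-/

set_option autoImplicit false

namespace Cfsg.Agent.FusionSys

open Cfsg Cfsg.FusionSystem

variable {Ω : Type*} [Group Ω] {S T : Subgroup Ω}

/-- The automorphisms fixing `P` pointwise and trivial on `C` modulo `P`. -/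
def stabTriv (P C : Subgroup Ω) : Subgroup (MulAut (P ⊔ C : Subgroup Ω)) where
  carrier := {x | (∀ y : (P ⊔ C : Subgroup Ω), (y : Ω) ∈ P → x y = y) ∧
    ∀ y : (P ⊔ C : Subgroup Ω), (y : Ω) ∈ C → (y : Ω)⁻¹ * (x y : (P ⊔ C : Subgroup Ω)) ∈ P}
  one_mem' := ⟨fun _ _ => rfl, fun y _ => by simp⟩
  mul_mem' := by
    rintro a b ⟨ha, ha'⟩ ⟨hb, hb'⟩
    refine ⟨fun y hy => by rw [MulAut.mul_apply, hb y hy, ha y hy], fun y hy => ?_⟩
    have h : b y = y * ⟨_, Subgroup.mem_sup_left (hb' y hy)⟩ := Subtype.ext (mul_inv_cancel_left (y : Ω) _).symm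
    rw [MulAut.mul_apply, h, map_mul, Subgroup.coe_mul, ← mul_assoc, ha ⟨_, Subgroup.mem_sup_left (hb' y hy)⟩ (hb' y hy)]
    exact P.mul_mem (ha' y hy) (hb' y hy)
  inv_mem' := by
    rintro a ⟨ha, ha'⟩
    refine ⟨fun y hy => ?_, fun y hy => ?_⟩
    · conv_lhs => rw [← ha y hy, MulAut.inv_apply_self]
    · have h : a y = y * ⟨_, Subgroup.mem_sup_left (ha' y hy)⟩ := Subtype.ext (mul_inv_cancel_left (y : Ω) _).symm
      have h2 := congrArg (DFunLike.coe (a⁻¹ : MulAut _)) h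
      rw [MulAut.inv_apply_self, map_mul,
        show a⁻¹ (⟨_, Subgroup.mem_sup_left (ha' y hy)⟩ : (P ⊔ C : Subgroup Ω)) = ⟨_, Subgroup.mem_sup_left (ha' y hy)⟩
          from by conv_lhs => rw [← ha ⟨_, Subgroup.mem_sup_left (ha' y hy)⟩ (ha' y hy), MulAut.inv_apply_self]] at h2
      have h3 : (a⁻¹ y : (P ⊔ C : Subgroup Ω)) = y * (⟨_, Subgroup.mem_sup_left (ha' y hy)⟩)⁻¹ := by
        rw [eq_mul_inv_iff_mul_eq]; exact h2.symm
      rw [h3, Subgroup.coe_mul, inv_mul_cancel_left, Subgroup.coe_inv]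
      exact P.inv_mem (ha' y hy)

theorem mulAut_sup_ext {P : Subgroup Ω} (hPT : P ≤ T) {a b : MulAut (P ⊔ centralizerIn S T : Subgroup Ω)}
    (h1 : ∀ (y : Ω) (hy : y ∈ P), a ⟨y, Subgroup.mem_sup_left hy⟩ = b ⟨y, Subgroup.mem_sup_left hy⟩)
    (h2 : ∀ (c : Ω) (hc : c ∈ centralizerIn S T),
      a ⟨c, Subgroup.mem_sup_right hc⟩ = b ⟨c, Subgroup.mem_sup_right hc⟩) : a = b :=
  MulEquiv.ext fun x => Subtype.ext <|
    hom_ext_sup hPT (f := (P ⊔ centralizerIn S T).subtype.comp a.toMonoidHom)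
      (g := (P ⊔ centralizerIn S T).subtype.comp b.toMonoidHom)
      (fun y hy => congrArg (fun z : (P ⊔ centralizerIn S T : Subgroup Ω) => (z : Ω)) (h1 y hy))
      (fun c hc => congrArg (fun z : (P ⊔ centralizerIn S T : Subgroup Ω) => (z : Ω)) (h2 c hc)) x

/-- An automorphism of `A` restricting to `k` has powers restricting to those of `k`. -/
theorem pow_restrict {A B : Subgroup Ω} (hBA : B ≤ A) {η : MulAut A} {k : MulAut B}
    (h : ∀ x : B, η (Subgroup.inclusion hBA x) = Subgroup.inclusion hBA (k x)) (j : ℕ) (x : B) :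
    (η ^ j) (Subgroup.inclusion hBA x) = Subgroup.inclusion hBA ((k ^ j) x) := by
  induction j with
  | zero => rfl
  | succ j ih => rw [pow_succ', pow_succ', MulAut.mul_apply, MulAut.mul_apply, ih, h]

variable [Finite S] {p : ℕ} [hp : Fact p.Prime] {F : FusionSystem S} {E : FusionSystem T}

/-- Extension of an automorphism of order prime to `p` modulo stabilizers, step by step up to `T`. -/
theorem ext_trivial (hS : IsPGroup p S) (hE : E.IsWeaklyNormalIn F p) {P : Subgroup Ω} (hP : E.IsCentric P)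
    {k : MulAut (P ⊔ centralizerIn S T : Subgroup Ω)} (hk : k ∈ F.autGroup (P ⊔ centralizerIn S T))
    (hfix : ∀ y : (P ⊔ centralizerIn S T : Subgroup Ω), (y : Ω) ∈ P → k y = y) {M : ℕ} (hM : M.Coprime p)
    (hkM : k ^ M ∈ stabTriv P (centralizerIn S T)) :
    ∃ η ∈ F.autGroup (T ⊔ centralizerIn S T),
      (∀ y : (T ⊔ centralizerIn S T : Subgroup Ω), (y : Ω) ∈ T → η y = y) ∧
      ∀ (c : Ω) (hc : c ∈ centralizerIn S T),
        ((η ⟨c, Subgroup.mem_sup_right hc⟩ : _) : Ω)⁻¹ * ((k ⟨c, Subgroup.mem_sup_right hc⟩ : _) : Ω) ∈ T := by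
  induction hn : Nat.card T - Nat.card P using Nat.strong_induction_on generalizing P with
  | _ n ih =>
  obtain ⟨hEs, hFs, hEi⟩ := id hE
  have hT := hEi.2.1
  haveI : Finite T := finite_of_le hT.1
  rcases eq_or_lt_of_le hP.1 with he | hlt
  · subst he
    exact ⟨k, hk, hfix, fun c hc => by rw [inv_mul_cancel]; exact P.one_mem⟩
  set N := normalizerIn T P
  have hTp : IsPGroup p T := hS.to_le hT.1
  have hPN := lt_normalizerIn hTp hlt
  have hNT : N ≤ T := normalizerIn_le T P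
  haveI := finite_of_le (hNT.trans hT.1)
  haveI := finite_of_le (hP.1.trans hT.1)
  have hAS : P ⊔ (centralizerIn S T) ≤ S := sup_le (hP.1.trans hT.1) (centralizerIn_le S T)
  haveI := finite_of_le hAS
  have hNS : N ⊔ (centralizerIn S T) ≤ S := sup_le (hNT.trans hT.1) (centralizerIn_le S T)
  haveI := finite_of_le hNS
  have hPN' : P ⊔ (centralizerIn S T) ≤ N ⊔ (centralizerIn S T) := sup_le_sup_right hPN.le (centralizerIn S T)
  have hcomm : ∀ {x y : Ω}, x ∈ T → y ∈ (centralizerIn S T) → x * y = y * x := fun hx hy => Subgroup.mem_centralizer_iff.1 hy.2 _ hx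
  have hNnorm : ∀ {x : Ω}, x ∈ N → x ∈ Subgroup.normalizer ((P ⊔ (centralizerIn S T) : Subgroup Ω) : Set Ω) := by
    intro x hx
    refine mem_normalizer_of_conj_mem_finite fun y hy => ?_
    obtain ⟨u, hu, c, hc, rfl⟩ := sup_eq_mul hP.1 hy
    rw [show x * (u * c) * x⁻¹ = (x * u * x⁻¹) * (x * c * x⁻¹) by group, hcomm (hNT hx) hc, mul_inv_cancel_right]
    exact Subgroup.mul_mem _ (Subgroup.mem_sup_left ((Subgroup.mem_normalizer_iff.1 hx.2 u).1 hu))
      (Subgroup.mem_sup_right hc)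
  -- the `p`-group through which both `N` and its image act
  let X : Subgroup (MulAut (P ⊔ (centralizerIn S T) : Subgroup Ω)) :=
    { carrier := {x | x ∈ F.autGroup (P ⊔ (centralizerIn S T)) ∧ (∃ t ∈ N, ∀ y : (P ⊔ (centralizerIn S T) : Subgroup Ω), (y : Ω) ∈ P →
        ((x y : _) : Ω) = t * (y : Ω) * t⁻¹) ∧
        ∀ y : (P ⊔ (centralizerIn S T) : Subgroup Ω), (y : Ω) ∈ (centralizerIn S T) → (y : Ω)⁻¹ * (x y : (P ⊔ (centralizerIn S T) : Subgroup Ω)) ∈ P}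
      one_mem' := ⟨Subgroup.one_mem _, ⟨1, N.one_mem, fun y _ => by simp⟩, fun y _ => by simp⟩
      mul_mem' := by
        rintro a b ⟨ha0, ⟨t, ht, hat⟩, ha⟩ ⟨hb0, ⟨u, hu, hbu⟩, hb⟩
        refine ⟨Subgroup.mul_mem _ ha0 hb0, ⟨t * u, N.mul_mem ht hu, fun y hy => ?_⟩, fun y hy => ?_⟩
        · rw [MulAut.mul_apply, hat _ (by rw [hbu y hy]; exact (Subgroup.mem_normalizer_iff.1 hu.2 _).1 hy), hbu y hy]
          group
        · have h : b y = y * ⟨_, Subgroup.mem_sup_left (hb y hy)⟩ := Subtype.ext (mul_inv_cancel_left (y : Ω) _).symm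
          rw [MulAut.mul_apply, h, map_mul, Subgroup.coe_mul, ← mul_assoc, hat ⟨_, Subgroup.mem_sup_left (hb y hy)⟩ (hb y hy)]
          exact P.mul_mem (ha y hy) ((Subgroup.mem_normalizer_iff.1 ht.2 _).1 (hb y hy))
      inv_mem' := by
        rintro a ⟨ha0, ⟨t, ht, hat⟩, ha⟩
        have hinv : ∀ y : (P ⊔ (centralizerIn S T) : Subgroup Ω), (y : Ω) ∈ P → ((a⁻¹ y : _) : Ω) = t⁻¹ * (y : Ω) * t⁻¹⁻¹ := by
          intro y hy
          have hy' : t⁻¹ * (y : Ω) * t ∈ P := (Subgroup.mem_normalizer_iff''.1 ht.2 _).1 hy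
          have h : a ⟨_, Subgroup.mem_sup_left hy'⟩ = y := Subtype.ext (by rw [hat _ hy']; group)
          conv_lhs => rw [← h, MulAut.inv_apply_self]
          simp
        refine ⟨Subgroup.inv_mem _ ha0, ⟨t⁻¹, N.inv_mem ht, hinv⟩, fun y hy => ?_⟩
        have h : a y = y * ⟨_, Subgroup.mem_sup_left (ha y hy)⟩ := Subtype.ext (mul_inv_cancel_left (y : Ω) _).symm
        have h2 := congrArg (DFunLike.coe (a⁻¹ : MulAut _)) h
        rw [MulAut.inv_apply_self, map_mul] at h2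
        rw [← eq_mul_inv_iff_mul_eq.2 h2.symm |>.symm, Subgroup.coe_mul, inv_mul_cancel_left, Subgroup.coe_inv]
        refine P.inv_mem ?_
        rw [hinv _ (ha y hy)]
        exact (Subgroup.mem_normalizer_iff.1 (Subgroup.inv_mem _ ht.2) _).1 (ha y hy) }
  obtain ⟨q, hq⟩ := IsPGroup.iff_card.1 (hTp.to_le hP.1)
  have hpow : ∀ z : (P ⊔ (centralizerIn S T) : Subgroup Ω), (z : Ω) ∈ P → z ^ p ^ q = 1 := fun z hz => by
    have h1 : (⟨(z : Ω), hz⟩ : P) ^ p ^ q = 1 := by rw [← hq]; exact pow_card_eq_one'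
    exact Subtype.ext (by simpa using congrArg Subtype.val h1)
  have hK0 : ∀ x ∈ stabTriv P (centralizerIn S T), x ^ p ^ q = 1 := by
    intro x hx
    refine mulAut_sup_ext hP.1 (fun y hy => ?_) fun c hc => ?_
    · exact (Subgroup.pow_mem _ hx _ : x ^ p ^ q ∈ stabTriv P (centralizerIn S T)).1 _ hy
    · set y : (P ⊔ (centralizerIn S T) : Subgroup Ω) := ⟨c, Subgroup.mem_sup_right hc⟩
      set z : (P ⊔ (centralizerIn S T) : Subgroup Ω) := ⟨_, Subgroup.mem_sup_left (hx.2 y hc)⟩ with hz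
      have h : x y = y * z := Subtype.ext (mul_inv_cancel_left (y : Ω) _).symm
      have key : ∀ m : ℕ, (x ^ m) y = y * z ^ m := by
        intro m
        induction m with
        | zero => simp
        | succ m ihm =>
          rw [pow_succ', MulAut.mul_apply, ihm, map_mul, map_pow, h, hx.1 z (hx.2 y hc), pow_succ', mul_assoc]
      rw [key, hpow z (hx.2 y hc), mul_one]
      rfl
  have hXp : IsPGroup p X := by
    rintro ⟨x, hx0, ⟨t, ht, htx⟩, hxC⟩
    obtain ⟨m, hm⟩ := IsPGroup.iff_card.1 (hTp.to_le hNT)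
    refine ⟨m + q, Subtype.ext ?_⟩
    show x ^ p ^ (m + q) = 1
    rw [pow_add, pow_mul]
    refine hK0 _ ⟨fun y hy => ?_, fun y hy => ?_⟩
    · have key : ∀ j : ℕ, ∀ y : (P ⊔ (centralizerIn S T) : Subgroup Ω), (y : Ω) ∈ P →
          (((x ^ j) y : _) : Ω) = t ^ j * (y : Ω) * (t ^ j)⁻¹ := by
        intro j
        induction j with
        | zero => intro y _; simp
        | succ j ihj =>
          intro y hy
          rw [pow_succ, MulAut.mul_apply, ihj _ (by rw [htx y hy]; exact (Subgroup.mem_normalizer_iff.1 ht.2 _).1 hy),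
            htx y hy, pow_succ]
          group
      have h1 : t ^ p ^ m = 1 := by
        have h1 : (⟨t, ht⟩ : N) ^ p ^ m = 1 := by rw [← hm]; exact pow_card_eq_one'
        simpa using congrArg Subtype.val h1
      exact Subtype.ext (by rw [key _ y hy, h1]; simp)
    · exact ((⟨x, hx0, ⟨t, ht, htx⟩, hxC⟩ : X) ^ p ^ m).2.2.2 y hy
  have hconjX : ∀ {t : Ω} (ht : t ∈ N) {x : MulAut (P ⊔ (centralizerIn S T) : Subgroup Ω)},
      (∀ y, ((x y : (P ⊔ (centralizerIn S T) : Subgroup Ω)) : Ω) = t * (y : Ω) * t⁻¹) → x ∈ X ∧ k * x * k⁻¹ ∈ X := by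
    intro t ht x hx
    have hxA : x ∈ F.autGroup (P ⊔ (centralizerIn S T)) :=
      autInducedBy_le_autGroup F hAS ((mem_autInducedBy_iff _).2 ⟨t, hT.1 (hNT ht), hx⟩)
    have hxC : ∀ y : (P ⊔ (centralizerIn S T) : Subgroup Ω), (y : Ω) ∈ (centralizerIn S T) → x y = y := fun y hy =>
      Subtype.ext (by rw [hx, hcomm (hNT ht) hy, mul_inv_cancel_right])
    refine ⟨⟨hxA, ⟨t, ht, fun y _ => hx y⟩, fun y hy => by rw [hxC y hy, inv_mul_cancel]; exact P.one_mem⟩,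
      ⟨Subgroup.mul_mem _ (Subgroup.mul_mem _ hk hxA) (Subgroup.inv_mem _ hk), ⟨t, ht, fun y hy => ?_⟩,
        fun y hy => ?_⟩⟩
    · have h1 : k⁻¹ y = y := by conv_lhs => rw [← hfix y hy, MulAut.inv_apply_self]
      have h2 : ((x y : _) : Ω) ∈ P := by rw [hx]; exact (Subgroup.mem_normalizer_iff.1 ht.2 _).1 hy
      rw [MulAut.mul_apply, MulAut.mul_apply, h1, hfix _ h2, hx]
    · obtain ⟨u, hu, c, hc, huc⟩ := sup_eq_mul hP.1 (k⁻¹ y).2
      set u' : (P ⊔ (centralizerIn S T) : Subgroup Ω) := ⟨u, Subgroup.mem_sup_left hu⟩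
      set c' : (P ⊔ (centralizerIn S T) : Subgroup Ω) := ⟨c, Subgroup.mem_sup_right hc⟩
      have e : k⁻¹ y = u' * c' := Subtype.ext huc.symm
      have hxu : ((x u' : _) : Ω) ∈ P := by rw [hx]; exact (Subgroup.mem_normalizer_iff.1 ht.2 _).1 hu
      have e2 : (k * x * k⁻¹) y = x u' * u'⁻¹ * y := by
        rw [MulAut.mul_apply, MulAut.mul_apply, e, map_mul, hxC c' hc, map_mul, hfix _ hxu,
          show c' = u'⁻¹ * k⁻¹ y by rw [e, inv_mul_cancel_left], map_mul, map_inv, hfix u' hu,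
          MulAut.apply_inv_self, mul_assoc]
      have hz : ((x u' * u'⁻¹ : (P ⊔ (centralizerIn S T) : Subgroup Ω)) : Ω) ∈ P := P.mul_mem hxu (P.inv_mem hu)
      rw [e2, Subgroup.coe_mul, hcomm (hP.1 hz) hy, inv_mul_cancel_left]
      exact hz
  -- move `X` into `Aut_S` of a fully normalized conjugate
  obtain ⟨B, ⟨θ₀, hθ₀, hθ₀r⟩, hB⟩ := exists_fullyNormalized F hAS
  haveI := finite_of_le hB.1
  set e := mapEquiv F hθ₀ hθ₀r
  have hem : equivHom e ∈ F.Hom (P ⊔ (centralizerIn S T)) := equivHom_mapEquiv F hθ₀ hθ₀r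
  have hXB : X.map (MulAut.congr e).toMonoidHom ≤ F.autGroup B := by
    rw [← map_autGroup F e hem (mapEquiv_symm_mem F hθ₀ hθ₀r)]
    exact Subgroup.map_mono fun x hx => hx.1
  obtain ⟨γ, hγ, hle⟩ := (isSyl_of_fullyAutomized (fullyNormalized_imp hS hFs hB).2).exists_conj (hXp.map _) hXB
  set e₂ : (P ⊔ (centralizerIn S T) : Subgroup Ω) ≃* B := e.trans γ
  have he₂ : equivHom e₂ ∈ F.Hom (P ⊔ (centralizerIn S T)) := equivHom_trans F hem ((mem_autGroup_iff F hB.1 γ).1 hγ)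
  set e₁ : (P ⊔ (centralizerIn S T) : Subgroup Ω) ≃* B := (k : (P ⊔ (centralizerIn S T) : Subgroup Ω) ≃* (P ⊔ (centralizerIn S T) : Subgroup Ω)).trans e₂
  have he₁ : equivHom e₁ ∈ F.Hom (P ⊔ (centralizerIn S T)) := equivHom_trans F ((mem_autGroup_iff F hAS k).1 hk) he₂
  have hXS : ∀ x ∈ X, ∃ g ∈ S, ∀ y, ((e₂ (x y) : B) : Ω) = g * (e₂ y : B) * g⁻¹ := by
    intro x hx
    obtain ⟨g, hg, hge⟩ := (mem_autInducedBy_iff _).1 (hle ⟨_, ⟨x, hx, rfl⟩, rfl⟩)
    refine ⟨g, hg, fun y => Eq.trans ?_ (hge (e₂ y))⟩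
    simp [e₂, MulAut.mul_apply, congr_apply]
  have hext : N ⊔ (centralizerIn S T) ≤ extender S (P ⊔ (centralizerIn S T)) (equivHom e₂) ∧ N ⊔ (centralizerIn S T) ≤ extender S (P ⊔ (centralizerIn S T)) (equivHom e₁) := by
    constructor <;>
    · refine sup_le (fun t ht => ?_) ((le_sup_right : (centralizerIn S T) ≤ P ⊔ (centralizerIn S T)).trans (le_extender F (by assumption)))
      obtain ⟨x, hx, hxe⟩ := exists_conjAut (K := S) (P := P ⊔ (centralizerIn S T)) (hT.1 (hNT ht)) (hNnorm ht)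
      obtain ⟨h1, h2⟩ := hconjX ht hxe
      obtain ⟨g₂, hg₂, hge₂⟩ := hXS x h1
      obtain ⟨g₁, hg₁, hge₁⟩ := hXS _ h2
      first
      | refine Subgroup.subset_closure ⟨hT.1 (hNT ht), hNnorm ht, g₂, hg₂, fun y hy => ?_⟩
        show ((e₂ ⟨_, hy⟩ : B) : Ω) = g₂ * (e₂ y : B) * g₂⁻¹
        rw [show (⟨t * (y : Ω) * t⁻¹, hy⟩ : (P ⊔ (centralizerIn S T) : Subgroup Ω)) = x y from Subtype.ext (hxe y).symm]
        exact hge₂ y
      | refine Subgroup.subset_closure ⟨hT.1 (hNT ht), hNnorm ht, g₁, hg₁, fun y hy => ?_⟩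
        show ((e₂ (k ⟨_, hy⟩) : B) : Ω) = g₁ * (e₂ (k y) : B) * g₁⁻¹
        rw [show (⟨t * (y : Ω) * t⁻¹, hy⟩ : (P ⊔ (centralizerIn S T) : Subgroup Ω)) = x y from Subtype.ext (hxe y).symm]
        have := hge₁ (k y)
        rw [MulAut.mul_apply, MulAut.mul_apply, MulAut.inv_apply_self] at this
        exact this
  obtain ⟨ψ₂, hψ₂, hψ₂e⟩ := (fullyNormalized_receptive hS hFs hB).2 _ _ he₂ (equivHom_range e₂)
  obtain ⟨ψ₁, hψ₁, hψ₁e⟩ := (fullyNormalized_receptive hS hFs hB).2 _ _ he₁ (equivHom_range e₁)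
  have hθ := restrict_mem F hψ₂ hext.1
  have hψ := restrict_mem F hψ₁ hext.2
  set θ := ψ₂.comp (Subgroup.inclusion hext.1)
  set ψ := ψ₁.comp (Subgroup.inclusion hext.2)
  have hθe : ∀ y : (P ⊔ (centralizerIn S T) : Subgroup Ω), θ (Subgroup.inclusion hPN' y) = e₂ y := fun y => hψ₂e y y.2 _
  have hψe : ∀ y : (P ⊔ (centralizerIn S T) : Subgroup Ω), ψ (Subgroup.inclusion hPN' y) = e₂ (k y) := fun y => hψ₁e y y.2 _
  have hdiff : ∀ (t : Ω) (ht : t ∈ N), ∃ z : (P ⊔ (centralizerIn S T) : Subgroup Ω), (z : Ω) ∈ P ∧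
      ψ ⟨t, Subgroup.mem_sup_left ht⟩ = θ (⟨t, Subgroup.mem_sup_left ht⟩ * Subgroup.inclusion hPN' z) := by
    intro t ht
    set tt : (N ⊔ (centralizerIn S T) : Subgroup Ω) := ⟨t, Subgroup.mem_sup_left ht⟩
    have hθP := restrict_mem F hθ (le_trans hPN.le le_sup_left : P ≤ N ⊔ (centralizerIn S T))
    have hQc : E.IsCentric _ := centric_of_conj hEi hP ⟨_, hθP, rfl⟩
    have hz : (θ tt)⁻¹ * ψ tt ∈ centralizerIn T (θ.comp (Subgroup.inclusion (le_trans hPN.le le_sup_left))).range := by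
      refine ⟨T.mul_mem (T.inv_mem (stronglyClosed_apply_mem hT hθ tt (hNT ht)))
        (stronglyClosed_apply_mem hT hψ tt (hNT ht)), Subgroup.mem_centralizer_iff.2 ?_⟩
      rintro _ ⟨y, rfl⟩
      have hy' : t * (y : Ω) * t⁻¹ ∈ P := (Subgroup.mem_normalizer_iff.1 ht.2 _).1 y.2
      have hψP : ∀ (w : Ω) (hw : w ∈ P),
          ψ ⟨w, hPN' (Subgroup.mem_sup_left hw)⟩ = θ ⟨w, hPN' (Subgroup.mem_sup_left hw)⟩ := fun w hw => by
        refine (hψe ⟨w, Subgroup.mem_sup_left hw⟩).trans ?_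
        rw [hfix _ hw]
        exact (hθe _).symm
      have e1 := hψP _ hy'
      rw [map_apply_conj ψ (Subgroup.mem_sup_left ht) (hPN' (Subgroup.mem_sup_left y.2)) _,
        map_apply_conj θ (Subgroup.mem_sup_left ht) (hPN' (Subgroup.mem_sup_left y.2)) _, hψP _ y.2] at e1
      show θ ⟨y, _⟩ * _ = _ * θ ⟨y, _⟩
      calc θ ⟨y, hPN' (Subgroup.mem_sup_left y.2)⟩ * ((θ tt)⁻¹ * ψ tt)
          = (θ tt)⁻¹ * (θ tt * θ ⟨y, hPN' (Subgroup.mem_sup_left y.2)⟩ * (θ tt)⁻¹) * ψ tt := by group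
        _ = (θ tt)⁻¹ * (ψ tt * θ ⟨y, hPN' (Subgroup.mem_sup_left y.2)⟩ * (ψ tt)⁻¹) * ψ tt := by
          show (θ tt)⁻¹ * (θ ⟨t, Subgroup.mem_sup_left ht⟩ * _ * (θ ⟨t, Subgroup.mem_sup_left ht⟩)⁻¹) * _ = _
          rw [← e1]
        _ = (θ tt)⁻¹ * ψ tt * θ ⟨y, hPN' (Subgroup.mem_sup_left y.2)⟩ := by group
    obtain ⟨y, hy⟩ := hQc.2 _ (isConj_refl E hQc.1) hz
    refine ⟨⟨y, Subgroup.mem_sup_left y.2⟩, y.2, ?_⟩
    rw [map_mul, show θ (Subgroup.inclusion hPN' ⟨(y : Ω), Subgroup.mem_sup_left y.2⟩) = (θ tt)⁻¹ * ψ tt from hy,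
      mul_inv_cancel_left]
  have hrange : ψ.range ≤ θ.range := by
    rintro _ ⟨⟨x, hx⟩, rfl⟩
    obtain ⟨t, ht, c, hc, rfl⟩ := sup_eq_mul hNT hx
    obtain ⟨z, -, hz⟩ := hdiff t ht
    rw [show (⟨t * c, hx⟩ : (N ⊔ (centralizerIn S T) : Subgroup Ω)) =
      ⟨t, Subgroup.mem_sup_left ht⟩ * ⟨c, Subgroup.mem_sup_right hc⟩ from rfl, map_mul, hz]
    refine Subgroup.mul_mem _ ⟨_, rfl⟩ ⟨Subgroup.inclusion hPN' (k ⟨c, Subgroup.mem_sup_right hc⟩), ?_⟩
    exact (hθe _).trans (hψe ⟨c, Subgroup.mem_sup_right hc⟩).symm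
  obtain ⟨θi, hθi, hθie, hθir, -⟩ := exists_inv_imgOf F hθ
  have hη₀ := F.comp_mem hψ hθi fun x => hrange ⟨x, rfl⟩
  set η₀ := θi.comp (ψ.codRestrict θ.range fun x => hrange ⟨x, rfl⟩)
  have hη₀r : η₀.range = N ⊔ (centralizerIn S T) := Subgroup.eq_of_le_of_card_ge
    (by rintro _ ⟨x, rfl⟩; exact hθir.le ⟨_, rfl⟩) (isConj_card ⟨η₀, hη₀, rfl⟩).le
  obtain ⟨η₁, hη₁, hη₁e⟩ := exists_autGroup_of_range F hη₀ hη₀r
  have hη₁A : ∀ y : (P ⊔ (centralizerIn S T) : Subgroup Ω),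
      η₁ (Subgroup.inclusion hPN' y) = Subgroup.inclusion hPN' (k y) := fun y => Subtype.ext <| by
    rw [hη₁e]
    show θi ⟨ψ _, _⟩ = _
    exact (apply_congr θi ((hψe y).trans (hθe (k y)).symm) _ ⟨_, rfl⟩).trans (hθie _ _)
  have hη₁N : ∀ (t : Ω) (ht : t ∈ N), ∃ z : (P ⊔ (centralizerIn S T) : Subgroup Ω), (z : Ω) ∈ P ∧
      η₁ ⟨t, Subgroup.mem_sup_left ht⟩ = ⟨t, Subgroup.mem_sup_left ht⟩ * Subgroup.inclusion hPN' z := by
    intro t ht
    obtain ⟨z, hzP, hz⟩ := hdiff t ht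
    refine ⟨z, hzP, Subtype.ext ?_⟩
    rw [hη₁e]
    exact (apply_congr θi hz _ ⟨_, rfl⟩).trans (hθie _ _)
  have hηq : ∀ (t : Ω) (ht : t ∈ N),
      (η₁ ^ p ^ q) ⟨t, Subgroup.mem_sup_left ht⟩ = ⟨t, Subgroup.mem_sup_left ht⟩ := by
    intro t ht
    obtain ⟨z, hzP, hz⟩ := hη₁N t ht
    have key : ∀ m : ℕ, (η₁ ^ m) ⟨t, Subgroup.mem_sup_left ht⟩ =
        ⟨t, Subgroup.mem_sup_left ht⟩ * Subgroup.inclusion hPN' (z ^ m) := by
      intro m
      induction m with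
      | zero => simp
      | succ m ihm =>
        have hk' : k (z ^ m) = z ^ m := by rw [map_pow, hfix z hzP]
        rw [pow_succ', MulAut.mul_apply, ihm, map_mul, hz, hη₁A, hk', mul_assoc, ← map_mul, ← pow_succ']
    rw [key, hpow z hzP, map_one, mul_one]
  obtain ⟨e, he0, he1⟩ := Nat.chineseRemainder (hM.symm.pow_left q) 0 1
  set η := η₁ ^ e with hη
  have hdvd : p ^ q ∣ e := Nat.modEq_zero_iff_dvd.1 he0
  have hηfix : ∀ y : (N ⊔ (centralizerIn S T) : Subgroup Ω), (y : Ω) ∈ N → η y = y := by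
    intro y hy
    obtain ⟨r, hr⟩ := hdvd
    rw [hη, hr, pow_mul]
    have key : ∀ j : ℕ, ((η₁ ^ p ^ q) ^ j) y = y := by
      intro j
      induction j with
      | zero => rfl
      | succ j ihj => rw [pow_succ', MulAut.mul_apply, ihj]; exact hηq _ hy
    exact key r
  have hke : k ^ e * k⁻¹ ∈ stabTriv P (centralizerIn S T) := by
    obtain ⟨j, hj⟩ := Nat.modEq_iff_dvd.1 he1.symm
    have h : k ^ e * k⁻¹ = (k ^ M) ^ j := by
      rw [← zpow_natCast k e, ← zpow_natCast k M, ← _root_.zpow_mul, ← zpow_neg_one, ← _root_.zpow_add, ← hj]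
      congr 1
    rw [h]
    exact Subgroup.zpow_mem _ hkM j
  have hNc : E.IsCentric N := isCentric_mono hP hPN.le hNT
  have hηM : η ^ M ∈ stabTriv N (centralizerIn S T) := by
    refine ⟨fun y hy => ?_, fun y hy => ?_⟩
    · induction M with
      | zero => rfl
      | succ m ihm => clear ihm; induction (m + 1) with
        | zero => rfl
        | succ j ihj => rw [pow_succ', MulAut.mul_apply, ihj, hηfix y hy]
    · have h1 := pow_restrict hPN' hη₁A (e * M) ⟨y, Subgroup.mem_sup_right hy⟩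
      rw [pow_mul, ← hη] at h1
      have h2 : ((k ^ e) ^ M) ∈ stabTriv P (centralizerIn S T) := by
        rw [← pow_mul, mul_comm, pow_mul]; exact Subgroup.pow_mem _ hkM e
      rw [show y = Subgroup.inclusion hPN' ⟨y, Subgroup.mem_sup_right hy⟩ from rfl, h1, pow_mul]
      exact hPN.le (h2.2 ⟨y, Subgroup.mem_sup_right hy⟩ hy)
  obtain ⟨η', hη', hη'fix, hη'C⟩ := ih _ (hn ▸ Nat.sub_lt_sub_left
    (lt_of_lt_of_le (card_lt_of_lt hPN) (Subgroup.card_le_of_le hNT)) (card_lt_of_lt hPN)) hNc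
    (Subgroup.pow_mem _ hη₁ e) hηfix hηM rfl
  refine ⟨η', hη', hη'fix, fun c hc => ?_⟩
  have h1 := pow_restrict hPN' hη₁A e ⟨c, Subgroup.mem_sup_right hc⟩
  rw [← hη] at h1
  set y : (P ⊔ (centralizerIn S T) : Subgroup Ω) := ⟨c, Subgroup.mem_sup_right hc⟩
  obtain ⟨u, hu, d, hd, hud⟩ := sup_eq_mul hP.1 (k y).2
  set u' : (P ⊔ (centralizerIn S T) : Subgroup Ω) := ⟨u, Subgroup.mem_sup_left hu⟩
  set d' : (P ⊔ (centralizerIn S T) : Subgroup Ω) := ⟨d, Subgroup.mem_sup_right hd⟩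
  have e3 : k y = u' * d' := Subtype.ext hud.symm
  have e4 : (k ^ e) y = (k ^ e * k⁻¹) u' * (k ^ e * k⁻¹) d' := by
    rw [← map_mul, ← e3, MulAut.mul_apply, MulAut.inv_apply_self]
  rw [hke.1 u' hu] at e4
  have hd2 := hke.2 d' hd
  have key : ((k y : _) : Ω) = (((η ⟨c, Subgroup.mem_sup_right hc⟩ : (N ⊔ (centralizerIn S T) : Subgroup Ω)) : Ω)) *
      ((((k ^ e * k⁻¹) d' : _) : Ω)⁻¹ * d) := by
    have h4 := congrArg (fun z : (P ⊔ (centralizerIn S T) : Subgroup Ω) => (z : Ω)) e4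
    have h5 : ((η ⟨c, Subgroup.mem_sup_right hc⟩ : (N ⊔ (centralizerIn S T) : Subgroup Ω)) : Ω) = (((k ^ e) y : _) : Ω) :=
      congrArg (fun z : (N ⊔ (centralizerIn S T) : Subgroup Ω) => (z : Ω)) h1
    rw [h5, h4, e3]
    show u * d = u * _ * _
    group
  have h6 := hη'C c hc
  rw [key, ← mul_assoc]
  refine T.mul_mem h6 (hP.1 ?_)
  rw [← inv_inv ((((k ^ e * k⁻¹) d' : _) : Ω)⁻¹ * d), mul_inv_rev, inv_inv]
  exact P.inv_mem hd2

/-- An automorphism of `T` good on a centric subgroup is good. -/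
theorem good_top (hS : IsPGroup p S) (hE : E.IsWeaklyNormalIn F p) {P : Subgroup Ω} (hP : E.IsCentric P)
    {α : MulAut T} (hα : α ∈ E.autGroup T)
    (hgood : GoodMap F T P ((T.subtype.comp α.toMonoidHom).comp (Subgroup.inclusion hP.1))) :
    GoodMap F T T (T.subtype.comp α.toMonoidHom) := by
  obtain ⟨hEs, hFs, hEi⟩ := id hE
  have hT := hEi.2.1
  haveI : Finite T := finite_of_le hT.1
  have hTp : IsPGroup p T := hS.to_le hT.1
  have hTC : T ⊔ centralizerIn S T ≤ S := sup_le hT.1 (centralizerIn_le S T)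
  haveI := finite_of_le hTC
  have hTc : E.IsCentric T := isCentric_mono hP hP.1 le_rfl
  -- split off the `p`-part
  set o := orderOf α with ho
  have ho0 : o ≠ 0 := (orderOf_pos α).ne'
  set a := p ^ o.factorization p with hadef
  set b := o / p ^ o.factorization p with hbdef
  have hab : a * b = o := Nat.ordProj_mul_ordCompl_eq_self o p
  have hbp : b.Coprime p := (Nat.coprime_ordCompl hp.out ho0).symm
  obtain ⟨e, he0, he1⟩ := Nat.chineseRemainder (hbp.symm.pow_left (o.factorization p)) 0 1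
  set α' := α ^ e with hα'
  have hα'o : α' ^ b = 1 := by
    obtain ⟨r, hr⟩ := Nat.modEq_zero_iff_dvd.1 he0
    rw [hα', ← pow_mul, hr, show a * r * b = o * r by rw [← hab, hadef]; ring, pow_mul, pow_orderOf_eq_one,
      _root_.one_pow]
  have hinn : α'⁻¹ * α ∈ Inn T := by
    refine mem_of_pow_mem (p := p) (I := Inn T) (J := Inn T) (A := E.autGroup T) (k := o.factorization p) le_rfl
      (inn_isSyl hTp hEs).1 ?_ (inn_isSyl hTp hEs) (Subgroup.mul_mem _ (Subgroup.inv_mem _ (Subgroup.pow_mem _ hα e)) hα) ?_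
    · haveI := Cfsg.innNormal T
      rw [Subgroup.normalizer_eq_top_iff.2 inferInstance]
      exact le_top
    · obtain ⟨j, hj⟩ := Nat.modEq_iff_dvd.1 he1
      have h : α'⁻¹ * α = (α ^ b) ^ j := by
        rw [hα', ← zpow_natCast α e, ← zpow_natCast α b, ← _root_.zpow_mul, ← _root_.zpow_neg, ← zpow_add_one]
        congr 1
        push_cast at hj
        omega
      rw [h, ← zpow_natCast ((α ^ b) ^ j), ← _root_.zpow_mul, mul_comm j, _root_.zpow_mul, zpow_natCast, ← pow_mul,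
        mul_comm b, hab, pow_orderOf_eq_one, _root_.one_zpow]
      exact Subgroup.one_mem _
  obtain ⟨g, hg⟩ := hinn
  have hαe : ∀ x : T, α x = α' (g * x * g⁻¹) := fun x => by
    rw [show g * x * g⁻¹ = (α'⁻¹ * α) x by rw [← hg]; rfl, MulAut.mul_apply, MulAut.apply_inv_self]
  have hgT : (g : Ω) ∈ T := g.2
  have hgoodg : GoodMap F T T (conjHom T (g : Ω)) := good_conj hT.1 le_rfl hgT
  set P' := (conjHom P (g : Ω)).range with hP'
  have hP'c : E.IsCentric P' := isCentric_isConj hP ⟨_, E.conj_mem hP.1 hgT, rfl⟩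
  have hgi : GoodMap F T P' (conjHom P' (g : Ω)⁻¹) := good_conj hT.1 hP'c.1 (T.inv_mem hgT)
  have hconj : ∀ y : P', (g : Ω)⁻¹ * (y : Ω) * (g : Ω)⁻¹⁻¹ ∈ P := by
    rintro ⟨_, x, rfl⟩
    show (g : Ω)⁻¹ * ((g : Ω) * (x : Ω) * (g : Ω)⁻¹) * (g : Ω)⁻¹⁻¹ ∈ P
    simp [mul_assoc]
  have hα'm : T.subtype.comp α'.toMonoidHom ∈ E.Hom T := (mem_autGroup_iff E le_rfl _).1 (Subgroup.pow_mem _ hα e)
  have hgood' : GoodMap F T P' ((T.subtype.comp α'.toMonoidHom).comp (Subgroup.inclusion hP'c.1)) := by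
    refine good_congr (good_comp hP'c (E.conj_mem hP'c.1 (T.inv_mem hgT))
      (restrict_mem E ((mem_autGroup_iff E le_rfl α).1 hα) hP.1) hgi hgood hconj) fun y => ?_
    show ((α' ⟨y, _⟩ : T) : Ω) = ((α ⟨(g : Ω)⁻¹ * (y : Ω) * (g : Ω)⁻¹⁻¹, _⟩ : T) : Ω)
    rw [hαe]
    exact congrArg (fun z : T => ((α' z : T) : Ω)) (Subtype.ext (by simp [mul_assoc]))
  suffices h : GoodMap F T T (T.subtype.comp α'.toMonoidHom) by
    refine good_congr (good_comp hTc (E.conj_mem le_rfl hgT) hα'm hgoodg h fun x => (g * x * g⁻¹ : T).2) fun x => ?_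
    exact congrArg Subtype.val (hαe x)
  clear hgood hgi hconj
  obtain ⟨σ₀, hσ₀, hσ₀T, hσ₀C⟩ := exists_top_ext hS hFs hT (autGroup_mono hEi.1 T (Subgroup.pow_mem _ hα e))
  change ∀ x : T, _ = ((α' x : T) : Ω) at hσ₀T
  -- make `σ` of order prime to `p`
  have hrestr : ∀ x : T, σ₀ (Subgroup.inclusion le_sup_left x) = Subgroup.inclusion le_sup_left (α' x) :=
    fun x => Subtype.ext (hσ₀T x)
  set o' := orderOf σ₀ with ho'
  have ho'0 : o' ≠ 0 := (orderOf_pos σ₀).ne'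
  set a' := p ^ o'.factorization p with ha'def
  set b' := o' / p ^ o'.factorization p with hb'def
  have hab' : a' * b' = o' := Nat.ordProj_mul_ordCompl_eq_self o' p
  have hbp' : b'.Coprime p := (Nat.coprime_ordCompl hp.out ho'0).symm
  obtain ⟨e', he0', he1'⟩ := Nat.chineseRemainder (hbp'.symm.pow_left (o'.factorization p)) 0 1
  set σ := σ₀ ^ e' with hσdef
  have hσm : σ ∈ F.autGroup _ := Subgroup.pow_mem _ hσ₀ e'
  have hσb : σ ^ b' = 1 := by
    obtain ⟨r, hr⟩ := Nat.modEq_zero_iff_dvd.1 he0'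
    rw [hσdef, ← pow_mul, hr, show a' * r * b' = o' * r by rw [← hab', ha'def]; ring, pow_mul, pow_orderOf_eq_one,
      _root_.one_pow]
  have hσT : ∀ x : T, σ (Subgroup.inclusion le_sup_left x) = Subgroup.inclusion le_sup_left (α' x) := fun x => by
    have h1 : α' ^ o' = 1 := MulEquiv.ext fun z => Subgroup.inclusion_injective le_sup_left
      ((pow_restrict le_sup_left hrestr o' z).symm.trans (by rw [pow_orderOf_eq_one]; rfl))
    have h2 : orderOf α' ∣ b' := by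
      refine (Nat.Coprime.dvd_mul_left ?_).1 (hab'.symm ▸ orderOf_dvd_of_pow_eq_one h1)
      exact Nat.Coprime.coprime_dvd_left (orderOf_dvd_of_pow_eq_one hα'o) (hbp.pow_right _)
    rw [hσdef, pow_restrict le_sup_left hrestr e' x, pow_eq_pow_of_modEq (he1'.of_dvd h2) (pow_orderOf_eq_one α'),
      pow_one]
  have hσC : ∀ c : (T ⊔ centralizerIn S T : Subgroup Ω), (c : Ω) ∈ centralizerIn S T →
      ∀ j : ℕ, (((σ ^ j) c : _) : Ω) ∈ centralizerIn S T := by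
    intro c hc j
    rw [hσdef, ← pow_mul]
    generalize e' * j = m
    induction m with
    | zero => exact hc
    | succ m ihm => rw [pow_succ', MulAut.mul_apply]; exact hσ₀C _ ihm
  obtain ⟨ψ, hψ, hψe, hψc⟩ := hgood'
  obtain ⟨-, hψr⟩ := good_values hP'c (restrict_mem E hα'm hP'c.1) hψe hψc
  have hσi : σ⁻¹ = σ ^ (b' - 1) := by
    have hb1 : 0 < b' := Nat.pos_of_ne_zero fun h => ho'0 (by rw [← hab', h, mul_zero])
    rw [inv_eq_iff_mul_eq_one, ← pow_succ', Nat.sub_add_cancel hb1, hσb]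
  have hA' : P' ⊔ centralizerIn S T ≤ T ⊔ centralizerIn S T := sup_le_sup_right hP'c.1 _
  have hA'S := hA'.trans hTC
  haveI := finite_of_le hA'S
  have hvT : ∀ x, ψ x ∈ T ⊔ centralizerIn S T := fun x =>
    sup_le_sup_right (range_le E (restrict_mem E hα'm hP'c.1)) _ (hψr.le ⟨x, rfl⟩)
  have hk₀ := F.comp_mem hψ ((mem_autGroup_iff F hTC _).1 (Subgroup.inv_mem _ hσm)) hvT
  set k₀ := ((T ⊔ centralizerIn S T).subtype.comp (σ⁻¹).toMonoidHom).comp (ψ.codRestrict _ hvT)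
  have hk₀P : ∀ (y : Ω) (hy : y ∈ P'), k₀ ⟨y, Subgroup.mem_sup_left hy⟩ = y := by
    intro y hy
    show ((σ⁻¹ ⟨ψ _, _⟩ : _) : Ω) = y
    have h : (⟨ψ ⟨y, Subgroup.mem_sup_left hy⟩, hvT _⟩ : (T ⊔ centralizerIn S T : Subgroup Ω)) =
        σ (Subgroup.inclusion le_sup_left ⟨y, hP'c.1 hy⟩) := by
      rw [hσT]
      exact Subtype.ext (hψe ⟨y, hy⟩ _)
    rw [h, MulAut.inv_apply_self]
    rfl
  have hk₀C : ∀ (c : Ω) (hc : c ∈ centralizerIn S T), ∃ z ∈ P',
      k₀ ⟨c, Subgroup.mem_sup_right hc⟩ = ((σ⁻¹ ⟨c, Subgroup.mem_sup_right hc⟩ : _) : Ω) * z := by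
    intro c hc
    obtain ⟨h1, -⟩ := good_values hP'c (restrict_mem E hα'm hP'c.1) hψe hψc
    obtain ⟨x, hx⟩ := h1 c hc
    refine ⟨x, x.2, ?_⟩
    show ((σ⁻¹ ⟨ψ _, _⟩ : _) : Ω) = _
    rw [show (⟨ψ ⟨c, Subgroup.mem_sup_right hc⟩, hvT _⟩ : (T ⊔ centralizerIn S T : Subgroup Ω)) =
      ⟨c, Subgroup.mem_sup_right hc⟩ * σ (Subgroup.inclusion le_sup_left ⟨x, hP'c.1 x.2⟩) from Subtype.ext (by
        rw [hσT, Subgroup.coe_mul]
        show ψ _ = c * _
        rw [← mul_inv_cancel_left c (ψ ⟨c, Subgroup.mem_sup_right hc⟩), ← hx]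
        rfl), map_mul, MulAut.inv_apply_self]
    rfl
  have hk₀r : k₀.range = P' ⊔ centralizerIn S T := by
    refine Subgroup.eq_of_le_of_card_ge ?_ (isConj_card ⟨k₀, hk₀, rfl⟩).le
    rintro _ ⟨⟨x, hx⟩, rfl⟩
    obtain ⟨y, hy, c, hc, rfl⟩ := sup_eq_mul hP'c.1 hx
    obtain ⟨z, hz, hzc⟩ := hk₀C c hc
    rw [show (⟨y * c, hx⟩ : (P' ⊔ centralizerIn S T : Subgroup Ω)) =
      ⟨y, Subgroup.mem_sup_left hy⟩ * ⟨c, Subgroup.mem_sup_right hc⟩ from rfl, map_mul, hk₀P y hy, hzc]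
    refine Subgroup.mul_mem _ (Subgroup.mem_sup_left hy) (Subgroup.mul_mem _ (Subgroup.mem_sup_right ?_)
      (Subgroup.mem_sup_left hz))
    rw [hσi]
    exact hσC _ hc _
  obtain ⟨k, hk, hke⟩ := exists_autGroup_of_range F hk₀ hk₀r
  have hfix : ∀ y : (P' ⊔ centralizerIn S T : Subgroup Ω), (y : Ω) ∈ P' → k y = y := fun y hy =>
    Subtype.ext ((hke y).trans (hk₀P y hy))
  have hkpow : ∀ (j : ℕ) (c : Ω) (hc : c ∈ centralizerIn S T), ∃ z ∈ P',
      (((k ^ j) ⟨c, Subgroup.mem_sup_right hc⟩ : _) : Ω) =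
        (((σ⁻¹ ^ j) ⟨c, Subgroup.mem_sup_right hc⟩ : _) : Ω) * z := by
    intro j
    induction j with
    | zero => exact fun c hc => ⟨1, Subgroup.one_mem _, by simp⟩
    | succ j ihj =>
      intro c hc
      obtain ⟨z, hz, hzj⟩ := ihj c hc
      have hdC : (((σ⁻¹ ^ j) ⟨c, Subgroup.mem_sup_right hc⟩ : _) : Ω) ∈ centralizerIn S T := by
        rw [hσi, ← pow_mul]; exact hσC _ hc _
      obtain ⟨z', hz', hzd⟩ := hk₀C _ hdC
      refine ⟨z' * z, Subgroup.mul_mem _ hz' hz, ?_⟩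
      rw [pow_succ', MulAut.mul_apply, show (k ^ j) ⟨c, Subgroup.mem_sup_right hc⟩ =
        (⟨_, Subgroup.mem_sup_right hdC⟩ : (P' ⊔ centralizerIn S T : Subgroup Ω)) *
          ⟨z, Subgroup.mem_sup_left hz⟩ from Subtype.ext hzj, map_mul, hfix ⟨z, _⟩ hz, Subgroup.coe_mul, hke, hzd,
        pow_succ', MulAut.mul_apply, mul_assoc]
  have hkM : k ^ b' ∈ stabTriv P' (centralizerIn S T) := by
    refine ⟨fun y hy => ?_, fun y hy => ?_⟩
    · have key : ∀ j : ℕ, (k ^ j) y = y := by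
        intro j
        induction j with
        | zero => rfl
        | succ j ihj => rw [pow_succ', MulAut.mul_apply, ihj, hfix y hy]
      exact key b'
    · obtain ⟨z, hz, hzb⟩ := hkpow b' y hy
      rw [inv_pow, hσb, inv_one] at hzb
      rw [hzb]
      show (y : Ω)⁻¹ * ((y : Ω) * z) ∈ P'
      rwa [inv_mul_cancel_left]
  obtain ⟨η, hη, hηfix, hηC⟩ := ext_trivial hS hE hP'c hk hfix hbp' hkM
  refine ⟨_, (mem_autGroup_iff F hTC _).1 (Subgroup.mul_mem _ hσm hη), fun x hx => ?_, fun c hc hc' => ?_⟩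
  · show ((σ (η (Subgroup.inclusion le_sup_left x)) : _) : Ω) = _
    rw [hηfix _ x.2, hσT]
    rfl
  · show c⁻¹ * ((σ (η ⟨c, hc'⟩) : _) : Ω) ∈ T
    obtain ⟨z, hz, hzc⟩ := hk₀C c hc
    have hw := hηC c hc
    rw [hke, hzc] at hw
    have hw2 : ((η ⟨c, hc'⟩ : _) : Ω)⁻¹ * ((σ⁻¹ ⟨c, Subgroup.mem_sup_right hc⟩ : _) : Ω) ∈ T := by
      have := T.mul_mem hw (T.inv_mem (hP'c.1 hz))
      simpa [mul_assoc] using this
    set w : (T ⊔ centralizerIn S T : Subgroup Ω) := ⟨_, Subgroup.mem_sup_left hw2⟩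
    have e : η ⟨c, hc'⟩ = σ⁻¹ ⟨c, Subgroup.mem_sup_right hc⟩ * w⁻¹ :=
      eq_mul_inv_of_mul_eq (Subtype.ext (mul_inv_cancel_left _ _))
    rw [e, map_mul, MulAut.apply_inv_self, Subgroup.coe_mul, inv_mul_cancel_left, map_inv]
    rw [show w = Subgroup.inclusion le_sup_left (⟨_, hw2⟩ : T) from rfl, hσT]
    exact T.inv_mem (α' _).2

/-- The good maps form a closed system. -/
theorem goodSys_closed (hS : IsPGroup p S) (hE : E.IsWeaklyNormalIn F p) :
    PPrimeClosed E (goodSys F E hE.2.2.2.1.1) p := by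
  obtain ⟨hEs, hFs, hEi⟩ := id hE
  haveI : Finite T := finite_of_le hEi.2.1.1
  have hTp : IsPGroup p T := hS.to_le hEi.2.1.1
  refine ⟨fun P hP a ha hk => good_paut hS hE hP ha hk, fun P R φ h hP hφ hR hres => ⟨hφ, fun hRc => ?_⟩⟩
  obtain ⟨a, ha, g, hg, hge⟩ := frattini_of_paut hTp hEs (D := goodSys F E hE.2.2.2.1.1)
    (goodSys_autInvariant hS hE) (fun P hP a ha hk => good_paut hS hE hP ha hk) hφ
  have hgP := restrict_mem _ hg h
  obtain ⟨gi, hgi, hgie, hgir, -⟩ := exists_inv_imgOf _ hgP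
  have hv : ∀ y, gi y ∈ P := fun y => hgir.le ⟨y, rfl⟩
  have hm := (goodSys F E hE.2.2.2.1.1).comp_mem hgi hres hv
  have hc : E.IsCentric (g.comp (Subgroup.inclusion h)).range := isCentric_isConj hP ⟨_, hgP.1, rfl⟩
  have htop := good_top hS hE hc ha (good_congr (hm.2 hc) fun y => by
    obtain ⟨_, x, rfl⟩ := y
    refine Eq.trans ?_ (congrArg (fun z : P => φ (Subgroup.inclusion h z)) (Subtype.ext (hgie x ⟨x, rfl⟩))).symm
    exact (hge (Subgroup.inclusion h x) (hom_apply_mem _ hg.1 _)).symm)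
  have hgc : E.IsCentric g.range := isCentric_isConj hRc ⟨g, hg.1, rfl⟩
  exact good_congr (good_comp hRc hg.1 ((mem_autGroup_iff E le_rfl a).1 ha) (hg.2 hRc) htop
    fun x => hom_apply_mem E hg.1 x) fun x => hge x _

/-- `O^{p'}` of a weakly normal subsystem is normal. -/
theorem pPrimeResidual_isNormalIn (hS : IsPGroup p S) (hE : E.IsWeaklyNormalIn F p) {D : FusionSystem T}
    (hD : E.IsPPrimeResidual p D) : D.IsNormalIn F p := by
  obtain ⟨hEs, hFs, hEi⟩ := id hE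
  have hT := hEi.2.1
  haveI : Finite T := finite_of_le hT.1
  have hTp : IsPGroup p T := hS.to_le hT.1
  have hDeq : D = pPrimeSys E p := le_antisymm_fusion
    (hD.2.2 _ (pPrimeSys_saturated hTp hEs) (pPrimeSys_index hTp hEs))
    (pPrimeSys_min (closed_of_index hTp hD.1 hD.2.1))
  subst hDeq
  refine ⟨⟨pPrimeSys_saturated hTp hEs, hFs, fun P φ hφ => hEi.1 P hφ.1, hT,
    pPrimeSys_autInvariant_of_invariant p hEi, fun P hP φ hφ => ?_⟩, fun α hα => ?_⟩
  · obtain ⟨α, hα, φ₀, hφ₀, he⟩ := hEi.2.2.2 P hP φ hφ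
    obtain ⟨β, hβ, φ₁, hφ₁, he₁⟩ := pPrimeSys_frattini hTp hEs hφ₀
    refine ⟨α * β, Subgroup.mul_mem _ hα (autGroup_mono hEi.1 T hβ), φ₁, hφ₁, fun x hx => ?_⟩
    rw [he x (hom_apply_mem E hφ₀ x), MulAut.mul_apply]
    exact congrArg (fun z : T => ((α z : T) : Ω)) (Subtype.ext (he₁ x hx))
  · have hm := (pPrimeSys_min (goodSys_closed hS hE) T ((mem_autGroup_iff _ le_rfl α).1 hα))
    have hTc : E.IsCentric T := ⟨le_rfl, fun Q hQ => by
      rw [Subgroup.eq_of_le_of_card_ge (isConj_le_right hQ) (isConj_card hQ).le]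
      exact centralizerIn_le T T⟩
    obtain ⟨ψ, hψ, he, hc⟩ := hm.2 hTc
    have hαm : T.subtype.comp α.toMonoidHom ∈ E.Hom T := ((mem_autGroup_iff _ le_rfl α).1 hα).1
    obtain ⟨h1, h2⟩ := good_values hTc hαm he hc
    have hr : (T.subtype.comp α.toMonoidHom).range = T := equivHom_range α
    rw [hr] at h2
    obtain ⟨β, hβ, hβe⟩ := exists_autGroup_of_range F hψ h2
    refine ⟨β, hβ, fun x => (hβe _).trans (he x _), fun c hc0 => ⟨?_, ?_⟩⟩
    · rw [hβe]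
      exact hc c hc0 c.2
    · refine Subgroup.mul_mem _ (Subgroup.inv_mem _ hc0.2) ?_
      rw [hβe]
      refine apply_mem_centralizer ψ le_sup_left ?_ c hc0.2
      rw [show ψ.comp (Subgroup.inclusion le_sup_left) = T.subtype.comp α.toMonoidHom from
        MonoidHom.ext fun x => he x (Subgroup.mem_sup_left x.2), hr]

end Cfsg.Agent.FusionSys
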