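import Cfsg.Agent.Lib.Fusion.CentralLiftSaturated
import Cfsg.Agent.Lib.Fusion.ResidualNormalExt

/-!
# Normal subsystems lift through central quotients

A normal subsystem of the factor of a saturated system by a central subgroup lifts to a normal subsystem
over the preimage of its carrier.
-/

set_option autoImplicit false

namespace Cfsg.Agent.FusionSys.CentLift

open Cfsg Cfsg.FusionSystem

variable {Ω : Type*} [Group Ω] {S : Subgroup Ω} {Ω' : Type*} [Group Ω'] {S' T' : Subgroup Ω'}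
  {F : FusionSystem S} {p : ℕ} {Z : Subgroup Ω} {θ : S →* Ω'} {Fb : FusionSystem S'} {E : FusionSystem T'}
  (h : Setup p F Z θ Fb E)

/-- Surplus automorphisms of `R` factor through the subsystem. -/
def KerFrattini (R : Subgroup Ω) : Prop :=
  ∀ k ∈ kerSub h R, FrattiniMap F (xSys h) R (equivHom k)

include h

/-- Maps congruent modulo `Z` have the same range and differ by a surplus automorphism. -/
theorem Setup.f_diff {P : Subgroup Ω} (hZP : Z ≤ P) {φ ψ : P →* Ω} (hφ : φ ∈ F.Hom P)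
    (hψ : ψ ∈ F.Hom P) (he : ∀ x : P, (φ x)⁻¹ * ψ x ∈ Z) :
    ψ.range = φ.range ∧ ∃ k ∈ kerSub h P, ∀ x : P, ψ x = φ (k x) := by
  have hfix : ∀ {χ : P →* Ω}, χ ∈ F.Hom P → ∀ z : Ω, ∀ hz : z ∈ Z, χ ⟨z, hZP hz⟩ = z :=
    fun hχ z hz => h.fix hχ _ hz
  have hr : ψ.range = φ.range := by
    refine le_antisymm ?_ ?_
    · rintro _ ⟨x, rfl⟩
      refine ⟨x * ⟨_, hZP (he x)⟩, ?_⟩
      rw [map_mul, hfix hφ _ (he x), mul_inv_cancel_left]
    · rintro _ ⟨x, rfl⟩
      have hz : (ψ x)⁻¹ * φ x ∈ Z := by simpa using Z.inv_mem (he x)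
      refine ⟨x * ⟨_, hZP hz⟩, ?_⟩
      rw [map_mul, hfix hψ _ hz, mul_inv_cancel_left]
  set e₁ := mapEquiv F hφ rfl
  set e₂ := mapEquiv F hψ hr
  set k : MulAut P := e₂.trans e₁.symm
  have hk : k ∈ F.autGroup P := (equivHom_autGroup _ (hom_le F hφ)).2
    (equivHom_trans _ (equivHom_mapEquiv _ hψ hr) (equivHom_mapEquiv_symm _ hφ rfl))
  have hval : ∀ x : P, ψ x = φ (k x) := fun x =>
    (congrArg Subtype.val (e₁.apply_symm_apply (e₂ x))).symm
  refine ⟨hr, k, ⟨hk, fun x => ?_⟩, hval⟩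
  have h1 : x⁻¹ * k x = ⟨(φ x)⁻¹ * ψ x, hZP (he x)⟩ := by
    apply F.injective_of_mem hφ
    rw [hfix hφ _ (he x), map_mul, map_inv, hval]
  rw [h1]
  exact he x

variable [Finite S] [hp : Fact p.Prime]

theorem Setup.kerFrattini_transport {A B : Subgroup Ω} (f : A ≃* B) (hf : equivHom f ∈ F.Hom A)
    (hf' : equivHom f.symm ∈ F.Hom B) (hff : FrattiniMap F (xSys h) A (equivHom f)) (hB : KerFrattini h B) :
    KerFrattini h A := by
  intro k hk
  have h1 := frattini_comp h.x_autInvariant hff (hB _ (h.ker_congr f hf hf' hk)) fun x => (f x).2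
  have h2 := frattini_comp h.x_autInvariant h1 (frattini_symm h.x_autInvariant f hff)
    fun x => (MulAut.congr f k (f x)).2
  refine frattini_congr h2 fun x => ?_
  show ((k x : A) : Ω) = ((f.symm (f (k (f.symm (f x)))) : A) : Ω)
  rw [f.symm_apply_apply, f.symm_apply_apply]

theorem Setup.kerFrattini_fullyNormalized {Q : Subgroup Ω} (hQT : Q ≤ preimageAlong θ T')
    (hQ : F.IsFullyNormalized Q) : KerFrattini h Q := by
  intro k hk
  haveI := finite_of_le (S := S) hQ.1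
  have hsyl := isSyl_of_fullyAutomized (fullyNormalized_imp h.pgrp h.sat hQ).2
  obtain ⟨c, hc, hcle⟩ := hsyl.exists_conj (h.ker_isPGroup hQ.1) (fun _ hx => hx.1)
  have hkS : k ∈ autInducedBy S Q := by
    have := hcle ⟨c⁻¹ * k * c, by simpa using h.ker_conj (Subgroup.inv_mem _ hc) hk, rfl⟩
    simpa [mul_assoc] using this
  obtain ⟨y, hy, hye⟩ := (mem_autInducedBy_iff k).1 hkS
  obtain ⟨α, hα, hαe⟩ := exists_conjAut (K := S) (P := preimageAlong θ T') hy
    (stronglyClosed_le_normalizer h.scT hy)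
  exact ⟨α, autInducedBy_le_autGroup F (le_preimageAlong _ _) hα, _, subtype_mem _ hQT,
    fun x hx => (hye x).trans (hαe ⟨x, hx⟩).symm⟩

/-- A map of the preimage system is congruent to one of the subsystem. -/
theorem Setup.exists_x_congr {R : Subgroup Ω} (hZR : Z ≤ R) {φ : R →* Ω} (hφ : φ ∈ (dSys h).Hom R) :
    ∃ ψ ∈ (xSys h).Hom R, ∀ x : R, (ψ x)⁻¹ * φ x ∈ Z := by
  obtain ⟨φ', hφ', hi⟩ := h.d_induced hφ
  obtain ⟨l, hl, hli⟩ := h.x_lift hφ'
  have hRS := hom_le F hφ.1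
  have hle : R ≤ preimageAlong θ (imageAlong θ R) := (h.pre_im hZR hRS).ge
  exact ⟨_, restrict_mem _ hl hle, h.congr_of_induced (ind_restrict hle hli) hi⟩

theorem Setup.kerFrattini {R : Subgroup Ω} (hZR : Z ≤ R) (hRT : R ≤ preimageAlong θ T') : KerFrattini h R := by
  have hTS : preimageAlong θ T' ≤ S := le_preimageAlong _ _
  have hRS := hRT.trans hTS
  obtain ⟨Q, ⟨φ, hφ, hr⟩, hQ⟩ := exists_fullyNormalized F hRS
  have hQT : Q ≤ preimageAlong θ T' := isConj_le_stronglyClosed h.scT hRT ⟨φ, hφ, hr⟩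
  obtain ⟨α, hα, φ₀, hφ₀, he⟩ := h.d_frattini hRT hφ
  obtain ⟨ψ, hψ, hψe⟩ := h.exists_x_congr hZR hφ₀
  obtain ⟨hrange, -⟩ := h.f_diff hZR (h.x_le R hψ) hφ₀.1 hψe
  have hψT := range_le (xSys h) hψ
  have hαm := restrict_mem F ((mem_autGroup_iff F hTS α).1 hα) hψT
  have hr₂ : (((preimageAlong θ T').subtype.comp α.toMonoidHom).comp (Subgroup.inclusion hψT)).range = Q := by
    rw [← hr]
    refine le_antisymm ?_ ?_
    · rintro _ ⟨⟨y, hy⟩, rfl⟩
      obtain ⟨x, rfl⟩ := hrange.ge hy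
      exact ⟨x, he x _⟩
    · rintro _ ⟨x, rfl⟩
      exact ⟨⟨φ₀ x, hrange.le ⟨x, rfl⟩⟩, (he x _).symm⟩
  set f₁ := mapEquiv (xSys h) hψ rfl
  set f₂ := mapEquiv F hαm hr₂
  have hf₂ : FrattiniMap F (xSys h) ψ.range (equivHom f₂) :=
    ⟨α, hα, _, subtype_mem _ hψT, fun x hx => rfl⟩
  have h₂ := h.kerFrattini_transport f₂ (equivHom_mapEquiv F hαm hr₂) (equivHom_mapEquiv_symm F hαm hr₂) hf₂
    (h.kerFrattini_fullyNormalized hQT hQ)
  exact h.kerFrattini_transport f₁ (h.x_le _ (equivHom_mapEquiv _ hψ rfl))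
    (h.x_le _ (equivHom_mapEquiv_symm _ hψ rfl)) (frattini_of_mem (equivHom_mapEquiv _ hψ rfl)) h₂

theorem Setup.x_frattini {P : Subgroup Ω} (hPT : P ≤ preimageAlong θ T') {φ : P →* Ω} (hφ : φ ∈ F.Hom P) :
    FrattiniMap F (xSys h) P φ := by
  obtain ⟨φ₁, hφ₁, hext, -⟩ := isCentral_extend h.cen hφ
  have hRT : P ⊔ Z ≤ preimageAlong θ T' := sup_le hPT (h.zpre T')
  obtain ⟨α, hα, φ₀, hφ₀, he⟩ := h.d_frattini hRT hφ₁
  obtain ⟨ψ, hψ, hψe⟩ := h.exists_x_congr le_sup_right hφ₀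
  obtain ⟨-, k, hk, hkv⟩ := h.f_diff le_sup_right (h.x_le _ hψ) hφ₀.1 hψe
  have h0 : FrattiniMap F (xSys h) (P ⊔ Z) φ₀ :=
    frattini_congr (frattini_comp h.x_autInvariant (h.kerFrattini le_sup_right hRT k hk) (frattini_of_mem hψ)
      fun x => (k x).2) fun x => hkv x
  have hαF : FrattiniMap F (xSys h) (preimageAlong θ T') ((preimageAlong θ T').subtype.comp α.toMonoidHom) :=
    ⟨α, hα, _, subtype_mem _ le_rfl, fun x hx => rfl⟩
  have h1 : FrattiniMap F (xSys h) (P ⊔ Z) φ₁ :=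
    frattini_congr (frattini_comp h.x_autInvariant h0 hαF fun x => hom_apply_mem _ hφ₀ x)
      fun x => he x (hom_apply_mem _ hφ₀ x)
  exact frattini_congr (frattini_restrict h1 le_sup_left) fun x => (hext x x.2 _).symm

/-- The generated subsystem is weakly normal. -/
theorem Setup.x_weaklyNormal : (xSys h).IsWeaklyNormalIn F p :=
  ⟨h.x_saturated, h.sat, h.x_le, h.scT, h.x_autInvariant, fun _ hPT _ hφ => h.x_frattini hPT hφ⟩

end Cfsg.Agent.FusionSys.CentLift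

namespace Cfsg.Agent.FusionSys

open Cfsg Cfsg.FusionSystem

variable {Ω : Type*} [Group Ω] {S : Subgroup Ω} [Finite S] {Ω' : Type*} [Group Ω'] {S' T' : Subgroup Ω'}
  {F : FusionSystem S} {p : ℕ} [Fact p.Prime]

/-- A normal subsystem of the factor by a central subgroup lifts to a normal subsystem over the preimage. -/
theorem exists_normal_lift (hS : IsPGroup p S) (hF : F.IsSaturated p) {Z : Subgroup Ω} (hZ : F.IsCentral Z)
    {θ : S →* Ω'} {Fb : FusionSystem S'} (hFb : F.IsFactorSystem Z θ Fb) {E : FusionSystem T'}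
    (hE : E.IsNormalIn Fb p) :
    ∃ D : FusionSystem (preimageAlong θ T'), D.IsNormalIn F p ∧
      ∀ (P : Subgroup Ω) (φ : P →* Ω), φ ∈ D.Hom P → ∃ (P' : Subgroup Ω') (φ' : P' →* Ω'),
        φ' ∈ E.Hom P' ∧ InducedAlong θ φ φ' := by
  have h : CentLift.Setup p F Z θ Fb E := ⟨hS, hF, hZ, hFb, hE⟩
  haveI := finite_of_le (S := S) (le_preimageAlong θ T')
  have hX := h.x_weaklyNormal
  have hD := exists_pPrimeResidual (hS.to_le (le_preimageAlong θ T')) hX.1
  exact ⟨_, pPrimeResidual_isNormalIn hS hX hD, fun P φ hφ => (h.x_le_d P (hφ.1)).2.2⟩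

end Cfsg.Agent.FusionSys
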