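import Cfsg.Agent.Lib.Fusion.CentralLiftBasic

/-!
# Automizers in the preimage system

The kernel of the action on the quotient by `Z`, the map to the automizers of `E`, and invariance of the
preimage system.
-/

set_option autoImplicit false

namespace Cfsg.Agent.FusionSys.CentLift

open Cfsg Cfsg.FusionSystem

variable {Ω : Type*} [Group Ω] {S : Subgroup Ω} {Ω' : Type*} [Group Ω'] {S' T' : Subgroup Ω'}
  {F : FusionSystem S} {p : ℕ} {Z : Subgroup Ω} {θ : S →* Ω'} {Fb : FusionSystem S'} {E : FusionSystem T'}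
  (h : Setup p F Z θ Fb E)

section basic

include h

theorem Setup.aut_fix {P : Subgroup Ω} {α : MulAut P} (hα : α ∈ F.autGroup P) (x : P) (hx : (x : Ω) ∈ Z) :
    α x = x := by
  by_cases hP : P ≤ S
  · exact Subtype.ext (h.fix ((mem_autGroup_iff F hP α).1 hα) x hx)
  · rw [autGroup_eq_bot F hP, Subgroup.mem_bot] at hα
    rw [hα]
    rfl

theorem Setup.comm_mem {P : Subgroup Ω} (hP : P ≤ S) (x y : P) (hy : (y : Ω) ∈ Z) : x * y = y * x :=
  Subtype.ext (h.comm hy (hP x.2))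

end basic

/-- The automorphisms of `F` on `P` trivial modulo `Z`. -/
def kerSub (P : Subgroup Ω) : Subgroup (MulAut P) where
  carrier := {α | α ∈ F.autGroup P ∧ ∀ x : P, ((x⁻¹ * α x : P) : Ω) ∈ Z}
  one_mem' := ⟨Subgroup.one_mem _, fun x => by simp⟩
  mul_mem' {α β} hα hβ := ⟨Subgroup.mul_mem _ hα.1 hβ.1, fun x => by
    have e : (α * β) x = α x * (x⁻¹ * β x) := by
      conv_rhs => rw [← h.aut_fix hα.1 (x⁻¹ * β x) (hβ.2 x), ← map_mul, mul_inv_cancel_left]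
      rfl
    rw [e, ← mul_assoc]
    exact Z.mul_mem (hα.2 x) (hβ.2 x)⟩
  inv_mem' {α} hα := ⟨Subgroup.inv_mem _ hα.1, fun x => by
    have h1 := hα.2 (α⁻¹ x)
    rw [MulAut.apply_inv_self] at h1
    have := Z.inv_mem h1
    rwa [← Subgroup.coe_inv, mul_inv_rev, inv_inv] at this⟩

include h

theorem Setup.ker_pow {P : Subgroup Ω} {α : MulAut P} (hα : α ∈ kerSub h P) (x : P) (n : ℕ) :
    (α ^ n) x = x * (x⁻¹ * α x) ^ n := by
  induction n with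
  | zero => simp
  | succ n ih =>
    have h1 : α ((x⁻¹ * α x) ^ n) = (x⁻¹ * α x) ^ n := by
      rw [map_pow, h.aut_fix hα.1 _ (hα.2 x)]
    rw [pow_succ', MulAut.mul_apply, ih, map_mul, h1, pow_succ' (x⁻¹ * α x) n, ← mul_assoc,
      mul_inv_cancel_left]

theorem Setup.ker_comm {P : Subgroup Ω} (hP : P ≤ S) {α β : MulAut P} (hα : α ∈ kerSub h P)
    (hβ : β ∈ kerSub h P) : α * β = β * α := by
  refine MulEquiv.ext fun x => ?_
  show α (β x) = β (α x)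
  have e1 : α (β x) = α x * (x⁻¹ * β x) := by
    conv_rhs => rw [← h.aut_fix hα.1 (x⁻¹ * β x) (hβ.2 x), ← map_mul, mul_inv_cancel_left]
  have e2 : β (α x) = β x * (x⁻¹ * α x) := by
    conv_rhs => rw [← h.aut_fix hβ.1 (x⁻¹ * α x) (hα.2 x), ← map_mul, mul_inv_cancel_left]
  rw [e1, e2]
  calc α x * (x⁻¹ * β x) = x * ((x⁻¹ * α x) * (x⁻¹ * β x)) := by group
    _ = x * ((x⁻¹ * β x) * (x⁻¹ * α x)) := by rw [h.comm_mem hP (x⁻¹ * α x) _ (hβ.2 x)]
    _ = β x * (x⁻¹ * α x) := by group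

theorem Setup.ker_isPGroup [Finite S] {P : Subgroup Ω} (hP : P ≤ S) : IsPGroup p (kerSub h P) := by
  rintro ⟨α, hα⟩
  classical
  haveI := finite_of_le (S := S) hP
  haveI := Fintype.ofFinite P
  have hex : ∀ x : P, ∃ k : ℕ, (x⁻¹ * α x) ^ p ^ k = 1 := fun x => (h.pgrp.to_le hP) _
  refine ⟨Finset.univ.sum fun x : P => (hex x).choose, Subtype.ext (MulEquiv.ext fun x => ?_)⟩
  show (α ^ _) x = x
  rw [h.ker_pow hα]
  have hle : (hex x).choose ≤ Finset.univ.sum fun x : P => (hex x).choose :=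
    Finset.single_le_sum (f := fun x : P => (hex x).choose) (fun _ _ => Nat.zero_le _) (Finset.mem_univ x)
  rw [← Nat.add_sub_of_le hle, pow_add, pow_mul, (hex x).choose_spec, one_pow, mul_one]

theorem Setup.ker_conj {P : Subgroup Ω} {g k : MulAut P} (hg : g ∈ F.autGroup P) (hk : k ∈ kerSub h P) :
    g * k * g⁻¹ ∈ kerSub h P := by
  refine ⟨Subgroup.mul_mem _ (Subgroup.mul_mem _ hg hk.1) (Subgroup.inv_mem _ hg), fun x => ?_⟩
  have e : x⁻¹ * (g * k * g⁻¹) x = g ((g⁻¹ x)⁻¹ * k (g⁻¹ x)) := by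
    rw [map_mul, map_inv, MulAut.apply_inv_self]
    rfl
  rw [e, h.aut_fix hg _ (hk.2 _)]
  exact hk.2 _

theorem Setup.ker_congr {P Q : Subgroup Ω} (e : P ≃* Q) (he : equivHom e ∈ F.Hom P)
    (he' : equivHom e.symm ∈ F.Hom Q) {k : MulAut P} (hk : k ∈ kerSub h P) :
    MulAut.congr e k ∈ kerSub h Q := by
  refine ⟨congr_mem_autGroup F e he he' hk.1, fun y => ?_⟩
  obtain ⟨x, rfl⟩ := e.surjective y
  rw [congr_apply, e.symm_apply_apply, ← map_inv, ← map_mul]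
  have h1 : ((e (x⁻¹ * k x) : Q) : Ω) = ((x⁻¹ * k x : P) : Ω) := h.fix he _ (hk.2 x)
  rw [h1]
  exact hk.2 x

theorem Setup.ker_le_d {P : Subgroup Ω} (hPT : P ≤ preimageAlong θ T') : kerSub h P ≤ (dSys h).autGroup P :=
  fun α hα => (mem_autGroup_iff _ hPT α).2 (h.d_congr (subtype_mem (dSys h) hPT)
    ((mem_autGroup_iff F (hPT.trans (le_preimageAlong _ _)) α).1 hα.1) hα.2)

omit h in
/-- The compatibility between an automorphism and its image. -/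
def IsBar (θ : S →* Ω') {P : Subgroup Ω} (α : MulAut P) (α' : MulAut ↥(imageAlong θ P)) : Prop :=
  ∀ (x : P) (hx : (x : Ω) ∈ S) (hm : θ ⟨x, hx⟩ ∈ imageAlong θ P) (hαx : ((α x : P) : Ω) ∈ S),
    ((α' ⟨θ ⟨x, hx⟩, hm⟩ : imageAlong θ P) : Ω') = θ ⟨(α x : P), hαx⟩

omit h in
theorem isBar_unique {P : Subgroup Ω} {α : MulAut P} {β γ : MulAut ↥(imageAlong θ P)} (hP : P ≤ S)
    (hβ : IsBar θ α β) (hγ : IsBar θ α γ) : β = γ := by
  refine MulEquiv.ext fun ⟨y, hy⟩ => Subtype.ext ?_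
  obtain ⟨x, hx, hxP, rfl⟩ := mem_imageAlong.1 hy
  exact (hβ ⟨x, hxP⟩ hx hy (hP (α _).2)).trans (hγ ⟨x, hxP⟩ hx hy _).symm

omit h in
theorem isBar_mul {P : Subgroup Ω} {α β : MulAut P} {α' β' : MulAut ↥(imageAlong θ P)} (hP : P ≤ S)
    (hα : IsBar θ α α') (hβ : IsBar θ β β') : IsBar θ (α * β) (α' * β') := by
  intro x hx hm hαx
  show ((α' (β' ⟨_, hm⟩) : imageAlong θ P) : Ω') = _
  rw [show β' ⟨_, hm⟩ = ⟨θ ⟨(β x : P), hP (β x).2⟩, mem_im _ (β x).2⟩ from Subtype.ext (hβ x hx hm _)]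
  exact hα _ _ _ _

variable [Finite S] [hp : Fact p.Prime]

omit hp in
theorem Setup.exists_bar {P : Subgroup Ω} (hPT : P ≤ preimageAlong θ T') {α : MulAut P}
    (hα : α ∈ (dSys h).autGroup P) : ∃ α' ∈ E.autGroup (imageAlong θ P), IsBar θ α α' := by
  obtain ⟨φ', hφ', hi⟩ := h.d_induced ((mem_autGroup_iff _ hPT α).1 hα)
  have hr : φ'.range = imageAlong θ P := by
    rw [ind_range hi]
    exact congrArg _ (equivHom_range α)
  obtain ⟨α', hα', he⟩ := exists_autGroup_of_range E hφ' hr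
  exact ⟨α', hα', fun x hx hm hαx => (he _).trans (ind_apply hi x hx hm hαx)⟩

omit hp in
theorem Setup.bar_surj {P : Subgroup Ω} (hZP : Z ≤ P) (hPT : P ≤ preimageAlong θ T')
    {α' : MulAut ↥(imageAlong θ P)} (hα' : α' ∈ E.autGroup (imageAlong θ P)) :
    ∃ α ∈ (dSys h).autGroup P, IsBar θ α α' := by
  have hPS : P ≤ S := hPT.trans (le_preimageAlong _ _)
  obtain ⟨φ, hφ, hi⟩ := h.d_lift ((mem_autGroup_iff E (h.im_le_T hPT) α').1 hα')
  have hle : P ≤ preimageAlong θ (imageAlong θ P) := (h.pre_im hZP hPS).ge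
  set ψ := φ.comp (Subgroup.inclusion hle)
  have hψ : ψ ∈ (dSys h).Hom P := restrict_mem (dSys h) hφ hle
  have hr : ψ.range = P := by
    haveI := finite_of_le (S := S) hPS
    refine Subgroup.eq_of_le_of_card_ge ?_ (isConj_card ⟨ψ, hψ.1, rfl⟩).le
    rintro _ ⟨x, rfl⟩
    refine h.mem_of_im hZP (hom_apply_mem F hψ.1 x) ?_
    show θ ⟨φ (Subgroup.inclusion hle x), hom_apply_mem F hψ.1 x⟩ ∈ _
    rw [← ind_apply hi (Subgroup.inclusion hle x) (hPS x.2) (mem_im _ x.2) (hom_apply_mem F hψ.1 x)]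
    exact (α' _).2
  obtain ⟨α, hα, he⟩ := exists_autGroup_of_range (dSys h) hψ hr
  refine ⟨α, hα, fun x hx hm hαx => ?_⟩
  refine Eq.trans (ind_apply hi (Subgroup.inclusion hle x) hx hm (hom_apply_mem F hψ.1 x)) ?_
  exact congrArg θ (Subtype.ext (he x).symm)

omit [Finite S] hp in
/-- An automorphism with trivial image is in the kernel. -/
theorem Setup.bar_one {P : Subgroup Ω} (hPS : P ≤ S) {α : MulAut P} (hα : α ∈ F.autGroup P)
    (hb : IsBar θ α 1) : α ∈ kerSub h P := by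
  refine ⟨hα, fun x => ?_⟩
  rw [Subgroup.coe_mul, Subgroup.coe_inv, ← h.theta_eq (hPS x.2) (hPS (α x).2)]
  exact hb x _ (mem_im _ x.2) _

omit [Finite S] hp in
theorem Setup.bar_of_ker {P : Subgroup Ω} {α : MulAut P} (hα : α ∈ kerSub h P) : IsBar θ α 1 := by
  intro x hx hm hαx
  show θ ⟨x, hx⟩ = _
  rw [h.theta_eq]
  exact hα.2 x

omit [Finite S] hp in
theorem Setup.bar_conj {P : Subgroup Ω} {u : Ω} (hu : u ∈ S) (α : MulAut P) (α' : MulAut ↥(imageAlong θ P))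
    (hP : P ≤ S) (hα : ∀ x : P, ((α x : P) : Ω) = u * x * u⁻¹)
    (hα' : ∀ y : imageAlong θ P, ((α' y : imageAlong θ P) : Ω') = θ ⟨u, hu⟩ * y * (θ ⟨u, hu⟩)⁻¹) :
    IsBar θ α α' := by
  intro x hx hm hαx
  rw [hα', ← map_inv, ← map_mul, ← map_mul]
  exact congrArg θ (Subtype.ext (hα x).symm)

/-! ### Invariance of the preimage system -/

theorem Setup.exists_bar_top {α : MulAut ↥(preimageAlong θ T')} (hα : α ∈ F.autGroup (preimageAlong θ T')) :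
    ∃ α' ∈ Fb.autGroup T', ∀ (x : preimageAlong θ T') (hx : (x : Ω) ∈ S) (hm : θ ⟨x, hx⟩ ∈ T')
      (hαx : ((α x : preimageAlong θ T') : Ω) ∈ S),
        ((α' ⟨θ ⟨x, hx⟩, hm⟩ : T') : Ω') = θ ⟨(α x : preimageAlong θ T'), hαx⟩ := by
  have hTS : preimageAlong θ T' ≤ S := le_preimageAlong _ _
  obtain ⟨φ', hφ', hi⟩ := exists_induced h.pgrp h.sat h.scZ h.fac ((mem_autGroup_iff F hTS α).1 hα)
  have him : imageAlong θ (preimageAlong θ T') = T' := h.im_pre h.sc.1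
  have hψ := restrict_mem Fb hφ' him.ge
  have hr : (φ'.comp (Subgroup.inclusion him.ge)).range = T' := by
    haveI := h.finiteT'
    refine Subgroup.eq_of_le_of_card_ge ?_ (isConj_card ⟨_, hψ, rfl⟩).le
    rintro _ ⟨y, rfl⟩
    exact stronglyClosed_apply_mem h.sc hψ y y.2
  obtain ⟨α', hα', he⟩ := exists_autGroup_of_range Fb hψ hr
  exact ⟨α', hα', fun x hx hm hαx => (he _).trans (ind_apply hi x hx (mem_im hx x.2) hαx)⟩

theorem Setup.exists_lift_top {α' : MulAut ↥T'} (hα' : α' ∈ Fb.autGroup T') :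
    ∃ α ∈ F.autGroup (preimageAlong θ T'), ∀ (x : preimageAlong θ T') (hx : (x : Ω) ∈ S) (hm : θ ⟨x, hx⟩ ∈ T')
      (hαx : ((α x : preimageAlong θ T') : Ω) ∈ S),
        ((α' ⟨θ ⟨x, hx⟩, hm⟩ : T') : Ω') = θ ⟨(α x : preimageAlong θ T'), hαx⟩ := by
  obtain ⟨-, φ, hφ, hi⟩ := (h.fac.2.2.2 T' _).1 ((mem_autGroup_iff Fb h.sc.1 α').1 hα')
  have hr : φ.range = preimageAlong θ T' := by
    haveI := finite_of_le (S := S) (le_preimageAlong θ T')
    refine Subgroup.eq_of_le_of_card_ge ?_ (isConj_card ⟨φ, hφ, rfl⟩).le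
    rintro _ ⟨x, rfl⟩
    exact stronglyClosed_apply_mem h.scT hφ x x.2
  obtain ⟨α, hα, he⟩ := exists_autGroup_of_range F hφ hr
  refine ⟨α, hα, fun x hx hm hαx => ?_⟩
  refine Eq.trans (ind_apply hi x hx hm (hom_apply_mem F hφ x)) ?_
  exact congrArg θ (Subtype.ext (he x).symm)

theorem Setup.d_autInvariant : AutInvariant F (dSys h) := by
  intro P hPT φ hφ α hα
  have hTS : preimageAlong θ T' ≤ S := le_preimageAlong _ _
  obtain ⟨φ', hφ', hi⟩ := h.d_induced hφ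
  obtain ⟨α', hα', hαe⟩ := h.exists_bar_top hα
  obtain ⟨χ', hχ', hχe⟩ := h.inv.2.2.1 _ (h.im_le_T hPT) φ' hφ' α' hα'
  set A := (P.subgroupOf (preimageAlong θ T')).map ((preimageAlong θ T').subtype.comp α.toMonoidHom) with hA
  have hαP := restrict_mem F ((mem_autGroup_iff F hTS α).1 hα) hPT
  have hrA : (((preimageAlong θ T').subtype.comp α.toMonoidHom).comp (Subgroup.inclusion hPT)).range = A :=
    range_restrict _ hPT
  set e := mapEquiv F hαP hrA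
  have hes : equivHom e.symm ∈ F.Hom A := equivHom_mapEquiv_symm F hαP hrA
  have hφv : ∀ x : P, φ x ∈ preimageAlong θ T' := hom_apply_mem (dSys h) hφ
  have h1 := F.comp_mem hes hφ.1 fun y => (e.symm y).2
  have h2 := F.comp_mem h1 ((mem_autGroup_iff F hTS α).1 hα) fun y => hφv _
  have hval : ∀ x : P, ((e x : A) : Ω) = (α ⟨x, hPT x.2⟩ : preimageAlong θ T') := fun x => rfl
  refine ⟨_, ⟨h2, ?_, _, χ', hχ', ?_⟩, fun x hφx hαx => ?_⟩
  · rintro _ ⟨y, -, rfl⟩; exact (α y).2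
  · have hAS : A ≤ S := by rintro _ ⟨y, -, rfl⟩; exact hTS (α y).2
    have hm : ∀ y : A, θ ⟨y, hAS y.2⟩ ∈
        ((imageAlong θ P).subgroupOf T').map (T'.subtype.comp α'.toMonoidHom) := by
      intro y
      obtain ⟨x, rfl⟩ := e.surjective y
      refine ⟨⟨θ ⟨x, hTS (hPT x.2)⟩, h.im_le_T hPT (mem_im _ x.2)⟩, mem_im _ x.2, ?_⟩
      exact hαe ⟨x, hPT x.2⟩ _ _ _
    refine ⟨hAS, fun y => hom_apply_mem F h2 y, hm, fun y => ?_⟩
    obtain ⟨x, rfl⟩ := e.surjective y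
    have hxT : θ ⟨x, hTS (hPT x.2)⟩ ∈ imageAlong θ P := mem_im _ x.2
    have hφT : φ' ⟨_, hxT⟩ ∈ T' := hom_apply_mem E hφ' _
    have e1 := hαe ⟨x, hPT x.2⟩ (hTS (hPT x.2)) (h.im_le_T hPT hxT) (hTS (α _).2)
    have hφxT : θ ⟨φ x, hTS (hφv x)⟩ ∈ T' := ((mem_preimageAlong _ _ _).1 (hφv x)).2
    have e3 := hαe ⟨φ x, hφv x⟩ (hTS (hφv x)) hφxT (hTS (α _).2)
    refine (apply_congr χ' e1.symm (hm (e x)) (e1.symm ▸ hm (e x))).trans ?_
    refine (hχe ⟨_, hxT⟩ hφT _).trans ?_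
    refine (congrArg (fun z : T' => ((α' z : T') : Ω'))
      (Subtype.ext (ind_apply hi x (hTS (hPT x.2)) hxT (hTS (hφv x))) : (⟨φ' ⟨_, hxT⟩, hφT⟩ : T') = ⟨_, hφxT⟩)).trans ?_
    refine e3.trans (congrArg θ (Subtype.ext ?_))
    show ((α ⟨φ x, _⟩ : preimageAlong θ T') : Ω) = ((α ⟨φ (e.symm (e x)), _⟩ : preimageAlong θ T') : Ω)
    simp only [e.symm_apply_apply]
  · show ((α ⟨φ (e.symm ⟨_, hαx⟩), _⟩ : preimageAlong θ T') : Ω) = _
    have : e.symm ⟨_, hαx⟩ = x := e.symm_apply_eq.2 (Subtype.ext (hval x).symm)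
    simp only [this]

theorem Setup.d_frattini {P : Subgroup Ω} (hPT : P ≤ preimageAlong θ T') {φ : P →* Ω} (hφ : φ ∈ F.Hom P) :
    FrattiniMap F (dSys h) P φ := by
  have hTS : preimageAlong θ T' ≤ S := le_preimageAlong _ _
  obtain ⟨φ', hφ', hi⟩ := exists_induced h.pgrp h.sat h.scZ h.fac hφ
  obtain ⟨α', hα', φ₀', hφ₀', he⟩ := h.inv.2.2.2 _ (h.im_le_T hPT) φ' hφ'
  obtain ⟨α, hα, hαe⟩ := h.exists_lift_top hα'
  have hv : ∀ x : P, φ x ∈ preimageAlong θ T' := fun x => h.scT.2 P hPT φ hφ x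
  have hψ := F.comp_mem hφ ((mem_autGroup_iff F hTS α⁻¹).1 (Subgroup.inv_mem _ hα)) hv
  set ψ := ((preimageAlong θ T').subtype.comp (α⁻¹).toMonoidHom).comp (φ.codRestrict _ hv)
  refine ⟨α, hα, ψ, ⟨hψ, hPT, _, φ₀', hφ₀', hom_le F hφ, hom_apply_mem F hψ, fun x => mem_im _ x.2,
    fun x => ?_⟩, fun x hx => ?_⟩
  · have hxm : θ ⟨x, hom_le F hφ x.2⟩ ∈ imageAlong θ P := mem_im _ x.2
    have hw : ψ x ∈ preimageAlong θ T' := (α⁻¹ (⟨φ x, hv x⟩ : preimageAlong θ T')).2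
    have hwm := ((mem_preimageAlong _ _ _).1 hw).2
    have h0 := hom_apply_mem E hφ₀' ⟨_, hxm⟩
    have e1 := hαe ⟨ψ x, hw⟩ (hTS hw) hwm (hTS (α _).2)
    have e2 : α ⟨ψ x, hw⟩ = ⟨φ x, hv x⟩ := α.apply_symm_apply _
    have e3 := he ⟨_, hxm⟩ h0
    rw [ind_apply hi x _ hxm (hTS (hv x))] at e3
    have e4 : α' ⟨φ₀' ⟨_, hxm⟩, h0⟩ = α' ⟨θ ⟨ψ x, hTS hw⟩, hwm⟩ := by
      refine Subtype.ext (e3.symm.trans ?_)
      rw [e1]
      exact congrArg θ (Subtype.ext (congrArg Subtype.val e2).symm)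
    exact congrArg Subtype.val (α'.injective e4)
  · show φ x = ((α (α⁻¹ ⟨φ x, hv x⟩) : preimageAlong θ T') : Ω)
    rw [MulAut.apply_inv_self]

theorem Setup.d_congr_aut {P Q : Subgroup Ω} (hPT : P ≤ preimageAlong θ T') (hQT : Q ≤ preimageAlong θ T')
    (e : P ≃* Q) (he : equivHom e ∈ F.Hom P) {c : MulAut P} (hc : c ∈ (dSys h).autGroup P) :
    MulAut.congr e c ∈ (dSys h).autGroup Q :=
  congr_mem_of_frattini h.d_autInvariant hQT e (h.d_frattini hPT he) hc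

theorem Setup.d_normal {P : Subgroup Ω} (hPT : P ≤ preimageAlong θ T') {a c : MulAut P}
    (ha : a ∈ F.autGroup P) (hc : c ∈ (dSys h).autGroup P) : a * c * a⁻¹ ∈ (dSys h).autGroup P :=
  h.d_congr_aut hPT hPT a ((mem_autGroup_iff F (hPT.trans (le_preimageAlong _ _)) a).1 ha) hc

/-! ### Subgroups whose image is centric -/

omit h [Finite S] hp in
/-- The subgroups with centric image. -/
def InH (θ : S →* Ω') (Z : Subgroup Ω) (E : FusionSystem T') (P : Subgroup Ω) : Prop :=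
  Z ≤ P ∧ P ≤ preimageAlong θ T' ∧ E.IsCentric (imageAlong θ P)

omit [Finite S] hp in
theorem Setup.inH_le {P : Subgroup Ω} (hP : InH θ Z E P) : P ≤ S := hP.2.1.trans (le_preimageAlong _ _)

omit hp in
theorem Setup.inH_mono {P Q : Subgroup Ω} (hP : InH θ Z E P) (hPQ : P ≤ Q) (hQ : Q ≤ preimageAlong θ T') :
    InH θ Z E Q :=
  haveI := h.finiteT'
  ⟨hP.1.trans hPQ, hQ, isCentric_mono hP.2.2 (im_mono hPQ) (h.im_le_T hQ)⟩

theorem Setup.inH_conj {P Q : Subgroup Ω} (hP : InH θ Z E P) (hQ : F.IsConj P Q) : InH θ Z E Q := by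
  obtain ⟨φ, hφ, rfl⟩ := hQ
  obtain ⟨φ', hφ', hi⟩ := exists_induced h.pgrp h.sat h.scZ h.fac hφ
  refine ⟨h.z_le_range hφ hP.1, ?_, centric_of_conj h.inv hP.2.2 ⟨φ', hφ', ind_range hi⟩⟩
  rintro _ ⟨x, rfl⟩
  exact h.scT.2 P hP.2.1 φ hφ x

omit [Finite S] hp in
/-- An element of the carrier centralizing a member modulo `Z` lies in it. -/
theorem Setup.inH_mem {P : Subgroup Ω} (hP : InH θ Z E P) {x : Ω} (hx : x ∈ preimageAlong θ T')
    (hc : ∀ u ∈ P, u⁻¹ * (x * u * x⁻¹) ∈ Z) : x ∈ P := by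
  obtain ⟨hxS, hxT⟩ := (mem_preimageAlong _ _ _).1 hx
  refine h.mem_of_im hP.1 hxS (hP.2.2.2 _ (isConj_refl E hP.2.2.1)
    ⟨hxT, Subgroup.mem_centralizer_iff.2 ?_⟩)
  intro y hy
  obtain ⟨u, hu, huP, rfl⟩ := mem_imageAlong.1 hy
  have h1 := (h.theta_eq hu (S.mul_mem (S.mul_mem hxS hu) (S.inv_mem hxS))).2 (hc u huP)
  have h2 : θ ⟨x * u * x⁻¹, S.mul_mem (S.mul_mem hxS hu) (S.inv_mem hxS)⟩ =
      θ ⟨x, hxS⟩ * θ ⟨u, hu⟩ * (θ ⟨x, hxS⟩)⁻¹ := by rw [← map_inv, ← map_mul, ← map_mul]; rfl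
  rw [h2] at h1
  exact eq_mul_inv_iff_mul_eq.1 h1

omit [Finite S] hp in
/-- A kernel element induced by the carrier is inner. -/
theorem Setup.inn_of_ker {P : Subgroup Ω} (hP : InH θ Z E P) {k : MulAut P} (hk : k ∈ kerSub h P)
    (ha : k ∈ autInducedBy (preimageAlong θ T') P) : k ∈ Inn P := by
  obtain ⟨u, hu, he⟩ := (mem_autInducedBy_iff k).1 ha
  have hu' : u ∈ P := h.inH_mem hP hu fun v hv => by
    have := hk.2 ⟨v, hv⟩
    rwa [Subgroup.coe_mul, Subgroup.coe_inv, he] at this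
  exact ⟨⟨u, hu'⟩, MulEquiv.ext fun x => Subtype.ext (he x).symm⟩

end Cfsg.Agent.FusionSys.CentLift
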