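import Cfsg.Agent.Lib.Fusion.Centric
import Cfsg.Agent.Lib.Fusion.Alperin

/-!
# Maps on centric subgroups and their restrictions in a subsystem
-/

set_option autoImplicit false

namespace Cfsg.Agent.FusionSys

open Cfsg Cfsg.FusionSystem

variable {Ω : Type*} [Group Ω] {S : Subgroup Ω} [Finite S] {p : ℕ} [hp : Fact p.Prime]

omit hp in
/-- A centric subgroup is fully centralized in every subsystem over the same group. -/
theorem fullyCentralized_of_centric {F E : FusionSystem S} (hle : E ≤ F) {Q : Subgroup Ω} (hQ : F.IsCentric Q) :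
    E.IsFullyCentralized Q := by
  refine ⟨hQ.1, fun R hR => ?_⟩
  obtain ⟨φ, hφ, hr⟩ := hR
  obtain ⟨ψ, hψ, hψr⟩ := isConj_symm (⟨φ, hφ, hr⟩ : E.IsConj Q R)
  refine card_le_of_hom E hψ (hQ.2 R ⟨φ, hle Q hφ, hr⟩) (centralizerIn_le _ _) fun x hx =>
    ⟨hom_apply_mem E hψ _, apply_mem_centralizer ψ le_rfl ?_ _ hx.2⟩
  rw [show Subgroup.inclusion (le_refl R) = MonoidHom.id R from rfl, MonoidHom.comp_id, hψr]

/-- A map whose restriction to a centric subgroup lies in a saturated subsystem lies in it. -/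
theorem mem_of_restrict_centric (hS : IsPGroup p S) {F E : FusionSystem S} (hF : F.IsSaturated p)
    (hE : E.IsSaturated p) (hle : E ≤ F) {R Q : Subgroup Ω} {ψ : R →* Ω} (hψ : ψ ∈ F.Hom R) (hQR : Q ≤ R)
    (hQ : F.IsCentric Q) (hmem : ψ.comp (Subgroup.inclusion hQR) ∈ E.Hom Q) : ψ ∈ E.Hom R := by
  have hRS := hom_le F hψ
  have := finite_of_le hRS
  induction hk : Nat.card R - Nat.card Q using Nat.strong_induction_on generalizing Q with
  | _ k ih =>
  rcases eq_or_lt_of_le hQR with rfl | hlt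
  · exact hom_congr E hmem fun _ => rfl
  set N := R ⊓ Subgroup.normalizer (Q : Set Ω) with hN
  have hNR : N ≤ R := inf_le_left
  have hQN : Q < N := Cfsg.Agent.Fusion.lt_inf_normalizer (hS.to_le hRS).isNilpotent hlt
  have hQ' := fullyCentralized_of_centric hle (isCentric_isConj hQ ⟨_, hle Q hmem, rfl⟩)
  obtain ⟨ψ', hψ', hag⟩ := (fullyCentralized_receptive hS hE hQ').2 Q _ hmem rfl
  have hNe : N ≤ extender S Q (ψ.comp (Subgroup.inclusion hQR)) := fun g hg =>
    Subgroup.subset_closure ⟨hRS hg.1, hg.2, ψ ⟨g, hg.1⟩, hom_apply_mem F hψ _, fun x hx => by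
      exact map_apply_conj ψ hg.1 (hQR x.2) (hQR hx)⟩
  have h1 := restrict_mem E hψ' hNe
  obtain ⟨z, hzQ, -, hz⟩ := centric_agree hS hF hQN.le hQ (hle N h1) (restrict_mem F hψ hNR)
    (fun x hx => hag x hx (hNe x.2))
  have hzN : ∀ y : N, (z : Ω) * y * (z : Ω)⁻¹ ∈ N := fun y =>
    N.mul_mem (N.mul_mem z.2 y.2) (N.inv_mem z.2)
  have h2 : ψ.comp (Subgroup.inclusion hNR) ∈ E.Hom N :=
    hom_congr E (E.comp_mem (E.conj_mem (hNR.trans hRS) (hQ.1 hzQ)) h1 hzN) fun y => hz y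
  refine ih (Nat.card R - Nat.card N) ?_ hNR (isCentric_mono hQ hQN.le (hNR.trans hRS)) h2 rfl
  have a1 : Nat.card Q < Nat.card N := by
    haveI := finite_of_le (hNR.trans hRS)
    exact lt_of_le_of_ne (Subgroup.card_le_of_le hQN.le)
      fun he => hQN.ne (Subgroup.eq_of_le_of_card_ge hQN.le he.ge)
  have a2 : Nat.card N ≤ Nat.card R := Subgroup.card_le_of_le hNR
  omega

end Cfsg.Agent.FusionSys
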