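import Cfsg.Agent.Lib.Fusion.PPrimeResidual
import Cfsg.Agent.Lib.Fusion.Hyperfocal
import Cfsg.Agent.Lib.Fusion.Subsystem

/-!
# `O^{p'}` of weakly normal subsystems

Invariance transports automizers and centricity; the intersection of two weakly normal subsystems over the same
subgroup contains `O^{p'}` of both.
-/

set_option autoImplicit false

namespace Cfsg.Agent.FusionSys

open Cfsg Cfsg.FusionSystem

variable {Ω : Type*} [Group Ω] {S T : Subgroup Ω}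

/-- The maps of `F` with source in a strongly closed subgroup. -/
def restrictSys (F : FusionSystem S) (T : Subgroup Ω) (hT : F.StronglyClosed T) : FusionSystem T where
  Hom P := {φ | φ ∈ F.Hom P ∧ P ≤ T}
  le_of_mem {P φ} h := ⟨h.2, fun x => hT.2 P h.2 φ h.1 x⟩
  injective_of_mem h := F.injective_of_mem h.1
  conj_mem hP hg := ⟨F.conj_mem (hP.trans hT.1) (hT.1 hg), hP⟩
  comp_mem hφ hψ h := ⟨F.comp_mem hφ.1 hψ.1 h, hφ.2⟩
  inv_mem {P φ} h := by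
    obtain ⟨ψ, hψ, hψe⟩ := F.inv_mem h.1
    exact ⟨ψ, ⟨hψ, by rintro _ ⟨x, rfl⟩; exact hT.2 P h.2 φ h.1 x⟩, hψe⟩

theorem isConj_le_stronglyClosed {F : FusionSystem S} (hT : F.StronglyClosed T) {P Q : Subgroup Ω} (hP : P ≤ T)
    (h : F.IsConj P Q) : Q ≤ T := by
  obtain ⟨φ, hφ, rfl⟩ := h
  rintro _ ⟨x, rfl⟩
  exact hT.2 P hP φ hφ x

section invariant

variable {F : FusionSystem S} {E : FusionSystem T}

theorem aut_hom (F : FusionSystem S) (hTS : T ≤ S) {α : MulAut T} (hα : α ∈ F.autGroup T) :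
    T.subtype.comp α.toMonoidHom ∈ F.Hom T := (mem_autGroup_iff F hTS α).1 hα

/-- A map factoring through an invariant system transports its automizers. -/
theorem congr_mem_of_frattini (hAI : AutInvariant F E) {A B : Subgroup Ω} (hBT : B ≤ T) (e : A ≃* B)
    (he : FrattiniMap F E A (equivHom e)) {c : MulAut A} (hc : c ∈ E.autGroup A) :
    MulAut.congr e c ∈ E.autGroup B := by
  obtain ⟨α, hα, φ₀, hφ₀, hφe⟩ := he
  have h0 : ∀ x : A, φ₀ x ∈ T := hom_apply_mem _ hφ₀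
  set e₀ := mapEquiv _ hφ₀ rfl
  have hc₀ : MulAut.congr e₀ c ∈ E.autGroup φ₀.range :=
    congr_mem_autGroup _ e₀ (hom_congr _ hφ₀ fun _ => rfl) (mapEquiv_symm_mem _ hφ₀ rfl) hc
  obtain ⟨χ, hχ, hχe⟩ := hAI φ₀.range (range_le _ hφ₀) _ ((mem_autGroup_iff _ (range_le _ hφ₀) _).1 hc₀) α hα
  have hle : B ≤ (φ₀.range.subgroupOf T).map (T.subtype.comp α.toMonoidHom) := fun b hb =>
    ⟨⟨φ₀ (e.symm ⟨b, hb⟩), h0 _⟩, ⟨_, rfl⟩, by
      refine (hφe _ (h0 _)).symm.trans ?_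
      rw [equivHom_apply, e.apply_symm_apply]⟩
  refine (mem_autGroup_iff _ hBT _).2 (hom_congr _ (restrict_mem _ hχ hle) fun b => ?_)
  obtain ⟨x, rfl⟩ := e.surjective b
  have hb : ((α ⟨φ₀ x, h0 x⟩ : T) : Ω) = ((e x : B) : Ω) := (hφe x (h0 x)).symm
  show ((e (c (e.symm (e x))) : B) : Ω) = χ _
  rw [e.symm_apply_apply]
  refine Eq.trans ?_ (apply_congr χ hb ⟨⟨φ₀ x, h0 x⟩, ⟨x, rfl⟩, rfl⟩ (hle (e x).2))
  refine Eq.trans ?_ (hχe ⟨φ₀ x, x, rfl⟩ (range_le _ hφ₀ ((MulAut.congr e₀ c) ⟨φ₀ x, x, rfl⟩).2)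
    (hb.symm ▸ hle (e x).2)).symm
  have h1 : (MulAut.congr e₀ c ⟨φ₀ x, x, rfl⟩ : φ₀.range) = e₀ (c x) := by
    show e₀ (c (e₀.symm (e₀ x))) = _
    rw [e₀.symm_apply_apply]
  refine (hφe (c x) (h0 (c x))).trans ?_
  exact congrArg (fun z : T => ((α z : T) : Ω)) (Subtype.ext (congrArg Subtype.val h1).symm)

/-- Conjugates in `F` of a centric subgroup of an invariant subsystem are centric in it. -/
theorem centric_of_conj (hE : E.IsInvariantIn F) {P Q : Subgroup Ω} (hP : E.IsCentric P) (hQ : F.IsConj P Q) :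
    E.IsCentric Q := by
  obtain ⟨φ, hφ, hr⟩ := hQ
  obtain ⟨α, hα, φ₀, hφ₀, he⟩ := hE.2.2.2 P hP.1 φ hφ
  have hQT : Q ≤ T := isConj_le_stronglyClosed hE.2.1 hP.1 ⟨φ, hφ, hr⟩
  refine ⟨hQT, fun R hR => ?_⟩
  obtain ⟨η, hη, hηr⟩ := hR
  obtain ⟨χ, hχ, hχe⟩ := hE.2.2.1 Q hQT η hη α⁻¹ (Subgroup.inv_mem _ hα)
  have hA : (Q.subgroupOf T).map (T.subtype.comp (α⁻¹).toMonoidHom) = φ₀.range := by
    ext y
    constructor
    · rintro ⟨⟨z, hzT⟩, hz, rfl⟩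
      obtain ⟨x, rfl⟩ := hr.ge hz
      refine ⟨x, ?_⟩
      show φ₀ x = ((α⁻¹ ⟨φ x, hzT⟩ : T) : Ω)
      rw [show (⟨φ x, hzT⟩ : T) = α ⟨φ₀ x, hom_apply_mem _ hφ₀ x⟩ from Subtype.ext (he x _)]
      exact (congrArg Subtype.val (α.symm_apply_apply ⟨φ₀ x, hom_apply_mem _ hφ₀ x⟩)).symm
    · rintro ⟨x, rfl⟩
      refine ⟨⟨φ x, hQT (hr.le ⟨x, rfl⟩)⟩, hr.le ⟨x, rfl⟩, ?_⟩
      show ((α⁻¹ ⟨φ x, _⟩ : T) : Ω) = _
      rw [show (⟨φ x, hQT (hr.le ⟨x, rfl⟩)⟩ : T) = α ⟨φ₀ x, hom_apply_mem _ hφ₀ x⟩ from Subtype.ext (he x _)]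
      exact congrArg Subtype.val (α.symm_apply_apply _)
  have hR₀ := hP.2 χ.range (isConj_trans ⟨φ₀, hφ₀, rfl⟩ (hA ▸ ⟨χ, hχ, rfl⟩))
  intro c hc
  have hd : (α⁻¹ ⟨c, hc.1⟩ : Ω) ∈ centralizerIn T χ.range := by
    refine ⟨(α⁻¹ _ : T).2, Subgroup.mem_centralizer_iff.2 ?_⟩
    rintro _ ⟨⟨_, z, hz, rfl⟩, rfl⟩
    have e1 : χ ⟨((α⁻¹ z : T) : Ω), ⟨z, hz, rfl⟩⟩ = ((α⁻¹ ⟨η ⟨z, hz⟩, hom_apply_mem E hη _⟩ : T) : Ω) :=
      hχe ⟨z, hz⟩ (hom_apply_mem E hη _) ⟨z, hz, rfl⟩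
    show χ ⟨((α⁻¹ z : T) : Ω), ⟨z, hz, rfl⟩⟩ * _ = _ * χ ⟨((α⁻¹ z : T) : Ω), ⟨z, hz, rfl⟩⟩
    rw [e1, ← Subgroup.coe_mul, ← Subgroup.coe_mul, ← map_mul, ← map_mul]
    refine congrArg (fun w : T => ((α⁻¹ w : T) : Ω)) (Subtype.ext ?_)
    exact Subgroup.mem_centralizer_iff.1 hc.2 _ (hηr.le ⟨_, rfl⟩)
  obtain ⟨⟨_, z, hz, rfl⟩, hw⟩ := hR₀ hd
  have e2 : χ ⟨((α⁻¹ z : T) : Ω), ⟨z, hz, rfl⟩⟩ = ((α⁻¹ ⟨η ⟨z, hz⟩, hom_apply_mem E hη _⟩ : T) : Ω) :=
    hχe ⟨z, hz⟩ (hom_apply_mem E hη _) ⟨z, hz, rfl⟩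
  have e3 : (⟨η ⟨z, hz⟩, hom_apply_mem E hη _⟩ : T) = ⟨c, hc.1⟩ :=
    (α⁻¹).injective (Subtype.ext (e2.symm.trans hw))
  exact hηr.le ⟨⟨z, hz⟩, congrArg Subtype.val e3⟩

theorem restrict_centric (hE : E.IsInvariantIn F) {P : Subgroup Ω} (hP : E.IsCentric P) :
    (restrictSys F T hE.2.1).IsCentric P := by
  refine ⟨hP.1, fun Q hQ => ?_⟩
  obtain ⟨φ, hφ, hr⟩ := hQ
  have h := centric_of_conj hE hP ⟨φ, hφ.1, hr⟩
  exact h.2 Q (isConj_refl E h.1)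

theorem centric_transfer {E' : FusionSystem T} (hE : E.IsInvariantIn F) (hsub : E'.IsSubsystemOf F)
    {P : Subgroup Ω} (hP : E.IsCentric P) : E'.IsCentric P := by
  refine ⟨hP.1, fun Q hQ => ?_⟩
  obtain ⟨φ, hφ, hr⟩ := hQ
  have h := centric_of_conj hE hP ⟨φ, hsub P hφ, hr⟩
  exact h.2 Q (isConj_refl E h.1)

end invariant

variable {p : ℕ} [hp : Fact p.Prime] [Finite S]

/-- Weakly normal subsystems contain the `p`-elements of each other's automizers. -/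
theorem paut_of_weaklyNormal (hS : IsPGroup p S) {F : FusionSystem S} {E D : FusionSystem T}
    (hE : E.IsWeaklyNormalIn F p) (hD : D.IsWeaklyNormalIn F p) {P : Subgroup Ω} (hP : P ≤ T) {a : MulAut P}
    (ha : a ∈ E.autGroup P) (hk : ∃ k : ℕ, a ^ p ^ k = 1) : a ∈ D.autGroup P := by
  obtain ⟨hEs, hFs, hEi⟩ := hE
  have hT := hEi.2.1
  haveI : Finite T := finite_of_le hT.1
  obtain ⟨Q, ⟨θ, hθ, hθr⟩, hQ⟩ := exists_fullyNormalized F (hP.trans hT.1)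
  have hQT : Q ≤ T := isConj_le_stronglyClosed hT hP ⟨θ, hθ, hθr⟩
  haveI := finite_of_le hQ.1
  set e := mapEquiv F hθ hθr
  have hem : equivHom e ∈ F.Hom P := equivHom_mapEquiv F hθ hθr
  have ha' : MulAut.congr e a ∈ E.autGroup Q :=
    congr_mem_of_frattini hEi.2.2.1 hQT e (hEi.2.2.2 P hP _ hem) ha
  have hQE : E.IsFullyNormalized Q := fullyNormalized_subsystem hS hFs hT hEi.1 hQT hQ
  have hTp : IsPGroup p T := hS.to_le hT.1
  have hZ : IsPGroup p (Subgroup.zpowers (MulAut.congr e a)) := by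
    obtain ⟨k, hk⟩ := hk
    rintro ⟨_, j, rfl⟩
    refine ⟨k, Subtype.ext ?_⟩
    show ((MulAut.congr e a) ^ j) ^ p ^ k = 1
    rw [← zpow_natCast, ← _root_.zpow_mul, mul_comm, _root_.zpow_mul, zpow_natCast, ← map_pow, hk, map_one,
      _root_.one_zpow]
  obtain ⟨γ, hγ, hle⟩ := (isSyl_of_fullyAutomized (fullyNormalized_imp hTp hEs hQE).2).exists_conj hZ
    (Subgroup.zpowers_le.2 ha')
  obtain ⟨g, hg, hge⟩ := (mem_autInducedBy_iff _).1 (hle ⟨_, Subgroup.mem_zpowers _, rfl⟩)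
  have hc : γ * MulAut.congr e a * γ⁻¹ ∈ D.autGroup Q :=
    (mem_autGroup_iff _ hQT _).2 (hom_congr _ (D.conj_mem hQT hg) hge)
  set f : Q ≃* P := (γ⁻¹ : MulAut Q).trans e.symm
  have hf : equivHom f ∈ F.Hom Q := equivHom_trans F
    ((mem_autGroup_iff F hQ.1 _).1 (Subgroup.inv_mem _ (autGroup_mono hEi.1 Q hγ))) (mapEquiv_symm_mem F hθ hθr)
  have h := congr_mem_of_frattini hD.2.2.2.2.1 hP f (hD.2.2.2.2.2 Q hQT _ hf) hc
  have e3 : MulAut.congr f (γ * MulAut.congr e a * γ⁻¹) = a := by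
    ext x
    simp [f, MulAut.mul_apply, congr_apply]
  rw [e3] at h
  exact h

theorem inn_isSyl {E : FusionSystem T} (hTp : IsPGroup p T) [Finite T] (hE : E.IsSaturated p) :
    IsSyl p (Inn T) (E.autGroup T) := by
  rw [inn_eq_autInducedBy_self]
  exact isSyl_of_fullyAutomized (fullyNormalized_imp hTp hE (fullyNormalized_top E)).2

theorem mem_of_pow_mem {G : Type*} [Group G] [Finite G] {A J I : Subgroup G} (hIJ : I ≤ J) (hJA : J ≤ A)
    (hn : A ≤ Subgroup.normalizer (J : Set G)) (hI : IsSyl p I A) {a : G} (ha : a ∈ A) {k : ℕ}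
    (hk : a ^ p ^ k ∈ J) : a ∈ J := by
  haveI : (J.subgroupOf A).Normal := ⟨fun x hx g => (Subgroup.mem_normalizer_iff.1 (hn g.2) _).1 hx⟩
  have hnd : ¬ p ∣ J.relIndex A := fun hd => hI.2.2 (hd.trans (Dvd.intro_left _ (Subgroup.relIndex_mul_relIndex I J A hIJ hJA)))
  have h1 : (⟨a, ha⟩ : A) ^ (J.subgroupOf A).index ∈ J.subgroupOf A := Subgroup.pow_index_mem _ _
  have hcop : Nat.Coprime (p ^ k) (J.subgroupOf A).index := Nat.Coprime.pow_left _ (hp.out.coprime_iff_not_dvd.2 hnd)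
  obtain ⟨u, v, huv⟩ : ∃ u v : ℤ, ((p ^ k : ℕ) : ℤ) * u + ((J.subgroupOf A).index : ℤ) * v = 1 :=
    ⟨_, _, by rw [← Nat.gcd_eq_gcd_ab, hcop.gcd_eq_one]; rfl⟩
  have h2 := J.mul_mem (J.zpow_mem hk u) (J.zpow_mem (Subgroup.mem_subgroupOf.1 h1) v)
  rwa [Subgroup.coe_pow, ← zpow_natCast a (p ^ k), ← zpow_natCast a (J.subgroupOf A).index, ← _root_.zpow_mul,
    ← _root_.zpow_mul, ← _root_.zpow_add, huv, zpow_one] at h2

theorem mem_inf_of_pow_mem_inf {G : Type*} [Group G] [Finite G] {M A B I : Subgroup G} (hA : A ≤ M) (hB : B ≤ M)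
    (hAn : M ≤ Subgroup.normalizer (A : Set G)) (hBn : M ≤ Subgroup.normalizer (B : Set G)) (hIA : IsSyl p I A)
    (hIB : IsSyl p I B) {d : G} (hd : d ∈ A ⊔ B) {k : ℕ} (hk : d ^ p ^ k ∈ A ⊓ B) : d ∈ A ⊓ B := by
  haveI hAN : (A.subgroupOf M).Normal := ⟨fun x hx g => (Subgroup.mem_normalizer_iff.1 (hAn g.2) _).1 hx⟩
  haveI hBN : (B.subgroupOf M).Normal := ⟨fun x hx g => (Subgroup.mem_normalizer_iff.1 (hBn g.2) _).1 hx⟩
  have hJn : M ≤ Subgroup.normalizer ((A ⊓ B : Subgroup G) : Set G) := fun m hm => by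
    rw [Subgroup.mem_normalizer_iff]
    exact fun x => and_congr (Subgroup.mem_normalizer_iff.1 (hAn hm) x) (Subgroup.mem_normalizer_iff.1 (hBn hm) x)
  have hsA : ∀ {a : G}, a ∈ A → ∀ {k : ℕ}, a ^ p ^ k ∈ A ⊓ B → a ∈ A ⊓ B := fun {_} ha {_} hk =>
    mem_of_pow_mem (le_inf hIA.1 hIB.1) inf_le_left (hA.trans hJn) hIA ha hk
  have hsB : ∀ {a : G}, a ∈ B → ∀ {k : ℕ}, a ^ p ^ k ∈ A ⊓ B → a ∈ A ⊓ B := fun {_} ha {_} hk =>
    mem_of_pow_mem (le_inf hIA.1 hIB.1) inf_le_right (hB.trans hJn) hIB ha hk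
  let K := A.subgroupOf M ⊓ B.subgroupOf M
  have h' : (⟨d, sup_le hA hB hd⟩ : M) ∈ A.subgroupOf M ⊔ B.subgroupOf M := by
    rw [← Subgroup.subgroupOf_sup hA hB]; exact Subgroup.mem_subgroupOf.2 hd
  obtain ⟨a, ha, b, hb, hab⟩ := Subgroup.mem_sup_of_normal_right.1 h'
  set π := QuotientGroup.mk' K
  have hcomm : Commute (π a) (π b) := by
    show π a * π b = π b * π a
    rw [← map_mul, ← map_mul]
    refine ((QuotientGroup.eq).2 ⟨?_, ?_⟩)
    · have : (a * b)⁻¹ * (b * a) = b⁻¹ * (a⁻¹ * b * a) := by group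
      rw [this]
      rw [show b⁻¹ * (a⁻¹ * b * a) = (b⁻¹ * a⁻¹ * b) * a by group]
      exact mul_mem (by simpa using hAN.conj_mem a⁻¹ (Subgroup.inv_mem _ ha) b⁻¹) ha
    · rw [show (a * b)⁻¹ * (b * a) = b⁻¹ * (a⁻¹ * b * a) by group]
      exact mul_mem (Subgroup.inv_mem _ hb) (by simpa using hBN.conj_mem b hb a⁻¹)
  have h1 : π (a * b) ^ p ^ k = 1 := by
    rw [← map_pow, hab]
    exact (QuotientGroup.eq_one_iff _).2 ⟨hk.1, hk.2⟩
  rw [map_mul, hcomm.mul_pow, ← map_pow, ← map_pow, ← map_mul] at h1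
  have h2 : a ^ p ^ k * b ^ p ^ k ∈ K := (QuotientGroup.eq_one_iff _).1 h1
  have h3 : a ^ p ^ k ∈ B.subgroupOf M := by
    have := mul_mem h2.2 (Subgroup.inv_mem _ (pow_mem hb (p ^ k)))
    rwa [mul_inv_cancel_right] at this
  have h4 : b ^ p ^ k ∈ A.subgroupOf M := by
    have := mul_mem (Subgroup.inv_mem _ (pow_mem ha (p ^ k))) h2.1
    rwa [inv_mul_cancel_left] at this
  have ha' : (a : G) ∈ A ⊓ B := hsA ha (k := k) ⟨pow_mem (show (a : G) ∈ A from ha) _, by simpa [Subgroup.mem_subgroupOf] using h3⟩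
  have hb' : (b : G) ∈ A ⊓ B := hsB hb (k := k) ⟨by simpa [Subgroup.mem_subgroupOf] using h4, pow_mem (show (b : G) ∈ B from hb) _⟩
  have e : d = (a : G) * b := (congrArg Subtype.val hab).symm
  exact e ▸ mul_mem ha' hb'

/-- The maps in both subsystems are invariant. -/
theorem interSys_autInvariant {F : FusionSystem S} {E D : FusionSystem T} (hE : AutInvariant F E)
    (hD : AutInvariant F D) : AutInvariant F (interSys E D) := by
  intro P hP φ hφ α hα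
  obtain ⟨χ, hχ, hχe⟩ := hE P hP φ hφ.1 α hα
  obtain ⟨χ', hχ', hχe'⟩ := hD P hP φ hφ.2 α hα
  refine ⟨χ, ⟨hχ, hom_congr D hχ' fun y => ?_⟩, hχe⟩
  obtain ⟨_, x, hx, rfl⟩ := y
  exact (hχe ⟨x, hx⟩ (hom_apply_mem E hφ.1 _) ⟨x, hx, rfl⟩).trans
    (hχe' ⟨x, hx⟩ (hom_apply_mem E hφ.1 _) ⟨x, hx, rfl⟩).symm

/-- `φ` is a restriction of `δ`. -/
theorem restrict_top_range {P : Subgroup Ω} (hPT : P ≤ T) (δ : MulAut T) :
    ((T.subtype.comp δ.toMonoidHom).comp (Subgroup.inclusion hPT)).range =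
      (P.subgroupOf T).map (T.subtype.comp δ.toMonoidHom) := range_restrict _ hPT

/-- An element of either automizer of `T` agreeing with a common map on a centric subgroup is common. -/
theorem top_mem_inter (hS : IsPGroup p S) {F : FusionSystem S} {E D : FusionSystem T}
    (hE : E.IsWeaklyNormalIn F p) (hD : D.IsWeaklyNormalIn F p) {P : Subgroup Ω} (hP : E.IsCentric P)
    {δ : MulAut T} (hδ : δ ∈ E.autGroup T ⊔ D.autGroup T)
    (hres : (T.subtype.comp δ.toMonoidHom).comp (Subgroup.inclusion hP.1) ∈ (interSys E D).Hom P) :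
    δ ∈ (interSys E D).autGroup T := by
  induction hn : Nat.card T - Nat.card P using Nat.strong_induction_on generalizing P δ with
  | _ n ih =>
  obtain ⟨hEs, hFs, hEi⟩ := id hE
  have hT := hEi.2.1
  haveI : Finite T := finite_of_le hT.1
  have hTp : IsPGroup p T := hS.to_le hT.1
  rcases eq_or_lt_of_le hP.1 with he | hlt
  · subst he
    exact (mem_autGroup_iff _ le_rfl δ).2 (hom_congr _ hres fun x => rfl)
  set A := E.autGroup T
  set B := D.autGroup T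
  have hAF : A ≤ F.autGroup T := autGroup_mono hEi.1 T
  have hBF : B ≤ F.autGroup T := autGroup_mono hD.2.2.1 T
  have hnorm : ∀ {X : FusionSystem T}, X.IsWeaklyNormalIn F p →
      F.autGroup T ≤ Subgroup.normalizer (X.autGroup T : Set (MulAut T)) := by
    intro X hX
    have key : ∀ γ ∈ F.autGroup T, ∀ c ∈ X.autGroup T, γ * c * γ⁻¹ ∈ X.autGroup T := by
      intro γ hγ c hc
      exact congr_mem_of_frattini hX.2.2.2.2.1 le_rfl γ (hX.2.2.2.2.2 T le_rfl _ (aut_hom F hT.1 hγ)) hc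
    intro γ hγ
    rw [Subgroup.mem_normalizer_iff]
    refine fun c => ⟨key γ hγ c, fun h => ?_⟩
    have := key γ⁻¹ (Subgroup.inv_mem _ hγ) _ h
    simpa [mul_assoc] using this
  have hJ : ∀ d, d ∈ (interSys E D).autGroup T ↔ d ∈ A ⊓ B := by
    intro d
    rw [mem_autGroup_iff _ le_rfl, Subgroup.mem_inf, mem_autGroup_iff E le_rfl, mem_autGroup_iff D le_rfl]
    rfl
  have hδF := aut_hom F hT.1 ((sup_le hAF hBF) hδ)
  set N := normalizerIn T P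
  have hPN := lt_normalizerIn hTp hlt
  have hNT : N ≤ T := normalizerIn_le T P
  haveI := finite_of_le (hNT.trans hT.1)
  have hcard := card_lt_of_lt hPN
  have hcN := Subgroup.card_le_of_le hNT
  have hNc : E.IsCentric N := isCentric_mono hP hPN.le hNT
  have side : ∀ X : FusionSystem T, X.IsWeaklyNormalIn F p → X.autGroup T ≤ A ⊔ B →
      (∀ Q, (interSys E D).Hom Q ⊆ X.Hom Q) →
      (∀ Q, X.IsCentric Q → ∀ a ∈ X.autGroup Q, (∃ k : ℕ, a ^ p ^ k = 1) → a ∈ (interSys E D).autGroup Q) →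
      δ ∈ X.autGroup T := by
    intro X hX hXM hGX hXp
    have hδN : (T.subtype.comp δ.toMonoidHom).comp (Subgroup.inclusion hNT) ∈ (restrictSys F T hT).Hom N :=
      ⟨restrict_mem F hδF hNT, hNT⟩
    obtain ⟨η, hη, β, -, ⟨k, hk⟩, -, he⟩ := exists_ext_up_to_p hTp hX.1
      (F := restrictSys F T hT) (fun Q φ hφ => ⟨hX.2.2.1 Q hφ, hom_le X hφ⟩) hPN.le (restrict_centric hEi hP) hδN
      le_rfl (hom_congr X (hGX P hres) fun x => rfl)
    obtain ⟨a, ha, g, hg, hge⟩ := frattini_of_paut hTp hX.1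
      (D := interSys E D) (fun Q hQ φ hφ α hα => interSys_autInvariant hEi.2.2.1 hD.2.2.2.2.1 Q hQ φ hφ α
        (autGroup_mono hX.2.2.1 T hα)) hXp hη
    have hd : a⁻¹ * δ ∈ A ⊔ B := Subgroup.mul_mem _ (Subgroup.inv_mem _ (hXM ha)) hδ
    set d := a⁻¹ * δ with hdd
    have hd1 : ∀ x : N, ((d ⟨x, hNT x.2⟩ : T) : Ω) = g (β x) := fun x => by
      have h1 := (he x).trans (hge (β x) (hom_apply_mem _ hg.1 _))
      have h2 : δ ⟨x, hNT x.2⟩ = a ⟨g (β x), hom_apply_mem _ hg.1 _⟩ := Subtype.ext h1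
      rw [hdd, MulAut.mul_apply, h2, MulAut.inv_apply_self]
    have hpowd : ∀ j : ℕ, ∃ gj ∈ (interSys E D).Hom N, ∀ x : N,
        (((d ^ j) ⟨x, hNT x.2⟩ : T) : Ω) = gj ((β ^ j) x) := by
      intro j
      induction j with
      | zero => exact ⟨N.subtype, subtype_mem _ hNT, fun x => rfl⟩
      | succ j ihj =>
        obtain ⟨gj, hgj, hgje⟩ := ihj
        obtain ⟨χ, hχ, hχe⟩ := interSys_autInvariant hEi.2.2.1 hD.2.2.2.2.1 N hNT gj hgj d (sup_le hAF hBF hd)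
        have hv : ∀ y, g y ∈ (N.subgroupOf T).map (T.subtype.comp d.toMonoidHom) := by
          intro y
          obtain ⟨x, rfl⟩ := β.surjective y
          exact ⟨⟨x, hNT x.2⟩, x.2, hd1 x⟩
        refine ⟨_, (interSys E D).comp_mem hg hχ hv, fun x => ?_⟩
        show _ = χ ⟨g ((β ^ (j + 1)) x), _⟩
        rw [pow_succ', MulAut.mul_apply]
        have e1 : g (β ((β ^ j) x)) = ((d ⟨(β ^ j) x, hNT ((β ^ j) x).2⟩ : T) : Ω) := (hd1 _).symm
        have e2 : g ((β ^ (j + 1)) x) = ((d ⟨(β ^ j) x, hNT ((β ^ j) x).2⟩ : T) : Ω) := by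
          rw [pow_succ', MulAut.mul_apply]; exact e1
        refine Eq.trans ?_ (apply_congr χ e2.symm ⟨⟨_, hNT ((β ^ j) x).2⟩, ((β ^ j) x).2, rfl⟩ (hv _))
        refine Eq.trans ?_ (hχe ((β ^ j) x) (hom_apply_mem _ hgj.1 _) _).symm
        exact congrArg (fun z : T => ((d z : T) : Ω)) (Subtype.ext (hgje x))
    obtain ⟨gq, hgq, hgqe⟩ := hpowd (p ^ k)
    have h5 := ih _ (hn ▸ Nat.sub_lt_sub_left (lt_of_lt_of_le hcard hcN) hcard) hNc (Subgroup.pow_mem _ hd (p ^ k))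
      (hom_congr _ hgq fun x => by
        refine (hgqe x).trans ?_
        rw [hk]; rfl) rfl
    have h6 := mem_inf_of_pow_mem_inf hAF hBF (hnorm hE) (hnorm hD) (inn_isSyl hTp hEs) (inn_isSyl hTp hD.1) hd
      ((hJ _).1 h5)
    have hdX : d ∈ X.autGroup T := autGroup_mono (E := interSys E D) hGX T ((hJ d).2 h6)
    have := Subgroup.mul_mem _ ha hdX
    rwa [hdd, mul_inv_cancel_left] at this
  have hpED : ∀ Q ≤ T, ∀ a : MulAut Q, a ∈ E.autGroup Q → a ∈ D.autGroup Q → a ∈ (interSys E D).autGroup Q :=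
    fun Q hQ a h1 h2 => (mem_autGroup_iff _ hQ a).2 ⟨(mem_autGroup_iff E hQ a).1 h1, (mem_autGroup_iff D hQ a).1 h2⟩
  refine (hJ δ).2 ⟨side E hE le_sup_left (fun Q φ h => h.1) fun Q hQ a ha hk => ?_,
    side D hD le_sup_right (fun Q φ h => h.2) fun Q hQ a ha hk => ?_⟩
  · exact hpED Q hQ.1 a ha (paut_of_weaklyNormal hS hE hD hQ.1 ha hk)
  · exact hpED Q hQ.1 a (paut_of_weaklyNormal hS hD hE hQ.1 ha hk) ha

/-- The maps common to two weakly normal subsystems are closed. -/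
theorem inter_closed (hS : IsPGroup p S) {F : FusionSystem S} {E D : FusionSystem T}
    (hE : E.IsWeaklyNormalIn F p) (hD : D.IsWeaklyNormalIn F p) : PPrimeClosed E (interSys E D) p := by
  obtain ⟨hEs, hFs, hEi⟩ := id hE
  haveI : Finite T := finite_of_le hEi.2.1.1
  have hTp : IsPGroup p T := hS.to_le hEi.2.1.1
  have hpaut : ∀ Q, E.IsCentric Q → ∀ a ∈ E.autGroup Q, (∃ k : ℕ, a ^ p ^ k = 1) →
      a ∈ (interSys E D).autGroup Q := fun Q hQ a ha hk => (mem_autGroup_iff _ hQ.1 a).2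
    ⟨(mem_autGroup_iff E hQ.1 a).1 ha, (mem_autGroup_iff D hQ.1 a).1 (paut_of_weaklyNormal hS hE hD hQ.1 ha hk)⟩
  refine ⟨hpaut, fun P R φ h hP hφ hR hres => ?_⟩
  obtain ⟨a, ha, g, hg, hge⟩ := frattini_of_paut hTp hEs
    (D := interSys E D) (fun Q hQ φ hφ α hα => interSys_autInvariant hEi.2.2.1 hD.2.2.2.2.1 Q hQ φ hφ α
      (autGroup_mono hEi.1 T hα)) hpaut hφ
  have hgP := restrict_mem _ hg h
  obtain ⟨gi, hgi, hgie, hgir, -⟩ := exists_inv_imgOf _ hgP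
  have hv : ∀ y, gi y ∈ P := fun y => hgir.le ⟨y, rfl⟩
  have hm := (interSys E D).comp_mem hgi hres hv
  have hc : E.IsCentric (g.comp (Subgroup.inclusion h)).range := isCentric_isConj hP ⟨_, hgP.1, rfl⟩
  have haJ := top_mem_inter hS hE hD hc (Subgroup.mem_sup_left ha) (hom_congr _ hm fun y => by
    obtain ⟨_, x, rfl⟩ := y
    refine Eq.trans ?_ (congrArg (fun z : P => φ (Subgroup.inclusion h z)) (Subtype.ext (hgie x ⟨x, rfl⟩))).symm
    exact (hge (Subgroup.inclusion h x) (hom_apply_mem _ hg.1 _)).symm)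
  exact hom_congr _ ((interSys E D).comp_mem hg ((mem_autGroup_iff _ le_rfl a).1 haJ) fun x => hom_apply_mem _ hg.1 x)
    fun x => hge x _

/-- `O^{p'}` of a weakly normal subsystem lies in every weakly normal subsystem over the same subgroup. -/
theorem pPrimeResidual_le_weaklyNormal (hS : IsPGroup p S) {F : FusionSystem S} {E D D' : FusionSystem T}
    (hE : E.IsWeaklyNormalIn F p) (hD : E.IsPPrimeResidual p D) (hD' : D'.IsWeaklyNormalIn F p) :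
    D.IsSubsystemOf D' := by
  haveI : Finite T := finite_of_le hE.2.2.2.1.1
  have hTp : IsPGroup p T := hS.to_le hE.2.2.2.1.1
  intro P φ hφ
  have h1 := hD.2.2 _ (pPrimeSys_saturated hTp hE.1) (pPrimeSys_index hTp hE.1) P hφ
  exact (pPrimeSys_min (inter_closed hS hE hD') P h1).2

end Cfsg.Agent.FusionSys
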