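import Cfsg.Agent.Lib.Fusion.CentralLiftTransfer
import Cfsg.Agent.Lib.Fusion.FactorMorphism
import Cfsg.Agent.Lib.Fusion.WeaklyNormalResidual
import Cfsg.Agent.Lib.Fusion.CentricRestrict

/-!
# Lifting normal subsystems through a central quotient: the full preimage system

`D` consists of all maps of `F` on the preimage of the carrier that induce maps of the subsystem of the factor
system.
-/

set_option autoImplicit false

namespace Cfsg.Agent.FusionSys.CentLift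

open Cfsg Cfsg.FusionSystem

variable {Ω : Type*} [Group Ω] {S : Subgroup Ω} {Ω' : Type*} [Group Ω'] {S' T' : Subgroup Ω'}
  {F : FusionSystem S} {p : ℕ} {Z : Subgroup Ω} {θ : S →* Ω'} {Fb : FusionSystem S'} {E : FusionSystem T'}

/-- A normal subsystem `E` of the factor of a saturated `F` by a central subgroup `Z`. -/
structure Setup (p : ℕ) (F : FusionSystem S) (Z : Subgroup Ω) (θ : S →* Ω') (Fb : FusionSystem S')
    (E : FusionSystem T') : Prop where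
  pgrp : IsPGroup p S
  sat : F.IsSaturated p
  cen : F.IsCentral Z
  fac : F.IsFactorSystem Z θ Fb
  nor : E.IsNormalIn Fb p

variable (h : Setup p F Z θ Fb E)
include h

theorem Setup.zS : Z ≤ S := h.cen.1

theorem Setup.hker (s : S) : θ s = 1 ↔ (s : Ω) ∈ Z := h.fac.2.1 s

theorem Setup.hran : θ.range = S' := h.fac.2.2.1

theorem Setup.sub : E.IsSubsystemOf Fb := h.nor.1.2.2.1

theorem Setup.sc : Fb.StronglyClosed T' := h.nor.1.2.2.2.1

theorem Setup.eSat : E.IsSaturated p := h.nor.1.1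

theorem Setup.inv : E.IsInvariantIn Fb := h.nor.1.2.2

theorem Setup.scZ : F.StronglyClosed Z := isNormal_stronglyClosed (isCentral_isNormal h.cen)

theorem Setup.fix {P : Subgroup Ω} {φ : P →* Ω} (hφ : φ ∈ F.Hom P) (x : P) (hx : (x : Ω) ∈ Z) : φ x = x := by
  obtain ⟨ψ, -, h1, h2⟩ := isCentral_extend h.cen hφ
  rw [← h1 x x.2 (Subgroup.mem_sup_left x.2)]
  exact h2 x _ hx

theorem Setup.comm {z : Ω} (hz : z ∈ Z) {s : Ω} (hs : s ∈ S) : s * z = z * s := by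
  have h1 := h.fix (F.conj_mem (le_refl S) hs) ⟨z, h.zS hz⟩ hz
  change s * z * s⁻¹ = z at h1
  exact mul_inv_eq_iff_eq_mul.1 h1

theorem Setup.theta_eq {x y : Ω} (hx : x ∈ S) (hy : y ∈ S) : θ ⟨x, hx⟩ = θ ⟨y, hy⟩ ↔ x⁻¹ * y ∈ Z := by
  rw [← inv_mul_eq_one, ← map_inv, ← map_mul, h.hker]
  rfl

theorem Setup.theta_mem (s : S) : θ s ∈ S' := h.hran ▸ ⟨s, rfl⟩

omit h in
theorem mem_im {P : Subgroup Ω} {x : Ω} (hx : x ∈ S) (hxP : x ∈ P) : θ ⟨x, hx⟩ ∈ imageAlong θ P :=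
  mem_imageAlong.2 ⟨x, hx, hxP, rfl⟩

omit h in
theorem im_mono {P Q : Subgroup Ω} (hPQ : P ≤ Q) : imageAlong θ P ≤ imageAlong θ Q := fun _ hy => by
  obtain ⟨x, hx, hxP, rfl⟩ := mem_imageAlong.1 hy
  exact mem_im hx (hPQ hxP)

theorem Setup.im_le (P : Subgroup Ω) : imageAlong θ P ≤ S' := fun _ hy => by
  obtain ⟨x, hx, -, rfl⟩ := mem_imageAlong.1 hy
  exact h.theta_mem _

theorem Setup.mem_of_im {P : Subgroup Ω} (hZP : Z ≤ P) {x : Ω} (hx : x ∈ S)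
    (hm : θ ⟨x, hx⟩ ∈ imageAlong θ P) : x ∈ P := by
  obtain ⟨u, hu, huP, he⟩ := mem_imageAlong.1 hm
  have := P.mul_mem huP (hZP ((h.theta_eq hu hx).1 he))
  rwa [mul_inv_cancel_left] at this

theorem Setup.pre_im {P : Subgroup Ω} (hZP : Z ≤ P) (hPS : P ≤ S) :
    preimageAlong θ (imageAlong θ P) = P := by
  ext x
  rw [mem_preimageAlong]
  exact ⟨fun ⟨hx, hm⟩ => h.mem_of_im hZP hx hm, fun hx => ⟨hPS hx, mem_im (hPS hx) hx⟩⟩

theorem Setup.im_pre {P' : Subgroup Ω'} (hP : P' ≤ S') : imageAlong θ (preimageAlong θ P') = P' := by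
  ext y
  rw [mem_imageAlong]
  constructor
  · rintro ⟨x, hx, hm, rfl⟩
    exact ((mem_preimageAlong _ _ _).1 hm).2
  · intro hy
    obtain ⟨s, rfl⟩ := h.hran.ge (hP hy)
    exact ⟨s, s.2, (mem_preimageAlong _ _ _).2 ⟨s.2, hy⟩, rfl⟩

theorem Setup.zpre (P' : Subgroup Ω') : Z ≤ preimageAlong θ P' := fun z hz =>
  (mem_preimageAlong _ _ _).2 ⟨h.zS hz, by rw [(h.hker ⟨z, h.zS hz⟩).2 hz]; exact P'.one_mem⟩

/-- Membership in the carrier of the preimage system. -/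
theorem Setup.mem_T {x : Ω} : x ∈ preimageAlong θ T' ↔ ∃ hx : x ∈ S, θ ⟨x, hx⟩ ∈ T' :=
  mem_preimageAlong _ _ _

omit h in
theorem pre_mono {A B : Subgroup Ω'} (hAB : A ≤ B) : preimageAlong θ A ≤ preimageAlong θ B := fun x hx => by
  obtain ⟨hxS, hm⟩ := (mem_preimageAlong _ _ _).1 hx
  exact (mem_preimageAlong _ _ _).2 ⟨hxS, hAB hm⟩

theorem Setup.im_le_T {P : Subgroup Ω} (hP : P ≤ preimageAlong θ T') : imageAlong θ P ≤ T' := fun _ hy => by
  obtain ⟨x, hx, hxP, rfl⟩ := mem_imageAlong.1 hy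
  exact ((mem_preimageAlong _ _ _).1 (hP hxP)).2

omit h in
theorem ind_apply {P : Subgroup Ω} {φ : P →* Ω} {P' : Subgroup Ω'} {φ' : P' →* Ω'}
    (hi : InducedAlong θ φ φ') (x : P) (hx : (x : Ω) ∈ S) (hm : θ ⟨x, hx⟩ ∈ P') (hφx : φ x ∈ S) :
    φ' ⟨θ ⟨x, hx⟩, hm⟩ = θ ⟨φ x, hφx⟩ := by
  obtain ⟨_, _, _, he⟩ := hi
  exact he x

omit h in
theorem ind_mem {P : Subgroup Ω} {φ : P →* Ω} {P' : Subgroup Ω'} {φ' : P' →* Ω'}
    (hi : InducedAlong θ φ φ') (x : P) (hx : (x : Ω) ∈ S) : θ ⟨x, hx⟩ ∈ P' := by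
  obtain ⟨_, _, hm, _⟩ := hi
  exact hm x

omit h in
theorem ind_restrict {P Q : Subgroup Ω} (hQP : Q ≤ P) {φ : P →* Ω} {P' : Subgroup Ω'} {φ' : P' →* Ω'}
    (hi : InducedAlong θ φ φ') : InducedAlong θ (φ.comp (Subgroup.inclusion hQP)) φ' := by
  obtain ⟨hP, hφ, hm, he⟩ := hi
  exact ⟨hQP.trans hP, fun x => hφ _, fun x => hm (Subgroup.inclusion hQP x), fun x => he (Subgroup.inclusion hQP x)⟩

/-- The maps of `F` between subgroups of the preimage of `T'` inducing maps of `E`. -/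
def dSys : FusionSystem (preimageAlong θ T') where
  Hom P := {φ | φ ∈ F.Hom P ∧ P ≤ preimageAlong θ T' ∧ ∃ (P' : Subgroup Ω') (φ' : P' →* Ω'),
    φ' ∈ E.Hom P' ∧ InducedAlong θ φ φ'}
  le_of_mem {P φ} := by
    rintro ⟨hφ, hP, P', φ', hφ', hi⟩
    refine ⟨hP, fun x => (mem_preimageAlong _ _ _).2 ⟨hom_apply_mem F hφ x, ?_⟩⟩
    rw [← ind_apply hi x (hom_le F hφ x.2) (ind_mem hi x _) (hom_apply_mem F hφ x)]
    exact hom_apply_mem E hφ' _
  injective_of_mem h' := F.injective_of_mem h'.1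
  conj_mem {P g} hP hg := by
    have hgS := (mem_preimageAlong _ _ _).1 hg
    have hPS : P ≤ S := hP.trans (le_preimageAlong _ _)
    refine ⟨F.conj_mem hPS hgS.1, hP, imageAlong θ P, _, E.conj_mem (h.im_le_T hP) hgS.2, hPS,
      fun x => hom_apply_mem F (F.conj_mem hPS hgS.1) x, fun x => mem_im _ x.2, fun x => ?_⟩
    show θ _ * θ _ * (θ _)⁻¹ = θ _
    rw [← map_inv, ← map_mul, ← map_mul]
    rfl
  comp_mem {P Q φ ψ} := by
    rintro ⟨hφ, hP, P', φ', hφ', hi⟩ ⟨hψ, -, Q', ψ', hψ', hi'⟩ hv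
    have hPS := hom_le F hφ
    have hsub : imageAlong θ P ≤ P' := fun y hy => by
      obtain ⟨x, hx, hxP, rfl⟩ := mem_imageAlong.1 hy
      exact ind_mem hi ⟨x, hxP⟩ hx
    have hv' : ∀ y, (φ'.comp (Subgroup.inclusion hsub)) y ∈ Q' := by
      rintro ⟨y, hy⟩
      obtain ⟨x, hx, hxP, rfl⟩ := mem_imageAlong.1 hy
      show φ' ⟨θ ⟨x, hx⟩, hsub hy⟩ ∈ Q'
      rw [ind_apply hi ⟨x, hxP⟩ hx _ (hom_apply_mem F hφ _)]
      exact ind_mem hi' ⟨φ ⟨x, hxP⟩, hv _⟩ _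
    refine ⟨F.comp_mem hφ hψ hv, hP, imageAlong θ P, _, E.comp_mem (restrict_mem E hφ' hsub) hψ' hv',
      hPS, fun x => hom_apply_mem F hψ _, fun x => mem_im _ x.2, fun x => ?_⟩
    refine (apply_congr ψ' (ind_apply hi x (hPS x.2) (ind_mem hi x _) (hom_apply_mem F hφ x)) _
      (ind_mem hi' ⟨φ x, hv x⟩ _)).trans ?_
    exact ind_apply hi' ⟨φ x, hv x⟩ _ _ _
  inv_mem {P φ} := by
    rintro ⟨hφ, hP, P', φ', hφ', hi⟩
    have hPS := hom_le F hφ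
    obtain ⟨ψ, hψ, hψr, h1, -⟩ := exists_inv F hφ
    obtain ⟨ψ', hψ', -, h1', -⟩ := exists_inv E hφ'
    have hran : φ.range ≤ preimageAlong θ T' := by
      rintro _ ⟨x, rfl⟩
      refine (mem_preimageAlong _ _ _).2 ⟨hom_apply_mem F hφ x, ?_⟩
      rw [← ind_apply hi x (hPS x.2) (ind_mem hi x _) (hom_apply_mem F hφ x)]
      exact hom_apply_mem E hφ' _
    refine ⟨ψ, ⟨hψ, hran, φ'.range, ψ', hψ', range_le F hφ, fun y => hom_apply_mem F hψ y, fun y => ?_,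
      fun y => ?_⟩, fun x => h1 x _⟩
    · obtain ⟨_, x, rfl⟩ := y
      exact ⟨_, ind_apply hi x (hPS x.2) (ind_mem hi x _) _⟩
    · obtain ⟨_, x, rfl⟩ := y
      refine (apply_congr ψ' (ind_apply hi x (hPS x.2) (ind_mem hi x _) (hom_apply_mem F hφ x)).symm _
        ⟨_, rfl⟩).trans ((h1' _ _).trans ?_)
      exact congrArg θ (Subtype.ext (h1 x ⟨x, rfl⟩).symm)

theorem Setup.d_le : (dSys h).IsSubsystemOf F := fun _ _ hφ => hφ.1

/-- A map of `F` congruent modulo `Z` to a map of `D` is in `D`. -/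
theorem Setup.d_congr {P : Subgroup Ω} {φ ψ : P →* Ω} (hφ : φ ∈ (dSys h).Hom P) (hψ : ψ ∈ F.Hom P)
    (he : ∀ x : P, (φ x)⁻¹ * ψ x ∈ Z) : ψ ∈ (dSys h).Hom P := by
  obtain ⟨hφF, hP, P', φ', hφ', hi⟩ := hφ
  refine ⟨hψ, hP, P', φ', hφ', hom_le F hψ, hom_apply_mem F hψ, fun x => ind_mem hi x _, fun x => ?_⟩
  rw [ind_apply hi x _ _ (hom_apply_mem F hφF x), h.theta_eq]
  exact he x

/-- The map of `E` induced by a map of `D`, on the image of its source. -/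
theorem Setup.d_induced {P : Subgroup Ω} {φ : P →* Ω} (hφ : φ ∈ (dSys h).Hom P) :
    ∃ φ' ∈ E.Hom (imageAlong θ P), InducedAlong θ φ φ' := by
  obtain ⟨hφF, -, P', φ', hφ', hi⟩ := hφ
  have hsub : imageAlong θ P ≤ P' := fun y hy => by
    obtain ⟨x, hx, hxP, rfl⟩ := mem_imageAlong.1 hy
    exact ind_mem hi ⟨x, hxP⟩ hx
  exact ⟨_, restrict_mem E hφ' hsub, hom_le F hφF, hom_apply_mem F hφF, fun x => mem_im _ x.2,
    fun x => ind_apply hi x (hom_le F hφF x.2) (ind_mem hi x _) _⟩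

omit h in
theorem ind_range {P : Subgroup Ω} {φ : P →* Ω} {φ' : imageAlong θ P →* Ω'} (hi : InducedAlong θ φ φ') :
    φ'.range = imageAlong θ φ.range := by
  ext y
  rw [mem_imageAlong]
  constructor
  · rintro ⟨⟨z, hz⟩, rfl⟩
    obtain ⟨x, hx, hxP, rfl⟩ := mem_imageAlong.1 hz
    exact ⟨_, hi.2.1 ⟨x, hxP⟩, ⟨_, rfl⟩, (ind_apply hi ⟨x, hxP⟩ hx hz _).symm⟩
  · rintro ⟨_, hs, ⟨x, rfl⟩, rfl⟩
    exact ⟨_, ind_apply hi x (hi.1 x.2) (ind_mem hi x _) hs⟩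

/-- Every map of `E` lifts to `D`. -/
theorem Setup.d_lift {P' : Subgroup Ω'} {φ' : P' →* Ω'} (hφ' : φ' ∈ E.Hom P') :
    ∃ φ ∈ (dSys h).Hom (preimageAlong θ P'), InducedAlong θ φ φ' := by
  obtain ⟨-, φ, hφ, hi⟩ := (h.fac.2.2.2 P' φ').1 (h.sub P' hφ')
  exact ⟨φ, ⟨hφ, pre_mono (hom_le E hφ'), P', φ', hφ', hi⟩, hi⟩

variable [Finite S] [hp : Fact p.Prime]

omit hp in
/-- A map on a subgroup containing `Z` has image containing `Z`. -/
theorem Setup.z_le_range {P : Subgroup Ω} {φ : P →* Ω} (hφ : φ ∈ F.Hom P) (hZP : Z ≤ P) : Z ≤ φ.range :=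
  fun z hz => ⟨⟨z, hZP hz⟩, h.fix hφ _ hz⟩

omit hp in
/-- The range of a lift is the preimage of the range. -/
theorem Setup.lift_range {P' : Subgroup Ω'} {φ : preimageAlong θ P' →* Ω} {φ' : P' →* Ω'}
    (hφ : φ ∈ F.Hom (preimageAlong θ P')) (hP' : P' ≤ S') (hi : InducedAlong θ φ φ') :
    φ.range = preimageAlong θ φ'.range := by
  refine le_antisymm ?_ fun y hy => ?_
  · rintro _ ⟨x, rfl⟩
    exact (mem_preimageAlong _ _ _).2 ⟨hom_apply_mem F hφ x,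
      ⟨_, ind_apply hi x (le_preimageAlong _ _ x.2) (ind_mem hi x _) _⟩⟩
  · obtain ⟨hy, ⟨z, hz⟩, hze⟩ := (mem_preimageAlong _ _ _).1 hy
    obtain ⟨s, rfl⟩ := h.hran.ge (hP' hz)
    have hs : (s : Ω) ∈ preimageAlong θ P' := (mem_preimageAlong _ _ _).2 ⟨s.2, hz⟩
    have h1 : (φ ⟨s, hs⟩)⁻¹ * y ∈ Z := by
      rw [← h.theta_eq (hom_apply_mem F hφ _) hy, ← hze]
      exact (ind_apply hi ⟨s, hs⟩ s.2 hz _).symm
    have := φ.range.mul_mem (⟨_, rfl⟩ : φ ⟨s, hs⟩ ∈ φ.range) (h.z_le_range hφ (h.zpre P') h1)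
    rwa [mul_inv_cancel_left] at this

omit hp in
theorem Setup.finite' : Finite S' := by
  rw [← h.hran]
  exact Finite.of_surjective θ.rangeRestrict θ.rangeRestrict_surjective

omit [Finite S] hp in
theorem Setup.pgrp' : IsPGroup p S' := by
  rw [← h.hran]
  exact h.pgrp.of_surjective θ.rangeRestrict θ.rangeRestrict_surjective

omit [Finite S] hp in
theorem Setup.pgrpT' : IsPGroup p T' := h.pgrp'.to_le h.sc.1

omit hp in
theorem Setup.finiteT' : Finite T' := by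
  haveI := h.finite'
  exact finite_of_le (S := S') h.sc.1

/-- The preimage of the carrier is strongly closed. -/
theorem Setup.scT : F.StronglyClosed (preimageAlong θ T') := by
  refine ⟨le_preimageAlong _ _, fun R hR φ hφ x => ?_⟩
  obtain ⟨φ', hφ', hi⟩ := exists_induced h.pgrp h.sat h.scZ h.fac hφ
  refine (mem_preimageAlong _ _ _).2 ⟨hom_apply_mem F hφ x, ?_⟩
  rw [← ind_apply hi x (hom_le F hφ x.2) (ind_mem hi x _) (hom_apply_mem F hφ x)]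
  exact stronglyClosed_apply_mem h.sc hφ' _ (h.im_le_T hR (mem_im _ x.2))

omit hp in
theorem Setup.normalizer_im {P : Subgroup Ω} {x : Ω} (hx : x ∈ S) (hPS : P ≤ S)
    (hn : x ∈ Subgroup.normalizer (P : Set Ω)) :
    θ ⟨x, hx⟩ ∈ Subgroup.normalizer (imageAlong θ P : Set Ω') := by
  haveI := h.finite'
  haveI := finite_of_le (S := S') (h.im_le P)
  refine mem_normalizer_of_conj_mem_finite fun y hy => ?_
  obtain ⟨u, hu, huP, rfl⟩ := mem_imageAlong.1 hy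
  rw [← map_inv, ← map_mul, ← map_mul]
  exact mem_im _ ((Subgroup.mem_normalizer_iff.1 hn u).1 huP)

omit hp in
theorem Setup.normalizer_of_im {P : Subgroup Ω} (hZP : Z ≤ P) (hPS : P ≤ S) {x : Ω} (hx : x ∈ S)
    (hn : θ ⟨x, hx⟩ ∈ Subgroup.normalizer (imageAlong θ P : Set Ω')) :
    x ∈ Subgroup.normalizer (P : Set Ω) := by
  haveI := finite_of_le (S := S) hPS
  refine mem_normalizer_of_conj_mem_finite fun u hu => ?_
  refine h.mem_of_im hZP (S.mul_mem (S.mul_mem hx (hPS hu)) (S.inv_mem hx)) ?_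
  have h1 := (Subgroup.mem_normalizer_iff.1 hn _).1 (mem_im (hPS hu) hu)
  rw [← map_inv, ← map_mul, ← map_mul] at h1
  exact h1

end Cfsg.Agent.FusionSys.CentLift
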