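import Cfsg.Agent.Lib.Fusion.ModelUnique
import Cfsg.Agent.Lib.Fusion.Local
import Cfsg.Agent.Lib.Fusion.KNormalizer
import Cfsg.Agent.Lib.LocalEven.Involvement

/-!
# Local models
-/

set_option autoImplicit false

namespace Cfsg.Agent.FusionSys

open Cfsg Cfsg.FusionSystem

universe u v w

theorem involves_of_injective {H : Type u} [Group H] {L : Type v} {L' : Type w} [Group L] [Group L'] (f : L →* L')
    (hf : Function.Injective f) (h : Cfsg.Involves H L) : Cfsg.Involves H L' := by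
  obtain ⟨K, ψ, hψ⟩ := Cfsg.Agent.LEInvolve.exists_hom_of_involves h
  refine Cfsg.Agent.LEInvolve.involves_of_hom (f.comp K.subtype) ψ hψ ?_
  rw [(MonoidHom.ker_eq_bot_iff (f.comp K.subtype)).2 (hf.comp K.subtype_injective)]
  exact bot_le

theorem involves_of_surjective {H : Type u} [Group H] {L : Type v} {L' : Type w} [Group L] [Group L'] (f : L →* L')
    (hf : Function.Surjective f) (h : Cfsg.Involves H L') : Cfsg.Involves H L := by
  obtain ⟨K, ψ, hψ⟩ := Cfsg.Agent.LEInvolve.exists_hom_of_involves h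
  refine Cfsg.Agent.LEInvolve.involves_of_hom (K.comap f).subtype (ψ.comp (f.subgroupComap K)) (fun y => ?_) ?_
  · obtain ⟨⟨k, hk⟩, rfl⟩ := hψ y
    obtain ⟨l, rfl⟩ := hf k
    exact ⟨⟨l, hk⟩, rfl⟩
  · rw [Subgroup.ker_subtype]; exact bot_le

variable {Ω : Type u} [Group Ω] {S : Subgroup Ω} [Finite S] {p : ℕ} [hp : Fact p.Prime] {F : FusionSystem S}
  {Q : Subgroup Ω} {E : FusionSystem (normalizerIn S Q)}

omit [Finite S] hp in
theorem normalizerSystem_isNormal (hQ : Q ≤ S) (hE : F.IsNormalizerSystem Q E) : E.IsNormal Q := by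
  refine ⟨le_normalizerIn hQ, fun P φ hφ => ?_⟩
  rw [hE P] at hφ
  obtain ⟨-, hP, hφN, ψ, hψ, h1, h2⟩ := hφ
  refine ⟨ψ, ?_, h1, h2⟩
  have hle : P ⊔ Q ≤ normalizerIn S Q := sup_le hP (le_normalizerIn hQ)
  have he : P ⊔ Q ⊔ Q ≤ P ⊔ Q := sup_le le_rfl le_sup_right
  have hq := (map_subgroupOf_eq_iff ψ le_sup_right).1 h2
  rw [hE]
  refine ⟨hψ, hle, apply_mem_of_sup ψ (fun x => ?_) fun x => le_normalizerIn hQ (hq.1 x),
    ψ.comp (Subgroup.inclusion he), restrict_mem F hψ he, fun x => rfl, ?_⟩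
  · rw [h1]; exact hφN x
  · rw [map_subgroupOf_eq_iff _ le_sup_right]
    exact ⟨fun x => hq.1 x, fun y hy => hq.2 y hy⟩

omit [Finite S] hp in
theorem normalizerSystem_isConj (hE : F.IsNormalizerSystem Q E) {P R : Subgroup Ω} (h : E.IsConj P R) :
    F.IsConj P R := by
  obtain ⟨φ, hφ, hr⟩ := h
  rw [hE P] at hφ
  exact ⟨φ, hφ.1, hr⟩

omit [Finite S] hp in
theorem normalizerSystem_centric (hE : F.IsNormalizerSystem Q E) {P : Subgroup Ω} (hP : F.IsCentric P)
    (hPN : P ≤ normalizerIn S Q) : E.IsCentric P :=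
  ⟨hPN, fun R hR => le_trans (inf_le_inf_right _ inf_le_left) (hP.2 R (normalizerSystem_isConj hE hR))⟩

omit [Finite S] hp in
theorem normalizerSystem_autGroup (hQ : Q ≤ S) (hE : F.IsNormalizerSystem Q E) : E.autGroup Q = F.autGroup Q := by
  have he : Q ⊔ Q ≤ Q := sup_le le_rfl le_rfl
  ext α
  rw [mem_autGroup_iff E (le_normalizerIn hQ), mem_autGroup_iff F hQ, hE]
  refine ⟨fun h => h.1, fun h => ⟨h, le_normalizerIn hQ, fun x => le_normalizerIn hQ (α x).2,
    (Q.subtype.comp α.toMonoidHom).comp (Subgroup.inclusion he), restrict_mem F h he, fun x => rfl, ?_⟩⟩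
  rw [map_subgroupOf_eq_iff _ le_sup_right]
  exact ⟨fun x => (α _).2, fun y hy => ⟨α.symm ⟨y, hy⟩, congrArg Subtype.val (α.apply_symm_apply ⟨y, hy⟩)⟩⟩

theorem normalizerSystem_constrained (hS : IsPGroup p S) (hF : F.IsSaturated p) (hQn : F.IsFullyNormalized Q)
    (hQc : F.IsCentric Q) (hE : F.IsNormalizerSystem Q E) :
    E.IsSaturated p ∧ CentricNormal E Q :=
  ⟨normalizerSystem_saturated hS hF hQn E hE, normalizerSystem_isNormal hQn.1 hE,
    normalizerSystem_centric hE hQc (le_normalizerIn hQn.1)⟩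

variable {G : Type v} [Group G] {ι : S →* G}

/-- In a model, `O_p` is the image of a normal centric subgroup exactly when that subgroup is radical. -/
theorem model_pCore_eq_iff (hM : F.IsModel p G ι) (hQ : CentricNormal F Q) :
    Cfsg.pCore p G = (Q.subgroupOf S).map ι ↔ F.IsRadical p Q := by
  haveI := hM.1
  haveI := finite_of_le (S := S) hQ.le
  obtain ⟨D⟩ := exists_actionData hM hQ
  have hS : IsPGroup p S := by
    obtain ⟨T, hT⟩ := hM.2.2.1
    exact (hT ▸ T.2 : IsPGroup p ι.range).of_equiv (MonoidHom.ofInjective hM.2.1.1).symm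
  set A := F.autGroup Q with hA
  have hmap : ((Q.subgroupOf S).map ι).map (A.subtype.comp D.pi) = Inn Q := by
    ext a
    constructor
    · rintro ⟨_, ⟨q, hq, rfl⟩, rfl⟩
      refine ⟨⟨q, hq⟩, ?_⟩
      show _ = ((D.pi (ι q) : A) : MulAut Q)
      rw [D.pi_inc]
      exact MulEquiv.ext fun r => Subtype.ext (actQ_apply hQ q r).symm
    · rintro ⟨q, rfl⟩
      refine ⟨_, ⟨⟨q, hQ.le q.2⟩, q.2, rfl⟩, ?_⟩
      show ((D.pi (ι _) : A) : MulAut Q) = _
      rw [D.pi_inc]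
      exact MulEquiv.ext fun r => Subtype.ext (actQ_apply hQ _ r)
  have hker : D.pi.ker ≤ (Q.subgroupOf S).map ι := by
    rw [D.ker]
    rintro _ ⟨_, ⟨z, rfl⟩, rfl⟩
    exact ⟨zQInc hQ z, z.2.1, rfl⟩
  have hQle : (Q.subgroupOf S).map ι ≤ Cfsg.pCore p G := by
    refine le_sSup ⟨⟨?_⟩, (hS.to_subgroup (Q.subgroupOf S)).map ι⟩
    rintro _ ⟨q, hq, rfl⟩ g
    exact ⟨⟨_, hQ.le ((D.pi g : MulAut Q) ⟨q, hq⟩).2⟩, ((D.pi g : MulAut Q) ⟨q, hq⟩).2, (D.conj g ⟨q, hq⟩).symm⟩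
  haveI := Cfsg.Agent.FiniteGroup.pCore_normal (G := G) p
  haveI := Cfsg.Agent.FiniteGroup.pCore_normal (G := A) p
  have hup : (Cfsg.pCore p G).map D.pi ≤ Cfsg.pCore p A :=
    le_sSup ⟨Subgroup.Normal.map inferInstance _ D.surj, (Cfsg.Agent.FiniteGroup.pCore_isPGroup (G := G) p).map _⟩
  constructor
  · intro h
    refine ⟨hQ.le, le_antisymm ?_ ?_⟩
    · rw [← hmap, ← Subgroup.map_map _ A.subtype D.pi]
      refine Subgroup.map_mono fun a ha => ?_
      obtain ⟨g, rfl⟩ := D.surj a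
      refine ⟨g, h ▸ ?_, rfl⟩
      refine (le_sSup ⟨inferInstance, ?_⟩ : (Cfsg.pCore p A).comap D.pi ≤ Cfsg.pCore p G) ha
      exact (Cfsg.Agent.FiniteGroup.pCore_isPGroup (G := A) p).comap_of_ker_isPGroup _
        (((hS.to_subgroup (Q.subgroupOf S)).map ι).to_le hker)
    · rw [← hmap, ← Subgroup.map_map _ A.subtype D.pi, h.symm]
      exact Subgroup.map_mono hup
  · intro h
    refine le_antisymm (fun g hg => ?_) hQle
    have h1 : ((D.pi g : A) : MulAut Q) ∈ Inn Q := h.2 ▸ ⟨D.pi g, hup ⟨g, hg, rfl⟩, rfl⟩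
    rw [← hmap] at h1
    obtain ⟨g', hg', hge⟩ := h1
    have h2 : g'⁻¹ * g ∈ (Q.subgroupOf S).map ι := hker (by
      rw [MonoidHom.mem_ker, map_mul, map_inv, show D.pi g' = D.pi g from Subtype.ext hge, inv_mul_cancel])
    rw [← mul_inv_cancel_left g' g]
    exact Subgroup.mul_mem _ hg' h2

/-- A model of the maps normalizing `B` and `A ≤ B` embeds into a model of the normalizer system of a conjugate
of `B`. -/
theorem exists_model_overgroup (hS : IsPGroup p S) (hF : F.IsSaturated p) {A B T : Subgroup Ω} (hAB : A ≤ B)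
    (hBT : B ≤ T) (hTS : T ≤ S) (hBc : F.IsCentric B) (hTA : T ≤ Subgroup.normalizer (A : Set Ω))
    (hTB : T ≤ Subgroup.normalizer (B : Set Ω)) (M : FusionSystem T)
    (hM : ∀ (X : Subgroup Ω) (φ : X →* Ω), φ ∈ M.Hom X ↔ X ≤ T ∧ (∀ x, φ x ∈ T) ∧
      ∃ ψ ∈ F.Hom (X ⊔ B), (∀ x : X, ψ (Subgroup.inclusion le_sup_left x) = φ x) ∧
        (B.subgroupOf (X ⊔ B)).map ψ = B ∧ (A.subgroupOf (X ⊔ B)).map ψ = A)
    (hmax : ∀ (X : Subgroup Ω) (θ : B →* Ω), θ ∈ F.Hom B → X ≤ S → X ≤ Subgroup.normalizer (θ.range : Set Ω) →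
      X ≤ Subgroup.normalizer ((A.subgroupOf B).map θ : Set Ω) → Nat.card X ≤ Nat.card T)
    {L : Type v} [Group L] {κ : T →* L} (hL : M.IsModel p L κ) :
    ∃ B' : Subgroup Ω, F.IsFullyNormalized B' ∧ F.IsConj B B' ∧
      ∀ E' : FusionSystem (normalizerIn S B'), F.IsNormalizerSystem B' E' →
        ∃ (L' : Type u) (_ : Group L') (κ' : normalizerIn S B' →* L'), E'.IsModel p L' κ' ∧
          ∃ f : L →* L', Function.Injective f := by
  classical
  obtain ⟨B', hBB', hB'⟩ := exists_fullyNormalized F hBc.1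
  refine ⟨B', hB', hBB', fun E' hE' => ?_⟩
  have hB'c := isCentric_isConj hBc hBB'
  obtain ⟨hE's, hE'Q⟩ := normalizerSystem_constrained hS hF hB' hB'c hE'
  haveI : Finite (normalizerIn S B') := finite_of_le (normalizerIn_le S B')
  have hNp : IsPGroup p (normalizerIn S B') := hS.to_le (normalizerIn_le S B')
  obtain ⟨L', _, κ', hL'⟩ := exists_model hNp hE's hE'Q
  refine ⟨L', inferInstance, κ', hL', ?_⟩
  haveI := hL'.1
  obtain ⟨D⟩ := exists_actionData hL' hE'Q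
  obtain ⟨α₀, hα₀, hα₀N, hα₀B⟩ := exists_normalizer_map_fullyNormalized hS hF hB' hBB'
  have hTN : T ≤ normalizerIn S B := fun t ht => ⟨hTS ht, hTB ht⟩
  set α := α₀.comp (Subgroup.inclusion hTN) with hα
  have hαF : α ∈ F.Hom T := restrict_mem F hα₀ hTN
  have hαB : ∀ y : Ω, y ∈ B' ↔ ∃ b : B, α (Subgroup.inclusion hBT b) = y := fun y => by
    rw [← hα₀B]
    constructor
    · rintro ⟨b, hb, rfl⟩; exact ⟨⟨b, hb⟩, rfl⟩
    · rintro ⟨b, rfl⟩; exact ⟨_, b.2, rfl⟩
  haveI := finite_of_le (S := S) hTS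
  set j : T →* L' := κ'.comp (α.codRestrict (normalizerIn S B') fun t => hα₀N _) with hj
  have hjinj : Function.Injective j := fun a b h =>
    F.injective_of_mem hαF (congrArg Subtype.val (hL'.2.1.1 h))
  set K : Subgroup L' := Subgroup.normalizer (((A.subgroupOf T).map j : Subgroup L') : Set L') with hK
  have hjK : ∀ t, j t ∈ K := fun t => mem_normalizer_of_conj_mem _ (by
    rintro _ ⟨a, ha, rfl⟩
    exact ⟨t * a * t⁻¹, (Subgroup.mem_normalizer_iff.1 (hTA t.2) _).1 ha, by simp⟩) (by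
    rintro _ ⟨a, ha, rfl⟩
    refine ⟨t⁻¹ * a * t, ?_, by simp⟩
    have h1 := (Subgroup.mem_normalizer_iff.1 ((Subgroup.normalizer (A : Set Ω)).inv_mem (hTA t.2)) _).1 ha
    simpa [Subgroup.mem_subgroupOf] using h1)
  set jK : T →* K := j.codRestrict K hjK
  have hjKinj : Function.Injective jK := fun a b h => hjinj (congrArg Subtype.val h)
  -- conjugations on the image of `B`
  have hBimg : ∀ (g : L') (b : T), (b : Ω) ∈ B → ∃ b' : T, (b' : Ω) ∈ B ∧ j b' = g * j b * g⁻¹ := fun g b hb => by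
    have hm : α b ∈ B' := (hαB _).2 ⟨⟨b, hb⟩, rfl⟩
    obtain ⟨q', hq', hqe⟩ := model_conj_mem hL' hE'Q.normal g (q := ⟨α b, hα₀N _⟩) hm
    obtain ⟨b', hb'⟩ := (hαB _).1 hq'
    refine ⟨Subgroup.inclusion hBT b', b'.2, ?_⟩
    refine Eq.trans ?_ hqe
    exact congrArg κ' (Subtype.ext hb')
  obtain ⟨Xs, hXs⟩ := IsPGroup.exists_le_sylow (G := K) (P := jK.range)
    ((hS.to_le hTS).of_surjective jK.rangeRestrict jK.rangeRestrict_surjective)
  have hSyl : (Xs : Subgroup K) = jK.range := by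
    symm
    refine Subgroup.eq_of_le_of_card_ge hXs ?_
    obtain ⟨T', hT'⟩ := hL'.2.2.1
    obtain ⟨Y, hY⟩ := (Xs.2.map K.subtype).exists_le_sylow
    obtain ⟨g, hg⟩ := MulAction.exists_smul_eq L' Y T'
    set X₁ : Subgroup L' := ((Xs : Subgroup K).map K.subtype).map (MulAut.conj g).toMonoidHom with hX₁
    have hX₁le : X₁ ≤ κ'.range := by
      rw [← hT', ← hg, Sylow.coe_subgroup_smul]
      exact Subgroup.map_mono hY
    set X := (X₁.comap κ').map (normalizerIn S B').subtype with hX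
    have hmem : ∀ b : B, ∃ y : normalizerIn S B', (y : Ω) ∈ B' ∧
        κ' y = g * j (Subgroup.inclusion hBT b) * g⁻¹ := fun b =>
      model_conj_mem hL' hE'Q.normal g (q := ⟨α (Subgroup.inclusion hBT b), hα₀N _⟩) ((hαB _).2 ⟨b, rfl⟩)
    choose y hyB hy using hmem
    let θ : B →* Ω := MonoidHom.mk' (fun b => (y b : Ω)) fun a b => by
      rw [← Subgroup.coe_mul]
      refine congrArg Subtype.val (hL'.2.1.1 ?_)
      rw [map_mul, hy, hy, hy, map_mul, map_mul]
      group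
    have hθ : θ ∈ F.Hom B := by
      -- conjugation by `g` on `B'` after `α`
      have hg' : ∀ b' : B', ∃ y' : normalizerIn S B', (y' : Ω) ∈ B' ∧
          κ' y' = g * κ' ⟨b', hE'Q.le b'.2⟩ * g⁻¹ := fun b' =>
        model_conj_mem hL' hE'Q.normal g (q := ⟨b', hE'Q.le b'.2⟩) b'.2
      choose y' hy'B hy' using hg'
      let c : B' →* Ω := MonoidHom.mk' (fun b' => (y' b' : Ω)) fun a b => by
        rw [← Subgroup.coe_mul]
        refine congrArg Subtype.val (hL'.2.1.1 ?_)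
        rw [map_mul, hy', hy', hy', show (⟨((a * b : B') : Ω), hE'Q.le (a * b).2⟩ : normalizerIn S B') =
          ⟨a, hE'Q.le a.2⟩ * ⟨b, hE'Q.le b.2⟩ from rfl, map_mul]
        group
      have hc : c ∈ E'.Hom B' := (hL'.2.1.2 B' hE'Q.le c fun b' => hE'Q.le (hy'B b')).2 ⟨g, hy'⟩
      rw [hE'] at hc
      refine hom_congr F (F.comp_mem (restrict_mem F hαF hBT) hc.1 fun b => (hαB _).2 ⟨b, rfl⟩) fun b => ?_
      refine congrArg Subtype.val (hL'.2.1.1 ?_ : y b = y' ⟨α (Subgroup.inclusion hBT b), (hαB _).2 ⟨b, rfl⟩⟩)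
      rw [hy, hy']; rfl
    have hXθ : ∀ x : X, ∃ x' : normalizerIn S B', (x' : Ω) = x ∧ ∃ k ∈ K, κ' x' = g * k * g⁻¹ := fun x => by
      obtain ⟨x', hx', hxe⟩ := x.2
      obtain ⟨k, ⟨k', -, rfl⟩, hke⟩ := hx'
      exact ⟨x', hxe, k', k'.2, hke.symm⟩
    have hcard : Nat.card Xs = Nat.card X := by
      rw [Nat.card_congr (Subgroup.equivMapOfInjective _ _ (normalizerIn S B').subtype_injective).toEquiv.symm,
        Nat.card_congr (Subgroup.equivMapOfInjective (X₁.comap κ') κ' hL'.2.1.1).toEquiv,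
        Subgroup.map_comap_eq, inf_eq_right.2 hX₁le,
        Nat.card_congr (Subgroup.equivMapOfInjective _ _ (MulAut.conj g).injective).toEquiv.symm,
        Nat.card_congr (Subgroup.equivMapOfInjective _ _ K.subtype_injective).toEquiv.symm]
    rw [← Nat.card_congr (MonoidHom.ofInjective hjKinj).toEquiv]
    refine hcard.trans_le (hmax X θ hθ ((Subgroup.map_subtype_le _).trans (normalizerIn_le S B')) ?_ ?_)
    · have hr : θ.range = B' := by
        haveI := finite_of_le (S := S) hB'.1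
        refine Subgroup.eq_of_le_of_card_ge ?_ ?_
        · rintro _ ⟨b, rfl⟩; exact hyB b
        · rw [← isConj_card hBB', ← isConj_card ⟨θ, hθ, rfl⟩]
      rw [hr]
      exact (Subgroup.map_subtype_le _).trans inf_le_right
    · have key : ∀ x ∈ X, ∀ v ∈ (A.subgroupOf B).map θ, x * v * x⁻¹ ∈ (A.subgroupOf B).map θ := by
        rintro x hx _ ⟨a, ha, rfl⟩
        obtain ⟨x', hxe, k, hk, hke⟩ := hXθ ⟨x, hx⟩
        obtain ⟨a', ha', hae⟩ := (Subgroup.mem_normalizer_iff.1 hk (j (Subgroup.inclusion hBT a))).1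
          ⟨_, ha, rfl⟩
        refine ⟨⟨a', hAB ha'⟩, ha', ?_⟩
        have : y ⟨a', hAB ha'⟩ = x' * y a * x'⁻¹ := hL'.2.1.1 (by
          rw [map_mul, map_mul, map_inv, hy, hy, hke,
            show Subgroup.inclusion hBT (⟨(a' : Ω), hAB ha'⟩ : B) = a' from rfl, hae]
          group)
        show (y _ : Ω) = x * y a * x⁻¹
        rw [this, ← show (x' : Ω) = x from hxe]
        simp
      exact fun x hx => mem_normalizer_of_conj_mem x (key x hx) fun v hv => by
        simpa using key x⁻¹ (X.inv_mem hx) v hv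
  -- `K` is a model of `M`
  have hKM : M.IsModel p K jK := by
    refine ⟨inferInstance, ⟨hjKinj, fun P hP φ hφ => ⟨fun hm => ?_, ?_⟩⟩, ⟨Xs, hSyl⟩, ?_⟩
    · obtain ⟨-, -, ψ, hψ, hψP, hψB, hψA⟩ := (hM P φ).1 hm
      have hPB : P ⊔ B ≤ T := sup_le hP hBT
      have hψB' := (map_subgroupOf_eq_iff ψ le_sup_right).1 hψB
      have hψT : ∀ x, ψ x ∈ T := apply_mem_of_sup ψ (fun x => by rw [hψP]; exact hφ x) fun x => hBT (hψB'.1 x)
      set αP := α.comp (Subgroup.inclusion hPB) with hαP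
      have hαPF : αP ∈ F.Hom (P ⊔ B) := restrict_mem F hαF hPB
      obtain ⟨β, hβ, -, hβ1, -⟩ := exists_inv F hαPF
      have hB'le : B' ≤ αP.range := fun z hz => by
        obtain ⟨b, hb⟩ := (hαB z).1 hz
        exact ⟨Subgroup.inclusion le_sup_right b, hb⟩
      have hβv : ∀ z, β z ∈ P ⊔ B := by
        rintro ⟨_, x, rfl⟩; exact (congrArg (· ∈ P ⊔ B) (hβ1 x ⟨x, rfl⟩)).mpr x.2
      have hχ : ((α.comp (Subgroup.inclusion (le_refl T))).comp ((ψ.comp (β.codRestrict (P ⊔ B) hβv)).codRestrict T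
          fun z => hψT _)) ∈ F.Hom αP.range :=
        F.comp_mem (F.comp_mem hβ hψ hβv) (restrict_mem F hαF le_rfl) fun z => hψT _
      set χ := (α.comp (Subgroup.inclusion (le_refl T))).comp ((ψ.comp (β.codRestrict (P ⊔ B) hβv)).codRestrict T
          fun z => hψT _) with hχdef
      have hχv : ∀ x : (P ⊔ B : Subgroup Ω), χ ⟨αP x, x, rfl⟩ = α ⟨ψ x, hψT x⟩ := fun x => by
        show α _ = α _
        congr 1
        refine Subtype.ext (congrArg ψ (Subtype.ext ?_))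
        exact hβ1 x _
      have hχN : ∀ z, χ z ∈ normalizerIn S B' := fun z => hα₀N _
      have hχE : χ ∈ E'.Hom αP.range := by
        rw [hE']
        refine ⟨hχ, ?_, hχN, χ.comp (Subgroup.inclusion (sup_le le_rfl hB'le)), restrict_mem F hχ _,
          fun x => rfl, ?_⟩
        · rintro _ ⟨x, rfl⟩; exact hα₀N _
        · rw [map_subgroupOf_eq_iff _ le_sup_right]
          refine ⟨fun z => ?_, fun z hz => ?_⟩
          · obtain ⟨b, hb⟩ := (hαB z).1 z.2
            refine (hαB _).2 ⟨⟨_, hψB'.1 b⟩, ?_⟩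
            refine ((hχv (Subgroup.inclusion le_sup_right b)).symm.trans ?_)
            exact congrArg χ (Subtype.ext hb)
          · obtain ⟨b, hb⟩ := (hαB z).1 hz
            obtain ⟨b₀, hb₀⟩ := hψB'.2 b b.2
            refine ⟨⟨α (Subgroup.inclusion hBT b₀), (hαB _).2 ⟨b₀, rfl⟩⟩, ?_⟩
            refine ((hχv (Subgroup.inclusion le_sup_right b₀)).trans ?_)
            rw [← hb]
            exact congrArg α (Subtype.ext hb₀)
      obtain ⟨g, hg⟩ := (hL'.2.1.2 _ (hom_le E' hχE) χ hχN).1 hχE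
      have hgv : ∀ x : (P ⊔ B : Subgroup Ω), j ⟨ψ x, hψT x⟩ = g * j ⟨x, hPB x.2⟩ * g⁻¹ := fun x => by
        refine Eq.trans (congrArg κ' (Subtype.ext ?_)) (hg ⟨αP x, x, rfl⟩)
        exact (hχv x).symm
      have hψA' := (map_subgroupOf_eq_iff ψ (hAB.trans le_sup_right)).1 hψA
      have hgK : g ∈ K := mem_normalizer_of_conj_mem g (by
        rintro _ ⟨a, ha, rfl⟩
        refine ⟨⟨_, hψT ⟨a, Subgroup.mem_sup_right (hAB ha)⟩⟩, hψA'.1 ⟨a, ha⟩, hgv ⟨a, _⟩⟩) (by
        rintro _ ⟨a, ha, rfl⟩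
        obtain ⟨a₀, ha₀⟩ := hψA'.2 a ha
        refine ⟨⟨a₀, hBT (hAB a₀.2)⟩, a₀.2, ?_⟩
        have h := hgv ⟨a₀, Subgroup.mem_sup_right (hAB a₀.2)⟩
        rw [show (⟨ψ ⟨(a₀ : Ω), Subgroup.mem_sup_right (hAB a₀.2)⟩, hψT _⟩ : T) = a from Subtype.ext ha₀] at h
        rw [h]; group)
      refine ⟨⟨g, hgK⟩, fun x => Subtype.ext ?_⟩
      refine Eq.trans (congrArg j (Subtype.ext (hψP x).symm)) (hgv (Subgroup.inclusion le_sup_left x))
    · rintro ⟨⟨g, hgK⟩, hg⟩
      have hPB : P ⊔ B ≤ T := sup_le hP hBT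
      have hmem : ∀ x : (P ⊔ B : Subgroup Ω), ∃ t : T, j t = g * j ⟨x, hPB x.2⟩ * g⁻¹ := by
        have h : P ⊔ B ≤ ((j.range.comap (MulAut.conj g).toMonoidHom).comap j).map T.subtype := by
          refine sup_le (fun x hx => ⟨⟨x, hP hx⟩, ⟨_, congrArg Subtype.val (hg ⟨x, hx⟩)⟩, rfl⟩) fun x hx => ?_
          obtain ⟨b', -, hb'⟩ := hBimg g ⟨x, hBT hx⟩ hx
          exact ⟨⟨x, hBT hx⟩, ⟨b', hb'⟩, rfl⟩
        intro x
        obtain ⟨x', ⟨t, ht⟩, hxe⟩ := h x.2
        exact ⟨t, by rw [show (⟨(x : Ω), hPB x.2⟩ : T) = x' from Subtype.ext hxe.symm]; exact ht⟩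
      choose t ht using hmem
      let ψ : (P ⊔ B : Subgroup Ω) →* Ω := MonoidHom.mk' (fun x => (t x : Ω)) fun a b => by
        rw [← Subgroup.coe_mul]
        refine congrArg Subtype.val (hjinj ?_)
        rw [map_mul, ht, ht, ht, show (⟨((a * b : (P ⊔ B : Subgroup Ω)) : Ω), hPB (a * b).2⟩ : T) =
          ⟨a, hPB a.2⟩ * ⟨b, hPB b.2⟩ from rfl, map_mul]
        group
      have hψv : ∀ x, ψ x = t x := fun x => rfl
      -- `ψ` is a map of the system
      have hψF : ψ ∈ F.Hom (P ⊔ B) := by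
        set αP := α.comp (Subgroup.inclusion hPB) with hαP
        have hαPF : αP ∈ F.Hom (P ⊔ B) := restrict_mem F hαF hPB
        obtain ⟨β, hβ, -, hβ1, -⟩ := exists_inv F hαF
        have hrle : αP.range ≤ normalizerIn S B' := by rintro _ ⟨x, rfl⟩; exact hα₀N _
        have hval : ∀ z : αP.range, ∃ t' : T, j t' = g * κ' ⟨z, hrle z.2⟩ * g⁻¹ := by
          rintro ⟨_, x, rfl⟩; exact ⟨t x, ht x⟩
        choose t' ht' using hval
        let χ : αP.range →* Ω := MonoidHom.mk' (fun z => α (t' z)) fun a b => by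
          rw [← map_mul]
          refine congrArg α (hjinj ?_)
          rw [map_mul, ht', ht', ht', show (⟨((a * b : αP.range) : Ω), hrle (a * b).2⟩ : normalizerIn S B') =
            ⟨a, hrle a.2⟩ * ⟨b, hrle b.2⟩ from rfl, map_mul]
          group
        have hχ : χ ∈ E'.Hom αP.range := (hL'.2.1.2 _ hrle χ fun z => hα₀N _).2 ⟨g, fun z => ht' z⟩
        rw [hE'] at hχ
        refine hom_congr F (F.comp_mem (F.comp_mem hαPF hχ.1 fun x => ⟨x, rfl⟩) hβ fun x => ⟨t' _, rfl⟩) fun x => ?_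
        show (t x : Ω) = β ⟨α (t' ⟨αP x, x, rfl⟩), _⟩
        exact ((congrArg (fun u => β ⟨α u, ⟨u, rfl⟩⟩)
          (hjinj ((ht' _).trans (ht x).symm) : t' ⟨αP x, x, rfl⟩ = t x)).trans (hβ1 (t x) _)).symm
      refine (hM P φ).2 ⟨hP, hφ, ψ, hψF, fun x => ?_, ?_, ?_⟩
      · show (t _ : Ω) = φ x
        refine congrArg Subtype.val (hjinj (a₂ := ⟨φ x, hφ x⟩) ((ht _).trans ?_))
        exact (congrArg Subtype.val (hg x)).symm
      · rw [map_subgroupOf_eq_iff _ le_sup_right]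
        refine ⟨fun b => ?_, fun z hz => ?_⟩
        · obtain ⟨b', hb', hbe⟩ := hBimg g ⟨b, hBT b.2⟩ b.2
          rw [hψv, hjinj ((ht (Subgroup.inclusion le_sup_right b)).trans hbe.symm)]
          exact hb'
        · obtain ⟨b', hb', hbe⟩ := hBimg g⁻¹ ⟨z, hBT hz⟩ hz
          refine ⟨⟨b', hb'⟩, ?_⟩
          rw [hψv]
          refine congrArg Subtype.val (hjinj (a₂ := ⟨z, hBT hz⟩) ((ht _).trans ?_))
          show g * j b' * g⁻¹ = _
          rw [hbe]; group
      · rw [map_subgroupOf_eq_iff _ (hAB.trans le_sup_right)]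
        refine ⟨fun a => ?_, fun z hz => ?_⟩
        · obtain ⟨a', ha', hae⟩ := (Subgroup.mem_normalizer_iff.1 hgK (j ⟨a, hBT (hAB a.2)⟩)).1 ⟨_, a.2, rfl⟩
          rw [hψv, hjinj ((ht (Subgroup.inclusion (hAB.trans le_sup_right) a)).trans hae.symm)]
          exact ha'
        · obtain ⟨a', ha', hae⟩ := (Subgroup.mem_normalizer_iff.1 (K.inv_mem hgK) (j ⟨z, hBT (hAB hz)⟩)).1 ⟨_, hz, rfl⟩
          refine ⟨⟨a', ha'⟩, ?_⟩
          rw [hψv]
          refine congrArg Subtype.val (hjinj (a₂ := ⟨z, hBT (hAB hz)⟩) ((ht _).trans ?_))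
          show g * j a' * g⁻¹ = _
          rw [hae]; group
    · set BK : Subgroup K := (B.subgroupOf T).map jK
      have hBKn : BK.Normal := ⟨by
        rintro _ ⟨b, hb, rfl⟩ g
        obtain ⟨b', hb', hbe⟩ := hBimg g b hb
        exact ⟨b', hb', Subtype.ext hbe⟩⟩
      have hle : BK ≤ Cfsg.pCore p K := le_sSup ⟨hBKn, ((hS.to_le hTS).to_subgroup (B.subgroupOf T)).map jK⟩
      intro c hc
      refine hle ?_
      have hpi : D.pi (c : L') = 1 := Subtype.ext (MulEquiv.ext fun q => Subtype.ext (by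
        obtain ⟨b, hb⟩ := (hαB q).1 q.2
        have hm := Subgroup.mem_centralizer_iff.1 hc (jK (Subgroup.inclusion hBT b)) (hle ⟨_, b.2, rfl⟩)
        have h := D.conj (c : L') q
        have hq : κ' ⟨q, hE'Q.le q.2⟩ = j (Subgroup.inclusion hBT b) := congrArg κ' (Subtype.ext hb.symm)
        rw [hq, ← show j (Subgroup.inclusion hBT b) * (c : L') = c * j (Subgroup.inclusion hBT b) from
          congrArg Subtype.val hm, mul_inv_cancel_right, ← hq] at h
        exact (congrArg Subtype.val (hL'.2.1.1 h)).symm))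
      obtain ⟨z, hz⟩ := exists_zEmb D hpi
      obtain ⟨b, hb⟩ := (hαB z).1 z.2.1
      exact ⟨Subgroup.inclusion hBT b, b.2, Subtype.ext ((congrArg κ' (Subtype.ext hb)).trans hz)⟩
  obtain ⟨φ, -⟩ := model_unique hL hKM (model_centricNormal hKM)
  exact ⟨K.subtype.comp φ.toMonoidHom, K.subtype_injective.comp φ.injective⟩

end Cfsg.Agent.FusionSys
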