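import Cfsg.Agent.Lib.Fusion.CentralLiftSystem
import Cfsg.Agent.Lib.Fusion.ModelLocal

/-!
# The generated subsystem has no surplus

A normal subgroup of the automizer containing the residual and the carrier's automorphisms and meeting the
surplus in inner automorphisms contains the automizer of the generated subsystem.
-/

set_option autoImplicit false

namespace Cfsg.Agent.FusionSys.CentLift

open Cfsg Cfsg.FusionSystem

variable {Ω : Type*} [Group Ω] {S : Subgroup Ω} {Ω' : Type*} [Group Ω'] {S' T' : Subgroup Ω'}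
  {F : FusionSystem S} {p : ℕ} {Z : Subgroup Ω} {θ : S →* Ω'} {Fb : FusionSystem S'} {E : FusionSystem T'}
  {P : Subgroup Ω}

/-- The restriction of a map to `P` is an automorphism in `W`. -/
def ResIn (W : Subgroup (MulAut P)) {U : Subgroup Ω} (φ : U →* Ω) : Prop :=
  ∃ a ∈ W, ∀ (x : P) (hx : (x : Ω) ∈ U), φ ⟨x, hx⟩ = ((a x : P) : Ω)

theorem resIn_comp {W : Subgroup (MulAut P)} {U V : Subgroup Ω} {φ : U →* Ω} {ψ : V →* Ω} (hPV : P ≤ V)
    (hφ : ResIn W φ) (hψ : ResIn W ψ) (hv : ∀ x, φ x ∈ V) : ResIn W (ψ.comp (φ.codRestrict V hv)) := by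
  obtain ⟨a, ha, hae⟩ := hφ
  obtain ⟨b, hb, hbe⟩ := hψ
  exact ⟨b * a, W.mul_mem hb ha, fun x hx =>
    (apply_congr ψ (hae x hx) _ (hPV (a x).2)).trans (hbe (a x) _)⟩

theorem resIn_restrict {W : Subgroup (MulAut P)} {U V : Subgroup Ω} {φ : V →* Ω} (hUV : U ≤ V)
    (hφ : ResIn W φ) : ResIn W (φ.comp (Subgroup.inclusion hUV)) :=
  let ⟨a, ha, hae⟩ := hφ
  ⟨a, ha, fun x hx => hae x (hUV hx)⟩

variable (h : Setup p F Z θ Fb E)

/-- A normal subgroup of the automizer containing the residual and the carrier's automorphisms and meeting the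
surplus in inner automorphisms. -/
structure IsKer (P : Subgroup Ω) (W : Subgroup (MulAut P)) : Prop where
  le : W ≤ (dSys h).autGroup P
  conj : ∀ a ∈ (dSys h).autGroup P, ∀ w ∈ W, a * w * a⁻¹ ∈ W
  ind : autInducedBy (preimageAlong θ T') P ≤ W
  res : ∀ a ∈ pResidual p ↥((dSys h).autGroup P), (a : MulAut P) ∈ W
  inf : ∀ w ∈ W, w ∈ kerSub h P → w ∈ Inn P

/-- Surplus automorphisms of the subsystem on larger members are inner. -/
def InnAbove (P : Subgroup Ω) : Prop :=
  ∀ U, InH θ Z E U → Nat.card P < Nat.card U → ∀ k ∈ (xSys h).autGroup U, k ∈ kerSub h U → k ∈ Inn U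

/-- All lifts of a map of `E` restrict into `W`. -/
def GoodLift (W : Subgroup (MulAut P)) {U' : Subgroup Ω'} (φ' : U' →* Ω') : Prop :=
  ∀ φ ∈ (xSys h).Hom (preimageAlong θ U'), InducedAlong θ φ φ' → ResIn W φ

variable [Finite S] [hp : Fact p.Prime]

include h

theorem Setup.exists_ker (hP : InH θ Z E P) (hfn : E.IsFullyNormalized (imageAlong θ P)) :
    ∃ W, IsKer h P W := by
  obtain ⟨hZP, hPT, -⟩ := id hP
  have hPS := h.inH_le hP
  have hT' := h.im_le_T hPT
  haveI := finite_of_le (S := S) hPS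
  haveI := h.finiteT'
  haveI := finite_of_le (S := T') hT'
  set A := (dSys h).autGroup P
  set R := autInducedBy (preimageAlong θ T') P
  have hAF : A ≤ F.autGroup P := autGroup_mono h.d_le P
  have hRA : R ≤ A := autInducedBy_le_autGroup _ hPT
  have hKA : kerSub h P ≤ A := h.ker_le_d hPT
  haveI : ((kerSub h P).subgroupOf A).Normal := ⟨fun k hk a => h.ker_conj (hAF a.2) hk⟩
  have hbar : R.subgroupOf A ⊔ (kerSub h P).subgroupOf A ≤
      (autInducedBy T' (imageAlong θ P)).comap (barHom h hPT) := by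
    refine sup_le (fun r hr => ?_) fun k hk => ?_
    · obtain ⟨u, hu, hue⟩ := (mem_autInducedBy_iff _).1 (Subgroup.mem_subgroupOf.1 hr)
      obtain ⟨huS, huT⟩ := (mem_preimageAlong _ _ _).1 hu
      obtain ⟨β, hβ, hβe⟩ := exists_conjAut (K := T') (P := imageAlong θ P) huT
        (h.normalizer_im huS hPS (mem_normalizer_of_autInduced hue))
      rw [Subgroup.mem_comap, isBar_unique hPS (h.barHom_spec hPT r) (h.bar_conj huS _ β hPS hue hβe)]
      exact hβ
    · rw [Subgroup.mem_comap, (h.barHom_eq_one hPT k).2 hk]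
      exact Subgroup.one_mem _
  obtain ⟨W₀, hW₀n, hRW, hresW, hWK⟩ := exists_fusion_kernel (p := p) ((kerSub h P).subgroupOf A)
    ((Inn P).subgroupOf A) (R.subgroupOf A) (isPGroup_subgroupOf (h.ker_isPGroup hPS))
    (fun a ha b hb => Subtype.ext (h.ker_comm hPS ha hb))
    (fun g k hk => h.stable hP g g.2 k hk)
    (fun r hr => h.inn_of_ker hP hr.2 hr.1)
    (by rw [← Subgroup.subgroupOf_sup hRA hKA]; exact (h.syl_d hZP hPT hfn).2.2)
    (by
      intro g r hr hg
      obtain ⟨u, hu, hue⟩ := (mem_autInducedBy_iff _).1 (Subgroup.mem_subgroupOf.1 hr)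
      obtain ⟨huS, huT⟩ := (mem_preimageAlong _ _ _).1 hu
      obtain ⟨v, hv, hve⟩ := (mem_autInducedBy_iff _).1 (hbar hg)
      set P' := imageAlong θ P
      set n := barHom h hPT g with hn
      have hnE : n ∈ E.autGroup P' := (h.barHom_range hZP hPT).le ⟨g, rfl⟩
      have huN : θ ⟨u, huS⟩ ∈ Subgroup.normalizer (P' : Set Ω') :=
        h.normalizer_im huS hPS (mem_normalizer_of_autInduced hue)
      obtain ⟨β, hβ, hβe⟩ := exists_conjAut (K := T') (P := P') huT huN
      have hbr : barHom h hPT r = β := isBar_unique hPS (h.barHom_spec hPT r) (h.bar_conj huS _ β hPS hue hβe)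
      have hhom := (mem_autGroup_iff E hT' n).1 hnE
      have hext : θ ⟨u, huS⟩ ∈ extender T' P' (P'.subtype.comp n.toMonoidHom) := by
        refine Subgroup.subset_closure ⟨huT, huN, v, hv, fun x hx => ?_⟩
        have h1 := hve (n x)
        rw [map_mul, map_mul, map_inv, hbr, ← hn, MulAut.mul_apply, MulAut.mul_apply, MulAut.inv_apply_self] at h1
        refine Eq.trans ?_ h1
        exact congrArg (fun z : P' => ((n z : P') : Ω')) (Subtype.ext (hβe x).symm)
      obtain ⟨ψ', hψ', hψe⟩ := (fullyNormalized_receptive h.pgrpT' h.eSat hfn).2 P' _ hhom (equivHom_range n)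
      obtain ⟨φ, hφ, hi⟩ := h.d_lift hψ'
      have hPE : P' ≤ extender T' P' (P'.subtype.comp n.toMonoidHom) := le_extender E hhom
      have hle : P ≤ preimageAlong θ (extender T' P' (P'.subtype.comp n.toMonoidHom)) :=
        (h.pre_im hZP hPS).ge.trans (pre_mono hPE)
      have hul : u ∈ preimageAlong θ (extender T' P' (P'.subtype.comp n.toMonoidHom)) :=
        (mem_preimageAlong _ _ _).2 ⟨huS, hext⟩
      have hφP := restrict_mem (dSys h) hφ hle
      have hval : ∀ x : P, θ ⟨φ (Subgroup.inclusion hle x), hom_apply_mem F hφP.1 x⟩ =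
          ((n ⟨θ ⟨x, hPS x.2⟩, mem_im _ x.2⟩ : P') : Ω') := fun x =>
        (ind_apply hi (Subgroup.inclusion hle x) (hPS x.2) (hPE (mem_im _ x.2)) (hom_apply_mem F hφP.1 x)).symm.trans
          (hψe _ (mem_im _ x.2) _)
      have hrP : (φ.comp (Subgroup.inclusion hle)).range = P := by
        refine Subgroup.eq_of_le_of_card_ge ?_ (isConj_card ⟨_, hφP, rfl⟩).le
        rintro _ ⟨x, rfl⟩
        refine h.mem_of_im hZP (hom_apply_mem F hφP.1 x) ?_
        show θ ⟨φ (Subgroup.inclusion hle x), hom_apply_mem F hφP.1 x⟩ ∈ _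
        rw [hval]
        exact (n _).2
      obtain ⟨a, ha, hae⟩ := exists_autGroup_of_range (dSys h) hφP hrP
      have hba : barHom h hPT ⟨a, ha⟩ = n := by
        refine isBar_unique hPS (h.barHom_spec hPT _) fun x hx hm hax => ?_
        exact (hval x).symm.trans (congrArg θ (Subtype.ext (hae x).symm))
      have hk₀ : (g : MulAut P)⁻¹ * a ∈ kerSub h P :=
        (h.barHom_eq_one hPT (g⁻¹ * ⟨a, ha⟩)).1 (by rw [map_mul, map_inv, hba, hn, inv_mul_cancel])
      have h1 : a * r * a⁻¹ ∈ R := by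
        refine (mem_autInducedBy_iff _).2 ⟨φ ⟨u, hul⟩, hom_apply_mem (dSys h) hφ _, fun y => ?_⟩
        obtain ⟨x, rfl⟩ := a.surjective y
        show (((a : MulAut P) ((r : MulAut P) (a⁻¹ (a x))) : P) : Ω) = _
        rw [MulAut.inv_apply_self, hae, hae]
        have hm : u * (x : Ω) * u⁻¹ ∈ preimageAlong θ (extender T' P' (P'.subtype.comp n.toMonoidHom)) :=
          Subgroup.mul_mem _ (Subgroup.mul_mem _ hul (hle x.2)) (Subgroup.inv_mem _ hul)
        exact (apply_congr φ (hue x) _ hm).trans (map_apply_conj φ hul (hle x.2) hm)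
      have h2 : ((r : MulAut P))⁻¹ * ((g : MulAut P)⁻¹ * a) * r * ((g : MulAut P)⁻¹ * a)⁻¹ ∈ Inn P := by
        simpa using h.stable hP _ (A.inv_mem r.2) _ hk₀
      have hstab := h.stable hP _ (A.inv_mem r.2) _ (Subgroup.inv_mem _ hk₀)
      rw [inv_inv, inv_inv] at hstab
      have h3 := (Cfsg.innNormal _).conj_mem _ hstab a
      show (g : MulAut P) * r * (g : MulAut P)⁻¹ ∈ R
      have e : (g : MulAut P) * r * (g : MulAut P)⁻¹ = (a * r * a⁻¹) *
          (a * ((r : MulAut P)⁻¹ * ((g : MulAut P)⁻¹ * a)⁻¹ * r * ((g : MulAut P)⁻¹ * a)) * a⁻¹) := by group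
      rw [e]
      exact R.mul_mem h1 (inn_le_autInducedBy hPT h3))
  refine ⟨W₀.map A.subtype, Subgroup.map_subtype_le W₀, ?_, fun r hr => ⟨⟨r, hRA hr⟩, hRW hr, rfl⟩,
    fun a ha => ⟨a, hresW ha, rfl⟩, ?_⟩
  · rintro a ha _ ⟨w, hw, rfl⟩
    exact ⟨_, hW₀n.conj_mem w hw ⟨a, ha⟩, rfl⟩
  · rintro _ ⟨w, hw, rfl⟩ hk
    exact hWK ⟨hw, hk⟩

/-- An element of the automizer with a power of order prime to `p` in `W` lies in `W`. -/
theorem Setup.ker_mem_of_pow {W : Subgroup (MulAut P)} (hW : IsKer h P W) (hPT : P ≤ preimageAlong θ T')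
    {a : MulAut P} (ha : a ∈ (dSys h).autGroup P) {e : ℕ} (hco : Nat.Coprime e p) (he : a ^ e ∈ W) : a ∈ W := by
  haveI := finite_of_le (S := S) (hPT.trans (le_preimageAlong θ T'))
  set A := (dSys h).autGroup P
  haveI : (W.subgroupOf A).Normal := ⟨fun w hw b => hW.conj b b.2 w hw⟩
  have hpg := Cfsg.Agent.PBasic.quotient_isPGroup_of_pResidual_le (p := p) (N := W.subgroupOf A)
    fun x hx => hW.res x hx
  obtain ⟨j, hj⟩ := hpg (QuotientGroup.mk' _ ⟨a, ha⟩)
  have h1 : (QuotientGroup.mk' (W.subgroupOf A)) ⟨a, ha⟩ ^ e = 1 := by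
    rw [← map_pow]; exact (QuotientGroup.eq_one_iff _).2 he
  have h2 := (QuotientGroup.eq_one_iff _).1 (eq_one_of_coprime_pow (Nat.Coprime.pow_right j hco) h1 hj)
  exact h2

section goodLift

variable {W : Subgroup (MulAut P)} (hP : InH θ Z E P) (hW : IsKer h P W) (hA : InnAbove h P)

include hP hW hA

/-- It suffices that one lift restricts into `W`. -/
theorem Setup.good_of_one {U' : Subgroup Ω'} (hU'T : U' ≤ T') (hlt : imageAlong θ P < U')
    (hn : U' ≤ Subgroup.normalizer (imageAlong θ P : Set Ω')) {φ' : U' →* Ω'}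
    {φ : preimageAlong θ U' →* Ω} (hφ : φ ∈ (xSys h).Hom (preimageAlong θ U')) (hi : InducedAlong θ φ φ')
    (hres : ResIn W φ) : GoodLift h W φ' := by
  intro ψ hψ hi'
  have hPS := h.inH_le hP
  haveI := finite_of_le (S := S) (le_preimageAlong θ U')
  obtain ⟨a, ha, hae⟩ := hres
  obtain ⟨k, hk, hkK, hkv⟩ := h.x_diff (h.zpre U') hφ hψ (h.congr_of_induced hi hi')
  have hPU : P ≤ preimageAlong θ U' := (h.pre_im hP.1 hPS).ge.trans (pre_mono hlt.le)
  have hcard : Nat.card P < Nat.card (preimageAlong θ U') := by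
    refine lt_of_le_of_ne (Subgroup.card_le_of_le hPU) fun he => hlt.not_ge fun y hy => ?_
    obtain ⟨s, rfl⟩ := h.hran.ge (h.sc.1 (hU'T hy))
    have hs : (s : Ω) ∈ P := (Subgroup.eq_of_le_of_card_ge hPU he.ge).ge
      ((mem_preimageAlong _ _ _).2 ⟨s.2, hy⟩)
    exact mem_im _ hs
  obtain ⟨u, hu⟩ := hA _ (h.inH_mono hP hPU (pre_mono hU'T)) hcard k hk hkK
  obtain ⟨huS, huU⟩ := (mem_preimageAlong _ _ _).1 u.2
  have hun := h.normalizer_of_im hP.1 hPS huS (hn huU)
  obtain ⟨c, hc, hce⟩ := exists_conjAut (K := preimageAlong θ T') (P := P) (pre_mono hU'T u.2) hun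
  refine ⟨a * c, W.mul_mem ha (hW.ind hc), fun x hx => ?_⟩
  rw [hkv, ← hu]
  exact (apply_congr φ (hce x).symm _ (hPU (c x).2)).trans (hae (c x) _)

omit hA in
/-- The conjugations restrict into `W`. -/
theorem Setup.resIn_conj {u : Ω} (hu : u ∈ preimageAlong θ T') (hn : u ∈ Subgroup.normalizer (P : Set Ω))
    (U : Subgroup Ω) : ResIn W (conjHom U u) := by
  obtain ⟨c, hc, hce⟩ := exists_conjAut (K := preimageAlong θ T') hu hn
  exact ⟨c, hW.ind hc, fun x _ => (hce x).symm⟩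

/-- The maps of the normalizer of the image whose lifts restrict into `W`. -/
def nSys (hT' : imageAlong θ P ≤ T') : FusionSystem (normalizerIn T' (imageAlong θ P)) where
  Hom R := {φ' | φ' ∈ (normSystem E hT').Hom R ∧ (¬ R ≤ imageAlong θ P →
    ∃ ψ' ∈ E.Hom (R ⊔ imageAlong θ P), (∀ (x : Ω') (hx : x ∈ R) (hx' : x ∈ R ⊔ imageAlong θ P),
      ψ' ⟨x, hx'⟩ = φ' ⟨x, hx⟩) ∧ (∀ (x : Ω') (hx : x ∈ R ⊔ imageAlong θ P), x ∈ imageAlong θ P →
      ψ' ⟨x, hx⟩ ∈ imageAlong θ P) ∧ GoodLift h W ψ')}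
  le_of_mem h' := (normSystem E hT').le_of_mem h'.1
  injective_of_mem h' := (normSystem E hT').injective_of_mem h'.1
  conj_mem {R g} hR hg := by
    refine ⟨(normSystem E hT').conj_mem hR hg, fun hne => ?_⟩
    have hsup : R ⊔ imageAlong θ P ≤ T' := sup_le (hR.trans inf_le_left) hT'
    refine ⟨_, E.conj_mem hsup hg.1, fun x hx hx' => rfl, fun x hx hxP =>
      (Subgroup.mem_normalizer_iff.1 hg.2 x).1 hxP, ?_⟩
    obtain ⟨u, hue⟩ := h.hran.ge (h.sc.1 hg.1)
    have huT : (u : Ω) ∈ preimageAlong θ T' := (mem_preimageAlong _ _ _).2 ⟨u.2, hue.symm ▸ hg.1⟩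
    refine h.good_of_one hP hW hA hsup (lt_of_le_of_ne le_sup_right fun e => hne (e ▸ le_sup_left))
      (sup_le (hR.trans inf_le_right) Subgroup.le_normalizer) ((xSys h).conj_mem (pre_mono hsup) huT)
      ⟨le_preimageAlong _ _, fun x => S.mul_mem (S.mul_mem u.2 (le_preimageAlong _ _ x.2)) (S.inv_mem u.2),
        fun x => ((mem_preimageAlong _ _ _).1 x.2).2, fun x => ?_⟩
      (h.resIn_conj hP hW huT (h.normalizer_of_im hP.1 (h.inH_le hP) u.2 (hue.symm ▸ hg.2)) _)
    show g * θ _ * g⁻¹ = θ _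
    rw [← hue, ← map_inv, ← map_mul, ← map_mul]
    rfl
  comp_mem {R Q φ' χ'} := by
    rintro ⟨hφ', hφg⟩ ⟨hχ', hχg⟩ hv
    refine ⟨(normSystem E hT').comp_mem hφ' hχ' hv, fun hne => ?_⟩
    obtain ⟨α, hα, hαe, hαP, hαg⟩ := hφg hne
    have hαv : ∀ x, α x ∈ Q ⊔ imageAlong θ P := apply_mem_of_sup α
      (fun x => by rw [show α (Subgroup.inclusion le_sup_left x) = φ' x from hαe x x.2 _]
                   exact Subgroup.mem_sup_left (hv x))
      fun x => Subgroup.mem_sup_right (hαP x _ x.2)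
    haveI := h.finiteT'
    haveI := finite_of_le (S := T') hT'
    haveI := finite_of_le (S := T') (hom_le E hα)
    have hQ : ¬ Q ≤ imageAlong θ P := fun hQ => hne <| by
      have hle : α.range ≤ imageAlong θ P := by
        rintro _ ⟨x, rfl⟩; exact (sup_le hQ le_rfl) (hαv x)
      have heq : imageAlong θ P = R ⊔ imageAlong θ P := Subgroup.eq_of_le_of_card_ge le_sup_right
        ((isConj_card ⟨α, hα, rfl⟩).le.trans (Subgroup.card_le_of_le hle))
      exact heq ▸ le_sup_left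
    obtain ⟨β, hβ, hβe, hβP, hβg⟩ := hχg hQ
    refine ⟨_, E.comp_mem hα hβ hαv, fun x hx hx' => ?_, fun x hx hxP => hβP _ _ (hαP x hx hxP), ?_⟩
    · exact (apply_congr β (hαe x hx hx') _ (Subgroup.mem_sup_left (hv ⟨x, hx⟩))).trans (hβe _ (hv ⟨x, hx⟩) _)
    obtain ⟨a, ha, hai⟩ := h.x_lift hα
    obtain ⟨b, hb, hbi⟩ := h.x_lift hβ
    have hv' : ∀ x, a x ∈ preimageAlong θ (Q ⊔ imageAlong θ P) := fun x =>
      (mem_preimageAlong _ _ _).2 ⟨hai.2.1 x, by
        rw [← ind_apply hai x (hai.1 x.2) (ind_mem hai x _) (hai.2.1 x)]; exact hαv _⟩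
    refine h.good_of_one hP hW hA (hom_le E hα) (lt_of_le_of_ne le_sup_right fun e => hne (e ▸ le_sup_left))
      (sup_le ((hom_le (normSystem E hT') hφ').trans inf_le_right) Subgroup.le_normalizer)
      ((xSys h).comp_mem ha hb hv')
      ⟨hai.1, fun x => hom_apply_mem F (h.x_le _ hb) _, fun x => ((mem_preimageAlong _ _ _).1 x.2).2,
        fun x => ?_⟩
      (resIn_comp ((h.pre_im hP.1 (h.inH_le hP)).ge.trans (pre_mono le_sup_right)) (hαg a ha hai)
        (hβg b hb hbi) hv')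
    refine (apply_congr β (ind_apply hai x (hai.1 x.2) (ind_mem hai x _) (hai.2.1 x)) _
      (ind_mem hbi ⟨a x, hv' x⟩ _)).trans ?_
    exact ind_apply hbi ⟨a x, hv' x⟩ _ _ _
  inv_mem {R φ'} := by
    rintro ⟨hφ', hφg⟩
    obtain ⟨χ', hχ', hχe⟩ := (normSystem E hT').inv_mem hφ'
    refine ⟨χ', ⟨hχ', fun hne => ?_⟩, hχe⟩
    haveI := h.finiteT'
    haveI := finite_of_le (S := T') hT'
    have hR : ¬ R ≤ imageAlong θ P := fun hR => hne <| by
      obtain ⟨-, -, -, ψ, -, h1, h2⟩ := hφ'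
      rw [map_subgroupOf_eq_iff _ le_sup_right] at h2
      rintro _ ⟨x, rfl⟩
      rw [← h1 x]
      exact h2.1 ⟨x, hR x.2⟩
    obtain ⟨α, hα, hαe, hαP, hαg⟩ := hφg hR
    obtain ⟨β, hβ, -, hβe, -⟩ := exists_inv E hα
    have hαr : (α.comp (Subgroup.inclusion le_sup_right)).range = imageAlong θ P := by
      refine Subgroup.eq_of_le_of_card_ge ?_ (isConj_card ⟨_, restrict_mem E hα le_sup_right, rfl⟩).le
      rintro _ ⟨x, rfl⟩
      exact hαP x _ x.2
    have hle : φ'.range ⊔ imageAlong θ P ≤ α.range := by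
      refine sup_le ?_ fun y hy => ?_
      · rintro _ ⟨x, rfl⟩; exact ⟨_, hαe x x.2 (Subgroup.mem_sup_left x.2)⟩
      · obtain ⟨x, rfl⟩ := hαr.ge hy; exact ⟨_, rfl⟩
    refine ⟨_, restrict_mem E hβ hle, ?_, ?_, ?_⟩
    · rintro y ⟨x, rfl⟩ hy'
      refine (apply_congr β (hαe x x.2 (Subgroup.mem_sup_left x.2)).symm _ ⟨_, rfl⟩).trans ?_
      exact (hβe _ _).trans (hχe x).symm
    · intro y hy hyP
      obtain ⟨x, rfl⟩ := hαr.ge hyP
      refine Eq.mpr (congrArg (· ∈ imageAlong θ P) ?_) x.2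
      exact hβe (Subgroup.inclusion le_sup_right x) _
    obtain ⟨a, ha, hai⟩ := h.x_lift hα
    obtain ⟨b, hb, -, hbe, -⟩ := exists_inv (xSys h) ha
    have hra := h.lift_range (h.x_le _ ha) ((hom_le E hα).trans h.sc.1) hai
    have hle' : preimageAlong θ (φ'.range ⊔ imageAlong θ P) ≤ a.range := (pre_mono hle).trans hra.ge
    refine h.good_of_one hP hW hA ((sup_le ((range_le (normSystem E hT') hφ').trans inf_le_left) hT'))
      (lt_of_le_of_ne le_sup_right fun e => hne (e ▸ le_sup_left))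
      (sup_le ((range_le (normSystem E hT') hφ').trans inf_le_right) Subgroup.le_normalizer)
      (restrict_mem _ hb hle') ⟨le_preimageAlong _ _, fun x => hom_apply_mem F (h.x_le _ hb) _,
        fun x => ((mem_preimageAlong _ _ _).1 x.2).2, ?_⟩ ?_
    · rintro ⟨y, hy⟩
      obtain ⟨x, rfl⟩ := hle' hy
      refine (apply_congr β (ind_apply hai x (hai.1 x.2) (ind_mem hai x _) (hai.2.1 x)).symm _ ⟨_, rfl⟩).trans ?_
      exact (hβe _ _).trans (congrArg θ (Subtype.ext (hbe x _).symm))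
    · obtain ⟨w, hw, hwe⟩ := hαg a ha hai
      have hPU : P ≤ preimageAlong θ (R ⊔ imageAlong θ P) :=
        (h.pre_im hP.1 (h.inH_le hP)).ge.trans (pre_mono le_sup_right)
      refine ⟨w⁻¹, W.inv_mem hw, fun x hx => ?_⟩
      have h1 := hwe (w⁻¹ x) (hPU (w⁻¹ x).2)
      rw [MulAut.apply_inv_self] at h1
      exact (apply_congr b h1.symm _ ⟨_, rfl⟩).trans (hbe _ _)

end goodLift

/-- A map of the subsystem fixing `P` on a larger subgroup of its normalizer restricts into `W`. -/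
theorem Setup.resIn_of_fix {W : Subgroup (MulAut P)} (hP : InH θ Z E P) (hW : IsKer h P W) (hA : InnAbove h P)
    (hfn : E.IsFullyNormalized (imageAlong θ P)) {U : Subgroup Ω} (hPU : P < U)
    (hU : U ≤ normalizerIn (preimageAlong θ T') P) {φ : U →* Ω} (hφ : φ ∈ (xSys h).Hom U)
    (hfix : ∀ (x : P) (hx : (x : Ω) ∈ U), φ ⟨x, hx⟩ ∈ P) : ResIn W φ := by
  obtain ⟨hZP, hPT, -⟩ := id hP
  have hPS := h.inH_le hP
  have hUT : U ≤ preimageAlong θ T' := hU.trans inf_le_left
  have hUS : U ≤ S := hUT.trans (le_preimageAlong _ _)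
  have hT' := h.im_le_T hPT
  haveI := h.finiteT'
  haveI := finite_of_le (S := S) hPS
  set P' := imageAlong θ P
  haveI := finite_of_le (S := T') hT'
  set N' := normalizerIn T' P'
  haveI : Finite N' := finite_of_le (S := T') inf_le_left
  have hN'p : IsPGroup p N' := h.pgrpT'.to_le inf_le_left
  set M := normSystem E hT'
  have hMs : M.IsSaturated p := normalizerSystem_saturated h.pgrpT' h.eSat hfn M (normSystem_spec E hT')
  have hPN : P' ≤ N' := le_normalizerIn hT'
  have hle : M ≤ nSys h hP hW hA hT' := by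
    refine alperin hN'p hMs fun Q hQ => ?_
    obtain ⟨hPQ, hQfn⟩ : P' ≤ Q ∧ M.IsFullyNormalized Q := by
      rcases hQ with rfl | hess
      · haveI : Finite (normalizerIn N' N') := finite_of_le (S := N') (normalizerIn_le _ _)
        exact ⟨hPN, le_rfl, fun R hR => Subgroup.card_le_of_le
          ((normalizerIn_le _ _).trans (le_normalizerIn le_rfl))⟩
      · exact ⟨isNormal_le_centricRadical hN'p (normalizerSystem_isNormal hT' (normSystem_spec E hT'))
          hess.1 (essential_radical hN'p hMs hess), hess.2.1⟩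
    have hQN := hQfn.1
    have hQT : Q ≤ T' := hQN.trans inf_le_left
    haveI := finite_of_le (S := T') hQT
    obtain ⟨R, hR⟩ := (isSyl_of_fullyAutomized (fullyNormalized_imp hN'p hMs hQfn).2).toSylow
    intro γ hγ
    obtain ⟨r, hr, o, ho, hro⟩ := Subgroup.mem_sup_of_normal_right.1
      ((Cfsg.Agent.PBasic.sylow_sup_pResidual R).ge (Subgroup.mem_top ⟨γ, hγ⟩))
    rw [← show (r : MulAut Q) * (o : MulAut Q) = γ from congrArg Subtype.val hro]
    refine Subgroup.mul_mem _ ?_ ?_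
    · rw [hR, Subgroup.mem_subgroupOf] at hr
      exact autInducedBy_le_autGroup _ hQN hr
    have hcl : pResidual p ↥(M.autGroup Q) ≤
        ((nSys h hP hW hA hT').autGroup Q).subgroupOf (M.autGroup Q) := by
      refine (Subgroup.closure_le _).2 fun c hc => ?_
      have hcM := (mem_autGroup_iff M hQN _).1 c.2
      refine Subgroup.mem_subgroupOf.2 ((mem_autGroup_iff _ hQN _).2 ⟨hcM, fun hne => ?_⟩)
      obtain ⟨hcE, -, -, ψ, hψ, hψ1, hψ2⟩ := id hcM
      rw [map_subgroupOf_eq_iff _ le_sup_right] at hψ2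
      have hfixc : ∀ y : Q, (y : Ω') ∈ P' → (((c : MulAut Q) y : Q) : Ω') ∈ P' := fun y hy => by
        have := hψ2.1 ⟨y, hy⟩
        rwa [show Subgroup.inclusion le_sup_right (⟨y, hy⟩ : P') = Subgroup.inclusion le_sup_left y from rfl,
          hψ1] at this
      have hQQ : Q ⊔ P' ≤ Q := sup_le le_rfl hPQ
      refine ⟨_, restrict_mem E hcE hQQ, fun x hx hx' => rfl, fun x hx hxP => hfixc ⟨x, hQQ hx⟩ hxP, ?_⟩
      obtain ⟨l, hl, hli⟩ := h.x_lift hcE
      have hcr : ((Q.subtype.comp (c : MulAut Q).toMonoidHom)).range = Q := equivHom_range (c : MulAut Q)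
      have hlr : l.range = preimageAlong θ Q := by
        rw [h.lift_range (h.x_le _ hl) (hQT.trans h.sc.1) hli, hcr]
      obtain ⟨d, hd, hde⟩ := exists_autGroup_of_range (xSys h) hl hlr
      have hVS : preimageAlong θ Q ≤ S := le_preimageAlong _ _
      haveI := finite_of_le (S := S) hVS
      have hlt : P' < Q := lt_of_le_of_ne hPQ fun e => hne e.ge
      have hPV : P ≤ preimageAlong θ Q := (h.pre_im hZP hPS).ge.trans (pre_mono hlt.le)
      have hpw : ∀ (n : ℕ) (x : preimageAlong θ Q) (hm : θ ⟨x, hVS x.2⟩ ∈ Q),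
          ((((c : MulAut Q) ^ n) ⟨_, hm⟩ : Q) : Ω') = θ ⟨((d ^ n) x : preimageAlong θ Q), hVS ((d ^ n) x).2⟩ := by
        intro n
        induction n with
        | zero => exact fun x hm => rfl
        | succ n ih =>
          intro x hm
          have hm' : θ ⟨(d x : preimageAlong θ Q), hVS (d x).2⟩ ∈ Q :=
            ((mem_preimageAlong _ _ _).1 (d x).2).2
          have h1 : (c : MulAut Q) ⟨_, hm⟩ = ⟨_, hm'⟩ := Subtype.ext
            ((ind_apply hli x (hVS x.2) hm (hli.2.1 x)).trans (congrArg θ (Subtype.ext (hde x).symm)))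
          simp only [pow_succ, MulAut.mul_apply, h1]
          exact ih (d x) hm'
      set e := orderOf c with he
      have hdK : d ^ e ∈ kerSub h (preimageAlong θ Q) := by
        refine ⟨autGroup_mono h.x_le _ (Subgroup.pow_mem _ hd e), fun x => ?_⟩
        have hm : θ ⟨x, hVS x.2⟩ ∈ Q := ((mem_preimageAlong _ _ _).1 x.2).2
        have h1 := hpw e x hm
        rw [← Subgroup.coe_pow, he, pow_orderOf_eq_one] at h1
        rw [Subgroup.coe_mul, Subgroup.coe_inv, ← h.theta_eq (hVS x.2) (hVS ((d ^ e) x).2)]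
        exact h1
      have hcard : Nat.card P < Nat.card (preimageAlong θ Q) := by
        refine lt_of_le_of_ne (Subgroup.card_le_of_le hPV) fun heq => hlt.not_ge fun y hy => ?_
        obtain ⟨s, rfl⟩ := h.hran.ge (h.sc.1 (hQT hy))
        exact mem_im _ ((Subgroup.eq_of_le_of_card_ge hPV heq.ge).ge ((mem_preimageAlong _ _ _).2 ⟨s.2, hy⟩))
      obtain ⟨u, hu⟩ := hA _ (h.inH_mono hP hPV (pre_mono hQT)) hcard _ (Subgroup.pow_mem _ hd e) hdK
      have hdfix : ∀ x : preimageAlong θ Q, (x : Ω) ∈ P → ((d x : preimageAlong θ Q) : Ω) ∈ P := by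
        intro x hx
        refine h.mem_of_im hZP (hVS (d x).2) ?_
        have := hfixc ⟨_, ((mem_preimageAlong _ _ _).1 x.2).2⟩ (mem_im (hVS x.2) hx)
        rwa [show (((c : MulAut Q) ⟨θ ⟨x, hVS x.2⟩, ((mem_preimageAlong _ _ _).1 x.2).2⟩ : Q) : Ω') =
          θ ⟨(d x : preimageAlong θ Q), hVS (d x).2⟩ from
          (ind_apply hli x (hVS x.2) _ (hli.2.1 x)).trans (congrArg θ (Subtype.ext (hde x).symm))] at this
      have hlP := restrict_mem (xSys h) hl hPV
      have hrP : (l.comp (Subgroup.inclusion hPV)).range = P := by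
        refine Subgroup.eq_of_le_of_card_ge ?_ (isConj_card ⟨_, hlP, rfl⟩).le
        rintro _ ⟨x, rfl⟩
        show l (Subgroup.inclusion hPV x) ∈ P
        rw [← hde]
        exact hdfix _ x.2
      obtain ⟨a, ha, hae⟩ := exists_autGroup_of_range (xSys h) hlP hrP
      have haV : ∀ x : P, Subgroup.inclusion hPV (a x) = d (Subgroup.inclusion hPV x) := fun x =>
        Subtype.ext ((hae x).trans (hde _).symm)
      have hpw' : ∀ (n : ℕ) (x : P), Subgroup.inclusion hPV ((a ^ n) x) = (d ^ n) (Subgroup.inclusion hPV x) := by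
        intro n
        induction n with
        | zero => exact fun x => rfl
        | succ n ih => intro x; simp only [pow_succ, MulAut.mul_apply, ih, haV]
      obtain ⟨huS, huQ⟩ := (mem_preimageAlong _ _ _).1 u.2
      have hun : (u : Ω) ∈ Subgroup.normalizer (P : Set Ω) :=
        h.normalizer_of_im hZP hPS huS (hQN huQ).2
      obtain ⟨i, hi, hie⟩ := exists_conjAut (K := preimageAlong θ T') (P := P) (pre_mono hQT u.2) hun
      have hae' : a ^ e = i := MulEquiv.ext fun x => Subtype.ext <| by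
        rw [hie]
        have := congrArg Subtype.val (hpw' e x)
        rw [← hu] at this
        exact this
      have haW : a ∈ W := h.ker_mem_of_pow hW hPT (autGroup_mono h.x_le_d P ha)
        (he ▸ hc) (hae' ▸ hW.ind hi)
      refine h.good_of_one hP hW hA (sup_le hQT hT') (lt_of_lt_of_le hlt le_sup_left)
        (sup_le (hQN.trans inf_le_right) Subgroup.le_normalizer)
        (restrict_mem _ hl (pre_mono hQQ)) ⟨le_preimageAlong _ _, fun x => hli.2.1 _,
          fun x => ((mem_preimageAlong _ _ _).1 x.2).2, fun x => hli.2.2.2 (Subgroup.inclusion (pre_mono hQQ) x)⟩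
        ⟨a, haW, fun x hx => (hae x).symm⟩
    exact hcl ho
  set U' := imageAlong θ U with hU'
  obtain ⟨φ', hφ', hi⟩ : ∃ φ' ∈ E.Hom U', InducedAlong θ φ φ' := h.d_induced (h.x_le_d U hφ)
  have hP'U : P' ≤ U' := im_mono hPU.le
  have hφP := restrict_mem (xSys h) hφ hPU.le
  have hrP : (φ.comp (Subgroup.inclusion hPU.le)).range = P := by
    refine Subgroup.eq_of_le_of_card_ge ?_ (isConj_card ⟨_, hφP, rfl⟩).le
    rintro _ ⟨x, rfl⟩
    exact hfix x _
  have hUn : U' ≤ N' := fun y hy => by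
    obtain ⟨x, hx, hxU, rfl⟩ := mem_imageAlong.1 hy
    exact ⟨h.im_le_T hUT hy, h.normalizer_im hx hPS (hU hxU).2⟩
  have hUU : U' ⊔ P' ≤ U' := sup_le le_rfl hP'U
  have hv : ∀ y, φ' y ∈ N' := by
    rintro ⟨y, hy⟩
    obtain ⟨x, hx, hxU, rfl⟩ := mem_imageAlong.1 hy
    have hφx : φ ⟨x, hxU⟩ ∈ S := hom_apply_mem F (h.x_le U hφ) _
    rw [ind_apply hi ⟨x, hxU⟩ hx hy hφx]
    exact ⟨((mem_preimageAlong _ _ _).1 (hom_apply_mem (xSys h) hφ _)).2,
      h.normalizer_im hφx hPS (apply_mem_normalizer φ hPU.le hrP ⟨x, hxU⟩ (hU hxU).2)⟩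
  have hfix' : ∀ (y : Ω') (hy : y ∈ U'), y ∈ P' → φ' ⟨y, hy⟩ ∈ P' := by
    intro y hy hyP
    obtain ⟨x, hx, hxP, rfl⟩ := mem_imageAlong.1 hyP
    rw [ind_apply hi ⟨x, hPU.le hxP⟩ hx hy (hom_apply_mem F (h.x_le U hφ) _)]
    exact mem_im _ (hfix ⟨x, hxP⟩ _)
  have hφM : φ' ∈ M.Hom U' := by
    refine ⟨hφ', hUn, hv, _, restrict_mem E hφ' hUU, fun x => rfl, ?_⟩
    rw [← range_restrict _ (le_sup_right : P' ≤ U' ⊔ P')]
    refine Subgroup.eq_of_le_of_card_ge ?_
      (isConj_card ⟨_, restrict_mem E (restrict_mem E hφ' hUU) le_sup_right, rfl⟩).le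
    rintro _ ⟨x, rfl⟩
    exact hfix' x _ x.2
  obtain ⟨ψ', -, hψe, -, hg⟩ := (hle U' hφM).2 fun hle' => hPU.not_ge fun x hx =>
    h.mem_of_im hZP (hUS hx) (hle' (mem_im (hUS hx) hx))
  have hUp : preimageAlong θ (U' ⊔ P') ≤ U := by
    rw [sup_eq_left.2 hP'U, h.pre_im (hZP.trans hPU.le) hUS]
  obtain ⟨a, ha, hae⟩ := hg (φ.comp (Subgroup.inclusion hUp)) (restrict_mem _ hφ hUp)
    ⟨le_preimageAlong _ _, fun x => hi.2.1 _, fun x => ((mem_preimageAlong _ _ _).1 x.2).2, fun x => by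
      have hxU' : θ ⟨x, le_preimageAlong θ _ x.2⟩ ∈ U' := hUU ((mem_preimageAlong _ _ _).1 x.2).2
      exact (hψe _ hxU' _).trans (ind_apply hi (Subgroup.inclusion hUp x) _ hxU' _)⟩
  exact ⟨a, ha, fun x hx => hae x ((h.pre_im (hZP.trans hPU.le) hUS).ge.trans (pre_mono le_sup_left) hx)⟩

end Cfsg.Agent.FusionSys.CentLift
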