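import Cfsg.Agent.Lib.Fusion.CentralLiftKernel

/-!
# The automizers of the generated subsystem meet the surplus in inner automorphisms

Transporting automorphisms to a fully normalized member along maps between normalizers.
-/

set_option autoImplicit false

namespace Cfsg.Agent.FusionSys.CentLift

open Cfsg Cfsg.FusionSystem

variable {Ω : Type*} [Group Ω] {S : Subgroup Ω} {Ω' : Type*} [Group Ω'] {S' T' : Subgroup Ω'}
  {F : FusionSystem S} {p : ℕ} {Z : Subgroup Ω} {θ : S →* Ω'} {Fb : FusionSystem S'} {E : FusionSystem T'}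
  (h : Setup p F Z θ Fb E)

/-- `e` is the restriction of a map of the subsystem between the normalizers. -/
def IsArrow {a P : Subgroup Ω} (e : a ≃* P) : Prop :=
  ∃ χ ∈ (xSys h).Hom (normalizerIn (preimageAlong θ T') a),
    (∀ x, χ x ∈ normalizerIn (preimageAlong θ T') P) ∧
    ∀ (x : a) (hx : (x : Ω) ∈ normalizerIn (preimageAlong θ T') a), χ ⟨x, hx⟩ = e x

variable [Finite S] [hp : Fact p.Prime]

include h

theorem Setup.exists_arrow {P a : Subgroup Ω} (hP : InH θ Z E P) (hfn : E.IsFullyNormalized (imageAlong θ P))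
    (hca : (xSys h).IsConj a P) : ∃ e : a ≃* P, IsArrow h e := by
  obtain ⟨hZP, hPT, -⟩ := id hP
  have hPS := h.inH_le hP
  obtain ⟨φ, hφ, hr⟩ := id hca
  have haT := hom_le _ hφ
  have haS : a ≤ S := haT.trans (le_preimageAlong _ _)
  haveI := finite_of_le (S := S) haS
  haveI := finite_of_le (S := S) hPS
  obtain ⟨φ', hφ', hi⟩ := h.d_induced (h.x_le_d a hφ)
  have hconj : E.IsConj (imageAlong θ a) (imageAlong θ P) := ⟨φ', hφ', by rw [ind_range hi, hr]⟩
  haveI := h.finiteT'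
  obtain ⟨ψ', hψ', hψv, hψr⟩ := exists_normalizer_map_fullyNormalized h.pgrpT' h.eSat hfn hconj
  obtain ⟨l, hl, hli⟩ := h.x_lift hψ'
  have hle : normalizerIn (preimageAlong θ T') a ≤ preimageAlong θ (normalizerIn T' (imageAlong θ a)) := by
    intro u hu
    obtain ⟨huS, huT⟩ := (mem_preimageAlong _ _ _).1 hu.1
    exact (mem_preimageAlong _ _ _).2 ⟨huS, huT, h.normalizer_im huS haS hu.2⟩
  have haN : a ≤ normalizerIn (preimageAlong θ T') a := le_normalizerIn haT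
  set χ := l.comp (Subgroup.inclusion hle)
  have hχ : χ ∈ (xSys h).Hom (normalizerIn (preimageAlong θ T') a) := restrict_mem _ hl hle
  have hval : ∀ x, θ ⟨χ x, hom_apply_mem F (h.x_le _ hχ) x⟩ ∈ normalizerIn T' (imageAlong θ P) := fun x => by
    show θ ⟨l (Subgroup.inclusion hle x), _⟩ ∈ _
    rw [← ind_apply hli (Subgroup.inclusion hle x) (hli.1 (hle x.2)) (ind_mem hli _ _)]
    exact hψv _
  have hv : ∀ x, χ x ∈ normalizerIn (preimageAlong θ T') P := fun x =>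
    ⟨hom_apply_mem _ hχ x, h.normalizer_of_im hZP hPS (hom_apply_mem F (h.x_le _ hχ) x) (hval x).2⟩
  have hχa : χ.comp (Subgroup.inclusion haN) ∈ (xSys h).Hom a := restrict_mem _ hχ haN
  have hr' : (χ.comp (Subgroup.inclusion haN)).range = P := by
    refine Subgroup.eq_of_le_of_card_ge ?_
      ((isConj_card hca).symm.trans (isConj_card ⟨_, hχa, rfl⟩)).le
    rintro _ ⟨x, rfl⟩
    refine h.mem_of_im hZP (hom_apply_mem F (h.x_le _ hχa) x) ?_
    show θ ⟨l (Subgroup.inclusion hle (Subgroup.inclusion haN x)), _⟩ ∈ _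
    rw [← ind_apply hli (Subgroup.inclusion hle (Subgroup.inclusion haN x)) (haS x.2) (ind_mem hli _ _)]
    exact hψr.le ⟨⟨_, _⟩, mem_im (haS x.2) x.2, rfl⟩
  exact ⟨mapEquiv _ hχa hr', χ, hχ, hv, fun x hx => rfl⟩

variable {P : Subgroup Ω} {W : Subgroup (MulAut P)} (hP : InH θ Z E P) (hW : IsKer h P W) (hA : InnAbove h P)
  (hfn : E.IsFullyNormalized (imageAlong θ P)) (e : ∀ a, (xSys h).IsConj a P → (a ≃* P))
  (he : ∀ a ha, IsArrow h (e a ha))

omit h [Finite S] hp in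
/-- The transported map is an automorphism in `W`. -/
def TransIn (h : Setup p F Z θ Fb E) (W : Subgroup (MulAut P)) (e : ∀ a, (xSys h).IsConj a P → (a ≃* P))
    {R : Subgroup Ω} (φ : R →* Ω) : Prop :=
  ∀ (a b : Subgroup Ω) (ha : a ≤ R) (hca : (xSys h).IsConj a P) (hcb : (xSys h).IsConj b P),
    (φ.comp (Subgroup.inclusion ha)).range = b →
      ∃ w ∈ W, ∀ (x : a) (hb : φ (Subgroup.inclusion ha x) ∈ b), e b hcb ⟨_, hb⟩ = w (e a hca x)

include hP hW hA hfn he

theorem Setup.trans_step {a b U : Subgroup Ω} (hca : (xSys h).IsConj a P) (hcb : (xSys h).IsConj b P)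
    (haU : a < U) (hU : U ≤ normalizerIn (preimageAlong θ T') a) {γ : U →* Ω} (hγ : γ ∈ (xSys h).Hom U)
    (hr : (γ.comp (Subgroup.inclusion haU.le)).range = b) :
    ∃ w ∈ W, ∀ (x : a) (hb : γ (Subgroup.inclusion haU.le x) ∈ b), e b hcb ⟨_, hb⟩ = w (e a hca x) := by
  obtain ⟨χa, hχa, hχav, hχae⟩ := he a hca
  obtain ⟨χb, hχb, -, hχbe⟩ := he b hcb
  obtain ⟨χb', hχb', hχbv, hχbe'⟩ := he b hcb
  have hbS : b ≤ S := (hom_le (xSys h) (Classical.choose_spec hcb).1).trans (le_preimageAlong _ _)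
  haveI := finite_of_le (S := S) hbS
  haveI := finite_of_le (S := S) (hU.trans ((normalizerIn_le _ a).trans (le_preimageAlong θ T')))
  have hχ₁ := restrict_mem (xSys h) hχa hU
  set χ₁ := χa.comp (Subgroup.inclusion hU)
  obtain ⟨ι, hι, hιr, h1, -⟩ := exists_inv (xSys h) hχ₁
  have hv1 : ∀ y, ι y ∈ U := fun y => hιr.le ⟨y, rfl⟩
  have h2 := (xSys h).comp_mem hι hγ hv1
  have hv2 : ∀ y, (γ.comp (ι.codRestrict U hv1)) y ∈ normalizerIn (preimageAlong θ T') b := fun y =>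
    ⟨hom_apply_mem _ h2 y, apply_mem_normalizer γ haU.le hr ⟨ι y, hv1 y⟩ (hU (hv1 y)).2⟩
  have h3 := (xSys h).comp_mem h2 hχb' hv2
  have hVN : χ₁.range ≤ normalizerIn (preimageAlong θ T') P := by
    rintro _ ⟨x, rfl⟩; exact hχav _
  have heV : ∀ x : a, χ₁ (Subgroup.inclusion haU.le x) = e a hca x := fun x => hχae x _
  have hPV : P ≤ χ₁.range := fun y hy => ⟨_, (heV ((e a hca).symm ⟨y, hy⟩)).trans (by rw [MulEquiv.apply_symm_apply])⟩
  haveI := finite_of_le (S := S) (h.inH_le hP)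
  haveI := finite_of_le (S := S) (hVN.trans ((normalizerIn_le _ P).trans (le_preimageAlong θ T')))
  have hPV' : P < χ₁.range := by
    refine lt_of_le_of_ne hPV fun he' => haU.ne (Subgroup.eq_of_le_of_card_ge haU.le ?_)
    rw [isConj_card ⟨χ₁, hχ₁, rfl⟩, isConj_card hca]
    exact (congrArg (fun H : Subgroup Ω => Nat.card H) he').ge
  have hkey : ∀ (x : a) (hm : ((e a hca x : P) : Ω) ∈ χ₁.range) (hb : γ (Subgroup.inclusion haU.le x) ∈ b),
      (χb'.comp ((γ.comp (ι.codRestrict U hv1)).codRestrict _ hv2)) ⟨_, hm⟩ = e b hcb ⟨_, hb⟩ := by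
    intro x hm hb
    have hιx : ι ⟨(e a hca x : P), hm⟩ = (x : Ω) :=
      (apply_congr ι (heV x).symm _ ⟨_, rfl⟩).trans (h1 _ _)
    have hγx : γ ⟨ι ⟨(e a hca x : P), hm⟩, hv1 _⟩ = γ (Subgroup.inclusion haU.le x) := apply_congr γ hιx _ _
    have hbN : γ (Subgroup.inclusion haU.le x) ∈ normalizerIn (preimageAlong θ T') b :=
      ⟨hom_apply_mem _ hγ _, Subgroup.le_normalizer hb⟩
    exact (apply_congr χb' hγx _ hbN).trans (hχbe' ⟨_, hb⟩ hbN)
  have hfix : ∀ (y : P) (hy : (y : Ω) ∈ χ₁.range),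
      (χb'.comp ((γ.comp (ι.codRestrict U hv1)).codRestrict _ hv2)) ⟨y, hy⟩ ∈ P := by
    intro y hy
    obtain ⟨x, rfl⟩ := (e a hca).surjective y
    rw [hkey x hy (hr.le ⟨x, rfl⟩)]
    exact (e b hcb _).2
  obtain ⟨w, hw, hwe⟩ := h.resIn_of_fix hP hW hA hfn hPV' hVN h3 hfix
  refine ⟨w, hw, fun x hb => Subtype.ext ?_⟩
  exact (hkey x (hPV (e a hca x).2) hb).symm.trans (hwe _ _)

/-- The maps whose transports to `P` lie in `W`. -/
def ySys : FusionSystem (preimageAlong θ T') where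
  Hom R := {φ | φ ∈ (xSys h).Hom R ∧ TransIn h W e φ}
  le_of_mem h' := (xSys h).le_of_mem h'.1
  injective_of_mem h' := (xSys h).injective_of_mem h'.1
  conj_mem {R g} hR hg := by
    refine ⟨(xSys h).conj_mem hR hg, fun a b ha hca hcb hr => ?_⟩
    have haT := ha.trans hR
    haveI := finite_of_le (S := S) (le_preimageAlong θ T')
    rcases eq_or_lt_of_le haT with rfl | hlt
    · haveI := finite_of_le (S := S) (h.inH_le hP)
      have hbT : b ≤ preimageAlong θ T' := isConj_le_left hcb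
      have hb : b = preimageAlong θ T' :=
        Subgroup.eq_of_le_of_card_ge hbT ((isConj_card hca).trans (isConj_card hcb).symm).le
      subst hb
      obtain ⟨i, hi, hie⟩ := exists_conjAut (K := preimageAlong θ T') (P := P)
        (hP.2.1 (e _ hca ⟨g, hg⟩).2) (Subgroup.le_normalizer (e _ hca ⟨g, hg⟩).2)
      refine ⟨i, hW.ind hi, fun x hb => Subtype.ext ?_⟩
      rw [hie]
      show ((e _ hca (⟨g, hg⟩ * x * (⟨g, hg⟩ : preimageAlong θ T')⁻¹) : P) : Ω) = _
      rw [map_mul, map_mul, map_inv]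
      rfl
    · haveI := finite_of_le (S := preimageAlong θ T') haT
      have hlt' := lt_normalizerIn (h.pgrp.to_le (le_preimageAlong θ T')) hlt
      exact h.trans_step hP hW hA hfn e he hca hcb hlt' le_rfl
        ((xSys h).conj_mem (normalizerIn_le _ _) hg) hr
  comp_mem {R Q φ ψ} hφ hψ hv := by
    refine ⟨(xSys h).comp_mem hφ.1 hψ.1 hv, fun a c ha hca hcc hr => ?_⟩
    set b := (φ.comp (Subgroup.inclusion ha)).range with hb
    have hbQ : b ≤ Q := by rintro _ ⟨x, rfl⟩; exact hv _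
    have hcb : (xSys h).IsConj b P := isConj_trans (isConj_symm ⟨_, restrict_mem _ hφ.1 ha, rfl⟩) hca
    have hr' : (ψ.comp (Subgroup.inclusion hbQ)).range = c := by
      rw [← hr]
      refine le_antisymm ?_ ?_
      · rintro _ ⟨⟨_, x, rfl⟩, rfl⟩; exact ⟨x, rfl⟩
      · rintro _ ⟨x, rfl⟩; exact ⟨⟨_, x, rfl⟩, rfl⟩
    obtain ⟨w, hw, hwe⟩ := hφ.2 a b ha hca hcb rfl
    obtain ⟨v, hv', hve⟩ := hψ.2 b c hbQ hcb hcc hr'
    exact ⟨v * w, W.mul_mem hv' hw, fun x hx =>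
      (hve ⟨_, x, rfl⟩ hx).trans (congrArg v (hwe x ⟨x, rfl⟩))⟩
  inv_mem {R φ} hφ := by
    obtain ⟨ψ, hψ, hψe⟩ := (xSys h).inv_mem hφ.1
    refine ⟨ψ, ⟨hψ, fun a b ha hca hcb hr => ?_⟩, hψe⟩
    have hbR : b ≤ R := by
      rw [← hr]
      rintro _ ⟨x, rfl⟩
      obtain ⟨y, hy⟩ := ha x.2
      refine Eq.mpr (congrArg (· ∈ R) ((apply_congr ψ hy.symm _ ⟨y, rfl⟩).trans (hψe y))) y.2
    have hback : ∀ x : a, ∃ hm : ψ (Subgroup.inclusion ha x) ∈ R, φ ⟨_, hm⟩ = x := fun x => by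
      obtain ⟨y, hy⟩ := ha x.2
      have h1 : ψ (Subgroup.inclusion ha x) = y := (apply_congr ψ hy.symm _ ⟨y, rfl⟩).trans (hψe y)
      exact ⟨h1.symm ▸ y.2, (apply_congr φ h1 _ y.2).trans hy⟩
    have hr' : (φ.comp (Subgroup.inclusion hbR)).range = a := by
      refine le_antisymm ?_ fun x hx => ?_
      · rintro _ ⟨⟨y, hy⟩, rfl⟩
        obtain ⟨x, hx⟩ := hr.ge hy
        obtain ⟨hm, hm'⟩ := hback x
        refine Eq.mpr (congrArg (· ∈ a) ?_) x.2
        exact (apply_congr φ hx.symm _ hm).trans hm'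
      · obtain ⟨hm, hm'⟩ := hback ⟨x, hx⟩
        exact ⟨⟨_, hr.le ⟨⟨x, hx⟩, rfl⟩⟩, hm'⟩
    obtain ⟨w, hw, hwe⟩ := hφ.2 b a hbR hcb hca hr'
    refine ⟨w⁻¹, W.inv_mem hw, fun x hb => ?_⟩
    obtain ⟨hm, hm'⟩ := hback x
    have h1 := hwe ⟨_, hb⟩ (hm'.symm ▸ x.2)
    rw [show (⟨φ (Subgroup.inclusion hbR ⟨_, hb⟩), hm'.symm ▸ x.2⟩ : a) = x from Subtype.ext hm'] at h1
    rw [h1, MulAut.inv_apply_self]

theorem Setup.ySys_genClosed : GenClosed h (ySys h hP hW hA hfn e he) := by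
  intro Q hQ γ hγ
  have hγX := h.x_gen Q hQ γ hγ
  refine (mem_autGroup_iff _ hQ.2.1 _).2 ⟨(mem_autGroup_iff _ hQ.2.1 _).1 hγX, fun a b ha hca hcb hr => ?_⟩
  have hQS := h.inH_le hQ
  haveI := finite_of_le (S := S) hQS
  rcases eq_or_lt_of_le ha with rfl | hlt
  · have hb : b = a := by
      rw [← hr]
      exact equivHom_range (γ : MulAut a)
    subst hb
    obtain ⟨χ, hχ, -, hχe⟩ := he b hca
    have hbN : b ≤ normalizerIn (preimageAlong θ T') b := le_normalizerIn hQ.2.1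
    have hme : equivHom (e b hca) ∈ (xSys h).Hom b :=
      hom_congr _ (restrict_mem _ hχ hbN) fun x => (hχe x _).symm
    have hf : ∀ c : (dSys h).autGroup b,
        ((MulAut.congr (e b hca)).toMonoidHom.comp ((dSys h).autGroup b).subtype) c ∈ (dSys h).autGroup P :=
      fun c => h.d_congr_aut hQ.2.1 hP.2.1 _ (h.x_le b hme) c.2
    have h1 := hW.res _ (Cfsg.Agent.PBasic.map_pResidual_le
      (((MulAut.congr (e b hca)).toMonoidHom.comp ((dSys h).autGroup b).subtype).codRestrict _ hf) ⟨γ, hγ, rfl⟩)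
    refine ⟨_, h1, fun x hb => ?_⟩
    show e b hcb _ = e b hca ((γ : MulAut b) ((e b hca).symm (e b hca x)))
    rw [MulEquiv.symm_apply_apply]
    rfl
  · haveI := finite_of_le (S := Q) hlt.le
    have hlt' := lt_normalizerIn (h.pgrp.to_le hQS) hlt
    exact h.trans_step hP hW hA hfn e he hca hcb hlt' (inf_le_inf_right _ hQ.2.1)
      (restrict_mem _ ((mem_autGroup_iff _ hQ.2.1 _).1 hγX) (normalizerIn_le Q a)) hr

/-- The automizer of the generated subsystem lies in `W`. -/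
theorem Setup.x_aut_le : (xSys h).autGroup P ≤ W := by
  intro α hα
  have hPT := hP.2.1
  have hαY := h.x_min (h.ySys_genClosed hP hW hA hfn e he) P ((mem_autGroup_iff _ hPT α).1 hα)
  have hcP : (xSys h).IsConj P P := isConj_refl _ hPT
  obtain ⟨w, hw, hwe⟩ := hαY.2 P P le_rfl hcP hcP (equivHom_range α)
  obtain ⟨χ, hχ, -, hχe⟩ := he P hcP
  have heA : e P hcP ∈ (dSys h).autGroup P := (mem_autGroup_iff _ hPT _).2 (h.x_le_d P
    (hom_congr _ (restrict_mem _ hχ (le_normalizerIn hPT)) fun x => (hχe x _).symm))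
  have hαw : α = (e P hcP : MulAut P)⁻¹ * w * e P hcP := MulEquiv.ext fun x => by
    show α x = (e P hcP).symm (w (e P hcP x))
    rw [← hwe x (α x).2, MulEquiv.symm_apply_apply]
    rfl
  rw [hαw]
  simpa using hW.conj _ (Subgroup.inv_mem _ heA) w hw

omit hP hW hA hfn he in
/-- Surplus automorphisms of the generated subsystem are inner. -/
theorem Setup.x_inn {P : Subgroup Ω} (hP : InH θ Z E P) :
    ∀ k ∈ (xSys h).autGroup P, k ∈ kerSub h P → k ∈ Inn P := by
  induction hk : Nat.card S - Nat.card P using Nat.strong_induction_on generalizing P with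
  | _ n ih =>
  obtain ⟨hZP, hPT, -⟩ := id hP
  have hPS := h.inH_le hP
  haveI := h.finiteT'
  haveI := finite_of_le (S := S) hPS
  obtain ⟨A', hA', hA'fn⟩ := exists_fullyNormalized E (h.im_le_T hPT)
  obtain ⟨φ', hφ', hr'⟩ := hA'
  obtain ⟨l, hl, hli⟩ := h.x_lift hφ'
  have hA'S : A' ≤ S' := hA'fn.1.trans h.sc.1
  have hlr : l.range = preimageAlong θ A' := by
    rw [h.lift_range (h.x_le _ hl) (h.im_le P) hli, hr']
  have hle : P ≤ preimageAlong θ (imageAlong θ P) := (h.pre_im hZP hPS).ge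
  have hlP := restrict_mem (xSys h) hl hle
  have hrQ : (l.comp (Subgroup.inclusion hle)).range = preimageAlong θ A' := by
    rw [← hlr]
    refine le_antisymm ?_ ?_
    · rintro _ ⟨x, rfl⟩; exact ⟨_, rfl⟩
    · rintro _ ⟨x, rfl⟩; exact ⟨⟨x, (h.pre_im hZP hPS).le x.2⟩, rfl⟩
  set Q := preimageAlong θ A'
  have hPQ : (xSys h).IsConj P Q := ⟨_, hlP, hrQ⟩
  have hQ : InH θ Z E Q := h.inH_conj hP ⟨_, h.x_le P hlP, hrQ⟩
  have hQfn : E.IsFullyNormalized (imageAlong θ Q) := by rw [h.im_pre hA'S]; exact hA'fn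
  have hcard := isConj_card hPQ
  have hAb : InnAbove h Q := fun U hU hlt => by
    refine ih (Nat.card S - Nat.card U) ?_ hU rfl
    haveI := finite_of_le (S := S) (h.inH_le hU)
    have := Subgroup.card_le_of_le (h.inH_le hU)
    omega
  obtain ⟨W, hW⟩ := h.exists_ker hQ hQfn
  have harr : ∀ a, (xSys h).IsConj a Q → ∃ e : a ≃* Q, IsArrow h e := fun a ha => h.exists_arrow hQ hQfn ha
  choose e he using harr
  set f := mapEquiv (xSys h) hlP hrQ
  have hf : equivHom f ∈ (xSys h).Hom P := equivHom_mapEquiv _ hlP hrQ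
  have hf' : equivHom f.symm ∈ (xSys h).Hom Q := equivHom_mapEquiv_symm _ hlP hrQ
  intro k hkX hkK
  obtain ⟨q, hq⟩ := hW.inf _ (h.x_aut_le hQ hW hAb hQfn e he (congr_mem_autGroup _ f hf hf' hkX))
    (h.ker_congr f (h.x_le P hf) (h.x_le _ hf') hkK)
  refine ⟨f.symm q, ?_⟩
  apply (MulAut.congr f).injective
  rw [← hq]
  refine MulEquiv.ext fun x => ?_
  show f (f.symm q * f.symm x * (f.symm q)⁻¹) = q * x * q⁻¹
  simp

end Cfsg.Agent.FusionSys.CentLift
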