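import Cfsg.Agent.Lib.Fusion.GeneratedSaturated

/-!
# The saturation criterion: conclusion

Every automorphism of a fully normalized subgroup outside the generating family extends to the subgroup inducing
`O_p(Aut(P))`; this gives the Sylow and extension axioms at such a subgroup.
-/

set_option autoImplicit false

namespace Cfsg.Agent.FusionSys

open Cfsg Cfsg.FusionSystem

variable {Ω : Type*} [Group Ω] {S : Subgroup Ω} [Finite S] {p : ℕ} [hp : Fact p.Prime]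
variable {F : FusionSystem S} {P : Subgroup Ω}

/-- Whatever arrows are chosen at the two ends, the step from `a` gives an extendable map of `P`. -/
def StepRel (F : FusionSystem S) (p : ℕ) (P : Subgroup Ω) {R : Subgroup Ω} (φ : R →* Ω) (a : Subgroup Ω) : Prop :=
  ∀ b, imgOf φ a = b → ∀ ψ ∈ F.Hom (normalizerIn S a), imgOf ψ a = P → ∀ ψ' ∈ F.Hom (normalizerIn S b),
    imgOf ψ' b = P → ∀ f : P → Ω,
      (∀ (x : R) (h0 : (x : Ω) ∈ normalizerIn S a) (h1 : ψ ⟨x, h0⟩ ∈ P) (h2 : φ x ∈ normalizerIn S b),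
        (x : Ω) ∈ a → f ⟨_, h1⟩ = ψ' ⟨_, h2⟩) → ExtRel F p P f

omit [Finite S] hp in
theorem extRel_congr {f g : P → Ω} (h : ∀ x, f x = g x) (hf : ExtRel F p P f) : ExtRel F p P g :=
  (funext h : f = g) ▸ hf

theorem stepRel_of_lt (hS : IsPGroup p S) (hsat : ∀ R ≤ S, Nat.card P < Nat.card R → SatClass F p R)
    (hP : F.IsFullyNormalized P) (hgood : ∀ a, F.IsConj P a → Arrow F a P) {R a : Subgroup Ω} {φ : R →* Ω}
    (hφ : φ ∈ F.Hom R) (haR : a < R) (hPa : F.IsConj P a) : StepRel F p P φ a := by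
  intro b hb ψ hψ hψa ψ' hψ' hψb f hf
  have hlt := lt_inf_normalizerIn hS (hom_le F hφ) haR
  obtain ⟨ψi, hψi, hψie, -, hψiimg⟩ := exists_inv_imgOf F hψ
  set R' := R ⊓ normalizerIn S a with hR'
  set M := imgOf ψ R' with hM
  have hMr : M ≤ ψ.range := imgOf_le_range ψ
  have hv1 : ∀ y, (ψi.comp (Subgroup.inclusion hMr)) y ∈ R := by
    rintro ⟨_, x, hx, rfl⟩
    have e := hψie x ⟨x, rfl⟩
    exact e.symm ▸ (hx : (x : Ω) ∈ R').1
  have hA := F.comp_mem (restrict_mem F hψi hMr) hφ hv1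
  have hv1' : ∀ y, ((ψi.comp (Subgroup.inclusion hMr)) y : Ω) ∈ normalizerIn S a := by
    rintro ⟨_, x, hx, rfl⟩
    have e := hψie x ⟨x, rfl⟩
    exact e.symm ▸ (hx : (x : Ω) ∈ R').2
  have hv2 : ∀ y, (φ.comp ((ψi.comp (Subgroup.inclusion hMr)).codRestrict R hv1)) y ∈ normalizerIn S b := by
    intro y
    have := imgOf_mem_normalizer F hφ haR.le ⟨_, hv1 y⟩ (hv1' y).2
    rw [hb] at this
    exact this
  have hB := F.comp_mem hA hψ' hv2
  have haN : a ≤ normalizerIn S a := le_normalizerIn (isConj_le_right hPa)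
  have hPM : P ≤ M := hψa ▸ Subgroup.map_mono (Subgroup.comap_mono hlt.le)
  have hPM' : P < M := by
    refine lt_of_le_of_ne hPM fun he => ?_
    have h1 : Nat.card M = Nat.card R' := card_imgOf F hψ inf_le_right
    have h2 := isConj_card hPa
    haveI := finite_of_le ((inf_le_right : R' ≤ _).trans (normalizerIn_le S a))
    have h3 := card_lt_of_lt hlt
    rw [← he] at h1
    omega
  have hMN : M ≤ normalizerIn S P := by
    rintro _ ⟨x, hx, rfl⟩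
    exact hψa ▸ imgOf_mem_normalizer F hψ haN x x.2.2
  have hval : ∀ (x : normalizerIn S a) (h : ψ x ∈ M) (hxR : (x : Ω) ∈ R) (h2 : φ ⟨x, hxR⟩ ∈ normalizerIn S b),
      (ψ'.comp ((φ.comp ((ψi.comp (Subgroup.inclusion hMr)).codRestrict R hv1)).codRestrict _ hv2)) ⟨ψ x, h⟩ =
        ψ' ⟨φ ⟨x, hxR⟩, h2⟩ := fun x h hxR h2 =>
    congrArg ψ' (Subtype.ext (congrArg φ (Subtype.ext (hψie x _))))
  have hfix : imgOf _ P = P := imgOf_eq_of_mapsTo F hB hPM hP.1 (fun y hy => by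
    obtain ⟨x, hx', hxy⟩ := hψa.ge hy
    have hx : (x : Ω) ∈ a := hx'
    have hφn : φ ⟨x, haR.le hx⟩ ∈ normalizerIn S b :=
      hb ▸ imgOf_mem_normalizer F hφ haR.le _ (Subgroup.le_normalizer hx)
    have e : y = (⟨ψ x, hxy ▸ y.2⟩ : M) := Subtype.ext hxy.symm
    rw [e, hval x _ (haR.le hx) hφn]
    exact hψb.le ⟨_, hb.le ⟨⟨x, haR.le hx⟩, hx, rfl⟩, rfl⟩) le_rfl
  refine extRel_congr (fun y => ?_) (loop hS hsat hP hgood hB hPM' hMN hfix)
  obtain ⟨y, hy⟩ := y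
  obtain ⟨x, hx', hxy⟩ := hψa.ge hy
  subst hxy
  have hx : (x : Ω) ∈ a := hx'
  have hφn : φ ⟨x, haR.le hx⟩ ∈ normalizerIn S b :=
    hb ▸ imgOf_mem_normalizer F hφ haR.le _ (Subgroup.le_normalizer hx)
  exact (hval x _ (haR.le hx) hφn).trans (hf ⟨x, haR.le hx⟩ x.2 _ hφn hx).symm

/-- Every automorphism of `P` extends to the subgroup inducing `O_p(Aut_F(P))`. -/
theorem autExt_all (hS : IsPGroup p S) (hsat : ∀ R ≤ S, Nat.card P < Nat.card R → SatClass F p R)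
    (hP : F.IsFullyNormalized P) (ℋ : Set (Subgroup Ω)) (hℋconj : ∀ P ∈ ℋ, ∀ Q, F.IsConj P Q → Q ∈ ℋ)
    (hgen : ∀ E : FusionSystem S, (∀ P ∈ ℋ, F.Hom P ⊆ E.Hom P) → F ≤ E) (hPn : P ∉ ℋ) (hSℋ : S ∈ ℋ)
    {α : MulAut P} (hα : α ∈ F.autGroup P) : ExtRel F p P fun x => (α x : Ω) := by
  have hgood := good_all hS hsat hP ℋ hℋconj hgen hPn hSℋ
  have hne : ∀ R ∈ ℋ, ∀ a, F.IsConj P a → a ≠ R := fun R hR a ha he =>
    hPn (hℋconj R hR P (he ▸ isConj_symm ha))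
  let E : FusionSystem S :=
    { Hom := fun R => {φ | φ ∈ F.Hom R ∧ ∀ a ≤ R, F.IsConj P a → StepRel F p P φ a}
      le_of_mem := fun h => F.le_of_mem h.1
      injective_of_mem := fun h => F.injective_of_mem h.1
      conj_mem := by
        intro R g hR hg
        refine ⟨F.conj_mem hR hg, fun a ha hPa b hb ψ hψ hψa ψ' hψ' hψb f hf => ?_⟩
        refine stepRel_of_lt hS hsat hP hgood (F.conj_mem le_rfl hg)
          (lt_of_le_of_ne (ha.trans hR) (hne S hSℋ a hPa)) hPa b ?_ ψ hψ hψa ψ' hψ' hψb f ?_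
        · rw [← hb]
          exact imgOf_congr (ha.trans hR) ha fun x hx => rfl
        · exact fun x h0 h1 h2 hx => hf ⟨x, ha hx⟩ h0 h1 h2 hx
      comp_mem := by
        rintro R T φ χ ⟨hφ, h1⟩ ⟨hχ, h2⟩ h
        refine ⟨F.comp_mem hφ hχ h, fun a ha hPa c hc ψ hψ hψa ψ'' hψ'' hψc f hf => ?_⟩
        rw [imgOf_comp] at hc
        have hPb := isConj_trans hPa (isConj_imgOf F hφ ha)
        obtain ⟨ψ', hψ', hψb⟩ := hgood _ hPb
        have hbT : imgOf φ a ≤ T := by rintro _ ⟨x, -, rfl⟩; exact h x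
        obtain ⟨ψi, hψi, hψie, -, hψiimg⟩ := exists_inv_imgOf F hψ
        have hPr : P ≤ ψ.range := hψa ▸ imgOf_le_range ψ
        have haN : a ≤ normalizerIn S a := le_normalizerIn (isConj_le_right hPa)
        have hia : ∀ y : P, ψi ⟨y, hPr y.2⟩ ∈ a := by
          rintro ⟨y, hy⟩
          obtain ⟨x, hx, rfl⟩ := hψa.ge hy
          exact (hψie x ⟨x, rfl⟩).symm ▸ (hx : (x : Ω) ∈ a)
        have hfb : ∀ y : P, φ ⟨ψi ⟨y, hPr y.2⟩, ha (hia y)⟩ ∈ imgOf φ a := fun y => ⟨_, hia y, rfl⟩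
        have hbN : imgOf φ a ≤ normalizerIn S (imgOf φ a) := le_normalizerIn (imgOf_le F hφ)
        let f₁ : P → Ω := fun y => ψ' ⟨_, hbN (hfb y)⟩
        have hf₁P : ∀ y, f₁ y ∈ P := fun y => hψb.le ⟨_, hfb y, rfl⟩
        have r1 : ExtRel F p P f₁ := by
          refine h1 a ha hPa _ rfl ψ hψ hψa ψ' hψ' hψb f₁ fun x h0 h1' h2' hx => ?_
          exact congrArg ψ' (Subtype.ext (congrArg φ (Subtype.ext (hψie ⟨x, h0⟩ _))))
        obtain ⟨ψ'i, hψ'i, hψ'ie, -, -⟩ := exists_inv_imgOf F hψ'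
        have hPr' : P ≤ ψ'.range := hψb ▸ imgOf_le_range ψ'
        have hib : ∀ z : P, ψ'i ⟨z, hPr' z.2⟩ ∈ imgOf φ a := by
          rintro ⟨z, hy⟩
          obtain ⟨x, hx, rfl⟩ := hψb.ge hy
          exact (hψ'ie x ⟨x, rfl⟩).symm ▸ (hx : (x : Ω) ∈ imgOf φ a)
        have hcN : ∀ z : P, χ ⟨ψ'i ⟨z, hPr' z.2⟩, hbT (hib z)⟩ ∈ normalizerIn S c := fun z =>
          le_normalizerIn (hc ▸ imgOf_le F hχ) (hc.le ⟨_, hib z, rfl⟩)
        let f₂ : P → Ω := fun z => ψ'' ⟨_, hcN z⟩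
        have r2 : ExtRel F p P f₂ := by
          refine h2 _ hbT hPb c hc ψ' hψ' hψb ψ'' hψ'' hψc f₂ fun x h0 h1' h2' hx => ?_
          exact congrArg ψ'' (Subtype.ext (congrArg χ (Subtype.ext (hψ'ie ⟨x, h0⟩ _))))
        refine extRel_comp hS hP.1 hf₁P (fun y => ?_) r1 r2
        obtain ⟨y, hy⟩ := y
        obtain ⟨x, hx', hxy⟩ := hψa.ge hy
        subst hxy
        have hx : (x : Ω) ∈ a := hx'
        have h2x : (χ.comp (φ.codRestrict T h)) ⟨x, ha hx⟩ ∈ normalizerIn S c :=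
          le_normalizerIn (hc ▸ imgOf_le F hχ) (hc.le ⟨_, ⟨_, hx, rfl⟩, rfl⟩)
        rw [hf ⟨x, ha hx⟩ x.2 _ h2x hx]
        refine congrArg ψ'' (Subtype.ext (congrArg χ (Subtype.ext ?_)))
        refine Eq.trans ?_ (hψ'ie ⟨_, hbN (hfb _)⟩ ⟨_, rfl⟩).symm
        exact (congrArg φ (Subtype.ext (hψie x _))).symm
      inv_mem := by
        rintro R φ ⟨hφ, h1⟩
        obtain ⟨φi, hφi, hφie, -, hφiimg⟩ := exists_inv_imgOf F hφ
        refine ⟨φi, ⟨hφi, fun c hc hPc b hb ψ hψ hψc ψ' hψ' hψb f hf => ?_⟩, fun x => hφie x _⟩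
        obtain ⟨a, ha, rfl⟩ := exists_preimg φ hc
        rw [hφiimg a ha] at hb
        subst hb
        have hPa : F.IsConj P a := isConj_trans hPc (isConj_symm (isConj_imgOf F hφ ha))
        have haN : a ≤ normalizerIn S a := le_normalizerIn (isConj_le_right hPa)
        obtain ⟨ψ'i, hψ'i, hψ'ie, -, -⟩ := exists_inv_imgOf F hψ'
        have hPr' : P ≤ ψ'.range := hψb ▸ imgOf_le_range ψ'
        have hib : ∀ z : P, ψ'i ⟨z, hPr' z.2⟩ ∈ a := by
          rintro ⟨z, hy⟩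
          obtain ⟨x, hx, rfl⟩ := hψb.ge hy
          exact (hψ'ie x ⟨x, rfl⟩).symm ▸ (hx : (x : Ω) ∈ a)
        have hbN : imgOf φ a ≤ normalizerIn S (imgOf φ a) := le_normalizerIn (imgOf_le F hφ)
        have hfb : ∀ z : P, φ ⟨ψ'i ⟨z, hPr' z.2⟩, ha (hib z)⟩ ∈ imgOf φ a := fun z => ⟨_, hib z, rfl⟩
        let g : P → Ω := fun z => ψ ⟨_, hbN (hfb z)⟩
        have hgP : ∀ z, g z ∈ P := fun z => hψc.le ⟨_, hfb z, rfl⟩
        have r : ExtRel F p P g := by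
          refine h1 a ha hPa _ rfl ψ' hψ' hψb ψ hψ hψc g fun x h0 h1' h2' hx => ?_
          exact congrArg ψ (Subtype.ext (congrArg φ (Subtype.ext (hψ'ie ⟨x, h0⟩ _))))
        refine extRel_inv hS hP.1 hgP (fun z => ?_) r
        obtain ⟨z, hz⟩ := z
        obtain ⟨x, hx', hxy⟩ := hψb.ge hz
        subst hxy
        have hx : (x : Ω) ∈ a := hx'
        have e1 : ψ'i ⟨ψ' x, hPr' hz⟩ = x := hψ'ie x _
        let r₀ : R := ⟨ψ'i ⟨ψ' x, hPr' hz⟩, ha (hib ⟨ψ' x, hz⟩)⟩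
        have e2 : φi ⟨φ r₀, r₀, rfl⟩ = (x : Ω) := (hφie r₀ ⟨r₀, rfl⟩).trans e1
        refine (hf ⟨φ r₀, r₀, rfl⟩ (hbN (hfb ⟨_, hz⟩)) (hgP ⟨_, hz⟩) (e2.symm ▸ x.2) (hfb ⟨_, hz⟩)).trans ?_
        exact congrArg ψ' (Subtype.ext e2) }
  have hFE := hgen E fun R hR φ hφ =>
    ⟨hφ, fun a ha hPa => stepRel_of_lt hS hsat hP hgood hφ (lt_of_le_of_ne ha (hne R hR a hPa)) hPa⟩
  have hαm := (mem_autGroup_iff F hP.1 α).1 hα
  have hr : imgOf (P.subtype.comp α.toMonoidHom) P = P := by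
    rw [imgOf_self, MonoidHom.range_comp, MonoidHom.range_eq_top.2 α.surjective, ← MonoidHom.range_eq_map,
      Subgroup.range_subtype]
  exact (hFE P hαm).2 P le_rfl (isConj_refl F hP.1) P hr _ (subtype_mem F (normalizerIn_le S P))
    (imgOf_subtype (le_normalizerIn hP.1)) _ (subtype_mem F (normalizerIn_le S P))
    (imgOf_subtype (le_normalizerIn hP.1)) _ fun x h0 h1 h2 hx => rfl

/-- The subgroup inducing `O_p(Aut_F(P))` is larger than `P`. -/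
theorem lt_coreExt (hS : IsPGroup p S) (hP : F.IsFullyNormalized P) (hgood : ∀ a, F.IsConj P a → Arrow F a P)
    (hstar : F.IsCentric P → ∃ Q, F.IsConj P Q ∧
      ¬ (autInducedBy S Q ⊓ (Cfsg.pCore p (F.autGroup Q)).map (F.autGroup Q).subtype ≤ Inn Q)) :
    P < coreExt F p P := by
  refine lt_of_le_of_ne (le_coreExt hS F hP.1) fun he => ?_
  have key : ∀ a, F.IsConj P a → coreExt F p a ≤ a := by
    intro a ha g hg
    obtain ⟨ψ, hψ, hψa⟩ := hgood a ha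
    have hgN := coreExt_le (p := p) F (isConj_le_right ha) hg
    have := apply_mem_coreExt (p := p) F hψ (le_normalizerIn (isConj_le_right ha)) ⟨g, hgN⟩ hg
    rw [hψa, ← he] at this
    exact (apply_mem_imgOf_iff F hψ ⟨g, hgN⟩).1 (hψa.ge this)
  obtain ⟨Q, hQ, hn⟩ := hstar ⟨hP.1, fun a ha => (centralizerIn_le_coreExt (p := p) F a).trans (key a ha)⟩
  refine hn fun o ho => ?_
  obtain ⟨g, hg, hge⟩ := (mem_autInducedBy_iff o).1 ho.1
  have hgQ := key Q hQ ⟨hg, o, ho.2, hge⟩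
  exact ⟨⟨g, hgQ⟩, MulEquiv.ext fun x => Subtype.ext (hge x).symm⟩

/-- A class outside the family contains a fully automized receptive member if all larger ones do. -/
theorem satClass_of_larger (hS : IsPGroup p S) (hsat : ∀ R ≤ S, Nat.card P < Nat.card R → SatClass F p R)
    (hP : F.IsFullyNormalized P) (ℋ : Set (Subgroup Ω)) (hℋconj : ∀ P ∈ ℋ, ∀ Q, F.IsConj P Q → Q ∈ ℋ)
    (hgen : ∀ E : FusionSystem S, (∀ P ∈ ℋ, F.Hom P ⊆ E.Hom P) → F ≤ E) (hPn : P ∉ ℋ) (hSℋ : S ∈ ℋ)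
    (hstar : F.IsCentric P → ∃ Q, F.IsConj P Q ∧
      ¬ (autInducedBy S Q ⊓ (Cfsg.pCore p (F.autGroup Q)).map (F.autGroup Q).subtype ≤ Inn Q)) :
    SatClass F p P := by
  have hgood := good_all hS hsat hP ℋ hℋconj hgen hPn hSℋ
  have hU := lt_coreExt hS hP hgood hstar
  have hPS := hP.1
  have hUN := coreExt_le (p := p) F hPS
  have hUS : coreExt F p P ≤ S := hUN.trans (normalizerIn_le S P)
  haveI := finite_of_le hUS
  obtain ⟨Q, ⟨θ₁, hθ₁, hθ₁r⟩, hQA, hQR⟩ := hsat _ hUS (card_lt_of_lt hU)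
  haveI := finite_of_le hQA.1
  obtain ⟨γ, hγ, hsyl⟩ := exists_sylStab hS hQA (a := imgOf θ₁ P) (hθ₁r ▸ imgOf_le_range θ₁)
  have hγm := (mem_autGroup_iff F hQA.1 γ).1 hγ
  have hθ := F.comp_mem hθ₁ hγm fun x => hθ₁r.le ⟨x, rfl⟩
  set θ := (Q.subtype.comp γ.toMonoidHom).comp (θ₁.codRestrict Q fun x => hθ₁r.le ⟨x, rfl⟩)
  rw [← imgOf_comp θ₁ (Q.subtype.comp γ.toMonoidHom) fun x => hθ₁r.le ⟨x, rfl⟩] at hsyl
  set b := imgOf θ P with hb
  have hr : θ.range = Q := by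
    rw [range_comp_of_range _ _ _ hθ₁r, MonoidHom.range_comp, MonoidHom.range_eq_top.2 γ.surjective,
      ← MonoidHom.range_eq_map, Subgroup.range_subtype]
  obtain ⟨k, hk, ψ, hψ, hψe⟩ := to_hub hS hQR hθ hr hU.le rfl hsyl
  have hW : normalizerIn S P ≤ normalizerIn S (coreExt F p P) ⊓ Subgroup.normalizer (P : Set Ω) :=
    fun g hg => ⟨⟨hg.1, coreExt_le_normalizer hS hPS hg⟩, hg.2⟩
  have hPN := le_normalizerIn hPS
  have hψ' := restrict_mem F hψ hW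
  set ν := ψ.comp (Subgroup.inclusion hW)
  have hνe : ∀ (x : coreExt F p P) (hx : (x : Ω) ∈ normalizerIn S P),
      ν ⟨x, hx⟩ = ((k ⟨θ x, hr.le ⟨x, rfl⟩⟩ : Q) : Ω) := fun x hx => hψe x (hW hx)
  have iP : imgOf ν P = b := imgOf_hub (F := F) hr hU.le hUN rfl hk.2 hνe
  have iU : imgOf ν (coreExt F p P) = Q := by
    refine imgOf_eq_of_mapsTo F hψ' hUN hQA.1 (fun x hx => ?_) (isConj_card ⟨θ, hθ, hr⟩).ge
    rw [hνe ⟨x, hx⟩ x.2]
    exact (k _).2
  have hPb : F.IsConj P b := isConj_imgOf F hθ hU.le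
  have hbS := isConj_le_right hPb
  haveI := finite_of_le (normalizerIn_le S b)
  have hνN : ν.range ≤ normalizerIn S b := by
    rintro _ ⟨x, rfl⟩
    exact iP ▸ imgOf_mem_normalizer F hψ' hPN x x.2.2
  have hνc : Nat.card ν.range = Nat.card (normalizerIn S P) := (isConj_card ⟨ν, hψ', rfl⟩).symm
  have hνr : ν.range = normalizerIn S b :=
    Subgroup.eq_of_le_of_card_ge hνN (hνc ▸ hP.2 b hPb)
  have hbfn : F.IsFullyNormalized b :=
    ⟨hbS, fun a ha => by rw [← hνr, hνc]; exact hP.2 a (isConj_trans hPb ha)⟩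
  have hbU : coreExt F p b = Q := by
    refine le_antisymm (fun u hu => ?_) ?_
    · obtain ⟨x, rfl⟩ := hνr.ge (coreExt_le F hbS hu)
      rw [← iP, apply_mem_coreExt_iff F hψ' hPN] at hu
      exact iU.le ⟨x, hu, rfl⟩
    · rintro y hy
      obtain ⟨x, hx, rfl⟩ := iU.ge hy
      exact iP ▸ apply_mem_coreExt (p := p) F hψ' hPN x hx
  have hbn : b ∉ ℋ := fun h => hPn (hℋconj b h P (isConj_symm hPb))
  have hcb := isConj_card hPb
  have hsat' : ∀ R ≤ S, Nat.card b < Nat.card R → SatClass F p R := fun R hR hc => hsat R hR (hcb ▸ hc)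
  have hbQ : b ≤ Q := hr ▸ imgOf_le_range θ
  have hlift : ∀ α ∈ F.autGroup b, ∃ β : stabSub Q b, (β : MulAut Q) ∈ F.autGroup Q ∧ resHom hbQ β = α := by
    intro α hα
    obtain ⟨χ, hχ, hχe⟩ := autExt_all hS hsat' hbfn ℋ hℋconj hgen hbn hSℋ hα
    obtain ⟨hb', hv⟩ := extRel_values hS hbS (fun x => (α x).2) hχ hχe
    have hQU : Q ≤ coreExt F p b := hbU.ge
    have hχQ := restrict_mem F hχ hQU
    have hrQ : (χ.comp (Subgroup.inclusion hQU)).range = Q := by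
      refine Subgroup.eq_of_le_of_card_ge ?_ (isConj_card ⟨_, hχQ, rfl⟩).le
      rintro _ ⟨x, rfl⟩
      exact hbU.le (hv _)
    obtain ⟨β, hβ, hβe⟩ := exists_autGroup_of_range F hχQ hrQ
    have hst : β ∈ stabSub Q b := fun x => by
      rw [hβe]
      have h1 := apply_mem_imgOf_iff F hχ (a := b) (Subgroup.inclusion hQU x)
      rw [hb'] at h1
      exact h1
    exact ⟨⟨β, hst⟩, hβ, MulEquiv.ext fun x =>
      Subtype.ext ((hβe _).trans (hχe x (hQU (hbQ x.2))))⟩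
  haveI := finite_of_le hbS
  have hres : ∀ β : stabSub Q b, (β : MulAut Q) ∈ F.autGroup Q → resHom hbQ β ∈ F.autGroup b := by
    intro β hβ
    rw [mem_autGroup_iff F hbS]
    exact hom_congr F (restrict_mem F ((mem_autGroup_iff F hQA.1 _).1 hβ) hbQ) fun x => rfl
  set T := autInducedBy S Q ⊓ stabSub Q b with hT
  set B := F.autGroup Q ⊓ stabSub Q b with hB
  have hsylTB : IsSyl p T B := hsyl
  have hsyl' : IsSyl p (T.subgroupOf (stabSub Q b)) (B.subgroupOf (stabSub Q b)) :=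
    ⟨fun x hx => hsylTB.1 (Subgroup.mem_subgroupOf.1 hx), isPGroup_subgroupOf hsylTB.2.1,
      by rw [Subgroup.relIndex_subgroupOf inf_le_right]; exact hsylTB.2.2⟩
  have himgB : (B.subgroupOf (stabSub Q b)).map (resHom hbQ) = F.autGroup b := by
    refine le_antisymm ?_ fun α hα => ?_
    · rintro _ ⟨β, hβ, rfl⟩
      exact hres β (Subgroup.mem_subgroupOf.1 hβ).1
    · obtain ⟨β, hβ, hβe⟩ := hlift α hα
      exact ⟨β, Subgroup.mem_subgroupOf.2 ⟨hβ, β.2⟩, hβe⟩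
  have himgT : (T.subgroupOf (stabSub Q b)).map (resHom hbQ) ≤ autInducedBy S b := by
    rintro _ ⟨β, hβ, rfl⟩
    obtain ⟨g, hg, hge⟩ := (mem_autInducedBy_iff _).1 (Subgroup.mem_subgroupOf.1 hβ).1
    exact (mem_autInducedBy_iff _).2 ⟨g, hg, fun x => hge _⟩
  have hsylb := hsyl'.map (resHom hbQ)
  rw [himgB] at hsylb
  have heq := hsylb.eq_of_le himgT (autInducedBy_le_autGroup F hbS) (autInducedBy_isPGroup hS)
  refine ⟨b, hPb, fullyAutomized_of_isSyl_aut hbS (heq ▸ hsylb), hbS, ?_⟩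
  intro P' φ hφ hφr
  have hP'b : F.IsConj b P' := isConj_symm ⟨φ, hφ, hφr⟩
  obtain ⟨χ, hχ, hχb⟩ := good_all hS hsat' hbfn ℋ hℋconj hgen hbn hSℋ P' hP'b
  have hP'N : P' ≤ normalizerIn S P' := le_normalizerIn (isConj_le_right hP'b)
  have hχr : (χ.comp (Subgroup.inclusion hP'N)).range = b := (range_restrict χ hP'N).trans hχb
  set e₁ := mapEquiv F (restrict_mem F hχ hP'N) hχr with he₁
  set e₂ := mapEquiv F hφ hφr with he₂
  have he₁s := mapEquiv_symm_mem F (restrict_mem F hχ hP'N) hχr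
  have he₂m : b.subtype.comp e₂.toMonoidHom ∈ F.Hom P' := hom_congr F hφ fun _ => rfl
  set α : MulAut b := e₁.symm.trans e₂ with hαdef
  have hα : α ∈ F.autGroup b :=
    (mem_autGroup_iff F hbS α).2 (hom_congr F (F.comp_mem he₁s he₂m fun x => (e₁.symm x).2) fun _ => rfl)
  obtain ⟨β, hβ, hβα⟩ := hlift α hα
  -- the part of `T` that `α` carries into `Aut_S(b)`
  let L : Subgroup (MulAut b) := (autInducedBy S b).map (MulAut.conj α⁻¹).toMonoidHom
  set X := T ⊓ (L.comap (resHom hbQ)).map (stabSub Q b).subtype with hX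
  set K := B ⊓ ((autInducedBy S b).comap (resHom hbQ)).map (stabSub Q b).subtype with hK
  have hTK : T ≤ K := fun x hx => ⟨hsylTB.1 hx, ⟨x, hx.2⟩, heq.le ⟨⟨x, hx.2⟩, hx, rfl⟩, rfl⟩
  have hsylK : IsSyl p T K :=
    ⟨hTK, hsylTB.2.1, fun hd => hsylTB.2.2 (hd.trans (Dvd.intro _ (Subgroup.relIndex_mul_relIndex T K B hTK inf_le_left)))⟩
  have hXK : X.map (MulAut.conj (β : MulAut Q)).toMonoidHom ≤ K := by
    rintro _ ⟨x, ⟨hxT, y, hy, rfl⟩, rfl⟩
    refine ⟨B.mul_mem (B.mul_mem ⟨hβ, β.2⟩ (hsylTB.1 hxT)) (B.inv_mem ⟨hβ, β.2⟩), β * y * β⁻¹, ?_, rfl⟩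
    obtain ⟨z, hz, hzy⟩ := hy
    rw [SetLike.mem_coe, Subgroup.mem_comap, map_mul, map_mul, map_inv, ← hzy, hβα]
    show α * (α⁻¹ * z * α⁻¹⁻¹) * α⁻¹ ∈ autInducedBy S b
    have e : α * (α⁻¹ * z * α⁻¹⁻¹) * α⁻¹ = z := by group
    rw [e]
    exact hz
  obtain ⟨c, hc, hcle⟩ := hsylK.exists_conj ((hsylTB.2.1.to_le inf_le_left).map _) hXK
  obtain ⟨c', hc', hcc⟩ := hc.2
  obtain ⟨t, ht, hte⟩ := heq.ge hc'
  set n : MulAut Q := ((t⁻¹ * c' * β : stabSub Q b) : MulAut Q) with hn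
  have hc'A : (c' : MulAut Q) ∈ F.autGroup Q := by
    have := hc.1.1
    rw [← hcc] at this
    exact this
  have htA : (t : MulAut Q) ∈ F.autGroup Q := (hsylTB.1 (Subgroup.mem_subgroupOf.1 ht)).1
  have hnB : n ∈ B :=
    ⟨(F.autGroup Q).mul_mem ((F.autGroup Q).mul_mem ((F.autGroup Q).inv_mem htA) hc'A) hβ,
      (t⁻¹ * c' * β).2⟩
  have hnres : resHom hbQ (t⁻¹ * c' * β) = α := by
    rw [map_mul, map_mul, map_inv, hte, inv_mul_cancel, one_mul, hβα]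
  have hnT : ∀ x ∈ X, n * x * n⁻¹ ∈ T := by
    intro x hx
    have h3 : c * ((β : MulAut Q) * x * (β : MulAut Q)⁻¹) * c⁻¹ ∈ T := hcle ⟨_, ⟨x, hx, rfl⟩, rfl⟩
    have e : n * x * n⁻¹ = (t : MulAut Q)⁻¹ * (c * ((β : MulAut Q) * x * (β : MulAut Q)⁻¹) * c⁻¹) * (t : MulAut Q) := by
      rw [hn, ← hcc]
      push_cast
      simp only [Subgroup.coe_subtype]
      group
    rw [e]
    exact T.mul_mem (T.mul_mem (T.inv_mem (Subgroup.mem_subgroupOf.1 ht)) h3) (Subgroup.mem_subgroupOf.1 ht)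
  have hnm := (mem_autGroup_iff F hQA.1 n).1 hnB.1
  have hrn : (Q.subtype.comp n.toMonoidHom).range = Q := by
    rw [MonoidHom.range_comp, MonoidHom.range_eq_top.2 n.surjective, ← MonoidHom.range_eq_map,
      Subgroup.range_subtype]
  obtain ⟨ψn, hψn, hψne⟩ := hQR.2 Q _ hnm hrn
  have hQN : normalizerIn S b ≤ Subgroup.normalizer (Q : Set Ω) := hbU ▸ coreExt_le_normalizer hS hbS
  have hExt : extender S P' φ ≤ ((extender S Q (Q.subtype.comp n.toMonoidHom)).comap χ).map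
      (normalizerIn S P').subtype := by
    refine (Subgroup.closure_le _).2 ?_
    rintro g ⟨hgS, hgN, h, hh, hhe⟩
    have hg : g ∈ normalizerIn S P' := ⟨hgS, hgN⟩
    refine ⟨⟨g, hg⟩, ?_, rfl⟩
    show χ ⟨g, hg⟩ ∈ extender S Q _
    set d := χ ⟨g, hg⟩ with hd
    have hdN : d ∈ normalizerIn S b := hχb ▸ imgOf_mem_normalizer F hχ hP'N ⟨g, hg⟩ hgN
    obtain ⟨cd, hcd, hcde⟩ := exists_conjAut (P := Q) (K := S) hdN.1 (hQN hdN)
    have hst : cd ∈ stabSub Q b := fun x => by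
      rw [hcde]; exact (Subgroup.mem_normalizer_iff.1 hdN.2 _).symm
    have hL : α * resHom hbQ ⟨cd, hst⟩ * α⁻¹ ∈ autInducedBy S b := by
      refine (mem_autInducedBy_iff _).2 ⟨h, hh, fun y => ?_⟩
      obtain ⟨z, rfl⟩ := e₂.surjective y
      have hz : g * (z : Ω) * g⁻¹ ∈ P' := (Subgroup.mem_normalizer_iff.1 hgN _).1 z.2
      have e3 : (α⁻¹ (e₂ z) : b) = e₁ z := by
        apply α.injective
        rw [MulAut.apply_inv_self]
        exact (congrArg e₂ (e₁.symm_apply_apply z)).symm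
      have e4 : resHom hbQ ⟨cd, hst⟩ (e₁ z) = e₁ ⟨_, hz⟩ := Subtype.ext <|
        (hcde _).trans (map_apply_conj χ hg (hP'N z.2) (hP'N hz)).symm
      rw [MulAut.mul_apply, MulAut.mul_apply, e3, e4]
      exact (congrArg (fun w => ((e₂ w : b) : Ω)) (e₁.symm_apply_apply ⟨_, hz⟩)).trans (hhe z hz)
    have hcdX : cd ∈ X := by
      refine ⟨⟨hcd, hst⟩, ⟨cd, hst⟩, ⟨_, hL, ?_⟩, rfl⟩
      show α⁻¹ * (α * resHom hbQ ⟨cd, hst⟩ * α⁻¹) * α⁻¹⁻¹ = _
      group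
    obtain ⟨h', hh', hhe'⟩ := (mem_autInducedBy_iff _).1 (hnT cd hcdX).1
    refine Subgroup.subset_closure ⟨hdN.1, hQN hdN, h', hh', fun x hx => ?_⟩
    have h2 := hhe' (n x)
    rw [MulAut.mul_apply, MulAut.mul_apply, MulAut.inv_apply_self] at h2
    refine Eq.trans ?_ h2
    show ((n ⟨_, hx⟩ : Q) : Ω) = _
    rw [show (⟨d * (x : Ω) * d⁻¹, hx⟩ : Q) = cd x from Subtype.ext (hcde x).symm]
  have hEN : extender S P' φ ≤ normalizerIn S P' := extender_le_normalizerIn φ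
  have hv : ∀ y, (χ.comp (Subgroup.inclusion hEN)) y ∈ extender S Q (Q.subtype.comp n.toMonoidHom) := by
    rintro ⟨y, hy⟩
    obtain ⟨z, hz, hzy⟩ := hExt hy
    have ez : z = Subgroup.inclusion hEN ⟨y, hy⟩ := Subtype.ext hzy
    subst ez
    exact hz
  refine ⟨_, F.comp_mem (restrict_mem F hχ hEN) hψn hv, fun x hP' hN => ?_⟩
  have hxb : χ ⟨x, hP'N hP'⟩ ∈ b := hχb.le ⟨_, hP', rfl⟩
  refine (hψne _ (hbQ hxb) (hv ⟨x, hN⟩)).trans ?_
  have h5 := congrArg (fun f : MulAut b => ((f ⟨_, hxb⟩ : b) : Ω)) hnres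
  refine (h5 :).trans ?_
  show ((e₂ (e₁.symm (e₁ ⟨x, hP'⟩)) : b) : Ω) = _
  rw [MulEquiv.symm_apply_apply]
  rfl

end Cfsg.Agent.FusionSys
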