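import Cfsg.Agent.Lib.Fusion.CentralLiftMain
import Cfsg.Agent.S5110

/-!
# The generated subsystem is saturated

The saturation criterion applied to the subgroups with centric image.
-/

set_option autoImplicit false

namespace Cfsg.Agent.FusionSys.CentLift

open Cfsg Cfsg.FusionSystem

variable {Ω : Type*} [Group Ω] {S : Subgroup Ω} {Ω' : Type*} [Group Ω'] {S' T' : Subgroup Ω'}
  {F : FusionSystem S} {p : ℕ} {Z : Subgroup Ω} {θ : S →* Ω'} {Fb : FusionSystem S'} {E : FusionSystem T'}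
  (h : Setup p F Z θ Fb E) [Finite S] [hp : Fact p.Prime]

include h

theorem Setup.x_fullyAutomized {Q : Subgroup Ω} (hQ : InH θ Z E Q)
    (hfn : E.IsFullyNormalized (imageAlong θ Q)) : (xSys h).IsFullyAutomized p Q := by
  obtain ⟨hZQ, hQT, -⟩ := id hQ
  have hQS := h.inH_le hQ
  haveI := finite_of_le (S := S) hQS
  haveI := h.finiteT'
  haveI := finite_of_le (S := T') (h.im_le_T hQT)
  haveI := finite_of_le (S := S) (le_preimageAlong θ T')
  set R := autInducedBy (preimageAlong θ T') Q with hRdef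
  have hR : R ≤ (xSys h).autGroup Q := autInducedBy_le_autGroup _ hQT
  set f := (barHom h hQT).comp (Subgroup.inclusion (autGroup_mono h.x_le_d Q)) with hf
  have hrange : f.range = E.autGroup (imageAlong θ Q) := by
    refine le_antisymm ?_ fun β hβ => ?_
    · rintro _ ⟨a, rfl⟩; exact (h.barHom_range hZQ hQT).le ⟨_, rfl⟩
    · obtain ⟨a, ha, hb⟩ := h.x_bar_surj hZQ hQT hβ
      exact ⟨⟨a, ha⟩, isBar_unique hQS (h.barHom_spec hQT _) hb⟩
  have heq : R.subgroupOf ((xSys h).autGroup Q) = (autInducedBy T' (imageAlong θ Q)).comap f := by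
    refine le_antisymm (fun r hr => ?_) fun x hx => ?_
    · obtain ⟨u, hu, hue⟩ := (mem_autInducedBy_iff _).1 (Subgroup.mem_subgroupOf.1 hr)
      obtain ⟨huS, huT⟩ := (mem_preimageAlong _ _ _).1 hu
      obtain ⟨β, hβ, hβe⟩ := exists_conjAut (K := T') (P := imageAlong θ Q) huT
        (h.normalizer_im huS hQS (mem_normalizer_of_autInduced hue))
      rw [Subgroup.mem_comap, show f r = β from
        isBar_unique hQS (h.barHom_spec hQT _) (h.bar_conj huS _ β hQS hue hβe)]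
      exact hβ
    · obtain ⟨y, hy, hye⟩ := (mem_autInducedBy_iff (f x)).1 (Subgroup.mem_comap.1 hx)
      obtain ⟨u, rfl⟩ := h.hran.ge (h.sc.1 hy)
      have huT : (u : Ω) ∈ preimageAlong θ T' := (mem_preimageAlong _ _ _).2 ⟨u.2, hy⟩
      obtain ⟨r, hr, hre⟩ := exists_conjAut (K := preimageAlong θ T') huT
        (h.normalizer_of_im hZQ hQS u.2 (mem_normalizer_of_autInduced hye))
      have h1 : f ⟨r, hR hr⟩ = f x :=
        isBar_unique hQS (h.barHom_spec hQT _) (h.bar_conj u.2 r _ hQS hre hye)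
      have hk : r⁻¹ * (x : MulAut Q) ∈ kerSub h Q := by
        have h2 : f (⟨r, hR hr⟩⁻¹ * x) = 1 := by rw [map_mul, map_inv, h1, inv_mul_cancel]
        exact (h.barHom_eq_one hQT _).1 h2
      have h3 := h.x_inn hQ _ (Subgroup.mul_mem _ (Subgroup.inv_mem _ (hR hr)) x.2) hk
      rw [Subgroup.mem_subgroupOf]
      have := R.mul_mem hr (inn_le_autInducedBy hQT h3)
      rwa [mul_inv_cancel_left] at this
  refine fullyAutomized_of_isSyl_aut hQT ⟨hR, autInducedBy_isPGroup (h.pgrp.to_le (le_preimageAlong _ _)), ?_⟩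
  show ¬ p ∣ (R.subgroupOf ((xSys h).autGroup Q)).index
  rw [heq, Subgroup.index_comap, hrange]
  exact (isSyl_of_fullyAutomized (fullyNormalized_imp h.pgrpT' h.eSat hfn).2).2.2

theorem Setup.x_receptive {Q : Subgroup Ω} (hQ : InH θ Z E Q) (hfn : E.IsFullyNormalized (imageAlong θ Q)) :
    (xSys h).IsReceptive Q := by
  refine ⟨hQ.2.1, fun P φ hφ hr => ?_⟩
  haveI := h.finiteT'
  have hP : InH θ Z E P := h.inH_conj hQ (isConj_symm ⟨φ, h.x_le P hφ, hr⟩)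
  have hPS := h.inH_le hP
  have hT'P := h.im_le_T hP.2.1
  obtain ⟨φ', hφ', hi⟩ := h.d_induced (h.x_le_d P hφ)
  have hr' : φ'.range = imageAlong θ Q := by rw [ind_range hi, hr]
  obtain ⟨ψ', hψ', hψe⟩ := (fullyNormalized_receptive h.pgrpT' h.eSat hfn).2 _ φ' hφ' hr'
  obtain ⟨l, hl, hli⟩ := h.x_lift hψ'
  set N := extender (preimageAlong θ T') P φ
  have hle : N ≤ preimageAlong θ (extender T' (imageAlong θ P) φ') := by
    refine (Subgroup.closure_le _).2 ?_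
    rintro g ⟨hg, hgn, v, hv, hge⟩
    obtain ⟨hgS, hgT⟩ := (mem_preimageAlong _ _ _).1 hg
    obtain ⟨hvS, hvT⟩ := (mem_preimageAlong _ _ _).1 hv
    refine (mem_preimageAlong _ _ _).2 ⟨hgS, Subgroup.subset_closure ⟨hgT, h.normalizer_im hgS hPS hgn,
      θ ⟨v, hvS⟩, hvT, fun y hy => ?_⟩⟩
    obtain ⟨y, hyP⟩ := y
    obtain ⟨x, hx, hxP, rfl⟩ := mem_imageAlong.1 hyP
    have hgx : g * x * g⁻¹ ∈ P := (Subgroup.mem_normalizer_iff.1 hgn x).1 hxP
    have hgxS : g * x * g⁻¹ ∈ S := S.mul_mem (S.mul_mem hgS hx) (S.inv_mem hgS)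
    have e1 : θ ⟨g, hgS⟩ * θ ⟨x, hx⟩ * (θ ⟨g, hgS⟩)⁻¹ = θ ⟨g * x * g⁻¹, hgxS⟩ := by
      rw [← map_inv, ← map_mul, ← map_mul]; rfl
    refine (apply_congr φ' e1 hy (mem_im _ hgx)).trans ?_
    rw [ind_apply hi ⟨g * x * g⁻¹, hgx⟩ hgxS _ (hom_apply_mem F (h.x_le P hφ) _),
      ind_apply hi ⟨x, hxP⟩ hx _ (hom_apply_mem F (h.x_le P hφ) _), ← map_inv, ← map_mul, ← map_mul]
    exact congrArg θ (Subtype.ext (hge ⟨x, hxP⟩ hgx))
  have hPN : P ≤ N := le_extender (xSys h) hφ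
  have hlP := restrict_mem (xSys h) hl (hPN.trans hle)
  obtain ⟨k, hk, hkK, hkv⟩ := h.x_diff hP.1 hlP hφ fun x => by
    show (l (Subgroup.inclusion (hPN.trans hle) x))⁻¹ * φ x ∈ Z
    rw [← h.theta_eq (hli.2.1 _) (hi.2.1 x),
      ← ind_apply hli (Subgroup.inclusion (hPN.trans hle) x) (hPS x.2) (ind_mem hli _ _) (hli.2.1 _),
      ← ind_apply hi x (hPS x.2) (mem_im _ x.2) (hi.2.1 x)]
    exact hψe _ (mem_im _ x.2) _
  obtain ⟨q, hq⟩ := h.x_inn hP k hk hkK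
  have hNT : N ≤ preimageAlong θ T' := (extender_le_normalizerIn φ).trans (normalizerIn_le _ _)
  have hv : ∀ x : N, conjHom N (q : Ω) x ∈ preimageAlong θ (extender T' (imageAlong θ P) φ') := fun x =>
    hle (N.mul_mem (N.mul_mem (hPN q.2) x.2) (N.inv_mem (hPN q.2)))
  refine ⟨_, (xSys h).comp_mem ((xSys h).conj_mem hNT (hP.2.1 q.2)) hl hv, fun x hx hxN => ?_⟩
  rw [hkv, ← hq]
  rfl

theorem Setup.x_star {P : Subgroup Ω} (hc : (xSys h).IsCentric P) (hn : ¬ InH θ Z E P) :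
    ∃ Q, (xSys h).IsConj P Q ∧ ¬ (autInducedBy (preimageAlong θ T') Q ⊓
      (pCore p ↥((xSys h).autGroup Q)).map ((xSys h).autGroup Q).subtype ≤ Inn Q) := by
  have hPT := hc.1
  have hPS : P ≤ S := hPT.trans (le_preimageAlong _ _)
  have hZP : Z ≤ P := fun z hz => hc.2 P (isConj_refl _ hPT)
    ⟨h.zpre T' hz, Subgroup.mem_centralizer_iff.2 fun x hx => h.comm hz (hPS hx)⟩
  obtain ⟨A', hA', hA'n⟩ : ∃ A', E.IsConj (imageAlong θ P) A' ∧ ¬ centralizerIn T' A' ≤ A' := by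
    by_contra hne
    exact hn ⟨hZP, hPT, h.im_le_T hPT, fun A' hA' => by_contra fun hc' => hne ⟨A', hA', hc'⟩⟩
  obtain ⟨y', hy', hy'n⟩ := SetLike.not_le_iff_exists.1 hA'n
  obtain ⟨φ', hφ', hr'⟩ := hA'
  obtain ⟨l, hl, hli⟩ := h.x_lift hφ'
  have hle : P ≤ preimageAlong θ (imageAlong θ P) := (h.pre_im hZP hPS).ge
  have hlP := restrict_mem (xSys h) hl hle
  have hlr : l.range = preimageAlong θ A' := by
    rw [h.lift_range (h.x_le _ hl) (h.im_le P) hli, hr']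
  have hrQ : (l.comp (Subgroup.inclusion hle)).range = preimageAlong θ A' := by
    rw [← hlr]
    refine le_antisymm ?_ ?_
    · rintro _ ⟨x, rfl⟩; exact ⟨_, rfl⟩
    · rintro _ ⟨x, rfl⟩; exact ⟨⟨x, (h.pre_im hZP hPS).le x.2⟩, rfl⟩
  set Q := preimageAlong θ A'
  have hPQ : (xSys h).IsConj P Q := ⟨_, hlP, hrQ⟩
  refine ⟨Q, hPQ, fun hsub => ?_⟩
  have hQT : Q ≤ preimageAlong θ T' := isConj_le_right hPQ
  have hQS : Q ≤ S := hQT.trans (le_preimageAlong _ _)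
  haveI := finite_of_le (S := S) hQS
  obtain ⟨y, rfl⟩ := h.hran.ge (h.sc.1 hy'.1)
  have hyT : (y : Ω) ∈ preimageAlong θ T' := (mem_preimageAlong _ _ _).2 ⟨y.2, hy'.1⟩
  have hcomm : ∀ u : Q, (u : Ω)⁻¹ * ((y : Ω) * u * (y : Ω)⁻¹) ∈ Z := fun u => by
    rw [← h.theta_eq (hQS u.2) (S.mul_mem (S.mul_mem y.2 (hQS u.2)) (S.inv_mem y.2))]
    have h1 : θ ⟨(y : Ω) * u * (y : Ω)⁻¹, S.mul_mem (S.mul_mem y.2 (hQS u.2)) (S.inv_mem y.2)⟩ =
        θ y * θ ⟨u, hQS u.2⟩ * (θ y)⁻¹ := by rw [← map_inv, ← map_mul, ← map_mul]; rfl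
    rw [h1]
    exact eq_mul_inv_iff_mul_eq.2 (Subgroup.mem_centralizer_iff.1 hy'.2 _ ((mem_preimageAlong _ _ _).1 u.2).2)
  have hyN : (y : Ω) ∈ Subgroup.normalizer (Q : Set Ω) := mem_normalizer_of_conj_mem_finite fun u hu => by
    have := Q.mul_mem hu (h.zpre A' (hcomm ⟨u, hu⟩))
    rwa [mul_inv_cancel_left] at this
  obtain ⟨c, hc', hce⟩ := exists_conjAut (K := preimageAlong θ T') hyT hyN
  have hcX : c ∈ (xSys h).autGroup Q := autInducedBy_le_autGroup _ hQT hc'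
  have hcK : c ∈ kerSub h Q := by
    refine ⟨autGroup_mono h.x_le Q hcX, fun u => ?_⟩
    rw [Subgroup.coe_mul, Subgroup.coe_inv, hce]
    exact hcomm u
  haveI hKn : ((kerSub h Q).subgroupOf ((xSys h).autGroup Q)).Normal :=
    ⟨fun k hk a => h.ker_conj (autGroup_mono h.x_le Q a.2) hk⟩
  have hcore : (⟨c, hcX⟩ : (xSys h).autGroup Q) ∈ pCore p ↥((xSys h).autGroup Q) :=
    Cfsg.Agent.PBasic.le_pCore hKn (isPGroup_subgroupOf (h.ker_isPGroup hQS)) (Subgroup.mem_subgroupOf.2 hcK)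
  obtain ⟨q, hq⟩ := hsub ⟨hc', ⟨_, hcore, rfl⟩⟩
  have hqy : (q : Ω)⁻¹ * y ∈ centralizerIn (preimageAlong θ T') Q := by
    refine ⟨Subgroup.mul_mem _ (Subgroup.inv_mem _ (hQT q.2)) hyT, Subgroup.mem_centralizer_iff.2 fun u hu => ?_⟩
    have h1 := hce ⟨u, hu⟩
    rw [← hq] at h1
    change (q : Ω) * u * (q : Ω)⁻¹ = (y : Ω) * u * (y : Ω)⁻¹ at h1
    calc u * ((q : Ω)⁻¹ * y) = (q : Ω)⁻¹ * ((q : Ω) * u * (q : Ω)⁻¹) * y := by group
      _ = (q : Ω)⁻¹ * ((y : Ω) * u * (y : Ω)⁻¹) * y := by rw [h1]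
      _ = (q : Ω)⁻¹ * y * u := by group
  have hyQ := Q.mul_mem q.2 (hc.2 Q hPQ hqy)
  rw [mul_inv_cancel_left] at hyQ
  exact hy'n ((mem_preimageAlong _ _ _).1 hyQ).2

/-- The generated subsystem is saturated. -/
theorem Setup.x_saturated : (xSys h).IsSaturated p := by
  haveI := h.finiteT'
  haveI := finite_of_le (S := S) (le_preimageAlong θ T')
  refine Cfsg.Agent.S5110.result p (h.pgrp.to_le (le_preimageAlong _ _)) (xSys h) {P | InH θ Z E P}
    (fun P hP => hP.2.1) (fun P hP Q ⟨φ, hφ, hr⟩ => h.inH_conj hP ⟨φ, h.x_le P hφ, hr⟩) (fun P hP => ?_)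
    (fun Y hY => h.x_min fun P hP a ha => ?_) fun P hc hn => h.x_star hc hn
  · obtain ⟨hZP, hPT, -⟩ := id hP
    obtain ⟨A', hA', hA'fn⟩ := exists_fullyNormalized E (h.im_le_T hPT)
    obtain ⟨φ', hφ', hr'⟩ := hA'
    obtain ⟨l, hl, hli⟩ := h.x_lift hφ'
    have hPS := h.inH_le hP
    have hle : P ≤ preimageAlong θ (imageAlong θ P) := (h.pre_im hZP hPS).ge
    have hlP := restrict_mem (xSys h) hl hle
    have hrQ : (l.comp (Subgroup.inclusion hle)).range = preimageAlong θ A' := by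
      rw [← hr', ← h.lift_range (h.x_le _ hl) (h.im_le P) hli]
      refine le_antisymm ?_ ?_
      · rintro _ ⟨x, rfl⟩; exact ⟨_, rfl⟩
      · rintro _ ⟨x, rfl⟩; exact ⟨⟨x, (h.pre_im hZP hPS).le x.2⟩, rfl⟩
    have hQ : InH θ Z E (preimageAlong θ A') := h.inH_conj hP ⟨_, h.x_le P hlP, hrQ⟩
    have hQfn : E.IsFullyNormalized (imageAlong θ (preimageAlong θ A')) := by
      rw [h.im_pre (hA'fn.1.trans h.sc.1)]; exact hA'fn
    exact ⟨_, ⟨_, hlP, hrQ⟩, h.x_fullyAutomized hQ hQfn, h.x_receptive hQ hQfn⟩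
  · exact Subgroup.subset_closure (hY P hP ((mem_autGroup_iff _ hP.2.1 _).1 (h.x_gen P hP a ha)))

end Cfsg.Agent.FusionSys.CentLift
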