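import Cfsg.Agent.Lib.Fusion.Saturated
import Cfsg.Agent.Lib.FiniteGroup.FittingPow

/-!
# Stabilizers of a subgroup inside an automizer

Preparations for the saturation criterion: images of subgroups under maps of a system, the stabilizer of `a ≤ R` in
`Aut(R)`, its restriction to `a`, and extension of a map onto a receptive subgroup with a Sylow stabilizer.
-/

set_option autoImplicit false

namespace Cfsg.Agent.FusionSys

open Cfsg Cfsg.FusionSystem

variable {Ω : Type*} [Group Ω] {S : Subgroup Ω}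

/-! ### Images -/

/-- The image of `a` under a map defined on `R`. -/
def imgOf {R : Subgroup Ω} (φ : R →* Ω) (a : Subgroup Ω) : Subgroup Ω := (a.subgroupOf R).map φ

theorem mem_imgOf {R : Subgroup Ω} {φ : R →* Ω} {a : Subgroup Ω} {y : Ω} :
    y ∈ imgOf φ a ↔ ∃ x : R, (x : Ω) ∈ a ∧ φ x = y := Iff.rfl

theorem apply_mem_imgOf_iff (F : FusionSystem S) {R a : Subgroup Ω} {φ : R →* Ω} (hφ : φ ∈ F.Hom R) (x : R) :
    φ x ∈ imgOf φ a ↔ (x : Ω) ∈ a := by
  refine ⟨fun ⟨z, hz, he⟩ => ?_, fun h => ⟨x, h, rfl⟩⟩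
  rw [← F.injective_of_mem hφ he]
  exact hz

theorem imgOf_le (F : FusionSystem S) {R a : Subgroup Ω} {φ : R →* Ω} (hφ : φ ∈ F.Hom R) : imgOf φ a ≤ S :=
  (Subgroup.map_le_range _ _).trans (range_le F hφ)

theorem imgOf_le_range {R a : Subgroup Ω} (φ : R →* Ω) : imgOf φ a ≤ φ.range := Subgroup.map_le_range _ _

theorem imgOf_self {R : Subgroup Ω} (φ : R →* Ω) : imgOf φ R = φ.range := by
  rw [imgOf, Subgroup.subgroupOf_self, ← MonoidHom.range_eq_map]

theorem isConj_imgOf (F : FusionSystem S) {R a : Subgroup Ω} {φ : R →* Ω} (hφ : φ ∈ F.Hom R) (ha : a ≤ R) :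
    F.IsConj a (imgOf φ a) :=
  ⟨_, restrict_mem F hφ ha, range_restrict φ ha⟩

theorem imgOf_congr {R R' a : Subgroup Ω} {φ : R →* Ω} {φ' : R' →* Ω} (ha : a ≤ R) (ha' : a ≤ R')
    (h : ∀ (x : Ω) (hx : x ∈ a), φ ⟨x, ha hx⟩ = φ' ⟨x, ha' hx⟩) : imgOf φ a = imgOf φ' a := by
  ext y
  constructor
  · rintro ⟨⟨x, _⟩, hx, rfl⟩; exact ⟨⟨x, ha' hx⟩, hx, (h x hx).symm⟩
  · rintro ⟨⟨x, _⟩, hx, rfl⟩; exact ⟨⟨x, ha hx⟩, hx, h x hx⟩

theorem imgOf_subtype {R a : Subgroup Ω} (ha : a ≤ R) : imgOf R.subtype a = a :=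
  Subgroup.map_subgroupOf_eq_of_le ha

theorem imgOf_comp {R T a : Subgroup Ω} (φ : R →* Ω) (ψ : T →* Ω) (h : ∀ x, φ x ∈ T) :
    imgOf (ψ.comp (φ.codRestrict T h)) a = imgOf ψ (imgOf φ a) := by
  ext y
  constructor
  · rintro ⟨x, hx, rfl⟩; exact ⟨⟨φ x, h x⟩, ⟨x, hx, rfl⟩, rfl⟩
  · rintro ⟨⟨_, _⟩, ⟨x, hx, rfl⟩, rfl⟩; exact ⟨x, hx, rfl⟩

theorem card_imgOf (F : FusionSystem S) {R a : Subgroup Ω} {φ : R →* Ω} (hφ : φ ∈ F.Hom R) (ha : a ≤ R) :
    Nat.card (imgOf φ a) = Nat.card a :=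
  (isConj_card (isConj_imgOf F hφ ha)).symm

/-- An inverse map, on any subgroup of the image. -/
theorem exists_inv_imgOf (F : FusionSystem S) {R : Subgroup Ω} {φ : R →* Ω} (hφ : φ ∈ F.Hom R) :
    ∃ ψ ∈ F.Hom φ.range, (∀ (x : R) (h : φ x ∈ φ.range), ψ ⟨φ x, h⟩ = x) ∧ ψ.range = R ∧
      ∀ a ≤ R, imgOf ψ (imgOf φ a) = a := by
  obtain ⟨ψ, hψ, hr, h1, -⟩ := exists_inv F hφ
  refine ⟨ψ, hψ, h1, hr, fun a ha => ?_⟩
  ext y
  constructor
  · rintro ⟨⟨_, x, rfl⟩, hx, rfl⟩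
    refine Eq.mpr (congrArg (fun z => z ∈ a) (h1 x ⟨x, rfl⟩)) ?_
    exact (apply_mem_imgOf_iff F hφ x).1 hx
  · intro hy
    exact ⟨⟨φ ⟨y, ha hy⟩, _, rfl⟩, ⟨_, hy, rfl⟩, h1 _ _⟩

theorem imgOf_mem_normalizer {R a : Subgroup Ω} [Finite S] (F : FusionSystem S) {φ : R →* Ω}
    (hφ : φ ∈ F.Hom R) (ha : a ≤ R) (x : R) (hx : (x : Ω) ∈ Subgroup.normalizer (a : Set Ω)) :
    φ x ∈ normalizerIn S (imgOf φ a) := by
  haveI := finite_of_le (imgOf_le F hφ (a := a))
  exact ⟨hom_apply_mem F hφ x, apply_mem_normalizer (R := imgOf φ a) φ ha (range_restrict φ ha) x hx⟩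

/-! ### The stabilizer of a subgroup -/

/-- The automorphisms of `R` fixing `a`. -/
def stabSub (R a : Subgroup Ω) : Subgroup (MulAut R) where
  carrier := {α | ∀ x : R, ((α x : R) : Ω) ∈ a ↔ (x : Ω) ∈ a}
  one_mem' x := Iff.rfl
  mul_mem' {α β} hα hβ x := by rw [MulAut.mul_apply]; exact (hα _).trans (hβ x)
  inv_mem' {α} hα x := by
    have := hα (α⁻¹ x)
    rw [MulAut.apply_inv_self] at this
    exact this.symm

theorem mem_stabSub {R a : Subgroup Ω} {α : MulAut R} :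
    α ∈ stabSub R a ↔ ∀ x : R, ((α x : R) : Ω) ∈ a ↔ (x : Ω) ∈ a := Iff.rfl

/-- Restriction of the stabilizer to the fixed subgroup. -/
def resHom {R a : Subgroup Ω} (ha : a ≤ R) : stabSub R a →* MulAut a where
  toFun α :=
    { toFun := fun x => ⟨((α : MulAut R) (Subgroup.inclusion ha x) : R), (α.2 _).2 x.2⟩
      invFun := fun x => ⟨((α : MulAut R)⁻¹ (Subgroup.inclusion ha x) : R), ((inv_mem α.2 : (α : MulAut R)⁻¹ ∈ _) _).2 x.2⟩
      left_inv := fun x => Subtype.ext (congrArg (fun z : R => (z : Ω)) (MulAut.inv_apply_self R (α : MulAut R) (Subgroup.inclusion ha x)))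
      right_inv := fun x => Subtype.ext (congrArg (fun z : R => (z : Ω)) (MulAut.apply_inv_self R (α : MulAut R) (Subgroup.inclusion ha x)))
      map_mul' := fun x y => Subtype.ext (congrArg (fun z : R => (z : Ω)) (map_mul (α : MulAut R) (Subgroup.inclusion ha x) (Subgroup.inclusion ha y))) }
  map_one' := rfl
  map_mul' _ _ := rfl

theorem resHom_apply {R a : Subgroup Ω} (ha : a ≤ R) (α : stabSub R a) (x : a) :
    ((resHom ha α x : a) : Ω) = ((α : MulAut R) (Subgroup.inclusion ha x) : R) := rfl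

variable {p : ℕ} [hp : Fact p.Prime] [Finite S]

/-- `a` is placed so that the stabilizer of `a` in `Aut_S(R)` is Sylow in the stabilizer in `Aut_F(R)`. -/
def SylStab (F : FusionSystem S) (p : ℕ) (R a : Subgroup Ω) : Prop :=
  IsSyl p (autInducedBy S R ⊓ stabSub R a) (F.autGroup R ⊓ stabSub R a)

theorem exists_sylStab (hS : IsPGroup p S) {F : FusionSystem S} {R a : Subgroup Ω} (hR : F.IsFullyAutomized p R)
    (ha : a ≤ R) :
    ∃ γ ∈ F.autGroup R, SylStab F p R (imgOf (R.subtype.comp γ.toMonoidHom) a) := by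
  haveI := finite_of_le hR.1
  have hsyl := isSyl_of_fullyAutomized hR
  obtain ⟨X, hX⟩ := exists_isSyl (p := p) (F.autGroup R ⊓ stabSub R a)
  obtain ⟨γ, hγ, hle⟩ := hsyl.exists_conj hX.2.1 (hX.1.trans inf_le_left)
  refine ⟨γ, hγ, ?_⟩
  set b := imgOf (R.subtype.comp γ.toMonoidHom) a
  have hb : ∀ x : R, ((γ x : R) : Ω) ∈ b ↔ (x : Ω) ∈ a := fun x =>
    apply_mem_imgOf_iff F ((mem_autGroup_iff F hR.1 γ).1 hγ) x
  have hst : (stabSub R a).map (MulAut.conj γ).toMonoidHom = stabSub R b := by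
    ext β
    simp only [Subgroup.mem_map_equiv, MulAut.conj_symm_apply, mem_stabSub, MulAut.mul_apply]
    refine ⟨fun h x => ?_, fun h x => ?_⟩
    · have h1 := h (γ⁻¹ x)
      rw [MulAut.apply_inv_self] at h1
      rw [← hb, MulAut.apply_inv_self, ← hb (γ⁻¹ x), MulAut.apply_inv_self] at h1
      exact h1
    · rw [← hb, MulAut.apply_inv_self, ← hb x]
      exact h (γ x)
  have hA : (F.autGroup R).map (MulAut.conj γ).toMonoidHom = F.autGroup R :=
    Subgroup.mem_normalizer_iff_map_conj_eq.1 (Subgroup.le_normalizer hγ)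
  have h1 := hX.map_conj γ
  rw [Subgroup.map_inf _ _ _ (MulAut.conj γ).injective, hA, hst] at h1
  have h2 : X.map (MulAut.conj γ).toMonoidHom = autInducedBy S R ⊓ stabSub R b :=
    h1.eq_of_le (le_inf hle (h1.1.trans inf_le_right)) (inf_le_inf_right _ hsyl.1) (hsyl.2.1.to_le inf_le_left)
  unfold SylStab
  rwa [← h2]

/-- A map onto a receptive subgroup, with the image of `a` well placed, extends over `N_S(R) ∩ N(a)` after an
adjustment fixing that image. -/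
theorem to_hub (hS : IsPGroup p S) {F : FusionSystem S} {R Q a b : Subgroup Ω} (hQ : F.IsReceptive Q)
    {θ : R →* Ω} (hθ : θ ∈ F.Hom R) (hr : θ.range = Q) (haR : a ≤ R) (hb : imgOf θ a = b)
    (hsyl : SylStab F p Q b) :
    ∃ k : MulAut Q, k ∈ F.autGroup Q ⊓ stabSub Q b ∧
      ∃ ψ ∈ F.Hom (normalizerIn S R ⊓ Subgroup.normalizer (a : Set Ω)),
        ∀ (x : R) (hx : (x : Ω) ∈ normalizerIn S R ⊓ Subgroup.normalizer (a : Set Ω)),
          ψ ⟨x, hx⟩ = ((k ⟨θ x, hr.le ⟨x, rfl⟩⟩ : Q) : Ω) := by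
  have hRS := hom_le F hθ
  haveI := finite_of_le hRS
  haveI := finite_of_le hQ.1
  haveI := finite_of_le (haR.trans hRS)
  set W := normalizerIn S R ⊓ Subgroup.normalizer (a : Set Ω) with hW
  set e := mapEquiv F hθ hr
  have he : Q.subtype.comp e.toMonoidHom ∈ F.Hom R := hom_congr F hθ fun _ => rfl
  have he' := mapEquiv_symm_mem F hθ hr
  have hea : ∀ x : R, ((e x : Q) : Ω) ∈ b ↔ (x : Ω) ∈ a := fun x => hb ▸ apply_mem_imgOf_iff F hθ x
  have hWS : W ≤ S := inf_le_left.trans (normalizerIn_le S R)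
  have hD : (autInducedBy W R).map (MulAut.congr e).toMonoidHom ≤ F.autGroup Q ⊓ stabSub Q b := by
    refine le_inf ?_ ?_
    · rw [← map_autGroup F e he he']
      exact Subgroup.map_mono ((autInducedBy_mono hWS).trans (autInducedBy_le_autGroup F hRS))
    · rintro _ ⟨c, hc, rfl⟩
      obtain ⟨g, hg, hge⟩ := (mem_autInducedBy_iff _).1 hc
      intro y
      obtain ⟨x, rfl⟩ := e.surjective y
      rw [MulEquiv.coe_toMonoidHom, congr_apply, MulEquiv.symm_apply_apply, hea, hea, hge]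
      exact (Subgroup.mem_normalizer_iff.1 hg.2 _).symm
  obtain ⟨k, hk, hkle⟩ := hsyl.exists_conj ((autInducedBy_isPGroup (hS.to_le hWS)).map _) hD
  refine ⟨k, hk, ?_⟩
  have hχ := F.comp_mem he ((mem_autGroup_iff F hQ.1 k).1 hk.1) fun x => (e x).2
  set χ := (Q.subtype.comp k.toMonoidHom).comp ((Q.subtype.comp e.toMonoidHom).codRestrict Q fun x => (e x).2)
  have hr' : χ.range = Q := by
    ext y
    constructor
    · rintro ⟨x, rfl⟩; exact (k _).2
    · intro hy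
      refine ⟨e.symm (k.symm ⟨y, hy⟩), ?_⟩
      show ((k (e (e.symm (k.symm ⟨y, hy⟩))) : Q) : Ω) = y
      simp
  obtain ⟨ψ, hψ, hag⟩ := hQ.2 R χ hχ hr'
  have hN : W ≤ extender S R χ := by
    intro g hg
    obtain ⟨c, hc, hce⟩ := exists_conjAut (P := R) (K := W) hg hg.1.2
    have h1 := (hkle ⟨_, ⟨c, hc, rfl⟩, rfl⟩).1
    obtain ⟨h, hh, hhe⟩ := (mem_autInducedBy_iff _).1 h1
    refine Subgroup.subset_closure ⟨hg.1.1, hg.1.2, h, hh, fun x hx => ?_⟩
    have h2 := hhe (k (e x))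
    simp only [MulEquiv.coe_toMonoidHom, MulAut.conj_apply, MulAut.mul_apply, congr_apply] at h2
    rw [show k⁻¹ (k (e x)) = e x from k.symm_apply_apply _, MulEquiv.symm_apply_apply] at h2
    refine Eq.trans ?_ h2
    show ((k (e ⟨_, hx⟩) : Q) : Ω) = _
    rw [show (⟨g * (x : Ω) * g⁻¹, hx⟩ : R) = c x from Subtype.ext (hce x).symm]
  exact ⟨ψ.comp (Subgroup.inclusion hN), restrict_mem F hψ hN, fun x hx => hag x x.2 _⟩

/-! ### The `p`-core of an automizer and the subgroup inducing it -/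

/-- `O_p(Aut_F(a))`. -/
def coreAut (F : FusionSystem S) (p : ℕ) (a : Subgroup Ω) : Subgroup (MulAut a) :=
  (Cfsg.pCore p (F.autGroup a)).map (F.autGroup a).subtype

omit [Finite S] hp in
theorem coreAut_le (F : FusionSystem S) (a : Subgroup Ω) : coreAut F p a ≤ F.autGroup a := Subgroup.map_subtype_le _

omit [Finite S] hp in
theorem coreAut_normal (F : FusionSystem S) (a : Subgroup Ω) {α o : MulAut a} (hα : α ∈ F.autGroup a)
    (ho : o ∈ coreAut F p a) : α * o * α⁻¹ ∈ coreAut F p a := by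
  obtain ⟨o, ho, rfl⟩ := ho
  exact ⟨_, (Cfsg.Agent.FiniteGroup.pCore_normal (G := F.autGroup a) p).conj_mem o ho ⟨α, hα⟩, rfl⟩

theorem coreAut_isPGroup (F : FusionSystem S) {a : Subgroup Ω} (ha : a ≤ S) : IsPGroup p (coreAut F p a) :=
  haveI := finite_of_le ha
  (Cfsg.Agent.FiniteGroup.pCore_isPGroup (G := F.autGroup a) p).map _

theorem coreAut_congr (F : FusionSystem S) {a b : Subgroup Ω} (e : a ≃* b)
    (he : b.subtype.comp e.toMonoidHom ∈ F.Hom a) (he' : a.subtype.comp e.symm.toMonoidHom ∈ F.Hom b)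
    {o : MulAut a} (ho : o ∈ coreAut F p a) : MulAut.congr e o ∈ coreAut F p b := by
  haveI := finite_of_le (hom_le F he)
  have hmem : ∀ α ∈ F.autGroup a, MulAut.congr e α ∈ F.autGroup b := fun α hα => congr_mem_autGroup F e he he' hα
  let W : Subgroup (F.autGroup b) := ((coreAut F p a).map (MulAut.congr e).toMonoidHom).subgroupOf (F.autGroup b)
  have hn : W.Normal := by
    refine ⟨fun w hw g => ?_⟩
    obtain ⟨o, ho, hoe⟩ := hw
    obtain ⟨α, hα, hαe⟩ := (map_autGroup F e he he').ge g.2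
    refine ⟨α * o * α⁻¹, coreAut_normal F a hα ho, ?_⟩
    rw [map_mul, map_mul, map_inv, hαe, hoe]
    rfl
  have hW : IsPGroup p W := isPGroup_subgroupOf ((coreAut_isPGroup F (hom_le F he)).map _)
  have hle : W ≤ Cfsg.pCore p (F.autGroup b) := le_sSup ⟨hn, hW⟩
  exact ⟨⟨_, hmem o (coreAut_le F a ho)⟩, hle ⟨o, ho, rfl⟩, rfl⟩

theorem inn_le_coreAut (hS : IsPGroup p S) (F : FusionSystem S) {a : Subgroup Ω} (ha : a ≤ S) :
    Inn a ≤ coreAut F p a := by
  haveI := finite_of_le ha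
  have hle : Inn a ≤ F.autGroup a := inn_le_autGroup F ha
  have hn : ((Inn a).subgroupOf (F.autGroup a)).Normal := ⟨fun w hw g => by
    obtain ⟨u, hu⟩ := (hw : (w : MulAut a) ∈ Inn a)
    refine ⟨(g : MulAut a) u, MulEquiv.ext fun x => ?_⟩
    show (g : MulAut a) u * x * ((g : MulAut a) u)⁻¹ = (g : MulAut a) ((w : MulAut a) ((g : MulAut a)⁻¹ x))
    replace hu : MulAut.conj u = (w : MulAut a) := hu
    rw [← hu, show (MulAut.conj u) ((g : MulAut a)⁻¹ x) = u * ((g : MulAut a)⁻¹ x) * u⁻¹ from rfl, map_mul, map_mul,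
      map_inv, MulAut.apply_inv_self]⟩
  have hP : IsPGroup p ((Inn a).subgroupOf (F.autGroup a)) :=
    isPGroup_subgroupOf (by rw [inn_eq_autInducedBy_self]; exact autInducedBy_isPGroup (hS.to_le ha))
  exact fun o ho => ⟨⟨o, hle ho⟩, (le_sSup ⟨hn, hP⟩ : _ ≤ Cfsg.pCore p (F.autGroup a)) ho, rfl⟩

/-- The elements of `N_S(a)` inducing elements of `O_p(Aut_F(a))`. -/
def coreExt (F : FusionSystem S) (p : ℕ) (a : Subgroup Ω) : Subgroup Ω where
  carrier := {g | g ∈ S ∧ ∃ o ∈ coreAut F p a, ∀ x : a, ((o x : a) : Ω) = g * (x : Ω) * g⁻¹}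
  one_mem' := ⟨S.one_mem, 1, one_mem _, fun x => by simp⟩
  mul_mem' := by
    rintro g g' ⟨hg, o, ho, hoe⟩ ⟨hg', o', ho', hoe'⟩
    refine ⟨S.mul_mem hg hg', o * o', mul_mem ho ho', fun x => ?_⟩
    rw [MulAut.mul_apply, hoe, hoe']
    simp only [mul_inv_rev, mul_assoc]
  inv_mem' := by
    rintro g ⟨hg, o, ho, hoe⟩
    refine ⟨S.inv_mem hg, o⁻¹, inv_mem ho, fun x => ?_⟩
    have := hoe (o⁻¹ x)
    rw [MulAut.apply_inv_self] at this
    rw [this]
    group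

theorem coreExt_le (F : FusionSystem S) {a : Subgroup Ω} (ha : a ≤ S) : coreExt F p a ≤ normalizerIn S a := by
  haveI := finite_of_le ha
  rintro g ⟨hg, o, ho, hoe⟩
  exact ⟨hg, mem_normalizer_of_conj_mem_finite fun x hx => (hoe ⟨x, hx⟩) ▸ (o ⟨x, hx⟩).2⟩

theorem le_coreExt (hS : IsPGroup p S) (F : FusionSystem S) {a : Subgroup Ω} (ha : a ≤ S) : a ≤ coreExt F p a :=
  fun g hg => ⟨ha hg, MulAut.conj (⟨g, hg⟩ : a), inn_le_coreAut hS F ha ⟨⟨g, hg⟩, rfl⟩, fun _ => rfl⟩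

omit [Finite S] hp in
theorem centralizerIn_le_coreExt (F : FusionSystem S) (a : Subgroup Ω) : centralizerIn S a ≤ coreExt F p a :=
  fun g hg => ⟨hg.1, 1, one_mem _, fun x => by
    show (x : Ω) = g * x * g⁻¹
    rw [← Subgroup.mem_centralizer_iff.1 hg.2 x x.2, mul_inv_cancel_right]⟩

/-- Maps respect `coreExt`. -/
theorem apply_mem_coreExt (F : FusionSystem S) {R a : Subgroup Ω} {φ : R →* Ω} (hφ : φ ∈ F.Hom R) (ha : a ≤ R)
    (x : R) (hx : (x : Ω) ∈ coreExt F p a) : φ x ∈ coreExt F p (imgOf φ a) := by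
  obtain ⟨-, o, ho, hoe⟩ := hx
  have hφa := restrict_mem F hφ ha
  set e := mapEquiv F hφa (range_restrict φ ha)
  refine ⟨hom_apply_mem F hφ x, MulAut.congr e o,
    coreAut_congr F e (hom_congr F hφa fun _ => rfl) (mapEquiv_symm_mem F hφa _) ho, fun y => ?_⟩
  obtain ⟨z, rfl⟩ := e.surjective y
  show ((e (o (e.symm (e z))) : imgOf φ a) : Ω) = _
  rw [MulEquiv.symm_apply_apply]
  show φ _ = φ x * φ _ * (φ x)⁻¹
  rw [← map_inv, ← map_mul, ← map_mul]
  exact congrArg φ (Subtype.ext (hoe z))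

theorem apply_mem_coreExt_iff (F : FusionSystem S) {R a : Subgroup Ω} {φ : R →* Ω} (hφ : φ ∈ F.Hom R) (ha : a ≤ R)
    (x : R) : φ x ∈ coreExt F p (imgOf φ a) ↔ (x : Ω) ∈ coreExt F p a := by
  refine ⟨fun h => ?_, apply_mem_coreExt F hφ ha x⟩
  obtain ⟨ψ, hψ, h1, -, h2⟩ := exists_inv_imgOf F hφ
  have := apply_mem_coreExt (p := p) F hψ (imgOf_le_range φ) ⟨φ x, x, rfl⟩ h
  have e := h1 x ⟨x, rfl⟩
  rw [h2 a ha] at this
  exact Eq.mp (congrArg (· ∈ coreExt F p a) e) this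

end Cfsg.Agent.FusionSys
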