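import Cfsg.Agent.Lib.Fusion.WeaklyNormalResidual

/-!
# `O^{p'}` of a weakly normal subsystem is normal

Maps extending over `C_S(T)` and acting trivially on it modulo `T` form a closed system.
-/

set_option autoImplicit false

namespace Cfsg.Agent.FusionSys

open Cfsg Cfsg.FusionSystem

variable {Ω : Type*} [Group Ω] {S T : Subgroup Ω}

theorem twist_closed_of_invariant [Finite S] {p : ℕ} {F : FusionSystem S} {E D : FusionSystem T}
    (hE : E.IsInvariantIn F) (hD : PPrimeClosed E D p) {α : MulAut T} (hα : α ∈ F.autGroup T) :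
    PPrimeClosed E (twistSys E D α) p := by
  have hαm := aut_hom F hE.2.1.1 hα
  constructor
  · intro P hP a ha hk
    have hαP := restrict_mem F hαm hP.1
    set A := (P.subgroupOf T).map (T.subtype.comp α.toMonoidHom) with hA
    have hr : ((T.subtype.comp α.toMonoidHom).comp (Subgroup.inclusion hP.1)).range = A := range_restrict _ hP.1
    set e := mapEquiv F hαP hr
    have hAT : A ≤ T := isConj_le_stronglyClosed hE.2.1 hP.1 ⟨_, hαP, hr⟩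
    have hem : equivHom e ∈ F.Hom P := equivHom_mapEquiv F hαP hr
    have h1 : MulAut.congr e a ∈ E.autGroup A := congr_mem_of_frattini hE.2.2.1 hAT e (hE.2.2.2 P hP.1 _ hem) ha
    have h2 : ∃ k : ℕ, (MulAut.congr e a) ^ p ^ k = 1 := by
      obtain ⟨k, hk⟩ := hk
      exact ⟨k, by rw [← map_pow, hk, map_one]⟩
    have hAc : E.IsCentric A := centric_of_conj hE hP ⟨_, hαP, hr⟩
    have h3 := hD.paut A hAc _ h1 h2
    refine (mem_autGroup_iff _ hP.1 a).2 ⟨(mem_autGroup_iff E hP.1 a).1 ha, _,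
      (mem_autGroup_iff D hAc.1 _).1 h3, fun x hx hφx hαx => ?_⟩
    show ((e (a (e.symm ⟨_, hαx⟩)) : A) : Ω) = _
    rw [show e.symm ⟨_, hαx⟩ = x from e.injective ((e.apply_symm_apply _).trans (Subtype.ext rfl))]
    rfl
  · rintro P R φ h hP hφ hR ⟨hres, χ₀, hχ₀, hχ₀e⟩
    refine ⟨hφ, ?_⟩
    have hRT := hom_le E hφ
    obtain ⟨χ, hχ, hχe⟩ := hE.2.2.1 R hRT φ hφ α hα
    have hr : ((T.subtype.comp α.toMonoidHom).comp (Subgroup.inclusion hP.1)).range =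
      (P.subgroupOf T).map (T.subtype.comp α.toMonoidHom) := range_restrict _ hP.1
    refine ⟨χ, hD.ext _ _ χ (Subgroup.map_mono (Subgroup.comap_mono h))
      (centric_of_conj hE hP ⟨_, restrict_mem F hαm hP.1, hr⟩) hχ ?_ (hom_congr D hχ₀ fun y => ?_),
      fun x hx hφx hαx => hχe x hφx hαx⟩
    · rintro _ ⟨x, hx, rfl⟩
      refine ⟨(α x).2, ?_⟩
      haveI : Finite ((P.subgroupOf T).map (T.subtype.comp α.toMonoidHom)) :=
        finite_of_le (hr ▸ range_le F (restrict_mem F hαm hP.1))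
      exact apply_mem_normalizer _ hP.1 hr x (hR hx).2
    · obtain ⟨_, x, hx, rfl⟩ := y
      exact (hχe ⟨x, h hx⟩ (hom_apply_mem E hφ _) ⟨x, h hx, rfl⟩).trans
        (hχ₀e ⟨x, hx⟩ x.2 (hom_apply_mem E hφ _) ⟨x, hx, rfl⟩).symm

theorem pPrimeSys_autInvariant_of_invariant [Finite S] (p : ℕ) {F : FusionSystem S} {E : FusionSystem T}
    (hE : E.IsInvariantIn F) : AutInvariant F (pPrimeSys E p) := by
  intro P hP φ hφ α hα
  obtain ⟨-, χ, hχ, hχe⟩ := pPrimeSys_min (twist_closed_of_invariant hE (pPrimeSys_closed E p) hα) P hφ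
  exact ⟨χ, hχ, fun x hφx hαx => hχe x _ hφx hαx⟩

/-! ### Maps acting trivially on `C_S(T)` modulo `T` -/

/-- An extension over `C_S(T)` that is trivial there modulo `T`. -/
def GoodMap (F : FusionSystem S) (T : Subgroup Ω) (P : Subgroup Ω) (φ : P →* Ω) : Prop :=
  ∃ ψ ∈ F.Hom (P ⊔ centralizerIn S T), (∀ (x : P) (hx : (x : Ω) ∈ P ⊔ centralizerIn S T), ψ ⟨x, hx⟩ = φ x) ∧
    ∀ (c : Ω) (hc : c ∈ centralizerIn S T) (hc' : c ∈ P ⊔ centralizerIn S T), c⁻¹ * ψ ⟨c, hc'⟩ ∈ T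

variable {F : FusionSystem S}

theorem sup_eq_mul {P : Subgroup Ω} (hPT : P ≤ T) {x : Ω} (hx : x ∈ P ⊔ centralizerIn S T) :
    ∃ y ∈ P, ∃ c ∈ centralizerIn S T, y * c = x := by
  have h : P ≤ Subgroup.normalizer (centralizerIn S T : Set Ω) := fun y hy =>
    Subgroup.centralizer_le_normalizer _ (Subgroup.mem_centralizer_iff.2 fun c hc =>
      (Subgroup.mem_centralizer_iff.1 (hc : c ∈ centralizerIn S T).2 y (hPT hy)).symm)
  have hx' : x ∈ ((P ⊔ centralizerIn S T : Subgroup Ω) : Set Ω) := hx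
  rw [Subgroup.coe_mul_of_left_le_normalizer_right _ _ h] at hx'
  obtain ⟨y, hy, c, hc, rfl⟩ := hx'
  exact ⟨y, hy, c, hc, rfl⟩

theorem hom_ext_sup {P : Subgroup Ω} (hPT : P ≤ T) {f g : (P ⊔ centralizerIn S T : Subgroup Ω) →* Ω}
    (h1 : ∀ (y : Ω) (hy : y ∈ P), f ⟨y, Subgroup.mem_sup_left hy⟩ = g ⟨y, Subgroup.mem_sup_left hy⟩)
    (h2 : ∀ (c : Ω) (hc : c ∈ centralizerIn S T),
      f ⟨c, Subgroup.mem_sup_right hc⟩ = g ⟨c, Subgroup.mem_sup_right hc⟩) (x) : f x = g x := by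
  obtain ⟨x, hx⟩ := x
  obtain ⟨y, hy, c, hc, rfl⟩ := sup_eq_mul hPT hx
  rw [show (⟨y * c, hx⟩ : (P ⊔ centralizerIn S T : Subgroup Ω)) =
    ⟨y, Subgroup.mem_sup_left hy⟩ * ⟨c, Subgroup.mem_sup_right hc⟩ from rfl, map_mul, map_mul, h1 y hy, h2 c hc]

theorem good_values {E : FusionSystem T} {P : Subgroup Ω} (hP : E.IsCentric P) {φ : P →* Ω} (hφ : φ ∈ E.Hom P)
    {ψ : (P ⊔ centralizerIn S T : Subgroup Ω) →* Ω}
    (he : ∀ (x : P) (hx : (x : Ω) ∈ P ⊔ centralizerIn S T), ψ ⟨x, hx⟩ = φ x)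
    (hc : ∀ (c : Ω) (_ : c ∈ centralizerIn S T) (hc' : c ∈ P ⊔ centralizerIn S T), c⁻¹ * ψ ⟨c, hc'⟩ ∈ T) :
    (∀ c (hc0 : c ∈ centralizerIn S T), c⁻¹ * ψ ⟨c, Subgroup.mem_sup_right hc0⟩ ∈ φ.range) ∧
      ψ.range = φ.range ⊔ centralizerIn S T := by
  have h1 : ∀ c (hc0 : c ∈ centralizerIn S T), c⁻¹ * ψ ⟨c, Subgroup.mem_sup_right hc0⟩ ∈ φ.range := by
    intro c hc0
    refine hP.2 φ.range ⟨φ, hφ, rfl⟩ ⟨hc c hc0 _, Subgroup.mem_centralizer_iff.2 ?_⟩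
    rintro _ ⟨x, rfl⟩
    have hcomm : ∀ y ∈ T, y * c = c * y := fun y hy => Subgroup.mem_centralizer_iff.1 hc0.2 y hy
    have h2 : φ x * ψ ⟨c, Subgroup.mem_sup_right hc0⟩ = ψ ⟨c, Subgroup.mem_sup_right hc0⟩ * φ x := by
      rw [← he x (Subgroup.mem_sup_left x.2), ← map_mul, ← map_mul]
      exact congrArg ψ (Subtype.ext (hcomm x (hP.1 x.2)))
    have h3 : φ x * c⁻¹ = c⁻¹ * φ x := (show Commute (φ x) c from hcomm _ (hom_apply_mem E hφ x)).inv_right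
    rw [← mul_assoc, h3, mul_assoc, h2, mul_assoc]
  refine ⟨h1, le_antisymm ?_ (sup_le ?_ ?_)⟩
  · rintro _ ⟨⟨x, hx⟩, rfl⟩
    obtain ⟨y, hy, c, hc0, rfl⟩ := sup_eq_mul hP.1 hx
    rw [show (⟨y * c, hx⟩ : (P ⊔ centralizerIn S T : Subgroup Ω)) =
      ⟨y, Subgroup.mem_sup_left hy⟩ * ⟨c, Subgroup.mem_sup_right hc0⟩ from rfl, map_mul, he ⟨y, hy⟩]
    refine Subgroup.mul_mem _ (Subgroup.mem_sup_left ⟨_, rfl⟩) ?_
    rw [← mul_inv_cancel_left c (ψ ⟨c, _⟩)]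
    exact Subgroup.mul_mem _ (Subgroup.mem_sup_right hc0) (Subgroup.mem_sup_left (h1 c hc0))
  · rintro _ ⟨x, rfl⟩
    exact ⟨_, he x (Subgroup.mem_sup_left x.2)⟩
  · intro c hc0
    obtain ⟨x, hx⟩ := h1 c hc0
    refine ⟨⟨c, Subgroup.mem_sup_right hc0⟩ * ⟨(x : Ω), Subgroup.mem_sup_left x.2⟩⁻¹, ?_⟩
    rw [map_mul, map_inv, he x, hx]
    group

theorem good_comp {E : FusionSystem T} {P R : Subgroup Ω} {φ : P →* Ω} {φ' : R →* Ω} (hP : E.IsCentric P)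
    (hφ : φ ∈ E.Hom P) (hφ' : φ' ∈ E.Hom R) (h : GoodMap F T P φ) (h' : GoodMap F T R φ') (hR : ∀ x, φ x ∈ R) :
    GoodMap F T P (φ'.comp (φ.codRestrict R hR)) := by
  obtain ⟨ψ, hψ, he, hc⟩ := h
  obtain ⟨ψ', hψ', he', hc'⟩ := h'
  obtain ⟨h1, h2⟩ := good_values hP hφ he hc
  have hle : φ.range ≤ R := by rintro _ ⟨x, rfl⟩; exact hR x
  have hv : ∀ x, ψ x ∈ R ⊔ centralizerIn S T := fun x => sup_le_sup_right hle _ (h2.le ⟨x, rfl⟩)
  refine ⟨_, F.comp_mem hψ hψ' hv, fun x hx => ?_, fun c hc0 hcm => ?_⟩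
  · exact (apply_congr ψ' (he x hx) _ (Subgroup.mem_sup_left (hR x))).trans (he' ⟨φ x, hR x⟩ _)
  · have ht := hle (h1 c hc0)
    show c⁻¹ * ψ' ⟨ψ ⟨c, hcm⟩, hv _⟩ ∈ T
    rw [show (⟨ψ ⟨c, hcm⟩, hv _⟩ : (R ⊔ centralizerIn S T : Subgroup Ω)) =
      ⟨c, Subgroup.mem_sup_right hc0⟩ * ⟨c⁻¹ * ψ ⟨c, hcm⟩, Subgroup.mem_sup_left ht⟩ from
      Subtype.ext (mul_inv_cancel_left c _).symm, map_mul, ← mul_assoc, he' ⟨_, ht⟩]
    exact T.mul_mem (hc' c hc0 _) (hom_apply_mem E hφ' _)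

theorem good_restrict {P Q : Subgroup Ω} {φ : P →* Ω} (h : GoodMap F T P φ) (hQP : Q ≤ P) :
    GoodMap F T Q (φ.comp (Subgroup.inclusion hQP)) := by
  obtain ⟨ψ, hψ, he, hc⟩ := h
  exact ⟨_, restrict_mem F hψ (sup_le_sup_right hQP _), fun x hx => he (Subgroup.inclusion hQP x) _,
    fun c hc0 hc' => hc c hc0 _⟩

theorem good_congr {P : Subgroup Ω} {φ φ' : P →* Ω} (h : GoodMap F T P φ) (he : ∀ x, φ' x = φ x) :
    GoodMap F T P φ' :=
  (MonoidHom.ext he : φ' = φ) ▸ h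

theorem good_conj {P : Subgroup Ω} (hTS : T ≤ S) (hPT : P ≤ T) {g : Ω} (hg : g ∈ T) :
    GoodMap F T P (conjHom P g) := by
  refine ⟨_, F.conj_mem (sup_le (hPT.trans hTS) (centralizerIn_le S T)) (hTS hg), fun x hx => rfl, fun c hc hc' => ?_⟩
  show c⁻¹ * (g * c * g⁻¹) ∈ T
  rw [Subgroup.mem_centralizer_iff.1 hc.2 g hg, mul_inv_cancel_right, inv_mul_cancel]
  exact T.one_mem

theorem good_inv {E : FusionSystem T} {P : Subgroup Ω} {φ : P →* Ω} (hP : E.IsCentric P) (hφ : φ ∈ E.Hom P)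
    (h : GoodMap F T P φ) {θ : φ.range →* Ω} (hθ : θ ∈ E.Hom φ.range) (hθe : ∀ x, θ ⟨φ x, x, rfl⟩ = x) :
    GoodMap F T φ.range θ := by
  obtain ⟨ψ, hψ, he, hc⟩ := h
  obtain ⟨h1, h2⟩ := good_values hP hφ he hc
  obtain ⟨ψi, hψi, hψie, -, -⟩ := exists_inv_imgOf F hψ
  refine ⟨ψi.comp (Subgroup.inclusion h2.ge), restrict_mem F hψi h2.ge, ?_, fun c hc0 hc' => ?_⟩
  · rintro ⟨_, x, rfl⟩ hy
    refine Eq.trans (apply_congr ψi (he x (Subgroup.mem_sup_left x.2)).symm _ ⟨_, rfl⟩) ?_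
    exact (hψie _ _).trans (hθe x).symm
  · obtain ⟨x, hx⟩ := h1 c hc0
    have e : c = ψ (⟨c, Subgroup.mem_sup_right hc0⟩ * ⟨(x : Ω), Subgroup.mem_sup_left x.2⟩⁻¹) := by
      rw [map_mul, map_inv, he x, hx]
      group
    show c⁻¹ * ψi ⟨c, _⟩ ∈ T
    refine Eq.mpr (congrArg (fun z => c⁻¹ * z ∈ T) ((apply_congr ψi e (h2.ge hc') ⟨_, rfl⟩).trans (hψie _ _))) ?_
    show c⁻¹ * (c * (x : Ω)⁻¹) ∈ T
    rw [inv_mul_cancel_left]
    exact T.inv_mem (hP.1 x.2)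

/-- The maps of `E` that are good on centric sources. -/
def goodSys (F : FusionSystem S) (E : FusionSystem T) (hTS : T ≤ S) : FusionSystem T where
  Hom P := {φ | φ ∈ E.Hom P ∧ (E.IsCentric P → GoodMap F T P φ)}
  le_of_mem h := E.le_of_mem h.1
  injective_of_mem h := E.injective_of_mem h.1
  conj_mem hP hg := ⟨E.conj_mem hP hg, fun _ => good_conj hTS hP hg⟩
  comp_mem {P R φ ψ} hφ hψ h := ⟨E.comp_mem hφ.1 hψ.1 h, fun hP =>
    good_comp hP hφ.1 hψ.1 (hφ.2 hP) (hψ.2 (isCentric_mono (isCentric_isConj hP ⟨φ, hφ.1, rfl⟩)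
      (by rintro _ ⟨x, rfl⟩; exact h x) (hom_le E hψ.1))) h⟩
  inv_mem {P φ} hφ := by
    obtain ⟨θ, hθ, hθe⟩ := E.inv_mem hφ.1
    refine ⟨θ, ⟨hθ, fun hc => ?_⟩, hθe⟩
    exact good_inv (isCentric_isConj hc (isConj_symm ⟨φ, hφ.1, rfl⟩)) hφ.1
      (hφ.2 (isCentric_isConj hc (isConj_symm ⟨φ, hφ.1, rfl⟩))) hθ hθe

variable [Finite S] {p : ℕ} [hp : Fact p.Prime] {E : FusionSystem T}

theorem fullyNormalized_of_stronglyClosed (hT : F.StronglyClosed T) : F.IsFullyNormalized T := by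
  refine ⟨hT.1, fun Q _ => ?_⟩
  haveI := finite_of_le (normalizerIn_le S T)
  exact Subgroup.card_le_of_le (le_inf (normalizerIn_le S Q) ((normalizerIn_le S Q).trans (stronglyClosed_le_normalizer hT)))

/-- An automorphism of `T` extends to `T C_S(T)`, mapping `C_S(T)` onto itself. -/
theorem exists_top_ext (hS : IsPGroup p S) (hF : F.IsSaturated p) (hT : F.StronglyClosed T) {α : MulAut T}
    (hα : α ∈ F.autGroup T) : ∃ σ ∈ F.autGroup (T ⊔ centralizerIn S T),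
      (∀ x : T, ((σ (Subgroup.inclusion le_sup_left x) : (T ⊔ centralizerIn S T : Subgroup Ω)) : Ω) = α x) ∧
      ∀ c : (T ⊔ centralizerIn S T : Subgroup Ω), (c : Ω) ∈ centralizerIn S T → ((σ c : _) : Ω) ∈ centralizerIn S T := by
  have hm := aut_hom F hT.1 hα
  have hr : (T.subtype.comp α.toMonoidHom).range = T := by
    rw [MonoidHom.range_comp, MonoidHom.range_eq_top.2 α.surjective, ← MonoidHom.range_eq_map, Subgroup.range_subtype]
  obtain ⟨ψ, hψ, hψe⟩ := (fullyNormalized_receptive hS hF (fullyNormalized_of_stronglyClosed hT)).2 T _ hm hr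
  have hle := centralizerIn_sup_le_extender F hm
  have hψ' := restrict_mem F hψ hle
  set ν := ψ.comp (Subgroup.inclusion hle)
  have he : ∀ (x : Ω) (hx : x ∈ T), ν ⟨x, Subgroup.mem_sup_left hx⟩ = α ⟨x, hx⟩ := fun x hx => hψe x hx _
  have hC : ∀ (c : Ω) (hc : c ∈ centralizerIn S T), ν ⟨c, Subgroup.mem_sup_right hc⟩ ∈ centralizerIn S T := by
    intro c hc
    refine ⟨hom_apply_mem F hψ' _, apply_mem_centralizer ν le_sup_left ?_ _ hc.2⟩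
    rw [show ν.comp (Subgroup.inclusion le_sup_left) = T.subtype.comp α.toMonoidHom from
      MonoidHom.ext fun x => he x x.2, hr]
  have hrange : ν.range = T ⊔ centralizerIn S T := by
    haveI : Finite (T ⊔ centralizerIn S T : Subgroup Ω) := finite_of_le (sup_le hT.1 (centralizerIn_le S T))
    refine Subgroup.eq_of_le_of_card_ge ?_ (isConj_card ⟨ν, hψ', rfl⟩).le
    rintro _ ⟨⟨x, hx⟩, rfl⟩
    obtain ⟨y, hy, c, hc, rfl⟩ := sup_eq_mul le_rfl hx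
    rw [show (⟨y * c, hx⟩ : (T ⊔ centralizerIn S T : Subgroup Ω)) =
      ⟨y, Subgroup.mem_sup_left hy⟩ * ⟨c, Subgroup.mem_sup_right hc⟩ from rfl, map_mul, he y hy]
    exact Subgroup.mul_mem _ (Subgroup.mem_sup_left (α _).2) (Subgroup.mem_sup_right (hC c hc))
  obtain ⟨σ, hσ, hσe⟩ := exists_autGroup_of_range F hψ' hrange
  exact ⟨σ, hσ, fun x => (hσe _).trans (he x x.2), fun c hc => by rw [hσe]; exact hC c hc⟩

theorem goodSys_autInvariant (hS : IsPGroup p S) (hE : E.IsWeaklyNormalIn F p) :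
    AutInvariant E (goodSys F E hE.2.2.2.1.1) := by
  intro P hP φ hφ α hα
  obtain ⟨hEs, hFs, hEi⟩ := id hE
  have hαF := autGroup_mono hEi.1 T hα
  obtain ⟨χ, hχ, hχe⟩ := hEi.2.2.1 P hP φ hφ.1 α hαF
  refine ⟨χ, ⟨hχ, fun hA => ?_⟩, hχe⟩
  have hαm := aut_hom F hEi.2.1.1 hαF
  have hPc : E.IsCentric P :=
    centric_of_conj hEi hA (isConj_symm ⟨_, restrict_mem F hαm hP, range_restrict _ hP⟩)
  obtain ⟨ψ, hψ, he, hc⟩ := hφ.2 hPc
  obtain ⟨-, h2⟩ := good_values hPc hφ.1 he hc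
  obtain ⟨σ, hσ, hσT, hσC⟩ := exists_top_ext hS hFs hEi.2.1 hαF
  obtain ⟨σ', hσ'r, hσ'e⟩ : ∃ τ : MulAut (T ⊔ centralizerIn S T : Subgroup Ω), τ ∈ F.autGroup _ ∧ τ = σ⁻¹ :=
    ⟨σ⁻¹, Subgroup.inv_mem _ hσ, rfl⟩
  subst hσ'e
  haveI : Finite (T ⊔ centralizerIn S T : Subgroup Ω) := finite_of_le (sup_le hEi.2.1.1 (centralizerIn_le S T))
  have hCi : ∀ c : (T ⊔ centralizerIn S T : Subgroup Ω), (c : Ω) ∈ centralizerIn S T →
      ((σ⁻¹ c : _) : Ω) ∈ centralizerIn S T := by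
    intro c hc
    let f : (centralizerIn S T) → (centralizerIn S T) := fun d =>
      ⟨(σ ⟨d, Subgroup.mem_sup_right d.2⟩ : _), hσC _ d.2⟩
    haveI := finite_of_le (centralizerIn_le S T)
    have hinj : Function.Injective f := fun d e hde => by
      have := σ.injective (Subtype.ext (congrArg (fun z : centralizerIn S T => (z : Ω)) hde))
      exact Subtype.ext (congrArg (fun z : (T ⊔ centralizerIn S T : Subgroup Ω) => (z : Ω)) this)
    obtain ⟨d, hd⟩ := Finite.surjective_of_injective hinj ⟨c, hc⟩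
    have e : σ ⟨d, Subgroup.mem_sup_right d.2⟩ = c :=
      Subtype.ext (congrArg (fun z : centralizerIn S T => (z : Ω)) hd)
    rw [← e, MulAut.inv_apply_self]
    exact d.2
  set A := (P.subgroupOf T).map (T.subtype.comp α.toMonoidHom) with hAdef
  have hAT : A ≤ T := hA.1
  have hαi : ∀ (x : T), σ⁻¹ ⟨(α x : T), Subgroup.mem_sup_left (α x).2⟩ = Subgroup.inclusion le_sup_left x := by
    intro x
    rw [show (⟨(α x : T), Subgroup.mem_sup_left (α x).2⟩ : (T ⊔ centralizerIn S T : Subgroup Ω)) =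
      σ (Subgroup.inclusion le_sup_left x) from Subtype.ext (hσT x).symm, MulAut.inv_apply_self]
  have hm₁ := restrict_mem F ((mem_autGroup_iff F (sup_le hEi.2.1.1 (centralizerIn_le S T)) _).1 hσ'r)
    (sup_le_sup_right hAT (centralizerIn S T))
  have hv₁ : ∀ y : (A ⊔ centralizerIn S T : Subgroup Ω),
      ((σ⁻¹ (Subgroup.inclusion (sup_le_sup_right hAT _) y) : _) : Ω) ∈ P ⊔ centralizerIn S T := by
    rintro ⟨y, hy⟩
    obtain ⟨_, ⟨x, hx, rfl⟩, c, hc0, rfl⟩ := sup_eq_mul hAT hy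
    rw [show (Subgroup.inclusion (sup_le_sup_right hAT (centralizerIn S T)) ⟨_, hy⟩) =
      ⟨(α x : T), Subgroup.mem_sup_left (α x).2⟩ * ⟨c, Subgroup.mem_sup_right hc0⟩ from rfl, map_mul, hαi]
    exact Subgroup.mul_mem _ (Subgroup.mem_sup_left hx) (Subgroup.mem_sup_right (hCi _ hc0))
  have hm₂ := F.comp_mem hm₁ hψ hv₁
  have hφT : φ.range ⊔ centralizerIn S T ≤ T ⊔ centralizerIn S T :=
    sup_le_sup_right (range_le E hφ.1) _
  have hm₃ := F.comp_mem hm₂ ((mem_autGroup_iff F (sup_le hEi.2.1.1 (centralizerIn_le S T)) _).1 hσ)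
    fun y => hφT (h2.le ⟨_, rfl⟩)
  refine ⟨_, hm₃, ?_, fun c hc0 hc' => ?_⟩
  · rintro ⟨_, x, hx, rfl⟩ hy
    refine Eq.trans ?_ (hχe ⟨x, hx⟩ (hom_apply_mem E hφ.1 _) ⟨x, hx, rfl⟩).symm
    show ((σ ⟨ψ ⟨(σ⁻¹ _ : (T ⊔ centralizerIn S T : Subgroup Ω)), _⟩, _⟩ : _) : Ω) = _
    refine Eq.trans ?_ (hσT ⟨φ ⟨x, hx⟩, hom_apply_mem E hφ.1 _⟩)
    refine congrArg (fun z : (T ⊔ centralizerIn S T : Subgroup Ω) => ((σ z : _) : Ω)) (Subtype.ext ?_)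
    refine Eq.trans (apply_congr ψ ?_ _ (Subgroup.mem_sup_left hx)) (he ⟨x, hx⟩ _)
    exact congrArg (fun z : (T ⊔ centralizerIn S T : Subgroup Ω) => (z : Ω)) (hαi x)
  · show c⁻¹ * ((σ ⟨ψ ⟨(σ⁻¹ ⟨c, Subgroup.mem_sup_right hc0⟩ : (T ⊔ centralizerIn S T : Subgroup Ω)), _⟩, _⟩ : _) : Ω) ∈ T
    set d := σ⁻¹ ⟨c, Subgroup.mem_sup_right hc0⟩ with hd
    have hdC : (d : Ω) ∈ centralizerIn S T := hCi _ hc0
    have ht := hc d hdC (Subgroup.mem_sup_right hdC)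
    have e : ∀ h, (⟨ψ ⟨(d : Ω), hv₁ ⟨c, hc'⟩⟩, h⟩ : (T ⊔ centralizerIn S T : Subgroup Ω)) =
        d * ⟨(d : Ω)⁻¹ * ψ ⟨(d : Ω), hv₁ ⟨c, hc'⟩⟩, Subgroup.mem_sup_left ht⟩ := fun h =>
      Subtype.ext (mul_inv_cancel_left (d : Ω) _).symm
    refine Eq.mpr (congrArg (fun z : (T ⊔ centralizerIn S T : Subgroup Ω) => c⁻¹ * ((σ z : _) : Ω) ∈ T) (e _)) ?_
    rw [map_mul, show σ d = ⟨c, Subgroup.mem_sup_right hc0⟩ from MulAut.apply_inv_self _ σ _]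
    show c⁻¹ * (c * _) ∈ T
    rw [inv_mul_cancel_left]
    exact (hσT ⟨_, ht⟩).symm ▸ (α ⟨_, ht⟩).2

/-- `p`-elements on centric subgroups are good. -/
theorem good_paut (hS : IsPGroup p S) (hE : E.IsWeaklyNormalIn F p) {P : Subgroup Ω} (hP : E.IsCentric P)
    {a : MulAut P} (ha : a ∈ E.autGroup P) (hk : ∃ k : ℕ, a ^ p ^ k = 1) :
    a ∈ (goodSys F E hE.2.2.2.1.1).autGroup P := by
  obtain ⟨hEs, hFs, hEi⟩ := id hE
  have hT := hEi.2.1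
  have hPS := hP.1.trans hT.1
  refine (mem_autGroup_iff _ hP.1 a).2 ⟨(mem_autGroup_iff E hP.1 a).1 ha, fun _ => ?_⟩
  haveI : Finite T := finite_of_le hT.1
  obtain ⟨Q, hPQ, hQ⟩ := exists_fullyNormalized F hPS
  obtain ⟨θ, hθ, hθN, hθP⟩ := exists_normalizer_map_fullyNormalized hS hFs hQ hPQ
  have hQT : Q ≤ T := isConj_le_stronglyClosed hT hP.1 hPQ
  have hQc : E.IsCentric Q := centric_of_conj hEi hP hPQ
  haveI := finite_of_le hQ.1
  have hPN := le_normalizerIn hPS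
  have hθP' := restrict_mem F hθ hPN
  set e := mapEquiv F hθP' (extend_restrict_range _ hθP)
  have hem : equivHom e ∈ F.Hom P := equivHom_mapEquiv F hθP' _
  have ha' : MulAut.congr e a ∈ E.autGroup Q :=
    congr_mem_of_frattini hEi.2.2.1 hQT e (hEi.2.2.2 P hP.1 _ hem) ha
  have hTp : IsPGroup p T := hS.to_le hT.1
  have hQE : E.IsFullyNormalized Q := fullyNormalized_subsystem hS hFs hT hEi.1 hQT hQ
  have hZ : IsPGroup p (Subgroup.zpowers (MulAut.congr e a)) := by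
    obtain ⟨k, hk⟩ := hk
    rintro ⟨_, j, rfl⟩
    refine ⟨k, Subtype.ext ?_⟩
    show ((MulAut.congr e a) ^ j) ^ p ^ k = 1
    rw [← zpow_natCast, ← _root_.zpow_mul, mul_comm, _root_.zpow_mul, zpow_natCast, ← map_pow, hk, map_one,
      _root_.one_zpow]
  obtain ⟨γ, hγ, hle⟩ := (isSyl_of_fullyAutomized (fullyNormalized_imp hTp hEs hQE).2).exists_conj hZ
    (Subgroup.zpowers_le.2 ha')
  obtain ⟨g, hg, hge⟩ := (mem_autInducedBy_iff _).1 (hle ⟨_, Subgroup.mem_zpowers _, rfl⟩)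
  -- the extension of `γ` over `C_S(Q)`
  set CQ := centralizerIn S Q with hCQ
  have hγm := (mem_autGroup_iff F hQ.1 γ).1 (autGroup_mono hEi.1 Q hγ)
  have hγr : (Q.subtype.comp γ.toMonoidHom).range = Q := equivHom_range γ
  obtain ⟨σ₀, hσ₀, hσ₀e⟩ := (fullyNormalized_receptive hS hFs hQ).2 Q _ hγm hγr
  have hσle := centralizerIn_sup_le_extender F hγm
  have hσ := restrict_mem F hσ₀ hσle
  set σ := σ₀.comp (Subgroup.inclusion hσle)
  have hσQ : ∀ (x : Ω) (hx : x ∈ Q), σ ⟨x, Subgroup.mem_sup_left hx⟩ = γ ⟨x, hx⟩ := fun x hx => hσ₀e x hx _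
  have hσC : ∀ (c : Ω) (hc : c ∈ CQ), σ ⟨c, Subgroup.mem_sup_right hc⟩ ∈ CQ := fun c hc =>
    ⟨hom_apply_mem F hσ _, apply_mem_centralizer σ le_sup_left
      (by rw [show σ.comp (Subgroup.inclusion le_sup_left) = Q.subtype.comp γ.toMonoidHom from
        MonoidHom.ext fun x => hσQ x x.2, hγr]) _ hc.2⟩
  haveI : Finite (Q ⊔ CQ : Subgroup Ω) := finite_of_le (sup_le hQ.1 (centralizerIn_le S Q))
  have hσr : σ.range = Q ⊔ CQ := by
    refine Subgroup.eq_of_le_of_card_ge ?_ (isConj_card ⟨σ, hσ, rfl⟩).le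
    rw [MonoidHom.range_eq_map, Subgroup.map_le_iff_le_comap]
    rintro ⟨x, hx⟩ -
    have h : Q ⊔ CQ ≤ ((Q ⊔ CQ).comap σ).map (Q ⊔ CQ).subtype := sup_le
      (fun y hy => ⟨⟨y, Subgroup.mem_sup_left hy⟩, Subgroup.mem_sup_left (hσQ y hy ▸ (γ _).2), rfl⟩)
      (fun y hy => ⟨⟨y, Subgroup.mem_sup_right hy⟩, Subgroup.mem_sup_right (hσC y hy), rfl⟩)
    obtain ⟨z, hz, hzx⟩ := h hx
    rwa [show z = ⟨x, hx⟩ from Subtype.ext hzx] at hz
  obtain ⟨σi, hσi, hσie, hσir, -⟩ := exists_inv_imgOf F hσ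
  have hgS : g ∈ S := hT.1 hg
  have hgN : g ∈ Subgroup.normalizer (Q : Set Ω) := mem_normalizer_of_autInduced hge
  have hz : ∀ (d : Ω), d ∈ CQ → d⁻¹ * (g * d * g⁻¹) ∈ Q := by
    intro d hd
    refine hQc.2 Q (isConj_refl E hQT) ⟨?_, ?_⟩
    · have h1 : d⁻¹ * g * d ∈ T :=
        (Subgroup.mem_normalizer_iff''.1 (stronglyClosed_le_normalizer hT hd.1) g).1 hg
      have := T.mul_mem h1 (T.inv_mem hg)
      simpa [mul_assoc] using this
    · refine Subgroup.mul_mem _ (Subgroup.inv_mem _ hd.2) ?_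
      refine Subgroup.mem_centralizer_iff.2 fun y hy => ?_
      have h2 := Subgroup.mem_centralizer_iff.1 hd.2 (g⁻¹ * y * g) ((Subgroup.mem_normalizer_iff''.1 hgN y).1 hy)
      calc y * (g * d * g⁻¹) = g * ((g⁻¹ * y * g) * d) * g⁻¹ := by group
        _ = g * (d * (g⁻¹ * y * g)) * g⁻¹ := by rw [h2]
        _ = g * d * g⁻¹ * y := by group
  have hvg : ∀ y, ((conjHom (Q ⊔ CQ) g).comp (σ.codRestrict (Q ⊔ CQ) fun x => hσr.le ⟨x, rfl⟩)) y ∈ σ.range := by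
    intro y
    refine hσr.ge ?_
    show g * σ y * g⁻¹ ∈ Q ⊔ CQ
    have h : Q ⊔ CQ ≤ ((Q ⊔ CQ).comap ((conjHom (Q ⊔ CQ) g))).map (Q ⊔ CQ).subtype := sup_le
      (fun y hy => ⟨⟨y, Subgroup.mem_sup_left hy⟩,
        Subgroup.mem_sup_left ((Subgroup.mem_normalizer_iff.1 hgN y).1 hy), rfl⟩)
      (fun y hy => ⟨⟨y, Subgroup.mem_sup_right hy⟩, show g * y * g⁻¹ ∈ Q ⊔ CQ by
        rw [← mul_inv_cancel_left y (g * y * g⁻¹)]
        exact Subgroup.mul_mem _ (Subgroup.mem_sup_right hy) (Subgroup.mem_sup_left (hz y hy)), rfl⟩)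
    obtain ⟨z, hzm, hzx⟩ := h (hσr.le ⟨y, rfl⟩)
    have hzm' : g * (z : Ω) * g⁻¹ ∈ Q ⊔ CQ := hzm
    rwa [show (z : Ω) = σ y from hzx] at hzm'
  have hψQ := F.comp_mem (F.comp_mem hσ (F.conj_mem (sup_le hQ.1 (centralizerIn_le S Q)) hgS)
    fun x => hσr.le ⟨x, rfl⟩) hσi hvg
  set ψQ := σi.comp (((conjHom (Q ⊔ CQ) g).comp (σ.codRestrict (Q ⊔ CQ) fun x => hσr.le ⟨x, rfl⟩)).codRestrict
    σ.range hvg)
  have hψQe : ∀ x : Q, ψQ (Subgroup.inclusion le_sup_left x) = ((MulAut.congr e a x : Q) : Ω) := by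
    intro x
    show σi ⟨g * σ (Subgroup.inclusion le_sup_left x) * g⁻¹, _⟩ = _
    have h1 := hge (γ x)
    rw [show ((MulAut.conj γ).toMonoidHom (MulAut.congr e a)) (γ x) = γ (MulAut.congr e a x) by
      simp [MulAut.mul_apply]] at h1
    have h2 : g * σ (Subgroup.inclusion le_sup_left x) * g⁻¹ =
        σ (Subgroup.inclusion le_sup_left (MulAut.congr e a x)) := by
      rw [show σ (Subgroup.inclusion le_sup_left x) = γ x from hσQ x x.2,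
        show σ (Subgroup.inclusion le_sup_left (MulAut.congr e a x)) = γ (MulAut.congr e a x) from hσQ _ (Subtype.mem _)]
      exact h1.symm
    exact (apply_congr σi h2 _ ⟨_, rfl⟩).trans (hσie _ _)
  have hψQc : ∀ (c : Ω) (hc : c ∈ CQ), c⁻¹ * ψQ ⟨c, Subgroup.mem_sup_right hc⟩ ∈ Q := by
    intro c hc
    set d := σ ⟨c, Subgroup.mem_sup_right hc⟩
    obtain ⟨w, hw⟩ : ∃ w : Q, (γ w : Ω) = d⁻¹ * (g * d * g⁻¹) :=
      ⟨γ.symm ⟨_, hz d (hσC c hc)⟩, congrArg Subtype.val (γ.apply_symm_apply _)⟩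
    show c⁻¹ * σi ⟨g * d * g⁻¹, _⟩ ∈ Q
    have h2 : g * d * g⁻¹ = σ (⟨c, Subgroup.mem_sup_right hc⟩ * Subgroup.inclusion le_sup_left w) := by
      rw [map_mul, show σ (Subgroup.inclusion le_sup_left w) = γ w from hσQ w w.2, hw, mul_inv_cancel_left]
    refine Eq.mpr (congrArg (fun z => c⁻¹ * z ∈ Q) ((apply_congr σi h2 _ ⟨_, rfl⟩).trans (hσie _ _))) ?_
    show c⁻¹ * (c * (w : Ω)) ∈ Q
    rw [inv_mul_cancel_left]
    exact w.2
  -- back to `P`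
  have hC : centralizerIn S T ≤ centralizerIn S P := inf_le_inf_left S (Subgroup.centralizer_le hP.1)
  have hA : P ⊔ centralizerIn S T ≤ normalizerIn S P := sup_le hPN (hC.trans (centralizerIn_le_normalizerIn S P))
  have hθA := restrict_mem F hθ hA
  set θA := θ.comp (Subgroup.inclusion hA)
  have hθC : ∀ (c : Ω) (hc : c ∈ centralizerIn S T), θA ⟨c, Subgroup.mem_sup_right hc⟩ ∈ CQ := fun c hc =>
    ⟨hom_apply_mem F hθA _, apply_mem_centralizer θ hPN (extend_restrict_range _ hθP) _ (hC hc).2⟩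
  have hθv : ∀ x, θA x ∈ Q ⊔ CQ := by
    rintro ⟨x, hx⟩
    obtain ⟨y, hy, c, hc, rfl⟩ := sup_eq_mul hP.1 hx
    rw [show (⟨y * c, hx⟩ : (P ⊔ centralizerIn S T : Subgroup Ω)) =
      ⟨y, Subgroup.mem_sup_left hy⟩ * ⟨c, Subgroup.mem_sup_right hc⟩ from rfl, map_mul]
    exact Subgroup.mul_mem _ (Subgroup.mem_sup_left ((extend_restrict_range hPN hθP).le ⟨⟨y, hy⟩, rfl⟩))
      (Subgroup.mem_sup_right (hθC c hc))
  obtain ⟨θi, hθi, hθie, -, -⟩ := exists_inv_imgOf F hθA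
  have h1 : ∀ (y : Ω) (hy : y ∈ P), ψQ ⟨θA ⟨y, Subgroup.mem_sup_left hy⟩, hθv _⟩ =
      θA (Subgroup.inclusion le_sup_left (a ⟨y, hy⟩)) := by
    intro y hy
    refine Eq.trans (apply_congr ψQ (mapEquiv_apply F hθP' (extend_restrict_range _ hθP) ⟨y, hy⟩).symm _
      (Subgroup.mem_sup_left (e ⟨y, hy⟩).2)) ?_
    refine Eq.trans (hψQe (e ⟨y, hy⟩)) ?_
    show ((e (a (e.symm (e ⟨y, hy⟩))) : Q) : Ω) = _
    rw [e.symm_apply_apply]
    rfl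
  have h2 : ∀ (c : Ω) (hc : c ∈ centralizerIn S T), ∃ w : P, ψQ ⟨θA ⟨c, Subgroup.mem_sup_right hc⟩, hθv _⟩ =
      θA (⟨c, Subgroup.mem_sup_right hc⟩ * Subgroup.inclusion le_sup_left w) := by
    intro c hc
    refine ⟨e.symm ⟨_, hψQc _ (hθC c hc)⟩, ?_⟩
    rw [map_mul, show θA (Subgroup.inclusion le_sup_left (e.symm ⟨_, hψQc _ (hθC c hc)⟩)) =
      ((e (e.symm ⟨_, hψQc _ (hθC c hc)⟩) : Q) : Ω) from rfl, e.apply_symm_apply, mul_inv_cancel_left]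
  have hv : ∀ x, (ψQ.comp (θA.codRestrict (Q ⊔ CQ) hθv)) x ∈ θA.range := by
    rintro ⟨x, hx⟩
    obtain ⟨y, hy, c, hc, rfl⟩ := sup_eq_mul hP.1 hx
    rw [show (⟨y * c, hx⟩ : (P ⊔ centralizerIn S T : Subgroup Ω)) =
      ⟨y, Subgroup.mem_sup_left hy⟩ * ⟨c, Subgroup.mem_sup_right hc⟩ from rfl, map_mul]
    obtain ⟨w, hw⟩ := h2 c hc
    exact Subgroup.mul_mem _ ⟨_, (h1 y hy).symm⟩ ⟨_, hw.symm⟩
  refine ⟨_, F.comp_mem (F.comp_mem hθA hψQ hθv) hθi hv, fun x hx => ?_, fun c hc hc' => ?_⟩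
  · exact (apply_congr θi (h1 x x.2) _ ⟨_, rfl⟩).trans (hθie _ _)
  · obtain ⟨w, hw⟩ := h2 c hc
    show c⁻¹ * θi ⟨ψQ ⟨θA ⟨c, hc'⟩, _⟩, _⟩ ∈ T
    refine Eq.mpr (congrArg (fun z => c⁻¹ * z ∈ T) ((apply_congr θi hw _ ⟨_, rfl⟩).trans (hθie _ _))) ?_
    show c⁻¹ * (c * (w : Ω)) ∈ T
    rw [inv_mul_cancel_left]
    exact hP.1 w.2

end Cfsg.Agent.FusionSys
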