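import Cfsg.Agent.Lib.Fusion.CentralLiftAut
import Cfsg.Agent.Lib.Fusion.GeneratedStab
import Cfsg.Agent.Lib.Fusion.ResidualNormal

/-!
# The surplus automorphisms are central modulo inner automorphisms

An automorphism trivial modulo `Z` commutes, modulo inner automorphisms, with the automizers of the preimage
system on subgroups with centric image.
-/

set_option autoImplicit false

namespace Cfsg.Agent.FusionSys.CentLift

open Cfsg Cfsg.FusionSystem

variable {Ω : Type*} [Group Ω] {S : Subgroup Ω} {Ω' : Type*} [Group Ω'] {S' T' : Subgroup Ω'}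
  {F : FusionSystem S} {p : ℕ} {Z : Subgroup Ω} {θ : S →* Ω'} {Fb : FusionSystem S'} {E : FusionSystem T'}
  (h : Setup p F Z θ Fb E) [Finite S] [hp : Fact p.Prime]

/-- The map to the automizer of the image. -/
noncomputable def barHom {P : Subgroup Ω} (hPT : P ≤ preimageAlong θ T') :
    (dSys h).autGroup P →* MulAut ↥(imageAlong θ P) :=
  MonoidHom.mk' (fun α => (h.exists_bar hPT α.2).choose) fun α β =>
    isBar_unique (hPT.trans (le_preimageAlong _ _)) (h.exists_bar hPT (α * β).2).choose_spec.2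
      (isBar_mul (hPT.trans (le_preimageAlong _ _)) (h.exists_bar hPT α.2).choose_spec.2
        (h.exists_bar hPT β.2).choose_spec.2)

include h

omit hp in
theorem Setup.barHom_spec {P : Subgroup Ω} (hPT : P ≤ preimageAlong θ T') (α : (dSys h).autGroup P) :
    IsBar θ (α : MulAut P) (barHom h hPT α) :=
  (h.exists_bar hPT α.2).choose_spec.2

omit hp in
theorem Setup.barHom_range {P : Subgroup Ω} (hZP : Z ≤ P) (hPT : P ≤ preimageAlong θ T') :
    (barHom h hPT).range = E.autGroup (imageAlong θ P) := by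
  refine le_antisymm ?_ fun β hβ => ?_
  · rintro _ ⟨α, rfl⟩
    exact (h.exists_bar hPT α.2).choose_spec.1
  · obtain ⟨α, hα, hb⟩ := h.bar_surj hZP hPT hβ
    exact ⟨⟨α, hα⟩, isBar_unique (hPT.trans (le_preimageAlong _ _)) (h.barHom_spec hPT _) hb⟩

omit hp in
theorem Setup.barHom_eq_one {P : Subgroup Ω} (hPT : P ≤ preimageAlong θ T') (α : (dSys h).autGroup P) :
    barHom h hPT α = 1 ↔ (α : MulAut P) ∈ kerSub h P := by
  have hPS : P ≤ S := hPT.trans (le_preimageAlong _ _)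
  refine ⟨fun he => h.bar_one hPS (autGroup_mono h.d_le P α.2) ?_, fun hk =>
    isBar_unique hPS (h.barHom_spec hPT α) (h.bar_of_ker hk)⟩
  rw [← he]
  exact h.barHom_spec hPT α

/-- A fully normalized subgroup has fully normalized image. -/
theorem Setup.im_fullyNormalized {P : Subgroup Ω} (hZP : Z ≤ P) (hPT : P ≤ preimageAlong θ T')
    (hP : F.IsFullyNormalized P) : E.IsFullyNormalized (imageAlong θ P) := by
  refine ⟨h.im_le_T hPT, ?_⟩
  rintro A' ⟨φ', hφ', hr⟩
  haveI := h.finiteT'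
  have hA' : A' ≤ T' := hr ▸ range_le E hφ'
  obtain ⟨φ, hφ, hi⟩ := h.d_lift hφ'
  have hPS : P ≤ S := hPT.trans (le_preimageAlong _ _)
  have hrange : φ.range = preimageAlong θ A' := by rw [h.lift_range hφ.1 (h.im_le P) hi, hr]
  have hconj : F.IsConj (preimageAlong θ A') P := by
    refine isConj_symm ?_
    refine ⟨φ.comp (Subgroup.inclusion (h.pre_im hZP hPS).ge), restrict_mem F hφ.1 _, ?_⟩
    rw [← hrange]
    refine le_antisymm ?_ ?_
    · rintro _ ⟨x, rfl⟩; exact ⟨_, rfl⟩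
    · rintro _ ⟨x, rfl⟩; exact ⟨⟨x, (h.pre_im hZP hPS).le x.2⟩, rfl⟩
  set A := preimageAlong θ A' with hA
  obtain ⟨ψ, hψ, -, hψA⟩ := exists_normalizer_map_fullyNormalized h.pgrp h.sat hP hconj
  have hAS : A ≤ S := le_preimageAlong _ _
  obtain ⟨ψ', hψ', hi'⟩ := exists_induced h.pgrp h.sat h.scZ h.fac hψ
  have hsub : normalizerIn T' A' ≤ imageAlong θ (normalizerIn S A) := by
    rintro y ⟨hyT, hyn⟩
    obtain ⟨s, rfl⟩ := h.hran.ge (h.sc.1 hyT)
    refine mem_im s.2 ⟨s.2, h.normalizer_of_im (h.zpre A') hAS s.2 ?_⟩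
    rw [h.im_pre (hA'.trans h.sc.1)]
    exact hyn
  haveI := h.finite'
  refine card_le_of_hom Fb hψ' hsub ((normalizerIn_le T' _).trans h.sc.1) ?_
  rintro y hy
  obtain ⟨s, hs, hsN, rfl⟩ := mem_imageAlong.1 (hsub hy)
  have hval : ψ' ⟨θ ⟨s, hs⟩, hsub hy⟩ = θ ⟨ψ ⟨s, hsN⟩, hom_apply_mem F hψ _⟩ :=
    ind_apply hi' ⟨s, hsN⟩ hs (hsub hy) (hom_apply_mem F hψ _)
  rw [hval]
  have hsT : s ∈ preimageAlong θ T' := (mem_preimageAlong _ _ _).2 ⟨hs, hy.1⟩
  refine ⟨((mem_preimageAlong _ _ _).1 (stronglyClosed_apply_mem h.scT hψ ⟨s, hsN⟩ hsT)).2,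
    h.normalizer_im (hom_apply_mem F hψ _) hPS ?_⟩
  haveI := finite_of_le (S := S) hPS
  exact apply_mem_normalizer (R := P) ψ (le_normalizerIn hAS) (extend_restrict_range _ hψA) ⟨s, hsN⟩ hsN.2

/-- The Sylow subgroup of the automizer in the preimage system. -/
theorem Setup.syl_d {P : Subgroup Ω} (hZP : Z ≤ P) (hPT : P ≤ preimageAlong θ T')
    (hP : E.IsFullyNormalized (imageAlong θ P)) :
    IsSyl p (autInducedBy (preimageAlong θ T') P ⊔ kerSub h P) ((dSys h).autGroup P) := by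
  have hPS : P ≤ S := hPT.trans (le_preimageAlong _ _)
  have hTS : preimageAlong θ T' ≤ S := le_preimageAlong _ _
  haveI := finite_of_le (S := S) hPS
  haveI := h.finiteT'
  haveI := finite_of_le (S := T') hP.1
  set R := autInducedBy (preimageAlong θ T') P with hR
  have hRD : R ≤ (dSys h).autGroup P := autInducedBy_le_autGroup _ hPT
  have hle : R ⊔ kerSub h P ≤ (dSys h).autGroup P := sup_le hRD (h.ker_le_d hPT)
  refine ⟨hle, (autInducedBy_isPGroup (h.pgrp.to_le hTS)).to_sup_of_normal_right' (h.ker_isPGroup hPS) ?_, ?_⟩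
  · intro r hr
    exact mem_normalizer_of_conj_mem r
      (fun k hk => h.ker_conj (autGroup_mono h.d_le P (hRD hr)) hk)
      (fun k hk => by simpa using h.ker_conj (Subgroup.inv_mem _ (autGroup_mono h.d_le P (hRD hr))) hk)
  · have heq : (R ⊔ kerSub h P).subgroupOf ((dSys h).autGroup P) =
        (autInducedBy T' (imageAlong θ P)).comap (barHom h hPT) := by
      refine le_antisymm ?_ fun α hα => ?_
      · intro α hα
        have hsup : R ⊔ kerSub h P ≤
            ((autInducedBy T' (imageAlong θ P)).comap (barHom h hPT)).map ((dSys h).autGroup P).subtype := by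
          refine sup_le (fun r hr => ⟨⟨r, hRD hr⟩, ?_, rfl⟩) fun k hk => ⟨⟨k, h.ker_le_d hPT hk⟩, ?_, rfl⟩
          · obtain ⟨u, hu, hue⟩ := (mem_autInducedBy_iff r).1 hr
            obtain ⟨huS, huT⟩ := (mem_preimageAlong _ _ _).1 hu
            obtain ⟨β, hβ, hβe⟩ := exists_conjAut (K := T') (P := imageAlong θ P) huT
              (h.normalizer_im huS hPS (mem_normalizer_of_autInduced hue))
            show barHom h hPT _ ∈ autInducedBy T' (imageAlong θ P)
            rwa [isBar_unique hPS (h.barHom_spec hPT ⟨r, hRD hr⟩) (h.bar_conj huS r β hPS hue hβe)]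
          · show barHom h hPT _ ∈ autInducedBy T' (imageAlong θ P)
            rw [(h.barHom_eq_one hPT _).2 hk]
            exact Subgroup.one_mem _
        obtain ⟨β, hβ, hβα⟩ := hsup hα
        exact (Subtype.ext hβα : β = α) ▸ hβ
      · obtain ⟨y, hy, hye⟩ := (mem_autInducedBy_iff (barHom h hPT α)).1 (Subgroup.mem_comap.1 hα)
        obtain ⟨u, rfl⟩ := h.hran.ge (h.sc.1 hy)
        have huT : (u : Ω) ∈ preimageAlong θ T' := (mem_preimageAlong _ _ _).2 ⟨u.2, hy⟩
        obtain ⟨r, hr, hre⟩ := exists_conjAut (K := preimageAlong θ T') huT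
          (h.normalizer_of_im hZP hPS u.2 (mem_normalizer_of_autInduced hye))
        have h1 : barHom h hPT ⟨r, hRD hr⟩ = barHom h hPT α :=
          isBar_unique hPS (h.barHom_spec hPT _) (h.bar_conj u.2 r _ hPS hre hye)
        have h2 : (⟨r, hRD hr⟩ : (dSys h).autGroup P)⁻¹ * α ∈ (barHom h hPT).ker := by
          rw [MonoidHom.mem_ker, map_mul, map_inv, h1, inv_mul_cancel]
        have h3 := (h.barHom_eq_one hPT _).1 h2
        rw [Subgroup.mem_subgroupOf]
        have := Subgroup.mul_mem _ (Subgroup.mem_sup_left hr : r ∈ R ⊔ kerSub h P) (Subgroup.mem_sup_right h3)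
        simpa using this
    show ¬ p ∣ ((R ⊔ kerSub h P).subgroupOf ((dSys h).autGroup P)).index
    rw [heq, Subgroup.index_comap, h.barHom_range hZP hPT]
    exact (isSyl_of_fullyAutomized (fullyNormalized_imp h.pgrpT' h.eSat hP).2).2.2

/-- Commutation modulo inner automorphisms on a single subgroup. -/
def Stab (h : Setup p F Z θ Fb E) (P : Subgroup Ω) : Prop :=
  ∀ g ∈ (dSys h).autGroup P, ∀ k ∈ kerSub h P, g * k * g⁻¹ * k⁻¹ ∈ Inn P

omit h [Finite S] hp in
theorem pow_conj_eq {G : Type*} [Group G] {g k m : G} (h1 : g * k * g⁻¹ = m * k) (h2 : g * m * g⁻¹ = m) :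
    ∀ j : ℕ, g ^ j * k * (g ^ j)⁻¹ = m ^ j * k := by
  intro j
  induction j with
  | zero => simp
  | succ j ih =>
    rw [pow_succ' g, show g * g ^ j * k * (g * g ^ j)⁻¹ = g * (g ^ j * k * (g ^ j)⁻¹) * g⁻¹ by group, ih,
      ← MulAut.conj_apply, map_mul, map_pow, MulAut.conj_apply, MulAut.conj_apply, h1, h2, ← mul_assoc,
      ← pow_succ]

/-- An element normalized by `g` and moving `k` by a `p`-element is fixed when `g` has order prime to `p`. -/
theorem Setup.coprime_fix {G : Type*} [Group G] {g k m : G} {e : ℕ} (hco : Nat.Coprime e p) (hge : g ^ e = 1)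
    {j : ℕ} (hm : m ^ p ^ j = 1) (h1 : g * k * g⁻¹ = m * k) (h2 : g * m * g⁻¹ = m) : g * k * g⁻¹ = k := by
  have := pow_conj_eq h1 h2 e
  rw [hge, one_mul, inv_one, mul_one, right_eq_mul] at this
  have hm1 : m = 1 := eq_one_of_coprime_pow (Nat.Coprime.pow_right j hco) this hm
  rw [h1, hm1, one_mul]

/-- The top case: normality of `E`. -/
theorem Setup.stab_top : Stab h (preimageAlong θ T') := by
  intro g hg k hk
  have hTS : preimageAlong θ T' ≤ S := le_preimageAlong _ _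
  haveI := finite_of_le (S := S) hTS
  haveI := h.finiteT'
  obtain ⟨φ', hφ', hi⟩ := h.d_induced ((mem_autGroup_iff _ le_rfl g).1 hg)
  have him : imageAlong θ (preimageAlong θ T') = T' := h.im_pre h.sc.1
  have hψ := restrict_mem E hφ' him.ge
  have hr : (φ'.comp (Subgroup.inclusion him.ge)).range = T' := by
    refine Subgroup.eq_of_le_of_card_ge ?_ (isConj_card ⟨_, hψ, rfl⟩).le
    rintro _ ⟨y, rfl⟩
    exact hom_apply_mem E hψ y
  obtain ⟨g', hg', hg'e⟩ := exists_autGroup_of_range E hψ hr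
  set C' := T' ⊔ centralizerIn S' T' with hC'
  obtain ⟨β, hβ, hβ1, hβ2⟩ := h.nor.2 g' hg'
  have hC'S : C' ≤ S' := sup_le h.sc.1 (centralizerIn_le _ _)
  obtain ⟨-, φ, hφ, hi2⟩ := (h.fac.2.2.2 C' _).1 ((mem_autGroup_iff Fb hC'S β).1 hβ)
  have hfn := Cfsg.Agent.FusionSys.fullyNormalized_of_stronglyClosed h.scT
  have hsyl := isSyl_of_fullyAutomized (fullyNormalized_imp h.pgrp h.sat hfn).2
  obtain ⟨c, hc, hcle⟩ := hsyl.exists_conj (h.ker_isPGroup hTS) (fun _ hx => hx.1)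
  have hkS : k ∈ autInducedBy S (preimageAlong θ T') := by
    have := hcle ⟨c⁻¹ * k * c, by simpa using h.ker_conj (Subgroup.inv_mem _ hc) hk, rfl⟩
    simpa [mul_assoc] using this
  obtain ⟨y, hy, hye⟩ := (mem_autInducedBy_iff k).1 hkS
  have hyC : θ ⟨y, hy⟩ ∈ centralizerIn S' T' := by
    refine ⟨h.theta_mem _, Subgroup.mem_centralizer_iff.2 fun t ht => ?_⟩
    obtain ⟨s, rfl⟩ := h.hran.ge (h.sc.1 ht)
    have hs : (s : Ω) ∈ preimageAlong θ T' := (mem_preimageAlong _ _ _).2 ⟨s.2, ht⟩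
    have h1 := hk.2 ⟨s, hs⟩
    rw [Subgroup.coe_mul, Subgroup.coe_inv, hye,
      ← h.theta_eq s.2 (S.mul_mem (S.mul_mem hy s.2) (S.inv_mem hy))] at h1
    have h2 : θ ⟨y * s * y⁻¹, S.mul_mem (S.mul_mem hy s.2) (S.inv_mem hy)⟩ =
        θ ⟨y, hy⟩ * θ s * (θ ⟨y, hy⟩)⁻¹ := by rw [← map_inv, ← map_mul, ← map_mul]; rfl
    rw [h2] at h1
    exact eq_mul_inv_iff_mul_eq.1 h1
  have hyQ : y ∈ preimageAlong θ C' := (mem_preimageAlong _ _ _).2 ⟨hy, Subgroup.mem_sup_right hyC⟩
  have hTQ : preimageAlong θ T' ≤ preimageAlong θ C' := pre_mono le_sup_left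
  have hψF := restrict_mem F hφ hTQ
  have hra : (φ.comp (Subgroup.inclusion hTQ)).range = preimageAlong θ T' := by
    refine Subgroup.eq_of_le_of_card_ge ?_ (isConj_card ⟨_, hψF, rfl⟩).le
    rintro _ ⟨x, rfl⟩
    exact stronglyClosed_apply_mem h.scT hψF x x.2
  obtain ⟨a, ha, hae⟩ := exists_autGroup_of_range F hψF hra
  have hga : g⁻¹ * a ∈ kerSub h (preimageAlong θ T') := by
    refine ⟨Subgroup.mul_mem _ (Subgroup.inv_mem _ (autGroup_mono h.d_le _ hg)) ha, fun x => ?_⟩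
    obtain ⟨hxS, hxT⟩ := (mem_preimageAlong _ _ _).1 x.2
    have e1 := ind_apply hi2 (Subgroup.inclusion hTQ x) hxS (Subgroup.mem_sup_left hxT)
      (hom_apply_mem F hφ _)
    have e2 := hβ1 ⟨θ ⟨x, hxS⟩, hxT⟩
    have e3 : ((g' ⟨θ ⟨x, hxS⟩, hxT⟩ : T') : Ω') = θ ⟨(g x : preimageAlong θ T'), hTS (g x).2⟩ :=
      (hg'e _).trans (ind_apply hi x hxS (mem_im _ x.2) _)
    have e4 : θ ⟨(g x : preimageAlong θ T'), hTS (g x).2⟩ = θ ⟨(a x : preimageAlong θ T'), hTS (a x).2⟩ := by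
      rw [← e3, ← e2]
      refine e1.trans (congrArg θ (Subtype.ext ?_))
      exact (hae x).symm
    rw [h.theta_eq] at e4
    have e5 : (((g x)⁻¹ * a x : preimageAlong θ T') : Ω) ∈ Z := e4
    have e6 : x⁻¹ * (g⁻¹ * a) x = g⁻¹ ((g x)⁻¹ * a x) := by
      rw [map_mul, map_inv, MulAut.inv_apply_self]; rfl
    rw [e6, h.aut_fix (Subgroup.inv_mem _ (autGroup_mono h.d_le _ hg)) _ e5]
    exact e5
  set w := φ ⟨y, hyQ⟩ with hw
  have hwS : w ∈ S := hom_apply_mem F hφ _
  have ht : y⁻¹ * w ∈ preimageAlong θ T' := by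
    refine (mem_preimageAlong _ _ _).2 ⟨S.mul_mem (S.inv_mem hy) hwS, ?_⟩
    have e1 := ind_apply hi2 ⟨y, hyQ⟩ hy (Subgroup.mem_sup_right hyC) hwS
    have e2 := (hβ2 ⟨θ ⟨y, hy⟩, Subgroup.mem_sup_right hyC⟩ hyC).1
    have e3 : ((β ⟨θ ⟨y, hy⟩, Subgroup.mem_sup_right hyC⟩ : C') : Ω') = θ ⟨w, hwS⟩ := e1
    rw [e3] at e2
    rwa [← map_inv, ← map_mul] at e2
  obtain ⟨i, hi', hie⟩ := exists_conjAut (K := preimageAlong θ T') ht (Subgroup.le_normalizer ht)
  have hiInn : i ∈ Inn ↥(preimageAlong θ T') := (inn_eq_autInducedBy_self _).ge hi'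
  have hconj : a * k * a⁻¹ = k * i := by
    refine MulEquiv.ext fun x => ?_
    obtain ⟨x, rfl⟩ := a.surjective x
    refine Subtype.ext ?_
    show ((a (k (a⁻¹ (a x))) : preimageAlong θ T') : Ω) = ((k (i (a x)) : preimageAlong θ T') : Ω)
    rw [MulAut.inv_apply_self, hye, hie, hae, hae]
    have hm : y * (x : Ω) * y⁻¹ ∈ preimageAlong θ C' :=
      Subgroup.mul_mem _ (Subgroup.mul_mem _ hyQ (hTQ x.2)) (Subgroup.inv_mem _ hyQ)
    refine (apply_congr φ (hye x) _ hm).trans ?_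
    rw [map_apply_conj φ hyQ (hTQ x.2) hm, ← hw]
    show w * φ (Subgroup.inclusion hTQ x) * w⁻¹ = y * (y⁻¹ * w * φ (Subgroup.inclusion hTQ x) * (y⁻¹ * w)⁻¹) * y⁻¹
    group
  have hgk : g * k * g⁻¹ = a * k * a⁻¹ := by
    have : (g⁻¹ * a) * k = k * (g⁻¹ * a) := h.ker_comm hTS hga hk
    calc g * k * g⁻¹ = g * (k * (g⁻¹ * a)) * a⁻¹ := by group
      _ = g * ((g⁻¹ * a) * k) * a⁻¹ := by rw [this]
      _ = a * k * a⁻¹ := by group
  rw [hgk, hconj]
  exact (Cfsg.innNormal _).conj_mem i hiInn k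

/-- The commutator statement at a fully normalized subgroup, given it for larger subgroups. -/
theorem Setup.stab_step {P : Subgroup Ω} (hP : InH θ Z E P) (hfn : F.IsFullyNormalized P)
    (hlt : P < preimageAlong θ T') (ih : ∀ U, P < U → InH θ Z E U → Stab h U) : Stab h P := by
  classical
  obtain ⟨hZP, hPT, hPc⟩ := id hP
  have hPS := h.inH_le hP
  have hTS : preimageAlong θ T' ≤ S := le_preimageAlong _ _
  haveI := finite_of_le (S := S) hPS
  haveI := h.finiteT'
  set A := (dSys h).autGroup P with hA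
  set R := autInducedBy (preimageAlong θ T') P with hR
  have hPfn := h.im_fullyNormalized hZP hPT hfn
  have hsyl := h.syl_d hZP hPT hPfn
  have hAF : A ≤ F.autGroup P := autGroup_mono h.d_le P
  -- the commuting elements
  let C : Subgroup (MulAut P) :=
    { carrier := {g | g ∈ A ∧ ∀ k ∈ kerSub h P, g * k * g⁻¹ * k⁻¹ ∈ Inn P}
      one_mem' := ⟨Subgroup.one_mem _, fun k _ => by simp⟩
      mul_mem' := fun {a b} ha hb => ⟨A.mul_mem ha.1 hb.1, fun k hk => by
        have h2 := ha.2 k hk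
        have h3 := (Cfsg.innNormal _).conj_mem _ (hb.2 k hk) a
        have e : a * b * k * (a * b)⁻¹ * k⁻¹ = a * (b * k * b⁻¹ * k⁻¹) * a⁻¹ * (a * k * a⁻¹ * k⁻¹) := by group
        rw [e]
        exact (Inn P).mul_mem h3 h2⟩
      inv_mem' := fun {a} ha => ⟨A.inv_mem ha.1, fun k hk => by
        have hk' : a⁻¹ * k * a ∈ kerSub h P := by
          simpa using h.ker_conj (Subgroup.inv_mem _ (hAF ha.1)) hk
        have h2 := (Inn P).inv_mem (ha.2 _ hk')
        have e : a⁻¹ * k * a⁻¹⁻¹ * k⁻¹ = (a * (a⁻¹ * k * a) * a⁻¹ * (a⁻¹ * k * a)⁻¹)⁻¹ := by group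
        rw [e]
        exact h2⟩ }
  have hCA : C ≤ A := fun g hg => hg.1
  have hCn : ∀ a ∈ A, ∀ g ∈ C, a * g * a⁻¹ ∈ C := fun a ha g hg =>
    ⟨A.mul_mem (A.mul_mem ha hg.1) (A.inv_mem ha), fun k hk => by
      have hk' : a⁻¹ * k * a ∈ kerSub h P := by simpa using h.ker_conj (Subgroup.inv_mem _ (hAF ha)) hk
      have h2 := (Cfsg.innNormal _).conj_mem _ (hg.2 _ hk') a
      have e : a * g * a⁻¹ * k * (a * g * a⁻¹)⁻¹ * k⁻¹ =
          a * (g * (a⁻¹ * k * a) * g⁻¹ * (a⁻¹ * k * a)⁻¹) * a⁻¹ := by group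
      rw [e]
      exact h2⟩
  have hKS : kerSub h P ≤ autInducedBy S P := by
    obtain ⟨c, hc, hcle⟩ := (isSyl_of_fullyAutomized (fullyNormalized_imp h.pgrp h.sat hfn).2).exists_conj
      (h.ker_isPGroup hPS) (fun _ hx => hx.1)
    intro k hk
    have := hcle ⟨c⁻¹ * k * c, by simpa using h.ker_conj (Subgroup.inv_mem _ hc) hk, rfl⟩
    simpa [mul_assoc] using this
  have hTn : S ≤ Subgroup.normalizer (preimageAlong θ T' : Set Ω) := stronglyClosed_le_normalizer h.scT
  have hRC : R ⊔ kerSub h P ≤ C := by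
    refine sup_le (fun r hr => ⟨autInducedBy_le_autGroup _ hPT hr, fun k hk => ?_⟩)
      fun c hc => ⟨h.ker_le_d hPT hc, fun k hk => ?_⟩
    · obtain ⟨y, hy, hye⟩ := (mem_autInducedBy_iff k).1 (hKS hk)
      obtain ⟨u, hu, hue⟩ := (mem_autInducedBy_iff r).1 hr
      refine h.inn_of_ker hP (Subgroup.mul_mem _ (h.ker_conj (hAF (autInducedBy_le_autGroup _ hPT hr)) hk)
        (Subgroup.inv_mem _ hk)) ((mem_autInducedBy_iff _).2 ⟨u * (y * u⁻¹ * y⁻¹), ?_, fun x => ?_⟩)
      · exact Subgroup.mul_mem _ hu ((Subgroup.mem_normalizer_iff.1 (hTn hy) _).1 (Subgroup.inv_mem _ hu))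
      · have hk1 : ∀ z : P, ((k⁻¹ z : P) : Ω) = y⁻¹ * z * y := fun z => by
          have := hye (k⁻¹ z)
          rw [MulAut.apply_inv_self] at this
          rw [this]; group
        have hr1 : ∀ z : P, ((r⁻¹ z : P) : Ω) = u⁻¹ * z * u := fun z => by
          have := hue (r⁻¹ z)
          rw [MulAut.apply_inv_self] at this
          rw [this]; group
        show ((r (k (r⁻¹ (k⁻¹ x))) : P) : Ω) = _
        rw [hue, hye, hr1, hk1]
        group
    · have e : c * k * c⁻¹ * k⁻¹ = 1 := by rw [h.ker_comm hPS hc hk]; group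
      rw [e]
      exact Subgroup.one_mem _
  have hpel : ∀ g ∈ A, ∀ j : ℕ, g ^ p ^ j = 1 → g ∈ C := by
    intro g hg j hj
    have hgp : IsPGroup p (Subgroup.zpowers g) :=
      IsPGroup.of_card_dvd_pow (n := j) (by rw [Nat.card_zpowers]; exact orderOf_dvd_of_pow_eq_one hj)
    obtain ⟨b, hb, hble⟩ := hsyl.exists_conj hgp (Subgroup.zpowers_le.2 hg)
    have h1 : b * g * b⁻¹ ∈ C := hRC (hble ⟨g, Subgroup.mem_zpowers g, rfl⟩)
    simpa [mul_assoc] using hCn b⁻¹ (A.inv_mem hb) _ h1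
  -- automorphisms of order prime to `p` normalizing the Sylow subgroup
  have hkey : ∀ n ∈ A, ∀ e : ℕ, Nat.Coprime e p → n ^ e = 1 →
      (∀ r ∈ R ⊔ kerSub h P, n * r * n⁻¹ ∈ R ⊔ kerSub h P) → n ∈ C := by
    intro n hn e hco hne hnorm
    refine ⟨hn, fun k hk => ?_⟩
    set U := normalizerIn (preimageAlong θ T') P with hU
    haveI : Finite ↥(preimageAlong θ T') := finite_of_le (S := S) hTS
    have hPU : P < U := lt_normalizerIn (h.pgrp.to_le hTS) hlt
    have hUT : U ≤ preimageAlong θ T' := normalizerIn_le _ _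
    have hUS : U ≤ S := hUT.trans hTS
    haveI := finite_of_le (S := S) hUS
    have hUH := h.inH_mono hP hPU.le hUT
    set n' := barHom h hPT ⟨n, hn⟩ with hn'
    have hn'A : n' ∈ E.autGroup (imageAlong θ P) := (h.barHom_range hZP hPT).le ⟨_, rfl⟩
    have hr' : ((imageAlong θ P).subtype.comp n'.toMonoidHom).range = imageAlong θ P := equivHom_range n'
    obtain ⟨ψ', hψ', hψ'e⟩ := (fullyNormalized_receptive h.pgrpT' h.eSat hPfn).2 _ _
      ((mem_autGroup_iff E (h.im_le_T hPT) n').1 hn'A) hr'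
    set N' := extender T' (imageAlong θ P) ((imageAlong θ P).subtype.comp n'.toMonoidHom) with hN'
    obtain ⟨φ, hφ, hi⟩ := h.d_lift hψ'
    have hUN : U ≤ preimageAlong θ N' := by
      intro u hu
      obtain ⟨huS, huT⟩ := (mem_preimageAlong _ _ _).1 (hUT hu)
      refine (mem_preimageAlong _ _ _).2 ⟨huS, Subgroup.subset_closure ⟨huT, h.normalizer_im huS hPS hu.2, ?_⟩⟩
      obtain ⟨r, hr, hre⟩ := exists_conjAut (K := preimageAlong θ T') (hUT hu) hu.2
      have hm := hnorm r (Subgroup.mem_sup_left hr)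
      have hm' : barHom h hPT ⟨n * r * n⁻¹, hsyl.1 hm⟩ ∈ autInducedBy T' (imageAlong θ P) := by
        have hsup : R ⊔ kerSub h P ≤
            ((autInducedBy T' (imageAlong θ P)).comap (barHom h hPT)).map A.subtype := by
          refine sup_le (fun r hr => ⟨⟨r, autInducedBy_le_autGroup _ hPT hr⟩, ?_, rfl⟩)
            fun k hk => ⟨⟨k, h.ker_le_d hPT hk⟩, ?_, rfl⟩
          · obtain ⟨v, hv, hve⟩ := (mem_autInducedBy_iff r).1 hr
            obtain ⟨hvS, hvT⟩ := (mem_preimageAlong _ _ _).1 hv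
            obtain ⟨β, hβ, hβe⟩ := exists_conjAut (K := T') (P := imageAlong θ P) hvT
              (h.normalizer_im hvS hPS (mem_normalizer_of_autInduced hve))
            show barHom h hPT _ ∈ autInducedBy T' (imageAlong θ P)
            rwa [isBar_unique hPS (h.barHom_spec hPT ⟨r, _⟩) (h.bar_conj hvS r β hPS hve hβe)]
          · show barHom h hPT _ ∈ autInducedBy T' (imageAlong θ P)
            rw [(h.barHom_eq_one hPT _).2 hk]
            exact Subgroup.one_mem _
        obtain ⟨β, hβ, hβe⟩ := hsup hm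
        exact (Subtype.ext hβe : β = ⟨n * r * n⁻¹, hsyl.1 hm⟩) ▸ hβ
      obtain ⟨v, hv, hve⟩ := (mem_autInducedBy_iff _).1 hm'
      refine ⟨v, hv, fun x hx => ?_⟩
      have h1 := hve (n' x)
      rw [show (⟨n * r * n⁻¹, hsyl.1 hm⟩ : A) =
        ⟨n, hn⟩ * ⟨r, autInducedBy_le_autGroup _ hPT hr⟩ * ⟨n, hn⟩⁻¹ from rfl, map_mul, map_mul, map_inv,
        MulAut.mul_apply, MulAut.mul_apply, ← hn', MulAut.inv_apply_self] at h1
      refine Eq.trans ?_ h1
      show ((n' ⟨_, hx⟩ : imageAlong θ P) : Ω') = _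
      refine congrArg (fun z : imageAlong θ P => ((n' z : imageAlong θ P) : Ω')) (Subtype.ext ?_)
      obtain ⟨x, hxm⟩ := x
      obtain ⟨x, hxS, hxP, rfl⟩ := mem_imageAlong.1 hxm
      refine Eq.trans ?_ (h.barHom_spec hPT ⟨r, _⟩ ⟨x, hxP⟩ hxS _ (hPS (r _).2)).symm
      show θ _ * θ _ * (θ _)⁻¹ = _
      rw [← map_inv, ← map_mul, ← map_mul]
      exact congrArg θ (Subtype.ext (hre ⟨x, hxP⟩).symm)
    set f := φ.comp (Subgroup.inclusion hUN) with hf
    have hfD : f ∈ (dSys h).Hom U := restrict_mem (dSys h) hφ hUN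
    have hPim : ∀ (x : U) (hxP : (x : Ω) ∈ P), θ ⟨f x, hom_apply_mem F hfD.1 x⟩ =
        ((n' ⟨θ ⟨x, hUS x.2⟩, mem_im _ hxP⟩ : imageAlong θ P) : Ω') := fun x hx => by
      refine (ind_apply hi (Subgroup.inclusion hUN x) (hUS x.2)
        ((mem_preimageAlong _ _ _).1 (hUN x.2)).2 (hom_apply_mem F hfD.1 x)).symm.trans ?_
      exact hψ'e _ (mem_im _ hx) _
    have hfP : ∀ x : U, (x : Ω) ∈ P → f x ∈ P := fun x hx =>
      h.mem_of_im hZP (hom_apply_mem F hfD.1 x) (by rw [hPim x hx]; exact (n' _).2)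
    have hfP' := restrict_mem (dSys h) hfD hPU.le
    have hrP : (f.comp (Subgroup.inclusion hPU.le)).range = P := by
      refine Subgroup.eq_of_le_of_card_ge ?_ (isConj_card ⟨_, hfP', rfl⟩).le
      rintro _ ⟨x, rfl⟩
      exact hfP _ x.2
    have hrU : f.range = U := by
      refine Subgroup.eq_of_le_of_card_ge ?_ (isConj_card ⟨f, hfD, rfl⟩).le
      rintro _ ⟨x, rfl⟩
      exact ⟨hom_apply_mem (dSys h) hfD x, apply_mem_normalizer (R := P) f hPU.le hrP x x.2.2⟩
    obtain ⟨g, hg, hge⟩ := exists_autGroup_of_range (dSys h) hfD hrU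
    obtain ⟨a, ha, hae⟩ := exists_autGroup_of_range (dSys h) hfP' hrP
    have hgst : g ∈ stabSub U P := fun x => by
      rw [hge]
      refine ⟨fun hx => ?_, hfP x⟩
      obtain ⟨z, hz⟩ := hrP.ge hx
      have := (dSys h).injective_of_mem hfD hz
      exact (congrArg Subtype.val this : (z : Ω) = x) ▸ z.2
    have hga : resHom hPU.le ⟨g, hgst⟩ = a := MulEquiv.ext fun x => Subtype.ext <| by
      rw [resHom_apply, hge, hae]
      rfl
    have han : n⁻¹ * a ∈ kerSub h P := by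
      have hb : IsBar θ a n' := fun x hx hm hax => by
        refine Eq.trans ?_ ((hPim (Subgroup.inclusion hPU.le x) x.2).symm.trans
          (congrArg θ (Subtype.ext (hae x).symm)))
        rfl
      have h1 : barHom h hPT ⟨a, ha⟩ = n' := isBar_unique hPS (h.barHom_spec hPT _) hb
      have h2 : barHom h hPT (⟨n, hn⟩⁻¹ * ⟨a, ha⟩) = 1 := by rw [map_mul, map_inv, h1, inv_mul_cancel]
      exact (h.barHom_eq_one hPT _).1 h2
    obtain ⟨y, hy, hye⟩ := (mem_autInducedBy_iff k).1 (hKS hk)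
    have hyU : y ∈ Subgroup.normalizer (U : Set Ω) := by
      refine mem_normalizer_of_conj_mem_finite fun x hx => ⟨(Subgroup.mem_normalizer_iff.1 (hTn hy) x).1 hx.1, ?_⟩
      have hyP := mem_normalizer_of_autInduced hye
      exact Subgroup.mul_mem _ (Subgroup.mul_mem _ hyP hx.2) (Subgroup.inv_mem _ hyP)
    obtain ⟨c, hc, hce⟩ := exists_conjAut (K := S) (P := U) hy hyU
    have hcst : c ∈ stabSub U P := fun x => by
      rw [hce]; exact (Subgroup.mem_normalizer_iff.1 (mem_normalizer_of_autInduced hye) _).symm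
    have hck : resHom hPU.le ⟨c, hcst⟩ = k := MulEquiv.ext fun x => Subtype.ext <| by
      rw [resHom_apply, hce, hye]
      rfl
    set γ : stabSub U P := ⟨g, hgst⟩ * ⟨c, hcst⟩ * ⟨g, hgst⟩⁻¹ * ⟨c, hcst⟩⁻¹ with hγ
    have hγD : (γ : MulAut U) ∈ (dSys h).autGroup U := by
      have h1 := h.d_normal hUT (autInducedBy_le_autGroup F hUS hc) (Subgroup.inv_mem _ hg)
      have : (γ : MulAut U) = g * (c * g⁻¹ * c⁻¹) := by
        show g * c * g⁻¹ * c⁻¹ = _
        group
      rw [this]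
      exact Subgroup.mul_mem _ hg h1
    have hγP : resHom hPU.le γ = a * k * a⁻¹ * k⁻¹ := by
      rw [hγ, map_mul, map_mul, map_mul, map_inv, map_inv, hga, hck]
    have hKγ : a * k * a⁻¹ * k⁻¹ ∈ kerSub h P :=
      Subgroup.mul_mem _ (h.ker_conj (hAF ha) hk) (Subgroup.inv_mem _ hk)
    set γ' := barHom h hUT ⟨γ, hγD⟩
    have hγ'fix : ∀ w : imageAlong θ U, (w : Ω') ∈ imageAlong θ P → γ' w = w := by
      rintro ⟨w, hwU⟩ hw
      obtain ⟨x, hx, hxP, rfl⟩ := mem_imageAlong.1 hw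
      refine Subtype.ext ((h.barHom_spec hUT ⟨γ, hγD⟩ ⟨x, hPU.le hxP⟩ hx hwU
        (hUS ((γ : MulAut U) _).2)).trans ?_)
      symm
      show θ ⟨x, hx⟩ = _
      rw [h.theta_eq]
      have h1 := hKγ.2 ⟨x, hxP⟩
      rw [← hγP, Subgroup.coe_mul, Subgroup.coe_inv, resHom_apply] at h1
      exact h1
    have hnU : imageAlong θ U ≤ Subgroup.normalizer (imageAlong θ P : Set Ω') := fun w hw => by
      obtain ⟨u, hu, huU, rfl⟩ := mem_imageAlong.1 hw
      exact h.normalizer_im hu hPS huU.2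
    obtain ⟨z, hz, -, hze⟩ := exists_conj_of_fix h.pgrpT' h.eSat (im_mono hPU.le) hnU hPc
      ((h.barHom_range hUH.1 hUT).le ⟨_, rfl⟩) (h.im_le_T hUT) hγ'fix
    obtain ⟨u, huS, huP, rfl⟩ := mem_imageAlong.1 hz
    obtain ⟨iu, hiu, hiue⟩ := exists_conjAut (K := U) (P := U) (hPU.le huP) (Subgroup.le_normalizer (hPU.le huP))
    have hiust : iu ∈ stabSub U P := fun x => by
      rw [hiue]; exact (Subgroup.mem_normalizer_iff.1 (Subgroup.le_normalizer huP) _).symm
    have hiuD : iu ∈ (dSys h).autGroup U :=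
      autInducedBy_le_autGroup _ hUT (autInducedBy_mono hUT hiu)
    set κ : stabSub U P := ⟨iu, hiust⟩⁻¹ * γ with hκ
    have hκD : (κ : MulAut U) ∈ (dSys h).autGroup U := Subgroup.mul_mem _ (Subgroup.inv_mem _ hiuD) hγD
    have hκK : (κ : MulAut U) ∈ kerSub h U := by
      have e1 : barHom h hUT ⟨iu, hiuD⟩ = γ' :=
        isBar_unique hUS (h.barHom_spec hUT _) (h.bar_conj huS iu γ' hUS hiue hze)
      have e2 : barHom h hUT (⟨iu, hiuD⟩⁻¹ * ⟨γ, hγD⟩) = 1 := by rw [map_mul, map_inv, e1, inv_mul_cancel]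
      exact (h.barHom_eq_one hUT _).1 e2
    set m := resHom hPU.le κ with hm
    have hmK : m ∈ kerSub h P := by
      refine ⟨?_, fun x => ?_⟩
      · rw [mem_autGroup_iff F hPS]
        exact hom_congr F (restrict_mem F ((mem_autGroup_iff F hUS _).1 hκK.1) hPU.le) fun x => rfl
      · exact hκK.2 (Subgroup.inclusion hPU.le x)
    have hiP : resHom hPU.le ⟨iu, hiust⟩ ∈ Inn P :=
      ⟨⟨u, huP⟩, MulEquiv.ext fun x => Subtype.ext (hiue (Subgroup.inclusion hPU.le x)).symm⟩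
    set q := QuotientGroup.mk' (Inn P) with hq
    have q1 : q a * q k * (q a)⁻¹ = q m * q k := by
      have e : a * k * a⁻¹ = resHom hPU.le ⟨iu, hiust⟩ * m * k := by
        rw [hm, hκ, map_mul, map_inv, hγP]; group
      rw [← map_inv, ← map_mul, ← map_mul, e, map_mul, map_mul,
        (QuotientGroup.eq_one_iff _).2 hiP |> (fun e => (show q (resHom hPU.le ⟨iu, hiust⟩) = 1 from e)), one_mul]
    have q2 : q a * q m * (q a)⁻¹ = q m := by
      have hst := ih U hPU hUH g hg κ hκK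
      set δ : stabSub U P := ⟨g, hgst⟩ * κ * ⟨g, hgst⟩⁻¹ * κ⁻¹ with hδ
      have hδi : resHom hPU.le δ ∈ Inn P := by
        refine h.inn_of_ker hP ?_ ?_
        · rw [hδ, map_mul, map_mul, map_mul, map_inv, map_inv, hga]
          exact Subgroup.mul_mem _ (h.ker_conj (hAF ha) hmK) (Subgroup.inv_mem _ hmK)
        · obtain ⟨v, hv⟩ := hst
          refine (mem_autInducedBy_iff _).2 ⟨v, hUT v.2, fun x => ?_⟩
          rw [resHom_apply]
          exact congrArg (fun α : MulAut U => ((α (Subgroup.inclusion hPU.le x) : U) : Ω)) hv.symm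
      rw [hδ, map_mul, map_mul, map_mul, map_inv, map_inv, hga] at hδi
      have e := (QuotientGroup.eq_one_iff _).2 hδi
      change q (a * m * a⁻¹ * m⁻¹) = 1 at e
      rwa [map_mul, map_mul, map_mul, map_inv, map_inv, mul_inv_eq_one] at e
    -- pass from `a` to `n`
    have hsame : ∀ x ∈ kerSub h P, n * x * n⁻¹ = a * x * a⁻¹ := fun x hx => by
      have : (n⁻¹ * a) * x = x * (n⁻¹ * a) := h.ker_comm hPS han hx
      calc n * x * n⁻¹ = n * (x * (n⁻¹ * a)) * a⁻¹ := by group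
        _ = n * ((n⁻¹ * a) * x) * a⁻¹ := by rw [this]
        _ = a * x * a⁻¹ := by group
    have r1 : q n * q k * (q n)⁻¹ = q m * q k := by
      rw [← q1]; simp only [← map_inv, ← map_mul, hsame k hk]
    have r2 : q n * q m * (q n)⁻¹ = q m := by
      rw [← map_inv, ← map_mul, ← map_mul, hsame m hmK, map_mul, map_mul, map_inv]
      exact q2
    obtain ⟨j, hj⟩ := h.ker_isPGroup hPS ⟨m, hmK⟩
    have := h.coprime_fix hco (show q n ^ e = 1 by rw [← map_pow, hne, map_one])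
      (show q m ^ p ^ j = 1 by rw [← map_pow, show m ^ p ^ j = 1 from congrArg Subtype.val hj, map_one]) r1 r2
    refine (QuotientGroup.eq_one_iff _).1 ?_
    show q _ = 1
    rw [map_mul, map_mul, map_mul, map_inv, map_inv, this, mul_inv_cancel]
  -- the Frattini argument
  intro g hg k hk
  suffices hgC : g ∈ C from hgC.2 k hk
  haveI hCAn : (C.subgroupOf A).Normal := ⟨fun x hx a => hCn a a.2 x hx⟩
  obtain ⟨Sy, hSy⟩ := hsyl.toSylow
  have hle : (Sy : Subgroup A) ≤ C.subgroupOf A := by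
    rw [hSy]; exact fun x hx => hRC hx
  have htop := Sylow.normalizer_sup_eq_top' Sy hle
  obtain ⟨n, hn, c, hc, hnc⟩ := Subgroup.mem_sup_of_normal_right.1 (htop.ge (Subgroup.mem_top ⟨g, hg⟩))
  suffices hnC : (n : MulAut P) ∈ C by
    have := C.mul_mem hnC hc
    have e : ((n * c : A) : MulAut P) = g := by rw [hnc]
    rw [← e]
    exact this
  obtain ⟨pj, hpj, hco⟩ : ∃ j, p ^ j ∣ orderOf n ∧ Nat.Coprime (orderOf n / p ^ j) p :=
    ⟨(orderOf n).factorization p, Nat.ordProj_dvd _ _, (Nat.coprime_ordCompl hp.out (orderOf_pos n).ne').symm⟩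
  set r := orderOf n / p ^ pj
  have hr : p ^ pj * r = orderOf n := Nat.mul_div_cancel' hpj
  have hn1 : ((n : A) : MulAut P) ^ r ∈ C := by
    refine hpel _ (Subgroup.pow_mem _ n.2 _) pj ?_
    rw [← pow_mul, mul_comm, hr, ← Subgroup.coe_pow, pow_orderOf_eq_one]
    rfl
  have hn2 : ((n : A) : MulAut P) ^ p ^ pj ∈ C := by
    refine hkey _ (Subgroup.pow_mem _ n.2 _) r hco ?_ fun x hx => ?_
    · rw [← pow_mul, hr, ← Subgroup.coe_pow, pow_orderOf_eq_one]
      rfl
    · have hxA : x ∈ A := hsyl.1 hx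
      have hm : n ^ p ^ pj ∈ Subgroup.normalizer ((Sy : Subgroup A) : Set A) := Subgroup.pow_mem _ hn _
      have h2 := (Subgroup.mem_normalizer_iff.1 hm ⟨x, hxA⟩).1 (by rw [hSy]; exact hx)
      rw [hSy] at h2
      exact h2
  have hg1 : ((n : A) : MulAut P) ^ (Nat.gcd r (p ^ pj) : ℤ) ∈ C := by
    rw [Nat.gcd_eq_gcd_ab, zpow_add, zpow_mul, zpow_mul, zpow_natCast, zpow_natCast]
    exact C.mul_mem (C.zpow_mem hn1 _) (C.zpow_mem hn2 _)
  rwa [show Nat.gcd r (p ^ pj) = 1 from Nat.Coprime.pow_right pj hco, Nat.cast_one, zpow_one] at hg1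

/-- Surplus automorphisms are central modulo inner automorphisms. -/
theorem Setup.stable {P : Subgroup Ω} (hP : InH θ Z E P) : Stab h P := by
  induction hk : Nat.card S - Nat.card P using Nat.strong_induction_on generalizing P with
  | _ n ih =>
  have hTS : preimageAlong θ T' ≤ S := le_preimageAlong _ _
  haveI := finite_of_le (S := S) hTS
  have hPS := h.inH_le hP
  haveI := finite_of_le (S := S) hPS
  obtain ⟨Q, hPQ, hQ⟩ := exists_fullyNormalized F hPS
  have hQH := h.inH_conj hP hPQ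
  have hcQ := isConj_card hPQ
  haveI := finite_of_le (S := S) hQ.1
  have hQs : Stab h Q := by
    rcases eq_or_lt_of_le hQH.2.1 with rfl | hlt
    · exact h.stab_top
    · refine h.stab_step hQH hQ hlt fun U hU hUH => ih (Nat.card S - Nat.card U) ?_ hUH rfl
      haveI := finite_of_le (S := S) (h.inH_le hUH)
      have h1 : Nat.card Q < Nat.card U := lt_of_le_of_ne (Subgroup.card_le_of_le hU.le)
        fun he => hU.ne (Subgroup.eq_of_le_of_card_ge hU.le he.ge)
      have h2 : Nat.card U ≤ Nat.card S := Subgroup.card_le_of_le (h.inH_le hUH)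
      omega
  obtain ⟨φ, hφ, hr⟩ := hPQ
  set e := mapEquiv F hφ hr
  have he : equivHom e ∈ F.Hom P := equivHom_mapEquiv F hφ hr
  have he' : equivHom e.symm ∈ F.Hom Q := equivHom_mapEquiv_symm F hφ hr
  intro g hg k hkk
  obtain ⟨q, hq⟩ := hQs _ (h.d_congr_aut hP.2.1 hQH.2.1 e he hg) _ (h.ker_congr e he he' hkk)
  refine ⟨e.symm q, ?_⟩
  apply (MulAut.congr e).injective
  rw [map_mul, map_mul, map_mul, map_inv, map_inv, ← hq]
  refine MulEquiv.ext fun x => ?_
  show e (e.symm q * e.symm x * (e.symm q)⁻¹) = q * x * q⁻¹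
  simp

end Cfsg.Agent.FusionSys.CentLift
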