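import Cfsg.Agent.Lib.Fusion.CentralLiftStable

/-!
# The subsystem generated by the residual parts of the automizers

The least system containing the residual parts of the automizers of the preimage system on subgroups with
centric image is invariant and covers the normal subsystem of the factor system.
-/

set_option autoImplicit false

namespace Cfsg.Agent.FusionSys.CentLift

open Cfsg Cfsg.FusionSystem

variable {Ω : Type*} [Group Ω] {S : Subgroup Ω} {Ω' : Type*} [Group Ω'] {S' T' : Subgroup Ω'}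
  {F : FusionSystem S} {p : ℕ} {Z : Subgroup Ω} {θ : S →* Ω'} {Fb : FusionSystem S'} {E : FusionSystem T'}
  (h : Setup p F Z θ Fb E)

/-- Contains the residual parts of the automizers on subgroups with centric image. -/
def GenClosed (Y : FusionSystem (preimageAlong θ T')) : Prop :=
  ∀ P, InH θ Z E P → ∀ a ∈ pResidual p ↥((dSys h).autGroup P), (a : MulAut P) ∈ Y.autGroup P

/-- The maps of the preimage system lying in every such system. -/
def xSys : FusionSystem (preimageAlong θ T') where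
  Hom P := {φ | φ ∈ (dSys h).Hom P ∧ ∀ Y, GenClosed h Y → φ ∈ Y.Hom P}
  le_of_mem h' := (dSys h).le_of_mem h'.1
  injective_of_mem h' := (dSys h).injective_of_mem h'.1
  conj_mem hP hg := ⟨(dSys h).conj_mem hP hg, fun Y _ => Y.conj_mem hP hg⟩
  comp_mem hφ hψ hv := ⟨(dSys h).comp_mem hφ.1 hψ.1 hv, fun Y hY => Y.comp_mem (hφ.2 Y hY) (hψ.2 Y hY) hv⟩
  inv_mem {P φ} hφ := by
    obtain ⟨ψ, hψ, hψe⟩ := (dSys h).inv_mem hφ.1
    refine ⟨ψ, ⟨hψ, fun Y hY => ?_⟩, hψe⟩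
    obtain ⟨ψ', hψ', hψe'⟩ := Y.inv_mem (hφ.2 Y hY)
    refine hom_congr Y hψ' fun y => ?_
    obtain ⟨_, x, rfl⟩ := y
    exact (hψe x).trans (hψe' x).symm

include h

theorem Setup.x_min {Y : FusionSystem (preimageAlong θ T')} (hY : GenClosed h Y) : xSys h ≤ Y :=
  fun _ _ hφ => hφ.2 Y hY

theorem Setup.x_le_d : (xSys h).IsSubsystemOf (dSys h) := fun _ _ hφ => hφ.1

theorem Setup.x_le : (xSys h).IsSubsystemOf F := fun _ _ hφ => hφ.1.1

theorem Setup.x_gen : GenClosed h (xSys h) := fun P hP a ha =>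
  Subgroup.subset_closure ⟨(mem_autGroup_iff _ hP.2.1 _).1 a.2,
    fun Y hY => (mem_autGroup_iff Y hP.2.1 _).1 (hY P hP a ha)⟩

/-- Maps of the subsystem congruent modulo `Z` differ by a kernel automorphism of the subsystem. -/
theorem Setup.x_diff {P : Subgroup Ω} (hZP : Z ≤ P) {φ ψ : P →* Ω} (hφ : φ ∈ (xSys h).Hom P)
    (hψ : ψ ∈ (xSys h).Hom P) (he : ∀ x : P, (φ x)⁻¹ * ψ x ∈ Z) :
    ∃ k ∈ (xSys h).autGroup P, k ∈ kerSub h P ∧ ∀ x : P, ψ x = φ (k x) := by
  have hφF := h.x_le P hφ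
  have hψF := h.x_le P hψ
  have hPS := hom_le F hφF
  have hfix : ∀ {χ : P →* Ω}, χ ∈ F.Hom P → ∀ z : Ω, ∀ hz : z ∈ Z, χ ⟨z, hZP hz⟩ = z :=
    fun hχ z hz => h.fix hχ _ hz
  have hr : ψ.range = φ.range := by
    refine le_antisymm ?_ ?_
    · rintro _ ⟨x, rfl⟩
      refine ⟨x * ⟨_, hZP (he x)⟩, ?_⟩
      rw [map_mul, hfix hφF _ (he x), mul_inv_cancel_left]
    · rintro _ ⟨x, rfl⟩
      have hz : (ψ x)⁻¹ * φ x ∈ Z := by simpa using Z.inv_mem (he x)
      refine ⟨x * ⟨_, hZP hz⟩, ?_⟩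
      rw [map_mul, hfix hψF _ hz, mul_inv_cancel_left]
  set e₁ := mapEquiv (xSys h) hφ rfl
  set e₂ := mapEquiv (xSys h) hψ hr
  set k : MulAut P := e₂.trans e₁.symm
  have hPT : P ≤ preimageAlong θ T' := hom_le (xSys h) hφ
  have hk : k ∈ (xSys h).autGroup P := (equivHom_autGroup _ hPT).2
    (equivHom_trans _ (equivHom_mapEquiv _ hψ hr) (equivHom_mapEquiv_symm _ hφ rfl))
  have hval : ∀ x : P, ψ x = φ (k x) := fun x =>
    (congrArg Subtype.val (e₁.apply_symm_apply (e₂ x))).symm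
  refine ⟨k, hk, ⟨autGroup_mono h.x_le P hk, fun x => ?_⟩, hval⟩
  have h1 : x⁻¹ * k x = ⟨(φ x)⁻¹ * ψ x, hZP (he x)⟩ := by
    apply F.injective_of_mem hφF
    rw [hfix hφF _ (he x), map_mul, map_inv, hval]
  rw [h1]
  exact he x

/-- Two maps inducing the same map are congruent modulo `Z`. -/
theorem Setup.congr_of_induced {P : Subgroup Ω} {φ ψ : P →* Ω} {P' : Subgroup Ω'} {φ' : P' →* Ω'}
    (hi : InducedAlong θ φ φ') (hi' : InducedAlong θ ψ φ') (x : P) : (φ x)⁻¹ * ψ x ∈ Z := by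
  rw [← h.theta_eq (hi.2.1 x) (hi'.2.1 x),
    ← ind_apply hi x (hi.1 x.2) (ind_mem hi x _) (hi.2.1 x), ind_apply hi' x _ _ (hi'.2.1 x)]

variable [Finite S] [hp : Fact p.Prime]

theorem Setup.twist_genClosed {Y : FusionSystem (preimageAlong θ T')} (hY : GenClosed h Y)
    {α : MulAut ↥(preimageAlong θ T')} (hα : α ∈ F.autGroup (preimageAlong θ T')) :
    GenClosed h (twistSys (dSys h) Y α) := by
  intro P hP a ha
  have hTS : preimageAlong θ T' ≤ S := le_preimageAlong _ _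
  have hαP := restrict_mem F ((mem_autGroup_iff F hTS α).1 hα) hP.2.1
  set A := (P.subgroupOf (preimageAlong θ T')).map ((preimageAlong θ T').subtype.comp α.toMonoidHom) with hA
  have hr : (((preimageAlong θ T').subtype.comp α.toMonoidHom).comp (Subgroup.inclusion hP.2.1)).range = A := range_restrict _ _
  set e := mapEquiv F hαP hr
  have hAH : InH θ Z E A := h.inH_conj hP ⟨_, hαP, hr⟩
  have hf : ∀ c : (dSys h).autGroup P,
      ((MulAut.congr e).toMonoidHom.comp ((dSys h).autGroup P).subtype) c ∈ (dSys h).autGroup A :=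
    fun c => h.d_congr_aut hP.2.1 hAH.2.1 e (equivHom_mapEquiv F hαP hr) c.2
  have h1 := Cfsg.Agent.PBasic.map_pResidual_le
    (((MulAut.congr e).toMonoidHom.comp ((dSys h).autGroup P).subtype).codRestrict _ hf) ⟨a, ha, rfl⟩
  have h3 := hY A hAH _ h1
  refine (mem_autGroup_iff _ hP.2.1 _).2 ⟨(mem_autGroup_iff (dSys h) hP.2.1 _).1 a.2, _,
    (mem_autGroup_iff Y hAH.2.1 _).1 h3, fun x hx hφx hαx => ?_⟩
  show ((e ((a : MulAut P) (e.symm ⟨_, hαx⟩)) : A) : Ω) = _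
  rw [show e.symm ⟨_, hαx⟩ = x from e.injective ((e.apply_symm_apply _).trans (Subtype.ext rfl))]
  rfl

theorem Setup.x_autInvariant : AutInvariant F (xSys h) := by
  intro P hP φ hφ α hα
  obtain ⟨-, χ, hχ, hχe⟩ := h.x_min (h.twist_genClosed h.x_gen hα) P hφ
  exact ⟨χ, hχ, fun x hφx hαx => hχe x _ hφx hαx⟩

omit hp in
/-- The maps of `E` having lifts in the subsystem. -/
def imgSys : FusionSystem T' where
  Hom P' := {φ' | φ' ∈ E.Hom P' ∧ ∃ φ ∈ (xSys h).Hom (preimageAlong θ P'), InducedAlong θ φ φ'}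
  le_of_mem h' := E.le_of_mem h'.1
  injective_of_mem h' := E.injective_of_mem h'.1
  conj_mem {P' g'} hP hg := by
    obtain ⟨g, rfl⟩ := h.hran.ge (h.sc.1 hg)
    have hgT : (g : Ω) ∈ preimageAlong θ T' := (mem_preimageAlong _ _ _).2 ⟨g.2, hg⟩
    refine ⟨E.conj_mem hP hg, _, (xSys h).conj_mem (pre_mono hP) hgT, le_preimageAlong _ _,
      fun x => S.mul_mem (S.mul_mem g.2 (le_preimageAlong _ _ x.2)) (S.inv_mem g.2),
      fun x => ((mem_preimageAlong _ _ _).1 x.2).2, fun x => ?_⟩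
    show θ g * θ _ * (θ g)⁻¹ = θ _
    rw [← map_inv, ← map_mul, ← map_mul]
    rfl
  comp_mem {P' Q' φ' ψ'} := by
    rintro ⟨hφ', φ, hφ, hi⟩ ⟨hψ', ψ, hψ, hi'⟩ hv
    have hv' : ∀ x, φ x ∈ preimageAlong θ Q' := fun x =>
      (mem_preimageAlong _ _ _).2 ⟨hi.2.1 x, by
        rw [← ind_apply hi x (hi.1 x.2) (ind_mem hi x _) (hi.2.1 x)]; exact hv _⟩
    refine ⟨E.comp_mem hφ' hψ' hv, _, (xSys h).comp_mem hφ hψ hv', hi.1,
      fun x => hom_apply_mem F (h.x_le _ hψ) _, fun x => ((mem_preimageAlong _ _ _).1 x.2).2, fun x => ?_⟩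
    refine (apply_congr ψ' (ind_apply hi x (hi.1 x.2) (ind_mem hi x _) (hi.2.1 x)) _
      (ind_mem hi' ⟨φ x, hv' x⟩ _)).trans ?_
    exact ind_apply hi' ⟨φ x, hv' x⟩ _ _ _
  inv_mem {P' φ'} := by
    rintro ⟨hφ', φ, hφ, hi⟩
    obtain ⟨ψ', hψ', -, h1', -⟩ := exists_inv E hφ'
    obtain ⟨ψ, hψ, -, h1, -⟩ := exists_inv (xSys h) hφ
    have hr := h.lift_range (h.x_le _ hφ) ((hom_le E hφ').trans h.sc.1) hi
    refine ⟨ψ', ⟨hψ', ψ.comp (Subgroup.inclusion hr.ge), restrict_mem _ hψ hr.ge, le_preimageAlong _ _,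
      fun x => hom_apply_mem F (h.x_le _ hψ) _, fun x => ((mem_preimageAlong _ _ _).1 x.2).2, ?_⟩,
      fun x => h1' x _⟩
    rintro ⟨y, hy⟩
    obtain ⟨x, rfl⟩ := hr.ge hy
    refine (apply_congr ψ' (ind_apply hi x (hi.1 x.2) (ind_mem hi x _) (hi.2.1 x)).symm _ ⟨_, rfl⟩).trans ?_
    refine (h1' _ _).trans (congrArg θ (Subtype.ext ?_))
    exact (h1 x _).symm

theorem Setup.img_aut {P : Subgroup Ω} (hP : InH θ Z E P) (hfn : E.IsFullyNormalized (imageAlong θ P)) :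
    E.autGroup (imageAlong θ P) ≤ (imgSys h).autGroup (imageAlong θ P) := by
  obtain ⟨hZP, hPT, -⟩ := id hP
  have hPS := h.inH_le hP
  have hT' := h.im_le_T hPT
  haveI := finite_of_le (S := S) hPS
  haveI := h.finiteT'
  haveI := finite_of_le (S := T') hT'
  set P' := imageAlong θ P
  have hf : ∀ c : (dSys h).autGroup P, barHom h hPT c ∈ E.autGroup P' :=
    fun c => (h.barHom_range hZP hPT).le ⟨c, rfl⟩
  have hfs : Function.Surjective ((barHom h hPT).codRestrict (E.autGroup P') hf) := fun b => by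
    obtain ⟨c, hc⟩ := (h.barHom_range hZP hPT).ge b.2
    exact ⟨c, Subtype.ext hc⟩
  obtain ⟨R, hR⟩ := (isSyl_of_fullyAutomized (fullyNormalized_imp h.pgrpT' h.eSat hfn).2).toSylow
  intro γ hγ
  obtain ⟨r, hr, o, ho, hro⟩ := Subgroup.mem_sup_of_normal_right.1
    ((Cfsg.Agent.PBasic.sylow_sup_pResidual R).ge (Subgroup.mem_top ⟨γ, hγ⟩))
  have hro' : (r : MulAut P') * (o : MulAut P') = γ := congrArg Subtype.val hro
  rw [← hro']
  refine Subgroup.mul_mem _ ?_ ?_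
  · rw [hR, Subgroup.mem_subgroupOf] at hr
    exact autInducedBy_le_autGroup _ hT' hr
  obtain ⟨a, ha, hao⟩ := pResidual_le_map _ hfs ho
  have hao' : barHom h hPT a = o := congrArg Subtype.val hao
  have haX := (mem_autGroup_iff _ hPT _).1 (h.x_gen P hP a ha)
  refine (mem_autGroup_iff _ hT' _).2 ⟨(mem_autGroup_iff E hT' _).1 o.2,
    _, restrict_mem _ haX (h.pre_im hZP hPS).le, le_preimageAlong _ _,
    fun x => hom_apply_mem F (h.x_le _ haX) _, fun x => ((mem_preimageAlong _ _ _).1 x.2).2, fun x => ?_⟩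
  show (((o : MulAut P') ⟨θ _, _⟩ : P') : Ω') = _
  rw [← hao']
  exact h.barHom_spec hPT a (Subgroup.inclusion (h.pre_im hZP hPS).le x) _ _ _

/-- Every map of `E` lifts to the subsystem. -/
theorem Setup.x_lift {P' : Subgroup Ω'} {φ' : P' →* Ω'} (hφ' : φ' ∈ E.Hom P') :
    ∃ φ ∈ (xSys h).Hom (preimageAlong θ P'), InducedAlong θ φ φ' := by
  haveI := h.finiteT'
  suffices hle : E ≤ imgSys h from (hle P' hφ').2
  refine alperin h.pgrpT' h.eSat fun Q' hQ' => ?_
  obtain ⟨hc, hfn⟩ : E.IsCentric Q' ∧ E.IsFullyNormalized Q' := by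
    rcases hQ' with rfl | hess
    · have hQ : ∀ R, E.IsConj Q' R → R = Q' := fun R hR => by
        haveI := finite_of_le (S := Q') (isConj_le_right hR)
        exact Subgroup.eq_of_le_of_card_ge (isConj_le_right hR) (isConj_card hR).le
      exact ⟨⟨le_rfl, fun R hR => (centralizerIn_le _ _).trans (hQ R hR).ge⟩,
        le_rfl, fun R hR => (hQ R hR).symm ▸ le_rfl⟩
    · exact ⟨hess.1, hess.2.1⟩
  have hQS : Q' ≤ S' := hc.1.trans h.sc.1
  have hP : InH θ Z E (preimageAlong θ Q') := ⟨h.zpre Q', pre_mono hc.1, (h.im_pre hQS).symm ▸ hc⟩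
  have := h.img_aut hP ((h.im_pre hQS).symm ▸ hfn)
  rwa [h.im_pre hQS] at this

/-- Every automorphism of the image lifts to the subsystem. -/
theorem Setup.x_bar_surj {P : Subgroup Ω} (hZP : Z ≤ P) (hPT : P ≤ preimageAlong θ T')
    {α' : MulAut ↥(imageAlong θ P)} (hα' : α' ∈ E.autGroup (imageAlong θ P)) :
    ∃ α ∈ (xSys h).autGroup P, IsBar θ α α' := by
  have hPS : P ≤ S := hPT.trans (le_preimageAlong _ _)
  obtain ⟨φ, hφ, hi⟩ := h.x_lift ((mem_autGroup_iff E (h.im_le_T hPT) α').1 hα')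
  have hle : P ≤ preimageAlong θ (imageAlong θ P) := (h.pre_im hZP hPS).ge
  set ψ := φ.comp (Subgroup.inclusion hle)
  have hψ : ψ ∈ (xSys h).Hom P := restrict_mem (xSys h) hφ hle
  have hψF := h.x_le P hψ
  have hr : ψ.range = P := by
    haveI := finite_of_le (S := S) hPS
    refine Subgroup.eq_of_le_of_card_ge ?_ (isConj_card ⟨ψ, hψF, rfl⟩).le
    rintro _ ⟨x, rfl⟩
    refine h.mem_of_im hZP (hom_apply_mem F hψF x) ?_
    show θ ⟨φ (Subgroup.inclusion hle x), hom_apply_mem F hψF x⟩ ∈ _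
    rw [← ind_apply hi (Subgroup.inclusion hle x) (hPS x.2) (mem_im _ x.2) (hom_apply_mem F hψF x)]
    exact (α' _).2
  obtain ⟨α, hα, he⟩ := exists_autGroup_of_range (xSys h) hψ hr
  refine ⟨α, hα, fun x hx hm hαx => ?_⟩
  refine Eq.trans (ind_apply hi (Subgroup.inclusion hle x) hx hm (hom_apply_mem F hψF x)) ?_
  exact congrArg θ (Subtype.ext (he x).symm)

end Cfsg.Agent.FusionSys.CentLift
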