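import Cfsg.Agent.Lib.Fusion.Sylow
import Cfsg.Prelude.Def_FusionSystem
import Mathlib.GroupTheory.Transfer

/-!
# A transfer homomorphism separating a central surplus from a fusion invariant complement

If a Sylow subgroup is `R K`, with `K` central modulo `N` and `R` invariant under fusion, then some normal subgroup
contains `R` and the `p`-residual and meets `K` only in `N`.
-/

set_option autoImplicit false

namespace Cfsg.Agent.FusionSys.CentLift

open Cfsg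

theorem eq_one_of_coprime_pow {M : Type*} [Group M] {x : M} {a b : ℕ} (hab : Nat.Coprime a b)
    (ha : x ^ a = 1) (hb : x ^ b = 1) : x = 1 :=
  orderOf_eq_one_iff.1 (Nat.dvd_one.1 (hab ▸ Nat.dvd_gcd (orderOf_dvd_of_pow_eq_one ha) (orderOf_dvd_of_pow_eq_one hb)))

theorem exists_fusion_kernel {G : Type*} [Group G] [Finite G] {p : ℕ} [hp : Fact p.Prime] (K N R : Subgroup G)
    [K.Normal] (hKp : IsPGroup p K) (hKab : ∀ a ∈ K, ∀ b ∈ K, a * b = b * a)
    (hcen : ∀ g : G, ∀ k ∈ K, g * k * g⁻¹ * k⁻¹ ∈ N) (hRK : R ⊓ K ≤ N) (hidx : ¬ p ∣ (R ⊔ K).index)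
    (hfus : ∀ g : G, ∀ r ∈ R, g * r * g⁻¹ ∈ R ⊔ K → g * r * g⁻¹ ∈ R) :
    ∃ W : Subgroup G, W.Normal ∧ R ≤ W ∧ pResidual p G ≤ W ∧ W ⊓ K ≤ N := by
  classical
  letI : CommGroup K :=
    { (inferInstance : Group K) with mul_comm := fun a b => Subtype.ext (hKab a a.2 b b.2) }
  let N' : Subgroup K := N.subgroupOf K
  let q : K →* K ⧸ N' := QuotientGroup.mk' N'
  have hq : ∀ a b : K, (a : G)⁻¹ * b ∈ N → q a = q b := fun a b h =>
    QuotientGroup.eq.2 (Subgroup.mem_subgroupOf.2 h)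
  have hdec : ∀ x : ↥(R ⊔ K), ∃ r ∈ R, ∃ k : K, r * (k : G) = x := fun x => by
    obtain ⟨r, hr, k, hk, e⟩ := Subgroup.mem_sup_of_normal_right.1 x.2
    exact ⟨r, hr, ⟨k, hk⟩, e⟩
  choose fr hfr fk hfk using hdec
  have huniq : ∀ (x : ↥(R ⊔ K)) (r : G), r ∈ R → ∀ k : K, r * (k : G) = x → q (fk x) = q k := by
    intro x r hr k e
    have h1 : fr x * (fk x : G) = r * (k : G) := (hfk x).trans e.symm
    have h2 : (k : G) * (fk x : G)⁻¹ ∈ N := by
      refine hRK ⟨?_, K.mul_mem k.2 (K.inv_mem (fk x).2)⟩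
      have : (k : G) * (fk x : G)⁻¹ = r⁻¹ * fr x := by
        calc (k : G) * (fk x : G)⁻¹ = r⁻¹ * (r * k) * (fk x : G)⁻¹ := by group
          _ = r⁻¹ * (fr x * fk x) * (fk x : G)⁻¹ := by rw [h1]
          _ = r⁻¹ * fr x := by group
      rw [this]
      exact R.mul_mem (R.inv_mem hr) (hfr x)
    refine hq _ _ ?_
    rwa [hKab _ (K.inv_mem (fk x).2) _ k.2]
  have hconj : ∀ (g : G) (k : K) (h : g * (k : G) * g⁻¹ ∈ K), q ⟨g * k * g⁻¹, h⟩ = q k := by
    intro g k h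
    refine (hq _ _ ?_).symm
    rw [hKab _ (K.inv_mem k.2) _ h]
    exact hcen g k k.2
  let ψ : ↥(R ⊔ K) →* K ⧸ N' := MonoidHom.mk' (fun x => q (fk x)) fun x y => by
    have hm : (fr y)⁻¹ * (fk x : G) * ((fr y)⁻¹)⁻¹ ∈ K := ‹K.Normal›.conj_mem _ (fk x).2 _
    refine (huniq (x * y) (fr x * fr y) (R.mul_mem (hfr x) (hfr y)) (⟨_, hm⟩ * fk y) ?_).trans ?_
    · rw [Subgroup.coe_mul (R ⊔ K), ← hfk x, ← hfk y, Subgroup.coe_mul K]
      show _ * ((fr y)⁻¹ * (fk x : G) * ((fr y)⁻¹)⁻¹ * fk y) = _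
      group
    · rw [map_mul, hconj]
  have hψR : ∀ x : ↥(R ⊔ K), (x : G) ∈ R → ψ x = 1 := fun x hx => by
    refine (huniq x x hx 1 (mul_one _)).trans (map_one q)
  have hψK : ∀ (x : ↥(R ⊔ K)) (hx : (x : G) ∈ K), ψ x = q ⟨x, hx⟩ := fun x hx =>
    huniq x 1 R.one_mem ⟨x, hx⟩ (one_mul _)
  let V : G →* K ⧸ N' := MonoidHom.transfer ψ
  letI := (R ⊔ K).fintypeQuotientOfFiniteIndex
  have hVR : R ≤ V.ker := fun r hr => by
    rw [MonoidHom.mem_ker]
    show MonoidHom.transfer ψ r = 1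
    rw [MonoidHom.transfer_eq_prod_quotient_orbitRel_zpowers_quot]
    refine Finset.prod_eq_one fun o _ => hψR _ ?_
    have hmem := QuotientGroup.out_conj_pow_minimalPeriod_mem (R ⊔ K) r o.out
    have h2 := hfus (o.out.out⁻¹) _ (R.pow_mem hr (Function.minimalPeriod (r • ·) o.out))
      (by rw [inv_inv]; exact hmem)
    rwa [inv_inv] at h2
  have hVK : ∀ k : K, V k = q k ^ (R ⊔ K).index := by
    intro k
    show MonoidHom.transfer ψ (k : G) = _
    rw [MonoidHom.transfer_eq_prod_quotient_orbitRel_zpowers_quot,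
      Subgroup.index_eq_sum_minimalPeriod (R ⊔ K) (k : G), ← Finset.prod_pow_eq_pow_sum]
    refine Finset.prod_congr rfl fun o _ => ?_
    set m := Function.minimalPeriod ((k : G) • ·) o.out
    have hm : o.out.out⁻¹ * ((k ^ m : K) : G) * (o.out.out⁻¹)⁻¹ ∈ K := ‹K.Normal›.conj_mem _ (k ^ m).2 _
    have hmK : o.out.out⁻¹ * (k : G) ^ m * o.out.out ∈ K := by
      rwa [inv_inv, SubgroupClass.coe_pow] at hm
    refine (hψK _ hmK).trans ((congrArg q (Subtype.ext ?_)).trans ((hconj _ _ hm).trans (map_pow q k m)))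
    show o.out.out⁻¹ * (k : G) ^ m * o.out.out = o.out.out⁻¹ * ((k ^ m : K) : G) * (o.out.out⁻¹)⁻¹
    rw [inv_inv, SubgroupClass.coe_pow]
  have hMp : IsPGroup p (K ⧸ N') := hKp.to_quotient N'
  refine ⟨V.ker, inferInstance, hVR, (Subgroup.closure_le _).2 fun a ha => ?_, ?_⟩
  · obtain ⟨j, hj⟩ := hMp (V a)
    exact MonoidHom.mem_ker.2 (eq_one_of_coprime_pow (Nat.Coprime.pow_left j (Nat.Coprime.symm ha)) hj
      (by rw [← map_pow, pow_orderOf_eq_one, map_one]))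
  · rintro k ⟨hkW, hkK⟩
    have h1 := hVK ⟨k, hkK⟩
    rw [MonoidHom.mem_ker.1 hkW] at h1
    obtain ⟨j, hj⟩ := hMp (q ⟨k, hkK⟩)
    have h2 : q ⟨k, hkK⟩ = 1 := eq_one_of_coprime_pow
      (Nat.Coprime.pow_left j ((Nat.Prime.coprime_iff_not_dvd hp.out).2 hidx)) hj h1.symm
    exact Subgroup.mem_subgroupOf.1 ((QuotientGroup.eq_one_iff _).1 h2)

end Cfsg.Agent.FusionSys.CentLift
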