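import Cfsg.Agent.Lib.Fusion.CentralizerGood

/-!
# The centralizer of a normal subsystem is strongly closed
-/

set_option autoImplicit false
set_option linter.unusedSectionVars false
set_option linter.style.haveILetI false

namespace Cfsg.Agent.FusionSys.FocCent

open Cfsg Cfsg.FusionSystem Cfsg.Agent.FusionSys

variable {Ω : Type*} [Group Ω] {S T : Subgroup Ω} [Finite S] {p : ℕ} [hp : Fact p.Prime]

theorem radical_of_isConj (hS : IsPGroup p S) {F : FusionSystem S} {Q Q' : Subgroup Ω} (f : Q ≃* Q')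
    (hf : equivHom f ∈ F.Hom Q) (hf' : equivHom f.symm ∈ F.Hom Q') (hr : F.IsRadical p Q) :
    F.IsRadical p Q' := by
  have hQS : Q ≤ S := hom_le F hf
  have hQ'S : Q' ≤ S := hom_le F hf'
  haveI := finite_of_le hQ'S
  refine ⟨hQ'S, le_antisymm ?_ fun a ha => ?_⟩
  · rintro _ ⟨a, ha, rfl⟩
    let g : F.autGroup Q' →* F.autGroup Q :=
      ((MulAut.congr f.symm).toMonoidHom.comp (F.autGroup Q').subtype).codRestrict _ fun b =>
        congr_mem_autGroup F f.symm hf' hf b.2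
    have hg : Function.Surjective g := fun b =>
      ⟨⟨_, congr_mem_autGroup F f hf hf' b.2⟩, Subtype.ext (MulEquiv.ext fun x => by
        show f.symm (f ((b : MulAut Q) (f.symm (f x)))) = (b : MulAut Q) x
        simp)⟩
    have h1 := hr.2.le ⟨g a, Cfsg.Agent.PBasic.map_pCore_le_of_surjective g hg ⟨a, ha, rfl⟩, rfl⟩
    rw [inn_eq_autInducedBy_self, mem_autInducedBy_iff] at h1
    obtain ⟨q, hq, hqe⟩ := h1
    rw [inn_eq_autInducedBy_self, mem_autInducedBy_iff]
    refine ⟨f ⟨q, hq⟩, (f _).2, fun x => ?_⟩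
    have h2 : f.symm ((a : MulAut Q') (f (f.symm x))) = ⟨q, hq⟩ * f.symm x * (⟨q, hq⟩ : Q)⁻¹ :=
      Subtype.ext (hqe (f.symm x))
    rw [f.apply_symm_apply] at h2
    have h3 := congrArg f h2
    rw [f.apply_symm_apply, map_mul, map_mul, map_inv, f.apply_symm_apply] at h3
    exact congrArg Subtype.val h3
  · refine ⟨⟨a, inn_le_autGroup F hQ'S ha⟩, ?_, rfl⟩
    refine Cfsg.Agent.PBasic.le_pCore (innSubgroupOfNormal Q' _) ?_ (Subgroup.mem_subgroupOf.2 ha)
    exact ((inn_eq_autInducedBy_self Q').symm ▸ autInducedBy_isPGroup (hS.to_le hQ'S)).comap_of_injective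
      _ (F.autGroup Q').subtype_injective

theorem centralizer_le_of_radical (hS : IsPGroup p S) {F : FusionSystem S} (hT : F.StronglyClosed T)
    {Q : Subgroup Ω} (hc : F.IsCentric Q) (hr : F.IsRadical p Q) :
    T ⊓ Subgroup.centralizer ((Q ⊓ T : Subgroup Ω) : Set Ω) ≤ Q ⊓ T := by
  refine le_inf ?_ inf_le_left
  set R := Q ⊓ T
  have hQS := hc.1
  haveI := finite_of_le hQS
  haveI := finite_of_le (normalizerIn_le S R)
  have hTn := stronglyClosed_le_normalizer hT
  refine le_of_normalizer_le (S := normalizerIn S R) (hS.to_le (normalizerIn_le _ _)) ?_ ?_ ?_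
    fun x hx hxN => ?_
  · intro q hq
    refine ⟨hQS hq, mem_normalizer_of_conj_mem q ?_ ?_⟩
    · exact fun r hr => ⟨Q.mul_mem (Q.mul_mem hq hr.1) (Q.inv_mem hq),
        (Subgroup.mem_normalizer_iff.1 (hTn (hQS hq)) r).1 hr.2⟩
    · exact fun r hr => ⟨by simpa using Q.mul_mem (Q.mul_mem (Q.inv_mem hq) hr.1) hq,
        by simpa using (Subgroup.mem_normalizer_iff.1 (hTn (S.inv_mem (hQS hq))) r).1 hr.2⟩
  · exact fun x hx => ⟨hT.1 hx.1, Subgroup.centralizer_le_normalizer _ hx.2⟩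
  · intro g hg
    have key : ∀ g' ∈ normalizerIn S R, ∀ x ∈ T ⊓ Subgroup.centralizer (R : Set Ω),
        g' * x * g'⁻¹ ∈ T ⊓ Subgroup.centralizer (R : Set Ω) := fun g' hg' x hx =>
      ⟨(Subgroup.mem_normalizer_iff.1 (hTn hg'.1) x).1 hx.1, Subgroup.mem_centralizer_iff.2 fun r hr => by
        have hr' : g'⁻¹ * r * g' ∈ R := by
          simpa using (Subgroup.mem_normalizer_iff.1 (Subgroup.inv_mem _ hg'.2) r).1 hr
        have hc := Subgroup.mem_centralizer_iff.1 hx.2 _ hr'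
        calc r * (g' * x * g'⁻¹) = g' * (g'⁻¹ * r * g' * x) * g'⁻¹ := by group
          _ = g' * x * g'⁻¹ * r := by rw [hc]; group⟩
    refine mem_normalizer_of_conj_mem g (key g hg) fun x hx => ?_
    simpa using key g⁻¹ (Subgroup.inv_mem _ hg) x hx
  · refine mem_of_stabilizer hS hc hr (ι := Bool) (fun b => if b then T else ⊤)
      (fun b => if b then ⊥ else T) ?_ ?_ ?_ (hT.1 hx.1) hxN ?_
    · intro b α hα y hy
      cases b
      · exact Subgroup.mem_top _
      · exact stronglyClosed_autGroup_mem hT hQS hα y hy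
    · intro b α hα y hy
      cases b
      · exact stronglyClosed_autGroup_mem hT hQS hα y hy
      · simp only [if_true, Subgroup.mem_bot] at hy ⊢
        rw [show y = 1 from Subtype.ext hy, map_one]; rfl
    · intro α hα hco hst
      have hTfix : ∀ y : Q, (y : Ω) ∈ T → α y = y := fun y hy => by
        have h1 := hst true y (by simpa using hy)
        simp only [if_true, Subgroup.mem_bot] at h1
        exact Subtype.ext (inv_mul_eq_one.1 h1).symm
      refine MulEquiv.ext fun y => fix_of_step (hS.to_le hQS) hco (hTfix _ ?_)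
      simpa using hst false y (by simp)
    · intro b y hyQ hy
      cases b
      · exact conj_commutator_mem hTn (hQS hyQ) hx.1
      · simp only [if_true, Subgroup.mem_bot] at hy ⊢
        rw [← Subgroup.mem_centralizer_iff.1 hx.2 y ⟨hyQ, hy⟩]
        group

/-- The maps preserving `C` in both directions. -/
def preserveSystem (F : FusionSystem S) (C : Subgroup Ω)
    (hC : ∀ g ∈ S, ∀ x ∈ S, g * x * g⁻¹ ∈ C ↔ x ∈ C) : FusionSystem S where
  Hom P := {φ | φ ∈ F.Hom P ∧ ∀ x : P, φ x ∈ C ↔ (x : Ω) ∈ C}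
  le_of_mem h := F.le_of_mem h.1
  injective_of_mem h := F.injective_of_mem h.1
  conj_mem hP hg := ⟨F.conj_mem hP hg, fun x => hC _ hg _ (hP x.2)⟩
  comp_mem h1 h2 h := ⟨F.comp_mem h1.1 h2.1 h, fun x => (h2.2 _).trans (h1.2 x)⟩
  inv_mem := by
    intro P φ h
    obtain ⟨ψ, hψ, he⟩ := F.inv_mem h.1
    refine ⟨ψ, ⟨hψ, ?_⟩, he⟩
    rintro ⟨-, x, rfl⟩
    rw [he]
    exact (h.2 x).symm

/-- A map on an overgroup of `T` preserves the subgroup of centralizing elements in both directions. -/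
theorem goodSub_map_iff (hS : IsPGroup p S) {F : FusionSystem S} (hF : F.IsSaturated p)
    {E : FusionSystem T} (hE : E.IsNormalIn F p) {Q : Subgroup Ω} (hTQ : T ≤ Q) {φ : Q →* Ω}
    (hφ : φ ∈ F.Hom Q) (x : Q) : φ x ∈ goodSub F E ↔ (x : Ω) ∈ goodSub F E := by
  have hT := hE.1.2.2.2.1
  have := finite_of_le hT.1
  constructor
  · intro hx
    obtain ⟨χ, hχ, -, hχ1, -⟩ := exists_inv F hφ
    have hTr : T ≤ φ.range := by
      obtain ⟨a, -, hae⟩ := exists_aut_of_invariant F (restrict_mem F hφ hTQ)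
        fun t => stronglyClosed_apply_mem hT (restrict_mem F hφ hTQ) t t.2
      intro t ht
      refine ⟨⟨(a⁻¹ ⟨t, ht⟩ : T), hTQ (a⁻¹ _).2⟩, ?_⟩
      have := hae (a⁻¹ ⟨t, ht⟩)
      rw [show a (a⁻¹ ⟨t, ht⟩) = ⟨t, ht⟩ from a.apply_symm_apply _] at this
      exact this.symm
    have h := good_map hE.1.2.2 hTr hχ (x := ⟨φ x, x, rfl⟩) (good_of_mem hS hF hE hx)
    rw [show χ ⟨φ x, ⟨x, rfl⟩⟩ = x from hχ1 x _] at h
    exact Subgroup.subset_closure h
  · exact fun hx => Subgroup.subset_closure (good_map hE.1.2.2 hTQ hφ (good_of_mem hS hF hE hx))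

theorem le_of_good (hS : IsPGroup p S) {F : FusionSystem S} (hF : F.IsSaturated p)
    {E : FusionSystem T} (hE : E.IsNormalIn F p) {X : FusionSystem S}
    (htop : ∀ Q : Subgroup Ω, T ≤ Q → Q ≤ S → F.autGroup Q ≤ X.autGroup Q)
    (hfix : ∀ Q : Subgroup Ω, Q ≤ S → ∀ a ∈ F.autGroup Q,
      (∀ x : Q, (x : Ω) ∈ goodSub F E → a x = x) → a ∈ X.autGroup Q) : F ≤ X := by
  obtain ⟨hEsat, -, hEinv⟩ := hE.1
  obtain ⟨hEF, hTc, -, hFr⟩ := id hEinv
  have hTS := hTc.1
  have hTn := stronglyClosed_le_normalizer hTc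
  set C := goodSub F E with hCdef
  refine alperin_ind hS hF fun Q hQ ih α hα => ?_
  have hQS : Q ≤ S := hQ.elim (fun h => h.le) fun h => h.1.1
  by_cases hTQ : T ≤ Q
  · exact htop Q hTQ hQS hα
  have hess := hQ.resolve_left fun h => hTQ (h ▸ hTS)
  have hrad := essential_radical hS hF hess
  haveI := finite_of_le hQS
  set R := Q ⊓ T with hRdef
  have hRQ : R ≤ Q := inf_le_left
  have hRT : R ≤ T := inf_le_right
  have hRS := hRT.trans hTS
  haveI := finite_of_le hRS
  have hQN : Q ≤ normalizerIn S R := by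
    intro q hq
    refine ⟨hQS hq, mem_normalizer_of_conj_mem_finite fun r hr => ?_⟩
    exact ⟨Q.mul_mem (Q.mul_mem hq hr.1) (Q.inv_mem hq),
      (Subgroup.mem_normalizer_iff.1 (hTn (hQS hq)) r).1 hr.2⟩
  obtain ⟨R', hconjR, hR'⟩ := exists_fullyNormalized F hRS
  obtain ⟨φ, hφ, -, hφR⟩ := exists_normalizer_map_fullyNormalized hS hF hR' hconjR
  have hres := extend_restrict_range (le_normalizerIn hRS) hφR
  set e := mapEquiv F (restrict_mem F hφ (le_normalizerIn hRS)) hres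
  set Q' := (φ.comp (Subgroup.inclusion hQN)).range with hQ'def
  set f := mapEquiv F (restrict_mem F hφ hQN) (rfl : (φ.comp (Subgroup.inclusion hQN)).range = Q')
  have hf := equivHom_mapEquiv F (restrict_mem F hφ hQN) (rfl : (φ.comp (Subgroup.inclusion hQN)).range = Q')
  have hf' := equivHom_mapEquiv_symm F (restrict_mem F hφ hQN) (rfl : (φ.comp (Subgroup.inclusion hQN)).range = Q')
  have hR'Q : R' = Q' ⊓ T := by
    refine le_antisymm (fun r hr => ?_) ?_
    · obtain ⟨u, rfl⟩ := hres.ge hr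
      exact ⟨⟨⟨u, hRQ u.2⟩, rfl⟩, stronglyClosed_apply_mem hTc hφ _ (hRT u.2)⟩
    · rintro _ ⟨⟨u, rfl⟩, hu⟩
      refine hres.le ⟨⟨u, u.2, ?_⟩, rfl⟩
      obtain ⟨χ, hχ, -, hχ1, -⟩ := exists_inv F hφ
      have h1 := stronglyClosed_apply_mem hTc hχ ⟨_, Subgroup.inclusion hQN u, rfl⟩ hu
      rw [show χ ⟨φ (Subgroup.inclusion hQN u), ⟨_, rfl⟩⟩ = (Subgroup.inclusion hQN u : Ω) from
        hχ1 (Subgroup.inclusion hQN u) _] at h1
      exact h1
  have hRc : T ⊓ Subgroup.centralizer (R' : Set Ω) ≤ R' := by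
    rw [hR'Q]
    exact centralizer_le_of_radical hS hTc (isCentric_isConj hess.1 ⟨_, hf, equivHom_range f⟩)
      (radical_of_isConj hS f hf hf' hrad)
  have hfc := (fullyNormalized_imp hS hF hR').1
  obtain ⟨L, hL, -, hLn, hV⟩ := exists_liftable hS hF hEinv hRT hφ hφR hfc hRc e (fun r hr => rfl)
  -- restriction to `R`
  set A := F.autGroup Q
  have hpres : ∀ a ∈ A, ∀ x : Q, (x : Ω) ∈ R → ((a x : Q) : Ω) ∈ R := fun a ha x hx =>
    ⟨(a x).2, stronglyClosed_autGroup_mem hTc hQS ha x hx.2⟩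
  choose res hresm hresr using fun a : A => exists_rel F hRQ hQS a.2 (hpres a a.2)
  let res' : A →* MulAut R := MonoidHom.mk' res fun a b => MulEquiv.ext fun x =>
    Subgroup.inclusion_injective hRQ (by
      rw [← hresr (a * b) x]
      exact ((hresr a).mul (hresr b)) x)
  let K1 : Subgroup A :=
    { carrier := {a | ∀ y : Q, (y : Ω)⁻¹ * (((a : MulAut Q) y : Q) : Ω) ∈ R}
      one_mem' := fun y => by simp [R.one_mem]
      mul_mem' := fun {a b} ha hb y => by
        have h2 := ha ((b : MulAut Q) y)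
        have := R.mul_mem (hb y) h2
        rwa [mul_assoc, mul_inv_cancel_left] at this
      inv_mem' := fun {a} ha y => by
        have h1 := R.inv_mem (ha ((a : MulAut Q)⁻¹ y))
        rwa [show (a : MulAut Q) ((a : MulAut Q)⁻¹ y) = y from (a : MulAut Q).apply_symm_apply y,
          mul_inv_rev, inv_inv] at h1 }
  set H := K1 ⊓ L.comap res' with hH
  haveI hHn : H.Normal := ⟨fun a ha b => by
    refine ⟨fun y => ?_, ?_⟩
    · set y' := (b : MulAut Q)⁻¹ y with hy'
      have hby : (b : MulAut Q) y' = y := (b : MulAut Q).apply_symm_apply y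
      have h1 := hpres b b.2 (y'⁻¹ * (a : MulAut Q) y') (ha.1 y')
      rw [map_mul, map_inv, hby, Subgroup.coe_mul, Subgroup.coe_inv] at h1
      exact h1
    · show res' (b * a * b⁻¹) ∈ L
      rw [map_mul, map_mul, map_inv]
      exact hLn _ (hresm b) _ ha.2⟩
  -- the automorphisms preserving `C`
  set D := X.autGroup Q
  obtain ⟨Sy, hSy⟩ := (fullyNormalized_imp hS hF hess.2.1).2.2
  obtain ⟨PH, hPH⟩ := Cfsg.Agent.PBasic.exists_sylow_subgroupOf Sy H
  have hpfix : ∀ a ∈ H, (orderOf a).Coprime p → ∀ x : Q, (x : Ω) ∈ C → (a : MulAut Q) x = x := by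
    intro a ha hco x hx
    obtain ⟨hβE, k, hk, hkβ⟩ := hL _ ha.2
    have hy := good_of_mem hS hF hE hx
    have hxN : (x : Ω) ∈ normalizerIn S R := hQN x.2
    obtain ⟨τ, hτ, hτR, hτx⟩ := transport_hat hTS hRT hφ e (fun r hr => rfl) hβE hy hxN
    have hR'le : R' ≤ Q' := hR'Q.le.trans inf_le_left
    have hh := congr_mem_autGroup F f hf hf' a.2
    have hrel : Rel hR'le (MulAut.congr f (a : MulAut Q)) (MulAut.congr e (res' a)) := by
      intro r
      obtain ⟨r, rfl⟩ := e.surjective r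
      have h1 : Subgroup.inclusion hR'le (e r) = f (Subgroup.inclusion hRQ r) := Subtype.ext rfl
      rw [h1, congr_apply, f.symm_apply_apply, congr_apply, e.symm_apply_apply]
      refine Eq.trans (congrArg f ((hresr a) r)) (Subtype.ext rfl)
    have hcx : ((f x : Q') : Ω) ∈ centralizerIn S R' :=
      ⟨hom_apply_mem F hφ _, apply_mem_centralizer φ (le_normalizerIn hRS) hres _
        (Subgroup.centralizer_le hRT hy.1.2)⟩
    have hz : ((f x : Q') : Ω)⁻¹ * ((MulAut.congr f (a : MulAut Q) (f x) : Q') : Ω) ∈ zc R' := by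
      rw [congr_apply, f.symm_apply_apply]
      refine ⟨?_, ?_⟩
      · have h1 := ha.1 x
        refine hres.le ⟨⟨_, h1⟩, ?_⟩
        show φ _ = (φ _)⁻¹ * φ _
        rw [← map_inv, ← map_mul]
        exact congrArg φ (Subtype.ext rfl)
      · refine Subgroup.mul_mem _ (Subgroup.inv_mem _ hcx.2) (apply_mem_centralizer φ (le_normalizerIn hRS) hres _ ?_)
        refine Subgroup.mem_centralizer_iff.2 fun r hr => ?_
        set r₀ := (a : MulAut Q)⁻¹ ⟨r, hRQ hr⟩ with hr₀
        have hr₀R := hpres _ (Subgroup.inv_mem _ a.2) ⟨r, hRQ hr⟩ hr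
        have hc : r₀ * x = x * r₀ := Subtype.ext (Subgroup.mem_centralizer_iff.1 hy.1.2 _ (hRT hr₀R))
        have h2 := congrArg (a : MulAut Q) hc
        rw [map_mul, map_mul, show (a : MulAut Q) r₀ = ⟨r, hRQ hr⟩ from (a : MulAut Q).apply_symm_apply _] at h2
        exact congrArg Subtype.val h2
    have h3 := fix_of_pprime hS hF hfc hR'le (hom_le F hf') hh hrel
      (by rw [MulEquiv.orderOf_eq, Subgroup.orderOf_coe]; exact hco) hk hkβ (x := f x) hcx hz hτ hτR hτx
    rw [congr_apply, f.symm_apply_apply] at h3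
    exact f.injective h3
  have hHD : ∀ a ∈ H, (a : MulAut Q) ∈ D := by
    have htop' : (PH : Subgroup H) ⊔ Cfsg.pResidual p H ≤ (D.subgroupOf A).subgroupOf H := by
      refine sup_le (fun b hb => ?_) ((Subgroup.closure_le _).2 fun b hb => ?_)
      · rw [hPH, hSy] at hb
        exact autInducedBy_le_autGroup X hQS hb
      · exact hfix Q hQS b.1 b.1.2 fun x hx => hpfix b b.2 (by rw [Subgroup.orderOf_coe]; exact hb) x hx
    rw [Cfsg.Agent.PBasic.sylow_sup_pResidual] at htop'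
    exact fun a ha => htop' (Subgroup.mem_top (⟨a, ha⟩ : H))
  suffices htopA : D.subgroupOf A = ⊤ from (htopA.ge (Subgroup.mem_top (⟨α, hα⟩ : A)) : _)
  rw [← top_le_iff, ← Sylow.normalizer_sup_eq_top PH]
  refine sup_le (fun n hn => ?_) fun a ha => hHD a ha
  -- an element normalizing the Sylow subgroup of `H` extends
  have hnQ := (equivHom_autGroup F hQS).1 n.2
  obtain ⟨g, hgT, hgN, hgQ⟩ : ∃ g ∈ T, g ∈ Subgroup.normalizer (Q : Set Ω) ∧ g ∉ Q := by
    by_contra hcon
    push Not at hcon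
    exact hTQ (le_of_normalizer_le hS hQS hTS hTn hcon)
  obtain ⟨c, hc, hce⟩ := exists_conjAut (K := S) (hTS hgT) hgN
  have hcA : c ∈ A := autInducedBy_le_autGroup F hQS hc
  have hgR : g ∈ Subgroup.normalizer (R : Set Ω) := by
    refine mem_normalizer_of_conj_mem_finite fun r hr => ?_
    exact ⟨(Subgroup.mem_normalizer_iff.1 hgN r).1 hr.1, T.mul_mem (T.mul_mem hgT hr.2) (T.inv_mem hgT)⟩
  have hcH : (⟨c, hcA⟩ : A) ∈ H := by
    refine ⟨fun y => ?_, ?_⟩
    · show (y : Ω)⁻¹ * ((c y : Q) : Ω) ∈ R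
      rw [hce]
      refine ⟨Q.mul_mem (Q.inv_mem y.2) ((Subgroup.mem_normalizer_iff.1 hgN y).1 y.2), ?_⟩
      exact conj_commutator_mem hTn (hQS y.2) hgT
    · refine (hV (res' ⟨c, hcA⟩) ((mem_autInducedBy_iff _).2 ⟨g, hgT, fun x => ?_⟩)).1
      rw [show ((res' ⟨c, hcA⟩ x : R) : Ω) = ((c ⟨x, hRQ x.2⟩ : Q) : Ω) from
        ((hresr ⟨c, hcA⟩).apply x).symm, hce]
  have hcP : (⟨c, hcA⟩ : A) ∈ (PH : Subgroup H).map H.subtype :=
    ⟨⟨_, hcH⟩, by rw [SetLike.mem_coe, hPH, hSy]; exact hc, rfl⟩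
  obtain ⟨b, hb, hbe⟩ := (Subgroup.mem_normalizer_iff.1 hn _).1 hcP
  rw [SetLike.mem_coe, hPH, hSy] at hb
  obtain ⟨k, hk, hke⟩ := (mem_autInducedBy_iff _).1 hb
  have hgext : g ∈ extender S Q (equivHom (n : MulAut Q)) := by
    refine Subgroup.subset_closure ⟨hTS hgT, hgN, k, hk, fun x hx => ?_⟩
    have h2 := hke ((n : MulAut Q) x)
    rw [show A.subtype (H.subtype b) = (n : MulAut Q) * c * (n : MulAut Q)⁻¹ from congrArg Subtype.val hbe] at h2
    simp only [MulAut.mul_apply] at h2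
    rw [show (n : MulAut Q)⁻¹ ((n : MulAut Q) x) = x from (n : MulAut Q).symm_apply_apply x] at h2
    refine Eq.trans ?_ h2
    show (((n : MulAut Q) ⟨_, hx⟩ : Q) : Ω) = _
    rw [show (⟨g * (x : Ω) * g⁻¹, hx⟩ : Q) = c x from Subtype.ext (hce x).symm]
  obtain ⟨ψ, hψ, hag⟩ := (fullyNormalized_receptive hS hF hess.2.1).2 Q _ hnQ (equivHom_range (n : MulAut Q))
  have hQe : Q ≤ extender S Q (equivHom (n : MulAut Q)) := le_extender F hnQ
  have hlt : Q < extender S Q (equivHom (n : MulAut Q)) :=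
    lt_of_le_of_ne hQe fun h => hgQ (h.ge hgext)
  have hmem := ih _ hlt hψ
  refine (equivHom_autGroup _ hQS).2 (hom_congr _ (restrict_mem X hmem hQe) fun x => ?_)
  exact (hag x x.2 (hQe x.2)).symm

theorem stronglyClosed_goodSub (hS : IsPGroup p S) {F : FusionSystem S} (hF : F.IsSaturated p)
    {E : FusionSystem T} (hE : E.IsNormalIn F p) : F.StronglyClosed (goodSub F E) := by
  have hTS := hE.1.2.2.2.1.1
  have hconj : ∀ g ∈ S, ∀ x ∈ S, g * x * g⁻¹ ∈ goodSub F E ↔ x ∈ goodSub F E := fun g hg x hx =>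
    goodSub_map_iff hS hF hE hTS (F.conj_mem le_rfl hg) ⟨x, hx⟩
  have key : F ≤ preserveSystem F (goodSub F E) hconj := by
    refine le_of_good hS hF hE (fun Q hTQ hQS a ha => (equivHom_autGroup _ hQS).2
      ⟨(equivHom_autGroup F hQS).1 ha, goodSub_map_iff hS hF hE hTQ ((equivHom_autGroup F hQS).1 ha)⟩)
      fun Q hQS a ha hfix => (equivHom_autGroup _ hQS).2 ⟨(equivHom_autGroup F hQS).1 ha, fun x => ?_⟩
    refine ⟨fun hx => ?_, fun hx => ?_⟩
    · have h1 := a.injective (hfix (a x) hx)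
      have h2 : ((a x : Q) : Ω) ∈ goodSub F E := hx
      rwa [h1] at h2
    · show ((a x : Q) : Ω) ∈ goodSub F E
      rw [hfix x hx]; exact hx
  exact ⟨(goodSub_le F E).trans (centralizerIn_le _ _), fun R hR φ hφ x => ((key R hφ).2 x).2 (hR x.2)⟩

end Cfsg.Agent.FusionSys.FocCent
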