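import Cfsg.Agent.Lib.Fusion.CentralizerGood
import Cfsg.Agent.Lib.Fusion.AlperinGroup
import Cfsg.Agent.Lib.Fusion.FactorLift

/-!
# A normal subsystem acts trivially on a normal subgroup modulo its carrier
-/

set_option autoImplicit false
set_option linter.unusedSectionVars false
set_option linter.style.haveILetI false

namespace Cfsg.Agent.FusionSys.LayerCore

open Cfsg Cfsg.FusionSystem Cfsg.Agent.FusionSys Cfsg.Agent.FusionSys.FocCent
open scoped commutatorElement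

variable {Ω : Type*} [Group Ω] {S T : Subgroup Ω} [Finite S] {p : ℕ} [hp : Fact p.Prime]

omit hp in
theorem exists_pprime_exp (p : ℕ) [Fact p.Prime] {G H : Type*} [Group G] [Group H] [Finite G] [Finite H]
    (g : G) (k : H) (hco : (orderOf k).Coprime p) :
    ∃ n : ℕ, (orderOf (g ^ n)).Coprime p ∧ k ^ n = k := by
  obtain ⟨n, hn, hne⟩ := exists_pprime_pow (p := p) (MonoidHom.snd G H) (g, k) hco
  exact ⟨n, Nat.Coprime.coprime_dvd_left (orderOf_map_dvd (MonoidHom.fst G H) ((g, k) ^ n)) hn, hne⟩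

omit hp in
/-- A coprime automorphism trivial on `M/K` and on `K/N` is trivial on `M/N`. -/
theorem step_mod [Fact p.Prime] {M : Subgroup Ω} [Finite M] (hM : IsPGroup p M) {α : MulAut M}
    (hco : (orderOf α).Coprime p) {K N : Subgroup Ω}
    (hKN : ∀ x : M, (x : Ω) ∈ K → (x : Ω)⁻¹ * ((α x : M) : Ω) ∈ N)
    (hNK : N ≤ K) {y : M} (hy : (y : Ω)⁻¹ * ((α y : M) : Ω) ∈ K) :
    (y : Ω)⁻¹ * ((α y : M) : Ω) ∈ N := by
  set w := y⁻¹ * α y with hw
  have hwK : (w : Ω) ∈ K := hy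
  have hwα : ∀ j : ℕ, (((α ^ j) w : M) : Ω) ∈ K ∧ (w : Ω)⁻¹ * (((α ^ j) w : M) : Ω) ∈ N := by
    intro j
    induction j with
    | zero => exact ⟨hwK, by simp⟩
    | succ j ih =>
      have h1 := hKN ((α ^ j) w) ih.1
      rw [pow_succ', MulAut.mul_apply]
      refine ⟨?_, ?_⟩
      · have := K.mul_mem ih.1 (hNK h1)
        rwa [mul_inv_cancel_left] at this
      · have := N.mul_mem ih.2 h1
        rwa [mul_assoc, mul_inv_cancel_left] at this
  have key : ∀ j : ℕ, ∃ v : Ω, v ∈ N ∧ ((α ^ j) y : M) = (y : Ω) * (w : Ω) ^ j * v := by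
    intro j
    induction j with
    | zero => exact ⟨1, N.one_mem, by simp⟩
    | succ j ih =>
      obtain ⟨v, hv, hvj⟩ := ih
      have hvM : v ∈ M := by
        have e : v = (((y * w ^ j)⁻¹ * (α ^ j) y : M) : Ω) := by
          rw [Subgroup.coe_mul, Subgroup.coe_inv, Subgroup.coe_mul, SubgroupClass.coe_pow, hvj]; group
        rw [e]; exact SetLike.coe_mem _
      have hyj : (α ^ j) y = y * w ^ j * ⟨v, hvM⟩ := Subtype.ext (hvj.trans rfl)
      have hv' : ((α ⟨v, hvM⟩ : M) : Ω) ∈ N := by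
        have := N.mul_mem hv (hKN ⟨v, hvM⟩ (hNK hv))
        rwa [mul_inv_cancel_left] at this
      have hwj : ((w ^ j : M) : Ω)⁻¹ * ((α (w ^ j) : M) : Ω) ∈ N := hKN _ (by
        rw [SubgroupClass.coe_pow]; exact K.pow_mem hwK j)
      refine ⟨((w ^ j : M) : Ω)⁻¹ * ((α (w ^ j) : M) : Ω) * _, N.mul_mem hwj hv', ?_⟩
      rw [pow_succ' α, MulAut.mul_apply, hyj, map_mul, map_mul,
        show α y = y * w from (mul_inv_cancel_left _ _).symm]
      simp only [Subgroup.coe_mul, SubgroupClass.coe_pow]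
      rw [pow_succ' (w : Ω)]
      group
  obtain ⟨v, hv, hvn⟩ := key (orderOf α)
  rw [pow_orderOf_eq_one, MulAut.one_apply, mul_assoc, left_eq_mul] at hvn
  have hwn : (w : Ω) ^ orderOf α ∈ N := by
    rw [eq_inv_of_mul_eq_one_left hvn]; exact N.inv_mem hv
  obtain ⟨m, hm⟩ := IsPGroup.iff_orderOf.1 hM w
  obtain ⟨i, hi⟩ := exists_pow_eq_self_of_coprime (x := w) (n := orderOf α) (by
    rw [hm]; exact hco.pow_right m)
  show (w : Ω) ∈ N
  rw [← congrArg Subtype.val hi, SubgroupClass.coe_pow, SubgroupClass.coe_pow]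
  exact N.pow_mem hwn i

/-- The maps of `D` extending over `Q` trivially modulo `T`. -/
def ModExt (F : FusionSystem S) (T Q : Subgroup Ω) (P : Subgroup Ω) (φ : P →* Ω) : Prop :=
  ∃ ψ ∈ F.Hom (P ⊔ Q), (∀ x : P, ψ (Subgroup.inclusion le_sup_left x) = φ x) ∧
    ∀ (q : Ω) (hq : q ∈ Q), ψ ⟨q, Subgroup.mem_sup_right hq⟩ ∈ Q ∧
      q⁻¹ * ψ ⟨q, Subgroup.mem_sup_right hq⟩ ∈ T

noncomputable def modSys (F : FusionSystem S) {Q : Subgroup Ω} (hQ : F.IsNormal Q) (hT : F.StronglyClosed T)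
    (D : FusionSystem T) : FusionSystem T where
  Hom P := {φ | φ ∈ D.Hom P ∧ ModExt F T Q P φ}
  le_of_mem h := D.le_of_mem h.1
  injective_of_mem h := D.injective_of_mem h.1
  conj_mem := by
    intro P g hP hg
    refine ⟨D.conj_mem hP hg, conjHom _ g, F.conj_mem (sup_le (hP.trans hT.1) hQ.1) (hT.1 hg),
      fun x => rfl, fun q hq => ⟨(Subgroup.mem_normalizer_iff.1 (isNormal_le_normalizer hQ (hT.1 hg)) q).1 hq, ?_⟩⟩
    exact conj_commutator_mem (stronglyClosed_le_normalizer hT) (hQ.1 hq) hg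
  comp_mem := by
    rintro P R φ θ ⟨hφ, φ', hφ', e1, q1⟩ ⟨hθ, θ', hθ', e2, q2⟩ h
    have hin : ∀ x, φ' x ∈ R ⊔ Q := apply_mem_of_sup φ'
      (fun x => by rw [e1 x]; exact Subgroup.mem_sup_left (h x))
      fun x => Subgroup.mem_sup_right (q1 x x.2).1
    refine ⟨D.comp_mem hφ hθ h, θ'.comp (φ'.codRestrict (R ⊔ Q) hin), F.comp_mem hφ' hθ' hin,
      fun x => (apply_congr θ' (e1 x) _ (Subgroup.mem_sup_left (h x))).trans (e2 ⟨φ x, h x⟩), fun q hq => ?_⟩
    obtain ⟨h1, h1'⟩ := q1 q hq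
    obtain ⟨h2, h2'⟩ := q2 _ h1
    refine ⟨h2, ?_⟩
    have := T.mul_mem h1' h2'
    rwa [mul_assoc, mul_inv_cancel_left] at this
  inv_mem := by
    rintro P φ ⟨hφ, φ', hφ', e1, q1⟩
    obtain ⟨θ, hθ, hθe⟩ := D.inv_mem hφ
    obtain ⟨χ, hχ, -, hχ1, -⟩ := exists_inv F hφ'
    have hle : φ.range ⊔ Q ≤ φ'.range := by
      refine sup_le ?_ fun q hq => ?_
      · rintro _ ⟨x, rfl⟩; exact ⟨_, e1 x⟩
      · obtain ⟨x, hx, hxq⟩ := exists_preimage_stronglyClosed (isNormal_stronglyClosed hQ) hφ' le_sup_right hq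
        exact ⟨⟨x, _⟩, hxq⟩
    refine ⟨θ, ⟨hθ, χ.comp (Subgroup.inclusion hle), restrict_mem F hχ hle, ?_, fun q hq => ?_⟩, hθe⟩
    · rintro ⟨-, x, rfl⟩
      refine Eq.trans (apply_congr χ (e1 x).symm _ ⟨_, rfl⟩) ((hχ1 _ _).trans ?_)
      exact (hθe x).symm
    · obtain ⟨x, hx, hxq⟩ := exists_preimage_stronglyClosed (isNormal_stronglyClosed hQ) hφ' le_sup_right hq
      have e3 : χ (Subgroup.inclusion hle ⟨q, Subgroup.mem_sup_right hq⟩) = x :=
        (apply_congr χ hxq.symm _ ⟨_, rfl⟩).trans (hχ1 _ _)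
      show χ (Subgroup.inclusion hle _) ∈ Q ∧ q⁻¹ * χ (Subgroup.inclusion hle _) ∈ T
      rw [e3]
      refine ⟨hx, ?_⟩
      have := T.inv_mem (q1 x hx).2
      rwa [hxq, mul_inv_rev, inv_inv] at this

/-- A lift acting trivially on `R` is conjugation by an element of `C_S(R)`. -/
theorem lift_trivial_inner (hS : IsPGroup p S) {F : FusionSystem S} (hF : F.IsSaturated p) {R : Subgroup Ω}
    (hR : F.IsFullyCentralized R) {δ : MulAut (rc S R)} (hδ : IsLift F R δ)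
    (h1 : Rel (le_rc R) δ 1) :
    ∃ c ∈ centralizerIn S R, ∀ x : rc S R, ((δ x : rc S R) : Ω) = c * x * c⁻¹ := by
  set C := centralizerIn S R
  set CF := centSystem F hR.1
  haveI : Finite C := finite_of_le (centralizerIn_le S R)
  haveI := finite_of_le (rc_le (S := S) hR.1)
  have hCp : IsPGroup p C := hS.to_le (centralizerIn_le _ _)
  have hsat : CF.IsSaturated p := centralizerSystem_saturated hS hF hR CF (centSystem_spec F hR.1)
  obtain ⟨δC, hδCF, hδC⟩ := exists_rel F (cent_le_rc R) (rc_le hR.1) hδ.1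
    fun x hx => hδ.cent hR.1 x hx
  have hCS : C ≤ S := centralizerIn_le _ _
  have hδCF' : δC ∈ CF.autGroup C := by
    refine (equivHom_autGroup CF le_rfl).2 ⟨(equivHom_autGroup F hCS).1 hδCF, le_rfl, fun u => (δC u).2,
      (equivHom δ).comp (Subgroup.inclusion (sup_le (cent_le_rc R) (le_rc R))),
      restrict_mem F ((equivHom_autGroup F (rc_le hR.1)).1 hδ.1) _, fun u => ?_, fun r => ?_⟩
    · exact hδC.apply u
    · exact h1.apply r
  -- it has `p`-power order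
  have hpow : ∃ m : ℕ, δC ^ p ^ m = 1 := by
    obtain ⟨m, hm⟩ := IsPGroup.iff_card.1 hS
    refine ⟨m, MulEquiv.ext fun x => Subtype.ext ?_⟩
    set X : rc S R := Subgroup.inclusion (cent_le_rc R) x
    set z : rc S R := X⁻¹ * δ X with hz
    have hzR : (z : Ω) ∈ R := (hδ.2.2 X x.2).1
    have hfix : δ z = z := Subtype.ext (h1.apply ⟨(z : Ω), hzR⟩)
    have key : ∀ n : ℕ, (δ ^ n) X = X * z ^ n := by
      intro n
      induction n with
      | zero => simp
      | succ n ih =>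
        rw [pow_succ', MulAut.mul_apply, ih, map_mul, map_pow, hfix, pow_succ', ← mul_assoc]
        rw [show X * z = δ X from mul_inv_cancel_left _ _]
    rw [← (hδC.pow (p ^ m)).apply x]
    show (((δ ^ p ^ m) X : rc S R) : Ω) = (x : Ω)
    rw [key]
    have hz1 : (⟨(z : Ω), rc_le hR.1 z.2⟩ : S) ^ p ^ m = 1 := by rw [← hm]; exact pow_card_eq_one'
    have hz2 : (z : Ω) ^ p ^ m = 1 := congrArg Subtype.val hz1
    show (x : Ω) * (z : Ω) ^ p ^ m = x
    rw [hz2, mul_one]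
  obtain ⟨Sy, hSy⟩ := (fullyNormalized_imp hCp hsat (show CF.IsFullyNormalized C from
    ⟨le_rfl, fun P _ => by
      haveI : Finite (normalizerIn C C) := finite_of_le (normalizerIn_le C C)
      exact Subgroup.card_le_of_le ((normalizerIn_le _ _).trans (le_normalizerIn le_rfl))⟩)).2.2
  have hn : (Sy : Subgroup (CF.autGroup C)).Normal := by
    rw [hSy, ← inn_eq_autInducedBy_self]
    exact innSubgroupOfNormal C _
  have hin : (⟨δC, hδCF'⟩ : CF.autGroup C) ∈ (Sy : Subgroup (CF.autGroup C)) := by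
    obtain ⟨m, hm⟩ := hpow
    have hp' : IsPGroup p (Subgroup.zpowers (⟨δC, hδCF'⟩ : CF.autGroup C)) := by
      obtain ⟨i, -, hi⟩ := (Nat.dvd_prime_pow hp.out).1 (orderOf_dvd_of_pow_eq_one hm)
      exact IsPGroup.of_card (n := i) (by rw [Nat.card_zpowers, ← Subgroup.orderOf_coe]; exact hi)
    obtain ⟨Sy', hSy'⟩ := hp'.exists_le_sylow
    haveI := Sylow.unique_of_normal Sy hn
    exact (Subsingleton.elim Sy' Sy) ▸ hSy' (Subgroup.mem_zpowers _)
  rw [hSy] at hin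
  obtain ⟨c, hc, hce⟩ := (mem_autInducedBy_iff _).1 hin
  refine ⟨c, hc, ?_⟩
  rintro ⟨x, hx⟩
  have hle : rc S R ≤ (rc S R).comap (MonoidHom.id Ω) := le_rfl
  let f : rc S R →* Ω := (rc S R).subtype.comp δ.toMonoidHom
  let g : rc S R →* Ω := ((MulAut.conj c).toMonoidHom).comp (rc S R).subtype
  have key : ∀ u : ↥(R ⊔ C), f ⟨u, u.2⟩ * (g ⟨u, u.2⟩)⁻¹ = 1 := by
    suffices h : f = g from fun u => by rw [h, mul_inv_cancel]
    refine MonoidHom.eq_of_eqOn_dense (s := {u : rc S R | (u : Ω) ∈ R ∨ (u : Ω) ∈ C}) ?_ ?_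
    · rw [eq_top_iff]
      intro u _
      have h1 : (u : Ω) ∈ R ⊔ C := u.2
      rw [Subgroup.sup_eq_closure] at h1
      have h2 : (Subgroup.closure {u : rc S R | (u : Ω) ∈ R ∨ (u : Ω) ∈ C}).map (rc S R).subtype
          = Subgroup.closure ((R : Set Ω) ∪ C) := by
        rw [MonoidHom.map_closure]
        congr 1
        ext z
        constructor
        · rintro ⟨v, hv, rfl⟩; exact hv
        · intro hz
          refine ⟨⟨z, ?_⟩, hz, rfl⟩
          rcases hz with hz | hz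
          · exact Subgroup.mem_sup_left hz
          · exact Subgroup.mem_sup_right hz
      rw [← h2] at h1
      obtain ⟨v, hv, hvu⟩ := h1
      rwa [← Subtype.ext hvu]
    · rintro u (hu | hu)
      · show ((δ u : rc S R) : Ω) = c * u * c⁻¹
        rw [show u = ⟨((⟨_, hu⟩ : R) : Ω), le_rc R hu⟩ from Subtype.ext rfl, h1.apply ⟨_, hu⟩]
        show (u : Ω) = c * u * c⁻¹
        rw [← Subgroup.mem_centralizer_iff.1 hc.2 u hu, mul_inv_cancel_right]
      · show ((δ u : rc S R) : Ω) = c * u * c⁻¹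
        rw [show u = ⟨((⟨_, hu⟩ : C) : Ω), cent_le_rc R hu⟩ from Subtype.ext rfl, hδC.apply ⟨_, hu⟩]
        exact hce ⟨_, hu⟩
  exact mul_inv_eq_one.1 (key ⟨x, hx⟩)

/-- A coprime liftable automorphism extends over `Q` trivially modulo `T`. -/
theorem pprime_mem_mod (hS : IsPGroup p S) {F : FusionSystem S} (hF : F.IsSaturated p)
    {D : FusionSystem T} (hD : D.IsInvariantIn F) {Q : Subgroup Ω} (hQ : F.IsNormal Q)
    {R R' : Subgroup Ω} (hRT : R ≤ T) (hrad : D.IsRadical p R) (hQR : Q ⊓ T ≤ R)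
    {φ : ↥(normalizerIn S R) →* Ω} (hφ : φ ∈ F.Hom (normalizerIn S R))
    (hφR : (R.subgroupOf (normalizerIn S R)).map φ = R') (hR' : F.IsFullyCentralized R')
    (e : R ≃* R') (he : ∀ (r : R) (hr : (r : Ω) ∈ normalizerIn S R), ((e r : R') : Ω) = φ ⟨r, hr⟩)
    {α : MulAut R} (hαD : α ∈ D.autGroup R) (hco : (orderOf α).Coprime p)
    {k₀ : MulAut (rc S R')} (hk₀ : IsLift F R' k₀) (hk₀α : Rel (le_rc R') k₀ (MulAut.congr e α)) :
    ModExt F T Q R (equivHom α) := by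
  obtain ⟨hDF, hTc, hinv, hfr⟩ := hD
  have hTS := hTc.1
  have hTn := stronglyClosed_le_normalizer hTc
  have hQn := isNormal_le_normalizer hQ
  have hQc := isNormal_stronglyClosed hQ
  have hRS : R ≤ S := hRT.trans hTS
  have hR'S := hR'.1
  have hRN : R ≤ normalizerIn S R := le_normalizerIn hRS
  have hres : (φ.comp (Subgroup.inclusion hRN)).range = R' := extend_restrict_range hRN hφR
  haveI := finite_of_le hRS
  haveI := finite_of_le hR'S
  haveI := finite_of_le (rc_le (S := S) hR'S)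
  haveI := finite_of_le hQ.1
  haveI : Finite T := finite_of_le hTS
  haveI := finite_of_le (normalizerIn_le S R)
  -- `Q` normalizes `R`
  have hQR' : ∀ q ∈ Q, ∀ r ∈ R, q * r * q⁻¹ ∈ R := fun q hq r hr => by
    have h1 : r⁻¹ * (q * r * q⁻¹) ∈ R := hQR
      ⟨conj_commutator_mem hQn (hRS hr) hq, T.mul_mem (T.inv_mem (hRT hr))
        ((Subgroup.mem_normalizer_iff.1 (hTn (hQ.1 hq)) r).1 (hRT hr))⟩
    have := R.mul_mem hr h1
    rwa [mul_inv_cancel_left] at this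
  have hQN : Q ≤ normalizerIn S R := fun q hq =>
    ⟨hQ.1 hq, mem_normalizer_of_conj_mem q (hQR' q hq) fun r hr => by simpa using hQR' q⁻¹ (Q.inv_mem hq) r hr⟩
  -- the induced automorphisms on `R`
  have hAQn : ∀ a ∈ F.autGroup R, ∀ v ∈ autInducedBy Q R, a * v * a⁻¹ ∈ autInducedBy Q R := by
    intro a ha v hv
    obtain ⟨q, hq, hqv⟩ := (mem_autInducedBy_iff _).1 hv
    obtain ⟨ψ, hψ, hψ1, -⟩ := hQ.2 R _ ((equivHom_autGroup F hRS).1 ha)
    refine (mem_autInducedBy_iff _).2 ⟨ψ ⟨q, Subgroup.mem_sup_right hq⟩, apply_mem_normal' hQc hψ hq, fun x => ?_⟩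
    have hx : ψ ⟨((a⁻¹ x : R) : Ω), Subgroup.mem_sup_left (a⁻¹ x).2⟩ = x :=
      (hψ1 (a⁻¹ x)).trans (congrArg Subtype.val (a.apply_symm_apply x))
    rw [show ((a * v * a⁻¹) x : R) = a (v (a⁻¹ x)) from rfl]
    refine (hψ1 (v (a⁻¹ x))).symm.trans ?_
    rw [← hx, ← map_inv, ← map_mul, ← map_mul]
    exact congrArg ψ (Subtype.ext (hqv (a⁻¹ x)))
  set A := D.autGroup R
  set W : Subgroup A := (autInducedBy Q R).subgroupOf A
  have hWn : W.Normal := ⟨fun v hv a => hAQn a (autGroup_mono hDF R a.2) v hv⟩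
  have hWp : IsPGroup p W := (autInducedBy_isPGroup (hS.to_le hQ.1)).comap_of_injective _ A.subtype_injective
  have hW := Cfsg.Agent.PBasic.le_pCore hWn hWp
  -- the lift of coprime order
  obtain ⟨ρ, hρ⟩ := exists_restriction F hR'S
  have huniq : ∀ (h : liftGroup F hR'S) (β : MulAut R'), Rel (le_rc R') (h : MulAut (rc S R')) β →
      ρ h = β := fun h β hβ => MulEquiv.ext fun x =>
    Subgroup.inclusion_injective (le_rc R') (((hρ h) x).symm.trans (hβ x))
  obtain ⟨n₀, hn₀, hne₀⟩ := exists_pprime_pow (p := p) ρ (⟨k₀, hk₀⟩ : liftGroup F hR'S) (by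
    rw [huniq ⟨k₀, hk₀⟩ _ hk₀α, MulEquiv.orderOf_eq]; exact hco)
  set kk : liftGroup F hR'S := (⟨k₀, hk₀⟩ : liftGroup F hR'S) ^ n₀ with hkk
  set k : MulAut (rc S R') := (kk : MulAut (rc S R')) with hk
  have hkl : IsLift F R' k := kk.2
  have hkα : Rel (le_rc R') k (MulAut.congr e α) := by
    rw [← huniq ⟨k₀, hk₀⟩ _ hk₀α, ← hne₀]; exact hρ kk
  have hkco : (orderOf k).Coprime p := by rw [hk, Subgroup.orderOf_coe]; exact hn₀
  -- `k` normalizes `Aut_Q` modulo inner automorphisms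
  have hRQ' : ∀ q ∈ Q, q ∈ Subgroup.normalizer (R' : Set Ω) ∧ q ∈ Subgroup.normalizer (rc S R' : Set Ω) := by
    intro q hq
    obtain ⟨q₀, hq₀, rfl⟩ := exists_preimage_stronglyClosed hQc hφ hQN hq
    have h1 : φ ⟨q₀, hQN hq₀⟩ ∈ Subgroup.normalizer (R' : Set Ω) :=
      apply_mem_normalizer φ hRN hres _ (hQN hq₀).2
    refine ⟨h1, mem_normalizer_of_conj_mem_finite fun x hx => ?_⟩
    set t := φ ⟨q₀, hQN hq₀⟩
    have htS : t ∈ S := hom_apply_mem F hφ _
    have hle : rc S R' ≤ (rc S R').comap (MulAut.conj t).toMonoidHom := sup_le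
      (fun r hr => le_rc R' ((Subgroup.mem_normalizer_iff.1 h1 r).1 hr))
      fun x hx => cent_le_rc R' ⟨S.mul_mem (S.mul_mem htS hx.1) (S.inv_mem htS),
        Subgroup.mem_centralizer_iff.2 fun r hr => by
          have hr' : t⁻¹ * r * t ∈ R' := by
            simpa using (Subgroup.mem_normalizer_iff.1 (Subgroup.inv_mem _ h1) r).1 hr
          have hc := Subgroup.mem_centralizer_iff.1 hx.2 _ hr'
          calc r * (t * x * t⁻¹) = t * (t⁻¹ * r * t * x) * t⁻¹ := by group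
            _ = t * x * t⁻¹ * r := by rw [hc]; group⟩
    exact hle hx
  have hkey : ∀ q ∈ Q, ∃ s ∈ S, s * q⁻¹ ∈ rc S R' ∧
      ∀ x : rc S R', ∀ hx : q * (x : Ω) * q⁻¹ ∈ rc S R',
        ((k ⟨_, hx⟩ : rc S R') : Ω) = s * (k x : rc S R') * s⁻¹ := by
    intro q hq
    obtain ⟨q₀, hq₀, hq₀e⟩ := exists_preimage_stronglyClosed hQc hφ hQN hq
    obtain ⟨c₀, hc₀, hc₀e⟩ := exists_conjAut hq₀ (hQN hq₀).2
    have hc₀F : c₀ ∈ F.autGroup R := autInducedBy_le_autGroup F hRS (autInducedBy_mono hQ.1 hc₀)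
    have huA : α * c₀ * α⁻¹ * c₀⁻¹ ∈ A := by
      have h1 := congr_mem_of_frattini hinv hRT c₀
        (hfr R hRT _ ((equivHom_autGroup F hRS).1 hc₀F)) (Subgroup.inv_mem _ hαD)
      rw [show MulAut.congr c₀ α⁻¹ = c₀ * α⁻¹ * c₀⁻¹ from MulEquiv.ext fun _ => rfl] at h1
      rw [show α * c₀ * α⁻¹ * c₀⁻¹ = α * (c₀ * α⁻¹ * c₀⁻¹) by group]
      exact Subgroup.mul_mem _ hαD h1
    have huQ : α * c₀ * α⁻¹ * c₀⁻¹ ∈ autInducedBy Q R :=
      Subgroup.mul_mem _ (hAQn α (autGroup_mono hDF R hαD) c₀ hc₀) (Subgroup.inv_mem _ hc₀)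
    have huI := hrad.2.le ⟨⟨_, huA⟩, hW huQ, rfl⟩
    rw [inn_eq_autInducedBy_self, mem_autInducedBy_iff] at huI
    obtain ⟨r₀, hr₀, hr₀e⟩ := huI
    set r₁ : R' := e ⟨r₀, hr₀⟩ with hr₁
    have hqS : q ∈ S := hQ.1 hq
    obtain ⟨cq, hcq, hcqe⟩ := exists_conjAut hqS (hRQ' q hq).2
    obtain ⟨cr, hcr, hcre⟩ := exists_conjAut (hR'S r₁.2) (Subgroup.le_normalizer (le_rc (S := S) R' r₁.2) :
      (r₁ : Ω) ∈ Subgroup.normalizer (rc S R' : Set Ω))
    have hcqF := autInducedBy_le_autGroup F (rc_le hR'S) hcq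
    have hcqR : Rel (le_rc R') cq (MulAut.congr e c₀) := by
      intro r
      obtain ⟨r, rfl⟩ := e.surjective r
      refine Subtype.ext ?_
      show ((cq _ : rc S R') : Ω) = ((MulAut.congr e c₀ (e r) : R') : Ω)
      rw [hcqe, congr_apply, e.symm_apply_apply, he _ (hRN (c₀ r).2)]
      show q * (e r : R') * q⁻¹ = _
      rw [he _ (hRN r.2), ← hq₀e, ← map_inv, ← map_mul, ← map_mul]
      exact congrArg φ (Subtype.ext (hc₀e r).symm)
    have hcrR : Rel (le_rc R') cr (MulAut.congr e (α * c₀ * α⁻¹ * c₀⁻¹)) := by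
      intro r
      obtain ⟨r, rfl⟩ := e.surjective r
      refine Subtype.ext ?_
      show ((cr _ : rc S R') : Ω) = ((MulAut.congr e _ (e r) : R') : Ω)
      rw [hcre, congr_apply, e.symm_apply_apply, he ((α * c₀ * α⁻¹ * c₀⁻¹) r) (hRN (SetLike.coe_mem _))]
      show (r₁ : Ω) * (e r : R') * (r₁ : Ω)⁻¹ = _
      rw [he r (hRN r.2), hr₁, he ⟨r₀, hr₀⟩ (hRN hr₀), ← map_inv, ← map_mul, ← map_mul]
      exact congrArg φ (Subtype.ext (hr₀e r).symm)
    have hcrl : IsLift F R' cr := by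
      refine ⟨autInducedBy_le_autGroup F (rc_le hR'S) hcr, fun x hx => ?_, fun x hx => ?_⟩
      · rw [hcre]; exact R'.mul_mem (R'.mul_mem r₁.2 hx) (R'.inv_mem r₁.2)
      · rw [hcre, Subgroup.mem_centralizer_iff.1 hx.2 _ r₁.2]
        simp [(zc R').one_mem]
    have hδ : cr⁻¹ * (k * (cq * k⁻¹ * cq⁻¹)) ∈ liftGroup F hR'S :=
      Subgroup.mul_mem _ (Subgroup.inv_mem _ (show cr ∈ liftGroup F hR'S from hcrl))
        (Subgroup.mul_mem _ (show k ∈ liftGroup F hR'S from hkl)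
          ((Subgroup.inv_mem _ (show k ∈ liftGroup F hR'S from hkl) : IsLift F R' k⁻¹).conj hR'S hcqF hcqR))
    have hδR : Rel (le_rc R') (cr⁻¹ * (k * (cq * k⁻¹ * cq⁻¹))) 1 := by
      have := hcrR.inv.mul (hkα.mul ((hcqR.mul hkα.inv).mul hcqR.inv))
      rw [← map_inv, ← map_inv, ← map_inv, ← map_mul, ← map_mul, ← map_mul, ← map_mul,
        show (α * c₀ * α⁻¹ * c₀⁻¹)⁻¹ * (α * (c₀ * α⁻¹ * c₀⁻¹)) = 1 by group, map_one] at this
      exact this
    obtain ⟨c, hc, hce⟩ := lift_trivial_inner hS hF hR' hδ hδR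
    refine ⟨(r₁ : Ω) * c * q, S.mul_mem (S.mul_mem (hR'S r₁.2) hc.1) hqS, ?_, fun x hx => ?_⟩
    · rw [mul_inv_cancel_right]
      exact Subgroup.mul_mem _ (le_rc R' r₁.2) (cent_le_rc R' hc)
    · set y : rc S R' := ⟨_, hx⟩
      have hy : y = cq x := Subtype.ext (hcqe x).symm
      have h1 := hce (cq (k x))
      simp only [MulAut.mul_apply] at h1
      rw [show cq⁻¹ (cq (k x)) = k x from cq.symm_apply_apply _,
        show k⁻¹ (k x) = x from k.symm_apply_apply _] at h1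
      rw [hy]
      have h2 := hcre (cr⁻¹ (k (cq x)))
      rw [show cr (cr⁻¹ (k (cq x))) = k (cq x) from cr.apply_symm_apply _, h1, hcqe] at h2
      rw [h2]
      group
  -- the extension
  set M := rc S R' ⊔ Q with hMdef
  have hMS : M ≤ S := sup_le (rc_le hR'S) hQ.1
  haveI := finite_of_le hMS
  have hkF := (equivHom_autGroup F (rc_le hR'S)).1 hkl.1
  have hfc : F.IsFullyCentralized (rc S R') := by
    refine ⟨rc_le hR'S, fun X hX => ?_⟩
    obtain ⟨θ, hθ, rfl⟩ := hX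
    set Rθ := (θ.comp (Subgroup.inclusion (le_rc (S := S) R'))).range
    have hcle : centralizerIn S θ.range ≤ θ.range := by
      intro x hx
      have hRθ : Rθ ≤ θ.range := by rintro _ ⟨u, rfl⟩; exact ⟨_, rfl⟩
      have hxR : x ∈ centralizerIn S Rθ := ⟨hx.1, Subgroup.centralizer_le hRθ hx.2⟩
      obtain ⟨u, hu, rfl⟩ := exists_preimage_of_card_le F hθ (cent_le_rc R') (centralizerIn_le _ _)
        (fun u hu => ⟨hom_apply_mem F hθ _, apply_mem_centralizer θ (le_rc R') rfl _ hu.2⟩)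
        (hR'.2 Rθ ⟨_, restrict_mem F hθ _, rfl⟩) x hxR
      exact ⟨_, rfl⟩
    obtain ⟨χ, hχ, -, hχ1, hχ2⟩ := exists_inv F hθ
    refine card_le_of_hom F hχ hcle (centralizerIn_le _ _) fun x hx => ⟨hom_apply_mem F hχ _, ?_⟩
    refine Subgroup.mem_centralizer_iff.2 fun u hu => ?_
    rw [show u = χ ⟨θ ⟨u, hu⟩, ⟨_, rfl⟩⟩ from (hχ1 ⟨u, hu⟩ _).symm, ← map_mul, ← map_mul]
    exact congrArg χ (Subtype.ext (Subgroup.mem_centralizer_iff.1 hx.2 _ ⟨⟨u, hu⟩, rfl⟩))
  obtain ⟨χ, hχ, hag⟩ := (fullyCentralized_receptive hS hF hfc).2 _ _ hkF (equivHom_range k)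
  have hext : M ≤ extender S (rc S R') (equivHom k) := by
    refine sup_le (le_extender F hkF) fun q hq => ?_
    obtain ⟨s, hs, -, hse⟩ := hkey q hq
    exact Subgroup.subset_closure ⟨hQ.1 hq, (hRQ' q hq).2, s, hs, hse⟩
  obtain ⟨ψ₁, hψ₁, hψ₁e⟩ := exists_aut_of_invariant F (restrict_mem F hχ hext) fun x => apply_mem_of_sup _
    (fun u => Subgroup.mem_sup_left (by
      show χ _ ∈ _
      rw [show χ (Subgroup.inclusion hext (Subgroup.inclusion le_sup_left u)) = ((k u : rc S R') : Ω) from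
        hag u u.2 _]
      exact (k u).2))
    (fun u => Subgroup.mem_sup_right (stronglyClosed_apply_mem hQc (restrict_mem F hχ hext) _ u.2)) x
  have hψk : Rel (le_sup_left : rc S R' ≤ M) ψ₁ k := fun u => Subtype.ext ((hψ₁e _).trans (hag u u.2 _))
  obtain ⟨n, hn, hne⟩ := exists_pprime_exp p ψ₁ k hkco
  set ψ₂ := ψ₁ ^ n with hψ₂
  have hψ₂k : Rel (le_sup_left : rc S R' ≤ M) ψ₂ k := by rw [← hne]; exact hψk.pow n
  have hψ₂F := Subgroup.pow_mem _ hψ₁ n
  have hψ₂h := (equivHom_autGroup F hMS).1 hψ₂F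
  -- trivial modulo `R'`
  have hrcmod : ∀ x : M, (x : Ω) ∈ rc S R' → (x : Ω)⁻¹ * ((ψ₂ x : M) : Ω) ∈ R' := by
    intro x hx
    rw [show x = ⟨((⟨_, hx⟩ : rc S R') : Ω), Subgroup.mem_sup_left hx⟩ from Subtype.ext rfl, hψ₂k.apply]
    set u : rc S R' := ⟨_, hx⟩
    have hu : (u : Ω) ∈ ((R' ⊔ centralizerIn S R' : Subgroup Ω) : Set Ω) := u.2
    rw [Subgroup.coe_mul_of_left_le_normalizer_right R' _ (fun r hr => mem_normalizer_of_conj_mem r
      (fun c hc => by
        rw [Subgroup.mem_centralizer_iff.1 hc.2 r hr, mul_inv_cancel_right]; exact hc)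
      (fun c hc => by
        rw [mul_assoc, ← Subgroup.mem_centralizer_iff.1 hc.2 r hr, inv_mul_cancel_left]; exact hc))] at hu
    obtain ⟨r, hr, c, hc, hrc⟩ := hu
    have hu2 : u = ⟨r, le_rc R' hr⟩ * ⟨c, cent_le_rc R' hc⟩ := Subtype.ext hrc.symm
    show (u : Ω)⁻¹ * ((k u : rc S R') : Ω) ∈ R'
    rw [hu2, map_mul, Subgroup.coe_mul, Subgroup.coe_mul, hkα.apply ⟨r, hr⟩,
      disp_spec k ⟨c, cent_le_rc R' hc⟩]
    set r' := ((MulAut.congr e α ⟨r, hr⟩ : R') : Ω)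
    show (r * c)⁻¹ * (r' * (c * disp k ⟨c, cent_le_rc R' hc⟩)) ∈ R'
    have h1 : r⁻¹ * r' ∈ R' := R'.mul_mem (R'.inv_mem hr) (SetLike.coe_mem _)
    have h2 := Subgroup.mem_centralizer_iff.1 hc.2 _ h1
    rw [show (r * c)⁻¹ * (r' * (c * disp k ⟨c, cent_le_rc R' hc⟩))
      = c⁻¹ * (r⁻¹ * r' * c) * disp k ⟨c, cent_le_rc R' hc⟩ by group, h2, inv_mul_cancel_left]
    exact R'.mul_mem h1 (hkl.2.2 _ hc).1
  have hQmod : ∀ (q : Ω) (hq : q ∈ Q),
      q⁻¹ * ((ψ₂ ⟨q, Subgroup.mem_sup_right hq⟩ : M) : Ω) ∈ R' := by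
    intro q hq
    refine step_mod (y := ⟨q, Subgroup.mem_sup_right hq⟩) (hS.to_le hMS) hn hrcmod (le_rc R') ?_
    obtain ⟨s, hs, hsr, hse⟩ := hkey q hq
    set q' := ((ψ₂ ⟨q, Subgroup.mem_sup_right hq⟩ : M) : Ω)
    have hq'Q : q' ∈ Q := stronglyClosed_apply_mem hQc hψ₂h _ hq
    have hq's : s⁻¹ * q' ∈ rc S R' := by
      have hc : s⁻¹ * q' ∈ centralizerIn S R' := by
        refine ⟨S.mul_mem (S.inv_mem hs) (hQ.1 hq'Q), Subgroup.mem_centralizer_iff.2 fun r hr => ?_⟩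
        set x := k⁻¹ ⟨r, le_rc R' hr⟩
        have hx : q * (x : Ω) * q⁻¹ ∈ rc S R' := (Subgroup.mem_normalizer_iff.1 (hRQ' q hq).2 x).1 x.2
        have h1 := hse x hx
        rw [show k x = ⟨r, le_rc R' hr⟩ from k.apply_symm_apply _] at h1
        have h2 := map_apply_conj (equivHom ψ₂) (Subgroup.mem_sup_right hq) (Subgroup.mem_sup_left x.2)
          (Subgroup.mem_sup_left hx)
        simp only [equivHom_apply] at h2
        rw [hψ₂k.apply x, hψ₂k.apply ⟨_, hx⟩, h1,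
          show k x = ⟨r, le_rc R' hr⟩ from k.apply_symm_apply _] at h2
        calc r * (s⁻¹ * q') = s⁻¹ * (s * r * s⁻¹) * q' := by group
          _ = s⁻¹ * (q' * r * q'⁻¹) * q' := congrArg (fun z => s⁻¹ * z * q') h2
          _ = s⁻¹ * q' * r := by group
      exact cent_le_rc R' hc
    have h3 := (Subgroup.mem_normalizer_iff.1 (hRQ' q⁻¹ (Q.inv_mem hq)).2 _).1 hsr
    rw [inv_inv] at h3
    have := (rc S R').mul_mem h3 hq's
    rwa [show q⁻¹ * (s * q⁻¹) * q * (s⁻¹ * q') = q⁻¹ * q' by group] at this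
  -- transport back
  have hRQN : R ⊔ Q ≤ normalizerIn S R := sup_le hRN hQN
  obtain ⟨χ', hχ', hχ'r, hχ'1, -⟩ := exists_inv F (restrict_mem F hφ hRQN)
  have himg : (φ.comp (Subgroup.inclusion hRQN)).range ≤ M := by
    rintro _ ⟨u, rfl⟩
    exact apply_mem_of_sup (φ.comp (Subgroup.inclusion hRQN))
      (fun v => Subgroup.mem_sup_left (le_rc R' (hres.le ⟨v, rfl⟩)))
      (fun v => Subgroup.mem_sup_right (stronglyClosed_apply_mem hQc hφ _ v.2)) u
  obtain ⟨σ, hσ, hσe⟩ := comp_hom_mem F (restrict_mem F hφ hRQN) hψ₂h fun u => himg ⟨u, rfl⟩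
  have hσ1 : ∀ r : R, σ (Subgroup.inclusion le_sup_left r) = φ ⟨(α r : R), hRN (α r).2⟩ := by
    intro r
    rw [hσe]
    have h0 : φ (Subgroup.inclusion hRQN (Subgroup.inclusion le_sup_left r)) = (e r : R') :=
      (he r (hRN r.2)).symm
    refine Eq.trans (apply_congr (equivHom ψ₂) h0 _ (Subgroup.mem_sup_left (le_rc R' (e r).2))) ?_
    refine (hψ₂k.apply ⟨((e r : R') : Ω), le_rc R' (e r).2⟩).trans ?_
    rw [hkα.apply, congr_apply, e.symm_apply_apply, he _ (hRN (α r).2)]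
  have hσ2 : ∀ (q : Ω) (hq : q ∈ Q),
      ∃ w : R, σ ⟨q, Subgroup.mem_sup_right hq⟩ = φ ⟨q * w, Subgroup.mul_mem _ (hQN hq) (hRN w.2)⟩ := by
    intro q hq
    have hq' : φ ⟨q, hQN hq⟩ ∈ Q := stronglyClosed_apply_mem hQc hφ _ hq
    have hw := hQmod _ hq'
    refine ⟨e.symm ⟨_, hw⟩, ?_⟩
    have hmul : φ ⟨q * (e.symm ⟨_, hw⟩ : R), Subgroup.mul_mem _ (hQN hq) (hRN (SetLike.coe_mem _))⟩
        = φ ⟨q, hQN hq⟩ * φ ⟨(e.symm ⟨_, hw⟩ : R), hRN (SetLike.coe_mem _)⟩ :=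
      map_mul φ ⟨q, hQN hq⟩ ⟨(e.symm ⟨_, hw⟩ : R), hRN (SetLike.coe_mem _)⟩
    rw [hmul, ← he _ (hRN (SetLike.coe_mem _)), e.apply_symm_apply, mul_inv_cancel_left, hσe]
    rfl
  have hσr : ∀ u, σ u ∈ (φ.comp (Subgroup.inclusion hRQN)).range := apply_mem_of_sup σ
    (fun r => by rw [hσ1]; exact ⟨⟨(α r : R), Subgroup.mem_sup_left (α r).2⟩, rfl⟩)
    (fun v => by
      obtain ⟨w, hw⟩ := hσ2 v v.2
      rw [show Subgroup.inclusion le_sup_right v = (⟨(v : Ω), Subgroup.mem_sup_right v.2⟩ : ↥(R ⊔ Q)) from rfl,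
        hw]
      exact ⟨⟨(v : Ω) * w, Subgroup.mul_mem _ (Subgroup.mem_sup_right v.2) (Subgroup.mem_sup_left w.2)⟩, rfl⟩)
  obtain ⟨τ, hτ, hτe⟩ := comp_hom_mem F hσ hχ' hσr
  refine ⟨τ, hτ, fun r => ?_, fun q hq => ?_⟩
  · rw [hτe]
    refine Eq.trans (apply_congr χ' (hσ1 r) _ ⟨⟨(α r : R), Subgroup.mem_sup_left (α r).2⟩, rfl⟩) ?_
    exact hχ'1 ⟨(α r : R), Subgroup.mem_sup_left (α r).2⟩ _
  · obtain ⟨w, hw⟩ := hσ2 q hq
    have h1 : τ ⟨q, Subgroup.mem_sup_right hq⟩ = q * w := by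
      rw [hτe]
      have hm : q * (w : Ω) ∈ R ⊔ Q :=
        Subgroup.mul_mem _ (Subgroup.mem_sup_right hq) (Subgroup.mem_sup_left w.2)
      refine Eq.trans (apply_congr χ' hw _ ⟨⟨_, hm⟩, rfl⟩) ?_
      exact hχ'1 ⟨_, hm⟩ _
    refine ⟨stronglyClosed_apply_mem hQc hτ _ hq, ?_⟩
    rw [h1, inv_mul_cancel_left]
    exact hRT w.2
where
  apply_mem_normal' {F : FusionSystem S} {Q N : Subgroup Ω} (hQ : F.StronglyClosed Q) {ψ : ↥N →* Ω}
      (hψ : ψ ∈ F.Hom N) {q : Ω} (hq : q ∈ Q) {h : q ∈ N} : ψ ⟨q, h⟩ ∈ Q :=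
    stronglyClosed_apply_mem hQ hψ _ hq

omit hp in
/-- A normal subgroup meets the carrier of a normal subsystem in a normal subgroup of it. -/
theorem inf_isNormal [Fact p.Prime] (hS : IsPGroup p S) {F : FusionSystem S} {D : FusionSystem T}
    (hDs : D.IsSaturated p) (hDF : D.IsSubsystemOf F) (hT : F.StronglyClosed T) {Q : Subgroup Ω}
    (hQ : F.IsNormal Q) : D.IsNormal (Q ⊓ T) := by
  haveI := finite_of_le hT.1
  have hsc : ∀ X : Subgroup Ω, F.StronglyClosed X → D.StronglyClosed (X ⊓ T) := fun X hX =>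
    ⟨inf_le_right, fun R hR φ hφ x =>
      ⟨hX.2 R (hR.trans inf_le_left) φ (hDF R hφ) x, hom_apply_mem D hφ x⟩⟩
  obtain ⟨n, C, h0, hl, hm, hc, hC⟩ := isNormal_exists_series hS hQ
  refine isNormal_of_chain (hS.to_le hT.1) hDs (hsc _ (isNormal_stronglyClosed hQ))
    (C := fun i => C i ⊓ T) (by simp [h0]) (by simp [hl]) (fun a b hab => inf_le_inf_right T (hm hab))
    (fun i => le_inf ((Subgroup.commutator_mono inf_le_left inf_le_left).trans (hc i)) ?_)
    fun i => stronglyClosed_weaklyClosed (hsc _ (hC _))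
  exact (Subgroup.commutator_mono inf_le_right inf_le_right).trans (Subgroup.commutator_le.2 fun a ha b hb => by
    rw [commutatorElement_def]; exact T.mul_mem (T.mul_mem (T.mul_mem ha hb) (T.inv_mem ha)) (T.inv_mem hb))

/-- A normal subsystem extends over a normal subgroup, trivially modulo its carrier. -/
theorem modExt_of_normal (hS : IsPGroup p S) {F : FusionSystem S} (hF : F.IsSaturated p)
    {D : FusionSystem T} (hD : D.IsNormalIn F p) {Q : Subgroup Ω} (hQ : F.IsNormal Q)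
    {P : Subgroup Ω} {φ : P →* Ω} (hφ : φ ∈ D.Hom P) : ModExt F T Q P φ := by
  obtain ⟨⟨hDs, -, hDinv⟩, hext⟩ := hD
  obtain ⟨hDF, hTc, -, -⟩ := id hDinv
  have hTS := hTc.1
  haveI : Finite T := finite_of_le hTS
  have hTp : IsPGroup p T := hS.to_le hTS
  have hQTn := inf_isNormal hS hDs hDF hTc hQ
  suffices key : D ≤ modSys F hQ hTc D from (key P hφ).2
  clear hφ φ P
  refine alperin_ind hTp hDs fun R hR ih => ?_
  have hRT : R ≤ T := hR.elim (fun h => h.le) fun h => h.1.1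
  have hRS := hRT.trans hTS
  haveI := finite_of_le hRS
  have hrad : D.IsRadical p R := hR.elim (fun h => h ▸ Cfsg.Agent.AlperinGroup.radical_top hTp hDs) (essential_radical hTp hDs)
  have hQR : Q ⊓ T ≤ R := hR.elim (fun h => h ▸ inf_le_right)
    fun h => isNormal_le_centricRadical hTp hQTn h.1 (essential_radical hTp hDs h)
  have hfn : D.IsFullyNormalized R := by
    rcases hR with h | h
    · rw [h]
      exact ⟨le_rfl, fun P _ => by
        haveI : Finite (normalizerIn T T) := finite_of_le ((normalizerIn_le T T).trans hTS)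
        exact Subgroup.card_le_of_le ((normalizerIn_le _ _).trans (le_normalizerIn le_rfl))⟩
    · exact h.2.1
  have hsyl := isSyl_of_fullyAutomized (fullyNormalized_imp hTp hDs hfn).2
  have hRN := le_normalizerIn (S := S) hRS
  obtain ⟨R', φ, hφ, hφR, hfc, e, he, hRc, hspec⟩ :
      ∃ (R' : Subgroup Ω) (φ : ↥(normalizerIn S R) →* Ω), φ ∈ F.Hom (normalizerIn S R) ∧
        (R.subgroupOf (normalizerIn S R)).map φ = R' ∧ F.IsFullyCentralized R' ∧
        ∃ e : R ≃* R', (∀ (r : R) (hr : (r : Ω) ∈ normalizerIn S R), ((e r : R') : Ω) = φ ⟨r, hr⟩) ∧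
          T ⊓ Subgroup.centralizer (R' : Set Ω) ≤ R' ∧
          (R = T → ∀ α ∈ D.autGroup R, ∃ h, IsLift F R' h ∧ Rel (le_rc R') h (MulAut.congr e α)) := by
    rcases hR with h | hess
    · subst h
      have hwc : F.WeaklyClosed R := stronglyClosed_weaklyClosed hTc
      refine ⟨R, (normalizerIn S R).subtype, subtype_mem F (normalizerIn_le S R),
        by rw [Subgroup.subgroupOf_map_subtype, inf_of_le_left hRN],
        ⟨hTS, fun X ⟨θ, hθ, hr⟩ => by rw [← hr, hwc.2 θ hθ]⟩,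
        MulEquiv.refl R, fun r hr => rfl, inf_le_left, fun _ α hα => ?_⟩
      obtain ⟨β, hβ, hβ1, hβ2⟩ := hext α hα
      refine ⟨β, ⟨hβ, fun x hx => ?_, fun x hx => hβ2 x hx⟩, fun r => Subtype.ext (hβ1 r)⟩
      have := hβ1 ⟨x, hx⟩
      rw [show x = Subgroup.inclusion le_sup_left (⟨x, hx⟩ : R) from Subtype.ext rfl]
      exact this ▸ (α _).2
    · obtain ⟨R', hconj, hR'⟩ := exists_fullyNormalized F hRS
      obtain ⟨φ, hφ, -, hφR⟩ := exists_normalizer_map_fullyNormalized hS hF hR' hconj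
      have hres := extend_restrict_range hRN hφR
      exact ⟨R', φ, hφ, hφR, (fullyNormalized_imp hS hF hR').1,
        mapEquiv F (restrict_mem F hφ hRN) hres, fun r hr => rfl,
        (centric_of_conj hDinv hess.1 hconj).2 R'
          (isConj_refl D (isConj_le_stronglyClosed hTc hRT hconj)),
        fun h => absurd h (essential_lt hTp hDs hess).ne⟩
  obtain ⟨L, hL, hmem, hLn, hV⟩ := exists_liftable hS hF hDinv hRT hφ hφR hfc hRc e he
  set A := D.autGroup R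
  set A' := (modSys F hQ hTc D).autGroup R
  have hVA' : autInducedBy T R ≤ A' := autInducedBy_le_autGroup _ hRT
  have hLA' : ∀ α ∈ L, α ∈ A' := by
    have hsylL : IsSyl p (autInducedBy T R) L := ⟨fun v hv => (hV v hv).1, hsyl.2.1, fun hd =>
      hsyl.2.2 (hd.trans (Dvd.intro _ (Subgroup.relIndex_mul_relIndex _ L _ (fun v hv => (hV v hv).1)
        fun α hα => (hL α hα).1)))⟩
    haveI : Finite L := inferInstance
    obtain ⟨Sy, hSy⟩ := hsylL.toSylow
    have htop : (Sy : Subgroup L) ⊔ Cfsg.pResidual p L ≤ A'.subgroupOf L := by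
      refine sup_le (fun v hv => hVA' (by rw [hSy] at hv; exact hv))
        ((Subgroup.closure_le _).2 fun a ha => ?_)
      obtain ⟨haD, k, hk, hka⟩ := hL a a.2
      refine (equivHom_autGroup _ hRT).2 ⟨(equivHom_autGroup D hRT).1 haD, ?_⟩
      exact pprime_mem_mod hS hF hDinv hQ hRT hrad hQR hφ hφR hfc e he haD
        (by rw [Subgroup.coe_subtype, Subgroup.orderOf_coe]; exact ha) hk hka
    rw [Cfsg.Agent.PBasic.sylow_sup_pResidual] at htop
    exact fun α hα => htop (Subgroup.mem_top (⟨α, hα⟩ : L))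
  rcases eq_or_lt_of_le hRT with hRT' | hRlt
  · exact fun α hα => hLA' α (hmem α hα (hspec hRT' α hα))
  · haveI : (L.subgroupOf A).Normal := ⟨fun l hl a => hLn a (autGroup_mono hDF R a.2) l hl⟩
    obtain ⟨Sy, hSy⟩ := hsyl.toSylow
    have htop := Sylow.normalizer_sup_eq_top' (N := L.subgroupOf A) Sy
      (by rw [hSy]; exact fun v hv => (hV v hv).1)
    suffices A'.subgroupOf A = ⊤ from fun α hα => (this.ge (Subgroup.mem_top (⟨α, hα⟩ : A)) : _)
    rw [← top_le_iff, ← htop]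
    refine sup_le (fun n hn => ?_) fun l hl => hLA' _ hl
    have hnE := (equivHom_autGroup D hRT).1 n.2
    obtain ⟨ψ, hψ, hag⟩ := (fullyNormalized_receptive hTp hDs hfn).2 R _ hnE
      (equivHom_range (n : MulAut R))
    have hNext : normalizerIn T R ≤ extender T R (equivHom (n : MulAut R)) := by
      intro g hg
      obtain ⟨a, ha, hae⟩ := exists_conjAut (P := R) hg.1 hg.2
      have h1 := (Subgroup.mem_normalizer_iff.1 hn (⟨a, hsyl.1 ha⟩ : A)).1 (by
        rw [hSy]; exact ha)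
      rw [hSy, Subgroup.mem_subgroupOf] at h1
      obtain ⟨k, hk, hke⟩ := (mem_autInducedBy_iff _).1 h1
      refine Subgroup.subset_closure ⟨hg.1, hg.2, k, hk, fun x hx => ?_⟩
      have h2 := hke ((n : MulAut R) x)
      simp only [Subgroup.coe_mul, Subgroup.coe_inv, MulAut.mul_apply] at h2
      rw [show (n : MulAut R)⁻¹ ((n : MulAut R) x) = x from (n : MulAut R).symm_apply_apply x] at h2
      refine Eq.trans ?_ h2
      show (((n : MulAut R) ⟨_, hx⟩ : R) : Ω) = _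
      rw [show (⟨g * (x : Ω) * g⁻¹, hx⟩ : R) = a x from Subtype.ext (hae x).symm]
    have hlt : R < normalizerIn T R := lt_normalizerIn hTp hRlt
    have hmem' := ih _ hlt (restrict_mem D hψ hNext)
    refine (equivHom_autGroup _ hRT).2 (hom_congr _ (restrict_mem (modSys F hQ hTc D) hmem' hlt.le) fun x => ?_)
    exact (hag x x.2 (hNext (hlt.le x.2))).symm

end Cfsg.Agent.FusionSys.LayerCore
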