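import Cfsg.Agent.Lib.Fusion.SeriesIff
import Cfsg.Agent.Lib.Fusion.NormalTrivialMod
import Cfsg.Agent.Lib.Fusion.KNormalizer
import Cfsg.Agent.Lib.Techniques.CharP

/-!
# Centralizer systems in constrained systems are constrained

The centralizer of a subgroup in the core, together with its centralizer, is a normal centric subgroup.
-/

set_option autoImplicit false

namespace Cfsg.Agent.FusionSys.CompFree

open Cfsg Cfsg.FusionSystem Cfsg.Agent.FusionSys.FocCent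

variable {Ω : Type*} [Group Ω] {S : Subgroup Ω} [Finite S] {p : ℕ} [hp : Fact p.Prime]

omit [Finite S] in
/-- An automorphism of order prime to `p` fixing `U` and the centralizer of `U` in an invariant `p`-subgroup `Q`
fixes `Q`. -/
theorem pxq_aut {M : Subgroup Ω} [Finite M] (hM : IsPGroup p M) {β : MulAut M} (hβ : (orderOf β).Coprime p)
    {U Q : Subgroup Ω} (hn : M ≤ Subgroup.normalizer (Q : Set Ω))
    (hQβ : ∀ x : M, (x : Ω) ∈ Q → ((β x : M) : Ω) ∈ Q) (hUfix : ∀ x : M, (x : Ω) ∈ U → β x = x)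
    (hC : ∀ x : M, (x : Ω) ∈ Q → (∀ u : M, (u : Ω) ∈ U → x * u = u * x) → β x = x) :
    ∀ x : M, (x : Ω) ∈ Q → β x = x := by
  haveI : Finite (M ⋊[MonoidHom.id (MulAut M)] MulAut M) :=
    Finite.of_equiv (M × MulAut M) SemidirectProduct.equivProd.symm
  set x : M ⋊[MonoidHom.id (MulAut M)] MulAut M := SemidirectProduct.inr β
  set R := (Q.subgroupOf M).map (SemidirectProduct.inl : M →* M ⋊[MonoidHom.id (MulAut M)] MulAut M)
  set V := (U.subgroupOf M).map (SemidirectProduct.inl : M →* M ⋊[MonoidHom.id (MulAut M)] MulAut M)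
  have hconj : ∀ y : M, x * SemidirectProduct.inl y = SemidirectProduct.inl (β y) * x := fun y => by
    refine mul_inv_eq_iff_eq_mul.1 ?_
    show SemidirectProduct.inr β * SemidirectProduct.inl y * (SemidirectProduct.inr β)⁻¹ = _
    rw [← map_inv, ← SemidirectProduct.inl_aut]
    rfl
  have hVR : V ≤ Subgroup.normalizer (R : Set (M ⋊[MonoidHom.id (MulAut M)] MulAut M)) := by
    rintro _ ⟨v, -, rfl⟩
    haveI : (Q.subgroupOf M).Normal := ⟨fun q hq m => (Subgroup.mem_normalizer_iff.1 (hn m.2) q).1 hq⟩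
    refine mem_normalizer_of_conj_mem _ ?_ ?_
    · rintro _ ⟨r, hr, rfl⟩
      exact ⟨v * r * v⁻¹, Subgroup.Normal.conj_mem inferInstance r hr v, by simp⟩
    · rintro _ ⟨r, hr, rfl⟩
      exact ⟨v⁻¹ * r * v, by simpa using Subgroup.Normal.conj_mem inferInstance r hr v⁻¹, by simp⟩
  have hxR : x ∈ Subgroup.normalizer (R : Set (M ⋊[MonoidHom.id (MulAut M)] MulAut M)) := by
    have hmap : (Q.subgroupOf M).map β.toMonoidHom = Q.subgroupOf M := Subgroup.eq_of_le_of_card_ge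
      (by rintro _ ⟨y, hy, rfl⟩; exact hQβ y hy) (Subgroup.card_map_of_injective β.injective).ge
    refine mem_normalizer_of_conj_mem x ?_ ?_
    · rintro _ ⟨y, hy, rfl⟩
      exact ⟨β y, hQβ y hy, (mul_inv_eq_iff_eq_mul.2 (hconj y)).symm⟩
    · rintro _ ⟨y, hy, rfl⟩
      obtain ⟨z, hz, rfl⟩ := hmap.ge hy
      refine ⟨z, hz, ?_⟩
      show SemidirectProduct.inl z = x⁻¹ * SemidirectProduct.inl (β z) * x
      rw [mul_assoc, ← hconj, inv_mul_cancel_left]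
  have hord : (orderOf x).Coprime p := by rwa [orderOf_injective _ SemidirectProduct.inr_injective β]
  intro y hy
  have h := CharP.pxq (R := R) (U := V) ((hM.to_subgroup _).map _) ((hM.to_subgroup _).map _) hVR hord hxR
    (by
      rintro _ ⟨u, hu, rfl⟩
      rw [hconj, hUfix u hu])
    (by
      rintro _ ⟨r, hr, rfl⟩ hcomm
      rw [hconj, hC r hr fun u hu => SemidirectProduct.inl_injective (by
        rw [map_mul, map_mul]; exact hcomm _ ⟨u, hu, rfl⟩)])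
    _ ⟨y, hy, rfl⟩
  rw [hconj] at h
  exact SemidirectProduct.inl_injective (mul_right_cancel h)

/-- The centralizer system of a fully centralized subgroup in a constrained system is constrained. -/
theorem centralizerSystem_constrained (hS : IsPGroup p S) {F : FusionSystem S} (hF : F.IsConstrained p)
    {U : Subgroup Ω} (hU : F.IsFullyCentralized U) {C : FusionSystem (centralizerIn S U)}
    (hC : F.IsCentralizerSystem U C) : C.IsConstrained p := by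
  have hCs := centralizerSystem_saturated hS hF.1 hU C hC
  obtain ⟨-, Q₀, hQ₀n, hQ₀c⟩ := hF
  have hCS : (centralizerIn S U) ≤ S := centralizerIn_le S U
  haveI := finite_of_le hCS
  have hCp : IsPGroup p (centralizerIn S U) := hS.to_le hCS
  set R₁ := (centralizerIn S U) ⊓ Q₀
  have hQ₀cen : centralizerIn S Q₀ ≤ Q₀ := hQ₀c.2 Q₀ (isConj_refl F hQ₀n.1)
  have hQnorm := isNormal_le_normalizer hQ₀n
  -- extensions over the core
  have hext : ∀ (P : Subgroup Ω) (φ : P →* Ω), φ ∈ C.Hom P → ∃ ψ ∈ F.Hom ((P ⊔ U) ⊔ Q₀),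
      (∀ x : P, ψ ⟨x, Subgroup.mem_sup_left (Subgroup.mem_sup_left x.2)⟩ = φ x) ∧
      (∀ (u : Ω) (hu : u ∈ U), ψ ⟨u, Subgroup.mem_sup_left (Subgroup.mem_sup_right hu)⟩ = u) ∧
      ∀ (q : Ω) (hq : q ∈ Q₀), ψ ⟨q, Subgroup.mem_sup_right hq⟩ ∈ Q₀ := by
    intro P φ hφ
    rw [hC P] at hφ
    obtain ⟨-, -, -, χ, hχ, e1, e2⟩ := hφ
    obtain ⟨ψ, hψ, d1, d2⟩ := isNormal_extend hQ₀n hχ
    exact ⟨ψ, hψ, fun x => (d1 x (Subgroup.mem_sup_left x.2) _).trans (e1 x),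
      fun u hu => (d1 u (Subgroup.mem_sup_right hu) _).trans (e2 ⟨u, hu⟩),
      fun q hq => (d2 _).2 ⟨q, _, hq, rfl⟩⟩
  have hR₁ : C.IsNormal R₁ := by
    refine ⟨inf_le_left, fun P φ hφ => ?_⟩
    obtain ⟨ψ, hψ, e1, e2, e3⟩ := hext P φ hφ
    have hPC : P ≤ (centralizerIn S U) := hom_le C hφ
    have hv : ∀ x : P, φ x ∈ (centralizerIn S U) := hom_apply_mem C hφ
    have hle : P ⊔ R₁ ≤ (P ⊔ U) ⊔ Q₀ :=
      sup_le (le_sup_left.trans le_sup_left) (inf_le_right.trans le_sup_right)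
    set ψ₁ := ψ.comp (Subgroup.inclusion hle) with hψ₁
    have hψ₁m : ψ₁ ∈ F.Hom (P ⊔ R₁) := restrict_mem F hψ hle
    have hR : ∀ r : R₁, ψ₁ (Subgroup.inclusion le_sup_right r) ∈ R₁ := by
      rintro ⟨r, hr⟩
      refine ⟨⟨hom_apply_mem F hψ₁m _, Subgroup.mem_centralizer_iff.2 fun u hu => ?_⟩, e3 r hr.2⟩
      show u * ψ ⟨r, _⟩ = ψ ⟨r, _⟩ * u
      rw [← e2 u hu, ← map_mul, ← map_mul]
      exact congrArg ψ (Subtype.ext (Subgroup.mem_centralizer_iff.1 hr.1.2 u hu))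
    have hval : ∀ x, ψ₁ x ∈ (centralizerIn S U) := apply_mem_of_sup ψ₁ (fun x => (e1 x).symm ▸ hv x) fun r => (hR r).1
    have hleU : P ⊔ R₁ ⊔ U ≤ (P ⊔ U) ⊔ Q₀ := sup_le hle (le_sup_right.trans le_sup_left)
    refine ⟨ψ₁, ?_, e1, ?_⟩
    · rw [hC]
      exact ⟨hψ₁m, sup_le hPC inf_le_left, hval, _, restrict_mem F hψ hleU, fun x => rfl, fun u => e2 u u.2⟩
    · rw [← range_restrict _ (le_sup_right : R₁ ≤ P ⊔ R₁)]
      haveI := finite_of_le (S := (centralizerIn S U)) (inf_le_left : R₁ ≤ (centralizerIn S U))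
      refine Subgroup.eq_of_le_of_card_ge ?_ (isConj_card ⟨_, restrict_mem F hψ₁m le_sup_right, rfl⟩).le
      rintro _ ⟨r, rfl⟩; exact hR r
  set W := centralizerIn (centralizerIn S U) R₁
  have hWn : (centralizerIn S U) ≤ Subgroup.normalizer (W : Set Ω) :=
    (le_inf le_rfl (isNormal_le_normalizer hR₁)).trans (centralizerIn_normal (centralizerIn S U) R₁)
  suffices hn : C.IsNormal (R₁ ⊔ W) from ⟨hCs, R₁ ⊔ W, hn, isCentric_of_normal hn fun x hx =>
    le_sup_right (a := R₁) ⟨hx.1, Subgroup.centralizer_le (fun y hy => le_sup_left (b := W) hy) hx.2⟩⟩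
  refine isNormal_of_le_centricRadical hCp hCs
    (stronglyClosed_sup_centralizer hCp hCs (isNormal_stronglyClosed hR₁)) fun P hPc hPr => ?_
  have hRP := isNormal_le_centricRadical hCp hR₁ hPc hPr
  refine sup_le hRP (le_of_normalizer_le hCp hPc.1 (centralizerIn_le (centralizerIn S U) R₁) hWn fun x hx hxN => ?_)
  haveI := finite_of_le hPc.1
  refine mem_of_stabilizer hCp hPc hPr (ι := Unit) (fun _ => R₁) (fun _ => ⊥) ?_ ?_ ?_ hx.1 hxN ?_
  · exact fun _ α hα y hy => stronglyClosed_autGroup_mem (isNormal_stronglyClosed hR₁) hPc.1 hα y hy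
  · intro _ α _ y hy
    obtain rfl : y = 1 := Subtype.ext hy
    simp
  · intro α hα hco hst
    have hfixR : ∀ y : P, (y : Ω) ∈ R₁ → α y = y := fun y hy =>
      (inv_mul_eq_one.1 (Subtype.ext (Subgroup.mem_bot.1 (hst () y hy)) : y⁻¹ * α y = 1)).symm
    obtain ⟨ψ, hψ, e1, e2, e3⟩ := hext P _ ((mem_autGroup_iff C hPc.1 α).1 hα)
    have hPS : P ≤ S := hPc.1.trans hCS
    have hMS : (P ⊔ U) ⊔ Q₀ ≤ S := sup_le (sup_le hPS hU.1) hQ₀n.1
    haveI := finite_of_le hMS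
    have hval : ∀ z, ψ z ∈ ((P ⊔ U) ⊔ Q₀ : Subgroup Ω) := apply_mem_of_sup ψ
      (fun z => apply_mem_of_sup (ψ.comp (Subgroup.inclusion (le_sup_left : P ⊔ U ≤ ((P ⊔ U) ⊔ Q₀ : Subgroup Ω))))
        (fun y => Subgroup.mem_sup_left (Subgroup.mem_sup_left ((e1 y).symm ▸ (α y).2)))
        (fun u => Subgroup.mem_sup_left (Subgroup.mem_sup_right ((e2 u u.2).symm ▸ u.2))) z)
      fun q => Subgroup.mem_sup_right (e3 q q.2)
    obtain ⟨β₀, -, hβ₀⟩ := FocCent.exists_aut_of_invariant F hψ hval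
    obtain ⟨n, hn, hne⟩ := LayerCore.exists_pprime_exp p β₀ α hco
    have hPM : P ≤ ((P ⊔ U) ⊔ Q₀ : Subgroup Ω) := le_sup_left.trans le_sup_left
    have hrel₀ : Rel hPM β₀ α := fun y => Subtype.ext ((hβ₀ _).trans (e1 y))
    have hrel := hrel₀.pow n
    rw [hne] at hrel
    set β := β₀ ^ n with hβdef
    have hQb : ∀ (j : ℕ) (z : ((P ⊔ U) ⊔ Q₀ : Subgroup Ω)), (z : Ω) ∈ Q₀ → (((β₀ ^ j) z : ((P ⊔ U) ⊔ Q₀ : Subgroup Ω)) : Ω) ∈ Q₀ := by
      intro j
      induction j with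
      | zero => exact fun z hz => hz
      | succ j ih =>
        intro z hz
        rw [pow_succ', MulAut.mul_apply, hβ₀]
        exact e3 _ (ih z hz)
    have hUb : ∀ (j : ℕ) (z : ((P ⊔ U) ⊔ Q₀ : Subgroup Ω)), (z : Ω) ∈ U → (β₀ ^ j) z = z := by
      intro j
      induction j with
      | zero => exact fun z _ => rfl
      | succ j ih =>
        intro z hz
        rw [pow_succ', MulAut.mul_apply, ih z hz]
        exact Subtype.ext ((hβ₀ z).trans (e2 z hz))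
    have hMQ : ((P ⊔ U) ⊔ Q₀ : Subgroup Ω) ≤ Subgroup.normalizer (Q₀ : Set Ω) := hMS.trans hQnorm
    have hMp : IsPGroup p ((P ⊔ U) ⊔ Q₀ : Subgroup Ω) := hS.to_le hMS
    have hQfix : ∀ z : ((P ⊔ U) ⊔ Q₀ : Subgroup Ω), (z : Ω) ∈ Q₀ → β z = z := pxq_aut hMp hn hMQ (hQb n) (hUb n) fun z hz hcomm => by
      have hzR : (z : Ω) ∈ R₁ := ⟨⟨hMS z.2, Subgroup.mem_centralizer_iff.2 fun u hu =>
        congrArg Subtype.val (hcomm ⟨u, le_sup_left (b := Q₀) (le_sup_right (a := P) hu)⟩ hu).symm⟩, hz⟩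
      have h1 := hrel ⟨z, hRP hzR⟩
      rw [hfixR _ hzR] at h1
      exact h1
    refine MulEquiv.ext fun y => ?_
    show α y = y
    set y' := Subgroup.inclusion hPM y
    have hw : (((y')⁻¹ * β y' : ((P ⊔ U) ⊔ Q₀ : Subgroup Ω)) : Ω) ∈ Q₀ := by
      refine hQ₀cen ⟨hMS (SetLike.coe_mem _), Subgroup.mem_centralizer_iff.2 fun q hq => ?_⟩
      have hq' : ((y' * ⟨q, Subgroup.mem_sup_right hq⟩ * y'⁻¹ : ((P ⊔ U) ⊔ Q₀ : Subgroup Ω)) : Ω) ∈ Q₀ :=
        (Subgroup.mem_normalizer_iff.1 (hMQ y'.2) q).1 hq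
      have h1 := hQfix _ hq'
      rw [map_mul, map_mul, map_inv, hQfix ⟨q, Subgroup.mem_sup_right hq⟩ hq] at h1
      have h2 := congrArg Subtype.val h1
      simp only [Subgroup.coe_mul, Subgroup.coe_inv] at h2 ⊢
      calc q * ((y' : Ω)⁻¹ * (β y' : ((P ⊔ U) ⊔ Q₀ : Subgroup Ω))) = (y' : Ω)⁻¹ * ((y' : Ω) * q * (y' : Ω)⁻¹) * (β y' : ((P ⊔ U) ⊔ Q₀ : Subgroup Ω)) := by group
        _ = (y' : Ω)⁻¹ * (((β y' : ((P ⊔ U) ⊔ Q₀ : Subgroup Ω)) : Ω) * q * ((β y' : ((P ⊔ U) ⊔ Q₀ : Subgroup Ω)) : Ω)⁻¹) * (β y' : ((P ⊔ U) ⊔ Q₀ : Subgroup Ω)) := by rw [h2]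
        _ = (y' : Ω)⁻¹ * (β y' : ((P ⊔ U) ⊔ Q₀ : Subgroup Ω)) * q := by group
    have h1 := fix_of_step hMp hn (hQfix _ hw)
    rw [show β y' = Subgroup.inclusion hPM (α y) from hrel y] at h1
    exact Subgroup.inclusion_injective hPM h1
  · intro _ y _ hy
    show y⁻¹ * (x * y * x⁻¹) ∈ (⊥ : Subgroup Ω)
    rw [Subgroup.mem_bot, ← Subgroup.mem_centralizer_iff.1 hx.2 y hy]
    group

end Cfsg.Agent.FusionSys.CompFree
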