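import Cfsg.Agent.Lib.Fusion.FocCentralizerMain
import Cfsg.Agent.Lib.Fusion.WeaklyNormalResidual
import Cfsg.Agent.Lib.Fusion.Normal

/-!
# The centralizer in `S` of a normal subsystem: elements centralizing it form a subgroup
-/

set_option autoImplicit false
set_option linter.unusedSectionVars false
set_option linter.style.haveILetI false

namespace Cfsg.Agent.FusionSys.FocCent

open Cfsg Cfsg.FusionSystem Cfsg.Agent.FusionSys

variable {Ω : Type*} [Group Ω] {S T : Subgroup Ω}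

/-- `y` centralizes `T`, and every map of `E` extends to a map fixing `y`. -/
def Good (F : FusionSystem S) (E : FusionSystem T) (y : Ω) : Prop :=
  y ∈ centralizerIn S T ∧ ∀ P : Subgroup Ω, E.Hom P ⊆ F.centralizerHom (Subgroup.zpowers y) P

/-- The subgroup generated by the elements centralizing `E`. -/
def goodSub (F : FusionSystem S) (E : FusionSystem T) : Subgroup Ω := Subgroup.closure {y | Good F E y}

theorem goodSub_le (F : FusionSystem S) (E : FusionSystem T) : goodSub F E ≤ centralizerIn S T :=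
  (Subgroup.closure_le _).2 fun _ hy => hy.1

theorem le_centralizerIn_sup {X : Subgroup Ω} (hTS : T ≤ S) (hX : X ≤ centralizerIn S T) :
    T ≤ centralizerIn S X := fun t ht =>
  ⟨hTS ht, Subgroup.mem_centralizer_iff.2 fun x hx =>
    (Subgroup.mem_centralizer_iff.1 (hX hx).2 t ht).symm⟩

theorem centralizerHom_mono (F : FusionSystem S) {X X' P : Subgroup Ω} (h : X' ≤ X) {φ : P →* Ω}
    (hφ : φ ∈ F.centralizerHom X P) : φ ∈ F.centralizerHom X' P := by
  obtain ⟨h0, h1, h2, ψ, hψ, e1, e2⟩ := hφ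
  have hle : centralizerIn S X ≤ centralizerIn S X' := inf_le_inf_left S (Subgroup.centralizer_le h)
  exact ⟨h0, h1.trans hle, fun x => hle (h2 x), ψ.comp (Subgroup.inclusion (sup_le_sup_left h P)),
    restrict_mem F hψ _, fun x => e1 x, fun x => e2 ⟨x, h x.2⟩⟩

theorem good_of_le {F : FusionSystem S} {E : FusionSystem T} {Y : Subgroup Ω}
    (hY : Y ≤ centralizerIn S T) (h : ∀ P : Subgroup Ω, E.Hom P ⊆ F.centralizerHom Y P) {y : Ω}
    (hy : y ∈ Y) : Good F E y :=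
  ⟨hY hy, fun P _ hφ => centralizerHom_mono F (Subgroup.zpowers_le.2 hy) (h P hφ)⟩

/-- Conjugation of a map by a map of the system. -/
theorem transport (F : FusionSystem S) {N M B : Subgroup Ω} {φ : N →* Ω} (hφ : φ ∈ F.Hom N) {ψ : M →* Ω}
    (hψ : ψ ∈ F.Hom M) (hMN : M ≤ N) (hψN : ∀ u, ψ u ∈ N)
    (hB : B ≤ (φ.comp (Subgroup.inclusion hMN)).range) :
    ∃ τ ∈ F.Hom B, ∀ (u : Ω) (hu : u ∈ M) (h : φ ⟨u, hMN hu⟩ ∈ B),
      τ ⟨_, h⟩ = φ ⟨ψ ⟨u, hu⟩, hψN ⟨u, hu⟩⟩ := by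
  obtain ⟨χ, hχ, hχr, hχ1, -⟩ := exists_inv F (restrict_mem F hφ hMN)
  obtain ⟨σ, hσ, hσe⟩ := comp_hom_mem F hψ hφ hψN
  obtain ⟨θ, hθ, hθe⟩ := comp_hom_mem F hχ hσ fun z => hχr.le ⟨z, rfl⟩
  refine ⟨θ.comp (Subgroup.inclusion hB), restrict_mem F hθ hB, fun u hu h => ?_⟩
  show θ ⟨_, hB h⟩ = _
  rw [hθe, hσe]
  exact congrArg φ (Subtype.ext (congrArg ψ (Subtype.ext (hχ1 ⟨u, hu⟩ (hB h)))))

variable [Finite S] {p : ℕ} [hp : Fact p.Prime]

/-- A map of the system on an overgroup of `T` carries centralizing elements to centralizing elements. -/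
theorem good_map {F : FusionSystem S} {E : FusionSystem T} (hE : E.IsInvariantIn F) {Q : Subgroup Ω}
    (hTQ : T ≤ Q) {φ : Q →* Ω} (hφ : φ ∈ F.Hom Q) {x : Q} (hx : Good F E x) : Good F E (φ x) := by
  obtain ⟨hEF, hT, hinv, -⟩ := hE
  haveI := finite_of_le hT.1
  obtain ⟨a, ha, hae⟩ := exists_aut_of_invariant F (restrict_mem F hφ hTQ)
    fun t => stronglyClosed_apply_mem hT (restrict_mem F hφ hTQ) t t.2
  have hae' : ∀ (t : T), φ ⟨((a⁻¹ t : T) : Ω), hTQ (a⁻¹ t).2⟩ = t := fun t => by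
    have := hae (a⁻¹ t)
    rw [show a (a⁻¹ t) = t from a.apply_symm_apply t] at this
    exact this.symm
  have hcx : φ x ∈ centralizerIn S T := by
    refine ⟨hom_apply_mem F hφ x, Subgroup.mem_centralizer_iff.2 fun t ht => ?_⟩
    rw [show t = φ ⟨((a⁻¹ ⟨t, ht⟩ : T) : Ω), hTQ (a⁻¹ _).2⟩ from (hae' ⟨t, ht⟩).symm, ← map_mul,
      ← map_mul]
    exact congrArg φ (Subtype.ext (Subgroup.mem_centralizer_iff.1 hx.1.2 _ (a⁻¹ _).2))
  refine ⟨hcx, fun P γ hγ => ?_⟩
  have hPT := hom_le E hγ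
  obtain ⟨χ, hχ, hχe⟩ := hinv P hPT γ hγ a⁻¹ (Subgroup.inv_mem _ ha)
  set P₀ := (P.subgroupOf T).map (T.subtype.comp (a⁻¹).toMonoidHom) with hP₀
  obtain ⟨-, -, -, ψ, hψ, e1, e2⟩ := hx.2 P₀ hχ
  have hMN : P₀ ⊔ Subgroup.zpowers (x : Ω) ≤ Q :=
    sup_le ((hom_le E hχ).trans hTQ) (Subgroup.zpowers_le.2 x.2)
  have hψN : ∀ u, ψ u ∈ Q := apply_mem_of_sup ψ
    (fun u => by rw [e1]; exact hTQ (hom_apply_mem E hχ u))
    fun u => by rw [e2]; exact (Subgroup.zpowers_le.2 x.2) u.2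
  have hmem0 : ∀ u : P, ((a⁻¹ ⟨u, hPT u.2⟩ : T) : Ω) ∈ P₀ := fun u => ⟨⟨u, hPT u.2⟩, u.2, rfl⟩
  have hB : P ⊔ Subgroup.zpowers (φ x) ≤ (φ.comp (Subgroup.inclusion hMN)).range := by
    refine sup_le (fun u hu => ?_) (Subgroup.zpowers_le.2
      ⟨⟨x, Subgroup.mem_sup_right (Subgroup.mem_zpowers _)⟩, rfl⟩)
    exact ⟨⟨_, Subgroup.mem_sup_left (hmem0 ⟨u, hu⟩)⟩, hae' ⟨u, hPT hu⟩⟩
  obtain ⟨τ, hτ, hτe⟩ := transport F hφ hψ hMN hψN hB
  refine ⟨hEF P hγ, hPT.trans (le_centralizerIn_sup hT.1 (Subgroup.zpowers_le.2 hcx)),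
    fun u => le_centralizerIn_sup hT.1 (Subgroup.zpowers_le.2 hcx) (hom_apply_mem E hγ u),
    τ, hτ, fun u => ?_, fun v => ?_⟩
  · have h0 : φ ⟨((a⁻¹ ⟨u, hPT u.2⟩ : T) : Ω), hTQ (a⁻¹ _).2⟩ = u := hae' ⟨u, hPT u.2⟩
    have h1 := hτe _ (Subgroup.mem_sup_left (hmem0 u))
      (h0.symm ▸ (Subgroup.mem_sup_left u.2 : (u : Ω) ∈ P ⊔ Subgroup.zpowers (φ x)))
    refine Eq.trans (apply_congr τ h0.symm _ _) (h1.trans ?_)
    refine Eq.trans ?_ (hae' ⟨γ u, hom_apply_mem E hγ u⟩)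
    refine congrArg φ (Subtype.ext ?_)
    exact (e1 ⟨_, hmem0 u⟩).trans (hχe u (hom_apply_mem E hγ u) (hmem0 u))
  · obtain ⟨k, hk⟩ := Subgroup.mem_zpowers_iff.1 v.2
    have hxM : ((x ^ k : Q) : Ω) ∈ Subgroup.zpowers (x : Ω) := ⟨k, by simp⟩
    have h0 : φ ⟨((x ^ k : Q) : Ω), (x ^ k).2⟩ = v := by
      rw [show (⟨((x ^ k : Q) : Ω), (x ^ k).2⟩ : Q) = x ^ k from rfl, map_zpow, hk]
    have h1 := hτe _ (Subgroup.mem_sup_right hxM)
      (h0.symm ▸ (Subgroup.mem_sup_right v.2 : (v : Ω) ∈ P ⊔ Subgroup.zpowers (φ x)))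
    refine Eq.trans (apply_congr τ h0.symm _ _) (h1.trans ?_)
    refine Eq.trans ?_ h0
    refine congrArg φ (Subtype.ext ?_)
    exact e2 ⟨_, hxM⟩

omit hp [Finite S] in
theorem Rel.eq_one {M P : Subgroup Ω} {h : P ≤ M} {β : MulAut P} (h1 : Rel h (1 : MulAut M) β) : β = 1 :=
  MulEquiv.ext fun x => Subgroup.inclusion_injective h (h1 x).symm

omit hp [Finite S] in
theorem Rel.pow {M P : Subgroup Ω} {h : P ≤ M} {α : MulAut M} {β : MulAut P} (h1 : Rel h α β) :
    ∀ n : ℕ, Rel h (α ^ n) (β ^ n)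
  | 0 => by rw [pow_zero, pow_zero]; exact Rel.one
  | n + 1 => by rw [pow_succ, pow_succ]; exact (h1.pow n).mul h1

/-- An automorphism of order prime to `p` agreeing on `R` with an automorphism that extends to a map fixing `x`
fixes `x`. -/
theorem fix_of_pprime (hS : IsPGroup p S) {F : FusionSystem S} (hF : F.IsSaturated p) {R : Subgroup Ω}
    (hR : F.IsFullyCentralized R) {M : Subgroup Ω} (hRM : R ≤ M) (hM : M ≤ S) {h : MulAut M}
    (hh : h ∈ F.autGroup M) {β : MulAut R} (hβ : Rel hRM h β) (hco : (orderOf h).Coprime p)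
    {k : MulAut (rc S R)} (hk : IsLift F R k) (hkβ : Rel (le_rc R) k β)
    {x : M} (hx : (x : Ω) ∈ centralizerIn S R) (hz : (x : Ω)⁻¹ * ((h x : M) : Ω) ∈ zc R)
    {τ : ↥(Subgroup.zpowers (x : Ω) ⊔ R) →* Ω} (hτ : τ ∈ F.Hom (Subgroup.zpowers (x : Ω) ⊔ R))
    (hτR : ∀ r : R, τ (Subgroup.inclusion le_sup_right r) = ((β r : R) : Ω))
    (hτx : τ ⟨x, Subgroup.mem_sup_left (Subgroup.mem_zpowers _)⟩ = x) : h x = x := by
  haveI := finite_of_le hR.1
  haveI := finite_of_le hM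
  let P := Subgroup.zpowers (x : Ω)
  let M1 := P ⊔ R
  have hPM : P ≤ M := Subgroup.zpowers_le.2 x.2
  have hM1M : M1 ≤ M := sup_le hPM hRM
  haveI := finite_of_le (hM1M.trans hM)
  have hz1 : (x : Ω)⁻¹ * ((h x : M) : Ω) ∈ M1 := Subgroup.mem_sup_right hz.1
  have hx1 : (x : Ω) ∈ M1 := Subgroup.mem_sup_left (Subgroup.mem_zpowers _)
  have hxz : ((h x : M) : Ω) ∈ M1 := by
    have := M1.mul_mem hx1 hz1
    rwa [mul_inv_cancel_left] at this
  have hin : ∀ u : M, (u : Ω) ∈ M1 → ((h u : M) : Ω) ∈ M1 := fun u hu =>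
    apply_mem_of_sup ((M.subtype.comp h.toMonoidHom).comp (Subgroup.inclusion hM1M))
      (fun v => by
        obtain ⟨n, hn⟩ := Subgroup.mem_zpowers_iff.1 v.2
        show ((h _ : M) : Ω) ∈ M1
        rw [show Subgroup.inclusion hM1M (Subgroup.inclusion le_sup_left v) = x ^ n from
          Subtype.ext (by simp [hn]), map_zpow, SubgroupClass.coe_zpow]
        exact Subgroup.zpow_mem _ hxz n)
      (fun v => Subgroup.mem_sup_right (by
        show ((h ⟨(v : Ω), hRM v.2⟩ : M) : Ω) ∈ R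
        rw [hβ.apply v]
        exact (β v).2)) ⟨u, hu⟩
  obtain ⟨h1, hh1, hh1e⟩ := exists_rel F hM1M hM hh hin
  obtain ⟨a, ha, hae⟩ := exists_aut_of_invariant F hτ fun u => apply_mem_of_sup τ
    (fun v => by
      obtain ⟨n, hn⟩ := Subgroup.mem_zpowers_iff.1 v.2
      rw [show Subgroup.inclusion le_sup_left v = (⟨x, hx1⟩ : M1) ^ n from Subtype.ext (by simp [hn]),
        map_zpow, show τ ⟨x, hx1⟩ = x from hτx]
      exact Subgroup.zpow_mem _ hx1 n)
    (fun v => by rw [hτR]; exact Subgroup.mem_sup_right (β v).2) u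
  set u := a⁻¹ * h1 with hu
  have haR : Rel (le_sup_right : R ≤ M1) a β := fun r => Subtype.ext ((hae _).trans (hτR r))
  have h1R : Rel (le_sup_right : R ≤ M1) h1 β := fun r => Subtype.ext
    ((congrArg Subtype.val (hh1e (Subgroup.inclusion le_sup_right r))).symm.trans (hβ.apply r))
  have huR : Rel (le_sup_right : R ≤ M1) u (β⁻¹ * β) := haR.inv.mul h1R
  rw [inv_mul_cancel] at huR
  have hax : a ⟨x, hx1⟩ = ⟨x, hx1⟩ := Subtype.ext ((hae _).trans hτx)
  set z : R := ⟨(x : Ω)⁻¹ * ((h x : M) : Ω), hz.1⟩ with hzdef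
  have hux : ((u ⟨x, hx1⟩ : M1) : Ω) = x * (β⁻¹ z : R) := by
    have e1 : h1 ⟨x, hx1⟩ = ⟨x, hx1⟩ * Subgroup.inclusion le_sup_right z := Subtype.ext (by
      rw [← hh1e.apply ⟨x, hx1⟩]
      exact (mul_inv_cancel_left _ _).symm)
    show ((a⁻¹ (h1 ⟨x, hx1⟩) : M1) : Ω) = _
    rw [e1, map_mul, show a⁻¹ ⟨x, hx1⟩ = ⟨x, hx1⟩ from a.symm_apply_eq.2 hax.symm, haR.inv]
    rfl
  have hzc : ((β⁻¹ z : R) : Ω) ∈ zc R := by
    have e := rel_zc hkβ.inv ⟨z, le_rc R z.2⟩ hz
    rwa [hkβ.inv.apply z] at e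
  set γ : P →* Ω := (equivHom u).comp (Subgroup.inclusion le_sup_left) with hγdef
  have hγv : ∀ v : P, γ v ∈ centralizerIn S R := fun v => by
    obtain ⟨n, hn⟩ := Subgroup.mem_zpowers_iff.1 v.2
    show ((u _ : M1) : Ω) ∈ _
    rw [show Subgroup.inclusion le_sup_left v = (⟨x, hx1⟩ : M1) ^ n from Subtype.ext (by simp [hn]),
      map_zpow, SubgroupClass.coe_zpow, hux]
    exact Subgroup.zpow_mem _ ((centralizerIn S R).mul_mem hx (zc_le_cent hR.1 hzc)) n
  have huF := (equivHom_autGroup F (hM1M.trans hM)).1 (Subgroup.mul_mem _ (Subgroup.inv_mem _ ha) hh1)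
  have hγ : γ ∈ F.centralizerHom R P :=
    ⟨restrict_mem F huF _, Subgroup.zpowers_le.2 hx, hγv, equivHom u, huF, fun v => rfl,
      fun r => congrArg Subtype.val (huR r)⟩
  have heq := eqv_of_centralizerHom hS hF hR hγ ⟨x, Subgroup.mem_zpowers _⟩ k hk
    ⟨x, cent_le_rc R hx⟩ (⟨x, cent_le_rc R hx⟩ * ⟨((β⁻¹ z : R) : Ω), le_rc R (β⁻¹ z).2⟩) rfl hux.symm
  rw [disp_mul hk hx (zc_le_cent hR.1 hzc), inv_mul_cancel_left] at heq
  have hRp := hS.to_le hR.1
  have hcoβ : (orderOf β).Coprime p := by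
    refine Nat.Coprime.coprime_dvd_left (orderOf_dvd_of_pow_eq_one ?_) hco
    have := hβ.pow (orderOf h)
    rw [pow_orderOf_eq_one] at this
    exact this.eq_one
  have hfixz : β (β⁻¹ z) = β⁻¹ z := by
    refine fix_of_step hRp hcoβ ?_
    set w := (β⁻¹ z)⁻¹ * β (β⁻¹ z) with hw
    have hwd : (w : Ω) = disp k ⟨((β⁻¹ z : R) : Ω), le_rc R (β⁻¹ z).2⟩ := by
      rw [disp, hkβ.apply]
      rfl
    refine Subtype.ext ?_
    rw [← hkβ.apply w]
    rw [← hwd] at heq
    exact heq.2 k hk _ rfl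
  have hzfix : β z = z := by
    have e : β (β⁻¹ z) = z := β.apply_symm_apply z
    have e2 : β⁻¹ z = z := hfixz.symm.trans e
    rwa [e2] at hfixz
  refine fix_of_step (hS.to_le hM) hco ?_
  have e : x⁻¹ * h x = ⟨(z : Ω), hRM z.2⟩ := Subtype.ext rfl
  rw [e]
  exact Subtype.ext ((hβ.apply z).trans (congrArg Subtype.val hzfix))

/-- An automorphism with a lift has a lift whose order has the same prime divisors prime to `p`. -/
theorem exists_pprime_pow {G H : Type*} [Group G] [Group H] [Finite G] (f : G →* H) (g : G)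
    (hco : (orderOf (f g)).Coprime p) : ∃ n : ℕ, (orderOf (g ^ n)).Coprime p ∧ f (g ^ n) = f g := by
  obtain ⟨a, c, hc, hac⟩ := Nat.exists_eq_pow_mul_and_not_dvd (orderOf_pos g).ne' p hp.out.ne_one
  obtain ⟨j, hj⟩ := exists_pow_eq_self_of_coprime (x := f g) (n := p ^ a) (hco.symm.pow_left a)
  refine ⟨p ^ a * j, ?_, ?_⟩
  · refine Nat.Coprime.coprime_dvd_left (orderOf_dvd_of_pow_eq_one ?_)
      ((Nat.Prime.coprime_iff_not_dvd hp.out).2 hc).symm
    rw [← pow_mul, show p ^ a * j * c = orderOf g * j by rw [hac]; ring, pow_mul, pow_orderOf_eq_one,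
      one_pow]
  · rw [map_pow, pow_mul]
    exact hj

/-- Maps of `E` extend, after transport, to maps fixing a centralizing element. -/
theorem transport_hat {F : FusionSystem S} {E : FusionSystem T} (hTS : T ≤ S) {R R' : Subgroup Ω}
    (hRT : R ≤ T) {φ : ↥(normalizerIn S R) →* Ω} (hφ : φ ∈ F.Hom (normalizerIn S R))
    (e : R ≃* R') (he : ∀ (r : R) (hr : (r : Ω) ∈ normalizerIn S R), ((e r : R') : Ω) = φ ⟨r, hr⟩)
    {α : MulAut R} (hα : α ∈ E.autGroup R) {y : Ω} (hy : Good F E y) (hyN : y ∈ normalizerIn S R) :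
    ∃ τ ∈ F.Hom (Subgroup.zpowers (φ ⟨y, hyN⟩) ⊔ R'),
      (∀ r : R', τ (Subgroup.inclusion le_sup_right r) = ((MulAut.congr e α r : R') : Ω)) ∧
      τ ⟨_, Subgroup.mem_sup_left (Subgroup.mem_zpowers _)⟩ = φ ⟨y, hyN⟩ := by
  haveI := finite_of_le (hRT.trans hTS)
  have hRN : R ≤ normalizerIn S R := le_normalizerIn (hRT.trans hTS)
  obtain ⟨-, -, -, ψ, hψ, e1, e2⟩ := hy.2 R ((equivHom_autGroup E hRT).1 hα)
  have hMN : R ⊔ Subgroup.zpowers y ≤ normalizerIn S R := sup_le hRN (Subgroup.zpowers_le.2 hyN)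
  have hψN : ∀ u, ψ u ∈ normalizerIn S R := apply_mem_of_sup ψ
    (fun u => by rw [e1]; exact hRN (α u).2)
    fun u => by rw [e2]; exact (Subgroup.zpowers_le.2 hyN) u.2
  have hB : Subgroup.zpowers (φ ⟨y, hyN⟩) ⊔ R' ≤ (φ.comp (Subgroup.inclusion hMN)).range := by
    refine sup_le (Subgroup.zpowers_le.2 ⟨⟨y, Subgroup.mem_sup_right (Subgroup.mem_zpowers _)⟩, rfl⟩)
      fun r hr => ⟨⟨(e.symm ⟨r, hr⟩ : R), Subgroup.mem_sup_left (e.symm ⟨r, hr⟩).2⟩, ?_⟩
    exact (he _ _).symm.trans (congrArg Subtype.val (e.apply_symm_apply ⟨r, hr⟩))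
  obtain ⟨τ, hτ, hτe⟩ := transport F hφ hψ hMN hψN hB
  refine ⟨τ, hτ, fun r => ?_, ?_⟩
  · obtain ⟨r, rfl⟩ := e.surjective r
    have h0 : φ ⟨(r : Ω), hRN r.2⟩ = (e r : R') := (he r _).symm
    have h1 := hτe r (Subgroup.mem_sup_left r.2)
      (h0.symm ▸ (Subgroup.mem_sup_right (e r).2 : ((e r : R') : Ω) ∈ Subgroup.zpowers (φ ⟨y, hyN⟩) ⊔ R'))
    refine Eq.trans (apply_congr τ h0.symm _ _) (h1.trans ?_)
    rw [congr_apply, e.symm_apply_apply, he _ (hRN (α r).2)]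
    exact congrArg φ (Subtype.ext (e1 r))
  · refine (hτe y (Subgroup.mem_sup_right (Subgroup.mem_zpowers _)) _).trans ?_
    exact congrArg φ (Subtype.ext (e2 ⟨y, Subgroup.mem_zpowers _⟩))

/-- The automorphisms of `R` in `E` that lift, after transport. -/
theorem exists_liftable (hS : IsPGroup p S) {F : FusionSystem S} (hF : F.IsSaturated p)
    {E : FusionSystem T} (hE : E.IsInvariantIn F)
    {R R' : Subgroup Ω} (hRT : R ≤ T)
    {φ : ↥(normalizerIn S R) →* Ω} (hφ : φ ∈ F.Hom (normalizerIn S R))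
    (hφR : (R.subgroupOf (normalizerIn S R)).map φ = R') (hR' : F.IsFullyCentralized R')
    (hRc : T ⊓ Subgroup.centralizer (R' : Set Ω) ≤ R')
    (e : R ≃* R') (he : ∀ (r : R) (hr : (r : Ω) ∈ normalizerIn S R), ((e r : R') : Ω) = φ ⟨r, hr⟩) :
    ∃ L : Subgroup (MulAut R),
      (∀ α ∈ L, α ∈ E.autGroup R ∧ ∃ h, IsLift F R' h ∧ Rel (le_rc R') h (MulAut.congr e α)) ∧
      (∀ α ∈ E.autGroup R, (∃ h, IsLift F R' h ∧ Rel (le_rc R') h (MulAut.congr e α)) → α ∈ L) ∧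
      (∀ a ∈ F.autGroup R, ∀ l ∈ L, a * l * a⁻¹ ∈ L) ∧
      ∀ v ∈ autInducedBy T R, v ∈ L ∧ ∃ h, IsLift F R' h ∧ Rel (le_rc R') h (MulAut.congr e v) ∧
        ∀ (u : Ω), u ∈ centralizerIn S T → ∀ (hu : u ∈ normalizerIn S R) (hu' : φ ⟨u, hu⟩ ∈ rc S R'),
          h ⟨_, hu'⟩ = ⟨_, hu'⟩ := by
  obtain ⟨hEF, hTc, hinv, hfr⟩ := hE
  have hTS := hTc.1
  have hRS : R ≤ S := hRT.trans hTS
  have hR'S := hR'.1
  have hRN : R ≤ (normalizerIn S R) := le_normalizerIn hRS
  have hres : (φ.comp (Subgroup.inclusion hRN)).range = R' := extend_restrict_range hRN hφR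
  haveI := finite_of_le hRS
  haveI := finite_of_le hR'S
  haveI := finite_of_le (rc_le (S := S) hR'S)
  have heF : equivHom e ∈ F.Hom R :=
    hom_congr F (restrict_mem F hφ hRN) fun r => he r (hRN r.2)
  have heF' : equivHom e.symm ∈ F.Hom R' := by
    have h := equivHom_mapEquiv_symm F heF (equivHom_range e)
    rwa [show mapEquiv F heF (equivHom_range e) = e from MulEquiv.ext fun r => Subtype.ext rfl] at h
  obtain ⟨ρ, hρ⟩ := exists_restriction F hR'S
  set L := E.autGroup R ⊓ ρ.range.comap (MulAut.congr e).toMonoidHom with hLdef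
  have hmem : ∀ α ∈ E.autGroup R, (∃ h, IsLift F R' h ∧ Rel (le_rc R') h (MulAut.congr e α)) → α ∈ L := by
    rintro α hα ⟨h, hh, hhα⟩
    refine ⟨hα, ⟨h, hh⟩, ?_⟩
    exact MulEquiv.ext fun x => Subgroup.inclusion_injective (le_rc (S := S) R')
      ((hρ ⟨h, hh⟩ x).symm.trans (hhα x))
  have hlift : ∀ α ∈ L, ∃ h, IsLift F R' h ∧ Rel (le_rc R') h (MulAut.congr e α) := by
    rintro α ⟨-, h, hh⟩
    exact ⟨h, h.2, (show ρ h = MulAut.congr e α from hh) ▸ hρ h⟩
  refine ⟨L, fun α hα => ⟨hα.1, hlift α hα⟩, hmem, fun a ha l hl => ?_, fun v hv => ?_⟩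
  · refine hmem _ (congr_mem_of_frattini hinv hRT a
      (hfr R hRT _ ((equivHom_autGroup F hRS).1 ha)) hl.1) ?_
    obtain ⟨h, hh, hhl⟩ := hlift l hl
    have ha' := congr_mem_autGroup F e heF heF' ha
    have hh0 := (equivHom_autGroup F hR'S).1 ha'
    obtain ⟨χ, hχ, hag⟩ := (fullyCentralized_receptive hS hF hR').2 R' _ hh0 (equivHom_range (MulAut.congr e a))
    have hQle : rc S R' ≤ extender S R' (equivHom (MulAut.congr e a)) :=
      sup_le (le_extender F hh0) (centralizerIn_le_extender _)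
    set χ₀ := χ.comp (Subgroup.inclusion hQle) with hχ0
    have hagr : ∀ r : R', χ₀ (Subgroup.inclusion (le_rc R') r) = ((MulAut.congr e a r : R') : Ω) :=
      fun r => hag r r.2 _
    have hχr : (χ₀.comp (Subgroup.inclusion (le_rc R'))).range = R' := by
      rw [show χ₀.comp (Subgroup.inclusion (le_rc R')) = equivHom (MulAut.congr e a) from
        MonoidHom.ext hagr, equivHom_range]
    obtain ⟨b, hb, hbe⟩ := exists_aut_of_invariant F (restrict_mem F hχ hQle) fun x => apply_mem_of_sup χ₀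
      (fun r => by
        show χ₀ (Subgroup.inclusion (le_rc (S := S) R') r) ∈ _
        rw [hagr]; exact le_rc R' (MulAut.congr e a r).2)
      (fun c => cent_le_rc R' ⟨hom_apply_mem F (restrict_mem F hχ hQle) _,
        apply_mem_centralizer χ₀ (le_rc R') hχr _ c.2.2⟩) x
    have hbR : Rel (le_rc R') b (MulAut.congr e a) := fun r => Subtype.ext ((hbe _).trans (hagr r))
    refine ⟨_, hh.conj hR'S hb hbR, ?_⟩
    rw [map_mul, map_mul, map_inv]
    exact (hbR.mul hhl).mul hbR.inv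
  · obtain ⟨t, htT, htv⟩ := (mem_autInducedBy_iff _).1 hv
    have htN : t ∈ (normalizerIn S R) := ⟨hTS htT, mem_normalizer_of_autInduced htv⟩
    set t' := φ ⟨t, htN⟩ with ht'def
    have ht'S : t' ∈ S := hom_apply_mem F hφ _
    have ht'T : t' ∈ T := stronglyClosed_apply_mem hTc hφ _ htT
    have ht'R : t' ∈ Subgroup.normalizer (R' : Set Ω) := apply_mem_normalizer φ hRN hres _ htN.2
    have ht'C : ∀ x ∈ centralizerIn S R', t' * x * t'⁻¹ ∈ centralizerIn S R' := fun x hx =>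
      ⟨S.mul_mem (S.mul_mem ht'S hx.1) (S.inv_mem ht'S), Subgroup.mem_centralizer_iff.2 fun r hr => by
        have hr' : t'⁻¹ * r * t' ∈ R' := by
          simpa using (Subgroup.mem_normalizer_iff.1 (Subgroup.inv_mem _ ht'R) r).1 hr
        have hc := Subgroup.mem_centralizer_iff.1 hx.2 _ hr'
        calc r * (t' * x * t'⁻¹) = t' * (t'⁻¹ * r * t' * x) * t'⁻¹ := by group
          _ = t' * x * t'⁻¹ * r := by rw [hc]; group⟩
    have ht'Q : t' ∈ Subgroup.normalizer (rc S R' : Set Ω) := by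
      refine mem_normalizer_of_conj_mem_finite fun x hx => ?_
      have hle : rc S R' ≤ (rc S R').comap (MulAut.conj t').toMonoidHom := sup_le
        (fun r hr => le_rc R' ((Subgroup.mem_normalizer_iff.1 ht'R r).1 hr))
        fun r hr => cent_le_rc R' (ht'C r hr)
      exact hle hx
    obtain ⟨c, hc, hce⟩ := exists_conjAut ht'S ht'Q
    have hvE : v ∈ E.autGroup R := autInducedBy_le_autGroup E hRT hv
    have hcl : IsLift F R' c := by
      refine ⟨autInducedBy_le_autGroup F (rc_le hR'S) hc, fun x hx => ?_, fun x hx => ?_⟩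
      · rw [hce]; exact (Subgroup.mem_normalizer_iff.1 ht'R x).1 hx
      · rw [hce]
        have h1 : (x : Ω)⁻¹ * (t' * x * t'⁻¹) ∈ R' := hRc ⟨by
          have := (Subgroup.mem_normalizer_iff.1 (stronglyClosed_le_normalizer hTc (S.inv_mem hx.1)) t').1 ht'T
          rw [inv_inv] at this
          rw [show (x : Ω)⁻¹ * (t' * x * t'⁻¹) = (x : Ω)⁻¹ * t' * x * t'⁻¹ by group]
          exact T.mul_mem this (T.inv_mem ht'T),
          (Subgroup.mul_mem _ (Subgroup.inv_mem _ hx) (ht'C x hx)).2⟩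
        exact ⟨h1, (Subgroup.mul_mem _ (Subgroup.inv_mem _ hx) (ht'C x hx)).2⟩
    have hcr : Rel (le_rc R') c (MulAut.congr e v) := by
      intro r
      obtain ⟨r₀, rfl⟩ := e.surjective r
      refine Subtype.ext ?_
      show ((c _ : rc S R') : Ω) = ((MulAut.congr e v (e r₀) : R') : Ω)
      rw [hce, congr_apply, e.symm_apply_apply, he _ (hRN (v r₀).2)]
      show t' * (e r₀ : R') * t'⁻¹ = _
      rw [he _ (hRN r₀.2), ht'def, ← map_inv, ← map_mul, ← map_mul]
      exact congrArg φ (Subtype.ext (htv r₀).symm)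
    refine ⟨hmem v hvE ⟨c, hcl, hcr⟩, c, hcl, hcr, fun u hu huN hu' => Subtype.ext ?_⟩
    rw [hce]
    show t' * φ ⟨u, huN⟩ * t'⁻¹ = φ ⟨u, huN⟩
    rw [ht'def, ← map_inv, ← map_mul, ← map_mul]
    refine congrArg φ (Subtype.ext ?_)
    show t * u * t⁻¹ = u
    rw [Subgroup.mem_centralizer_iff.1 hu.2 t htT, mul_inv_cancel_right]

/-- The maps of `E` lying in `C_F(X)`. -/
noncomputable def fixSub (E : FusionSystem T) (F : FusionSystem S) {X : Subgroup Ω} (hX : X ≤ S)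
    (hT : T ≤ centralizerIn S X) : FusionSystem T where
  Hom P := {φ | φ ∈ E.Hom P ∧ φ ∈ F.centralizerHom X P}
  le_of_mem h := E.le_of_mem h.1
  injective_of_mem h := E.injective_of_mem h.1
  conj_mem hP hg := ⟨E.conj_mem hP hg, (centSystem F hX).conj_mem (hP.trans hT) (hT hg)⟩
  comp_mem h1 h2 h := ⟨E.comp_mem h1.1 h2.1 h, (centSystem F hX).comp_mem h1.2 h2.2 h⟩
  inv_mem := by
    intro P φ h
    obtain ⟨ψ, hψ, he⟩ := E.inv_mem h.1
    obtain ⟨ψ', hψ', he'⟩ := (centSystem F hX).inv_mem h.2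
    refine ⟨ψ, ⟨hψ, hom_congr (centSystem F hX) hψ' ?_⟩, he⟩
    rintro ⟨-, x, rfl⟩
    exact (he x).trans (he' x).symm

/-- The liftable automorphisms extend to maps fixing every centralizing element. -/
theorem lift_good (hS : IsPGroup p S) {F : FusionSystem S} (hF : F.IsSaturated p)
    {E : FusionSystem T} (hTS : T ≤ S) (hEF : E.IsSubsystemOf F)
    {R R' : Subgroup Ω} (hRT : R ≤ T) (hsyl : IsSyl p (autInducedBy T R) (E.autGroup R))
    {φ : ↥(normalizerIn S R) →* Ω} (hφ : φ ∈ F.Hom (normalizerIn S R))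
    (hφR : (R.subgroupOf (normalizerIn S R)).map φ = R') (hR' : F.IsFullyCentralized R')
    (e : R ≃* R') (he : ∀ (r : R) (hr : (r : Ω) ∈ normalizerIn S R), ((e r : R') : Ω) = φ ⟨r, hr⟩)
    (L : Subgroup (MulAut R))
    (hL : ∀ α ∈ L, α ∈ E.autGroup R ∧ ∃ h, IsLift F R' h ∧ Rel (le_rc R') h (MulAut.congr e α))
    (hV : ∀ v ∈ autInducedBy T R, v ∈ L ∧ ∃ h, IsLift F R' h ∧ Rel (le_rc R') h (MulAut.congr e v) ∧
        ∀ (u : Ω), u ∈ centralizerIn S T → ∀ (hu : u ∈ normalizerIn S R) (hu' : φ ⟨u, hu⟩ ∈ rc S R'),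
          h ⟨_, hu'⟩ = ⟨_, hu'⟩) :
    ∀ α ∈ L, equivHom α ∈ F.centralizerHom (goodSub F E) R := by
  have hRS : R ≤ S := hRT.trans hTS
  have hR'S := hR'.1
  have hRN : R ≤ normalizerIn S R := le_normalizerIn hRS
  have hres : (φ.comp (Subgroup.inclusion hRN)).range = R' := extend_restrict_range hRN hφR
  haveI := finite_of_le hRS
  haveI := finite_of_le hR'S
  haveI := finite_of_le (rc_le (S := S) hR'S)
  haveI : Finite T := finite_of_le hTS
  have hcentN : centralizerIn S T ≤ normalizerIn S R := fun x hx =>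
    centralizerIn_le_normalizerIn S R ⟨hx.1, Subgroup.centralizer_le hRT hx.2⟩
  have himg : ∀ (u : Ω) (hu : u ∈ centralizerIn S T), φ ⟨u, hcentN hu⟩ ∈ centralizerIn S R' := fun u hu =>
    ⟨hom_apply_mem F hφ _, apply_mem_centralizer φ hRN hres _ (Subgroup.centralizer_le hRT hu.2)⟩
  obtain ⟨ρ, hρ⟩ := exists_restriction F hR'S
  -- the lifts fixing all the centralizing elements
  let Kf : Subgroup (liftGroup F hR'S) :=
    { carrier := {h | ∀ (y : Ω) (hy : Good F E y),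
        (h : MulAut (rc S R')) ⟨_, cent_le_rc R' (himg y hy.1)⟩ = ⟨_, cent_le_rc R' (himg y hy.1)⟩}
      one_mem' := fun _ _ => rfl
      mul_mem' := fun {a b} ha hb y hy => by
        show (a : MulAut (rc S R')) ((b : MulAut (rc S R')) _) = _
        rw [hb y hy, ha y hy]
      inv_mem' := fun {a} ha y hy => by
        show (a : MulAut (rc S R'))⁻¹ _ = _
        conv_lhs => rw [← ha y hy]
        exact (a : MulAut (rc S R')).symm_apply_apply _ }
  set J := (Kf.map ρ).comap (MulAut.congr e).toMonoidHom with hJ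
  have huniq : ∀ (h : liftGroup F hR'S) (β : MulAut R'), Rel (le_rc R') (h : MulAut (rc S R')) β →
      ρ h = β := fun h β hβ => MulEquiv.ext fun x =>
    Subgroup.inclusion_injective (le_rc R') (((hρ h) x).symm.trans (hβ x))
  have hVJ : ∀ v ∈ autInducedBy T R, v ∈ J := fun v hv => by
    obtain ⟨-, h, hh, hhv, hfix⟩ := hV v hv
    exact ⟨⟨h, hh⟩, fun y hy => hfix y hy.1 (hcentN hy.1) _, huniq ⟨h, hh⟩ _ hhv⟩
  have hpJ : ∀ α ∈ L, (orderOf α).Coprime p → α ∈ J := by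
    intro α hα hco
    obtain ⟨hαE, h, hh, hhα⟩ := hL α hα
    have h0 : ρ ⟨h, hh⟩ = MulAut.congr e α := huniq ⟨h, hh⟩ _ hhα
    haveI : Finite (liftGroup F hR'S) := inferInstance
    obtain ⟨n, hn, hne⟩ := exists_pprime_pow (p := p) ρ (⟨h, hh⟩ : liftGroup F hR'S) (by
      rw [h0, MulEquiv.orderOf_eq]; exact hco)
    set k : liftGroup F hR'S := (⟨h, hh⟩ : liftGroup F hR'S) ^ n with hk
    have hkr : Rel (le_rc R') (k : MulAut (rc S R')) (MulAut.congr e α) := by
      rw [← h0, ← hne]; exact hρ k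
    refine ⟨k, fun y hy => ?_, hne.trans h0⟩
    obtain ⟨τ, hτ, hτR, hτx⟩ := transport_hat hTS hRT hφ e he hαE hy (hcentN hy.1)
    exact fix_of_pprime hS hF hR' (le_rc R') (rc_le hR'S) k.2.1 hkr (by rw [Subgroup.orderOf_coe]; exact hn)
      k.2 hkr (x := ⟨_, cent_le_rc R' (himg y hy.1)⟩) (himg y hy.1) (k.2.2.2 _ (himg y hy.1)) hτ hτR hτx
  have hVL : autInducedBy T R ≤ L := fun v hv => (hV v hv).1
  have hsylL : IsSyl p (autInducedBy T R) L := ⟨hVL, hsyl.2.1, fun hd => hsyl.2.2 (hd.trans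
    (Dvd.intro _ (Subgroup.relIndex_mul_relIndex _ L _ hVL fun α hα => (hL α hα).1)))⟩
  obtain ⟨Sy, hSy⟩ := hsylL.toSylow
  have hLJ : L ≤ J := by
    intro α hα
    have htop : (Sy : Subgroup L) ⊔ Cfsg.pResidual p L ≤ J.subgroupOf L := by
      refine sup_le (fun v hv => hVJ v ?_) ((Subgroup.closure_le _).2 fun a ha =>
        hpJ a a.2 (by rw [Subgroup.orderOf_coe]; exact ha))
      rw [hSy] at hv
      exact hv
    rw [Cfsg.Agent.PBasic.sylow_sup_pResidual] at htop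
    exact htop (Subgroup.mem_top (⟨α, hα⟩ : L))
  intro α hα
  obtain ⟨h, hfix, hhα⟩ := hLJ hα
  have hrel : Rel (le_rc R') (h : MulAut (rc S R')) (MulAut.congr e α) := by
    rw [← show ρ h = MulAut.congr e α from hhα]; exact hρ h
  set X := goodSub F E with hXdef
  have hXN : X ≤ normalizerIn S R := (goodSub_le F E).trans hcentN
  have hfixX : ∀ (u : Ω) (hu : u ∈ X) (hu' : φ ⟨u, hXN hu⟩ ∈ rc S R'),
      (h : MulAut (rc S R')) ⟨_, hu'⟩ = ⟨_, hu'⟩ := by
    intro u hu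
    induction hu using Subgroup.closure_induction with
    | mem y hy => intro hu'; exact hfix y hy
    | one =>
      intro hu'
      have h1 : (⟨_, hu'⟩ : rc S R') = 1 := Subtype.ext (by
        show φ _ = 1
        exact map_one φ)
      rw [h1, map_one]
    | mul a b ha hb iha ihb =>
      intro hu'
      have ha' := cent_le_rc R' (himg a (goodSub_le F E ha))
      have hb' := cent_le_rc R' (himg b (goodSub_le F E hb))
      have h1 : (⟨_, hu'⟩ : rc S R') = ⟨_, ha'⟩ * ⟨_, hb'⟩ := Subtype.ext (by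
        show φ _ = φ _ * φ _
        exact map_mul φ ⟨a, hcentN (goodSub_le F E ha)⟩ ⟨b, hcentN (goodSub_le F E hb)⟩)
      rw [h1, map_mul, iha ha', ihb hb']
    | inv a ha iha =>
      intro hu'
      have ha' := cent_le_rc R' (himg a (goodSub_le F E ha))
      have h1 : (⟨_, hu'⟩ : rc S R') = ⟨_, ha'⟩⁻¹ := Subtype.ext (by
        show φ _ = (φ _)⁻¹
        exact map_inv φ ⟨a, hcentN (goodSub_le F E ha)⟩)
      rw [h1, map_inv, iha ha']
  have hYN : R ⊔ X ≤ normalizerIn S R := sup_le hRN hXN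
  set φY := φ.comp (Subgroup.inclusion hYN) with hφY
  have hQ2 : φY.range ≤ rc S R' := by
    rintro _ ⟨u, rfl⟩
    exact apply_mem_of_sup φY (fun v => le_rc R' (hres.le ⟨v, rfl⟩))
      (fun v => cent_le_rc R' (himg v (goodSub_le F E v.2))) u
  obtain ⟨σ, hσ, hσe⟩ := comp_hom_mem F (restrict_mem F hφ hYN)
    ((equivHom_autGroup F (rc_le hR'S)).1 h.2.1) fun u => hQ2 ⟨u, rfl⟩
  obtain ⟨χ', hχ', -, hχ'1, -⟩ := exists_inv F (restrict_mem F hφ hYN)
  have hval1 : ∀ r : R, σ (Subgroup.inclusion le_sup_left r) = φ ⟨(α r : R), hRN (α r).2⟩ := by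
    intro r
    rw [hσe]
    show (((h : MulAut (rc S R')) _ : rc S R') : Ω) = _
    have happ : ∀ q q' : rc S R', (q : Ω) = q' →
        (((h : MulAut (rc S R')) q : rc S R') : Ω) = ((h : MulAut (rc S R')) q' : rc S R') :=
      fun q q' hq => by rw [Subtype.ext hq]
    refine Eq.trans (happ _ ⟨((e r : R') : Ω), le_rc R' (e r).2⟩ (he r (hRN r.2)).symm) ?_
    rw [hrel.apply, congr_apply, e.symm_apply_apply, he _ (hRN (α r).2)]
  have hval2 : ∀ v : X, σ (Subgroup.inclusion le_sup_right v) = φ ⟨v, hXN v.2⟩ := by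
    intro v
    rw [hσe]
    exact congrArg Subtype.val (hfixX v v.2 (hQ2 ⟨Subgroup.inclusion le_sup_right v, rfl⟩))
  have hσr : ∀ u, σ u ∈ φY.range := apply_mem_of_sup σ
    (fun r => by rw [hval1]; exact ⟨⟨(α r : R), Subgroup.mem_sup_left (α r).2⟩, rfl⟩)
    (fun v => by rw [hval2]; exact ⟨⟨v, Subgroup.mem_sup_right v.2⟩, rfl⟩)
  obtain ⟨τ, hτ, hτe⟩ := comp_hom_mem F hσ hχ' hσr
  have hTX := hRT.trans (le_centralizerIn_sup hTS (goodSub_le F E))
  refine ⟨hEF R ((equivHom_autGroup E hRT).1 (hL α hα).1), hTX, fun r => hTX (α r).2, τ, hτ,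
    fun r => ?_, fun v => ?_⟩
  · rw [hτe]
    refine Eq.trans (congrArg χ' (Subtype.ext (hval1 r) :
      _ = (⟨φY ⟨(α r : R), Subgroup.mem_sup_left (α r).2⟩, ⟨_, rfl⟩⟩ : φY.range))) ?_
    exact hχ'1 ⟨(α r : R), Subgroup.mem_sup_left (α r).2⟩ ⟨_, rfl⟩
  · rw [hτe]
    refine Eq.trans (congrArg χ' (Subtype.ext (hval2 v) :
      _ = (⟨φY ⟨v, Subgroup.mem_sup_right v.2⟩, ⟨_, rfl⟩⟩ : φY.range))) ?_
    exact hχ'1 ⟨v, Subgroup.mem_sup_right v.2⟩ ⟨_, rfl⟩

/-- `E` lies in the centralizer system of the subgroup generated by the elements centralizing it. -/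
theorem goodSub_spec (hS : IsPGroup p S) {F : FusionSystem S} (hF : F.IsSaturated p)
    {E : FusionSystem T} (hE : E.IsNormalIn F p) (Q : Subgroup Ω) :
    E.Hom Q ⊆ F.centralizerHom (goodSub F E) Q := by
  obtain ⟨⟨hEsat, -, hEinv⟩, hext⟩ := hE
  obtain ⟨hEF, hTc, -, hFr⟩ := id hEinv
  have hTS := hTc.1
  have hXS : goodSub F E ≤ S := (goodSub_le F E).trans (centralizerIn_le _ _)
  have hT := le_centralizerIn_sup hTS (goodSub_le F E)
  haveI : Finite T := finite_of_le hTS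
  have hTp : IsPGroup p T := hS.to_le hTS
  suffices key : E ≤ fixSub E F hXS hT from fun φ hφ => (key Q hφ).2
  refine alperin_ind hTp hEsat fun R hR ih => ?_
  rcases hR with rfl | hess
  · have hwc : F.WeaklyClosed R := stronglyClosed_weaklyClosed hTc
    have hfc : F.IsFullyCentralized R := ⟨hTS, fun Q ⟨φ, hφ, hr⟩ => by rw [← hr, hwc.2 φ hφ]⟩
    have hsub := subtype_mem F (normalizerIn_le S R)
    have hmap : (R.subgroupOf (normalizerIn S R)).map (normalizerIn S R).subtype = R := by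
      rw [Subgroup.subgroupOf_map_subtype, inf_of_le_left (le_normalizerIn hTS)]
    have hsyl := isSyl_of_fullyAutomized (fullyNormalized_imp hTp hEsat (show E.IsFullyNormalized R from
      ⟨le_rfl, fun Q hQ => by
        haveI : Finite (normalizerIn R R) := finite_of_le (normalizerIn_le R R)
        exact Subgroup.card_le_of_le ((normalizerIn_le _ _).trans (le_normalizerIn le_rfl))⟩)).2
    obtain ⟨L, hL, hmem, -, hV⟩ := exists_liftable hS hF hEinv le_rfl hsub hmap hfc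
      (le_of_eq_of_le rfl inf_le_left) (MulEquiv.refl R) (fun r hr => rfl)
    intro α hα
    obtain ⟨β, hβ, hβ1, hβ2⟩ := hext α hα
    have hαL : α ∈ L := hmem α hα ⟨β, ⟨hβ, fun x hx => ?_, fun x hx => hβ2 x hx⟩,
      fun r => Subtype.ext (hβ1 r)⟩
    · exact (equivHom_autGroup _ le_rfl).2 ⟨(equivHom_autGroup E le_rfl).1 hα,
        lift_good hS hF hTS hEF le_rfl hsyl hsub hmap hfc (MulEquiv.refl R) (fun r hr => rfl) L hL hV α hαL⟩
    · have := hβ1 ⟨x, hx⟩
      rw [show x = Subgroup.inclusion le_sup_left (⟨x, hx⟩ : R) from Subtype.ext rfl]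
      exact this ▸ (α _).2
  · have hRlt := essential_lt hTp hEsat hess
    have hRT := hRlt.le
    have hRS := hRT.trans hTS
    obtain ⟨R', hconj, hR'⟩ := exists_fullyNormalized F hRS
    obtain ⟨φ, hφ, -, hφR⟩ := exists_normalizer_map_fullyNormalized hS hF hR' hconj
    have hRN := le_normalizerIn hRS
    have hres := extend_restrict_range hRN hφR
    set e := mapEquiv F (restrict_mem F hφ hRN) hres
    have hRc : T ⊓ Subgroup.centralizer (R' : Set Ω) ≤ R' :=
      (centric_of_conj hEinv hess.1 hconj).2 R'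
        (isConj_refl E (isConj_le_stronglyClosed hTc hRT hconj))
    have hsyl := isSyl_of_fullyAutomized (fullyNormalized_imp hTp hEsat hess.2.1).2
    have hfc := (fullyNormalized_imp hS hF hR').1
    obtain ⟨L, hL, -, hLn, hV⟩ := exists_liftable hS hF hEinv hRT hφ hφR hfc hRc e (fun r hr => rfl)
    have hgood := lift_good hS hF hTS hEF hRT hsyl hφ hφR hfc e (fun r hr => rfl) L hL hV
    haveI := finite_of_le hRS
    set A := E.autGroup R
    haveI : (L.subgroupOf A).Normal := ⟨fun l hl a => hLn a (autGroup_mono hEF R a.2) l hl⟩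
    obtain ⟨Sy, hSy⟩ := hsyl.toSylow
    have htop := Sylow.normalizer_sup_eq_top' (N := L.subgroupOf A) Sy
      (by rw [hSy]; exact fun v hv => (hV v hv).1)
    set A' := (fixSub E F hXS hT).autGroup R
    suffices A'.subgroupOf A = ⊤ from fun α hα => (this.ge (Subgroup.mem_top (⟨α, hα⟩ : A)) : _)
    rw [← top_le_iff, ← htop]
    refine sup_le (fun n hn => ?_) fun l hl => (equivHom_autGroup _ hRT).2
      ⟨(equivHom_autGroup E hRT).1 l.2, hgood _ hl⟩
    have hnE := (equivHom_autGroup E hRT).1 n.2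
    obtain ⟨ψ, hψ, hag⟩ := (fullyNormalized_receptive hTp hEsat hess.2.1).2 R _ hnE
      (equivHom_range (n : MulAut R))
    have hNext : normalizerIn T R ≤ extender T R (equivHom (n : MulAut R)) := by
      intro g hg
      obtain ⟨a, ha, hae⟩ := exists_conjAut (P := R) hg.1 hg.2
      have h1 := (Subgroup.mem_normalizer_iff.1 hn (⟨a, hsyl.1 ha⟩ : A)).1 (by
        rw [hSy]; exact ha)
      rw [hSy, Subgroup.mem_subgroupOf] at h1
      obtain ⟨k, hk, hke⟩ := (mem_autInducedBy_iff _).1 h1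
      refine Subgroup.subset_closure ⟨hg.1, hg.2, k, hk, fun x hx => ?_⟩
      have h2 := hke ((n : MulAut R) x)
      simp only [Subgroup.coe_mul, Subgroup.coe_inv, MulAut.mul_apply] at h2
      rw [show (n : MulAut R)⁻¹ ((n : MulAut R) x) = x from (n : MulAut R).symm_apply_apply x] at h2
      refine Eq.trans ?_ h2
      show (((n : MulAut R) ⟨_, hx⟩ : R) : Ω) = _
      rw [show (⟨g * (x : Ω) * g⁻¹, hx⟩ : R) = a x from Subtype.ext (hae x).symm]
    have hlt : R < normalizerIn T R := lt_normalizerIn hTp hRlt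
    have hmem := ih _ hlt (restrict_mem E hψ hNext)
    refine (equivHom_autGroup _ hRT).2 (hom_congr _ (restrict_mem (fixSub E F hXS hT) hmem hlt.le) fun x => ?_)
    exact (hag x x.2 (hNext (hlt.le x.2))).symm

theorem good_of_mem (hS : IsPGroup p S) {F : FusionSystem S} (hF : F.IsSaturated p)
    {E : FusionSystem T} (hE : E.IsNormalIn F p) {x : Ω} (hx : x ∈ goodSub F E) : Good F E x :=
  good_of_le (goodSub_le F E) (goodSub_spec hS hF hE) hx


end Cfsg.Agent.FusionSys.FocCent
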