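import Cfsg.Prelude.Def_FusionComponents
import Cfsg.Agent.S5110
import Cfsg.Agent.Lib.Fusion.InvariantFrattini

/-!
# The smallest subsystem of index prime to `p`

`O^{p'}(F)` as the least system containing the `p`-elements of the automizers of centric subgroups and closed
under extension from centric subgroups.
-/

set_option autoImplicit false

namespace Cfsg.Agent.FusionSys

open Cfsg Cfsg.FusionSystem

variable {Ω : Type*} [Group Ω] {S : Subgroup Ω}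

/-- Contains the `p`-elements on centric subgroups and is closed under extension from them. -/
structure PPrimeClosed (F D : FusionSystem S) (p : ℕ) : Prop where
  paut : ∀ P, F.IsCentric P → ∀ a ∈ F.autGroup P, (∃ k : ℕ, a ^ p ^ k = 1) → a ∈ D.autGroup P
  ext : ∀ (P R : Subgroup Ω) (φ : R →* Ω) (h : P ≤ R), F.IsCentric P → φ ∈ F.Hom R → R ≤ normalizerIn S P →
    φ.comp (Subgroup.inclusion h) ∈ D.Hom P → φ ∈ D.Hom R

/-- The maps lying in every closed subsystem. -/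
def pPrimeSys (F : FusionSystem S) (p : ℕ) : FusionSystem S where
  Hom P := {φ | φ ∈ F.Hom P ∧ ∀ D : FusionSystem S, PPrimeClosed F D p → φ ∈ D.Hom P}
  le_of_mem h := F.le_of_mem h.1
  injective_of_mem h := F.injective_of_mem h.1
  conj_mem hP hg := ⟨F.conj_mem hP hg, fun D _ => D.conj_mem hP hg⟩
  comp_mem hφ hψ h := ⟨F.comp_mem hφ.1 hψ.1 h, fun D hD => D.comp_mem (hφ.2 D hD) (hψ.2 D hD) h⟩
  inv_mem {P φ} h := by
    obtain ⟨ψ, hψ, hψe⟩ := F.inv_mem h.1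
    refine ⟨ψ, ⟨hψ, fun D hD => ?_⟩, hψe⟩
    obtain ⟨ψ', hψ', hψe'⟩ := D.inv_mem (h.2 D hD)
    refine hom_congr D hψ' fun y => ?_
    obtain ⟨_, x, rfl⟩ := y
    exact (hψe x).trans (hψe' x).symm

variable {F : FusionSystem S} {p : ℕ}

theorem pPrimeSys_le : pPrimeSys F p ≤ F := fun _ _ h => h.1

theorem pPrimeSys_min {D : FusionSystem S} (hD : PPrimeClosed F D p) : pPrimeSys F p ≤ D := fun _ _ h => h.2 D hD

theorem pPrimeSys_closed (F : FusionSystem S) (p : ℕ) : PPrimeClosed F (pPrimeSys F p) p where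
  paut P hP a ha hk := by
    refine Subgroup.subset_closure ⟨(mem_autGroup_iff F hP.1 a).1 ha, fun D hD => ?_⟩
    exact (mem_autGroup_iff D hP.1 a).1 (hD.paut P hP a ha hk)
  ext P R φ h hP hφ hR hres := ⟨hφ, fun D hD => hD.ext P R φ h hP hφ hR (hres.2 D hD)⟩

/-- The intersection of two systems. -/
def interSys (E X : FusionSystem S) : FusionSystem S where
  Hom P := {φ | φ ∈ E.Hom P ∧ φ ∈ X.Hom P}
  le_of_mem h := E.le_of_mem h.1
  injective_of_mem h := E.injective_of_mem h.1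
  conj_mem hP hg := ⟨E.conj_mem hP hg, X.conj_mem hP hg⟩
  comp_mem hφ hψ h := ⟨E.comp_mem hφ.1 hψ.1 h, X.comp_mem hφ.2 hψ.2 h⟩
  inv_mem {P φ} h := by
    obtain ⟨ψ, hψ, hψe⟩ := E.inv_mem h.1
    refine ⟨ψ, ⟨hψ, ?_⟩, hψe⟩
    obtain ⟨ψ', hψ', hψe'⟩ := X.inv_mem h.2
    refine hom_congr X hψ' fun y => ?_
    obtain ⟨_, x, rfl⟩ := y
    exact (hψe x).trans (hψe' x).symm

/-- The system is generated by its maps on centric subgroups. -/
theorem pPrimeSys_generated {X : FusionSystem S}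
    (hX : ∀ P, F.IsCentric P → (pPrimeSys F p).Hom P ⊆ X.Hom P) : pPrimeSys F p ≤ X := by
  have hC : PPrimeClosed F (interSys (pPrimeSys F p) X) p :=
    { paut := fun P hP a ha hk => by
        have h := (mem_autGroup_iff _ hP.1 a).1 ((pPrimeSys_closed F p).paut P hP a ha hk)
        exact (mem_autGroup_iff _ hP.1 a).2 ⟨h, hX P hP h⟩
      ext := fun P R φ h hP hφ hR hres => by
        have h' := (pPrimeSys_closed F p).ext P R φ h hP hφ hR hres.1
        exact ⟨h', hX R (isCentric_mono hP h (hom_le F hφ)) h'⟩ }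
  exact fun P φ h => (pPrimeSys_min hC P h).2

/-! ### Invariance -/

/-- The maps of `F` whose translate by `α` lies in `D`. -/
def twistSys (F D : FusionSystem S) (α : MulAut S) : FusionSystem S where
  Hom P := {φ | φ ∈ F.Hom P ∧ ∃ χ ∈ D.Hom ((P.subgroupOf S).map (S.subtype.comp α.toMonoidHom)),
    ∀ (x : P) (hx : (x : Ω) ∈ S) (hφx : φ x ∈ S)
      (hαx : ((α ⟨x, hx⟩ : S) : Ω) ∈ (P.subgroupOf S).map (S.subtype.comp α.toMonoidHom)),
      χ ⟨(α ⟨x, hx⟩ : S), hαx⟩ = ((α ⟨φ x, hφx⟩ : S) : Ω)}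
  le_of_mem h := F.le_of_mem h.1
  injective_of_mem h := F.injective_of_mem h.1
  conj_mem {P g} hP hg := by
    have hle : (P.subgroupOf S).map (S.subtype.comp α.toMonoidHom) ≤ S := by
      rintro _ ⟨x, -, rfl⟩; exact (α x).2
    refine ⟨F.conj_mem hP hg, _, D.conj_mem hle (α ⟨g, hg⟩).2, fun x hx hφx hαx => ?_⟩
    show (α ⟨g, hg⟩ : Ω) * (α ⟨x, hx⟩ : Ω) * (α ⟨g, hg⟩ : Ω)⁻¹ = _
    rw [← Subgroup.coe_inv, ← Subgroup.coe_mul, ← Subgroup.coe_mul, ← map_inv, ← map_mul, ← map_mul]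
    rfl
  comp_mem {P R φ ψ} := by
    rintro ⟨hφ, χ, hχ, hχe⟩ ⟨hψ, χ', hχ', hχe'⟩ h
    have hv : ∀ y, χ y ∈ (R.subgroupOf S).map (S.subtype.comp α.toMonoidHom) := by
      rintro ⟨_, x, hx, rfl⟩
      refine ⟨⟨φ ⟨x, hx⟩, hom_apply_mem F hφ _⟩, h _, ?_⟩
      exact (hχe ⟨x, hx⟩ x.2 (hom_apply_mem F hφ _) _).symm
    refine ⟨F.comp_mem hφ hψ h, _, D.comp_mem hχ hχ' hv, fun x hx hφx hαx => ?_⟩
    show χ' ⟨χ _, hv _⟩ = _
    refine Eq.trans (apply_congr χ' (hχe x hx (hom_apply_mem F hφ x) hαx) _ ⟨⟨φ x, hom_apply_mem F hφ x⟩, h x, rfl⟩) ?_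
    exact hχe' ⟨φ x, h x⟩ (hom_apply_mem F hφ x) hφx ⟨_, h x, rfl⟩
  inv_mem {P φ} := by
    rintro ⟨hφ, χ, hχ, hχe⟩
    obtain ⟨ψ, hψ, hψe⟩ := F.inv_mem hφ
    obtain ⟨χi, hχi, hχie⟩ := D.inv_mem hχ
    have hle : (φ.range.subgroupOf S).map (S.subtype.comp α.toMonoidHom) ≤ χ.range := by
      rintro _ ⟨⟨_, hs⟩, ⟨x, rfl⟩, rfl⟩
      exact ⟨_, hχe x (hom_le F hφ x.2) hs ⟨⟨x, hom_le F hφ x.2⟩, x.2, rfl⟩⟩
    refine ⟨ψ, ⟨hψ, _, restrict_mem D hχi hle, fun y hy hψy hαy => ?_⟩, hψe⟩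
    obtain ⟨_, x, rfl⟩ := y
    have hxS := hom_le F hφ x.2
    have hxm : ((α ⟨x, hxS⟩ : S) : Ω) ∈ (P.subgroupOf S).map (S.subtype.comp α.toMonoidHom) :=
      ⟨⟨x, hxS⟩, x.2, rfl⟩
    refine Eq.trans (apply_congr χi (hχe x hxS hy hxm).symm _ ⟨_, rfl⟩) ?_
    refine (hχie ⟨_, hxm⟩).trans ?_
    exact congrArg (fun z : S => ((α z : S) : Ω)) (Subtype.ext (hψe x).symm)

theorem twist_closed [Finite S] {D : FusionSystem S} (hD : PPrimeClosed F D p) {α : MulAut S} (hα : α ∈ F.autGroup S) :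
    PPrimeClosed F (twistSys F D α) p := by
  have hαm := (mem_autGroup_iff F le_rfl α).1 hα
  constructor
  · intro P hP a ha hk
    have hαP := restrict_mem F hαm hP.1
    set A := (P.subgroupOf S).map (S.subtype.comp α.toMonoidHom) with hA
    have hr : ((S.subtype.comp α.toMonoidHom).comp (Subgroup.inclusion hP.1)).range = A := range_restrict _ hP.1
    set e := mapEquiv F hαP hr with he
    have hem : A.subtype.comp e.toMonoidHom ∈ F.Hom P := hom_congr F hαP fun _ => rfl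
    have h1 : MulAut.congr e a ∈ F.autGroup A := congr_mem_autGroup F e hem (mapEquiv_symm_mem F hαP hr) ha
    have h2 : ∃ k : ℕ, (MulAut.congr e a) ^ p ^ k = 1 := by
      obtain ⟨k, hk⟩ := hk
      exact ⟨k, by rw [← map_pow, hk, map_one]⟩
    have hAc : F.IsCentric A := isCentric_isConj hP ⟨_, hαP, hr⟩
    have h3 := hD.paut A hAc _ h1 h2
    refine (mem_autGroup_iff _ hP.1 a).2 ⟨(mem_autGroup_iff F hP.1 a).1 ha, _,
      (mem_autGroup_iff D hAc.1 _).1 h3, fun x hx hφx hαx => ?_⟩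
    show ((e (a (e.symm ⟨_, hαx⟩)) : A) : Ω) = _
    rw [show e.symm ⟨_, hαx⟩ = x from e.injective ((e.apply_symm_apply _).trans (Subtype.ext rfl))]
    rfl
  · rintro P R φ h hP hφ hR ⟨hres, χ₀, hχ₀, hχ₀e⟩
    refine ⟨hφ, ?_⟩
    set A := (P.subgroupOf S).map (S.subtype.comp α.toMonoidHom) with hA
    set B := (R.subgroupOf S).map (S.subtype.comp α.toMonoidHom) with hB
    have hRS := hom_le F hφ
    have hαR := restrict_mem F hαm hRS
    have hrB : ((S.subtype.comp α.toMonoidHom).comp (Subgroup.inclusion hRS)).range = B := range_restrict _ hRS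
    obtain ⟨β, hβ, hβe⟩ := F.inv_mem hαR
    have hBr : B ≤ ((S.subtype.comp α.toMonoidHom).comp (Subgroup.inclusion hRS)).range := hrB.ge
    have hv : ∀ y, (β.comp (Subgroup.inclusion hBr)) y ∈ R := by
      rintro ⟨_, x, hx, rfl⟩
      exact (hβe ⟨x, hx⟩).symm ▸ hx
    have hm := F.comp_mem (restrict_mem F hβ hBr) hφ hv
    have hm' := F.comp_mem hm hαm fun y => hom_apply_mem F hm y
    refine ⟨_, hD.ext A B _ (Subgroup.map_mono (Subgroup.comap_mono h))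
      (isCentric_isConj hP ⟨_, restrict_mem F hαm hP.1, range_restrict _ hP.1⟩) hm' ?_ ?_, fun x hx hφx hαx => ?_⟩
    · rintro _ ⟨x, hx, rfl⟩
      refine ⟨(α x).2, ?_⟩
      have hr : ((S.subtype.comp α.toMonoidHom).comp (Subgroup.inclusion hP.1)).range = A := range_restrict _ hP.1
      haveI : Finite A := finite_of_le (hr ▸ range_le F (restrict_mem F hαm hP.1))
      exact apply_mem_normalizer _ hP.1 hr x (hR hx).2
    · refine hom_congr D hχ₀ fun y => ?_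
      obtain ⟨_, x, hx, rfl⟩ := y
      refine Eq.trans ?_ (hχ₀e ⟨x, hx⟩ x.2 (hom_apply_mem F hφ _) _).symm
      exact congrArg (fun z : S => ((α z : S) : Ω)) (Subtype.ext (congrArg φ (Subtype.ext (hβe ⟨x, h hx⟩))))
    · exact congrArg (fun z : S => ((α z : S) : Ω)) (Subtype.ext (congrArg φ (Subtype.ext (hβe x))))

theorem pPrimeSys_autInvariant [Finite S] (F : FusionSystem S) (p : ℕ) : AutInvariant F (pPrimeSys F p) := by
  intro P hP φ hφ α hα
  obtain ⟨-, χ, hχ, hχe⟩ := pPrimeSys_min (twist_closed (pPrimeSys_closed F p) hα) P hφ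
  exact ⟨χ, hχ, fun x hφx hαx => hχe x _ hφx hαx⟩

/-! ### The Frattini factorization -/

variable [Finite S] [hp : Fact p.Prime]

/-- The maps factoring through the least closed system, as far as sources of order at least `n` go. -/
def frattiniFrom (F D : FusionSystem S) (hAI : AutInvariant F D) (n : ℕ) : FusionSystem S where
  Hom P := {φ | φ ∈ F.Hom P ∧ (n ≤ Nat.card P → FrattiniMap F D P φ)}
  le_of_mem h := F.le_of_mem h.1
  injective_of_mem h := F.injective_of_mem h.1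
  conj_mem hP hg := ⟨F.conj_mem hP hg, fun _ => frattini_of_mem (D.conj_mem hP hg)⟩
  comp_mem {P R φ ψ} hφ hψ h := by
    refine ⟨F.comp_mem hφ.1 hψ.1 h, fun hn =>
      frattini_comp hAI (hφ.2 hn) (hψ.2 (le_trans hn ?_)) h⟩
    exact card_le_of_hom F hφ.1 le_rfl (hom_le F hψ.1) fun x hx => h ⟨x, hx⟩
  inv_mem {P φ} hφ := by
    refine ⟨equivHom (mapEquiv F hφ.1 rfl).symm, ⟨mapEquiv_symm_mem F hφ.1 rfl, fun hn => ?_⟩, fun x => ?_⟩
    · refine frattini_symm hAI _ (frattini_congr (hφ.2 ?_) fun x => rfl)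
      rwa [isConj_card ⟨φ, hφ.1, rfl⟩]
    · exact congrArg Subtype.val ((mapEquiv F hφ.1 rfl).symm_apply_apply x)

/-- Every map is an automorphism of `S` after a map of a system containing the `p`-elements on centric subgroups. -/
theorem frattini_of_paut (hS : IsPGroup p S) (hF : F.IsSaturated p) {D : FusionSystem S} (hAI : AutInvariant F D)
    (hpaut : ∀ P, F.IsCentric P → ∀ a ∈ F.autGroup P, (∃ k : ℕ, a ^ p ^ k = 1) → a ∈ D.autGroup P) {P : Subgroup Ω} {φ : P →* Ω}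
    (hφ : φ ∈ F.Hom P) : FrattiniMap F D P φ := by
  suffices h : ∀ n, F ≤ frattiniFrom F D hAI n from (h 0 P hφ).2 (Nat.zero_le _)
  intro n
  induction hk : Nat.card S + 1 - n using Nat.strong_induction_on generalizing n with
  | _ k ih =>
  refine alperin hS hF ?_
  rintro Q hQ γ hγ
  have hQS : Q ≤ S := hQ.elim (fun e => e.le) fun e => e.1.1
  refine (mem_autGroup_iff _ hQS γ).2 ⟨(mem_autGroup_iff F hQS γ).1 hγ, fun hn => ?_⟩
  rcases hQ with rfl | hess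
  · exact ⟨γ, hγ, Q.subtype, subtype_mem _ le_rfl, fun x hx => rfl⟩
  obtain ⟨hcen, hfn, -, -⟩ := id hess
  haveI := finite_of_le hQS
  have hlt := lt_normalizerIn hS (essential_lt hS hF hess)
  haveI := finite_of_le (normalizerIn_le S Q)
  set B := Subgroup.closure {a : F.autGroup Q | ∃ k : ℕ, a ^ p ^ k = 1}
  haveI hBn : B.Normal := by
    refine ⟨fun b hb g => ?_⟩
    induction hb using Subgroup.closure_induction with
    | mem x hx =>
      obtain ⟨k, hk⟩ := hx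
      exact Subgroup.subset_closure ⟨k, by rw [conj_pow, hk, mul_one, mul_inv_cancel]⟩
    | one => simp
    | mul x y _ _ hx hy => rw [show g * (x * y) * g⁻¹ = g * x * g⁻¹ * (g * y * g⁻¹) by group]; exact B.mul_mem hx hy
    | inv x _ hx => rw [show g * x⁻¹ * g⁻¹ = (g * x * g⁻¹)⁻¹ by group]; exact B.inv_mem hx
  obtain ⟨T, hT⟩ := (fullyNormalized_imp hS hF hfn).2.2
  have hTB : (T : Subgroup (F.autGroup Q)) ≤ B := fun x hx => by
    obtain ⟨k, hk⟩ := T.2 ⟨x, hx⟩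
    exact Subgroup.subset_closure ⟨k, congrArg Subtype.val hk⟩
  obtain ⟨n', hn', b, hb, hnb⟩ := Subgroup.mem_sup_of_normal_right.1
    ((Sylow.normalizer_sup_eq_top' T hTB).ge (Subgroup.mem_top ⟨γ, hγ⟩))
  change n' ∈ Subgroup.normalizer (((T : Subgroup (F.autGroup Q)) : Set (F.autGroup Q))) at hn'
  rw [hT] at hn'
  have hbE : (b : MulAut Q) ∈ D.autGroup Q := by
    have hle : B ≤ (D.autGroup Q).subgroupOf (F.autGroup Q) := by
      refine (Subgroup.closure_le _).2 ?_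
      rintro a ⟨k, hk⟩
      exact hpaut Q hcen a a.2 ⟨k, congrArg Subtype.val hk⟩
    exact hle hb
  have hne := (mem_autGroup_iff F hQS _).1 n'.2
  obtain ⟨ψ, hψ, hψe⟩ := (fullyNormalized_receptive hS hF hfn).2 Q _ hne (equivHom_range (n' : MulAut Q))
  have hN : normalizerIn S Q ≤ extender S Q (Q.subtype.comp (n' : MulAut Q).toMonoidHom) := by
    intro g hg
    obtain ⟨c, hc, hce⟩ := exists_conjAut (K := S) (P := Q) hg.1 hg.2
    have h1 := (Subgroup.mem_normalizer_iff.1 hn' ⟨c, autInducedBy_le_autGroup F hQS hc⟩).1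
      (Subgroup.mem_subgroupOf.2 hc)
    obtain ⟨h, hh, hhe⟩ := (mem_autInducedBy_iff _).1 (Subgroup.mem_subgroupOf.1 h1)
    refine Subgroup.subset_closure ⟨hg.1, hg.2, h, hh, fun x hx => ?_⟩
    have h2 := hhe ((n' : MulAut Q) x)
    simp only [Subgroup.coe_mul, Subgroup.coe_inv, MulAut.mul_apply] at h2
    rw [show ((n' : MulAut Q))⁻¹ ((n' : MulAut Q) x) = x from (n' : MulAut Q).symm_apply_apply x] at h2
    refine Eq.trans ?_ h2
    show (((n' : MulAut Q) ⟨_, hx⟩ : Q) : Ω) = _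
    rw [show (⟨g * (x : Ω) * g⁻¹, hx⟩ : Q) = c x from Subtype.ext (hce x).symm]
  have hc1 := card_lt_of_lt hlt
  have hc2 := Subgroup.card_le_of_le (normalizerIn_le S Q)
  have hbig := (ih _ (by omega) (Nat.card (normalizerIn S Q)) rfl _ (restrict_mem F hψ hN)).2 le_rfl
  have hnF : FrattiniMap F D Q (equivHom (n' : MulAut Q)) :=
    frattini_congr (frattini_restrict hbig (le_normalizerIn hQS))
      fun x => (hψe x x.2 (hN (le_normalizerIn hQS x.2))).symm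
  have hbF : FrattiniMap F D Q (equivHom (b : MulAut Q)) :=
    frattini_of_mem ((mem_autGroup_iff _ hQS _).1 hbE)
  refine frattini_congr (frattini_comp hAI hbF hnF fun x => ((b : MulAut Q) x).2)
    fun x => ?_
  exact congrArg (fun α : MulAut Q => ((α x : Q) : Ω)) (congrArg Subtype.val hnb).symm

/-- Every map is an automorphism of `S` after a map of the least closed system. -/
theorem pPrimeSys_frattini (hS : IsPGroup p S) (hF : F.IsSaturated p) {P : Subgroup Ω} {φ : P →* Ω}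
    (hφ : φ ∈ F.Hom P) : FrattiniMap F (pPrimeSys F p) P φ :=
  frattini_of_paut hS hF (pPrimeSys_autInvariant F p) (pPrimeSys_closed F p).paut hφ

/-- A map of `F` carries the automizers of the least closed system to those of the image. -/
theorem pPrimeSys_congr_aut (hS : IsPGroup p S) (hF : F.IsSaturated p) {A B : Subgroup Ω} (e : A ≃* B)
    (he : equivHom e ∈ F.Hom A) {c : MulAut A} (hc : c ∈ (pPrimeSys F p).autGroup A) :
    MulAut.congr e c ∈ (pPrimeSys F p).autGroup B := by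
  obtain ⟨α, hα, φ₀, hφ₀, hφe⟩ := pPrimeSys_frattini hS hF he
  have h0 : ∀ x : A, φ₀ x ∈ S := hom_apply_mem _ hφ₀
  set e₀ := mapEquiv _ hφ₀ rfl
  have hc₀ : MulAut.congr e₀ c ∈ (pPrimeSys F p).autGroup φ₀.range :=
    congr_mem_autGroup _ e₀ (hom_congr _ hφ₀ fun _ => rfl) (mapEquiv_symm_mem _ hφ₀ rfl) hc
  obtain ⟨χ, hχ, hχe⟩ := pPrimeSys_autInvariant F p φ₀.range (range_le _ hφ₀) _
    ((mem_autGroup_iff _ (range_le _ hφ₀) _).1 hc₀) α hα
  have hBS : B ≤ S := fun b hb => by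
    have h := hom_apply_mem F he (e.symm ⟨b, hb⟩)
    rwa [equivHom_apply, e.apply_symm_apply] at h
  have hle : B ≤ (φ₀.range.subgroupOf S).map (S.subtype.comp α.toMonoidHom) := fun b hb =>
    ⟨⟨φ₀ (e.symm ⟨b, hb⟩), h0 _⟩, ⟨_, rfl⟩, by
      refine (hφe _ (h0 _)).symm.trans ?_
      rw [equivHom_apply, e.apply_symm_apply]⟩
  refine (mem_autGroup_iff _ hBS _).2 (hom_congr _ (restrict_mem _ hχ hle) fun b => ?_)
  obtain ⟨x, rfl⟩ := e.surjective b
  have hb : ((α ⟨φ₀ x, h0 x⟩ : S) : Ω) = ((e x : B) : Ω) := (hφe x (h0 x)).symm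
  show ((e (c (e.symm (e x))) : B) : Ω) = χ _
  rw [e.symm_apply_apply]
  refine Eq.trans ?_ (apply_congr χ hb ⟨⟨φ₀ x, h0 x⟩, ⟨x, rfl⟩, rfl⟩ (hle (e x).2))
  refine Eq.trans ?_ (hχe ⟨φ₀ x, x, rfl⟩ (range_le _ hφ₀ ((MulAut.congr e₀ c) ⟨φ₀ x, x, rfl⟩).2)
    (hb.symm ▸ hle (e x).2)).symm
  have h1 : (MulAut.congr e₀ c ⟨φ₀ x, x, rfl⟩ : φ₀.range) = e₀ (c x) := by
    show e₀ (c (e₀.symm (e₀ x))) = _
    rw [e₀.symm_apply_apply]
  refine (hφe (c x) (h0 (c x))).trans ?_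
  exact congrArg (fun z : S => ((α z : S) : Ω)) (Subtype.ext (congrArg Subtype.val h1).symm)

theorem pPrimeSys_index (hS : IsPGroup p S) (hF : F.IsSaturated p) :
    (pPrimeSys F p).HasPrimeToPIndexIn F p := by
  refine ⟨fun P => pPrimeSys_le P, fun P hP => ?_⟩
  rw [MonoidHom.map_closure, Subgroup.closure_le]
  rintro _ ⟨a, ⟨k, hk⟩, rfl⟩
  obtain ⟨Q, ⟨θ, hθ, hθr⟩, hQ⟩ := exists_fullyNormalized F hP
  haveI := finite_of_le hQ.1
  set e := mapEquiv F hθ hθr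
  have hem : equivHom e ∈ F.Hom P := equivHom_mapEquiv F hθ hθr
  have ha : MulAut.congr e (a : MulAut P) ∈ F.autGroup Q :=
    congr_mem_autGroup F e hem (mapEquiv_symm_mem F hθ hθr) a.2
  have hZ : IsPGroup p (Subgroup.zpowers (MulAut.congr e (a : MulAut P))) := by
    rintro ⟨_, j, rfl⟩
    refine ⟨k, Subtype.ext ?_⟩
    show ((MulAut.congr e (a : MulAut P)) ^ j) ^ p ^ k = 1
    rw [← zpow_natCast, ← _root_.zpow_mul, mul_comm, _root_.zpow_mul, zpow_natCast, ← map_pow,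
      ← Subgroup.coe_pow, ← hk, pow_orderOf_eq_one, Subgroup.coe_one, map_one, _root_.one_zpow]
  obtain ⟨γ, hγ, hle⟩ := (isSyl_of_fullyAutomized (fullyNormalized_imp hS hF hQ).2).exists_conj hZ
    (Subgroup.zpowers_le.2 ha)
  obtain ⟨g, hg, hge⟩ := (mem_autInducedBy_iff _).1 (hle ⟨_, Subgroup.mem_zpowers _, rfl⟩)
  have hc : γ * MulAut.congr e (a : MulAut P) * γ⁻¹ ∈ (pPrimeSys F p).autGroup Q :=
    (mem_autGroup_iff _ hQ.1 _).2 (hom_congr _ ((pPrimeSys F p).conj_mem hQ.1 hg) hge)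
  set f : Q ≃* P := (γ⁻¹ : MulAut Q).trans e.symm
  have hf : equivHom f ∈ F.Hom Q := equivHom_trans F ((mem_autGroup_iff F hQ.1 _).1 (Subgroup.inv_mem _ hγ))
    (mapEquiv_symm_mem F hθ hθr)
  have h := pPrimeSys_congr_aut hS hF f hf hc
  have e3 : MulAut.congr f (γ * MulAut.congr e (a : MulAut P) * γ⁻¹) = (a : MulAut P) := by
    ext x
    simp [f, MulAut.mul_apply, congr_apply]
  rw [e3] at h
  exact h

/-- The least closed system is saturated. -/
theorem pPrimeSys_saturated (hS : IsPGroup p S) (hF : F.IsSaturated p) : (pPrimeSys F p).IsSaturated p := by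
  have hconj : ∀ {P Q : Subgroup Ω}, (pPrimeSys F p).IsConj P Q → F.IsConj P Q :=
    fun ⟨φ, hφ, hr⟩ => ⟨φ, hφ.1, hr⟩
  have hhalf : ∀ {P Q : Subgroup Ω}, F.IsConj P Q → ∃ Q₀, (pPrimeSys F p).IsConj P Q₀ ∧ ∃ α ∈ F.autGroup S,
      imgOf (S.subtype.comp α.toMonoidHom) Q₀ = Q := by
    rintro P Q ⟨φ, hφ, hr⟩
    obtain ⟨α, hα, φ₀, hφ₀, he⟩ := pPrimeSys_frattini hS hF hφ
    refine ⟨φ₀.range, ⟨φ₀, hφ₀, rfl⟩, α, hα, ?_⟩
    rw [← hr]
    ext y
    constructor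
    · rintro ⟨⟨_, hs⟩, ⟨x, rfl⟩, rfl⟩; exact ⟨x, he x hs⟩
    · rintro ⟨x, rfl⟩; exact ⟨⟨φ₀ x, hom_apply_mem _ hφ₀ x⟩, ⟨x, rfl⟩, (he x _).symm⟩
  have hidx := pPrimeSys_index (p := p) hS hF
  refine Cfsg.Agent.S5110.result p hS (pPrimeSys F p) {P | F.IsCentric P} (fun P hP => hP.1)
    (fun P hP Q hQ => isCentric_isConj hP (hconj hQ)) (fun P hP => ?_) (fun X hX => pPrimeSys_generated hX)
    fun P hP hn => absurd ⟨hP.1, fun Q hQ => ?_⟩ hn
  · obtain ⟨Q, hPQ, hQ⟩ := exists_fullyNormalized F hP.1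
    obtain ⟨Q₀, hPQ₀, α, hα, hαQ⟩ := hhalf hPQ
    have hQ₀S := isConj_le_right hPQ₀
    have hαm := (mem_autGroup_iff F le_rfl α).1 hα
    have hfn : F.IsFullyNormalized Q₀ := by
      refine ⟨hQ₀S, fun R hR => le_trans (hQ.2 R
        (isConj_trans (isConj_trans (isConj_symm hPQ) (hconj hPQ₀)) hR)) ?_⟩
      obtain ⟨β, hβ, hβe, hβr, hβi⟩ := exists_inv_imgOf F hαm
      have hr : (S.subtype.comp α.toMonoidHom).range = S := by
        rw [MonoidHom.range_comp, MonoidHom.range_eq_top.2 α.surjective, ← MonoidHom.range_eq_map,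
          Subgroup.range_subtype]
      have hNle : normalizerIn S Q ≤ (S.subtype.comp α.toMonoidHom).range := hr.symm ▸ normalizerIn_le S Q
      refine card_le_of_hom F hβ hNle (normalizerIn_le S Q₀) fun x hx => ?_
      have hQr : Q ≤ (S.subtype.comp α.toMonoidHom).range := hαQ ▸ imgOf_le_range _
      have := imgOf_mem_normalizer F hβ hQr ⟨x, hNle hx⟩ hx.2
      have hb := hβi Q₀ hQ₀S
      rw [hαQ] at hb
      rwa [hb] at this
    have hsyl := isSyl_of_fullyAutomized (fullyNormalized_imp hS hF hfn).2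
    haveI := finite_of_le hQ₀S
    refine ⟨Q₀, hPQ₀, fullyAutomized_of_isSyl_aut hQ₀S
      ⟨autInducedBy_le_autGroup _ hQ₀S, hsyl.2.1, fun hd => hsyl.2.2 (hd.trans
        (Dvd.intro _ (Subgroup.relIndex_mul_relIndex _ _ _ (autInducedBy_le_autGroup _ hQ₀S)
          (autGroup_mono (E := pPrimeSys F p) (fun P => pPrimeSys_le P) Q₀))))⟩, hQ₀S, ?_⟩
    intro P' φ hφ hr
    obtain ⟨ψ, hψ, hψe⟩ := (fullyNormalized_receptive hS hF hfn).2 P' φ hφ.1 hr
    have hP' : F.IsCentric P' := isCentric_isConj hP (isConj_trans (hconj hPQ₀) (isConj_symm ⟨φ, hφ.1, hr⟩))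
    refine ⟨ψ, (pPrimeSys_closed F p).ext P' _ ψ (le_extender F hφ.1) hP' hψ (extender_le_normalizerIn φ)
      (hom_congr _ hφ fun x => hψe x x.2 _), hψe⟩
  · obtain ⟨Q₀, hPQ₀, α, hα, hαQ⟩ := hhalf hQ
    intro c hc
    have hQ₀S := isConj_le_right hPQ₀
    have hαm := (mem_autGroup_iff F le_rfl α).1 hα
    have hd : (α.symm ⟨c, hc.1⟩ : Ω) ∈ centralizerIn S Q₀ := by
      refine ⟨(α.symm _).2, Subgroup.mem_centralizer_iff.2 fun y hy => ?_⟩
      have h1 := Subgroup.mem_centralizer_iff.1 hc.2 ((α ⟨y, hQ₀S hy⟩ : S) : Ω) (hαQ.le ⟨⟨y, hQ₀S hy⟩, hy, rfl⟩)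
      have h2 : α ⟨y, hQ₀S hy⟩ * ⟨c, hc.1⟩ = ⟨c, hc.1⟩ * α ⟨y, hQ₀S hy⟩ := Subtype.ext h1
      have h3 := congrArg α.symm h2
      simp only [map_mul, α.symm_apply_apply] at h3
      exact congrArg Subtype.val h3
    have h4 : ((α (α.symm ⟨c, hc.1⟩) : S) : Ω) ∈ Q := hαQ.le ⟨_, hP.2 Q₀ hPQ₀ hd, rfl⟩
    rwa [α.apply_symm_apply] at h4

/-- An extension from a centric subgroup lies in a saturated subsystem up to a `p`-element fixing that subgroup. -/
theorem exists_ext_up_to_p (hS : IsPGroup p S) {D : FusionSystem S} (hD : D.IsSaturated p)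
    (hsub : ∀ P, D.Hom P ⊆ F.Hom P) {P R : Subgroup Ω} {φ : R →* Ω} (h : P ≤ R) (hP : F.IsCentric P)
    (hφ : φ ∈ F.Hom R) (hR : R ≤ normalizerIn S P) (hres : φ.comp (Subgroup.inclusion h) ∈ D.Hom P) :
    ∃ η ∈ D.Hom R, ∃ β ∈ F.autGroup R, (∃ k : ℕ, β ^ p ^ k = 1) ∧ (∀ x : R, (x : Ω) ∈ P → β x = x) ∧
      ∀ x : R, φ x = η (β x) := by
  have hconj : ∀ {P Q : Subgroup Ω}, D.IsConj P Q → F.IsConj P Q := fun ⟨φ, hφ, hr⟩ => ⟨φ, hsub _ hφ, hr⟩
  have hφP : D.IsConj P (imgOf φ P) := ⟨_, hres, range_restrict φ h⟩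
  obtain ⟨Q', hQQ', hQ'⟩ := exists_fullyNormalized D (isConj_le_right hφP)
  obtain ⟨χ, hχ, hχN, hχQ⟩ := exists_normalizer_map_fullyNormalized hS hD hQ' hQQ'
  have hv : ∀ x, φ x ∈ normalizerIn S (imgOf φ P) := fun x => imgOf_mem_normalizer F hφ h x (hR x.2).2
  have hθ := F.comp_mem hφ (hsub _ hχ) hv
  set θ := χ.comp (φ.codRestrict _ hv) with hθdef
  have hθP : θ.comp (Subgroup.inclusion h) ∈ D.Hom P :=
    hom_congr D (D.comp_mem hres hχ fun x => hv _) fun _ => rfl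
  have hθr : (θ.comp (Subgroup.inclusion h)).range = Q' := by
    rw [range_restrict, ← hχQ]
    exact imgOf_comp φ χ hv
  have hext : R ≤ extender S P (θ.comp (Subgroup.inclusion h)) := fun g hg =>
    Subgroup.subset_closure ⟨hom_le F hφ hg, (hR hg).2, θ ⟨g, hg⟩, hom_apply_mem F hθ _, fun x hx =>
      map_apply_conj θ hg (h x.2) (h hx)⟩
  obtain ⟨ψ₁, hψ₁, hag⟩ := (fullyNormalized_receptive hS hD hQ').2 P _ hθP hθr
  have hψ := restrict_mem D hψ₁ hext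
  set ψ := ψ₁.comp (Subgroup.inclusion hext)
  have hψF : ψ ∈ F.Hom R := hsub R hψ
  have hag' : ∀ (x : R), (x : Ω) ∈ P → ψ x = θ x := fun x hx => hag x hx _
  have hRN : ∀ g : R, (g : Ω) ∈ Subgroup.normalizer (P : Set Ω) := fun g => (hR g.2).2
  have hQ'c : centralizerIn S Q' ≤ Q' := hP.2 Q' (isConj_trans (hconj hφP) (hconj hQQ'))
  have hdiff : ∀ g : R, ∃ z : R, (z : Ω) ∈ P ∧ θ g = ψ (g * z) := by
    intro g
    have hz : (ψ g)⁻¹ * θ g ∈ centralizerIn S Q' := by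
      refine ⟨S.mul_mem (S.inv_mem (hom_apply_mem F hψF g)) (hom_apply_mem F hθ g), ?_⟩
      refine Subgroup.mem_centralizer_iff.2 fun y hy => ?_
      obtain ⟨x, rfl⟩ := hθr.ge hy
      have hgx : (g : Ω) * x * (g : Ω)⁻¹ ∈ P := (Subgroup.mem_normalizer_iff.1 (hRN g) _).1 x.2
      have e1 := hag' (⟨(g : Ω) * x * (g : Ω)⁻¹, h hgx⟩) hgx
      rw [map_apply_conj ψ g.2 (h x.2) (h hgx), map_apply_conj θ g.2 (h x.2) (h hgx),
        hag' ⟨x, h x.2⟩ x.2] at e1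
      show θ ⟨x, h x.2⟩ * _ = _ * θ ⟨x, h x.2⟩
      calc θ ⟨x, h x.2⟩ * ((ψ g)⁻¹ * θ g)
          = (ψ g)⁻¹ * (ψ g * θ ⟨x, h x.2⟩ * (ψ g)⁻¹) * θ g := by group
        _ = (ψ g)⁻¹ * (θ g * θ ⟨x, h x.2⟩ * (θ g)⁻¹) * θ g := by rw [show ψ ⟨g, g.2⟩ = ψ g from rfl] at e1; rw [e1]
        _ = (ψ g)⁻¹ * θ g * θ ⟨x, h x.2⟩ := by group
    obtain ⟨x, hx⟩ := hθr.ge (hQ'c hz)
    refine ⟨⟨x, h x.2⟩, x.2, ?_⟩
    rw [map_mul, hag' ⟨x, h x.2⟩ x.2, show θ ⟨x, h x.2⟩ = (ψ g)⁻¹ * θ g from hx, mul_inv_cancel_left]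
  have hRS := hom_le F hφ
  haveI := finite_of_le hRS
  have hrange : θ.range ≤ ψ.range := by
    rintro _ ⟨g, rfl⟩
    obtain ⟨z, -, hz⟩ := hdiff g
    exact ⟨_, hz.symm⟩
  obtain ⟨ψi, hψi, hψie, hψir, -⟩ := exists_inv_imgOf F hψF
  have hβm := F.comp_mem hθ hψi fun x => hrange ⟨x, rfl⟩
  set β₀ := ψi.comp (θ.codRestrict ψ.range fun x => hrange ⟨x, rfl⟩) with hβ₀
  have hβr : β₀.range = R := Subgroup.eq_of_le_of_card_ge
    (by rintro _ ⟨x, rfl⟩; exact hψir.le ⟨_, rfl⟩) (isConj_card ⟨β₀, hβm, rfl⟩).le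
  obtain ⟨β, hβ, hβe⟩ := exists_autGroup_of_range F hβm hβr
  have hβψ : ∀ g, ψ (β g) = θ g := by
    intro g
    obtain ⟨z, -, hz⟩ := hdiff g
    have e : β g = g * z := Subtype.ext <| (hβe g).trans <| by
      show ψi ⟨θ g, _⟩ = _
      refine Eq.trans (apply_congr ψi hz _ ⟨_, rfl⟩) (hψie _ _)
    rw [e, hz]
  have hfix : ∀ x : R, (x : Ω) ∈ P → β x = x := fun x hx =>
    F.injective_of_mem hψF ((hβψ x).trans (hag' x hx).symm)
  haveI := finite_of_le hP.1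
  obtain ⟨n, hn⟩ := IsPGroup.iff_card.1 (hS.to_le hP.1)
  have hpow : β ^ p ^ n = 1 := by
    refine MulEquiv.ext fun g => ?_
    obtain ⟨z, hzP, hz⟩ := hdiff g
    have hg : β g = g * z := F.injective_of_mem hψF ((hβψ g).trans hz)
    have key : ∀ m : ℕ, (β ^ m) g = g * z ^ m := by
      intro m
      induction m with
      | zero => simp
      | succ m ihm =>
        rw [pow_succ', MulAut.mul_apply, ihm, map_mul, map_pow, hg, hfix z hzP, pow_succ']
        group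
    have hz1 : (⟨(z : Ω), hzP⟩ : P) ^ p ^ n = 1 := by rw [← hn]; exact pow_card_eq_one'
    have hz2 : z ^ p ^ n = 1 := Subtype.ext (by simpa using congrArg Subtype.val hz1)
    rw [key, hz2, mul_one]
    rfl
  obtain ⟨χi, hχi, hχie, -, -⟩ := exists_inv_imgOf D hχ
  have hθr' : ∀ x, ψ x ∈ χ.range := fun x => by
    obtain ⟨y, rfl⟩ := β.surjective x
    exact ⟨⟨φ y, hv y⟩, (hβψ y).symm⟩
  refine ⟨_, D.comp_mem hψ hχi hθr', β, hβ, ⟨_, hpow⟩, hfix, fun x => ?_⟩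
  refine (hχie ⟨φ x, hv x⟩ ⟨_, rfl⟩).symm.trans ?_
  exact apply_congr χi (hβψ x).symm _ (hθr' _)

/-- A saturated subsystem of index prime to `p` is closed. -/
theorem closed_of_index (hS : IsPGroup p S) {D : FusionSystem S} (hD : D.IsSaturated p)
    (hi : D.HasPrimeToPIndexIn F p) : PPrimeClosed F D p := by
  have paut : ∀ P ≤ S, ∀ a ∈ F.autGroup P, (∃ k : ℕ, a ^ p ^ k = 1) → a ∈ D.autGroup P := by
    rintro P hP a ha ⟨k, hk⟩
    haveI := finite_of_le hP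
    obtain ⟨j, -, hj⟩ := (Nat.dvd_prime_pow hp.out).1 (orderOf_dvd_of_pow_eq_one hk)
    refine hi.2 P hP ⟨⟨a, ha⟩, Subgroup.subset_closure ⟨j, ?_⟩, rfl⟩
    rw [Subgroup.orderOf_mk, hj]
  refine ⟨fun P hP => paut P hP.1, fun P R φ h hP hφ hR hres => ?_⟩
  obtain ⟨η, hη, β, hβ, hk, -, he⟩ := exists_ext_up_to_p hS hD hi.1 h hP hφ hR hres
  have hβD := (mem_autGroup_iff D (hom_le F hφ) β).1 (paut R (hom_le F hφ) β hβ hk)
  exact hom_congr D (D.comp_mem hβD hη fun x => (β x).2) he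

theorem exists_pPrimeResidual (hS : IsPGroup p S) (hF : F.IsSaturated p) : F.IsPPrimeResidual p (pPrimeSys F p) :=
  ⟨pPrimeSys_saturated hS hF, pPrimeSys_index hS hF, fun _ hD hi => pPrimeSys_min (closed_of_index hS hD hi)⟩

end Cfsg.Agent.FusionSys
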