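import Cfsg.Agent.Lib.Fusion.PPowerResidual
import Cfsg.Agent.Lib.Fusion.PPrimeResidual
import Cfsg.Agent.Lib.Fusion.InvariantFrattini
import Cfsg.Prelude.Def_FusionReduction

/-!
# Existence, uniqueness and normality of the subsystems of `p`-power index

Existence by induction along a chain of subgroups of index `p`; invariance from uniqueness; the residual limit
is unique.
-/

set_option autoImplicit false

namespace Cfsg.Agent.FusionSys

open Cfsg Cfsg.FusionSystem

variable {Ω : Type*} [Group Ω] {S T U : Subgroup Ω} {p : ℕ} [hp : Fact p.Prime]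

theorem pPower_self (F : FusionSystem S) : F.HasPPowerIndexIn F p :=
  ⟨fun _ _ h => h, hyperfocal_le F, fun P _ => Subgroup.map_subtype_le _⟩

theorem pPower_trans {F : FusionSystem S} {E : FusionSystem U} {D : FusionSystem T}
    (hi : E.HasPPowerIndexIn F p) (hi' : D.HasPPowerIndexIn E p) (hT : F.hyperfocalSubgroup p ≤ T) :
    D.HasPPowerIndexIn F p := by
  refine ⟨fun P => (hi'.1 P).trans (hi.1 P), hT, fun P hP => ?_⟩
  rw [Cfsg.pResidual, MonoidHom.map_closure, Subgroup.closure_le]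
  rintro _ ⟨a, ha, rfl⟩
  have h1 : (a : MulAut P) ∈ E.autGroup P :=
    hi.2.2 P (hP.trans (subsystem_le hi'.1)) ⟨a, Subgroup.subset_closure ha, rfl⟩
  refine hi'.2.2 P hP ⟨⟨a, h1⟩, Subgroup.subset_closure ?_, rfl⟩
  show (orderOf (⟨a, h1⟩ : E.autGroup P)).Coprime p
  rw [← Subgroup.orderOf_coe]
  show (orderOf (a : MulAut P)).Coprime p
  rwa [Subgroup.orderOf_coe]

theorem hyperfocal_sub_mono {F : FusionSystem S} {E : FusionSystem T} (h : E.IsSubsystemOf F) :
    E.hyperfocalSubgroup p ≤ F.hyperfocalSubgroup p := by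
  refine (Subgroup.closure_le _).2 ?_
  rintro _ ⟨P, a, x, hP, ha, rfl⟩
  have := Cfsg.Agent.PBasic.map_pResidual_le (p := p) (Subgroup.inclusion (autGroup_mono h P)) ⟨a, ha, rfl⟩
  exact Subgroup.subset_closure ⟨P, Subgroup.inclusion (autGroup_mono h P) a, x,
    hP.trans (subsystem_le h), this, rfl⟩

variable [Finite S]

/-- Saturated subsystems of `p`-power index exist over every subgroup containing the hyperfocal subgroup. -/
theorem exists_pPower {F : FusionSystem S} (hS : IsPGroup p S) (hF : F.IsSaturated p) (hTS : T ≤ S)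
    (hT : F.hyperfocalSubgroup p ≤ T) :
    ∃ E : FusionSystem T, E.IsSaturated p ∧ E.HasPPowerIndexIn F p ∧
      ((T.subgroupOf S).Normal → ∀ P ≤ T, ∀ φ ∈ F.Hom P,
        ∃ g ∈ S, ∃ φ₀ ∈ E.Hom P, ∀ x, φ x = g * φ₀ x * g⁻¹) := by
  induction hk : Nat.card S using Nat.strong_induction_on generalizing S with
  | _ k ih =>
  rcases eq_or_lt_of_le hTS with rfl | hlt
  · exact ⟨F, hF, pPower_self F, fun _ P _ φ hφ => ⟨1, Subgroup.one_mem _, φ, hφ, fun x => by simp⟩⟩
  haveI := finite_of_le hTS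
  obtain ⟨n, hn⟩ := IsPGroup.iff_card.1 hS
  obtain ⟨m, hm⟩ := IsPGroup.iff_card.1 (hS.to_le hTS)
  haveI := finite_of_le hTS
  have hcard : Nat.card T < Nat.card S := lt_of_le_of_ne (Subgroup.card_le_of_le hTS)
    fun he => hlt.ne (Subgroup.eq_of_le_of_card_ge hTS he.ge)
  have hmn : m < n := by
    rw [hn, hm] at hcard
    exact (Nat.pow_lt_pow_iff_right hp.out.one_lt).1 hcard
  obtain ⟨M, hMc, hTM⟩ := Sylow.exists_subgroup_card_pow_prime_le p (m := n - 1)
    (by rw [hn]; exact Nat.pow_dvd_pow p (Nat.sub_le n 1)) (T.subgroupOf S)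
    ((Nat.card_congr (Subgroup.subgroupOfEquivOfLe hTS).toEquiv).trans hm) (Nat.le_sub_one_of_lt hmn)
  have hMi : M.index = p := by
    have h := M.card_mul_index
    rw [hMc, hn, show n = n - 1 + 1 by omega, pow_succ] at h
    simp only [add_tsub_cancel_right] at h
    exact Nat.eq_of_mul_eq_mul_left (pow_pos hp.out.pos _) h
  haveI hMn : M.Normal := Subgroup.normal_of_index_eq_minFac_card (by
    rw [hMi, hn, Nat.pow_minFac (by omega), hp.out.minFac_eq])
  set T₁ := M.map S.subtype with hT₁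
  have hT₁S : T₁ ≤ S := Subgroup.map_subtype_le _
  have hTT₁ : T ≤ T₁ := fun x hx => ⟨⟨x, hTS hx⟩, hTM hx, rfl⟩
  have hM : T₁.subgroupOf S = M := Subgroup.comap_map_eq_self_of_injective S.subtype_injective M
  have hfoc : F.focalSubgroup ≤ T₁ := by
    rw [focal_eq hS hF]
    refine sup_le (hT.trans hTT₁) ?_
    rw [Subgroup.commutator_le]
    intro a ha b hb
    refine ⟨(⟨a, ha⟩ : S) * ⟨b, hb⟩ * (⟨a, ha⟩ : S)⁻¹ * (⟨b, hb⟩ : S)⁻¹, ?_, by rw [commutatorElement_def]; rfl⟩
    haveI : IsCyclic (S ⧸ M) := isCyclic_of_prime_card hMi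
    letI : CommGroup (S ⧸ M) := IsCyclic.commGroup
    refine (QuotientGroup.eq_one_iff (N := M) _).1 ?_
    show QuotientGroup.mk' M _ = 1
    rw [map_mul, map_mul, map_mul, map_inv, map_inv, mul_inv_cancel_comm, mul_inv_cancel]
  obtain ⟨E₁, hE₁, hi₁, hfr₁⟩ := exists_index_p hS hF hT₁S hfoc (by rw [hM]; exact hMi)
  haveI := finite_of_le hT₁S
  have hlt' : Nat.card T₁ < k := by
    rw [← hk, hn, hT₁, Subgroup.card_map_of_injective S.subtype_injective, hMc]
    exact Nat.pow_lt_pow_right hp.out.one_lt (by omega)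
  obtain ⟨E, hE, hi, hfr⟩ := ih _ hlt' (F := E₁) (hS.to_le hT₁S) hE₁ hTT₁
    ((hyperfocal_sub_mono hi₁.1).trans hT) rfl
  refine ⟨E, hE, pPower_trans hi₁ hi hT, fun hN P hP φ hφ => ?_⟩
  obtain ⟨g, hg, φ₁, hφ₁, he₁⟩ := hfr₁ P (hP.trans hTT₁) φ hφ
  have hN₁ : (T.subgroupOf T₁).Normal := ⟨fun x hx y => hN.conj_mem ⟨x, hT₁S x.2⟩ hx ⟨y, hT₁S y.2⟩⟩
  obtain ⟨s, hs, φ₀, hφ₀, he⟩ := hfr hN₁ P hP φ₁ hφ₁
  exact ⟨g * s, S.mul_mem hg (hT₁S hs), φ₀, hφ₀, fun x => by rw [he₁, he]; group⟩

omit [Finite S] in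
/-- An element of `T C_S(T)` moved by the product of two such maps stays in its coset. -/
theorem mem_center_of_fix {α β : MulAut ↥(T ⊔ centralizerIn S T)} {c : ↥(T ⊔ centralizerIn S T)}
    (hc : (c : Ω) ∈ centralizerIn S T) (hTS : T ≤ S)
    (hα : ∀ d : ↥(T ⊔ centralizerIn S T), (d : Ω) ∈ centralizerIn S T →
      (d : Ω)⁻¹ * (α d : Ω) ∈ T ⊓ Subgroup.centralizer (T : Set Ω))
    (hβ : ∀ d : ↥(T ⊔ centralizerIn S T), (d : Ω) ∈ centralizerIn S T →
      (d : Ω)⁻¹ * (β d : Ω) ∈ T ⊓ Subgroup.centralizer (T : Set Ω)) :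
    (c : Ω)⁻¹ * ((α * β) c : Ω) ∈ T ⊓ Subgroup.centralizer (T : Set Ω) := by
  have h1 := hβ c hc
  have hd : (β c : Ω) ∈ centralizerIn S T := by
    rw [← mul_inv_cancel_left (c : Ω) (β c : Ω)]
    exact (centralizerIn S T).mul_mem hc ⟨hTS h1.1, h1.2⟩
  have h2 := Subgroup.mul_mem _ h1 (hα (β c) hd)
  rw [MulAut.mul_apply]
  simpa [mul_assoc] using h2

/-- The subsystem of `p`-power index over a normal subgroup is normal. -/
theorem pPower_isNormalIn {F : FusionSystem S} (hS : IsPGroup p S) (hF : F.IsSaturated p) (hTS : T ≤ S)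
    (hTn : (T.subgroupOf S).Normal) {E : FusionSystem T} (hE : E.IsSaturated p)
    (hEi : E.HasPPowerIndexIn F p) : E.IsNormalIn F p := by
  haveI := finite_of_le hTS
  have hT := hS.to_le hTS
  obtain ⟨E', hE', hi', hfr⟩ := exists_pPower hS hF hTS hEi.2.1
  obtain rfl : E = E' := pPower_unique hT hE' hi' hE hEi
  replace hfr := hfr hTn
  have hconj : ∀ g ∈ S, ∀ x ∈ T, g * x * g⁻¹ ∈ T := fun g hg x hx => hTn.conj_mem ⟨x, hTS hx⟩ hx ⟨g, hg⟩
  have hcl : F.StronglyClosed T := ⟨hTS, fun P hP φ hφ x => by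
    obtain ⟨g, hg, φ₀, hφ₀, he⟩ := hfr P hP φ hφ
    rw [he]
    exact hconj g hg _ (hom_apply_mem E hφ₀ x)⟩
  have hnorm : ∀ g ∈ S, g ∈ Subgroup.normalizer (T : Set Ω) := fun g hg =>
    mem_normalizer_of_conj_mem g (fun y hy => hconj g hg y hy) fun y hy => by
      simpa using hconj g⁻¹ (S.inv_mem hg) y hy
  have hAI : AutInvariant F E := by
    intro P hP φ hφ α hα
    have hle : E ≤ twistSys E E α := by
      refine le_of_residual hT hE hEi.1 fun Q hQ => ?_
      rw [Cfsg.pResidual, MonoidHom.map_closure, Subgroup.closure_le]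
      rintro _ ⟨a, ha, rfl⟩
      have hαm := (mem_autGroup_iff F hTS α).1 hα
      have hαQ := restrict_mem F hαm hQ
      have hr : ((T.subtype.comp α.toMonoidHom).comp (Subgroup.inclusion hQ)).range =
          (Q.subgroupOf T).map (T.subtype.comp α.toMonoidHom) := range_restrict _ hQ
      set e := mapEquiv F hαQ hr with he
      have hem := hom_congr F hαQ (ψ := Subgroup.subtype _ |>.comp e.toMonoidHom) fun _ => rfl
      have h1 := congr_mem_autGroup F e hem (mapEquiv_symm_mem F hαQ hr) a.2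
      have hAT : (Q.subgroupOf T).map (T.subtype.comp α.toMonoidHom) ≤ T := by
        rintro _ ⟨x, -, rfl⟩
        exact (α x).2
      have h2 : MulAut.congr e (a : MulAut Q) ∈ E.autGroup _ := hEi.2.2 _ hAT
        ⟨⟨_, h1⟩, Subgroup.subset_closure (by
          show (orderOf (⟨_, h1⟩ : F.autGroup _)).Coprime p
          rw [← Subgroup.orderOf_coe]
          show (orderOf (MulAut.congr e (a : MulAut Q))).Coprime p
          rw [MulEquiv.orderOf_eq, Subgroup.orderOf_coe]
          exact ha), rfl⟩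
      refine (mem_autGroup_iff _ hQ _).2 ⟨(mem_autGroup_iff E hQ _).1
        (hEi.2.2 Q hQ ⟨a, Subgroup.subset_closure ha, rfl⟩), _, (mem_autGroup_iff E hAT _).1 h2,
        fun x hx hax hαx => ?_⟩
      show ((e ((a : MulAut Q) (e.symm ⟨_, hαx⟩)) : _) : Ω) = _
      rw [show e.symm ⟨_, hαx⟩ = x from e.injective ((e.apply_symm_apply _).trans (Subtype.ext rfl))]
      rfl
    obtain ⟨-, χ, hχ, hχe⟩ := hle P hφ
    exact ⟨χ, hχ, fun x hφx hαx => hχe x _ hφx hαx⟩
  refine ⟨⟨hE, hF, hEi.1, hcl, hAI, fun P hP φ hφ => ?_⟩, ?_⟩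
  · obtain ⟨g, hg, φ₀, hφ₀, he⟩ := hfr P hP φ hφ
    obtain ⟨c, hc, hce⟩ := exists_conjAut (P := T) hg (hnorm g hg)
    exact ⟨c, autInducedBy_le_autGroup F hTS hc, φ₀, hφ₀, fun x hx => by rw [he, hce]⟩
  -- the extension condition
  set C := centralizerIn S T with hC
  set N := T ⊔ C with hN
  have hCS : C ≤ S := inf_le_left
  have hNS : N ≤ S := sup_le hTS hCS
  haveI := finite_of_le hNS
  have hTfn : F.IsFullyNormalized T := ⟨hTS, fun Q hQ => by
    obtain ⟨θ, hθ, rfl⟩ := hQ
    have := finite_of_le (normalizerIn_le S T)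
    exact Subgroup.card_le_of_le fun x hx => ⟨hx.1, hnorm x hx.1⟩⟩
  obtain ⟨R, hR⟩ := (fullyNormalized_imp hT hE (fullyNormalized_top E)).2.2
  let Good : MulAut T → Prop := fun α => ∃ β ∈ F.autGroup N,
    (∀ x : T, ((β (Subgroup.inclusion le_sup_left x) : N) : Ω) = ((α x : T) : Ω)) ∧
    ∀ c : N, (c : Ω) ∈ C → (c : Ω)⁻¹ * ((β c : N) : Ω) ∈ T ⊓ Subgroup.centralizer (T : Set Ω)
  have hmul : ∀ α α', Good α → Good α' → Good (α * α') := by
    rintro α α' ⟨β, hβ, hβe, hβc⟩ ⟨β', hβ', hβe', hβc'⟩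
    refine ⟨β * β', Subgroup.mul_mem _ hβ hβ', fun x => ?_, fun c hc => mem_center_of_fix hc hTS hβc hβc'⟩
    rw [MulAut.mul_apply, show β' (Subgroup.inclusion le_sup_left x) = Subgroup.inclusion le_sup_left (α' x)
      from Subtype.ext (hβe' x), hβe]
    rfl
  have hone : Good 1 := ⟨1, Subgroup.one_mem _, fun _ => rfl, fun c _ => by simp⟩
  have hsub : ∀ {K : Subgroup (E.autGroup T)}, (∀ a ∈ K, Good (a : MulAut T)) →
      ∀ {L : Set (E.autGroup T)}, (∀ a ∈ L, Good (a : MulAut T)) →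
      ∀ a ∈ Subgroup.closure L, ∀ c ∈ K, Good ((c * a : E.autGroup T) : MulAut T) := by
    intro K hK L hL a ha c hc
    have : Good (a : MulAut T) := by
      rw [← Subgroup.mem_toSubmonoid, Subgroup.closure_toSubmonoid_of_finite] at ha
      induction ha using Submonoid.closure_induction with
      | mem y hy => exact hL y hy
      | one => exact hone
      | mul y z _ _ hy hz => exact hmul _ _ hy hz
    exact hmul _ _ (hK c hc) this
  intro α hα
  haveI := Cfsg.Agent.PBasic.pResidual_normal_inst p (E.autGroup T)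
  have hsup : (⟨α, hα⟩ : E.autGroup T) ∈ (R : Subgroup (E.autGroup T)) ⊔ pResidual p (E.autGroup T) := by
    rw [Cfsg.Agent.PBasic.sylow_sup_pResidual]; exact Subgroup.mem_top _
  rw [← SetLike.mem_coe, Subgroup.mul_normal] at hsup
  obtain ⟨c, hc, r, hr, hcr⟩ := hsup
  show Good ((⟨α, hα⟩ : E.autGroup T) : MulAut T)
  rw [← hcr]
  refine hsub (fun a ha => ?_) (fun a ha => ?_) r hr c hc
  · -- inner automorphisms
    rw [hR] at ha
    obtain ⟨g, hg, hge⟩ := (mem_autInducedBy_iff (a : MulAut T)).1 ha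
    obtain ⟨β, hβ, hβe⟩ := exists_conjAut (P := N) (hTS hg) (Subgroup.le_normalizer (le_sup_left (b := C) hg))
    refine ⟨β, autInducedBy_le_autGroup F hNS hβ, fun x => (hβe _).trans (hge x).symm, fun c hc => ?_⟩
    rw [hβe, Subgroup.mem_centralizer_iff.1 hc.2 g hg]
    simp
  · -- automorphisms of order prime to `p`
    have haF : (a : MulAut T) ∈ F.autGroup T := autGroup_mono hEi.1 T a.2
    have ham := (mem_autGroup_iff F hTS _).1 haF
    obtain ⟨ψ, hψ, hψe⟩ := (fullyNormalized_receptive hS hF hTfn).2 T _ ham (equivHom_range (a : MulAut T))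
    have hle : N ≤ extender S T (T.subtype.comp (a : MulAut T).toMonoidHom) :=
      centralizerIn_sup_le_extender F ham
    set ν := ψ.comp (Subgroup.inclusion hle) with hν
    have hνm : ν ∈ F.Hom N := restrict_mem F hψ hle
    have hνT : ∀ x : T, ν (Subgroup.inclusion le_sup_left x) = ((a : MulAut T) x : Ω) := fun x => hψe x x.2 _
    have hνr : ν.range = N := by
      refine Subgroup.eq_of_le_of_card_ge ?_ (isConj_card ⟨ν, hνm, rfl⟩).le
      rw [MonoidHom.range_eq_map, Subgroup.map_le_iff_le_comap]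
      rintro ⟨x, hx⟩ -
      show ν ⟨x, hx⟩ ∈ N
      suffices h : N ≤ (N.comap ν).map N.subtype by
        obtain ⟨y, hy, hyx⟩ := h hx
        rwa [show y = ⟨x, hx⟩ from Subtype.ext hyx] at hy
      refine sup_le (fun t ht => ⟨⟨t, le_sup_left (b := C) ht⟩, ?_, rfl⟩) fun z hz =>
        ⟨⟨z, le_sup_right (a := T) hz⟩, ?_, rfl⟩
      · exact le_sup_left (b := C) ((hνT ⟨t, ht⟩).symm ▸ ((a : MulAut T) ⟨t, ht⟩).2)
      · refine le_sup_right (a := T) (⟨hom_apply_mem F hνm _, Subgroup.mem_centralizer_iff.2 fun t ht => ?_⟩ :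
          _ ∈ centralizerIn S T)
        obtain ⟨u, hu⟩ := (a : MulAut T).surjective ⟨t, ht⟩
        rw [show t = ν (Subgroup.inclusion le_sup_left u) from by rw [hνT, hu], ← map_mul, ← map_mul]
        exact congrArg ν (Subtype.ext (Subgroup.mem_centralizer_iff.1 hz.2 u u.2))
    obtain ⟨γ, hγ, hγe⟩ := exists_autGroup_of_range F hνm hνr
    -- take the part of order prime to `p`
    obtain ⟨i, m, hpm, hord⟩ := Nat.exists_eq_pow_mul_and_not_dvd (orderOf_pos γ).ne' p hp.out.ne_one
    obtain ⟨j, hj0, hj1⟩ := Nat.chineseRemainder ((hp.out.coprime_iff_not_dvd.2 hpm).pow_left i) 0 1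
    have hpow : ∀ (l : ℕ) (x : T), (((γ ^ l) (Subgroup.inclusion le_sup_left x) : N) : Ω) =
        ((((a : MulAut T) ^ l) x : T) : Ω) := by
      intro l
      induction l with
      | zero => intro x; rfl
      | succ l ih =>
        intro x
        rw [pow_succ, pow_succ, MulAut.mul_apply, MulAut.mul_apply,
          show γ (Subgroup.inclusion le_sup_left x) = Subgroup.inclusion le_sup_left ((a : MulAut T) x) from
            Subtype.ext ((hγe _).trans (hνT x)), ih]
    have hγm : orderOf (a : MulAut T) ∣ m := by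
      have h1 : (a : MulAut T) ^ orderOf γ = 1 := MulEquiv.ext fun x => Subtype.ext <| by
        rw [← hpow, pow_orderOf_eq_one]; rfl
      refine Nat.Coprime.dvd_of_dvd_mul_left (Nat.Coprime.pow_right i ?_) (hord ▸ orderOf_dvd_of_pow_eq_one h1)
      rw [Subgroup.orderOf_coe]
      exact ha
    have haj : (a : MulAut T) ^ j = a := by
      conv_rhs => rw [← pow_one (a : MulAut T)]
      exact pow_eq_pow_of_modEq (hj1.of_dvd hγm) (pow_orderOf_eq_one _)
    have hcop : (orderOf (γ ^ j)).Coprime p := by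
      refine Nat.Coprime.coprime_dvd_left (k := m) (orderOf_dvd_of_pow_eq_one ?_)
        (hp.out.coprime_iff_not_dvd.2 hpm).symm
      rw [← pow_mul]
      refine (pow_eq_pow_of_modEq ?_ (pow_orderOf_eq_one γ)).trans (pow_zero γ)
      rw [hord]
      simpa using hj0.mul_right' m
    have hγj : γ ^ j ∈ F.autGroup N := Subgroup.pow_mem _ hγ j
    refine ⟨γ ^ j, hγj, fun x => by rw [hpow, haj], fun c hc => ⟨hEi.2.1 ?_, ?_⟩⟩
    · refine hyperfocal_mem hNS (a := ⟨γ ^ j, hγj⟩) (Subgroup.subset_closure ?_) c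
      show (orderOf (⟨γ ^ j, hγj⟩ : F.autGroup N)).Coprime p
      rwa [← Subgroup.orderOf_coe]
    · refine Subgroup.mul_mem _ (Subgroup.inv_mem _ hc.2) (Subgroup.mem_centralizer_iff.2 fun t ht => ?_)
      obtain ⟨u, hu⟩ := ((γ ^ j : MulAut N)).surjective (Subgroup.inclusion le_sup_left (⟨t, ht⟩ : T))
      obtain ⟨v, hv⟩ := ((a : MulAut T) ^ j).surjective ⟨t, ht⟩
      have huv : u = Subgroup.inclusion le_sup_left v :=
        (γ ^ j : MulAut N).injective (Subtype.ext (by rw [hu, hpow, hv]; rfl))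
      have h : u * c = c * u := Subtype.ext (by
        rw [huv]
        exact Subgroup.mem_centralizer_iff.1 hc.2 v v.2)
      have h2 := congrArg (fun z : N => (((γ ^ j) z : N) : Ω)) h
      simp only [map_mul, Subgroup.coe_mul, hu] at h2
      exact h2

/-- A saturated subsystem lies in any other one of `p`-power index containing the hyperfocal subgroup's carrier. -/
theorem pPower_le [Finite T] (hT : IsPGroup p T) {F : FusionSystem S} {E : FusionSystem T} {F₀ : FusionSystem U}
    (hE : E.IsSaturated p) (hEF : E.IsSubsystemOf F) (hTU : T ≤ U) (hidx : F₀.HasPPowerIndexIn F p) :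
    E.IsSubsystemOf F₀ := by
  let X : FusionSystem T :=
    { Hom := fun P => {φ | φ ∈ E.Hom P ∧ φ ∈ F₀.Hom P}
      le_of_mem := fun h => E.le_of_mem h.1
      injective_of_mem := fun h => E.injective_of_mem h.1
      conj_mem := fun {P g} hP hg => ⟨E.conj_mem hP hg, F₀.conj_mem (hP.trans hTU) (hTU hg)⟩
      comp_mem := fun {P Q φ ψ} h1 h2 h => ⟨E.comp_mem h1.1 h2.1 h, F₀.comp_mem h1.2 h2.2 h⟩
      inv_mem := fun {P φ} h => by
        obtain ⟨θ, hθ, he⟩ := E.inv_mem h.1
        obtain ⟨θ', hθ', he'⟩ := F₀.inv_mem h.2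
        refine ⟨θ, ⟨hθ, hom_congr F₀ hθ' ?_⟩, he⟩
        rintro ⟨_, x, rfl⟩
        exact (he x).trans (he' x).symm }
  have h : E ≤ X := le_of_residual hT hE (fun _ _ h => h) fun P hP => by
    rw [Cfsg.pResidual, MonoidHom.map_closure, Subgroup.closure_le]
    rintro _ ⟨a, ha, rfl⟩
    have h0 : (a : MulAut P) ∈ F₀.autGroup P := hidx.2.2 P (hP.trans hTU)
      ⟨Subgroup.inclusion (autGroup_mono hEF P) a, Cfsg.Agent.PBasic.map_pResidual_le (p := p) _
        ⟨a, Subgroup.subset_closure ha, rfl⟩, rfl⟩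
    exact (mem_autGroup_iff X hP _).2 ⟨(mem_autGroup_iff E hP _).1 a.2,
      (mem_autGroup_iff F₀ (hP.trans hTU) _).1 h0⟩
  exact fun P φ hφ => (h P hφ).2

/-- A saturated subsystem of `p`-power index over a strongly closed carrier has the same hyperfocal subgroup. -/
theorem hyperfocal_eq_of_pPower {F : FusionSystem S} (hS : IsPGroup p S) {E : FusionSystem T}
    (hT : F.StronglyClosed T) (hEi : E.HasPPowerIndexIn F p) :
    E.hyperfocalSubgroup p = F.hyperfocalSubgroup p := by
  refine le_antisymm (hyperfocal_sub_mono hEi.1) ((Subgroup.closure_le _).2 ?_)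
  rintro _ ⟨P, a, x, hP, ha, rfl⟩
  haveI := finite_of_le hT.1
  haveI := finite_of_le hP
  set H := E.hyperfocalSubgroup p
  have hHT : H ≤ T := hyperfocal_le E
  -- on the intersection with the carrier
  have hQ : ∀ b : F.autGroup P, (orderOf b).Coprime p → ∀ y : P, (y : Ω) ∈ T →
      (y : Ω)⁻¹ * ((b : MulAut P) y : Ω) ∈ H := by
    intro b hb y hy
    have hQT : P ⊓ T ≤ T := inf_le_right
    have hbm := (mem_autGroup_iff F hP _).1 b.2
    have hres := restrict_mem F hbm (inf_le_left : P ⊓ T ≤ P)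
    have hr : ((P.subtype.comp (b : MulAut P).toMonoidHom).comp
        (Subgroup.inclusion (inf_le_left : P ⊓ T ≤ P))).range = P ⊓ T := by
      haveI := finite_of_le (hQT.trans hT.1)
      refine Subgroup.eq_of_le_of_card_ge ?_ (isConj_card ⟨_, hres, rfl⟩).le
      rintro _ ⟨z, rfl⟩
      exact ⟨((b : MulAut P) (Subgroup.inclusion inf_le_left z)).2, hT.2 _ hQT _ hres z⟩
    obtain ⟨c, hc, hce⟩ := exists_autGroup_of_range F hres hr
    have hcb : ∀ (l : ℕ) (z : ↥(P ⊓ T)), (((c ^ l) z : ↥(P ⊓ T)) : Ω) =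
        ((((b : MulAut P)) ^ l) (Subgroup.inclusion inf_le_left z) : Ω) := by
      intro l
      induction l with
      | zero => intro z; rfl
      | succ l ih =>
        intro z
        rw [pow_succ, pow_succ, MulAut.mul_apply, MulAut.mul_apply, ih]
        exact congrArg (fun w : P => ((((b : MulAut P)) ^ l) w : Ω)) (Subtype.ext (hce z))
    have hco : (orderOf c).Coprime p := by
      refine Nat.Coprime.coprime_dvd_left (orderOf_dvd_of_pow_eq_one ?_) hb
      refine MulEquiv.ext fun z => Subtype.ext ?_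
      rw [hcb, ← Subgroup.coe_pow, pow_orderOf_eq_one]
      rfl
    have hcE : c ∈ E.autGroup (P ⊓ T) := hEi.2.2 _ hQT ⟨⟨c, hc⟩, Subgroup.subset_closure (by
      show (orderOf (⟨c, hc⟩ : F.autGroup _)).Coprime p
      rwa [← Subgroup.orderOf_coe]), rfl⟩
    have h := hyperfocal_mem hQT (a := ⟨c, hcE⟩) (Subgroup.subset_closure (by
      show (orderOf (⟨c, hcE⟩ : E.autGroup _)).Coprime p
      rwa [← Subgroup.orderOf_coe])) (⟨y, y.2, hy⟩ : ↥(P ⊓ T))
    rw [hce] at h
    exact h
  -- generators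
  have hgen : ∀ b : F.autGroup P, (orderOf b).Coprime p → ∀ y : P, (y : Ω)⁻¹ * ((b : MulAut P) y : Ω) ∈ H := by
    intro b hb y
    obtain ⟨t, ht⟩ : ∃ t : P, (b : MulAut P) y = y * t := ⟨_, (mul_inv_cancel_left _ _).symm⟩
    have htT : (t : Ω) ∈ T := by
      have h := hEi.2.1 (hyperfocal_mem hP (Subgroup.subset_closure hb : b ∈ Cfsg.pResidual p _) y)
      rwa [ht, Subgroup.coe_mul, inv_mul_cancel_left] at h
    have key : ∀ l : ℕ, ((t : Ω) ^ l)⁻¹ * ((y : Ω)⁻¹ * (((b : MulAut P) ^ l) y : Ω)) ∈ H := by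
      intro l
      induction l with
      | zero => simp
      | succ l ih =>
        have h1 := hQ (b ^ l) (Nat.Coprime.coprime_dvd_left (orderOf_pow_dvd l) hb) t htT
        rw [Subgroup.coe_pow] at h1
        have h2 := hyperfocal_conj_mem E (T.inv_mem htT) ih
        have h3 := H.mul_mem h2 h1
        convert h3 using 1
        rw [pow_succ (b : MulAut P), MulAut.mul_apply, ht, map_mul,
          Subgroup.coe_mul, pow_succ]
        group
    have hn : (t : Ω) ^ orderOf b ∈ H := by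
      have h := key (orderOf b)
      rw [show (b : MulAut P) ^ orderOf b = 1 by rw [← Subgroup.coe_pow, pow_orderOf_eq_one]; rfl] at h
      simpa using h
    obtain ⟨e, he⟩ := hS ⟨t, hP t.2⟩
    have he' : (t : Ω) ^ p ^ e = 1 := congrArg Subtype.val he
    have hd : orderOf (t : Ω) ∣ p ^ e := orderOf_dvd_of_pow_eq_one he'
    obtain ⟨l, hl⟩ := exists_pow_eq_self_of_coprime (x := (t : Ω))
      (Nat.Coprime.coprime_dvd_right hd (hb.pow_right e))
    rw [ht, Subgroup.coe_mul, inv_mul_cancel_left]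
    rw [← hl]
    exact H.pow_mem hn l
  unfold Cfsg.pResidual at ha
  rw [← Subgroup.mem_toSubmonoid, Subgroup.closure_toSubmonoid_of_finite] at ha
  induction ha using Submonoid.closure_induction generalizing x with
  | mem b hb => exact hgen b hb x
  | one => simp
  | mul b c _ _ hb hc =>
    have := H.mul_mem (hc x) (hb ((c : MulAut P) x))
    simpa [mul_assoc] using this

/-! ### The residual limit -/

theorem limit_prepend {F : FusionSystem S} {D D' : FusionSystem T} {V : Subgroup Ω} {L : FusionSystem V}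
    (hT : F.hyperfocalSubgroup p = T) (hD : D.IsSaturated p) (hDi : D.HasPPowerIndexIn F p)
    (hD' : D.IsPPrimeResidual p D') (hL : L.IsResidualLimitOf D' p) : L.IsResidualLimitOf F p := by
  subst hT
  exact .step F p D D' ⟨hD, hDi⟩ hD' hL

omit hp in
theorem pPrimeResidual_unique {F : FusionSystem S} {D D' : FusionSystem S} (h : F.IsPPrimeResidual p D)
    (h' : F.IsPPrimeResidual p D') : D = D' :=
  le_antisymm_fusion (h.2.2 D' h'.1 h'.2.1) (h'.2.2 D h.1 h.2.1)

theorem stable_step {F : FusionSystem S} (hS : IsPGroup p S) {D D' : FusionSystem T}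
    (hres : F.IsPPrimeResidual p F) (hT : F.hyperfocalSubgroup p = T) (hTS : T = S) (hD : D.IsSaturated p)
    (hDi : D.HasPPowerIndexIn F p) (hD' : D.IsPPrimeResidual p D') :
    D'.hyperfocalSubgroup p = T ∧ D'.IsPPrimeResidual p D' ∧ ∀ P, D'.Hom P = F.Hom P := by
  subst hTS
  obtain rfl : D = F := pPower_unique hS hres.1 (pPower_self F) hD hDi
  obtain rfl : D' = D := pPrimeResidual_unique hD' hres
  exact ⟨hT, hres, fun _ => rfl⟩

omit hp [Finite S] in
/-- The residual limit of a stable system is the system. -/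
theorem limit_of_stable {V : Subgroup Ω} {L : FusionSystem V} {F : FusionSystem S} (hL : L.IsResidualLimitOf F p) :
    Fact p.Prime → Finite S → IsPGroup p S → F.hyperfocalSubgroup p = S → F.IsPPrimeResidual p F →
    ∀ P, L.Hom P = F.Hom P := by
  induction hL with
  | stable F p _ _ => exact fun _ _ _ _ _ _ => rfl
  | @step S L F p D D' hD hD' _ ih =>
    intro hp hfin hS h₁ h₂
    haveI := hp
    haveI := hfin
    obtain ⟨h3, h4, h5⟩ := stable_step hS h₂ rfl h₁ hD.1 hD.2 hD'
    exact fun P => (ih hp (finite_of_le (hyperfocal_le F)) (hS.to_le (hyperfocal_le F)) h3 h4 P).trans (h5 P)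

omit hp [Finite S] in
/-- The residual limit is unique. -/
theorem limit_unique {U V : Subgroup Ω} {L : FusionSystem U} {L' : FusionSystem V} {F : FusionSystem S}
    (hL : L.IsResidualLimitOf F p) :
    Fact p.Prime → Finite S → IsPGroup p S → L'.IsResidualLimitOf F p → ∀ P, L.Hom P = L'.Hom P := by
  induction hL with
  | stable F p h₁ h₂ => exact fun hp hfin hS hL' P => (limit_of_stable hL' hp hfin hS h₁ h₂ P).symm
  | @step S L F p D D' hD hD' hrest ih =>
    intro hp hfin hS hL'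
    haveI := hp
    haveI := hfin
    cases hL' with
    | stable _ _ h₁ h₂ => exact limit_of_stable (.step _ p D D' hD hD' hrest) hp hfin hS h₁ h₂
    | step _ _ D₂ D₂' hD₂ hD₂' hrest₂ =>
      haveI : Finite ↥(F.hyperfocalSubgroup p) := finite_of_le (hyperfocal_le F)
      have hH := hS.to_le (hyperfocal_le (p := p) F)
      obtain rfl : D₂ = D := pPower_unique hH hD.1 hD.2 hD₂.1 hD₂.2
      obtain rfl : D₂' = D' := pPrimeResidual_unique hD₂' hD'
      exact ih hp inferInstance hH hrest₂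

/-- The residual limit of a subsystem of `p`-power index with the same hyperfocal subgroup is one of the system. -/
theorem limit_of_pPower {V : Subgroup Ω} {L : FusionSystem V} {F : FusionSystem S} {E : FusionSystem T}
    (hL : L.IsResidualLimitOf E p) (hE : E.IsSaturated p) (hEi : E.HasPPowerIndexIn F p)
    (heq : E.hyperfocalSubgroup p = F.hyperfocalSubgroup p) : L.IsResidualLimitOf F p := by
  cases hL with
  | stable _ _ h₁ h₂ => exact limit_prepend (heq.symm.trans h₁) hE hEi h₂ (.stable E p h₁ h₂)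
  | step _ _ D D' hD hD' hrest =>
    exact limit_prepend heq.symm hD.1 (pPower_trans hEi hD.2 heq.ge) hD' hrest

end Cfsg.Agent.FusionSys
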