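import Cfsg.Agent.Lib.Fusion.CentralizerClosed
import Cfsg.Agent.Lib.Fusion.CentralizerNormal
import Cfsg.Agent.Lib.Fusion.NormalTrivialMod
import Cfsg.Agent.Lib.Fusion.PPowerExist

/-!
# The centralizer of a normal subsystem as a normal subsystem
-/

set_option autoImplicit false
set_option linter.unusedSectionVars false
set_option linter.style.haveILetI false

namespace Cfsg.Agent.FusionSys.CentSub

open Cfsg Cfsg.FusionSystem Cfsg.Agent.FusionSys Cfsg.Agent.FusionSys.FocCent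
  Cfsg.Agent.FusionSys.LayerCore

variable {Ω : Type*} [Group Ω] {S T : Subgroup Ω} [Finite S] {p : ℕ} [hp : Fact p.Prime]

omit hp [Finite S] in
theorem inf_sup_le {F : FusionSystem S} {Y : Subgroup Ω} (hY : F.StronglyClosed Y) (hT : F.StronglyClosed T)
    {Q R : Subgroup Ω} {φ : Q →* Ω} {ψ : ↥(Q ⊓ Y ⊔ T) →* Ω} (hφ : φ ∈ F.Hom Q)
    (hψ : ψ ∈ F.Hom (Q ⊓ Y ⊔ T))
    (h1 : ∀ (x : Ω) (hx : x ∈ Q ⊓ Y), ψ ⟨x, Subgroup.mem_sup_left hx⟩ = φ ⟨x, hx.1⟩)
    (hR : ∀ x, φ x ∈ R) (u : ↥(Q ⊓ Y ⊔ T)) : ψ u ∈ R ⊓ Y ⊔ T := by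
  refine apply_mem_of_sup ψ (fun v => Subgroup.mem_sup_left ?_)
    (fun v => Subgroup.mem_sup_right (stronglyClosed_apply_mem hT hψ _ v.2)) u
  rw [show Subgroup.inclusion le_sup_left v = ⟨(v : Ω), Subgroup.mem_sup_left v.2⟩ from rfl, h1 v v.2]
  exact ⟨hR _, stronglyClosed_apply_mem hY hφ _ v.2.2⟩

/-- The maps whose restriction to `Y` extends over `T`. -/
def extSys (F : FusionSystem S) {Y : Subgroup Ω} (hY : F.StronglyClosed Y) (hT : F.StronglyClosed T) :
    FusionSystem S where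
  Hom Q := {φ | φ ∈ F.Hom Q ∧ ∃ ψ ∈ F.Hom (Q ⊓ Y ⊔ T),
    ∀ (x : Ω) (hx : x ∈ Q ⊓ Y), ψ ⟨x, Subgroup.mem_sup_left hx⟩ = φ ⟨x, hx.1⟩}
  le_of_mem h := F.le_of_mem h.1
  injective_of_mem h := F.injective_of_mem h.1
  conj_mem hP hg := ⟨F.conj_mem hP hg, conjHom _ _,
    F.conj_mem (sup_le (inf_le_left.trans hP) hT.1) hg, fun x hx => rfl⟩
  comp_mem := by
    rintro P R φ θ ⟨hφ, φ', hφ', e1⟩ ⟨hθ, θ', hθ', e2⟩ h
    refine ⟨F.comp_mem hφ hθ h, θ'.comp (φ'.codRestrict _ (inf_sup_le hY hT hφ hφ' e1 h)),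
      F.comp_mem hφ' hθ' _, fun x hx => ?_⟩
    have hx' : φ ⟨x, hx.1⟩ ∈ R ⊓ Y := ⟨h _, stronglyClosed_apply_mem hY hφ _ hx.2⟩
    exact (apply_congr θ' (e1 x hx) _ (Subgroup.mem_sup_left hx')).trans (e2 _ hx')
  inv_mem := by
    rintro P φ ⟨hφ, φ', hφ', e1⟩
    obtain ⟨θ, hθ, hθe⟩ := F.inv_mem hφ
    obtain ⟨χ, hχ, -, hχ1, -⟩ := exists_inv F hφ'
    have hpre : ∀ y ∈ φ.range ⊓ Y, ∃ (x : Ω) (hx : x ∈ P ⊓ Y), φ ⟨x, hx.1⟩ = y := by
      rintro _ ⟨⟨x, rfl⟩, hy⟩
      obtain ⟨φi, hφi, -, hφi1, -⟩ := exists_inv F hφ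
      have h2 := stronglyClosed_apply_mem hY hφi ⟨φ x, ⟨x, rfl⟩⟩ hy
      rw [hφi1 x ⟨x, rfl⟩] at h2
      exact ⟨x, ⟨x.2, h2⟩, rfl⟩
    have hle : φ.range ⊓ Y ⊔ T ≤ φ'.range := by
      refine sup_le (fun y hy => ?_) fun t ht => ?_
      · obtain ⟨x, hx, rfl⟩ := hpre y hy
        exact ⟨_, e1 x hx⟩
      · obtain ⟨x, hx, hxt⟩ := exists_preimage_stronglyClosed hT hφ' le_sup_right ht
        exact ⟨⟨x, _⟩, hxt⟩
    refine ⟨θ, ⟨hθ, χ.comp (Subgroup.inclusion hle), restrict_mem F hχ hle, fun y hy => ?_⟩, hθe⟩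
    obtain ⟨x, hx, rfl⟩ := hpre y hy
    refine Eq.trans (apply_congr χ (e1 x hx).symm _ ⟨_, rfl⟩) ((hχ1 _ _).trans ?_)
    exact (hθe ⟨x, hx.1⟩).symm

/-- Fusion inside `C_S(E)` is realized by maps extending over `T`. -/
theorem exists_ext (hS : IsPGroup p S) {F : FusionSystem S} (hF : F.IsSaturated p)
    {E : FusionSystem T} (hE : E.IsNormalIn F p) {P : Subgroup Ω} (hP : P ≤ goodSub F E) {φ : P →* Ω}
    (hφ : φ ∈ F.Hom P) :
    ∃ ψ ∈ F.Hom (P ⊔ T), ∀ x : P, ψ (Subgroup.inclusion le_sup_left x) = φ x := by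
  have hT := hE.1.2.2.2.1
  have hY := stronglyClosed_goodSub hS hF hE
  have key : F ≤ extSys F hY hT := by
    refine le_of_good hS hF hE (fun Q hTQ hQS a ha => (equivHom_autGroup _ hQS).2
      ⟨(equivHom_autGroup F hQS).1 ha, (equivHom a).comp (Subgroup.inclusion (sup_le inf_le_left hTQ)),
        restrict_mem F ((equivHom_autGroup F hQS).1 ha) _, fun x hx => rfl⟩)
      fun Q hQS a ha hfix => (equivHom_autGroup _ hQS).2 ⟨(equivHom_autGroup F hQS).1 ha, _,
        subtype_mem F (sup_le (inf_le_left.trans hQS) hT.1), fun x hx => ?_⟩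
    exact (congrArg Subtype.val (hfix ⟨x, hx.1⟩ hx.2)).symm
  obtain ⟨-, ψ, hψ, hψe⟩ := key P hφ
  have hle : P ⊔ T ≤ P ⊓ goodSub F E ⊔ T := sup_le_sup_right (le_inf le_rfl hP) T
  exact ⟨ψ.comp (Subgroup.inclusion hle), restrict_mem F hψ hle, fun x => hψe x ⟨x.2, hP x.2⟩⟩

/-- The maps of `D` whose conjugates under `a` lie in `D`. -/
noncomputable def conjSys {Y : Subgroup Ω} [Finite Y] (D : FusionSystem Y) (a : MulAut Y) : FusionSystem Y where
  Hom P := {φ | φ ∈ D.Hom P ∧ ∀ hP : P ≤ Y,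
    ∃ χ ∈ D.Hom ((P.subgroupOf Y).map (Y.subtype.comp a.toMonoidHom)),
      ∀ (x : P) (hφx : φ x ∈ Y)
        (hax : ((a ⟨x, hP x.2⟩ : Y) : Ω) ∈ (P.subgroupOf Y).map (Y.subtype.comp a.toMonoidHom)),
        χ ⟨(a ⟨x, hP x.2⟩ : Y), hax⟩ = ((a ⟨φ x, hφx⟩ : Y) : Ω)}
  le_of_mem h := D.le_of_mem h.1
  injective_of_mem h := D.injective_of_mem h.1
  conj_mem {P g} hP hg := ⟨D.conj_mem hP hg, fun hP' =>
    ⟨conjHom _ ((a ⟨g, hg⟩ : Y) : Ω), D.conj_mem (by rintro _ ⟨y, -, rfl⟩; exact (a y).2) (a _).2,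
      fun x hφx hax => by
        show ((a ⟨g, hg⟩ : Y) : Ω) * ((a ⟨x, hP' x.2⟩ : Y) : Ω) * ((a ⟨g, hg⟩ : Y) : Ω)⁻¹ = _
        rw [← Subgroup.coe_inv, ← Subgroup.coe_mul, ← Subgroup.coe_mul, ← map_inv, ← map_mul, ← map_mul]
        rfl⟩⟩
  comp_mem := by
    rintro P R φ θ ⟨hφ, e1⟩ ⟨hθ, e2⟩ h
    refine ⟨D.comp_mem hφ hθ h, fun hP => ?_⟩
    obtain ⟨χ, hχ, hχe⟩ := e1 hP
    have hR := hom_le D hθ
    obtain ⟨ζ, hζ, hζe⟩ := e2 hR
    have hin : ∀ u, χ u ∈ (R.subgroupOf Y).map (Y.subtype.comp a.toMonoidHom) := by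
      rintro ⟨_, y, hy, rfl⟩
      refine ⟨⟨φ ⟨y, hy⟩, hR (h _)⟩, h _, ?_⟩
      exact (hχe ⟨y, hy⟩ _ ⟨y, hy, rfl⟩).symm
    refine ⟨_, D.comp_mem hχ hζ hin, fun x hφx hax => ?_⟩
    show ζ ⟨χ _, _⟩ = _
    have e3 := hχe x (hR (h x)) hax
    exact (apply_congr ζ e3 _ ⟨⟨φ x, hR (h x)⟩, h x, rfl⟩).trans (hζe ⟨φ x, h x⟩ hφx _)
  inv_mem := by
    rintro P φ ⟨hφ, e1⟩
    obtain ⟨θ, hθ, hθe⟩ := D.inv_mem hφ
    refine ⟨θ, ⟨hθ, fun hP' => ?_⟩, hθe⟩
    have hP := hom_le D hφ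
    obtain ⟨χ, hχ, hχe⟩ := e1 hP
    obtain ⟨χi, hχi, -, hχi1, -⟩ := exists_inv D hχ
    have hle : (φ.range.subgroupOf Y).map (Y.subtype.comp a.toMonoidHom) ≤ χ.range := by
      rintro _ ⟨⟨z, hz⟩, ⟨x, hx⟩, rfl⟩
      have hzx : φ x = z := hx
      subst hzx
      exact ⟨⟨_, ⟨⟨x, hP x.2⟩, x.2, rfl⟩⟩, hχe x hz _⟩
    refine ⟨χi.comp (Subgroup.inclusion hle), restrict_mem D hχi hle, ?_⟩
    rintro ⟨_, x, rfl⟩ hθx hax
    refine Eq.trans (apply_congr χi (hχe x _ ⟨⟨x, hP x.2⟩, x.2, rfl⟩).symm _ ⟨_, rfl⟩)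
      ((hχi1 _ _).trans ?_)
    exact congrArg (fun z : Y => ((a z : Y) : Ω)) (Subtype.ext (hθe x).symm)

omit hp in
/-- A map of `F` on `C_S(T) ⊔ T` after conjugation carries `C_F(T)` to itself. -/
theorem conj_cent_mem {F : FusionSystem S} (hT : F.StronglyClosed T) {P P' : Subgroup Ω} {f : P ≃* P'}
    {ψ : ↥(P ⊔ T) →* Ω} (hψ : ψ ∈ F.Hom (P ⊔ T)) (hf : ∀ x : P, ψ (Subgroup.inclusion le_sup_left x) = (f x : P'))
    (hP' : P' ≤ centralizerIn S T) {b : MulAut P} (hb : b ∈ (centSystem F hT.1).autGroup P)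
    (hPC : P ≤ centralizerIn S T) :
    MulAut.congr f b ∈ (centSystem F hT.1).autGroup P' := by
  obtain ⟨χ, hχ, hχe⟩ := cent_transport hT hψ (P := P) le_sup_left le_sup_right
    ((equivHom_autGroup (centSystem F hT.1) hPC).1 hb) (fun x => Subgroup.mem_sup_left (b x).2) (P' := P')
    (fun y hy => ⟨(f.symm ⟨y, hy⟩ : P), (f.symm ⟨y, hy⟩).2,
      (hf (f.symm ⟨y, hy⟩)).trans (congrArg Subtype.val (f.apply_symm_apply _))⟩)
    hP' (apply_mem_centralizerIn hT hψ le_sup_right)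
  refine (equivHom_autGroup (centSystem F hT.1) hP').2 (hom_congr (centSystem F hT.1) hχ fun y => ?_)
  have e1 : ψ ⟨(f.symm y : P), Subgroup.mem_sup_left (f.symm y).2⟩ = (y : Ω) :=
    (hf (f.symm y)).trans (congrArg Subtype.val (f.apply_symm_apply y))
  refine Eq.symm (Eq.trans (apply_congr χ e1.symm _ _) ((hχe _ (f.symm y).2 (e1.symm ▸ y.2)).trans ?_))
  exact hf (b (f.symm y))

theorem exists_centralizer_subsystem (hS : IsPGroup p S) {F : FusionSystem S} (hF : F.IsSaturated p)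
    {E : FusionSystem T} (hE : E.IsNormalIn F p) :
    ∃ D : FusionSystem (goodSub F E), D.IsNormalIn F p ∧ ∀ P : Subgroup Ω, D.Hom P ⊆ F.centralizerHom T P := by
  have hTc := hE.1.2.2.2.1
  have hTS := hTc.1
  have hTn := stronglyClosed_le_normalizer hTc
  set Y := goodSub F E with hYdef
  have hYc := stronglyClosed_goodSub hS hF hE
  set C := centralizerIn S T
  have hYC : Y ≤ C := goodSub_le F E
  have hCS : C ≤ S := centralizerIn_le _ _
  have hYS := hYC.trans hCS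
  haveI : Finite T := finite_of_le hTS
  haveI : Finite C := finite_of_le hCS
  haveI : Finite Y := finite_of_le hYS
  have hYp : IsPGroup p Y := hS.to_le hYS
  have hCp : IsPGroup p C := hS.to_le hCS
  set CT := centSystem F hTS
  have hfcT : F.IsFullyCentralized T := ⟨hTS, fun Q ⟨φ, hφ, hr⟩ => by
    rw [← hr, (stronglyClosed_weaklyClosed hTc).2 φ hφ]⟩
  have hCTs : CT.IsSaturated p := centralizerSystem_saturated hS hF hfcT CT (centSystem_spec F hTS)
  have hhyp : CT.hyperfocalSubgroup p ≤ Y := by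
    refine (hyperfocal_le_focal CT).trans ((Subgroup.closure_le _).2 ?_)
    rintro _ ⟨P, φ, x, hφ, rfl⟩
    exact Subgroup.subset_closure ⟨Subgroup.mul_mem _ (Subgroup.inv_mem _ (hφ.2.1 x.2)) (hφ.2.2.1 x),
      fun Q => mem_centralizerHom_zpowers hS hF hE hφ x Q⟩
  obtain ⟨D, hDs, hDi, hfr⟩ := exists_pPower hCp hCTs hYC hhyp
  have hYn : (Y.subgroupOf C).Normal := ⟨fun n hn g =>
    (Subgroup.mem_normalizer_iff.1 (stronglyClosed_le_normalizer hYc (hCS g.2)) n).1 hn⟩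
  replace hfr := hfr hYn
  have hDF : D.IsSubsystemOf F := fun P φ hφ => (hDi.1 P hφ).1
  -- extensions over `T`
  have hext : ∀ (P : Subgroup Ω), P ≤ Y → ∀ φ ∈ F.Hom P,
      ∃ ψ ∈ F.Hom (P ⊔ T), ∀ x : P, ψ (Subgroup.inclusion le_sup_left x) = φ x :=
    fun P hP φ hφ => exists_ext hS hF hE hP hφ
  -- invariance
  have hAI : AutInvariant F D := by
    intro P hPY δ hδ a ha
    obtain ⟨ψ, hψ, hψe⟩ := hext Y le_rfl _ ((equivHom_autGroup F hYS).1 ha)
    refine (le_of_residual hYp hDs hDi.1 (X := conjSys D a) (fun R hR => ?_) P hδ).2 hPY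
    rintro _ ⟨b, hb, rfl⟩
    refine (equivHom_autGroup _ hR).2 ⟨(equivHom_autGroup D hR).1 (hDi.2.2 R hR ⟨b, hb, rfl⟩), fun hR' => ?_⟩
    set R' := (R.subgroupOf Y).map (Y.subtype.comp a.toMonoidHom)
    have hR'Y : R' ≤ Y := by rintro _ ⟨y, -, rfl⟩; exact (a y).2
    have hinj : Function.Injective (Y.subtype.comp a.toMonoidHom) := Y.subtype_injective.comp a.injective
    let f : R ≃* R' := (Subgroup.subgroupOfEquivOfLe hR').symm.trans
      ((R.subgroupOf Y).equivMapOfInjective _ hinj)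
    have hfv : ∀ x : R, ((f x : R') : Ω) = ((a ⟨x, hR' x.2⟩ : Y) : Ω) := fun x => rfl
    have hψR : ψ.comp (Subgroup.inclusion (sup_le_sup_right hR' T)) ∈ F.Hom (R ⊔ T) := restrict_mem F hψ _
    have hconj : ∀ c ∈ CT.autGroup R, MulAut.congr f c ∈ CT.autGroup R' := fun c hc =>
      conj_cent_mem hTc hψR (fun x => (hψe ⟨x, hR' x.2⟩).trans (hfv x).symm) (hR'Y.trans hYC) hc
        (hR.trans hYC)
    haveI := finite_of_le (hR.trans hYS)
    haveI := finite_of_le (hR'Y.trans hYS)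
    let g : CT.autGroup R →* CT.autGroup R' :=
      ((MulAut.congr f).toMonoidHom.comp (CT.autGroup R).subtype).codRestrict _ fun c => hconj c c.2
    have h1 := hDi.2.2 R' hR'Y ⟨g b, Cfsg.Agent.PBasic.map_pResidual_le (p := p) g ⟨b, hb, rfl⟩, rfl⟩
    refine ⟨equivHom (MulAut.congr f (b : MulAut R)), (equivHom_autGroup D hR'Y).1 h1, fun x hφx hax => ?_⟩
    show ((MulAut.congr f (b : MulAut R) ⟨((a ⟨x, hR' x.2⟩ : Y) : Ω), hax⟩ : R') : Ω) = _
    rw [show (⟨((a ⟨x, hR' x.2⟩ : Y) : Ω), hax⟩ : R') = f x from Subtype.ext (hfv x).symm, congr_apply,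
      f.symm_apply_apply, hfv]
    rfl
  -- the Frattini condition
  have hfrat : ∀ P : Subgroup Ω, P ≤ Y → ∀ φ ∈ F.Hom P, ∃ α ∈ F.autGroup Y, ∃ φ₀ ∈ D.Hom P,
      ∀ (x : P) (hx : φ₀ x ∈ Y), φ x = ((α ⟨φ₀ x, hx⟩ : Y) : Ω) := by
    intro P hPY φ hφ
    obtain ⟨ψ, hψ, hψe⟩ := hext P hPY φ hφ
    -- an automorphism of `T C_S(T)` agreeing with `ψ` on `T`
    obtain ⟨a, ha, hae⟩ := exists_aut_of_invariant F (restrict_mem F hψ (le_sup_right : T ≤ P ⊔ T))
      fun t => stronglyClosed_apply_mem hTc (restrict_mem F hψ le_sup_right) t t.2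
    have haF := (equivHom_autGroup F hTS).1 ha
    obtain ⟨χ, hχ, hag⟩ := (fullyCentralized_receptive hS hF hfcT).2 T _ haF (equivHom_range a)
    have hTC : T ⊔ C ≤ extender S T (equivHom a) := centralizerIn_sup_le_extender F haF
    set χ' := χ.comp (Subgroup.inclusion hTC)
    have hχT : ∀ t : T, χ' (Subgroup.inclusion le_sup_left t) = ψ (Subgroup.inclusion le_sup_right t) :=
      fun t => (hag t t.2 _).trans (hae t)
    obtain ⟨χi, hχi, -, hχi1, -⟩ := exists_inv F (restrict_mem F hχ hTC)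
    obtain ⟨α, hα, hαe⟩ := exists_aut_of_invariant F
      (restrict_mem F (restrict_mem F hχ hTC) (hYC.trans le_sup_right : Y ≤ T ⊔ C))
      fun y => stronglyClosed_apply_mem hYc
        (restrict_mem F (restrict_mem F hχ hTC) (hYC.trans le_sup_right)) y y.2
    have hψY : ∀ x : P, φ x ∈ Y := fun x => hYc.2 P hPY φ hφ x
    have hψr : ∀ u, ψ u ∈ χ'.range := apply_mem_of_sup ψ
      (fun u => by
        rw [hψe]
        exact ⟨⟨(α⁻¹ ⟨φ u, hψY u⟩ : Y), Subgroup.mem_sup_right (hYC (SetLike.coe_mem _))⟩,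
          (hαe _).symm.trans (congrArg Subtype.val (α.apply_symm_apply _))⟩)
      fun t => ⟨Subgroup.inclusion le_sup_left t, hχT t⟩
    obtain ⟨σ, hσ, hσe⟩ := comp_hom_mem F hψ hχi hψr
    have hσP : ∀ x : P, σ (Subgroup.inclusion le_sup_left x) = ((α⁻¹ ⟨φ x, hψY x⟩ : Y) : Ω) := fun x => by
      rw [hσe]
      have e : χ' ⟨(α⁻¹ ⟨φ x, hψY x⟩ : Y), Subgroup.mem_sup_right (hYC (SetLike.coe_mem _))⟩
          = ψ (Subgroup.inclusion le_sup_left x) :=
        ((hαe _).symm.trans (congrArg Subtype.val (α.apply_symm_apply _))).trans (hψe x).symm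
      exact (apply_congr χi e.symm _ ⟨_, rfl⟩).trans (hχi1 _ _)
    have hσT : ∀ t : T, σ (Subgroup.inclusion le_sup_right t) = t := fun t => by
      rw [hσe]
      exact (apply_congr χi (hχT t).symm _ ⟨_, rfl⟩).trans (hχi1 _ _)
    have hφ₁ : σ.comp (Subgroup.inclusion le_sup_left) ∈ CT.Hom P :=
      ⟨restrict_mem F hσ _, hPY.trans hYC, fun x => by
        show σ _ ∈ _
        rw [hσP]; exact hYC (SetLike.coe_mem _), σ, hσ, fun x => rfl, hσT⟩
    obtain ⟨g, hg, φ₀, hφ₀, he⟩ := hfr P hPY _ hφ₁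
    obtain ⟨c, hc, hce⟩ := exists_conjAut (hCS hg) (stronglyClosed_le_normalizer hYc (hCS hg))
    refine ⟨α * c, Subgroup.mul_mem _ hα (autInducedBy_le_autGroup F hYS hc), φ₀, hφ₀, fun x hx => ?_⟩
    have e2 : c ⟨φ₀ x, hx⟩ = α⁻¹ ⟨φ x, hψY x⟩ := Subtype.ext (by
      rw [hce]; exact ((hσP x).symm.trans (he x)).symm)
    rw [MulAut.mul_apply, e2]
    exact (congrArg Subtype.val (α.apply_symm_apply ⟨φ x, hψY x⟩)).symm
  refine ⟨D, ⟨⟨hDs, hF, hDF, hYc, hAI, hfrat⟩, ?_⟩, fun P φ hφ => hDi.1 P hφ⟩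
  -- the extension condition
  set M := Y ⊔ centralizerIn S Y with hMdef
  have hMS : M ≤ S := sup_le hYS (centralizerIn_le _ _)
  haveI := finite_of_le hMS
  let G : Subgroup (MulAut Y) :=
    { carrier := {α | ∃ β ∈ F.autGroup M,
        (∀ x : Y, ((β (Subgroup.inclusion le_sup_left x) : M) : Ω) = ((α x : Y) : Ω)) ∧
        (∀ c : M, (c : Ω) ∈ centralizerIn S Y → ((β c : M) : Ω) ∈ centralizerIn S Y) ∧
        ∀ c : M, (c : Ω) ∈ centralizerIn S Y →
          (c : Ω)⁻¹ * ((β c : M) : Ω) ∈ Y ⊓ Subgroup.centralizer (Y : Set Ω)}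
      one_mem' := ⟨1, Subgroup.one_mem _, fun x => rfl, fun c hc => hc, fun c _ => by
        simp⟩
      mul_mem' := by
        rintro a b ⟨A, hA, a1, a2, a3⟩ ⟨B, hB, b1, b2, b3⟩
        refine ⟨A * B, Subgroup.mul_mem _ hA hB, fun x => ?_, fun c hc => a2 _ (b2 c hc), fun c hc => ?_⟩
        · rw [MulAut.mul_apply, show B (Subgroup.inclusion le_sup_left x) = Subgroup.inclusion le_sup_left (b x)
            from Subtype.ext (b1 x), a1]
          rfl
        · have := Subgroup.mul_mem _ (b3 c hc) (a3 _ (b2 c hc))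
          rwa [mul_assoc, mul_inv_cancel_left] at this
      inv_mem' := by
        rintro a ⟨A, hA, a1, a2, a3⟩
        have a2' : ∀ c : M, (c : Ω) ∈ centralizerIn S Y → ((A⁻¹ c : M) : Ω) ∈ centralizerIn S Y := fun c hc =>
          ⟨hMS (A⁻¹ c).2, Subgroup.mem_centralizer_iff.2 fun y hy => by
            have h1 : ((A (⟨y, Subgroup.mem_sup_left hy⟩ * A⁻¹ c) : M) : Ω)
                = ((A (A⁻¹ c * ⟨y, Subgroup.mem_sup_left hy⟩) : M) : Ω) := by
              rw [map_mul, map_mul, show A (A⁻¹ c) = c from A.apply_symm_apply c, Subgroup.coe_mul,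
                Subgroup.coe_mul]
              have := a1 ⟨y, hy⟩
              rw [show Subgroup.inclusion le_sup_left (⟨y, hy⟩ : Y) = (⟨y, Subgroup.mem_sup_left hy⟩ : M) from rfl] at this
              rw [this]
              exact Subgroup.mem_centralizer_iff.1 hc.2 _ (a ⟨y, hy⟩).2
            exact congrArg Subtype.val (A.injective (Subtype.ext h1))⟩
        refine ⟨A⁻¹, Subgroup.inv_mem _ hA, fun x => ?_, a2', fun c hc => ?_⟩
        · have := a1 (a⁻¹ x)
          rw [show a (a⁻¹ x) = x from a.apply_symm_apply x] at this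
          rw [show Subgroup.inclusion le_sup_left x = A (Subgroup.inclusion le_sup_left (a⁻¹ x)) from
            Subtype.ext this.symm, show A⁻¹ (A _) = _ from A.symm_apply_apply _]
          rfl
        · have := Subgroup.inv_mem _ (a3 _ (a2' c hc))
          rwa [show A (A⁻¹ c) = c from A.apply_symm_apply c, mul_inv_rev, inv_inv] at this }
  suffices hG : D.autGroup Y ≤ G by
    intro α hα
    obtain ⟨β, hβ, h1, -, h3⟩ := hG hα
    exact ⟨β, hβ, h1, h3⟩
  have hfn : D.IsFullyNormalized Y := fullyNormalized_top D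
  obtain ⟨Sy, hSy⟩ := (fullyNormalized_imp hYp hDs hfn).2.2
  have htop : (Sy : Subgroup (D.autGroup Y)) ⊔ Cfsg.pResidual p (D.autGroup Y) ≤ G.subgroupOf (D.autGroup Y) := by
    refine sup_le (fun v hv => ?_) ((Subgroup.closure_le _).2 fun a ha => ?_)
    · rw [hSy] at hv
      obtain ⟨g, hg, hge⟩ := (mem_autInducedBy_iff _).1 hv
      obtain ⟨c, hc, hce⟩ := exists_conjAut (hYS hg) (Subgroup.le_normalizer (Subgroup.mem_sup_left hg) :
        g ∈ Subgroup.normalizer (M : Set Ω))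
      refine ⟨c, autInducedBy_le_autGroup F hMS hc, fun x => (hce _).trans (hge x).symm, fun u hu => ?_,
        fun u hu => ?_⟩
      · rw [hce, Subgroup.mem_centralizer_iff.1 hu.2 g hg, mul_inv_cancel_right]; exact hu
      · rw [hce, Subgroup.mem_centralizer_iff.1 hu.2 g hg, mul_inv_cancel_right, inv_mul_cancel]
        exact Subgroup.one_mem _
    · have hco : (orderOf (a : MulAut Y)).Coprime p := by rw [Subgroup.orderOf_coe]; exact ha
      set α : MulAut Y := (a : MulAut Y)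
      -- extend over `C_S(Y)`
      set W := Y ⊔ T with hWdef
      have hWS : W ≤ S := sup_le hYS hTS
      haveI := finite_of_le hWS
      obtain ⟨-, -, -, ψ₀, hψ₀, p1, p2⟩ := hDi.1 Y ((equivHom_autGroup D le_rfl).1 a.2)
      have hWinv : ∀ (φ : W →* Ω), φ ∈ F.Hom W → ∀ x, φ x ∈ W := fun φ hφ => apply_mem_of_sup φ
        (fun u => Subgroup.mem_sup_left (stronglyClosed_apply_mem hYc hφ _ u.2))
        fun u => Subgroup.mem_sup_right (stronglyClosed_apply_mem hTc hφ _ u.2)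
      have hrange : ∀ (φ : W →* Ω), φ ∈ F.Hom W → φ.range = W := fun φ hφ => Subgroup.eq_of_le_of_card_ge
        (by rintro _ ⟨x, rfl⟩; exact hWinv φ hφ x) (isConj_card ⟨φ, hφ, rfl⟩).le
      have hfcW : F.IsFullyCentralized W := ⟨hWS, fun R ⟨φ, hφ, hr⟩ => by rw [← hr, hrange φ hφ]⟩
      obtain ⟨χ, hχ, hag⟩ := (fullyCentralized_receptive hS hF hfcW).2 W ψ₀ hψ₀ (hrange ψ₀ hψ₀)
      have hgext : centralizerIn S Y ≤ extender S W ψ₀ := by
        intro g hg
        have hgY : g ∈ Subgroup.normalizer (Y : Set Ω) := Subgroup.centralizer_le_normalizer _ hg.2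
        have hgW : g ∈ Subgroup.normalizer (W : Set Ω) := by
          refine mem_normalizer_of_conj_mem_finite fun x hx => ?_
          have hle : W ≤ W.comap (MulAut.conj g).toMonoidHom := sup_le
            (fun u hu => Subgroup.mem_sup_left ((Subgroup.mem_normalizer_iff.1 hgY u).1 hu))
            fun u hu => Subgroup.mem_sup_right ((Subgroup.mem_normalizer_iff.1 (hTn hg.1) u).1 hu)
          exact hle hx
        refine Subgroup.subset_closure ⟨hg.1, hgW, g, hg.1, fun x hx => ?_⟩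
        let cg : W →* W := ((MulAut.conj g).toMonoidHom.comp W.subtype).codRestrict W
          fun x => (Subgroup.mem_normalizer_iff.1 hgW x).1 x.2
        have heq : ∀ u : ↥(Y ⊔ T), ψ₀ (cg u) * (g * ψ₀ u * g⁻¹)⁻¹ ∈ (⊥ : Subgroup Ω) := by
          let K : Subgroup W :=
            { carrier := {u | ψ₀ (cg u) = g * ψ₀ u * g⁻¹}
              one_mem' := by simp
              mul_mem' := fun {u v} hu hv => by
                show ψ₀ (cg (u * v)) = _
                rw [map_mul, map_mul, map_mul, hu, hv]; group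
              inv_mem' := fun {u} hu => by
                show ψ₀ (cg u⁻¹) = _
                rw [map_inv, map_inv, map_inv, hu]; group }
          have hK : Y ⊔ T ≤ K.map W.subtype := by
            refine sup_le (fun y hy => ?_) fun t ht => ?_
            · refine ⟨Subgroup.inclusion le_sup_left (⟨y, hy⟩ : Y), ?_, rfl⟩
              show ψ₀ (cg _) = g * ψ₀ _ * g⁻¹
              have h1 : cg (Subgroup.inclusion le_sup_left (⟨y, hy⟩ : Y)) =
                  Subgroup.inclusion le_sup_left (⟨y, hy⟩ : Y) := Subtype.ext (by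
                show g * y * g⁻¹ = y
                rw [← Subgroup.mem_centralizer_iff.1 hg.2 y hy, mul_inv_cancel_right])
              rw [h1, p1]
              show (α ⟨y, hy⟩ : Ω) = g * (α ⟨y, hy⟩ : Ω) * g⁻¹
              rw [← Subgroup.mem_centralizer_iff.1 hg.2 _ (α ⟨y, hy⟩).2, mul_inv_cancel_right]
            · refine ⟨Subgroup.inclusion le_sup_right (⟨t, ht⟩ : T), ?_, rfl⟩
              show ψ₀ (cg _) = g * ψ₀ _ * g⁻¹
              have h1 : cg (Subgroup.inclusion le_sup_right (⟨t, ht⟩ : T)) =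
                  Subgroup.inclusion le_sup_right (⟨g * t * g⁻¹, (Subgroup.mem_normalizer_iff.1 (hTn hg.1) t).1 ht⟩ : T) :=
                Subtype.ext rfl
              rw [h1, p2, p2]
          intro u
          obtain ⟨v, hv, hvu⟩ := hK u.2
          rw [show u = v from Subtype.ext hvu.symm, Subgroup.mem_bot, mul_inv_eq_one]
          exact hv
        have h4 := heq x
        rw [Subgroup.mem_bot, mul_inv_eq_one] at h4
        exact Eq.trans (congrArg ψ₀ (Subtype.ext rfl)) h4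
      have hYW : Y ≤ extender S W ψ₀ := le_sup_left.trans (le_extender F hψ₀)
      have hMe : M ≤ extender S W ψ₀ := sup_le hYW hgext
      set χ' := χ.comp (Subgroup.inclusion hMe)
      have hχY : ∀ y : Y, χ' (Subgroup.inclusion le_sup_left y) = ((α y : Y) : Ω) := fun y =>
        (hag y (Subgroup.mem_sup_left y.2) _).trans (p1 y)
      have hrY : (χ'.comp (Subgroup.inclusion (le_sup_left : Y ≤ M))).range = Y := by
        rw [show χ'.comp (Subgroup.inclusion le_sup_left) = equivHom α from MonoidHom.ext hχY, equivHom_range]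
      have hχC : ∀ (c : M), (c : Ω) ∈ centralizerIn S Y → χ' c ∈ centralizerIn S Y := fun c hc =>
        ⟨hom_apply_mem F (restrict_mem F hχ hMe) _, apply_mem_centralizer χ' le_sup_left hrY _ hc.2⟩
      obtain ⟨β₁, hβ₁, hβ₁e⟩ := exists_aut_of_invariant F (restrict_mem F hχ hMe) fun x => apply_mem_of_sup χ'
        (fun u => by rw [hχY]; exact Subgroup.mem_sup_left (α u).2)
        (fun u => Subgroup.mem_sup_right (hχC _ u.2)) x
      obtain ⟨n, hn, hne⟩ := exists_pprime_exp p β₁ α hco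
      have hrel : Rel (le_sup_left : Y ≤ M) β₁ α := fun x => Subtype.ext ((hβ₁e _).trans (hχY x))
      set β := β₁ ^ n
      have hβrel : Rel (le_sup_left : Y ≤ M) β α := by
        have := hrel.pow n
        rwa [hne] at this
      have hβF := Subgroup.pow_mem _ hβ₁ n
      have hTCY : T ≤ centralizerIn S Y := le_centralizerIn_sup hTS hYC
      have hTM : T ≤ M := hTCY.trans le_sup_right
      have hβT : ∀ (t : Ω) (ht : t ∈ T), β ⟨t, hTM ht⟩ = ⟨t, hTM ht⟩ := by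
        intro t ht
        have h1 : β₁ ⟨t, hTM ht⟩ = ⟨t, hTM ht⟩ := Subtype.ext ((hβ₁e _).trans
          ((hag t (Subgroup.mem_sup_right ht) _).trans (p2 ⟨t, ht⟩)))
        have h2 : ∀ j : ℕ, (β₁ ^ j) ⟨t, hTM ht⟩ = ⟨t, hTM ht⟩ := by
          intro j
          induction j with
          | zero => rfl
          | succ j ihj => rw [pow_succ, MulAut.mul_apply, h1, ihj]
        exact h2 n
      have hβC : ∀ c : M, (c : Ω) ∈ centralizerIn S Y → ((β c : M) : Ω) ∈ centralizerIn S Y := fun c hc =>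
        ⟨hMS (β c).2, apply_mem_centralizer (equivHom β) le_sup_left
          (by rw [show (equivHom β).comp (Subgroup.inclusion le_sup_left) = equivHom α from
            MonoidHom.ext fun y => hβrel.apply y, equivHom_range]) _ hc.2⟩
      -- the part commuting with `T`
      set Z := centralizerIn C Y with hZdef
      have hZC : Z ≤ C := inf_le_left
      have hZM : Z ≤ M := fun z hz => Subgroup.mem_sup_right ⟨hCS hz.1, hz.2⟩
      have hdT : ∀ c : M, (c : Ω) ∈ centralizerIn S Y →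
          (c : Ω)⁻¹ * ((β c : M) : Ω) ∈ Z := by
        intro c hc
        have h0 := Subgroup.mul_mem _ (Subgroup.inv_mem _ hc) (hβC c hc)
        refine ⟨⟨h0.1, Subgroup.mem_centralizer_iff.2 fun t ht => ?_⟩, h0.2⟩
        have ht' : (c : Ω) * t * (c : Ω)⁻¹ ∈ T := (Subgroup.mem_normalizer_iff.1 (hTn hc.1) t).1 ht
        have h1 : β (c * ⟨t, hTM ht⟩ * c⁻¹) = c * ⟨t, hTM ht⟩ * c⁻¹ := by
          rw [show c * ⟨t, hTM ht⟩ * c⁻¹ = ⟨_, hTM ht'⟩ from Subtype.ext rfl]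
          exact hβT _ ht'
        rw [map_mul, map_mul, map_inv, hβT t ht] at h1
        have h2 : ((β c : M) : Ω) * t * ((β c : M) : Ω)⁻¹ = (c : Ω) * t * (c : Ω)⁻¹ := congrArg Subtype.val h1
        calc t * ((c : Ω)⁻¹ * ((β c : M) : Ω)) = (c : Ω)⁻¹ * ((c : Ω) * t * (c : Ω)⁻¹) * ((β c : M) : Ω) := by
              group
          _ = (c : Ω)⁻¹ * ((β c : M) : Ω) * t := by rw [← h2]; group
      have hβZ : ∀ z : M, (z : Ω) ∈ Z → ((β z : M) : Ω) ∈ Z := fun z hz => by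
        have := Z.mul_mem hz (hdT z ⟨hCS hz.1, hz.2⟩)
        rwa [mul_inv_cancel_left] at this
      obtain ⟨βZ, hβZF, hβZe⟩ := exists_rel F hZM hMS hβF hβZ
      have hZS : Z ≤ S := hZC.trans hCS
      have hβZC : βZ ∈ CT.autGroup Z := by
        refine (equivHom_autGroup CT hZC).2 ⟨(equivHom_autGroup F hZS).1 hβZF, hZC, fun z => hZC (βZ z).2,
          (equivHom β).comp (Subgroup.inclusion (sup_le hZM hTM)),
          restrict_mem F ((equivHom_autGroup F hMS).1 hβF) _, fun z => hβZe.apply z,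
          fun t => congrArg Subtype.val (hβT t t.2)⟩
      have hcoZ : (orderOf βZ).Coprime p := by
        refine Nat.Coprime.coprime_dvd_left (orderOf_dvd_of_pow_eq_one ?_) hn
        have := hβZe.pow (orderOf β)
        rw [pow_orderOf_eq_one] at this
        exact this.eq_one
      refine ⟨β, hβF, fun x => hβrel.apply x, hβC, fun c hc => ?_⟩
      refine step_mod (hS.to_le hMS) hn (K := Z) (N := Y ⊓ Subgroup.centralizer (Y : Set Ω)) (fun z hz => ?_)
        (fun z hz => ⟨hYC hz.1, hz.2⟩) (hdT c hc)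
      rw [show z = ⟨((⟨_, hz⟩ : Z) : Ω), hZM hz⟩ from Subtype.ext rfl, hβZe.apply]
      refine ⟨hhyp (hyperfocal_mem hZC (a := ⟨βZ, hβZC⟩) (Subgroup.subset_closure (by
        show (orderOf (⟨βZ, hβZC⟩ : CT.autGroup Z)).Coprime p
        rwa [← Subgroup.orderOf_coe])) ⟨_, hz⟩), ?_⟩
      exact Subgroup.mul_mem _ (Subgroup.inv_mem _ hz.2) (βZ ⟨_, hz⟩).2.2
  rw [Cfsg.Agent.PBasic.sylow_sup_pResidual] at htop
  exact fun a ha => htop (Subgroup.mem_top (⟨a, ha⟩ : D.autGroup Y))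

end Cfsg.Agent.FusionSys.CentSub
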