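import Cfsg.Agent.Lib.Fusion.InnerCriterion
import Cfsg.Agent.Lib.Fusion.FactorMorphism
import Cfsg.Agent.Lib.Fusion.Normal

/-!
# The centre of a system; iterated focal chains
-/

set_option autoImplicit false

namespace Cfsg.Agent.FusionSys

open Cfsg Cfsg.FusionSystem
open scoped commutatorElement

variable {Ω : Type*} [Group Ω] {S : Subgroup Ω} [Finite S] {p : ℕ} [hp : Fact p.Prime] {F : FusionSystem S}

omit [Finite S] in
theorem isPGroup_of_residual_trivial {A : Type*} [Group A] [Finite A] (h : pResidual p A = ⊥) : IsPGroup p A := by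
  intro α
  have hone : orderOf α ≠ 0 := (orderOf_pos α).ne'
  refine ⟨(orderOf α).factorization p, ?_⟩
  have hmem : α ^ p ^ (orderOf α).factorization p ∈ pResidual p A := by
    refine Subgroup.subset_closure ?_
    show Nat.Coprime (orderOf _) p
    rw [orderOf_pow_of_dvd (pow_ne_zero _ hp.out.ne_zero) (Nat.ordProj_dvd _ _)]
    exact (Nat.coprime_ordCompl hp.out hone).symm
  rwa [h, Subgroup.mem_bot] at hmem

/-- An iterated focal chain reaching `1` makes the system inner. -/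
theorem eq_inner_of_focal_chain (hS : IsPGroup p S) (hF : F.IsSaturated p) {n : ℕ}
    (Q : Fin (n + 1) → Subgroup Ω) (hQ0 : Q 0 = S) (hQn : Q (Fin.last n) = ⊥)
    (hstep : ∀ i : Fin n, Subgroup.closure {y : Ω | ∃ x ∈ Q i.castSucc, ∃ φ ∈ F.Hom (Subgroup.zpowers x),
      y = x⁻¹ * φ ⟨x, Subgroup.mem_zpowers x⟩} ≤ Q i.succ) : F = innerFusionSystem S := by
  refine eq_inner_of_autGroup_isPGroup hS hF fun P hP => ?_
  haveI := finite_of_le (S := S) hP
  refine isPGroup_of_residual_trivial (le_bot_iff.1 ((Subgroup.closure_le _).2 fun α hα => ?_))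
  have hα' : Nat.Coprime (orderOf α) p := hα
  suffices h : ∀ i : Fin (n + 1), ∀ x : P, (x : Ω) ∈ Q i → (α : MulAut P) x = x by
    refine Subgroup.mem_bot.2 (Subtype.ext (MulEquiv.ext fun x => h 0 x ?_))
    rw [hQ0]; exact hP x.2
  intro i
  induction i using Fin.reverseInduction with
  | last =>
    intro x hx
    rw [hQn, Subgroup.mem_bot] at hx
    rw [show x = 1 from Subtype.ext hx, map_one]
  | cast i ih =>
    intro x hx
    obtain ⟨φ, hφ, -, he⟩ := autGroup_apply_mem_hom F hP α.2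
    have hy : ((x⁻¹ * (α : MulAut P) x : P) : Ω) ∈ Q i.succ := by
      refine hstep i (Subgroup.subset_closure ⟨x, hx, _, restrict_mem F hφ (Subgroup.zpowers_le.2 x.2), ?_⟩)
      rw [Subgroup.coe_mul, Subgroup.coe_inv, ← he]
      rfl
    set y := x⁻¹ * (α : MulAut P) x with hydef
    have hfix := ih y hy
    have hpow : ∀ k : ℕ, ((α : MulAut P) ^ k) x = x * y ^ k := by
      intro k
      induction k with
      | zero => simp
      | succ k ihk =>
        rw [pow_succ', MulAut.mul_apply, ihk, map_mul, map_pow, hfix,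
          show (α : MulAut P) x = x * y by rw [hydef, mul_inv_cancel_left], mul_assoc, ← pow_succ']
    have h1 := hpow (orderOf α)
    rw [← Subgroup.coe_pow, pow_orderOf_eq_one] at h1
    have hy1 : y ^ orderOf α = 1 := mul_left_cancel (a := x) (by rw [mul_one]; exact h1.symm)
    have hord := Nat.dvd_gcd (orderOf_dvd_natCard y) (orderOf_dvd_of_pow_eq_one hy1)
    rw [coprime_of_isPGroup (isPGroup_of_le hS hP) (fun hd => hp.out.one_lt.ne'
      (Nat.dvd_one.1 (hα'.symm.eq_one_of_dvd hd ▸ dvd_rfl)))] at hord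
    have : y = 1 := orderOf_eq_one_iff.1 (Nat.dvd_one.1 hord)
    rw [hydef, inv_mul_eq_one] at this
    exact this.symm

omit hp in
theorem center_le (F : FusionSystem S) : F.center ≤ S := (center_isCentral F).1

/-- If `Z(S) ≤ O_p(F)`, then `Z(F)` is a direct factor of `Z(S)`. -/
theorem center_directFactor (hS : IsPGroup p S) (hF : F.IsSaturated p)
    (hZ : S ⊓ Subgroup.centralizer (S : Set Ω) ≤ F.core) :
    ∃ K : Subgroup Ω, K ≤ S ⊓ Subgroup.centralizer (S : Set Ω) ∧ F.center ⊓ K = ⊥ ∧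
      F.center ⊔ K = S ⊓ Subgroup.centralizer (S : Set Ω) := by
  classical
  set Q := F.core with hQdef
  have hQn := core_isNormal F
  have hQS : Q ≤ S := hQn.1
  haveI := finite_of_le (S := S) hQS
  set Zs := S ⊓ Subgroup.centralizer (S : Set Ω) with hZs
  have hfn : F.IsFullyNormalized Q := fullyNormalized_of_normal hQS (isNormal_le_normalizer hQn)
  set A := F.autGroup Q
  set Pp : Subgroup A := (autInducedBy S Q).subgroupOf A with hPp
  letI : Fintype (A ⧸ Pp) := Fintype.ofFinite _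
  have hn : ¬ p ∣ Pp.index := (isSyl_of_fullyAutomized (fullyNormalized_imp hS hF hfn).2).2.2
  have hcomm : ∀ z ∈ Zs, ∀ s ∈ S, s * z = z * s := fun z hz s hs => hz.2 s hs
  have hAS : ∀ a : A, a ∈ Pp → ∀ z : Q, (z : Ω) ∈ Zs → (a : MulAut Q) z = z := by
    intro a ha z hz
    obtain ⟨g, hg, hge⟩ := (mem_autInducedBy_iff (a : MulAut Q)).1 ha
    refine Subtype.ext ?_
    rw [hge, hcomm z hz g hg, mul_inv_cancel_right]
  have hcen : ∀ (a : A) (z : Q), (z : Ω) ∈ Zs → (a : MulAut Q) z ∈ Subgroup.center Q := by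
    intro a z hz
    rw [Subgroup.mem_center_iff]
    intro w
    obtain ⟨v, rfl⟩ := (a : MulAut Q).surjective w
    rw [← map_mul, ← map_mul]
    exact congrArg _ (Subtype.ext (hcomm z hz v (hQS v.2)))
  letI : CommGroup ↥(Subgroup.center Q) :=
    { (inferInstance : Group ↥(Subgroup.center Q)) with
      mul_comm := fun a b => Subtype.ext (Subgroup.mem_center_iff.1 b.2 a) }
  let f : ↥Zs → A ⧸ Pp → ↥(Subgroup.center Q) := fun z q =>
    ⟨(q.out : MulAut Q) ⟨z, hZ z.2⟩, hcen q.out ⟨z, hZ z.2⟩ z.2⟩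
  have hf : ∀ (a : A) (z : ↥Zs), ((f z (QuotientGroup.mk a) : Subgroup.center Q) : Q) = (a : MulAut Q) ⟨z, hZ z.2⟩ := by
    intro a z
    obtain ⟨u, hu⟩ := QuotientGroup.mk_out_eq_mul Pp a
    show ((QuotientGroup.mk a : A ⧸ Pp).out : MulAut Q) ⟨z, hZ z.2⟩ = _
    rw [hu, Subgroup.coe_mul, MulAut.mul_apply, hAS u u.2 _ z.2]
  let Nm : ↥Zs →* ↥(Subgroup.center Q) := MonoidHom.mk' (fun z => ∏ q, f z q) fun z w => by
    rw [← Finset.prod_mul_distrib]
    refine Finset.prod_congr rfl fun q _ => Subtype.ext ?_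
    show (q.out : MulAut Q) ⟨_, _⟩ = (q.out : MulAut Q) _ * (q.out : MulAut Q) _
    rw [← map_mul]
    rfl
  let Fix : Subgroup Ω :=
    { carrier := {y | ∃ hy : y ∈ Q, ∀ a : A, (a : MulAut Q) ⟨y, hy⟩ = ⟨y, hy⟩}
      one_mem' := ⟨Q.one_mem, fun a => map_one _⟩
      mul_mem' := fun {x y} ⟨hx, hxa⟩ ⟨hy, hya⟩ => ⟨Q.mul_mem hx hy, fun a =>
        (map_mul (a : MulAut Q) ⟨x, hx⟩ ⟨y, hy⟩).trans (congrArg₂ (· * ·) (hxa a) (hya a))⟩
      inv_mem' := fun {x} ⟨hx, hxa⟩ => ⟨Q.inv_mem hx, fun a =>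
        (map_inv (a : MulAut Q) ⟨x, hx⟩).trans (congrArg (·⁻¹) (hxa a))⟩ }
  have hFixQ : Fix ≤ Q := fun y hy => hy.1
  have hFixc : F.IsCentral Fix := by
    refine ⟨hFixQ.trans hQS, fun P φ hφ => ?_⟩
    obtain ⟨ψ, hψ, hψe, hψQ⟩ := hQn.2 P φ hφ
    obtain ⟨α, hα, hαe⟩ := exists_restrict_aut F (le_sup_right : Q ≤ P ⊔ Q) hψ hψQ
    refine ⟨ψ.comp (Subgroup.inclusion (sup_le_sup_left hFixQ P)), restrict_mem F hψ _, fun x => hψe x, fun x => ?_⟩
    obtain ⟨hxQ, hxf⟩ := x.2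
    have h1 := congrArg Subtype.val (hxf ⟨α, hα⟩)
    rw [hαe] at h1
    exact h1
  have hNfix : ∀ z : ↥Zs, (((Nm z : Subgroup.center Q) : Q) : Ω) ∈ Fix := by
    intro z
    refine ⟨((Nm z : Subgroup.center Q) : Q).2, fun a => ?_⟩
    let L : ↥(Subgroup.center Q) →* ↥(Subgroup.center Q) :=
      (((a : MulAut Q).toMonoidHom).comp (Subgroup.center Q).subtype).codRestrict _ fun w => by
        rw [Subgroup.mem_center_iff]
        intro v
        obtain ⟨v, rfl⟩ := (a : MulAut Q).surjective v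
        show (a : MulAut Q) v * (a : MulAut Q) w = (a : MulAut Q) w * (a : MulAut Q) v
        rw [← map_mul, ← map_mul, Subgroup.mem_center_iff.1 w.2 v]
    have h1 : L (Nm z) = Nm z := by
      show L (∏ q, f z q) = ∏ q, f z q
      rw [map_prod]
      refine Fintype.prod_bijective (fun q => a • q) (MulAction.bijective a) _ _ fun q => Subtype.ext ?_
      show (a : MulAut Q) _ = _
      conv_rhs => rw [← QuotientGroup.out_eq' q, MulAction.Quotient.smul_mk, hf, smul_eq_mul]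
      rfl
    exact congrArg (fun w : Subgroup.center Q => (w : Q)) h1
  have hcle : F.center ≤ Zs := le_inf (center_le F) F.center_le_centralizer
  have hNc : ∀ (z : ↥Zs), (z : Ω) ∈ F.center → ((Nm z : Subgroup.center Q) : Q) = (⟨z, hZ z.2⟩ : Q) ^ Pp.index := by
    intro z hz
    have hfix : ∀ a : A, (a : MulAut Q) ⟨z, hZ z.2⟩ = ⟨z, hZ z.2⟩ := fun a => by
      obtain ⟨ψ, -, hψe, hψf⟩ := isCentral_extend (center_isCentral F) ((mem_autGroup_iff F hQS _).1 a.2)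
      refine Subtype.ext ?_
      exact (hψe _ (hZ z.2) (Subgroup.mem_sup_left (hZ z.2))).symm.trans (hψf _ _ hz)
    show ((∏ q, f z q : Subgroup.center Q) : Q) = _
    rw [Finset.prod_congr rfl fun q _ => show f z q = ⟨⟨z, hZ z.2⟩, hfix 1 ▸ hcen 1 _ z.2⟩ from
      Subtype.ext (hfix q.out), Finset.prod_const, Finset.card_univ, ← Nat.card_eq_fintype_card]
    rfl
  have hcop : (Nat.card Q).Coprime Pp.index := coprime_of_isPGroup (isPGroup_of_le hS hQS) hn
  refine ⟨Nm.ker.map Zs.subtype, Subgroup.map_subtype_le _, ?_, le_antisymm (sup_le hcle (Subgroup.map_subtype_le _)) fun z hz => ?_⟩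
  · refine le_bot_iff.1 ?_
    rintro _ ⟨hzc, w, hw, rfl⟩
    have h1 := hNc w hzc
    rw [MonoidHom.mem_ker.1 hw] at h1
    have h2 : (⟨w, hZ w.2⟩ : Q) = 1 := (powCoprime hcop).injective
      (show (⟨w, hZ w.2⟩ : Q) ^ Pp.index = (1 : Q) ^ Pp.index by rw [one_pow, ← h1]; rfl)
    exact Subgroup.mem_bot.2 (congrArg (fun u : Q => (u : Ω)) h2)
  · have hwC : ((((Nm ⟨z, hz⟩ : Subgroup.center Q) : Q)) : Ω) ∈ F.center := isCentral_le_center hFixc (hNfix _)
    set w : Q := ((Nm ⟨z, hz⟩ : Subgroup.center Q) : Q)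
    set v : Q := (powCoprime hcop).symm w with hv
    have hvn : v ^ Pp.index = w := (powCoprime hcop).apply_symm_apply w
    obtain ⟨m, hm⟩ := exists_pow_eq_self_of_coprime (x := v)
      (Nat.Coprime.coprime_dvd_right (orderOf_dvd_natCard v) hcop.symm)
    have hvC : (v : Ω) ∈ F.center := by
      rw [← hm, hvn]
      exact Subgroup.pow_mem _ hwC m
    have hrest : (v : Ω)⁻¹ * z ∈ Zs := Subgroup.mul_mem _ (Subgroup.inv_mem _ (hcle hvC)) hz
    have hker : (⟨(v : Ω)⁻¹ * z, hrest⟩ : ↥Zs) ∈ Nm.ker := by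
      have e : (⟨(v : Ω)⁻¹ * z, hrest⟩ : ↥Zs) = ⟨v, hcle hvC⟩⁻¹ * ⟨z, hz⟩ := rfl
      rw [MonoidHom.mem_ker, e, map_mul, map_inv, inv_mul_eq_one]
      exact Subtype.ext ((hNc ⟨v, hcle hvC⟩ hvC).trans hvn)
    have := Subgroup.mul_mem (F.center ⊔ Nm.ker.map Zs.subtype) (Subgroup.mem_sup_left hvC)
      (Subgroup.mem_sup_right (Subgroup.mem_map_of_mem Zs.subtype hker))
    simpa using this

/-- Grün's lemma: if `hyp(F) = S`, the quotient by the centre has trivial centre. -/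
theorem center_factor_eq_bot (hS : IsPGroup p S) (hF : F.IsSaturated p) (hperf : F.hyperfocalSubgroup p = S)
    (E : FusionSystem (⊤ : Subgroup (S ⧸ F.center.subgroupOf S)))
    (hE : F.IsFactorSystem F.center (QuotientGroup.mk' (F.center.subgroupOf S)) E) : E.center = ⊥ := by
  set π := QuotientGroup.mk' (F.center.subgroupOf S) with hπ
  haveI : Finite (⊤ : Subgroup (S ⧸ F.center.subgroupOf S)) := inferInstance
  have hcen := center_isCentral F
  have hEc := center_isCentral E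
  rw [eq_bot_iff]
  intro tb htb
  obtain ⟨t, rfl⟩ := QuotientGroup.mk'_surjective (F.center.subgroupOf S) tb
  rw [Subgroup.mem_bot, QuotientGroup.mk'_apply, QuotientGroup.eq_one_iff, Subgroup.mem_subgroupOf]
  have hsc : F.StronglyClosed F.center := isNormal_stronglyClosed (isCentral_isNormal hcen)
  -- maps on subgroups containing `t` move it into the coset `t Z`
  have hmove : ∀ {P : Subgroup Ω} {φ : P →* Ω}, φ ∈ F.Hom P → ∀ ht : (t : Ω) ∈ P,
      (t : Ω)⁻¹ * φ ⟨t, ht⟩ ∈ F.center := by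
    intro P φ hφ ht
    obtain ⟨φ', hφ', hPS, hφS, hm, he⟩ := exists_induced hS hF hsc hE hφ
    obtain ⟨ψ', -, hψe, hψfix⟩ := isCentral_extend hEc hφ'
    have h1 := hψe _ (hm ⟨t, ht⟩) (Subgroup.mem_sup_left (hm ⟨t, ht⟩))
    rw [hψfix _ _ htb, he ⟨t, ht⟩] at h1
    exact Subgroup.mem_subgroupOf.1 (QuotientGroup.eq.1 h1)
  -- `t` lies in `Z(S)`
  have htS : ∀ s ∈ S, (t : Ω)⁻¹ * (s * t * s⁻¹) ∈ F.center := fun s hs =>
    hmove (F.conj_mem (le_refl S) hs) t.2
  have hzc : ∀ z ∈ F.center, ∀ s ∈ S, s * z = z * s := fun z hz s hs => F.center_le_centralizer hz s hs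
  let l : Ω → Ω := fun s => (t : Ω)⁻¹ * (s * t * s⁻¹)
  have hlmul : ∀ a ∈ S, ∀ b ∈ S, l (a * b) = l a * l b := by
    intro a ha b hb
    have e : a * b * (t : Ω) * (a * b)⁻¹ = (a * t * a⁻¹) * (a * l b * a⁻¹) := by
      show _ = _ * (a * ((t : Ω)⁻¹ * (b * t * b⁻¹)) * a⁻¹); group
    show (t : Ω)⁻¹ * _ = _
    rw [e, hzc _ (htS b hb) a ha, mul_inv_cancel_right, ← mul_assoc]
  have hlinv : ∀ {P : Subgroup Ω} {φ : P →* Ω}, φ ∈ F.Hom P → ∀ x : P, l (φ x) = l x := by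
    intro P φ hφ x
    obtain ⟨φ', hφ', hPS, hφS, hm, he⟩ := exists_induced hS hF hsc hE hφ
    obtain ⟨ψ', hψ', hψe, hψfix⟩ := isCentral_extend hEc hφ'
    obtain ⟨-, ψ, hψ, hQS, hψS, hψm, hψi⟩ := (hE.2.2.2 _ ψ').1 hψ'
    have htQ : (t : Ω) ∈ preimageAlong π (imageAlong π P ⊔ E.center) :=
      (mem_preimageAlong _ _ _).2 ⟨t.2, Subgroup.mem_sup_right htb⟩
    have hxQ : (x : Ω) ∈ preimageAlong π (imageAlong π P ⊔ E.center) :=
      (mem_preimageAlong _ _ _).2 ⟨hPS x.2, Subgroup.mem_sup_left (hm x)⟩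
    have et := hψi ⟨t, htQ⟩
    rw [hψfix _ _ htb] at et
    have h2 : (t : Ω)⁻¹ * ψ ⟨t, htQ⟩ ∈ F.center := Subgroup.mem_subgroupOf.1 (QuotientGroup.eq.1 et)
    have ex := hψi ⟨x, hxQ⟩
    rw [hψe _ (hm x) _, he x] at ex
    have h3 : (φ x)⁻¹ * ψ ⟨x, hxQ⟩ ∈ F.center := Subgroup.mem_subgroupOf.1 (QuotientGroup.eq.1 ex)
    -- compute with `ψ`
    have hlx : l x ∈ F.center := htS x (hPS x.2)
    obtain ⟨χ, hχ, hχe, hχfix⟩ := isCentral_extend hcen hψ
    have hlxQ : l x ∈ preimageAlong π (imageAlong π P ⊔ E.center) :=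
      Subgroup.mul_mem _ (Subgroup.inv_mem _ htQ) (Subgroup.mul_mem _ (Subgroup.mul_mem _ hxQ htQ) (Subgroup.inv_mem _ hxQ))
    have hψl : ψ ⟨l x, hlxQ⟩ = l x := by
      rw [← hχe _ hlxQ (Subgroup.mem_sup_left hlxQ)]; exact hχfix _ _ hlx
    have e1 : ψ ⟨l x, hlxQ⟩ = (ψ ⟨t, htQ⟩)⁻¹ * (ψ ⟨x, hxQ⟩ * ψ ⟨t, htQ⟩ * (ψ ⟨x, hxQ⟩)⁻¹) := by
      rw [← map_inv, ← map_inv, ← map_mul, ← map_mul, ← map_mul]; rfl
    set a := (t : Ω)⁻¹ * ψ ⟨t, htQ⟩ with hadef
    set b := (φ x)⁻¹ * ψ ⟨x, hxQ⟩ with hbdef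
    rw [show ψ ⟨t, htQ⟩ = (t : Ω) * a by rw [hadef, mul_inv_cancel_left],
      show ψ ⟨x, hxQ⟩ = φ x * b by rw [hbdef, mul_inv_cancel_left], hψl] at e1
    rw [e1]
    have ha := hzc a h2
    have hb := hzc b h3
    show (t : Ω)⁻¹ * (φ x * t * (φ x)⁻¹) = _
    have hy := hφS x
    refine Eq.symm ?_
    calc ((t : Ω) * a)⁻¹ * (φ x * b * (t * a) * (φ x * b)⁻¹)
        = a⁻¹ * ((t : Ω)⁻¹ * (φ x * (b * t) * (a * b⁻¹) * (φ x)⁻¹)) := by group
      _ = a⁻¹ * ((t : Ω)⁻¹ * (φ x * (t * b) * (b⁻¹ * a) * (φ x)⁻¹)) := by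
          rw [hb t t.2, ha b⁻¹ (S.inv_mem (center_le F h3))]
      _ = a⁻¹ * ((t : Ω)⁻¹ * φ x * t * (a * (φ x)⁻¹)) := by group
      _ = a⁻¹ * (((t : Ω)⁻¹ * φ x * t * (φ x)⁻¹) * a) := by
          rw [← ha _ (S.inv_mem hy)]; group
      _ = (t : Ω)⁻¹ * (φ x * t * (φ x)⁻¹) := by
          rw [ha _ (S.mul_mem (S.mul_mem (S.mul_mem (S.inv_mem t.2) hy) t.2) (S.inv_mem hy))]; group
  have hzS : ∀ s ∈ S, s * (t : Ω) = t * s := by
    let lh : S →* Ω := MonoidHom.mk' (fun s => l s) fun a b => hlmul a a.2 b b.2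
    have hle : F.hyperfocalSubgroup p ≤ lh.ker.map S.subtype := by
      refine (hyperfocal_le_focal F).trans ((Subgroup.closure_le _).2 ?_)
      rintro _ ⟨P, φ, x, hφ, rfl⟩
      refine ⟨(⟨x, hom_le F hφ x.2⟩ : S)⁻¹ * ⟨φ x, hom_apply_mem F hφ x⟩, ?_, rfl⟩
      show lh _ = 1
      rw [map_mul, map_inv, inv_mul_eq_one]
      exact (hlinv hφ x).symm
    intro s hs
    obtain ⟨w, hw, hwe⟩ := hle (hperf.symm ▸ hs)
    have h1 : l (w : Ω) = 1 := hw
    rw [← hwe]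
    have h2 := inv_mul_eq_one.1 h1
    exact (mul_inv_eq_iff_eq_mul.1 h2.symm)
  -- `⟨t⟩` is central
  have hT : Subgroup.zpowers (t : Ω) ≤ S := Subgroup.zpowers_le.2 t.2
  have hC : centralizerIn S (Subgroup.zpowers (t : Ω)) = S := by
    refine le_antisymm (centralizerIn_le _ _) (le_inf le_rfl fun s hs y hy => ?_)
    obtain ⟨i, rfl⟩ := hy
    exact (Commute.zpow_right (hzS s hs) i).symm
  suffices h : F.IsCentral (Subgroup.zpowers (t : Ω)) from isCentral_le_center h (Subgroup.mem_zpowers _)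
  refine ⟨hT, fun P φ hφ => ?_⟩
  have key : ∀ (U : Subgroup Ω) (C : FusionSystem U), U = S →
      (∀ R, C.Hom R = F.centralizerHom (Subgroup.zpowers (t : Ω)) R) → φ ∈ C.Hom P := by
    rintro U C rfl hspec
    refine alperin hS hF (fun R hR => (Subgroup.closure_le _).2 fun α hα => ?_) P hφ
    have hn : F.IsFullyNormalized R := hR.elim (fun e => e ▸ fullyNormalized_top F) fun e => e.2.1
    have hRS := hn.1
    have htR : (t : Ω) ∈ R := by
      rcases hR with rfl | he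
      · exact t.2
      · exact centralizerIn_le_of_centric he.1 ⟨t.2, fun r hr => hzS r (hRS hr)⟩
    haveI := finite_of_le (S := U) hRS
    let dd : F.autGroup R → Ω := fun β => (t : Ω)⁻¹ * (((β : MulAut R) ⟨t, htR⟩ : R) : Ω)
    have hdc : ∀ β, dd β ∈ F.center := fun β => by
      obtain ⟨ψ, hψ, -, he⟩ := autGroup_apply_mem_hom F hRS β.2
      have := hmove hψ htR
      rwa [he] at this
    let d : F.autGroup R →* Ω := MonoidHom.mk' dd fun β γ => by
      have hmem : dd γ ∈ R := R.mul_mem (R.inv_mem htR) ((γ : MulAut R) ⟨t, htR⟩).2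
      have hfix : (β : MulAut R) ⟨dd γ, hmem⟩ = ⟨dd γ, hmem⟩ := by
        obtain ⟨ψ, -, hψe, hψf⟩ := isCentral_extend hcen ((mem_autGroup_iff F hRS _).1 β.2)
        refine Subtype.ext ?_
        exact (hψe _ hmem (Subgroup.mem_sup_left hmem)).symm.trans (hψf _ _ (hdc γ))
      have e : (γ : MulAut R) ⟨t, htR⟩ = ⟨t, htR⟩ * ⟨dd γ, hmem⟩ :=
        Subtype.ext (mul_inv_cancel_left _ _).symm
      show (t : Ω)⁻¹ * (((β : MulAut R) ((γ : MulAut R) ⟨t, htR⟩) : R) : Ω) = dd β * dd γ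
      rw [e, map_mul, hfix]
      simp [dd, mul_assoc]
    have hd : ∀ β, d β = 1 := by
      have hzp : IsPGroup p F.center := isPGroup_of_le hS (center_le F)
      have hres : pResidual p (F.autGroup R) ≤ d.ker := by
        refine (Subgroup.closure_le _).2 fun β hβ => ?_
        have h1 : d β ^ orderOf β = 1 := by rw [← map_pow, pow_orderOf_eq_one, map_one]
        obtain ⟨k, hk⟩ := IsPGroup.iff_orderOf.1 hzp ⟨d β, hdc β⟩
        have hk : orderOf (d β) = p ^ k := (orderOf_injective F.center.subtype F.center.subtype_injective ⟨d β, hdc β⟩).trans hk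
        have hco : Nat.Coprime (p ^ k) (orderOf β) := Nat.Coprime.pow_left k (Nat.Coprime.symm hβ)
        have := Nat.dvd_gcd (hk ▸ dvd_rfl : orderOf (d β) ∣ p ^ k) (orderOf_dvd_of_pow_eq_one h1)
        rw [hco] at this
        exact orderOf_eq_one_iff.1 (Nat.dvd_one.1 this)
      obtain ⟨W, hW⟩ := (fullyNormalized_imp hS hF hn).2.2
      haveI := Cfsg.Agent.PBasic.pResidual_normal_inst p (F.autGroup R)
      intro β
      have hsup : β ∈ (W : Subgroup (F.autGroup R)) ⊔ pResidual p (F.autGroup R) := by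
        rw [Cfsg.Agent.PBasic.sylow_sup_pResidual]; exact Subgroup.mem_top _
      refine MonoidHom.mem_ker.1 ((sup_le (fun c hc => ?_) hres : _ ≤ d.ker) hsup)
      rw [hW] at hc
      obtain ⟨g, hg, hge⟩ := (mem_autInducedBy_iff (c : MulAut R)).1 hc
      show (t : Ω)⁻¹ * _ = 1
      rw [hge, hzS g hg, mul_inv_cancel_right, inv_mul_cancel]
    have hα' := (mem_autGroup_iff F hRS α).1 (Subgroup.subset_closure hα)
    have htriv := hd ⟨α, Subgroup.subset_closure hα⟩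
    have hsup : R ⊔ Subgroup.zpowers (t : Ω) ≤ R := sup_le le_rfl (Subgroup.zpowers_le.2 htR)
    refine Subgroup.subset_closure ?_
    show R.subtype.comp α.toMonoidHom ∈ C.Hom R
    rw [hspec]
    refine ⟨hα', hC.symm ▸ hRS, fun x => hC.symm ▸ hRS (α x).2, _, restrict_mem F hα' hsup, fun x => rfl, ?_⟩
    rintro ⟨y, i, rfl⟩
    show ((α ⟨(t : Ω) ^ i, _⟩ : R) : Ω) = (t : Ω) ^ i
    have e : (⟨(t : Ω) ^ i, R.zpow_mem htR i⟩ : R) = ⟨t, htR⟩ ^ i := rfl
    rw [e, map_zpow, Subgroup.coe_zpow, ← inv_mul_eq_one.1 (show (t : Ω)⁻¹ * ((α ⟨t, htR⟩ : R) : Ω) = 1 from htriv)]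
  obtain ⟨-, -, -, ψ, hψ, h1, h2⟩ := (key _ (centSystem F hT) hC fun R => rfl)
  exact ⟨ψ, hψ, h1, h2⟩

end Cfsg.Agent.FusionSys
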