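import Cfsg.Agent.Lib.Fusion.FunctorCenterJ
import Cfsg.Agent.S2800

/-!
# A constrained group whose characteristic subgroups of a Sylow subgroup have trivial coprime automizers

If `C_L(O_p(L)) ≤ O_p(L)` and no nontrivial element of order prime to `p` normalizes a nontrivial characteristic
subgroup of a Sylow subgroup without centralizing it, then `L` is a `p`-group (`p` odd or `L` `S₄`-free).
-/

set_option autoImplicit false
set_option linter.style.haveILetI false

namespace Cfsg.Agent.FusionSys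

open Cfsg

universe u

variable {L : Type u} [Group L] {p : ℕ} [hp : Fact p.Prime]

theorem isPGroup_of_coprime_trivial [Finite L] (h : ∀ g : L, (orderOf g).Coprime p → g = 1) : IsPGroup p L := by
  intro g
  obtain ⟨a, m, hm, hn⟩ := Nat.exists_eq_pow_mul_and_not_dvd (orderOf_pos g).ne' p hp.out.ne_one
  refine ⟨a, h _ ?_⟩
  rw [orderOf_pow, hn, Nat.gcd_mul_right_left, Nat.mul_div_cancel_left m (pow_pos hp.out.pos a)]
  exact ((Nat.Prime.coprime_iff_not_dvd hp.out).2 hm).symm

/-- A coprime lift of a coprime element. -/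
theorem exists_coprime_lift [Finite L] {L' : Type u} [Group L'] (f : L →* L') (hf : Function.Surjective f) {g : L'}
    (hg : (orderOf g).Coprime p) : ∃ g₀ : L, f g₀ = g ∧ (orderOf g₀).Coprime p := by
  obtain ⟨g₁, rfl⟩ := hf g
  obtain ⟨a, m, hm, hn⟩ := Nat.exists_eq_pow_mul_and_not_dvd (orderOf_pos g₁).ne' p hp.out.ne_one
  have hco : (p ^ a).Coprime m := ((Nat.Prime.coprime_iff_not_dvd hp.out).2 hm).pow_left a
  obtain ⟨e, he1, he2⟩ := Nat.chineseRemainder hco 0 1
  have hdm : orderOf (f g₁) ∣ m :=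
    (hg.pow_right a).dvd_of_dvd_mul_left (hn ▸ orderOf_map_dvd f g₁)
  refine ⟨g₁ ^ e, ?_, ?_⟩
  · rw [map_pow]
    exact (pow_eq_pow_iff_modEq.2 (he2.of_dvd hdm)).trans (pow_one _)
  · refine Nat.Coprime.coprime_dvd_left ?_ ((Nat.Prime.coprime_iff_not_dvd hp.out).2 hm).symm
    refine orderOf_dvd_of_pow_eq_one ?_
    rw [← pow_mul, ← orderOf_dvd_iff_pow_eq_one, hn]
    exact mul_dvd_mul (Nat.modEq_zero_iff_dvd.1 he1) dvd_rfl

omit hp in
theorem commute_of_series {C Q : Subgroup L} (hC : IsPGroup p C) {g : L} (hg : (orderOf g).Coprime p)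
    (hfix : ∀ c ∈ C, g * c = c * g) (h : ∀ q ∈ Q, g * q * g⁻¹ * q⁻¹ ∈ C) : ∀ q ∈ Q, g * q = q * g := by
  intro q hq
  set c := g * q * g⁻¹ * q⁻¹ with hc
  have hcC := h q hq
  have hgc : Commute g c := hfix c hcC
  have hiter : ∀ n : ℕ, g ^ n * q * (g ^ n)⁻¹ = c ^ n * q := by
    intro n
    induction n with
    | zero => simp
    | succ n ih =>
      have e : g * (g ^ n * q * (g ^ n)⁻¹) * g⁻¹ = g ^ (n + 1) * q * (g ^ (n + 1))⁻¹ := by
        rw [pow_succ' g n]; group
      rw [← e, ih, show g * (c ^ n * q) * g⁻¹ = (g * c ^ n) * q * g⁻¹ by group, (hgc.pow_right n).eq,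
        show c ^ n * g * q * g⁻¹ = c ^ n * ((g * q * g⁻¹ * q⁻¹) * q) by group, ← hc, pow_succ]
      group
  have h1 := hiter (orderOf g)
  rw [pow_orderOf_eq_one, one_mul, inv_one, mul_one] at h1
  have hc1 : orderOf c ∣ orderOf g := orderOf_dvd_of_pow_eq_one (mul_eq_right.1 h1.symm)
  obtain ⟨k, hk⟩ := hC ⟨c, hcC⟩
  have hck : orderOf c ∣ p ^ k := orderOf_dvd_of_pow_eq_one (congrArg Subtype.val hk)
  have hone : c = 1 := orderOf_eq_one_iff.1 (Nat.eq_one_of_dvd_coprimes (hg.pow_right k) hc1 hck)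
  calc g * q = (g * q * g⁻¹ * q⁻¹) * q * g := by group
    _ = q * g := by rw [← hc, hone, one_mul]

theorem centralizer_thompsonA_le {Q : Type u} [Group Q] [Finite Q] :
    Subgroup.centralizer ((thompsonSubgroupA Q : Subgroup Q) : Set Q) ≤ thompsonSubgroupA Q := by
  intro x hx
  obtain ⟨A, hA, hmax⟩ := Set.exists_max_image {A : Subgroup Q | IsMulCommutative A} (fun A => Nat.card A)
    (Set.toFinite _) ⟨⊥, IsMulCommutative.of_setLike_mul_comm fun x hx y hy => by
      rw [Subgroup.mem_bot.1 hx, Subgroup.mem_bot.1 hy]⟩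
  have hAJ : A ≤ thompsonSubgroupA Q := le_sSup ⟨hA, fun B hB => hmax B hB⟩
  set B := Subgroup.closure ((A : Set Q) ∪ {x}) with hB
  have hcomm : IsMulCommutative B := by
    have hpair : ∀ a ∈ (A : Set Q) ∪ {x}, ∀ b ∈ (A : Set Q) ∪ {x}, a * b = b * a := by
      rintro a (ha | rfl) b (hb | rfl)
      · exact congrArg Subtype.val (hA.is_comm.comm (⟨a, ha⟩ : A) ⟨b, hb⟩)
      · exact Subgroup.mem_centralizer_iff.1 hx a (hAJ ha)
      · exact (Subgroup.mem_centralizer_iff.1 hx b (hAJ hb)).symm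
      · rfl
    refine .of_setLike_mul_comm fun a ha b hb => ?_
    have h1 : B ≤ Subgroup.centralizer ((A : Set Q) ∪ {x}) := (Subgroup.closure_le _).2
      fun s hs => Subgroup.mem_centralizer_iff.2 fun t ht => hpair t ht s hs
    have h2 : B ≤ Subgroup.centralizer (B : Set Q) := (Subgroup.closure_le _).2
      fun s hs => Subgroup.mem_centralizer_iff.2 fun t ht => (Subgroup.mem_centralizer_iff.1 (h1 ht) s hs).symm
    exact (Subgroup.mem_centralizer_iff.1 (h2 ha) b hb).symm
  have hle : A ≤ B := fun a ha => Subgroup.subset_closure (Or.inl ha)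
  have he : A = B := Subgroup.eq_of_le_of_card_ge hle (hmax _ hcomm)
  exact hAJ (he ▸ Subgroup.subset_closure (Or.inr rfl))

theorem comap_mk_characteristic {Q : Type u} [Group Q] {Z : Subgroup Q} [Z.Normal] [hZ : Z.Characteristic]
    {W : Subgroup (Q ⧸ Z)} [hW : W.Characteristic] : (W.comap (QuotientGroup.mk' Z)).Characteristic := by
  refine Subgroup.characteristic_iff_comap_eq.2 fun φ => ?_
  set ψ := QuotientGroup.congr Z Z φ (Subgroup.characteristic_iff_map_eq.1 hZ φ)
  have e := Subgroup.characteristic_iff_comap_eq.1 hW ψ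
  ext x
  show QuotientGroup.mk' Z (φ x) ∈ W ↔ QuotientGroup.mk' Z x ∈ W
  conv_rhs => rw [← e]
  rfl

theorem pCore_centralizer_of_le [Finite L] {M : Subgroup L}
    (hM : pCore p L ≤ M) (hc : Subgroup.centralizer ((pCore p L : Subgroup L) : Set L) ≤ pCore p L) :
    Subgroup.centralizer ((pCore p M : Subgroup M) : Set M) ≤ pCore p M := by
  haveI := Cfsg.Agent.FiniteGroup.pCore_normal (G := L) p
  haveI : ((pCore p L).subgroupOf M).Normal := Subgroup.normal_subgroupOf
  have hle : (pCore p L).subgroupOf M ≤ pCore p M :=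
    Cfsg.Agent.PBasic.le_pCore inferInstance (Cfsg.Agent.FiniteGroup.pCore_isPGroup (G := L) p).comap_subtype
  intro x hx
  refine hle (Subgroup.mem_subgroupOf.2 (hc (Subgroup.mem_centralizer_iff.2 fun q hq => ?_)))
  exact congrArg Subtype.val (Subgroup.mem_centralizer_iff.1 hx ⟨q, hM hq⟩ (hle (Subgroup.mem_subgroupOf.2 hq)))

/-- The group lemma. -/
theorem isPGroup_of_char : ∀ (L : Type u) [Group L] [Finite L] (Q₀ : Type u) [Group Q₀] (ι : Q₀ →* L),
    Function.Injective ι → (∃ P : Sylow p L, (P : Subgroup L) = ι.range) →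
    Subgroup.centralizer ((pCore p L : Subgroup L) : Set L) ≤ pCore p L →
    (p ≠ 2 ∨ ¬ Involves (Equiv.Perm (Fin 4)) L) →
    (∀ W : Subgroup Q₀, W.Characteristic → W ≠ ⊥ →
      ∀ g ∈ Subgroup.normalizer ((W.map ι : Subgroup L) : Set L), (orderOf g).Coprime p →
        g ∈ Subgroup.centralizer ((W.map ι : Subgroup L) : Set L)) →
    IsPGroup p L := by
  intro L _ _
  induction hn : Nat.card L using Nat.strong_induction_on generalizing L with
  | _ n ih =>
  intro Q₀ _ ι hι hP hc h4 hW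
  obtain ⟨P, hP⟩ := hP
  haveI : Finite Q₀ := Finite.of_injective ι hι
  have hQ₀ : IsPGroup p Q₀ := by
    have := P.isPGroup'
    rw [hP] at this
    exact this.of_equiv (MonoidHom.ofInjective hι).symm
  haveI hcn := Cfsg.Agent.FiniteGroup.pCore_normal (G := L) p
  have hcp := Cfsg.Agent.FiniteGroup.pCore_isPGroup (G := L) p
  have hcP : pCore p L ≤ (P : Subgroup L) := Cfsg.Agent.PBasic.pCore_le_sylow P
  -- a coprime element centralizing the core is trivial
  have htriv : ∀ g : L, (orderOf g).Coprime p → (∀ q ∈ pCore p L, g * q = q * g) → g = 1 := by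
    intro g hg hgc
    have hgO : g ∈ pCore p L := hc (Subgroup.mem_centralizer_iff.2 fun q hq => (hgc q hq).symm)
    obtain ⟨k, hk⟩ := hcp ⟨g, hgO⟩
    exact orderOf_eq_one_iff.1 (Nat.eq_one_of_dvd_coprimes (hg.pow_right k) dvd_rfl
      (orderOf_dvd_of_pow_eq_one (congrArg Subtype.val hk)))
  rcases subsingleton_or_nontrivial Q₀ with hsub | hnt
  · have hrange : ι.range = ⊥ := by
      rw [eq_bot_iff]
      rintro _ ⟨x, rfl⟩
      rw [Subsingleton.elim x 1, map_one]
      exact one_mem _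
    refine isPGroup_of_coprime_trivial fun g hg => htriv g hg fun q hq => ?_
    rw [Subgroup.mem_bot.1 ((hP.trans hrange).le (hcP hq)), one_mul, mul_one]
  -- proper overgroups
  have hover : ∀ M : Subgroup L, ι.range ≤ M → M ≠ ⊤ → IsPGroup p M := by
    intro M hle hne
    have hlt : Nat.card M < n := hn ▸ lt_of_le_of_ne (Subgroup.card_le_card_group M) fun e =>
      hne ((Subgroup.card_eq_iff_eq_top M).1 e)
    refine ih _ hlt M rfl Q₀ (ι.codRestrict M fun x => hle ⟨x, rfl⟩)
      (fun a b hab => hι (congrArg Subtype.val hab)) ⟨P.subtype (hP.trans_le hle), ?_⟩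
      (pCore_centralizer_of_le (hcP.trans (hP.trans_le hle)) hc)
      (h4.imp_right fun h hi => h (involves_of_injective M.subtype M.subtype_injective hi)) ?_
    · ext ⟨x, hx⟩
      rw [Sylow.coe_subtype, Subgroup.mem_subgroupOf, hP]
      exact ⟨fun ⟨y, hy⟩ => ⟨y, Subtype.ext hy⟩, fun ⟨y, hy⟩ => ⟨y, congrArg Subtype.val hy⟩⟩
    · intro W hWc hW1 g hg hgo
      have hmap : W.map ι = (W.map (ι.codRestrict M fun x => hle ⟨x, rfl⟩)).map M.subtype := by
        rw [Subgroup.map_map]; rfl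
      have h := hW W hWc hW1 (g : L)
        (by rw [hmap]; exact Subgroup.le_normalizer_map M.subtype ⟨g, hg, rfl⟩)
        (by rwa [Subgroup.orderOf_coe])
      refine Subgroup.mem_centralizer_iff.2 ?_
      rintro _ ⟨w, hw, rfl⟩
      exact Subtype.ext (Subgroup.mem_centralizer_iff.1 h _ ⟨w, hw, rfl⟩)
  -- the Thompson subgroup
  set J := thompsonSubgroupA Q₀ with hJ
  have hJc : J.Characteristic := Subgroup.characteristic_iff_map_eq.2 fun φ => map_thompsonA φ
  have hJ1 : J ≠ ⊥ := (isCharPFunctor_thompsonA p).1 Q₀ hQ₀ hnt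
  have hJP : thompsonSubgroupAOf (P : Subgroup L) = J.map ι := by
    rw [hP, thompsonSubgroupAOf, ← map_thompsonA (MonoidHom.ofInjective hι), Subgroup.map_map]
    rfl
  have hPN : ι.range ≤ Subgroup.normalizer ((J.map ι : Subgroup L) : Set L) := by
    rintro _ ⟨x, rfl⟩
    refine Subgroup.le_normalizer_map ι ⟨x, ?_, rfl⟩
    haveI := hJc
    rw [Subgroup.normalizer_eq_top_iff.2 inferInstance]
    trivial
  by_cases hNt : Subgroup.normalizer ((J.map ι : Subgroup L) : Set L) = ⊤
  · refine isPGroup_of_coprime_trivial fun g hg => htriv g hg ?_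
    have hgJ : ∀ h : L, (orderOf h).Coprime p → h ∈ Subgroup.centralizer ((J.map ι : Subgroup L) : Set L) :=
      fun h hh => hW J hJc hJ1 h (hNt ▸ Subgroup.mem_top h) hh
    haveI : (J.map ι).Normal := Subgroup.normalizer_eq_top_iff.1 hNt
    refine commute_of_series (C := (J.map ι)) (hQ₀.to_subgroup J |>.map ι) hg
      (fun c hc' => (Subgroup.mem_centralizer_iff.1 (hgJ g hg) c hc').symm) fun q hq => ?_
    have h1 : g * q * g⁻¹ * q⁻¹ ∈ ι.range :=
      hP.le (hcP ((pCore p L).mul_mem (hcn.conj_mem q hq g) ((pCore p L).inv_mem hq)))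
    obtain ⟨x, hx⟩ := h1
    have h2 : g * q * g⁻¹ * q⁻¹ ∈ Subgroup.centralizer ((J.map ι : Subgroup L) : Set L) := by
      rw [show g * q * g⁻¹ * q⁻¹ = g * (q * g⁻¹ * q⁻¹) by group]
      exact Subgroup.mul_mem _ (hgJ g hg) (Subgroup.Normal.conj_mem inferInstance _
        (Subgroup.inv_mem _ (hgJ g hg)) q)
    rw [← hx] at h2 ⊢
    refine ⟨x, centralizer_thompsonA_le (Subgroup.mem_centralizer_iff.2 fun y hy => hι ?_), rfl⟩
    rw [map_mul, map_mul]
    exact Subgroup.mem_centralizer_iff.1 h2 _ ⟨y, hy, rfl⟩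
  -- the centre
  set Z : Subgroup L := (P : Subgroup L) ⊓ Subgroup.centralizer ((P : Subgroup L) : Set L) with hZ
  have hPZ : ι.range ≤ Subgroup.centralizer (Z : Set L) := fun x hx => Subgroup.mem_centralizer_iff.2
    fun z hz => (Subgroup.mem_centralizer_iff.1 (Subgroup.mem_inf.1 hz).2 x (hP.ge hx)).symm
  by_cases hCt : Subgroup.centralizer (Z : Set L) = ⊤
  · have hZc : ∀ z ∈ Z, ∀ g : L, g * z = z * g := fun z hz g =>
      (Subgroup.mem_centralizer_iff.1 (hCt ▸ Subgroup.mem_top g) z hz).symm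
    haveI hZn : Z.Normal := ⟨fun z hz g => by rwa [hZc z hz g, mul_inv_cancel_right] ⟩
    have hmemZ : ∀ x : Q₀, ι x ∈ Z ↔ x ∈ Subgroup.center Q₀ := by
      intro x
      rw [hZ, Subgroup.mem_inf, hP, Subgroup.mem_centralizer_iff, Subgroup.mem_center_iff]
      refine ⟨fun h y => hι (by rw [map_mul, map_mul]; exact h.2 _ ⟨y, rfl⟩), fun h => ⟨⟨x, rfl⟩, ?_⟩⟩
      rintro _ ⟨y, rfl⟩
      rw [← map_mul, ← map_mul, h y]
    set f := QuotientGroup.mk' Z
    set ι' : Q₀ ⧸ Subgroup.center Q₀ →* L ⧸ Z :=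
      QuotientGroup.map _ Z ι fun x hx => (hmemZ x).2 hx with hι'
    have hι'mk : ∀ x : Q₀, ι' (QuotientGroup.mk' _ x) = f (ι x) := fun x => rfl
    have hι'inj : Function.Injective ι' := by
      rw [injective_iff_map_eq_one]
      intro a ha
      obtain ⟨x, rfl⟩ := QuotientGroup.mk'_surjective _ a
      rw [hι'mk] at ha
      exact (QuotientGroup.eq_one_iff x).2 ((hmemZ x).1 ((QuotientGroup.eq_one_iff _).1 ha))
    have hrange : ι'.range = (P : Subgroup L).map f := by
      rw [hP, MonoidHom.map_range]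
      ext a
      constructor
      · rintro ⟨b, rfl⟩
        obtain ⟨x, rfl⟩ := QuotientGroup.mk'_surjective _ b
        exact ⟨x, rfl⟩
      · rintro ⟨x, rfl⟩
        exact ⟨_, hι'mk x⟩
    have hZp : IsPGroup p Z := P.isPGroup'.to_le inf_le_left
    have hlt : Nat.card (L ⧸ Z) < n := by
      have hZ1 : 1 < Nat.card Z := by
        haveI := hQ₀.center_nontrivial
        obtain ⟨a, ha⟩ := exists_ne (1 : Subgroup.center Q₀)
        haveI : Nontrivial Z := ⟨⟨⟨ι a, (hmemZ a).2 a.2⟩, 1, fun e => ha (Subtype.ext (hι ((congrArg Subtype.val e).trans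
          (map_one ι).symm)))⟩⟩
        exact Finite.one_lt_card
      rw [← hn, Subgroup.card_eq_card_quotient_mul_card_subgroup Z]
      exact lt_mul_of_one_lt_right Nat.card_pos hZ1
    have hq : IsPGroup p (L ⧸ Z) := by
      refine ih _ hlt (L ⧸ Z) rfl _ ι' hι'inj ?_ ?_
        (h4.imp_right fun h hi => h (involves_of_surjective f (QuotientGroup.mk'_surjective Z) hi)) ?_
      · exact ⟨P.mapSurjective (QuotientGroup.mk'_surjective Z), by rw [Sylow.coe_mapSurjective, hrange]⟩
      · set Qb := (pCore p L).map f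
        haveI : Qb.Normal := hcn.map f (QuotientGroup.mk'_surjective Z)
        have hQb : Qb ≤ pCore p (L ⧸ Z) := Cfsg.Agent.PBasic.le_pCore inferInstance (hcp.map f)
        refine le_trans (Subgroup.centralizer_le hQb) (Cfsg.Agent.PBasic.le_pCore inferInstance ?_)
        refine isPGroup_of_coprime_trivial fun a ha => ?_
        obtain ⟨g, hge, hgo⟩ := exists_coprime_lift f (QuotientGroup.mk'_surjective Z)
          (g := (a : L ⧸ Z)) (by rwa [Subgroup.orderOf_coe])
        refine Subtype.ext ?_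
        rw [← hge, htriv g hgo (commute_of_series (C := Z) hZp hgo (fun z hz => hZc z hz g) fun q hq => ?_),
          map_one, Subgroup.coe_one]
        rw [← QuotientGroup.eq_one_iff]
        show f (g * q * g⁻¹ * q⁻¹) = 1
        rw [map_mul, map_mul, map_mul, map_inv, map_inv, hge,
          ← Subgroup.mem_centralizer_iff.1 a.2 (f q) ⟨q, hq, rfl⟩]
        group
      · intro W hWc hW1 g hg hgo
        obtain ⟨g₀, rfl, hg₀⟩ := exists_coprime_lift f (QuotientGroup.mk'_surjective Z) hgo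
        set W₀ := W.comap (QuotientGroup.mk' (Subgroup.center Q₀)) with hW₀
        haveI := hWc
        have hW₀c : W₀.Characteristic := comap_mk_characteristic
        have hW₀1 : W₀ ≠ ⊥ := fun e => hW1 (by
          rw [← Subgroup.map_comap_eq_self_of_surjective (QuotientGroup.mk'_surjective (Subgroup.center Q₀)) W,
            ← hW₀, e, Subgroup.map_bot])
        have hmap : W₀.map ι = (W.map ι').comap f ⊓ ι.range := by
          ext y
          constructor
          · rintro ⟨x, hx, rfl⟩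
            exact ⟨⟨_, hx, hι'mk x⟩, ⟨x, rfl⟩⟩
          · rintro ⟨⟨w, hw, hwe⟩, x, rfl⟩
            refine ⟨x, ?_, rfl⟩
            show QuotientGroup.mk' _ x ∈ W
            rwa [← hι'inj (hwe.trans (hι'mk x).symm)]
        have hcomap : (W.map ι').comap f ≤ ι.range := by
          intro y hy
          obtain ⟨w, hw, hwe⟩ := hy
          obtain ⟨x, rfl⟩ := QuotientGroup.mk'_surjective _ w
          rw [hι'mk] at hwe
          have : (ι x)⁻¹ * y ∈ Z := (QuotientGroup.eq).1 hwe
          have h2 := Subgroup.mul_mem _ (show ι x ∈ ι.range from ⟨x, rfl⟩) (hP.le (Subgroup.mem_inf.1 this).1)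
          rwa [mul_inv_cancel_left] at h2
        have hgN : g₀ ∈ Subgroup.normalizer ((W₀.map ι : Subgroup L) : Set L) := by
          rw [hmap, inf_eq_left.2 hcomap, Subgroup.mem_normalizer_iff]
          intro y
          rw [Subgroup.mem_comap, Subgroup.mem_comap, map_mul, map_mul, map_inv]
          exact Subgroup.mem_normalizer_iff.1 hg (f y)
        have hc₀ := hW W₀ hW₀c hW₀1 g₀ hgN hg₀
        refine Subgroup.mem_centralizer_iff.2 ?_
        rintro _ ⟨w, hw, rfl⟩
        obtain ⟨x, rfl⟩ := QuotientGroup.mk'_surjective _ w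
        rw [hι'mk, ← map_mul, ← map_mul]
        exact congrArg f (Subgroup.mem_centralizer_iff.1 hc₀ _ ⟨x, hw, rfl⟩)
    intro g
    obtain ⟨j, hj⟩ := hq (f g)
    have hmem : g ^ p ^ j ∈ Z := (QuotientGroup.eq_one_iff _).1 ((map_pow f g (p ^ j)).trans hj)
    obtain ⟨k, hk⟩ := hZp ⟨_, hmem⟩
    refine ⟨j + k, ?_⟩
    rw [pow_add, pow_mul]
    exact congrArg Subtype.val hk
  -- both proper
  have hM1 := hover _ hPN hNt
  have hM2 := hover _ hPZ hCt
  obtain ⟨T, K, hKn, hKc⟩ := S2800.result P h4 (Cfsg.Agent.PBasic.hasNormalPComplement_of_isPGroup hM2)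
    (by rw [hJP]; exact Cfsg.Agent.PBasic.hasNormalPComplement_of_isPGroup hM1)
  have hK : ∀ k ∈ K, k = 1 := by
    intro k hk
    have hKco : (Nat.card K).Coprime p := by
      refine ((Nat.Prime.coprime_iff_not_dvd hp.out).2 ?_).symm
      rw [← hKc.index_eq_card]
      exact T.not_dvd_index
    refine htriv k (Nat.Coprime.coprime_dvd_left (Subgroup.orderOf_dvd_natCard _ hk) hKco) fun q hq => ?_
    refine (Subgroup.commute_of_normal_of_disjoint K _ hKn hcn ?_ k q hk hq).eq
    rw [disjoint_iff, eq_bot_iff]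
    intro x hx
    obtain ⟨j, hj⟩ := hcp ⟨x, hx.2⟩
    exact Subgroup.mem_bot.2 (orderOf_eq_one_iff.1 (Nat.eq_one_of_dvd_coprimes
      (hKco.pow_right j) (Subgroup.orderOf_dvd_natCard _ hx.1) (orderOf_dvd_of_pow_eq_one (congrArg Subtype.val hj))))
  intro g
  obtain ⟨⟨k, t⟩, rfl⟩ := hKc.2 g
  obtain ⟨j, hj⟩ := T.isPGroup' t
  refine ⟨j, ?_⟩
  show ((k : L) * (t : L)) ^ p ^ j = 1
  rw [hK _ k.2, one_mul]
  exact congrArg Subtype.val hj

end Cfsg.Agent.FusionSys
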