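import Cfsg.Agent.Lib.Fusion.ModelLocal
import Cfsg.Prelude.Def_FusionComponents

/-!
# Invariant subsystems of constrained systems
-/

set_option autoImplicit false

namespace Cfsg.Agent.FusionSys

open Cfsg Cfsg.FusionSystem

universe u

variable {Ω : Type u} [Group Ω] {S T : Subgroup Ω} [Finite S] {p : ℕ} [hp : Fact p.Prime]
  {F : FusionSystem S} {E : FusionSystem T}

omit [Finite S] hp in
theorem stronglyClosed_of_subsystem {U : Subgroup Ω} (hU : F.StronglyClosed U) (hUT : U ≤ T)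
    (hE : E.IsSubsystemOf F) : E.StronglyClosed U :=
  ⟨hUT, fun R hR φ hφ x => stronglyClosed_apply_mem hU (hE R hφ) x (hR x.2)⟩

/-- The intersection with a normal subgroup is normal in an invariant saturated subsystem. -/
theorem isNormal_inf_of_weaklyNormal (hS : IsPGroup p S) (hE : E.IsWeaklyNormalIn F p) {U : Subgroup Ω}
    (hU : F.IsNormal U) : E.IsNormal (T ⊓ U) := by
  obtain ⟨hEs, hFs, hsub, hT, -, -⟩ := hE
  haveI := finite_of_le (S := S) hT.1
  have hTS := hT.1
  have hR := stronglyClosed_inf hT (isNormal_stronglyClosed hU)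
  have hRn := stronglyClosed_le_normalizer hR
  refine isNormal_of_le_centricRadical (hS.to_le hTS) hEs (stronglyClosed_of_subsystem hR inf_le_left hsub)
    fun P hc hr => ?_
  have hPS : P ≤ S := hc.1.trans hTS
  haveI := finite_of_le (S := S) hPS
  refine le_of_normalizer_le (hS.to_le hTS) hc.1 inf_le_left (hTS.trans hRn) fun x hx hxN => ?_
  set K : Subgroup (MulAut P) := autInducedBy (T ⊓ U) P with hK
  have hKA : K ≤ E.autGroup P := fun a ha => by
    obtain ⟨g, hg, hge⟩ := (mem_autInducedBy_iff a).1 ha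
    exact autInducedBy_le_autGroup E hc.1 ((mem_autInducedBy_iff a).2 ⟨g, hg.1, hge⟩)
  have hKn : (K.subgroupOf (E.autGroup P)).Normal := ⟨fun a ha g => by
    obtain ⟨n, hn, hne⟩ := (mem_autInducedBy_iff (a : MulAut P)).1 ha
    obtain ⟨ψ, hψ, hψe, hψU⟩ := hU.2 P _ (hsub P ((mem_autGroup_iff E hc.1 _).1 g.2))
    set w : ↥(P ⊔ U) := ⟨n, Subgroup.mem_sup_right hn.2⟩
    refine (mem_autInducedBy_iff _).2 ⟨ψ w, ⟨stronglyClosed_apply_mem hT hψ w hn.1, hψU.le ⟨w, hn.2, rfl⟩⟩, fun y => ?_⟩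
    show (((g : MulAut P) ((a : MulAut P) ((g : MulAut P)⁻¹ y)) : P) : Ω) = ψ w * y * (ψ w)⁻¹
    set z := (g : MulAut P)⁻¹ y
    have hy : (y : Ω) = ψ (Subgroup.inclusion le_sup_left z) := by
      rw [hψe]
      exact congrArg Subtype.val ((g : MulAut P).apply_symm_apply y).symm
    rw [hy, ← map_inv, ← map_mul, ← map_mul]
    refine Eq.trans (hψe ((a : MulAut P) z)).symm (congrArg ψ (Subtype.ext ?_))
    exact hne z⟩
  obtain ⟨c, hc', hce⟩ := exists_conjAut (K := T ⊓ U) hx hxN
  have hKp : IsPGroup p (K.subgroupOf (E.autGroup P)) :=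
    (autInducedBy_isPGroup (hS.to_le (inf_le_left.trans hTS) : IsPGroup p (T ⊓ U : Subgroup Ω))).comap_of_injective _
      (E.autGroup P).subtype_injective
  have h1 : (⟨c, hKA hc'⟩ : E.autGroup P) ∈ Cfsg.pCore p (E.autGroup P) :=
    Cfsg.Agent.PBasic.le_pCore hKn hKp hc'
  exact mem_of_conj_mem_inn (F := E) (centralizerIn_le_of_centric hc) hx.1 hc.1 hce (hr.2.le ⟨_, h1, rfl⟩)

/-- An invariant saturated subsystem of a constrained system is constrained. -/
theorem constrained_of_weaklyNormal (hS : IsPGroup p S) (hF : F.IsConstrained p) (hE : E.IsWeaklyNormalIn F p) :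
    E.IsConstrained p := by
  obtain ⟨hFs, Q, hQn, hQc⟩ := hF
  obtain ⟨G, _, ι, hM⟩ := exists_model hS hFs ⟨hQn, hQc⟩
  haveI := hM.1
  set U := preim ι (Cfsg.pCore p G) with hUdef
  have hU : CentricNormal F U := model_centricNormal hM
  have hrad : F.IsRadical p U := (model_pCore_eq_iff hM hU).1 (le_antisymm (fun g hg => by
    obtain ⟨s, rfl⟩ := model_pCore_le hM hg
    exact ⟨s, mem_preim.2 hg, rfl⟩) (by rintro _ ⟨s, hs, rfl⟩; exact mem_preim.1 hs))
  have hn := isNormal_inf_of_weaklyNormal hS hE hU.normal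
  obtain ⟨hEs, -, hsub, hT, -, -⟩ := hE
  haveI := finite_of_le (S := S) hU.le
  haveI := finite_of_le (S := S) hT.1
  refine ⟨hEs, T ⊓ U, hn, hn.1, ?_⟩
  rintro R ⟨φ, hφ, rfl⟩
  have hle : φ.range ≤ T ⊓ U := by
    rintro _ ⟨y, rfl⟩
    exact stronglyClosed_apply_mem (stronglyClosed_inf hT (isNormal_stronglyClosed hU.normal)) (hsub _ hφ) y y.2
  haveI : Finite ↥(T ⊓ U) := finite_of_le (S := T) inf_le_left
  have hr : φ.range = T ⊓ U := Subgroup.eq_of_le_of_card_ge hle (isConj_card ⟨φ, hφ, rfl⟩).le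
  rw [hr]
  rintro x ⟨hxT, hxC⟩
  refine ⟨hxT, ?_⟩
  have hTn := stronglyClosed_le_normalizer hT
  refine mem_of_stabilizer hS hU.centric hrad (ι := Bool) (fun j => if j then U else T ⊓ U)
    (fun j => if j then T ⊓ U else ⊥) ?_ ?_ ?_ (hT.1 hxT) (hU.normalizer (hT.1 hxT)) ?_
  · intro j α hα y hy
    cases j
    · exact stronglyClosed_autGroup_mem (stronglyClosed_inf hT (isNormal_stronglyClosed hU.normal)) hU.le hα y hy
    · exact (α y).2
  · intro j α hα y hy
    cases j
    · obtain rfl : y = 1 := Subtype.ext hy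
      simp
    · exact stronglyClosed_autGroup_mem (stronglyClosed_inf hT (isNormal_stronglyClosed hU.normal)) hU.le hα y hy
  · intro α hα hco hst
    refine MulEquiv.ext fun y => ?_
    refine fix_of_step (hS.to_le hU.le) hco (y := y) ?_
    have h1 : ((y⁻¹ * α y : U) : Ω) ∈ T ⊓ U := hst true y y.2
    have h2 : ((y⁻¹ * α y : U) : Ω)⁻¹ * (α (y⁻¹ * α y) : U) ∈ (⊥ : Subgroup Ω) := hst false (y⁻¹ * α y) h1
    exact (inv_mul_eq_one.1 (Subtype.ext (Subgroup.mem_bot.1 h2))).symm
  · intro j y hy hyA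
    cases j
    · have h := Subgroup.mem_centralizer_iff.1 hxC y hyA
      show y⁻¹ * (x * y * x⁻¹) ∈ (⊥ : Subgroup Ω)
      rw [Subgroup.mem_bot, ← h]
      group
    · refine ⟨?_, U.mul_mem (U.inv_mem hy) ((Subgroup.mem_normalizer_iff.1 (hU.normalizer (hT.1 hxT)) y).1 hy)⟩
      have h1 := (Subgroup.mem_normalizer_iff.1 (hTn (S.inv_mem (hU.le hy))) x).1 hxT
      have := T.mul_mem h1 (T.inv_mem hxT)
      simpa [mul_assoc] using this

/-- Subnormal subsystems of constrained systems are constrained. -/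
theorem constrained_of_subnormal {q : ℕ} {U S' : Subgroup Ω} {E' : FusionSystem U} {F' : FusionSystem S'}
    (h : E'.IsSubnormalIn F' q) :
    q.Prime → IsPGroup q S' → Finite S' → F'.IsConstrained q → E'.IsConstrained q := by
  induction h with
  | refl => exact fun _ _ _ h => h
  | step hED hDF ih =>
    intro hq hp' hfin hF'
    haveI := hfin
    haveI := Fact.mk hq
    have hle := hDF.1.2.2.2.1.1
    exact ih hq (hp'.to_le hle) (finite_of_le hle) (constrained_of_weaklyNormal hp' hF' hDF.1)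

end Cfsg.Agent.FusionSys
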