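import Cfsg.Agent.Lib.Fusion.SimpleTransport
import Cfsg.Agent.Lib.Fusion.Subsystem
import Cfsg.Agent.Lib.Fusion.NormalConstrained

/-!
# Constrained systems: transport along an isomorphism, and subnormal subgroups
-/

set_option autoImplicit false

namespace Cfsg.Agent.FusionSys

open Cfsg Cfsg.FusionSystem

variable {Ω Ω' : Type*} [Group Ω] [Group Ω'] {S : Subgroup Ω} {T : Subgroup Ω'} {ι : S →* Ω'}

theorem IsFusIso.constrained_pull [Finite S] {p : ℕ} [Fact p.Prime] {F : FusionSystem S} {E : FusionSystem T}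
    (h : IsFusIso F E ι) (hE : E.IsConstrained p) : F.IsConstrained p := by
  obtain ⟨hEs, Q', hn, hc⟩ := hE
  have hQ'T := hn.1
  set Q := preimageAlong ι Q'
  have hQS : Q ≤ S := Subgroup.map_subtype_le _
  have himg : imageAlong ι Q = Q' := IsFusIso.imageAlong_preimage h.range hQ'T
  refine ⟨h.saturated hEs, Q, ⟨hQS, fun P φ hφ => ?_⟩, hQS, fun R hR => ?_⟩
  · obtain ⟨φ', hφ', he⟩ := h.exists_push hφ
    obtain ⟨ψ', hψ', hψe', hψQ'⟩ := hn.2 _ φ' hφ'
    have hP := hom_le F hφ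
    have hPQ : P ⊔ Q ≤ S := sup_le hP hQS
    have hle : imageAlong ι (P ⊔ Q) ≤ imageAlong ι P ⊔ Q' := by rw [imageAlong_sup hP hQS, himg]
    obtain ⟨ψ, hψ, hψS, hψe⟩ := h.exists_pull hPQ (restrict_mem E hψ' hle)
    refine ⟨ψ, hψ, fun x => ?_, ?_⟩
    · refine congrArg Subtype.val (h.inj (a₁ := ⟨_, hψS _⟩) (a₂ := ⟨φ x, hom_apply_mem F hφ x⟩) ?_)
      rw [← hψe _ (imageAlong_mem (Subgroup.inclusion le_sup_left x).2), ← he x (imageAlong_mem x.2)]
      exact hψe' ⟨ι ⟨x, hP x.2⟩, imageAlong_mem x.2⟩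
    · ext y
      constructor
      · rintro ⟨z, hz, rfl⟩
        refine ⟨⟨ψ z, hψS z⟩, show ι _ ∈ Q' from ?_, rfl⟩
        rw [← hψe z (imageAlong_mem z.2)]
        exact hψQ'.le ⟨⟨_, hle (imageAlong_mem z.2)⟩, himg.le (imageAlong_mem (ι := ι) (P := Q) (x := ⟨z, hPQ z.2⟩) hz), rfl⟩
      · rintro ⟨⟨y, hyS⟩, hy, rfl⟩
        obtain ⟨⟨w, hw⟩, hwQ, hwe⟩ := hψQ'.ge hy
        obtain ⟨u, hu, rfl⟩ := himg.ge hwQ
        refine ⟨⟨u, Subgroup.mem_sup_right hu⟩, hu, ?_⟩
        refine congrArg Subtype.val (h.inj (a₁ := ⟨_, hψS _⟩) (a₂ := ⟨y, hyS⟩) ?_)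
        rw [← hψe ⟨u, Subgroup.mem_sup_right hu⟩ (imageAlong_mem (Subgroup.mem_sup_right hu))]
        exact hwe
  · obtain ⟨φ, hφ, rfl⟩ := hR
    obtain ⟨φ', hφ', he⟩ := h.exists_push hφ
    have hRS : φ.range ≤ S := by rintro _ ⟨x, rfl⟩; exact hom_apply_mem F hφ x
    have h1 := hc.2 _ ⟨_, restrict_mem E hφ' himg.ge, rfl⟩
    have hr : (φ'.comp (Subgroup.inclusion himg.ge)).range = imageAlong ι φ.range := by
      rw [← h.push_range hφ he]
      ext y
      constructor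
      · rintro ⟨x, rfl⟩; exact ⟨_, rfl⟩
      · rintro ⟨x, rfl⟩; exact ⟨⟨x, himg.le x.2⟩, rfl⟩
    rw [hr, ← imageAlong_centralizerIn h.inj h.range hRS rfl] at h1
    intro x hx
    obtain ⟨y, hy, hye⟩ := h1 (imageAlong_mem (x := ⟨x, (centralizerIn_le _ _) hx⟩) hx)
    rw [h.inj hye] at hy
    exact hy

section subgroup

variable {G : Type*} [Group G] {p : ℕ}

/-- The system of a normal subgroup, read inside the subgroup itself. -/
theorem isFusIso_normal {S H K : Subgroup G} (hHK : H ≤ K) :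
    IsFusIso (groupFusionSystem (S.subgroupOf H))
      (fusionSystemOfSubgroup (H.subgroupOf K) (S.subgroupOf K ⊓ H.subgroupOf K) inf_le_right)
      ((Subgroup.inclusion hHK).comp (S.subgroupOf H).subtype) := by
  refine ⟨(Subgroup.inclusion_injective hHK).comp (Subgroup.subtype_injective _), ?_, fun P hP φ hφ φ' he => ?_⟩
  · ext y
    exact ⟨by rintro ⟨x, rfl⟩; exact ⟨x.2, x.1.2⟩, fun ⟨h1, h2⟩ => ⟨⟨⟨y, h2⟩, h1⟩, rfl⟩⟩
  constructor
  · rintro ⟨-, -, g, hg⟩
    refine ⟨?_, ?_, Subgroup.inclusion hHK g, g.2, ?_⟩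
    · rintro _ ⟨x, -, rfl⟩; exact ⟨x.2, x.1.2⟩
    · rintro ⟨_, x, hx, rfl⟩
      exact (he ⟨x, hx⟩ ⟨x, hx, rfl⟩) ▸ ⟨hφ ⟨x, hx⟩, (φ ⟨x, hx⟩).2⟩
    · rintro ⟨_, x, hx, rfl⟩
      exact (he ⟨x, hx⟩ ⟨x, hx, rfl⟩).trans ((congrArg (Subgroup.inclusion hHK) (hg ⟨x, hx⟩)).trans (by simp))
  · rintro ⟨-, -, g, hgH, hg⟩
    refine ⟨hP, hφ, ⟨g, hgH⟩, fun x => Subtype.ext ?_⟩
    have h1 := (he x (imageAlong_mem x.2)).symm.trans (hg ⟨_, imageAlong_mem (P := P) x.2⟩)
    exact congrArg (fun z : K => (z : G)) h1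

variable [Finite G] [Fact p.Prime]

/-- The systems of subnormal subgroups of a group with constrained system are constrained. -/
theorem constrained_subnormal_subgroup (S : Sylow p G) (hF : (groupFusionSystem (S : Subgroup G)).IsConstrained p)
    {H : Subgroup G} (hH : H.IsSubnormal) :
    IsSyl p ((S : Subgroup G).subgroupOf H) ⊤ ∧
      (groupFusionSystem ((S : Subgroup G).subgroupOf H)).IsConstrained p := by
  induction hH with
  | top =>
    refine ⟨⟨le_top, S.2.comap_of_injective _ Subtype.coe_injective, ?_⟩, ?_⟩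
    · rw [Subgroup.relIndex_top_right, show ((S : Subgroup G).subgroupOf ⊤).index = (S : Subgroup G).index from
        Subgroup.relIndex_top_right _]
      exact S.not_dvd_index
    · exact (IsFusIso.constrained_pull (ι := (⊤ : Subgroup G).subtype.comp ((S : Subgroup G).subgroupOf ⊤).subtype)
        ⟨(Subgroup.subtype_injective _).comp (Subgroup.subtype_injective _), by
          rw [MonoidHom.range_comp, Subgroup.range_subtype, Subgroup.map_subgroupOf_eq_of_le le_top],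
          fun P hP φ hφ φ' he => by
          constructor
          · rintro ⟨-, -, g, hg⟩
            refine ⟨?_, ?_, g, ?_⟩
            · rintro _ ⟨x, -, rfl⟩; exact x.2
            · rintro ⟨_, x, hx, rfl⟩; exact (he ⟨x, hx⟩ ⟨x, hx, rfl⟩) ▸ hφ ⟨x, hx⟩
            · rintro ⟨_, x, hx, rfl⟩; exact (he ⟨x, hx⟩ ⟨x, hx, rfl⟩).trans (congrArg Subtype.val (hg ⟨x, hx⟩))
          · rintro ⟨-, -, g, hg⟩
            refine ⟨hP, hφ, ⟨g, Subgroup.mem_top g⟩, fun x => Subtype.ext ?_⟩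
            exact (he x (imageAlong_mem x.2)).symm.trans (hg ⟨_, imageAlong_mem (P := P) x.2⟩)⟩ hF)
  | step H K hle _ hn ih =>
    haveI := hn
    obtain ⟨hsyl, hK⟩ := ih
    obtain ⟨U, hU⟩ : ∃ U : Sylow p K, (U : Subgroup K) = (S : Subgroup G).subgroupOf K :=
      ⟨hsyl.2.1.toSylow (Subgroup.relIndex_top_right (H := (S : Subgroup G).subgroupOf K) ▸ hsyl.2.2), rfl⟩
    rw [← hU] at hK
    have h1 := constrained_of_weaklyNormal U.2 hK (isWeaklyNormalIn_of_normal U (H.subgroupOf K))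
    have hi := isFusIso_normal (S := (S : Subgroup G)) hle
    refine ⟨?_, ?_⟩
    · have h2 := isSyl_inf_normal U (H.subgroupOf K)
      rw [hU] at h2
      refine ⟨le_top, S.2.comap_of_injective _ Subtype.coe_injective, ?_⟩
      have h3 := h2.2.2
      rw [Subgroup.inf_relIndex_right] at h3
      rw [Subgroup.relIndex_top_right]
      change ¬ p ∣ (S : Subgroup G).relIndex H
      rwa [Subgroup.relIndex_subgroupOf hle] at h3
    · haveI : Finite ((S : Subgroup G).subgroupOf H) := inferInstance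
      refine hi.constrained_pull ?_
      rw [← hU]
      exact h1

end subgroup

end Cfsg.Agent.FusionSys
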