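import Cfsg.Agent.Lib.Fusion.NoninnerLocal

/-!
# Constrained non-inner subsystems; sparse systems
-/

set_option autoImplicit false

namespace Cfsg.Agent.FusionSys

open Cfsg Cfsg.FusionSystem

universe u

variable {Ω : Type u} [Group Ω] {p : ℕ} [hp : Fact p.Prime]

/-- Moving a system along an equality of carriers. -/
theorem exists_cast {S T : Subgroup Ω} (h : T = S) (M : FusionSystem T) :
    ∃ M' : FusionSystem S, (∀ P, M'.Hom P = M.Hom P) ∧ (M.IsSaturated p → M'.IsSaturated p) ∧
      ((∀ P, M'.Hom P = (innerFusionSystem S).Hom P) → ∀ P, M.Hom P = (innerFusionSystem T).Hom P) ∧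
      (M.IsConstrained p → M'.IsConstrained p) := by
  subst h
  exact ⟨M, fun _ => rfl, id, id, id⟩

/-- A non-inner saturated system contains a non-inner constrained system on the same group. -/
theorem exists_constrained_noninner (hp2 : p ≠ 2) :
    ∀ (n : ℕ) (S : Subgroup Ω) [Finite S] (F : FusionSystem S), sysRank F = n → IsPGroup p S → F.IsSaturated p →
      (¬ ∀ P, F.Hom P = (innerFusionSystem S).Hom P) →
      ∃ E : FusionSystem S, (∀ P, E.Hom P ⊆ F.Hom P) ∧ E.IsConstrained p ∧
        ¬ ∀ P, E.Hom P = (innerFusionSystem S).Hom P := by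
  intro n
  induction n using Nat.strong_induction_on with
  | _ n ih =>
  intro S _ F hn hS hF hne
  by_cases hc : F.IsConstrained p
  · exact ⟨F, fun _ => subset_rfl, hc, hne⟩
  obtain ⟨U, hU, hUN, hUQ, hUi⟩ := exists_noninner_normalizer hS hF (Or.inl hp2) hne hc
  have hN := normSystem_spec F hU
  have he : normalizerIn S U = S := le_antisymm (normalizerIn_le S U) hUN
  haveI : Finite (normalizerIn S U) := finite_of_le (normalizerIn_le S U)
  have hUn := fullyNormalized_of_normal (F := F) hU (fun g hg => (hUN hg).2)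
  obtain ⟨E, hE, hEc, hEn⟩ := ih _ (hn ▸ sysRank_normalizer_lt hU hUQ hN (normalizerSystem_isNormal hU hN))
    (normalizerIn S U) (normSystem F hU) rfl (hS.to_le (normalizerIn_le S U))
    (normalizerSystem_saturated hS hF hUn _ hN) hUi
  obtain ⟨E', hEe, -, hEin, hEcon⟩ := exists_cast (p := p) he E
  refine ⟨E', fun P φ hφ => ?_, hEcon hEc, fun h => hEn (hEin h)⟩
  rw [hEe] at hφ
  have := hE P hφ
  rw [hN P] at this
  exact this.1

/-- Sparse systems are constrained. -/
theorem sparse_constrained {S : Subgroup Ω} [Finite S] (hS : IsPGroup p S) {F : FusionSystem S}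
    (hF : F.IsSaturated p) (h4 : p ≠ 2 ∨ F.IsSectionFree p (Equiv.Perm (Fin 4)))
    (hne : ¬ ∀ P, F.Hom P = (innerFusionSystem S).Hom P)
    (hsp : ∀ E : FusionSystem S, E.IsSaturated p → E.IsSubsystemOf F →
      (∀ P, E.Hom P = F.Hom P) ∨ (∀ P, E.Hom P = (innerFusionSystem S).Hom P)) : F.IsConstrained p := by
  by_contra hc
  obtain ⟨U, hU, hUN, hUQ, hUi⟩ := exists_noninner_normalizer hS hF h4 hne hc
  have hN := normSystem_spec F hU
  have hUn := fullyNormalized_of_normal (F := F) hU (fun g hg => (hUN hg).2)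
  obtain ⟨E', hEe, hEs, hEin, -⟩ :=
    exists_cast (p := p) (le_antisymm (normalizerIn_le S U) hUN) (normSystem F hU)
  rcases hsp E' (hEs (normalizerSystem_saturated hS hF hUn _ hN)) (fun P φ hφ => by
    rw [hEe, hN P] at hφ; exact hφ.1) with h | h
  · refine hUQ (isNormal_le_core ⟨hU, fun P φ hφ => ?_⟩)
    rw [← h, hEe, hN P] at hφ
    obtain ⟨-, -, -, ψ, hψ, h1, h2⟩ := hφ
    exact ⟨ψ, hψ, h1, h2⟩
  · exact hUi (hEin h)

end Cfsg.Agent.FusionSys
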