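import Cfsg.Agent.Lib.Fusion.ComponentFree
import Cfsg.Agent.Lib.Fusion.CentralizerConstrained
import Cfsg.Agent.Lib.Fusion.ConstrainedTransport
import Cfsg.Agent.Lib.Fusion.NoninnerConstrained
import Cfsg.Agent.Lib.Fusion.ModelLocal

/-!
# Characteristic `p`-type or component type

When the centralizer systems of fully normalized subgroups of order `p` are constrained, so are all local
systems.
-/

set_option autoImplicit false

namespace Cfsg.Agent.FusionSys.CompFree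

open Cfsg Cfsg.FusionSystem

variable {Ω : Type*} [Group Ω] {S : Subgroup Ω} [Finite S] {p : ℕ} [hp : Fact p.Prime] {F : FusionSystem S}

omit [Finite S] hp in
/-- Moving a map of a centralizer system along a map of the system. -/
theorem exists_cent_move {N U U₁ : Subgroup Ω} {σ : N →* Ω} (hσ : σ ∈ F.Hom N) (hUN : U ≤ N)
    (hσU : (σ.comp (Subgroup.inclusion hUN)).range = U₁) (hCN : centralizerIn S U ≤ N) {P : Subgroup Ω}
    {φ : P →* Ω} (hφ : φ ∈ F.centralizerHom U P) :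
    ∃ φ' ∈ F.centralizerHom U₁ ((P.subgroupOf N).map σ),
      ∀ (x : P) (hxN : (x : Ω) ∈ N) (hm : σ ⟨x, hxN⟩ ∈ (P.subgroupOf N).map σ) (hφN : φ x ∈ N),
        φ' ⟨σ ⟨x, hxN⟩, hm⟩ = σ ⟨φ x, hφN⟩ := by
  obtain ⟨-, hPC, hφC, χ, hχ, e1, e2⟩ := hφ
  obtain ⟨σi, hσi, -, h1, -⟩ := exists_inv F hσ
  have hPN := hPC.trans hCN
  have hVN : P ⊔ U ≤ N := sup_le hPN hUN
  have hσV := restrict_mem F hσ hVN
  obtain ⟨τ, hτ, hτr, t1, -⟩ := exists_inv F hσV
  have hχN : ∀ x, χ x ∈ N := apply_mem_of_sup χ (fun x => (e1 x).symm ▸ hCN (hφC x))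
    fun u => (e2 u).symm ▸ hUN u.2
  have g1 := F.comp_mem hτ hχ fun y => hτr.le ⟨y, rfl⟩
  have g2 := F.comp_mem g1 hσ fun y => hχN _
  set P₁ := (P.subgroupOf N).map σ
  have hPV : P₁ ≤ (σ.comp (Subgroup.inclusion hVN)).range := by
    rintro _ ⟨⟨y, hyN⟩, hy, rfl⟩
    exact ⟨⟨y, Subgroup.mem_sup_left hy⟩, rfl⟩
  have hUV : U₁ ≤ (σ.comp (Subgroup.inclusion hVN)).range := by
    rw [← hσU]
    rintro _ ⟨u, rfl⟩
    exact ⟨⟨u, Subgroup.mem_sup_right u.2⟩, rfl⟩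
  set f := σ.comp ((χ.comp (τ.codRestrict (P ⊔ U) fun y => hτr.le ⟨y, rfl⟩)).codRestrict N fun y => hχN _)
  have hval : ∀ (x : ↥(P ⊔ U)) (hm : σ ⟨x, hVN x.2⟩ ∈ (σ.comp (Subgroup.inclusion hVN)).range), f ⟨σ ⟨x, hVN x.2⟩, hm⟩ = σ ⟨χ x, hχN x⟩ :=
    fun x hm => congrArg σ (Subtype.ext (congrArg χ (Subtype.ext (t1 x hm))))
  have hS : ∀ y, f y ∈ S := hom_apply_mem F g2
  refine ⟨_, ⟨restrict_mem F g2 hPV, ?_, ?_, _, restrict_mem F g2 (sup_le hPV hUV), fun x => rfl, ?_⟩,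
    fun x hxN hm hφN => ?_⟩
  · rintro _ ⟨⟨y, hyN⟩, hy, rfl⟩
    refine ⟨hom_apply_mem F hσ _, ?_⟩
    exact apply_mem_centralizer σ hUN hσU _ (hPC hy).2
  · rintro ⟨_, ⟨y, hyN⟩, hy, rfl⟩
    refine ⟨hS _, ?_⟩
    show f ⟨σ ⟨y, hyN⟩, _⟩ ∈ _
    rw [hval ⟨y, Subgroup.mem_sup_left hy⟩ ⟨⟨y, Subgroup.mem_sup_left hy⟩, rfl⟩]
    refine apply_mem_centralizer σ hUN hσU _ ?_
    show χ (Subgroup.inclusion le_sup_left ⟨y, hy⟩) ∈ _
    rw [e1]
    exact (hφC _).2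
  · rintro ⟨w, hw⟩
    obtain ⟨u, rfl⟩ := hσU.ge hw
    refine (hval ⟨u, Subgroup.mem_sup_right u.2⟩ ⟨⟨u, Subgroup.mem_sup_right u.2⟩, rfl⟩).trans ?_
    exact congrArg σ (Subtype.ext (e2 u))
  · refine (hval ⟨x, Subgroup.mem_sup_left x.2⟩ (hPV hm)).trans ?_
    exact congrArg σ (Subtype.ext (e1 x))

/-- Conjugate fully centralized subgroups have centralizer systems that are constrained together. -/
theorem cent_constrained_move {N U U₁ : Subgroup Ω} (hU : U ≤ S) (hU₁ : U₁ ≤ S) {σ : N →* Ω}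
    (hσ : σ ∈ F.Hom N) (hUN : U ≤ N) (hσU : (σ.comp (Subgroup.inclusion hUN)).range = U₁)
    (hCN : centralizerIn S U ≤ N)
    (hcard : Nat.card (centralizerIn S U₁) ≤ Nat.card (centralizerIn S U))
    (h : (centSystem F hU₁).IsConstrained p) : (centSystem F hU).IsConstrained p := by
  haveI := finite_of_le (S := S) (centralizerIn_le S U)
  haveI := finite_of_le (S := S) (centralizerIn_le S U₁)
  set ι := σ.comp (Subgroup.inclusion hCN)
  have hι := restrict_mem F hσ hCN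
  have hrange : ι.range = centralizerIn S U₁ := by
    refine Subgroup.eq_of_le_of_card_ge ?_ (hcard.trans (isConj_card ⟨ι, hι, rfl⟩).le)
    rintro _ ⟨x, rfl⟩
    exact ⟨hom_apply_mem F hι x, apply_mem_centralizer σ hUN hσU _ x.2.2⟩
  obtain ⟨σi, hσi, -, h1, -⟩ := exists_inv F hσ
  have hU₁R : U₁ ≤ σ.range := by rw [← hσU]; rintro _ ⟨u, rfl⟩; exact ⟨_, rfl⟩
  have hC₁R : centralizerIn S U₁ ≤ σ.range := by rw [← hrange]; rintro _ ⟨x, rfl⟩; exact ⟨_, rfl⟩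
  have hback : (σi.comp (Subgroup.inclusion hU₁R)).range = U := by
    refine le_antisymm ?_ fun u hu => ?_
    · rintro _ ⟨⟨w, hw⟩, rfl⟩
      obtain ⟨u, rfl⟩ := hσU.ge hw
      refine Eq.mpr (congrArg (· ∈ U) ?_) u.2
      exact h1 (Subgroup.inclusion hUN u) _
    · exact ⟨⟨_, hσU.le ⟨⟨u, hu⟩, rfl⟩⟩, h1 _ _⟩
  refine IsFusIso.constrained_pull ⟨(?_ : Function.Injective ι), hrange, fun P hP φ hφ φ' he => ?_⟩ h
  · exact F.injective_of_mem hι
  have him : imageAlong ι P = (P.subgroupOf N).map σ := by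
    refine le_antisymm ?_ ?_
    · rintro _ ⟨x, hx, rfl⟩; exact ⟨Subgroup.inclusion hCN x, hx, rfl⟩
    · rintro _ ⟨⟨y, hy⟩, hyP, rfl⟩; exact ⟨⟨y, hP hyP⟩, hyP, rfl⟩
  constructor
  · intro hm
    obtain ⟨φ₁, hφ₁, hφ₁e⟩ := exists_cent_move hσ hUN hσU hCN hm
    refine hom_congr (centSystem F hU₁) (restrict_mem (centSystem F hU₁) hφ₁ him.le) fun y => ?_
    obtain ⟨_, x, hx, rfl⟩ := y
    refine (he ⟨x, hx⟩ ⟨x, hx, rfl⟩).trans ?_
    exact (hφ₁e ⟨x, hx⟩ (hCN x.2) (him.le ⟨x, hx, rfl⟩) (hCN (hφ _))).symm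
  · intro hm
    obtain ⟨φ₂, hφ₂, hφ₂e⟩ := exists_cent_move hσi hU₁R hback hC₁R hm
    have hle : P ≤ ((imageAlong ι P).subgroupOf σ.range).map σi := fun x hx =>
      ⟨⟨σ ⟨x, hCN (hP hx)⟩, _, rfl⟩, ⟨⟨x, hP hx⟩, hx, rfl⟩, h1 _ _⟩
    refine hom_congr (centSystem F hU) (restrict_mem (centSystem F hU) hφ₂ hle) fun x => ?_
    have hxI : σ ⟨x, hCN (hP x.2)⟩ ∈ imageAlong ι P := ⟨⟨x, hP x.2⟩, x.2, rfl⟩
    have e1 : σi ⟨σ ⟨x, hCN (hP x.2)⟩, ⟨_, rfl⟩⟩ = (x : Ω) := h1 _ _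
    refine Eq.trans ?_ (apply_congr φ₂ e1 (by rw [e1]; exact hle x.2) (hle x.2))
    refine Eq.trans ?_ (hφ₂e ⟨_, hxI⟩ ⟨_, rfl⟩ _ (he x hxI ▸ ⟨_, rfl⟩)).symm
    refine Eq.trans (h1 ⟨φ x, hCN (hφ x)⟩ ⟨_, rfl⟩).symm (apply_congr σi ?_ _ _)
    exact (he x hxI).symm

/-- If the centralizer system is constrained then so is the normalizer system. -/
theorem normalizer_constrained (hS : IsPGroup p S) (hF : F.IsSaturated p) {U : Subgroup Ω}
    (hU : F.IsFullyNormalized U) (hc : (centSystem F hU.1).IsConstrained p)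
    {E : FusionSystem (normalizerIn S U)} (hE : F.IsNormalizerSystem U E) : E.IsConstrained p := by
  have hEs := normalizerSystem_saturated hS hF hU E hE
  have hUn : U ≤ normalizerIn S U := le_normalizerIn hU.1
  haveI := finite_of_le (S := S) (normalizerIn_le S U)
  have hNp : IsPGroup p (normalizerIn S U) := hS.to_le (normalizerIn_le S U)
  have hnor := normalizerSystem_isNormal hU.1 hE
  have hC := LayerCore.centralizer_isNormalIn hNp hEs hnor
  have heq : centralizerIn S U = centralizerIn (normalizerIn S U) U :=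
    le_antisymm (fun x hx => ⟨centralizerIn_le_normalizerIn S U hx, hx.2⟩) fun x hx => ⟨hx.1.1, hx.2⟩
  obtain ⟨M, hM, -, -, hMc⟩ := exists_cast (p := p) heq (centSystem F hU.1)
  have hsame : M = centSystem E hUn := hom_ext _ _ fun P => by
    rw [hM P]
    ext φ
    constructor
    · rintro ⟨hφ, hP, hv, ψ, hψ, e1, e2⟩
      have hmap : (U.subgroupOf (P ⊔ U)).map ψ = U := by
        rw [map_subgroupOf_eq_iff _ le_sup_right]
        exact ⟨fun x => (e2 x).symm ▸ x.2, fun y hy => ⟨⟨y, hy⟩, e2 ⟨y, hy⟩⟩⟩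
      have hle : P ⊔ U ≤ normalizerIn S U := sup_le (hP.trans (centralizerIn_le_normalizerIn S U)) hUn
      have hsup : P ⊔ U ⊔ U ≤ P ⊔ U := sup_le le_rfl le_sup_right
      refine ⟨?_, heq ▸ hP, fun x => heq ▸ hv x, ψ, ?_, e1, e2⟩
      · rw [hE P]
        exact ⟨hφ, hP.trans (centralizerIn_le_normalizerIn S U),
          fun x => centralizerIn_le_normalizerIn S U (hv x), ψ, hψ, e1, hmap⟩
      · rw [hE]
        refine ⟨hψ, hle, apply_mem_of_sup ψ (fun x => (e1 x).symm ▸ centralizerIn_le_normalizerIn S U (hv x))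
          (fun x => (e2 x).symm ▸ hUn x.2), _, restrict_mem F hψ hsup, fun x => rfl, ?_⟩
        rw [map_subgroupOf_eq_iff _ le_sup_right]
        exact ⟨fun x => ((e2 x).symm ▸ x.2 : ψ (Subgroup.inclusion le_sup_right x) ∈ U),
          fun y hy => ⟨⟨y, hy⟩, e2 ⟨y, hy⟩⟩⟩
    · rintro ⟨hφ, hP, hv, ψ, hψ, e1, e2⟩
      rw [hE] at hφ hψ
      exact ⟨hφ.1, heq.symm ▸ hP, fun x => heq.symm ▸ hv x, ψ, hψ.1, e1, e2⟩
  have hC' : (centSystem E hUn).IsConstrained p := hsame ▸ hMc hc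
  have hR := core_normal_of_invariant hNp hC.1
  refine ⟨hEs, U ⊔ (centSystem E hUn).core, isNormal_sup hnor hR, isCentric_of_normal (isNormal_sup hnor hR)
    fun x hx => le_sup_right (a := U) (centralizer_core_le hC' ⟨⟨hx.1, ?_⟩, ?_⟩)⟩
  · exact Subgroup.centralizer_le (fun y hy => Subgroup.mem_sup_left hy) hx.2
  · exact Subgroup.centralizer_le (fun y hy => Subgroup.mem_sup_right hy) hx.2

/-- The dichotomy. -/
theorem characteristic_or_component (hS : IsPGroup p S) (hF : F.IsSaturated p) :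
    F.IsOfCharacteristicPType p ∨ F.IsOfComponentType p := by
  rw [or_iff_not_imp_right]
  intro hnc U hU1 hU E hE
  haveI := finite_of_le (S := S) hU.1
  refine normalizer_constrained hS hF hU ?_ hE
  -- an element of order `p` in the centre of `U`
  haveI : Nontrivial U := (Subgroup.nontrivial_iff_ne_bot U).2 hU1
  haveI := (hS.to_le hU.1).center_nontrivial
  obtain ⟨k, hk⟩ := IsPGroup.iff_card.1 ((hS.to_le hU.1).to_subgroup (Subgroup.center U))
  have hk0 : k ≠ 0 := fun h0 => absurd (Finite.one_lt_card (α := Subgroup.center U)) (by simp [hk, h0])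
  obtain ⟨z, hz⟩ := exists_prime_orderOf_dvd_card' (G := Subgroup.center U) p (hk ▸ dvd_pow_self p hk0)
  set X₀ := Subgroup.zpowers (((z : U) : Ω))
  have hX₀U : X₀ ≤ U := Subgroup.zpowers_le.2 (z : U).2
  have hX₀card : Nat.card X₀ = p := by
    rw [Nat.card_zpowers, Subgroup.orderOf_coe, Subgroup.orderOf_coe, hz]
  have hUC : U ≤ Subgroup.centralizer (X₀ : Set Ω) := fun u hu => by
    rw [Subgroup.mem_centralizer_iff]
    intro y hy
    obtain ⟨j, rfl⟩ := Subgroup.mem_zpowers_iff.1 hy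
    have h1 : Commute ((z : U) : Ω) u :=
      (congrArg Subtype.val (Subgroup.mem_center_iff.1 z.2 ⟨u, hu⟩)).symm
    exact h1.zpow_left j
  obtain ⟨X, hX₀X, hX⟩ := exists_fullyNormalized F (hX₀U.trans hU.1)
  obtain ⟨σ, hσ, -, hσX⟩ := exists_normalizer_map_fullyNormalized hS hF hX hX₀X
  have hUN : U ≤ normalizerIn S X₀ := fun u hu => centralizerIn_le_normalizerIn S X₀ ⟨hU.1 hu, hUC hu⟩
  have hX₀N : X₀ ≤ normalizerIn S X₀ := le_normalizerIn (hX₀U.trans hU.1)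
  have hσX' : (σ.comp (Subgroup.inclusion hX₀N)).range = X := by rw [range_restrict, hσX]
  set U₁ := (σ.comp (Subgroup.inclusion hUN)).range with hU₁
  have hU₁S : U₁ ≤ S := range_le F (restrict_mem F hσ hUN)
  have hCN : centralizerIn S U ≤ normalizerIn S X₀ := fun x hx =>
    centralizerIn_le_normalizerIn S X₀ ⟨hx.1, Subgroup.centralizer_le hX₀U hx.2⟩
  have hfc : F.IsFullyCentralized U := (fullyNormalized_imp hS hF hU).1
  have hUU₁ : F.IsConj U U₁ := ⟨_, restrict_mem F hσ hUN, rfl⟩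
  haveI := finite_of_le (S := S) (centralizerIn_le S U₁)
  have hle : Nat.card (centralizerIn S U) ≤ Nat.card (centralizerIn S U₁) :=
    card_le_of_hom F hσ hCN (centralizerIn_le S U₁)
      fun x hx => ⟨hom_apply_mem F hσ _, apply_mem_centralizer σ hUN hU₁.symm ⟨x, hCN hx⟩ hx.2⟩
  have hfc₁ : F.IsFullyCentralized U₁ :=
    ⟨hU₁S, fun Q hQ => (hfc.2 Q (isConj_trans hUU₁ hQ)).trans hle⟩
  refine cent_constrained_move hU.1 hU₁S hσ hUN rfl hCN (hfc.2 U₁ hUU₁) ?_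
  -- the centralizer system of the element of order `p`
  have hXfc := (fullyNormalized_imp hS hF hX).1
  set M := centSystem F hX.1
  haveI := finite_of_le (S := S) (centralizerIn_le S X)
  have hCp : IsPGroup p (centralizerIn S X) := hS.to_le (centralizerIn_le S X)
  have hMs : M.IsSaturated p := centralizerSystem_saturated hS hF hXfc M fun _ => rfl
  have hMc : M.IsConstrained p := constrained_of_no_component hCp hMs fun ⟨T, D, hD⟩ =>
    hnc ⟨X, (isConj_card hX₀X).symm.trans hX₀card, hX, M, fun _ => rfl, T, D, hD⟩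
  have hXU₁ : X ≤ U₁ := by
    rw [← hσX']
    rintro _ ⟨x, rfl⟩
    exact ⟨⟨x, hX₀U x.2⟩, rfl⟩
  have hU₁C : U₁ ≤ centralizerIn S X := by
    rintro _ ⟨x, rfl⟩
    exact ⟨hom_apply_mem F hσ _, apply_mem_centralizer σ hX₀N hσX' _ (hUC x.2)⟩
  have heq : centralizerIn (centralizerIn S X) U₁ = centralizerIn S U₁ :=
    le_antisymm (fun x hx => ⟨hx.1.1, hx.2⟩) fun x hx => ⟨⟨hx.1, Subgroup.centralizer_le hXU₁ hx.2⟩, hx.2⟩
  have hfcM : M.IsFullyCentralized U₁ := by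
    refine ⟨hU₁C, fun Q ⟨φ, hφ, hr⟩ => ?_⟩
    rw [heq]
    refine le_trans ?_ (hfc₁.2 Q ⟨φ, hφ.1, hr⟩)
    haveI := finite_of_le (S := S) (centralizerIn_le S Q)
    exact Subgroup.card_le_of_le fun x hx => ⟨hx.1.1, hx.2⟩
  have hcon := centralizerSystem_constrained hCp hMc hfcM (C := centSystem M hU₁C) fun _ => rfl
  obtain ⟨M', hM', -, -, hM'c⟩ := exists_cast (p := p) heq (centSystem M hU₁C)
  have hsame : M' = centSystem F hU₁S := hom_ext _ _ fun P => by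
    rw [hM' P]
    ext φ
    constructor
    · rintro ⟨hφ, hP, hv, ψ, hψ, e1, e2⟩
      exact ⟨hφ.1, heq ▸ hP, fun x => heq ▸ hv x, ψ, hψ.1, e1, e2⟩
    · rintro ⟨hφ, hP, hv, ψ, hψ, e1, e2⟩
      have hP' : P ≤ centralizerIn S X := fun x hx => ⟨(hP hx).1, Subgroup.centralizer_le hXU₁ (hP hx).2⟩
      have hv' : ∀ x, φ x ∈ centralizerIn S X := fun x =>
        ⟨(hv x).1, Subgroup.centralizer_le hXU₁ (hv x).2⟩
      refine ⟨⟨hφ, hP', hv', _, restrict_mem F hψ (sup_le_sup_left hXU₁ P), e1,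
        fun x => e2 ⟨x, hXU₁ x.2⟩⟩, heq.symm ▸ hP, fun x => heq.symm ▸ hv x, ψ, ?_, e1, e2⟩
      have hsup : P ⊔ U₁ ⊔ X ≤ P ⊔ U₁ := sup_le le_rfl (hXU₁.trans le_sup_right)
      exact ⟨hψ, sup_le hP' hU₁C, apply_mem_of_sup ψ (fun x => (e1 x).symm ▸ hv' x)
        (fun x => (e2 x).symm ▸ hU₁C x.2), _, restrict_mem F hψ hsup, fun x => rfl,
        fun x => e2 ⟨x, hXU₁ x.2⟩⟩
  exact hsame ▸ hM'c hcon

end Cfsg.Agent.FusionSys.CompFree
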