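import Cfsg.Agent.Lib.Fusion.Normal
import Cfsg.Agent.Lib.Transfer.PGroup
import Cfsg.Agent.Lib.TwoGroups.Lifts
import Cfsg.Agent.Lib.FiniteGroup.FrattiniAut
import Cfsg.Prelude.Def_OddOrderLocal

/-!
# Strongly closed metacyclic 2-subgroups

If `x` normalizes a subgroup `Q` of a metacyclic 2-group and `x² ∈ Q`, then `x` stabilizes a characteristic series
of `Q` through `Φ(Q)`, unless the group is dihedral, semidihedral or quaternion.
-/

set_option autoImplicit false

namespace Cfsg.Agent.MetaTwo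

open scoped commutatorElement

variable {G : Type*} [Group G] [Finite G]

/-- Dihedral, generalized quaternion or semidihedral. -/
def Exceptional (G : Type*) [Group G] : Prop :=
  (∃ m : ℕ, Nonempty (G ≃* DihedralGroup m)) ∨ (∃ m : ℕ, Nonempty (G ≃* QuaternionGroup m)) ∨
    Cfsg.IsQuasiDihedral G

/-- An element outside a cyclic subgroup of index two inverting it modulo four. -/
theorem exceptional_of_index_two {a f : G} {m : ℕ} (hgen : ∀ g : G, g ∈ Subgroup.zpowers a ∨ f⁻¹ * g ∈ Subgroup.zpowers a)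
    (hfn : f ∉ Subgroup.zpowers a) (hm : orderOf a = 2 ^ m) (hm2 : 2 ≤ m) {R : ℤ} (hc : f * a * f⁻¹ = a ^ R)
    (hR : R % 4 = 3) (hsq : f * f ∈ Subgroup.zpowers a) : Exceptional G := by
  have hcl : Subgroup.closure ({a, f} : Set G) = ⊤ := by
    refine eq_top_iff.2 fun g _ => ?_
    have ha : Subgroup.zpowers a ≤ Subgroup.closure ({a, f} : Set G) :=
      Subgroup.zpowers_le.2 (Subgroup.subset_closure (Or.inl rfl))
    rcases hgen g with h | h
    · exact ha h
    · have := mul_mem (Subgroup.subset_closure (k := ({a, f} : Set G)) (Or.inr rfl)) (ha h)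
      rwa [mul_inv_cancel_left] at this
  have hR' : ∃ o : ℤ, R = 4 * o + 3 := ⟨R / 4, by omega⟩
  obtain ⟨o, hRo⟩ := hR'
  obtain ⟨t, ht⟩ := Subgroup.mem_zpowers_iff.1 hsq
  set M : ℤ := ((2 ^ (m - 1) : ℕ) : ℤ) with hMdef
  have hM : ((orderOf a : ℕ) : ℤ) = 2 * M := by
    rw [hm, hMdef, show m = m - 1 + 1 by omega, pow_succ']; push_cast; simp
  have hzeq : ∀ i j : ℤ, a ^ i = a ^ j ↔ 2 * M ∣ j - i := fun i j => by
    rw [zpow_eq_zpow_iff_modEq, Int.modEq_iff_dvd, hM]
  have hcop : ∀ i : ℤ, IsCoprime M (2 * i + 1) := fun i => by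
    rw [hMdef]; push_cast
    exact IsCoprime.pow_left ⟨-i, 1, by ring⟩
  -- `f²` is `1` or the involution of `⟨a⟩`
  have ht1 : M ∣ t := by
    have e : a ^ (R * t) = a ^ t := by
      rw [zpow_mul, ← hc, conj_zpow, ht]; group
    rw [hzeq] at e
    have h1 : M ∣ t * (2 * (-o - 1) + 1) := by
      refine Int.dvd_of_mul_dvd_mul_left (two_ne_zero) ?_
      convert e using 1
      rw [hRo]; ring
    exact (hcop _).dvd_of_dvd_mul_right h1
  obtain ⟨s, hs⟩ := ht1
  have hR2 : M ∣ R + 1 := by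
    have e : a ^ (R * R) = a ^ (1 : ℤ) := by
      have e1 : f * f * a * (f * f)⁻¹ = a ^ (R * R) := by
        calc f * f * a * (f * f)⁻¹ = f * (f * a * f⁻¹) * f⁻¹ := by group
          _ = (f * a * f⁻¹) ^ R := by rw [conj_zpow, ← hc]
          _ = a ^ (R * R) := by rw [hc, ← zpow_mul]
      rw [← e1, ← ht, zpow_one]
      group
    rw [hzeq] at e
    have h1 : M ∣ (R + 1) * (2 * (-o - 1) + 1) := by
      refine Int.dvd_of_mul_dvd_mul_left (two_ne_zero) ?_
      convert e using 1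
      rw [hRo]; ring
    exact (hcop _).dvd_of_dvd_mul_right h1
  obtain ⟨u, hu⟩ := hR2
  set z := a ^ M with hz
  have hzz : z * z = 1 := by
    rw [hz, ← zpow_add, ← zpow_zero a, hzeq]
    exact ⟨-1, by ring⟩
  have hodd : ∀ j : ℤ, a ^ (M * j) = if Even j then 1 else z := by
    intro j
    rcases Int.even_or_odd' j with ⟨l, rfl | rfl⟩
    · rw [if_pos (even_two_mul l), ← zpow_zero a, hzeq]; exact ⟨-l, by ring⟩
    · rw [if_neg (by simp [parity_simps]), hz, hzeq]; exact ⟨-l, by ring⟩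
  have hinvz : z⁻¹ = z := inv_eq_of_mul_eq_one_right hzz
  have hm1 : (orderOf a) = 2 * 2 ^ (m - 1) := by rw [hm, ← pow_succ']; congr 1; omega
  have hff : f * f = 1 ∨ f * f = z := by
    rw [← ht, hs, hodd]; split_ifs <;> simp
  by_cases hue : Even u
  · -- `f` inverts `a`
    have hinv : f * a * f⁻¹ = a⁻¹ := by
      rw [hc, show a ^ R = a ^ (M * u) * a⁻¹ by rw [← zpow_neg_one, ← zpow_add]; congr 1; omega, hodd, if_pos hue, one_mul]
    rcases hff with h | h
    · obtain ⟨e⟩ := TwoLift.dihedral_equiv rfl h hinv hfn hcl.symm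
      exact Or.inl ⟨_, ⟨Subgroup.topEquiv.symm.trans e⟩⟩
    · obtain ⟨e⟩ := TwoLift.quaternion_equiv hm1 (by rw [h, hz, hMdef, zpow_natCast]) hinv hfn hcl.symm
      exact Or.inr (Or.inl ⟨_, ⟨Subgroup.topEquiv.symm.trans e⟩⟩)
  · have hconj : f * a * f⁻¹ = z * a⁻¹ := by
      rw [hc, show a ^ R = a ^ (M * u) * a⁻¹ by rw [← zpow_neg_one, ← zpow_add]; congr 1; omega, hodd, if_neg hue]
    have hm3 : 3 ≤ m := by
      by_contra h3
      have hm2' : m = 2 := by omega
      subst hm2'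
      have hM2 : M = 2 := by rw [hMdef]; norm_num
      rw [hM2] at hu
      obtain ⟨u', rfl⟩ := Int.not_even_iff_odd.1 hue
      omega
    obtain ⟨y, hy2, hyn, hyc⟩ : ∃ y, y * y = 1 ∧ y ∉ Subgroup.zpowers a ∧ y * a * y⁻¹ = z * a⁻¹ := by
      rcases hff with h | h
      · exact ⟨f, h, hfn, hconj⟩
      · refine ⟨f * a, ?_, fun hh => hfn ((Subgroup.mul_mem_cancel_right _ (Subgroup.mem_zpowers a)).1 hh), ?_⟩
        · calc f * a * (f * a) = (f * a * f⁻¹) * (f * f) * a := by group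
            _ = z * (a⁻¹ * z) * a := by rw [hconj, h, mul_assoc z]
            _ = z * (z * a⁻¹) * a := by
              rw [hz, ((Commute.zpow_right (Commute.refl a) M).inv_left).eq]
            _ = 1 := by rw [← mul_assoc, hzz, one_mul, inv_mul_cancel]
        · rw [← hconj]; group
    refine Or.inr (Or.inr ⟨m, hm3, ?_, a, y, hm, orderOf_eq_prime (by rw [pow_two, hy2])
      (fun h => hyn (h ▸ one_mem _)), ?_⟩)
    · have hidx : (Subgroup.zpowers a).index = 2 := by
        refine Subgroup.index_eq_two_iff'.2 ⟨f⁻¹, fun g => ?_⟩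
        rcases hgen g with h | h
        · refine Or.inr ⟨h, fun h' => hfn ?_⟩
          have := (Subgroup.mul_mem_cancel_right _ h).1 h'
          exact inv_mem_iff.1 this
        · refine Or.inl ⟨h, fun h' => hfn ?_⟩
          have := (Subgroup.mul_mem_cancel_right _ h').1 h
          exact inv_mem_iff.1 this
      rw [← (Subgroup.zpowers a).card_mul_index, hidx, Nat.card_zpowers, hm, ← pow_succ]
    · rw [hyc, hz, ← zpow_natCast a, ← zpow_neg_one, ← zpow_add]
      congr 1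
      rw [hMdef, Nat.cast_sub Nat.one_le_two_pow]
      push_cast; ring

/-- Squares in a cyclic 2-group: an element is a square or a generator. -/
theorem square_or_gen {C : Type*} [Group C] [IsCyclic C] [Finite C] (hC : IsPGroup 2 C) (c : C) :
    (∃ d : C, c = d ^ 2) ∨ Subgroup.zpowers c = ⊤ := by
  obtain ⟨g, hg⟩ := IsCyclic.exists_generator (α := C)
  obtain ⟨i, rfl⟩ := Subgroup.mem_zpowers_iff.1 (hg c)
  rcases Int.even_or_odd' i with ⟨j, rfl | rfl⟩
  · exact Or.inl ⟨g ^ j, by rw [← zpow_natCast, ← zpow_mul, mul_comm]; rfl⟩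
  · refine Or.inr (eq_top_iff.2 fun d _ => ?_)
    obtain ⟨k, hk⟩ := IsPGroup.iff_orderOf.1 hC g
    have hcop : IsCoprime (2 * j + 1) (2 ^ k : ℤ) := IsCoprime.pow_right ⟨1, -j, by ring⟩
    obtain ⟨x, y, hxy⟩ := hcop
    obtain ⟨l, rfl⟩ := Subgroup.mem_zpowers_iff.1 (hg d)
    refine ⟨x * l, ?_⟩
    show (g ^ (2 * j + 1)) ^ (x * l) = g ^ l
    rw [← zpow_mul, zpow_eq_zpow_iff_modEq, Int.modEq_iff_dvd, hk]
    refine ⟨y * l, ?_⟩
    push_cast
    linear_combination (-l) * hxy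

theorem pow_two_mem_frattini {Q : Subgroup G} (hG : IsPGroup 2 G) {y : G} (hy : y ∈ Q) :
    y * y ∈ (frattini Q).map Q.subtype := by
  haveI : Fact (Nat.Prime 2) := ⟨Nat.prime_two⟩
  exact ⟨(⟨y, hy⟩ : Q) ^ 2, Cfsg.Agent.PGroupBasics.pow_mem_frattini (hG.to_subgroup Q) _, by simp [pow_two]⟩

theorem commutator_mem_frattini {Q : Subgroup G} (hG : IsPGroup 2 G) {u v : G} (hu : u ∈ Q) (hv : v ∈ Q) :
    u * v * u⁻¹ * v⁻¹ ∈ (frattini Q).map Q.subtype := by
  have h := mul_mem (mul_mem (pow_two_mem_frattini hG (mul_mem hu hv))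
    (inv_mem (pow_two_mem_frattini hG hv))) (pow_two_mem_frattini hG (mul_mem hv (inv_mem hu)) : _)
  have e : ∀ a b : Q, a * b * a⁻¹ * b⁻¹ ∈ frattini Q := by
    haveI : Fact (Nat.Prime 2) := ⟨Nat.prime_two⟩
    intro a b
    have hsq := Cfsg.Agent.PGroupBasics.pow_mem_frattini (p := 2) (hG.to_subgroup Q)
    have h2 : a * b * a⁻¹ * b⁻¹ = (a * b) ^ 2 * (b⁻¹ * (a⁻¹) ^ 2 * b) * (b⁻¹) ^ 2 := by
      simp only [pow_two]; group
    rw [h2]
    exact mul_mem (mul_mem (hsq _) (by simpa using (inferInstance : (frattini Q).Normal).conj_mem _ (hsq a⁻¹) b⁻¹))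
      (hsq _)
  exact ⟨_, e ⟨u, hu⟩ ⟨v, hv⟩, rfl⟩

theorem frattini_map_conj_mem {Q : Subgroup G} {h : G} (hN : h ∈ Subgroup.normalizer (Q : Set G)) {y : G}
    (hy : y ∈ (frattini Q).map Q.subtype) : h * y * h⁻¹ ∈ (frattini Q).map Q.subtype := by
  obtain ⟨w, hw, rfl⟩ := hy
  refine ⟨Q.normalizerMonoidHom ⟨h, hN⟩ w, ?_, rfl⟩
  have hc := Subgroup.characteristic_iff_comap_eq.1 (frattini_characteristic (G := Q)) (Q.normalizerMonoidHom ⟨h, hN⟩)
  exact hc.ge hw

/-- The elements of `Q` whose quotient with the conjugate under `h` lies in `Φ(Q)`. -/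
def defect (hG : IsPGroup 2 G) (Q : Subgroup G) (h : G) (hN : h ∈ Subgroup.normalizer (Q : Set G)) : Subgroup G where
  carrier := {y | y ∈ Q ∧ y⁻¹ * (h * y * h⁻¹) ∈ (frattini Q).map Q.subtype}
  one_mem' := ⟨one_mem _, by simp⟩
  mul_mem' := fun {a b} ha hb => by
    refine ⟨mul_mem ha.1 hb.1, ?_⟩
    have hk := ha.2
    have hkQ : a⁻¹ * (h * a * h⁻¹) ∈ Q := Subgroup.map_subtype_le _ hk
    have := mul_mem (mul_mem (commutator_mem_frattini hG (inv_mem hb.1) hkQ) hk) hb.2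
    convert this using 1
    group
  inv_mem' := fun {a} ha => by
    refine ⟨inv_mem ha.1, ?_⟩
    have hkQ : a⁻¹ * (h * a * h⁻¹) ∈ Q := Subgroup.map_subtype_le _ ha.2
    have := mul_mem (commutator_mem_frattini hG ha.1 (inv_mem hkQ)) (inv_mem ha.2)
    convert this using 1
    group

theorem mem_defect {hG : IsPGroup 2 G} {Q : Subgroup G} {h : G} {hN : h ∈ Subgroup.normalizer (Q : Set G)} {y : G} :
    y ∈ defect hG Q h hN ↔ y ∈ Q ∧ y⁻¹ * (h * y * h⁻¹) ∈ (frattini Q).map Q.subtype := Iff.rfl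

theorem frattini_le_defect (hG : IsPGroup 2 G) {Q : Subgroup G} {h : G} (hN : h ∈ Subgroup.normalizer (Q : Set G)) :
    (frattini Q).map Q.subtype ≤ defect hG Q h hN := fun _ hy =>
  ⟨Subgroup.map_subtype_le _ hy, mul_mem (inv_mem hy) (frattini_map_conj_mem hN hy)⟩

/-- Conjugation by `h` sends `e` to an odd power if `⟨e⟩` is normalized, so fixes it modulo `Φ(Q)`. -/
theorem cyclic_le_defect (hG : IsPGroup 2 G) {Q : Subgroup G} {h : G} (hN : h ∈ Subgroup.normalizer (Q : Set G))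
    {e : G} (he : e ∈ Q) (hh : h * e * h⁻¹ ∈ Subgroup.zpowers e) : e ∈ defect hG Q h hN := by
  refine ⟨he, ?_⟩
  obtain ⟨s, hs⟩ := Subgroup.mem_zpowers_iff.1 hh
  rcases Int.even_or_odd' s with ⟨i, rfl | rfl⟩
  · -- then `e` is trivial
    obtain ⟨k, hk⟩ := IsPGroup.iff_orderOf.1 hG e
    have ho : orderOf (h * e * h⁻¹) = orderOf e := MulEquiv.orderOf_eq (MulAut.conj h) e
    rcases Nat.eq_zero_or_pos k with hk0 | hk0
    · rw [hk0, pow_zero, orderOf_eq_one_iff] at hk
      simp [hk]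
    · exfalso
      have h1 : (h * e * h⁻¹) ^ (2 ^ (k - 1) : ℕ) = 1 := by
        rw [← hs, ← zpow_natCast, ← zpow_mul, ← orderOf_dvd_iff_zpow_eq_one, hk]
        refine ⟨i, ?_⟩
        rw [show k = k - 1 + 1 by omega, pow_succ]
        push_cast; ring
      have h2 := orderOf_dvd_of_pow_eq_one h1
      rw [ho, hk, Nat.pow_dvd_pow_iff_le_right (by norm_num)] at h2
      omega
  · rw [← hs, show e⁻¹ * e ^ (2 * i + 1) = (e ^ i) * (e ^ i) by group]
    exact pow_two_mem_frattini hG (zpow_mem he i)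

/-- The series stabilized by `x`. -/
theorem exists_series (hG : IsPGroup 2 G) (hm : Cfsg.IsMetacyclic G) (hex : ¬ Exceptional G) (Q : Subgroup G) {x : G}
    (hxQ : x ∉ Q) (hxN : x ∈ Subgroup.normalizer (Q : Set G)) (hx2 : x * x ∈ Q) :
    ∃ U : Subgroup G, (∀ α : MulAut Q, ∀ y : Q, (y : G) ∈ U → ((α y : Q) : G) ∈ U) ∧
      (∀ y ∈ Q, y⁻¹ * (x * y * x⁻¹) ∈ U) ∧
      ∀ y ∈ Q, y ∈ U → y⁻¹ * (x * y * x⁻¹) ∈ (frattini Q).map Q.subtype := by
  classical
  set Φ := (frattini Q).map Q.subtype with hΦ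
  have hΦinv : ∀ α : MulAut Q, ∀ y : Q, (y : G) ∈ Φ → ((α y : Q) : G) ∈ Φ := by
    rintro α y ⟨w, hw, hwe⟩
    obtain rfl : w = y := Subtype.ext hwe
    exact ⟨α w, (Subgroup.characteristic_iff_comap_eq.1 (frattini_characteristic (G := Q)) α).ge hw, rfl⟩
  by_cases hall : Q ≤ defect hG Q x hxN
  · exact ⟨Φ, hΦinv, fun y hy => (hall hy).2, fun y hy _ => (hall hy).2⟩
  obtain ⟨N, hNn, hNc, hQc⟩ := hm
  haveI := hNn
  haveI := hQc
  set π := QuotientGroup.mk' N
  -- the cyclic part of `Q`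
  obtain ⟨⟨e, heQ, heN⟩, hegen⟩ : ∃ e : (Q ⊓ N : Subgroup G), ∀ y, y ∈ Subgroup.zpowers e := by
    haveI : IsCyclic (Q ⊓ N : Subgroup G) :=
      isCyclic_of_injective (Subgroup.inclusion inf_le_right) (Subgroup.inclusion_injective inf_le_right)
    exact IsCyclic.exists_generator
  have hegen' : ∀ y ∈ Q, y ∈ N → y ∈ Subgroup.zpowers e := fun y hy hyN => by
    obtain ⟨i, hi⟩ := hegen ⟨y, hy, hyN⟩
    exact ⟨i, congrArg Subtype.val hi⟩
  obtain ⟨⟨_, f, hfQ, rfl⟩, hfgen⟩ := IsCyclic.exists_generator (α := Q.map π)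
  have hdec : ∀ y ∈ Q, ∃ j : ℤ, (f ^ j)⁻¹ * y ∈ Subgroup.zpowers e := fun y hy => by
    obtain ⟨j, hj⟩ := hfgen ⟨π y, y, hy, rfl⟩
    refine ⟨j, hegen' _ (mul_mem (inv_mem (zpow_mem hfQ j)) hy) ((QuotientGroup.eq).1 ?_)⟩
    exact (map_zpow π f j).trans (congrArg Subtype.val hj)
  have hQle : ∀ H : Subgroup G, e ∈ H → f ∈ H → Q ≤ H := fun H he hf y hy => by
    obtain ⟨j, hj⟩ := hdec y hy
    have := mul_mem (zpow_mem hf j) (Subgroup.zpowers_le.2 he hj)
    rwa [mul_inv_cancel_left] at this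
  have hconjN : ∀ g ∈ Subgroup.normalizer (Q : Set G), g * e * g⁻¹ ∈ Subgroup.zpowers e := fun g hg =>
    hegen' _ ((Subgroup.mem_normalizer_iff.1 hg e).1 heQ) (hNn.conj_mem _ heN g)
  have hfD : f ∉ defect hG Q x hxN := fun h => hall (hQle _ (cyclic_le_defect hG hxN heQ (hconjN x hxN)) h)
  have hGN : IsPGroup 2 (G ⧸ N) := hG.to_quotient N
  -- `x` lies in `Q N`
  have hxQN : π x ∈ Q.map π := by
    by_contra hno
    refine hfD ?_
    have hgen : ∀ c ∈ Q.map π, c ∈ Subgroup.zpowers (π (x * x)) := by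
      obtain ⟨g, hg⟩ := IsCyclic.exists_generator (α := G ⧸ N)
      intro c hc
      obtain ⟨i, hi⟩ := Subgroup.mem_zpowers_iff.1 (hg (π x))
      obtain ⟨l, rfl⟩ := Subgroup.mem_zpowers_iff.1 (hg c)
      obtain ⟨K, hK⟩ := IsPGroup.iff_orderOf.1 hGN g
      -- `i = 2^v * odd`
      rcases Nat.eq_zero_or_pos i.natAbs with h0 | h0
      · exact absurd (by rw [← hi, Int.natAbs_eq_zero.1 h0, zpow_zero]; exact one_mem _) hno
      obtain ⟨v, w, hw, hvw⟩ := Nat.exists_eq_pow_mul_and_not_dvd h0.ne' 2 (by norm_num)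
      have hw2 : Nat.Coprime w (2 ^ K) := Nat.Coprime.pow_right K ((Nat.Prime.coprime_iff_not_dvd Nat.prime_two).2 hw).symm
      obtain ⟨p, q, hpq⟩ := Int.isCoprime_iff_nat_coprime.2 (show Int.natAbs (w : ℤ) |>.Coprime (2 ^ K : ℤ).natAbs by
        simpa [Int.natAbs_pow] using hw2)
      have hpow : ∃ r : ℤ, (π x) ^ r = g ^ ((2 : ℤ) ^ v) := by
        refine ⟨p * i.sign, ?_⟩
        rw [← hi, ← zpow_mul, zpow_eq_zpow_iff_modEq, Int.modEq_iff_dvd, hK]
        refine ⟨2 ^ v * q, ?_⟩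
        have hi' : i * i.sign = 2 ^ v * w := by
          rw [Int.mul_sign_self, hvw]; push_cast; rfl
        push_cast
        linear_combination (-p) * hi' - (2 : ℤ) ^ v * hpq
      obtain ⟨r, hr⟩ := hpow
      -- `l` is a multiple of `2^(v+1)`
      by_cases hl : (2 : ℤ) ^ (v + 1) ∣ l
      · obtain ⟨l', rfl⟩ := hl
        refine ⟨r * l', ?_⟩
        show (π (x * x)) ^ (r * l') = _
        rw [map_mul, ← zpow_two, ← zpow_mul, show (2 : ℤ) * (r * l') = r * (2 * l') by ring, zpow_mul, hr, ← zpow_mul]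
        congr 1; ring
      · exfalso
        apply hno
        -- then `π x` is a power of `c`
        have hl0 : l.natAbs ≠ 0 := fun h => hl (by rw [Int.natAbs_eq_zero.1 h]; exact dvd_zero _)
        obtain ⟨v', w', hw', hvw'⟩ := Nat.exists_eq_pow_mul_and_not_dvd hl0 2 (by norm_num)
        have hv' : v' ≤ v := by
          by_contra hlt
          have h' : ((2 ^ (v + 1) : ℕ) : ℤ) ∣ l :=
            Int.natCast_dvd.2 (hvw' ▸ dvd_mul_of_dvd_left (pow_dvd_pow 2 (by omega)) _)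
          exact hl (by exact_mod_cast h')
        have hw2' : Nat.Coprime w' (2 ^ K) := Nat.Coprime.pow_right K ((Nat.Prime.coprime_iff_not_dvd Nat.prime_two).2 hw').symm
        obtain ⟨p', q', hpq'⟩ := Int.isCoprime_iff_nat_coprime.2 (show Int.natAbs (w' : ℤ) |>.Coprime (2 ^ K : ℤ).natAbs by
          simpa [Int.natAbs_pow] using hw2')
        have hl' : l * l.sign = 2 ^ v' * w' := by
          rw [Int.mul_sign_self, hvw']; push_cast; rfl
        have hi' : i = i.sign * (2 ^ v * w) := by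
          conv_lhs => rw [← Int.sign_mul_natAbs i, hvw]
          push_cast; rfl
        rw [← hi, show g ^ i = (g ^ l) ^ (p' * l.sign * (i.sign * 2 ^ (v - v') * w)) from ?_]
        · exact zpow_mem hc _
        rw [← zpow_mul, zpow_eq_zpow_iff_modEq, Int.modEq_iff_dvd, hK]
        refine ⟨-(i.sign * 2 ^ v * w * q'), ?_⟩
        have h2v : (2 : ℤ) ^ v = 2 ^ (v - v') * 2 ^ v' := by rw [← pow_add, Nat.sub_add_cancel hv']
        push_cast
        linear_combination (i.sign * 2 ^ (v - v') * w * p') * hl' - hi' +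
          (i.sign * (2 : ℤ) ^ v * w) * hpq' - (i.sign * w * (p' * w') ) * h2v
    have hD : x * x ∈ defect hG Q x hxN := by
      refine ⟨hx2, ?_⟩
      rw [show (x * x)⁻¹ * (x * (x * x) * x⁻¹) = 1 by group]
      exact one_mem _
    obtain ⟨j, hj⟩ := Subgroup.mem_zpowers_iff.1 (hgen _ ⟨f, hfQ, rfl⟩)
    have h1 : ((x * x) ^ j)⁻¹ * f ∈ Subgroup.zpowers e :=
      hegen' _ (mul_mem (inv_mem (zpow_mem hx2 j)) hfQ) ((QuotientGroup.eq).1 ((map_zpow π _ j).trans hj))
    have h2 := mul_mem (zpow_mem hD j) (Subgroup.zpowers_le.2 (cyclic_le_defect hG hxN heQ (hconjN x hxN)) h1)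
    rwa [mul_inv_cancel_left] at h2
  obtain ⟨q, hq, hqx⟩ := hxQN
  set h := q⁻¹ * x with hh
  have hhN : h ∈ N := QuotientGroup.eq.1 hqx
  have hqN : q ∈ Subgroup.normalizer (Q : Set G) := Subgroup.le_normalizer hq
  have hhn : h ∈ Subgroup.normalizer (Q : Set G) := mul_mem (inv_mem hqN) hxN
  have hhQ : h ∉ Q := fun hh' => hxQ (by
    have := mul_mem hq hh'
    rwa [hh, mul_inv_cancel_left] at this)
  have hh2 : h * h ∈ Q := by
    rw [hh, show q⁻¹ * x * (q⁻¹ * x) = q⁻¹ * (x * q⁻¹ * x⁻¹) * (x * x) by group]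
    exact mul_mem (mul_mem (inv_mem hq) ((Subgroup.mem_normalizer_iff.1 hxN _).1 (inv_mem hq))) hx2
  -- defects of `x` and of `h` agree modulo commutators
  have hcong : ∀ y ∈ Q, ∀ V : Subgroup G, Φ ≤ V → y⁻¹ * (h * y * h⁻¹) ∈ V → y⁻¹ * (x * y * x⁻¹) ∈ V := by
    intro y hy V hV hd
    have hzQ : y⁻¹ * (h * y * h⁻¹) ∈ Q := mul_mem (inv_mem hy) ((Subgroup.mem_normalizer_iff.1 hhn _).1 hy)
    rw [show y⁻¹ * (x * y * x⁻¹) = (y⁻¹ * q * y * q⁻¹) * (q * (y⁻¹ * (h * y * h⁻¹)) * q⁻¹ * (y⁻¹ * (h * y * h⁻¹))⁻¹) *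
      (y⁻¹ * (h * y * h⁻¹)) by rw [hh]; group]
    refine mul_mem (mul_mem (hV ?_) (hV (commutator_mem_frattini hG hq hzQ))) hd
    have h' := commutator_mem_frattini hG (inv_mem hy) hq
    rwa [inv_inv] at h'
  have hfDh : f ∉ defect hG Q h hhn := fun hd => hfD ⟨hfQ, hcong f hfQ Φ le_rfl hd.2⟩
  have hhC : ∀ u ∈ N, h * u = u * h := fun u hu => by
    haveI := hNc
    letI : CommGroup N := IsCyclic.commGroup
    exact congrArg Subtype.val (mul_comm (⟨h, hhN⟩ : N) ⟨u, hu⟩)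
  -- `f` inverts `h` modulo four
  obtain ⟨⟨a, haN⟩, hagen⟩ := IsCyclic.exists_generator (α := N)
  have hNeq : N = Subgroup.zpowers a := le_antisymm (fun u hu => by
    obtain ⟨i, hi⟩ := hagen ⟨u, hu⟩
    exact ⟨i, congrArg Subtype.val hi⟩) (Subgroup.zpowers_le.2 haN)
  obtain ⟨R, hR⟩ := Subgroup.mem_zpowers_iff.1 (hNeq.le (hNn.conj_mem a haN f))
  obtain ⟨c, hc⟩ := Subgroup.mem_zpowers_iff.1 (hNeq.le hhN)
  have hfh : f * h * f⁻¹ = h ^ R := by rw [← hc, ← conj_zpow, ← hR, ← zpow_mul, ← zpow_mul, mul_comm]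
  have hz : f⁻¹ * (h * f * h⁻¹) = f⁻¹ * h ^ (1 - R) * f := by
    rw [zpow_sub, zpow_one, ← hfh]; group
  obtain ⟨m, hm⟩ := IsPGroup.iff_orderOf.1 hG a
  have hR4 : R % 4 = 3 := by
    have hnot : ∀ i : ℤ, R ≠ 4 * i + 1 := by
      intro i hi
      refine hfDh ⟨hfQ, ?_⟩
      rw [hz, hi, show h ^ (1 - (4 * i + 1)) = (h * h) ^ (-i) * (h * h) ^ (-i) by
        rw [← zpow_two h, ← zpow_mul, ← zpow_add]; congr 1; ring]
      -- defect is a square in the Frattini subgroup
      have := frattini_map_conj_mem (Subgroup.le_normalizer (inv_mem hfQ))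
        (pow_two_mem_frattini hG (zpow_mem hh2 (-i)))
      simpa using this
    have hRodd : ¬ (2 : ℤ) ∣ R := by
      rintro ⟨i, rfl⟩
      rcases Nat.eq_zero_or_pos m with hm0 | hm0
      · rw [hm0, pow_zero, orderOf_eq_one_iff] at hm
        rw [hm, Subgroup.zpowers_one_eq_bot] at hNeq
        rw [hNeq, Subgroup.mem_bot] at hhN
        exact hhQ (hhN ▸ one_mem Q)
      have ho : orderOf (f * a * f⁻¹) = orderOf a := MulEquiv.orderOf_eq (MulAut.conj f) a
      have h1 : (f * a * f⁻¹) ^ (2 ^ (m - 1) : ℕ) = 1 := by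
        rw [← hR, ← zpow_natCast, ← zpow_mul, ← orderOf_dvd_iff_zpow_eq_one, hm]
        refine ⟨i, ?_⟩
        rw [show m = m - 1 + 1 by omega, pow_succ]
        push_cast; ring
      have h2 := orderOf_dvd_of_pow_eq_one h1
      rw [ho, hm, Nat.pow_dvd_pow_iff_le_right (by norm_num)] at h2
      omega
    have := hnot (R / 4)
    omega
  have hm2 : 2 ≤ m := by
    by_contra hlt
    apply hfDh
    refine ⟨hfQ, ?_⟩
    have : h ^ (1 - R) = 1 := by
      rw [← orderOf_dvd_iff_zpow_eq_one]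
      have hd : orderOf h ∣ 2 := by
        have h1 : orderOf h ∣ orderOf a := by rw [← hc]; exact orderOf_dvd_of_mem_zpowers ⟨c, rfl⟩
        rw [hm] at h1
        exact h1.trans (pow_dvd_pow 2 (by omega : m ≤ 1) |>.trans (by norm_num))
      refine (Int.natCast_dvd_natCast.2 hd).trans ?_
      omega
    rw [hz, this]; simp
  -- so `f` generates `G / N`
  have hfgenG : Subgroup.zpowers (π f) = ⊤ := by
    rcases square_or_gen hGN (π f) with ⟨d, hd⟩ | h'
    · exfalso
      obtain ⟨g, rfl⟩ := QuotientGroup.mk_surjective d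
      obtain ⟨s, hs⟩ := Subgroup.mem_zpowers_iff.1 (hNeq.le (hNn.conj_mem a haN g))
      obtain ⟨i, hi⟩ := Subgroup.mem_zpowers_iff.1 (hNeq.le (QuotientGroup.eq.1 (show QuotientGroup.mk (g * g) = π f by
        rw [hd, QuotientGroup.mk_mul, pow_two]; try rfl)))
      have e : a ^ R = a ^ (s * s) := by
        rw [hR, show f = g * g * a ^ i by rw [hi, mul_inv_cancel_left]]
        calc g * g * a ^ i * a * (g * g * a ^ i)⁻¹ = g * (g * a * g⁻¹) * g⁻¹ := by group
          _ = (g * a * g⁻¹) ^ s := by rw [conj_zpow, hs]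
          _ = _ := by rw [← hs, ← zpow_mul]
      rw [zpow_eq_zpow_iff_modEq, hm] at e
      have e4 : R ≡ s * s [ZMOD 4] := e.of_dvd (by
        refine ⟨2 ^ (m - 2), ?_⟩
        rw [show m = 2 + (m - 2) by omega, pow_add]; push_cast; simp)
      rw [Int.ModEq, hR4, Int.mul_emod] at e4
      have := Int.emod_nonneg s (by norm_num : (4 : ℤ) ≠ 0)
      have := Int.emod_lt_of_pos s (by norm_num : (0 : ℤ) < 4)
      interval_cases hsm : s % 4 <;> norm_num at e4
    · exact h'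
  -- `k`: the order of `G / N`
  obtain ⟨k, hk⟩ := IsPGroup.iff_orderOf.1 hGN (π f)
  rcases Nat.lt_or_ge k 2 with hk2 | hk2
  · -- exceptional
    exfalso
    have hk1 : k = 1 := by
      rcases (show k = 0 ∨ k = 1 by omega) with rfl | h'
      · exfalso
        rw [pow_zero, orderOf_eq_one_iff] at hk
        have hfN : f ∈ N := (QuotientGroup.eq_one_iff f).1 hk
        apply hfDh
        refine ⟨hfQ, ?_⟩
        rw [show f⁻¹ * (h * f * h⁻¹) = 1 by rw [hhC f hfN]; group]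
        exact one_mem _
      · exact h'
    subst hk1
    refine hex (exceptional_of_index_two (a := a) (f := f) (fun g => ?_) ?_ hm hm2 hR.symm hR4 ?_)
    · obtain ⟨i, hi⟩ := Subgroup.mem_zpowers_iff.1 (hfgenG.ge (Subgroup.mem_top (π g)))
      have hf2 : π f ^ (2 : ℤ) = 1 := by
        rw [zpow_ofNat, show 2 = orderOf (π f) by rw [hk]; rfl, pow_orderOf_eq_one]
      rcases Int.even_or_odd' i with ⟨j, rfl | rfl⟩
      · left
        rw [zpow_mul, hf2, one_zpow] at hi
        exact hNeq.le ((QuotientGroup.eq_one_iff g).1 hi.symm)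
      · right
        rw [zpow_add, zpow_one, zpow_mul, hf2, one_zpow, one_mul] at hi
        exact hNeq.le (QuotientGroup.eq.1 hi)
    · intro h'
      rw [(QuotientGroup.eq_one_iff f).2 (hNeq.ge h') |> fun e => (show π f = 1 from e), orderOf_one] at hk
      norm_num at hk
    · refine hNeq.le ((QuotientGroup.eq_one_iff _).1 ?_)
      show π (f * f) = 1
      rw [map_mul, ← pow_two, show 2 = orderOf (π f) by rw [hk]; rfl, pow_orderOf_eq_one]
  · -- the invariant subgroup of index two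
    have hkmem : ∀ j : ℤ, π f ^ j = 1 → (4 : ℤ) ∣ j := fun j hj => by
      rw [← orderOf_dvd_iff_zpow_eq_one, hk] at hj
      exact dvd_trans ⟨2 ^ (k - 2), by rw [show k = 2 + (k - 2) by omega, pow_add]; push_cast; simp⟩ hj
    have heΦ : e ∈ Φ → False := fun he => by
      apply hfDh
      refine ⟨hfQ, ?_⟩
      have hzQ : f⁻¹ * (h * f * h⁻¹) ∈ Q := mul_mem (inv_mem hfQ) ((Subgroup.mem_normalizer_iff.1 hhn _).1 hfQ)
      exact Subgroup.zpowers_le.2 he (hegen' _ hzQ (by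
        rw [hz]
        simpa using hNn.conj_mem _ (zpow_mem hhN (1 - R)) f⁻¹))
    set K : Subgroup G := Subgroup.zpowers (e * e) with hK
    have hKΦ : K ≤ Φ := Subgroup.zpowers_le.2 (pow_two_mem_frattini hG heQ)
    have heh : Subgroup.zpowers e = Subgroup.zpowers (h * h) := by
      refine le_antisymm ?_ (Subgroup.zpowers_le.2 (hegen' _ hh2 (mul_mem hhN hhN)))
      rw [Subgroup.zpowers_le]
      obtain ⟨i, hi⟩ := Subgroup.mem_zpowers_iff.1 (hegen' _ hh2 (mul_mem hhN hhN))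
      rcases Int.even_or_odd' i with ⟨j, rfl | rfl⟩
      · exfalso
        -- then the defect of `f` is in `Φ`
        apply hfDh
        refine ⟨hfQ, ?_⟩
        rw [hz, show R = 2 * (R / 2) + 1 by omega,
          show h ^ (1 - (2 * (R / 2) + 1)) = (e * e) ^ (j * -(R / 2)) by
            rw [show (1 : ℤ) - (2 * (R / 2) + 1) = 2 * -(R / 2) by ring, zpow_mul h, zpow_two, ← hi, ← zpow_mul,
              mul_assoc, zpow_mul, zpow_two]]
        have := frattini_map_conj_mem (Subgroup.le_normalizer (inv_mem hfQ)) (hKΦ (zpow_mem (Subgroup.mem_zpowers _) (j * -(R / 2))))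
        simpa using this
      · obtain ⟨o, ho⟩ := IsPGroup.iff_orderOf.1 hG e
        obtain ⟨p, q', hpq⟩ := (IsCoprime.pow_right (n := o) ⟨1, -j, by ring⟩ : IsCoprime (2 * j + 1) ((2 : ℤ) ^ o))
        refine ⟨p, ?_⟩
        show (h * h) ^ p = e
        conv_rhs => rw [← zpow_one e]
        rw [← hi, ← zpow_mul, zpow_eq_zpow_iff_modEq, Int.modEq_iff_dvd, ho]
        exact ⟨q', by push_cast; linear_combination -hpq⟩
    -- the commutator quotient
    let T : Subgroup Q := commutator Q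
    have hTK : T.map Q.subtype ≤ K := by
      have hKN : ∀ g ∈ Q, g * (e * e) * g⁻¹ ∈ K := fun g hg => by
        obtain ⟨s, hs⟩ := Subgroup.mem_zpowers_iff.1 (hconjN g (Subgroup.le_normalizer hg))
        refine ⟨s, ?_⟩
        show (e * e) ^ s = _
        rw [show g * (e * e) * g⁻¹ = (g * e * g⁻¹) * (g * e * g⁻¹) by group, ← hs, ← zpow_add, ← pow_two,
          ← zpow_natCast, ← zpow_mul]
        congr 1; push_cast; ring
      have hodd : ∀ g ∈ Q, g * e * g⁻¹ * e⁻¹ ∈ K := fun g hg => by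
        have := (cyclic_le_defect hG (Subgroup.le_normalizer hg) heQ (hconjN g (Subgroup.le_normalizer hg)))
        obtain ⟨s, hs⟩ := Subgroup.mem_zpowers_iff.1 (hconjN g (Subgroup.le_normalizer hg))
        rcases Int.even_or_odd' s with ⟨i, rfl | rfl⟩
        · rw [← hs]
          have h1 : e ∈ K := by
            obtain ⟨o, ho⟩ := IsPGroup.iff_orderOf.1 hG e
            rcases Nat.eq_zero_or_pos o with ho0 | ho0
            · rw [ho0, pow_zero, orderOf_eq_one_iff] at ho; rw [ho]; exact one_mem _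
            · exfalso
              have h1 : (g * e * g⁻¹) ^ (2 ^ (o - 1) : ℕ) = 1 := by
                rw [← hs, ← zpow_natCast, ← zpow_mul, ← orderOf_dvd_iff_zpow_eq_one, ho]
                refine ⟨i, ?_⟩
                rw [show o = o - 1 + 1 by omega, pow_succ]
                push_cast; ring
              have h2 := orderOf_dvd_of_pow_eq_one h1
              rw [show orderOf (g * e * g⁻¹) = orderOf e from MulEquiv.orderOf_eq (MulAut.conj g) e, ho,
                Nat.pow_dvd_pow_iff_le_right (by norm_num)] at h2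
              omega
          exact mul_mem (zpow_mem h1 _) (inv_mem h1)
        · refine ⟨i, ?_⟩
          show (e * e) ^ i = _
          rw [← hs, ← zpow_neg_one, ← zpow_add, ← pow_two, ← zpow_natCast, ← zpow_mul]
          congr 1; push_cast; ring
      haveI hKn : (K.subgroupOf Q).Normal := ⟨fun u hu g => by
        rw [Subgroup.mem_subgroupOf] at hu ⊢
        obtain ⟨i, hi⟩ := Subgroup.mem_zpowers_iff.1 hu
        show (g : G) * u * (g : G)⁻¹ ∈ K
        rw [← hi, ← conj_zpow]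
        exact zpow_mem (hKN g g.2) i⟩
      rintro _ ⟨w, hw, rfl⟩
      refine Subgroup.mem_subgroupOf.1 (?_ : w ∈ K.subgroupOf Q)
      revert w
      show T ≤ K.subgroupOf Q
      set P' := QuotientGroup.mk' (K.subgroupOf Q) with hP'
      have hEc : ∀ g : Q, P' g * P' ⟨e, heQ⟩ = P' ⟨e, heQ⟩ * P' g := fun g => by
        rw [← commutatorElement_eq_one_iff_mul_comm, ← map_commutatorElement, hP', QuotientGroup.mk'_apply,
          QuotientGroup.eq_one_iff, Subgroup.mem_subgroupOf]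
        exact hodd g g.2
      have hsurj : ∀ g : Q, ∃ i j : ℤ, P' g = P' ⟨f, hfQ⟩ ^ j * P' ⟨e, heQ⟩ ^ i := fun g => by
        obtain ⟨j, hj⟩ := hdec g g.2
        obtain ⟨i, hi⟩ := Subgroup.mem_zpowers_iff.1 hj
        refine ⟨i, j, ?_⟩
        rw [← map_zpow, ← map_zpow, ← map_mul]
        congr 1
        refine Subtype.ext ?_
        show (g : G) = f ^ j * e ^ i
        rw [hi, mul_inv_cancel_left]
      rw [show T = ⁅(⊤ : Subgroup Q), ⊤⁆ from commutator_def Q, Subgroup.commutator_le]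
      intro u _ v _
      rw [← QuotientGroup.eq_one_iff, show (QuotientGroup.mk ⁅u, v⁆ : Q ⧸ K.subgroupOf Q) = P' ⁅u, v⁆ from rfl,
        map_commutatorElement, commutatorElement_eq_one_iff_mul_comm]
      obtain ⟨i, j, hu⟩ := hsurj u
      obtain ⟨i', j', hv⟩ := hsurj v
      have hc1 : Commute (P' ⟨e, heQ⟩ ^ i) (P' v) := ((show Commute _ _ from (hEc v).symm).zpow_left i)
      have hc2 : Commute (P' ⟨f, hfQ⟩ ^ j) (P' v) := by
        rw [hv]
        exact (Commute.zpow_zpow (Commute.refl _) j j').mul_right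
          (Commute.zpow_zpow (show Commute _ _ from hEc ⟨f, hfQ⟩) j i')
      rw [hu]
      exact (hc2.mul_left hc1).eq
    have hKT : K ≤ T.map Q.subtype := by
      rw [hK, Subgroup.zpowers_le]
      have hc2 : f * (h * h) * f⁻¹ * (h * h)⁻¹ ∈ T.map Q.subtype :=
        ⟨⁅(⟨f, hfQ⟩ : Q), ⟨h * h, hh2⟩⁆, Subgroup.commutator_mem_commutator (Subgroup.mem_top _) (Subgroup.mem_top _), rfl⟩
      rw [show f * (h * h) * f⁻¹ * (h * h)⁻¹ = (h * h) ^ (R - 1) by
        rw [show f * (h * h) * f⁻¹ = (f * h * f⁻¹) * (f * h * f⁻¹) by group, hfh, ← zpow_add,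
          show h * h = h ^ (2 : ℤ) by rw [zpow_two], ← zpow_neg, ← zpow_add, ← zpow_mul]
        congr 1; ring] at hc2
      -- `R - 1` is twice an odd number
      obtain ⟨i, hi⟩ : ∃ i, R - 1 = 2 * (2 * i + 1) := ⟨R / 4, by omega⟩
      obtain ⟨o, ho⟩ := IsPGroup.iff_orderOf.1 hG (h * h)
      obtain ⟨p, q', hpq⟩ := (IsCoprime.pow_right (n := o) ⟨1, -i, by ring⟩ : IsCoprime (2 * i + 1) ((2 : ℤ) ^ o))
      obtain ⟨d, hd⟩ := Subgroup.mem_zpowers_iff.1 (heh.le (Subgroup.mem_zpowers e))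
      have h3 := zpow_mem hc2 (p * d)
      have h4 : ((h * h) ^ (R - 1)) ^ (p * d) = e * e := by
        rw [← hd, ← zpow_mul, ← zpow_add, zpow_eq_zpow_iff_modEq, Int.modEq_iff_dvd, ho, hi]
        exact ⟨2 * d * q', by push_cast; linear_combination (-2 * d) * hpq⟩
      rwa [h4] at h3
    let V : Subgroup G := Q ⊓ ((Subgroup.zpowers (π f ^ 2)).comap π)
    have hVsq : ∀ y ∈ Q, y ∈ V → ∀ j : ℤ, (f ^ j)⁻¹ * y ∈ Subgroup.zpowers e → (2 : ℤ) ∣ j := by
      intro y _ hy j hj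
      obtain ⟨i, hi⟩ := Subgroup.mem_zpowers_iff.1 hy.2
      have h1 : π y = π f ^ j := by
        rw [← map_zpow]; exact ((QuotientGroup.eq).2 (Subgroup.zpowers_le.2 heN hj)).symm
      have h2 : π f ^ (2 * i - j) = 1 := by
        rw [zpow_sub, ← h1, ← hi, mul_comm, ← zpow_natCast, ← zpow_mul]
        simp [mul_comm]
      have := hkmem _ h2
      omega
    have hfk : ∃ t, f ^ ((2 : ℤ) ^ k) = (e * e) ^ (t : ℤ) := by
      have hmem : f ^ ((2 : ℤ) ^ k) ∈ Subgroup.zpowers e := hegen' _ (zpow_mem hfQ _) ((QuotientGroup.eq_one_iff _).1 (by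
        show π (f ^ _) = 1
        rw [map_zpow, ← orderOf_dvd_iff_zpow_eq_one, hk]; push_cast; exact dvd_rfl))
      obtain ⟨t, ht⟩ := Subgroup.mem_zpowers_iff.1 hmem
      rcases Int.even_or_odd' t with ⟨i, rfl | rfl⟩
      · exact ⟨i, by rw [← ht, zpow_mul, zpow_two]⟩
      · exfalso
        refine heΦ ?_
        have h1 : f ^ ((2 : ℤ) ^ k) ∈ Φ := by
          rw [show (2 : ℤ) ^ k = 2 ^ (k - 1) + 2 ^ (k - 1) by rw [← two_mul, ← pow_succ']; congr 1; omega, zpow_add]
          exact pow_two_mem_frattini hG (zpow_mem hfQ _)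
        have h2 := mul_mem h1 (inv_mem (hKΦ (zpow_mem (Subgroup.mem_zpowers _) i)))
        rwa [← ht, zpow_add, zpow_one, zpow_mul, zpow_two, mul_assoc,
          show e * ((e * e) ^ i)⁻¹ = ((e * e) ^ i)⁻¹ * e by
            exact (((Commute.refl e).mul_right (Commute.refl e)).zpow_right i).inv_right.eq,
          mul_inv_cancel_left] at h2
    obtain ⟨t, ht⟩ := hfk
    -- characterization
    have hchar : ∀ y : Q, (y : G) ∈ V ↔ y ^ (2 ^ (k - 1) : ℕ) ∈ T := by
      intro y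
      obtain ⟨j, hj⟩ := hdec y y.2
      obtain ⟨i, hi⟩ := Subgroup.mem_zpowers_iff.1 hj
      set E : Q := ⟨e, heQ⟩
      set Fq : Q := ⟨f, hfQ⟩
      have hy : y = Fq ^ j * E ^ i := Subtype.ext (by
        show (y : G) = f ^ j * e ^ i
        rw [hi, mul_inv_cancel_left])
      have hpow : (QuotientGroup.mk (y ^ (2 ^ (k - 1) : ℕ)) : Q ⧸ T) =
          QuotientGroup.mk (Fq ^ (j * 2 ^ (k - 1)) * E ^ (i * 2 ^ (k - 1))) := by
        letI : CommGroup (Q ⧸ T) := Abelianization.commGroup Q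
        rw [hy, QuotientGroup.mk_pow, QuotientGroup.mk_mul, QuotientGroup.mk_mul, mul_pow, QuotientGroup.mk_zpow,
          QuotientGroup.mk_zpow, QuotientGroup.mk_zpow, QuotientGroup.mk_zpow, ← zpow_natCast, ← zpow_natCast,
          ← zpow_mul, ← zpow_mul]
        push_cast; rfl
      have hmemT : ∀ u : Q, u ∈ T ↔ (u : G) ∈ K := fun u =>
        ⟨fun hu => hTK ⟨u, hu, rfl⟩, fun hu => by
          obtain ⟨w, hw, hwe⟩ := hKT hu
          obtain rfl : w = u := Subtype.ext hwe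
          exact hw⟩
      have hk1 : (2 : ℤ) ^ k = 2 * 2 ^ (k - 1) := by rw [← pow_succ']; congr 1; omega
      rw [← QuotientGroup.eq_one_iff (N := T), hpow, QuotientGroup.eq_one_iff, hmemT]
      simp only [Subgroup.coe_mul, SubgroupClass.coe_zpow]
      constructor
      · intro hyV
        obtain ⟨l, rfl⟩ := hVsq y y.2 hyV j hj
        show f ^ (2 * l * 2 ^ (k - 1)) * e ^ (i * 2 ^ (k - 1)) ∈ K
        rw [show 2 * l * 2 ^ (k - 1) = (2 : ℤ) ^ k * l by rw [hk1]; ring, zpow_mul, ht,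
          show i * 2 ^ (k - 1) = 2 * (i * 2 ^ (k - 2)) by
            rw [show k - 1 = k - 2 + 1 by omega, pow_succ]; ring, zpow_mul e, zpow_two]
        exact mul_mem (zpow_mem (zpow_mem (Subgroup.mem_zpowers _) _) _) (zpow_mem (Subgroup.mem_zpowers _) _)
      · intro hT'
        have hKN : K ≤ N := Subgroup.zpowers_le.2 (mul_mem heN heN)
        have h1 := (QuotientGroup.eq_one_iff _).2 (hKN hT')
        change π (f ^ (j * 2 ^ (k - 1)) * e ^ (i * 2 ^ (k - 1))) = 1 at h1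
        rw [map_mul, map_zpow, map_zpow, show π e = 1 from (QuotientGroup.eq_one_iff e).2 heN, one_zpow, mul_one,
          ← orderOf_dvd_iff_zpow_eq_one, hk] at h1
        push_cast at h1
        rw [hk1] at h1
        obtain ⟨l, rfl⟩ := Int.dvd_of_mul_dvd_mul_right (pow_ne_zero _ two_ne_zero) h1
        refine ⟨y.2, ?_⟩
        show π y ∈ Subgroup.zpowers (π f ^ 2)
        refine ⟨l, ?_⟩
        show (π f ^ 2) ^ l = π y
        refine Eq.trans ?_ ((QuotientGroup.eq).2 (Subgroup.zpowers_le.2 heN hj) : π (f ^ (2 * l)) = π y)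
        show (π f ^ 2) ^ l = π (f ^ (2 * l))
        rw [map_zpow, zpow_mul, zpow_ofNat]
    have heV : e ∈ V := ⟨heQ, by
      refine Subgroup.mem_comap.2 ?_
      rw [show π e = 1 from (QuotientGroup.eq_one_iff e).2 heN]; exact one_mem _⟩
    refine ⟨V, fun α y hy => (hchar _).2 ?_, fun y hy => ?_, fun y hy hyV => hcong y hy Φ le_rfl ?_⟩
    · have h1 := (hchar y).1 hy
      rw [← map_pow]
      exact (Subgroup.characteristic_iff_comap_eq.1 (inferInstance : T.Characteristic) α).ge h1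
    · refine hcong y hy V ?_ ?_
      · intro u hu
        obtain ⟨w, hw, rfl⟩ := hu
        refine ⟨w.2, ?_⟩
        -- squares and the Frattini subgroup map to squares
        let V' : Subgroup Q := (Subgroup.zpowers (π f ^ 2)).comap (π.comp Q.subtype)
        by_contra hno
        have hV' : V' ≠ ⊤ := fun htop => by
          have h1 : (⟨f, hfQ⟩ : Q) ∈ V' := htop ▸ Subgroup.mem_top _
          have := hVsq f hfQ ⟨hfQ, h1⟩ 1 (by rw [zpow_one, inv_mul_cancel]; exact one_mem _)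
          omega
        obtain ⟨Mx, hMx, hle⟩ := (eq_top_or_exists_le_coatom V').resolve_left hV'
        haveI : Fact (Nat.Prime 2) := ⟨Nat.prime_two⟩
        have hwM : w ∈ Mx := frattini_le_coatom hMx hw
        obtain ⟨j, hj⟩ := hdec w w.2
        rcases Int.even_or_odd' j with ⟨l, rfl | rfl⟩
        · refine hno ⟨l, ?_⟩
          show (π f ^ 2) ^ l = π w
          refine Eq.trans ?_ ((QuotientGroup.eq).2 (Subgroup.zpowers_le.2 heN hj) : π (f ^ (2 * l)) = π w)
          show (π f ^ 2) ^ l = π (f ^ (2 * l))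
          rw [map_zpow, zpow_mul, zpow_ofNat]
        · -- then `Mx` contains `f` and `e`
          have heM : (⟨e, heQ⟩ : Q) ∈ Mx := hle heV.2
          have hsqM : (⟨f, hfQ⟩ : Q) ^ (2 * l) ∈ Mx := by
            rw [zpow_mul, zpow_ofNat]
            exact zpow_mem (hle (Subgroup.mem_comap.2 (by rw [map_pow]; exact Subgroup.mem_zpowers _))) _
          obtain ⟨i, hi⟩ := Subgroup.mem_zpowers_iff.1 hj
          have hwf : w = (⟨f, hfQ⟩ : Q) ^ (2 * l) * ⟨f, hfQ⟩ * ⟨e, heQ⟩ ^ i := Subtype.ext (by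
            show (w : G) = f ^ (2 * l) * f * e ^ i
            rw [hi, ← zpow_add_one, mul_inv_cancel_left])
          rw [hwf] at hwM
          have hfM : (⟨f, hfQ⟩ : Q) ∈ Mx :=
            (Subgroup.mul_mem_cancel_left _ hsqM).1 ((Subgroup.mul_mem_cancel_right _ (zpow_mem heM i)).1 hwM)
          refine hMx.1 (eq_top_iff.2 fun u _ => ?_)
          exact Subgroup.mem_subgroupOf.1 (show u ∈ ((Mx.map Q.subtype).subgroupOf Q) from
            hQle (Mx.map Q.subtype) ⟨_, heM, rfl⟩ ⟨_, hfM, rfl⟩ u.2) |> fun h => by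
              obtain ⟨w', hw', hwe⟩ := h
              obtain rfl : w' = u := Subtype.ext hwe
              exact hw'
      · have hzQ : y⁻¹ * (h * y * h⁻¹) ∈ Q := mul_mem (inv_mem hy) ((Subgroup.mem_normalizer_iff.1 hhn _).1 hy)
        refine ⟨hzQ, Subgroup.mem_comap.2 ?_⟩
        rw [map_mul, map_mul, map_mul, show π h = 1 from (QuotientGroup.eq_one_iff h).2 hhN, map_inv, map_inv,
          show π h = 1 from (QuotientGroup.eq_one_iff h).2 hhN]
        simp
    · obtain ⟨j, hj⟩ := hdec y hy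
      obtain ⟨l, rfl⟩ := hVsq y hy hyV j hj
      have h1 : f ^ (2 * l) ∈ defect hG Q h hhn := frattini_le_defect hG hhn (by
        rw [two_mul, zpow_add]; exact pow_two_mem_frattini hG (zpow_mem hfQ l))
      have h2 := mul_mem h1 (Subgroup.zpowers_le.2 (cyclic_le_defect hG hhn heQ (hconjN h hhn)) hj)
      rw [mul_inv_cancel_left] at h2
      exact h2.2

end Cfsg.Agent.MetaTwo

namespace Cfsg.Agent.FusionSys

open Cfsg Cfsg.FusionSystem

variable {Ω : Type*} [Group Ω] {S : Subgroup Ω} [Finite S] {F : FusionSystem S}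

/-- An automorphism of odd order trivial modulo the Frattini subgroup is trivial. -/
theorem aut_eq_one_of_frattini {P : Type*} [Group P] [Finite P] (hP : IsPGroup 2 P) {α : MulAut P}
    (ho : (orderOf α).Coprime 2) (h : ∀ x : P, α x * x⁻¹ ∈ frattini P) : α = 1 := by
  haveI : Fact (Nat.Prime 2) := ⟨Nat.prime_two⟩
  obtain ⟨n, hn⟩ := IsPGroup.iff_card.1 hP
  obtain ⟨r, hr, hre⟩ := (Nat.dvd_prime_pow Nat.prime_two).1 (hn ▸ (frattini P).index_dvd_card)
  let A : Subgroup (MulAut P) :=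
    { carrier := {β | ∀ x : P, β x * x⁻¹ ∈ frattini P}
      one_mem' := fun x => by simp
      mul_mem' := fun {β γ} hβ hγ x => by
        have := mul_mem (hβ (γ x)) (hγ x)
        simpa [mul_assoc] using this
      inv_mem' := fun {β} hβ x => by
        have h1 := inv_mem (hβ (β⁻¹ x))
        rw [show β (β⁻¹ x) = x from β.apply_symm_apply x, mul_inv_rev, inv_inv] at h1
        exact h1 }
  have h1 := Cfsg.Agent.FrattiniAut.card_dvd_of_trivial hn hre A fun β hβ => hβ
  have h2 : orderOf α ∣ 2 ^ (r * (n - r)) := by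
    rw [← Subgroup.orderOf_mk α (show α ∈ A from h)]
    exact (orderOf_dvd_natCard _).trans h1
  exact orderOf_eq_one_iff.1 (Nat.eq_one_of_dvd_coprimes (ho.pow_right _) dvd_rfl h2)

/-- A strongly closed metacyclic 2-subgroup that is not exceptional is normal. -/
theorem metacyclic_two_normal (hS : IsPGroup 2 S) (hF : F.IsSaturated 2) {P : Subgroup Ω} (hP : F.StronglyClosed P)
    (hm : Cfsg.IsMetacyclic P) (hex : ¬ Cfsg.Agent.MetaTwo.Exceptional P) : F.IsNormal P := by
  classical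
  haveI : Fact (Nat.Prime 2) := ⟨Nat.prime_two⟩
  haveI := finite_of_le (S := S) hP.1
  refine isNormal_of_le_centricRadical hS hF hP fun E hc hr => ?_
  have hES := hc.1
  haveI := finite_of_le (S := S) hES
  have hPp : IsPGroup 2 P := hS.to_le hP.1
  by_contra hle
  -- an element of `N_P(E)` outside `E` with square in `E`
  obtain ⟨g, hgP, hgN, hgE⟩ : ∃ g ∈ P, g ∈ Subgroup.normalizer (E : Set Ω) ∧ g ∉ E := by
    by_contra hno
    push Not at hno
    exact hle (le_of_normalizer_le hS hES hP.1 (stronglyClosed_le_normalizer hP) hno)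
  obtain ⟨x, hxP, hxN, hxE, hx2⟩ : ∃ x, x ∈ P ∧ x ∈ Subgroup.normalizer (E : Set Ω) ∧ x ∉ E ∧ x * x ∈ E := by
    obtain ⟨n, hn⟩ := IsPGroup.iff_orderOf.1 hPp ⟨g, hgP⟩
    have hn' : g ^ 2 ^ n = 1 := by
      rw [← hn]; exact congrArg Subtype.val (pow_orderOf_eq_one (⟨g, hgP⟩ : P))
    have hex' : ∃ i, g ^ 2 ^ i ∈ E := ⟨n, by rw [hn']; exact one_mem _⟩
    have hi := Nat.find_spec hex'
    have hi0 : Nat.find hex' ≠ 0 := fun h => hgE (by rw [h] at hi; simpa using hi)
    refine ⟨g ^ 2 ^ (Nat.find hex' - 1), pow_mem hgP _, pow_mem hgN _, Nat.find_min hex' (by omega), ?_⟩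
    rw [← pow_add, ← two_mul, ← pow_succ', show Nat.find hex' - 1 + 1 = Nat.find hex' by omega]
    exact hi
  set Q : Subgroup P := E.subgroupOf P with hQdef
  have hQinv : ∀ a ∈ F.autGroup E, ∀ y : E, (y : Ω) ∈ P → ((a y : E) : Ω) ∈ P := fun a ha y hy =>
    stronglyClosed_autGroup_mem hP hES ha y hy
  have hQN : (⟨x, hxP⟩ : P) ∈ Subgroup.normalizer (Q : Set P) := by
    rw [Subgroup.mem_normalizer_iff]
    intro y
    simp only [hQdef, Subgroup.mem_subgroupOf]
    exact Subgroup.mem_normalizer_iff.1 hxN y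
  obtain ⟨U, hU, hxU, hxΦ⟩ := Cfsg.Agent.MetaTwo.exists_series hPp hm hex Q (x := ⟨x, hxP⟩)
    (fun h => hxE h) hQN hx2
  -- automorphisms of `E` act on `Q`
  let res : ∀ a ∈ F.autGroup E, MulAut Q := fun a ha =>
    { toFun := fun y => ⟨⟨(a ⟨((y : P) : Ω), y.2⟩ : E), hQinv a ha _ (y : P).2⟩, (a ⟨((y : P) : Ω), y.2⟩).2⟩
      invFun := fun y => ⟨⟨(a⁻¹ ⟨((y : P) : Ω), y.2⟩ : E), hQinv _ (inv_mem ha) _ (y : P).2⟩,
        (a⁻¹ ⟨((y : P) : Ω), y.2⟩).2⟩
      left_inv := fun y => Subtype.ext (Subtype.ext (by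
        show ((a⁻¹ ⟨((a ⟨((y : P) : Ω), y.2⟩ : E) : Ω), _⟩ : E) : Ω) = _
        exact congrArg Subtype.val (a.symm_apply_apply (⟨((y : P) : Ω), y.2⟩ : E))))
      right_inv := fun y => Subtype.ext (Subtype.ext (by
        show ((a ⟨((a⁻¹ ⟨((y : P) : Ω), y.2⟩ : E) : Ω), _⟩ : E) : Ω) = _
        exact congrArg Subtype.val (a.apply_symm_apply (⟨((y : P) : Ω), y.2⟩ : E))))
      map_mul' := fun y z => Subtype.ext (Subtype.ext (by
        show ((a ⟨((y : P) : Ω) * ((z : P) : Ω), _⟩ : E) : Ω) = (a _ : E) * (a _ : E)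
        exact congrArg Subtype.val (map_mul a (⟨((y : P) : Ω), y.2⟩ : E) ⟨((z : P) : Ω), z.2⟩))) }
  set Φ : Subgroup Ω := ((frattini Q).map Q.subtype).map P.subtype
  set Qo : Subgroup Ω := E ⊓ P
  set Uo : Subgroup Ω := U.map P.subtype
  have hQof : ∀ (y : E) (hy : (y : Ω) ∈ P), (⟨y, hy⟩ : P) ∈ Q := fun y _ => y.2
  have hUinv : ∀ a ∈ F.autGroup E, ∀ y : E, (y : Ω) ∈ Uo → ((a y : E) : Ω) ∈ Uo := by
    intro a ha y hy
    obtain ⟨w, hw, hwe⟩ := hy
    have hyP : (y : Ω) ∈ P := hwe ▸ w.2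
    obtain rfl : w = ⟨y, hyP⟩ := Subtype.ext hwe
    exact ⟨_, hU (res a ha) ⟨_, hQof y hyP⟩ hw, rfl⟩
  have hΦinv : ∀ a ∈ F.autGroup E, ∀ y : E, (y : Ω) ∈ Φ → ((a y : E) : Ω) ∈ Φ := by
    intro a ha y hy
    obtain ⟨_, ⟨w, hw, rfl⟩, hwe⟩ := hy
    refine ⟨_, ⟨res a ha w, ?_, rfl⟩, ?_⟩
    · exact (Subgroup.characteristic_iff_comap_eq.1 (frattini_characteristic (G := Q)) (res a ha)).ge hw
    · show ((a ⟨((w : P) : Ω), w.2⟩ : E) : Ω) = _
      exact congrArg (fun v : E => ((a v : E) : Ω)) (Subtype.ext hwe)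
  refine hxE (mem_of_stabilizer hS hc hr (ι := Fin 3) ![⊤, Qo, Uo ⊓ Qo] ![Qo, Uo, Φ] ?_ ?_ ?_ (hP.1 hxP) hxN ?_)
  · intro j a ha y hy
    fin_cases j
    · exact Subgroup.mem_top _
    · exact ⟨(a y).2, hQinv a ha y hy.2⟩
    · exact ⟨hUinv a ha y hy.1, (a y).2, hQinv a ha y hy.2.2⟩
  · intro j a ha y hy
    fin_cases j
    · exact ⟨(a y).2, hQinv a ha y hy.2⟩
    · exact hUinv a ha y hy
    · exact hΦinv a ha y hy
  · intro a ha hco hst
    have hQp : IsPGroup 2 Q := hPp.to_subgroup Q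
    set β := res a ha
    -- `β` is trivial modulo the Frattini subgroup
    have h0 : ∀ y : E, (y : Ω)⁻¹ * (a y : E) ∈ Qo := fun y => hst 0 y (Subgroup.mem_top _)
    have h1 : ∀ y : Q, (y : P)⁻¹ * (β y : Q) ∈ U := fun y => by
      obtain ⟨w, hw, hwe⟩ := hst 1 ⟨((y : P) : Ω), y.2⟩ ⟨y.2, (y : P).2⟩
      obtain rfl : w = (y : P)⁻¹ * (β y : Q) := Subtype.ext hwe
      exact hw
    have h2 : ∀ y : Q, (y : P) ∈ U → y⁻¹ * β y ∈ frattini Q := fun y hy => by
      obtain ⟨w, ⟨v, hv, hve⟩, hwe⟩ := hst 2 ⟨((y : P) : Ω), y.2⟩ ⟨⟨_, hy, rfl⟩, y.2, (y : P).2⟩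
      obtain rfl : v = y⁻¹ * β y := Subtype.ext (hve.trans (Subtype.ext hwe))
      exact hv
    have hβo : (orderOf β).Coprime 2 := by
      refine Nat.Coprime.coprime_dvd_left (orderOf_dvd_of_pow_eq_one ?_) hco
      have hpow : ∀ n : ℕ, ∀ y : Q, (((β ^ n) y : Q) : P).1 = (((a ^ n) ⟨((y : P) : Ω), y.2⟩ : E) : Ω) := by
        intro n
        induction n with
        | zero => intro y; rfl
        | succ n ih =>
          intro y
          rw [pow_succ', MulAut.mul_apply, pow_succ', MulAut.mul_apply]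
          show ((a ⟨(((β ^ n) y : Q) : P).1, _⟩ : E) : Ω) = _
          exact congrArg (fun v : E => ((a v : E) : Ω)) (Subtype.ext (ih y))
      refine MulEquiv.ext fun y => Subtype.ext (Subtype.ext ?_)
      rw [hpow, pow_orderOf_eq_one]; rfl
    have hβ1 : β = 1 := by
      refine aut_eq_one_of_frattini hQp hβo fun y => ?_
      -- in the Frattini quotient
      set w := y⁻¹ * β y with hw
      have hwΦ : w ∈ frattini Q := by
        have hwU : w⁻¹ * β w ∈ frattini Q := h2 w (h1 y)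
        have hiter : ∀ n : ℕ, ((β ^ n) y)⁻¹ * (y * w ^ n) ∈ frattini Q := by
          intro n
          induction n with
          | zero => simp
          | succ n ih =>
            have hΦβ : ∀ v ∈ frattini Q, β v ∈ frattini Q := fun v hv =>
              (Subgroup.characteristic_iff_comap_eq.1 (frattini_characteristic (G := Q)) β).ge hv
            have h3 := hΦβ _ ih
            rw [map_mul, map_mul, map_inv, map_pow] at h3
            haveI : (frattini Q).Normal := (inferInstance : (frattini Q).Normal)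
            have hw' : (QuotientGroup.mk (β w) : Q ⧸ frattini Q) = QuotientGroup.mk w :=
              ((QuotientGroup.eq).2 hwU).symm
            rw [← QuotientGroup.eq_one_iff] at h3 ⊢
            rw [pow_succ', MulAut.mul_apply]
            rw [QuotientGroup.mk_mul, QuotientGroup.mk_mul, QuotientGroup.mk_pow, hw', ← QuotientGroup.mk_pow,
              show β y = y * w by rw [hw]; group, ← QuotientGroup.mk_mul, ← QuotientGroup.mk_mul] at h3
            rw [← h3]
            congr 1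
            rw [pow_succ']; group
        have h3 := hiter (orderOf β)
        rw [pow_orderOf_eq_one] at h3
        simp only [MulAut.one_apply, inv_mul_cancel_left] at h3
        haveI : (frattini Q).Normal := (inferInstance : (frattini Q).Normal)
        rw [← QuotientGroup.eq_one_iff, QuotientGroup.mk_pow] at h3
        rw [← QuotientGroup.eq_one_iff]
        obtain ⟨m, hm⟩ := IsPGroup.iff_orderOf.1 (hQp.to_quotient (frattini Q)) (QuotientGroup.mk w : Q ⧸ frattini Q)
        refine orderOf_eq_one_iff.1 (Nat.eq_one_of_dvd_coprimes ?_ (orderOf_dvd_of_pow_eq_one h3) dvd_rfl)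
        rw [hm]
        exact hβo.pow_right m
      have := (inferInstance : (frattini Q).Normal).conj_mem _ hwΦ y
      rwa [hw, mul_inv_cancel_left] at this
    refine MulEquiv.ext fun y => fix_of_step (p := 2) (hS.to_le hES) hco ?_
    have hmem : ((y⁻¹ * a y : E) : Ω) ∈ P := (h0 y).2
    have := congrArg (fun v : MulAut Q => ((v ⟨⟨_, hmem⟩, (y⁻¹ * a y).2⟩ : Q) : P).1) hβ1
    exact Subtype.ext this
  · intro j y hyE hy
    fin_cases j
    · refine ⟨?_, conj_commutator_mem (stronglyClosed_le_normalizer hP) (hES hyE) hxP⟩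
      exact E.mul_mem (E.inv_mem hyE) ((Subgroup.mem_normalizer_iff.1 hxN y).1 hyE)
    · exact ⟨_, hxU ⟨y, hy.2⟩ hy.1, rfl⟩
    · obtain ⟨⟨w, hw, hwe⟩, hy1, hy2⟩ := hy
      obtain rfl : w = ⟨y, hy2⟩ := Subtype.ext hwe
      exact ⟨_, hxΦ ⟨y, hy2⟩ hy1 hw, rfl⟩

end Cfsg.Agent.FusionSys
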