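import Cfsg.Agent.Lib.Fusion.ResidualSeries

/-!
# The criterion for a terminating residual series
-/

set_option autoImplicit false

namespace Cfsg.Agent.FusionSys

open Cfsg Cfsg.FusionSystem

variable {Ω : Type*} [Group Ω] {S T : Subgroup Ω} {p : ℕ} [hp : Fact p.Prime]

omit hp in
theorem isCentric_of_normal [Finite S] {F : FusionSystem S} {Q : Subgroup Ω} (h : F.IsNormal Q)
    (hc : centralizerIn S Q ≤ Q) : F.IsCentric Q := by
  refine ⟨h.1, fun R ⟨φ, hφ, hr⟩ => ?_⟩
  haveI := finite_of_le h.1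
  have he : R = Q := by
    subst hr
    exact Subgroup.eq_of_le_of_card_ge
      (by rintro _ ⟨x, rfl⟩; exact (isNormal_stronglyClosed h).2 Q le_rfl φ hφ x) (isConj_card ⟨φ, hφ, rfl⟩).le
  rw [he]
  exact hc

omit hp in
/-- Normal subgroups are carried to normal subgroups by isomorphisms. -/
theorem IsFusIso.normal_image {Ω' : Type*} [Group Ω'] {T : Subgroup Ω'} {F : FusionSystem S} {E : FusionSystem T}
    {ι : S →* Ω'} (h : IsFusIso F E ι) [Finite S] {Q : Subgroup Ω} (hQ : F.IsNormal Q) :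
    E.IsNormal (imageAlong ι Q) := by
  obtain ⟨hQS, hext⟩ := hQ
  haveI := h.finite_range
  refine ⟨imageAlong_le h.range Q, fun P' φ' hφ' => ?_⟩
  set P := preimageAlong ι P'
  have hPS : P ≤ S := preimageAlong_le_src ι P'
  have hP' : imageAlong ι P = P' := IsFusIso.imageAlong_preimage h.range (hom_le E hφ')
  obtain ⟨φ, hφ, hφS, hφe⟩ := h.exists_pull hPS (restrict_mem E hφ' hP'.le)
  obtain ⟨ψ, hψ, hψP, hψQ⟩ := hext P φ hφ
  obtain ⟨ψ', hψ', hψe⟩ := h.exists_push hψ
  have himg : imageAlong ι (P ⊔ Q) = P' ⊔ imageAlong ι Q := by rw [imageAlong_sup hPS hQS, hP']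
  refine ⟨ψ'.comp (Subgroup.inclusion himg.ge), restrict_mem E hψ' himg.ge, fun y => ?_, ?_⟩
  · obtain ⟨y, hy⟩ := y
    obtain ⟨x, hx, rfl⟩ := hP'.ge hy
    refine (hψe ⟨x, le_sup_left (b := Q) hx⟩ _).trans ?_
    refine (congrArg ι (Subtype.ext (hψP ⟨x, hx⟩) : (_ : S) = ⟨φ ⟨x, hx⟩, hφS _⟩)).trans ?_
    exact (hφe ⟨x, hx⟩ (hP'.ge hy)).symm
  · ext z
    constructor
    · rintro ⟨⟨y, hy⟩, ⟨x, hx, hxy⟩, rfl⟩
      obtain rfl : ι x = y := hxy
      refine ⟨⟨ψ ⟨x, le_sup_right (a := P) hx⟩, hom_apply_mem F hψ _⟩, hψQ.le ⟨⟨x, _⟩, hx, rfl⟩, ?_⟩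
      exact (hψe ⟨x, le_sup_right (a := P) hx⟩ _).symm
    · rintro ⟨w, hw, rfl⟩
      obtain ⟨⟨x, hx⟩, hxQ, hxw⟩ := hψQ.ge hw
      refine ⟨⟨ι ⟨x, hQS hxQ⟩, le_sup_right (a := P') (imageAlong_mem (x := ⟨x, hQS hxQ⟩) hxQ)⟩,
        imageAlong_mem (x := ⟨x, hQS hxQ⟩) hxQ, ?_⟩
      exact (hψe ⟨x, hx⟩ _).trans (congrArg ι (Subtype.ext hxw))

variable [Finite S] {F : FusionSystem S} {D : FusionSystem T}

/-- The core of an invariant subsystem is normal. -/
theorem core_normal_of_invariant (hS : IsPGroup p S) (hD : D.IsWeaklyNormalIn F p) : F.IsNormal D.core := by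
  obtain ⟨hDs, hFs, hsub, hcl, hAI, hfr⟩ := hD
  haveI := finite_of_le hcl.1
  have hn := core_isNormal D
  have hQT : D.core ≤ T := hn.1
  have hQS : D.core ≤ S := hQT.trans hcl.1
  haveI := finite_of_le hQS
  refine (isNormal_iff_restrict hS hFs hQS).2 fun P hP φ hφ => ?_
  obtain ⟨α, hα, φ₀, hφ₀, he⟩ := hfr P (hP.trans hQT) φ hφ
  obtain ⟨β, hβ, hβe⟩ := exists_aut_of_isNormal hn hP hφ₀
  have h := isFusIso_of_invariant hAI hα
  have hle : imageAlong (T.subtype.comp α.toMonoidHom) D.core ≤ D.core :=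
    isNormal_le_core (h.normal_image hn)
  have hres := restrict_mem F ((mem_autGroup_iff F hcl.1 α).1 hα) hQT
  have hr : ((T.subtype.comp α.toMonoidHom).comp (Subgroup.inclusion hQT)).range = D.core := by
    refine Subgroup.eq_of_le_of_card_ge ?_ (isConj_card ⟨_, hres, rfl⟩).le
    rintro _ ⟨x, rfl⟩
    exact hle (imageAlong_mem (ι := T.subtype.comp α.toMonoidHom) (x := Subgroup.inclusion hQT x) x.2)
  obtain ⟨δ, hδ, hδe⟩ := exists_autGroup_of_range F hres hr
  refine ⟨δ * β, Subgroup.mul_mem _ hδ (autGroup_mono hsub _ hβ), fun x => ?_⟩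
  rw [MulAut.mul_apply, hδe]
  refine Eq.trans ?_ (he x (hom_apply_mem D hφ₀ x)).symm
  exact congrArg (fun z : T => ((α z : T) : Ω)) (Subtype.ext (hβe x))

/-- A system with an invariant constrained subsystem on a carrier containing the hyperfocal subgroup is
constrained. -/
theorem constrained_of_sub (hS : IsPGroup p S) (hD : D.IsWeaklyNormalIn F p) (hT : F.hyperfocalSubgroup p ≤ T)
    (hc : D.IsConstrained p) : F.IsConstrained p := by
  have hQF := core_normal_of_invariant hS hD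
  obtain ⟨hDs, hFs, hsub, hcl, -, -⟩ := hD
  haveI := finite_of_le hcl.1
  obtain ⟨-, Q₀, hQ₀n, hQ₀c⟩ := hc
  set Q := D.core
  have hQT : Q ≤ T := (core_isNormal D).1
  have hCT : centralizerIn T Q ≤ Q := fun x hx =>
    isNormal_le_core hQ₀n (hQ₀c.2 Q₀ (isConj_refl D hQ₀n.1)
      ⟨hx.1, Subgroup.centralizer_le (isNormal_le_core hQ₀n) hx.2⟩)
  set W := centralizerIn S Q with hW
  have hR := stronglyClosed_sup_centralizer hS hFs (isNormal_stronglyClosed hQF)
  have hSN : S ≤ normalizerIn S Q := le_inf le_rfl (isNormal_le_normalizer hQF)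
  have hWn : S ≤ Subgroup.normalizer (W : Set Ω) := hSN.trans (centralizerIn_normal S Q)
  suffices hn : F.IsNormal (Q ⊔ W) from ⟨hFs, Q ⊔ W, hn, isCentric_of_normal hn
    fun x hx => le_sup_right (a := Q) ⟨hx.1, Subgroup.centralizer_le (fun y hy => le_sup_left (b := W) hy) hx.2⟩⟩
  refine isNormal_of_le_centricRadical hS hFs hR fun P hPc hPr => ?_
  have hQP := isNormal_le_centricRadical hS hQF hPc hPr
  refine sup_le hQP (le_of_normalizer_le hS hPc.1 (centralizerIn_le S Q) hWn fun x hx hxN => ?_)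
  haveI := finite_of_le hPc.1
  refine mem_of_stabilizer hS hPc hPr (ι := Bool) (fun j => if j then T else Q) (fun j => if j then Q else ⊥)
    ?_ ?_ ?_ hx.1 hxN ?_
  · intro j α hα y hy
    cases j
    · exact stronglyClosed_autGroup_mem (isNormal_stronglyClosed hQF) hPc.1 hα y hy
    · exact stronglyClosed_autGroup_mem hcl hPc.1 hα y hy
  · intro j α hα y hy
    cases j
    · obtain rfl : y = 1 := Subtype.ext hy
      simp
    · exact stronglyClosed_autGroup_mem (isNormal_stronglyClosed hQF) hPc.1 hα y hy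
  · intro α hα hco hst
    refine MulEquiv.ext fun y => ?_
    have h1 : ((y⁻¹ * α y : P) : Ω) ∈ T := hT (hyperfocal_mem hPc.1 (a := ⟨α, hα⟩) (Subgroup.subset_closure (by
      show (orderOf (⟨α, hα⟩ : F.autGroup P)).Coprime p
      rwa [← Subgroup.orderOf_coe])) y)
    refine fix_of_step (hS.to_le hPc.1) hco ?_
    refine fix_of_step (hS.to_le hPc.1) hco ?_
    have h2 : (((y⁻¹ * α y)⁻¹ * α (y⁻¹ * α y) : P) : Ω) ∈ Q := hst true _ h1
    have h3 := hst false _ h2
    exact (inv_mul_eq_one.1 (Subtype.ext (Subgroup.mem_bot.1 h3))).symm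
  · intro j y hyP hyA
    cases j
    · show y⁻¹ * (x * y * x⁻¹) ∈ (⊥ : Subgroup Ω)
      rw [Subgroup.mem_bot, ← Subgroup.mem_centralizer_iff.1 hx.2 y hyA]
      group
    · refine hCT ⟨T.mul_mem (T.inv_mem hyA) ((Subgroup.mem_normalizer_iff.1
        (stronglyClosed_le_normalizer hcl hx.1) y).1 hyA), ?_⟩
      have h1 := (Subgroup.mem_normalizer_iff.1 (hWn (S.inv_mem (hcl.1 hyA))) x).1 hx
      have h2 := (Subgroup.mul_mem _ h1 (W.inv_mem hx)).2
      simpa [mul_assoc] using h2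

omit hp in
theorem weaklyNormal_self (hF : F.IsSaturated p) : F.IsWeaklyNormalIn F p := by
  refine ⟨hF, hF, fun _ _ h => h, ⟨le_rfl, fun P _ φ hφ x => hom_apply_mem F hφ x⟩,
    fun P hP φ hφ α hα => ?_, fun P _ φ hφ => ⟨1, Subgroup.one_mem _, φ, hφ, fun _ _ => rfl⟩⟩
  have h := isFusIso_of_mem ((mem_autGroup_iff F le_rfl α).1 hα)
  obtain ⟨χ, hχ, he⟩ := h.exists_push hφ
  exact ⟨χ, hχ, fun x hφx hαx => he x hαx⟩

/-- A group without proper residuals that is `p`-soluble is trivial. -/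
theorem eq_one_of_psolvable {G : Type*} [Group G] [Finite G] (h : Cfsg.IsPSolvable p G)
    (hres : Cfsg.pResidual p G = ⊤) (hgen : Cfsg.pElementClosure p (⊤ : Subgroup G) = ⊤) : (⊥ : Subgroup G) = ⊤ := by
  obtain ⟨n, H, h0, hlast, hmono, hnorm, hfac⟩ := h
  suffices hall : ∀ i : Fin (n + 1), H i = ⊤ by rw [← h0, hall 0]
  intro i
  induction i using Fin.reverseInduction with
  | last => exact hlast
  | cast i ih =>
    haveI := hnorm i.castSucc
    rcases hfac i with ⟨m, hm⟩ | hc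
    · rw [ih, Subgroup.relIndex_top_right] at hm
      refine top_le_iff.1 (hres ▸ Cfsg.Agent.PBasic.pResidual_le ?_)
      exact IsPGroup.of_card (n := m) hm
    · rw [ih, Subgroup.relIndex_top_right] at hc
      refine top_le_iff.1 (hgen ▸ (Subgroup.closure_le _).2 ?_)
      rintro x ⟨-, k, hk⟩
      refine (QuotientGroup.eq_one_iff x).1 (orderOf_eq_one_iff.1 (Nat.eq_one_of_dvd_coprimes
        (Nat.Coprime.pow_right k hc) (orderOf_dvd_natCard _) (hk ▸ orderOf_map_dvd (QuotientGroup.mk' _) x)))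

theorem pElementClosure_self_top {G : Type*} [Group G] :
    Cfsg.pElementClosure p (⊤ : Subgroup ↥(Cfsg.pElementClosure p (⊤ : Subgroup G))) = ⊤ := by
  rw [eq_top_iff]
  have hle : Cfsg.pElementClosure p (⊤ : Subgroup G) ≤ (Cfsg.pElementClosure p
      (⊤ : Subgroup ↥(Cfsg.pElementClosure p (⊤ : Subgroup G)))).map (Cfsg.pElementClosure p (⊤ : Subgroup G)).subtype := by
    refine (Subgroup.closure_le _).2 ?_
    rintro x ⟨hx, k, hk⟩
    refine ⟨⟨x, Subgroup.subset_closure ⟨hx, k, hk⟩⟩, Subgroup.subset_closure ⟨Subgroup.mem_top _, k, ?_⟩, rfl⟩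
    exact (Subgroup.orderOf_coe _).symm.trans hk
  intro x _
  obtain ⟨y, hy, hyx⟩ := hle x.2
  rwa [show x = y from Subtype.ext hyx.symm]

omit [Finite S] in
/-- A terminating series gives constraint and `p`-soluble models. -/
theorem constrained_of_series {F : FusionSystem S} (h : F.HasTerminatingResidualSeries p) :
    Fact p.Prime → Finite S → IsPGroup p S → F.IsSaturated p → F.IsConstrained p ∧
      ∀ {G : Type*} [Group G] (ι : S →* G), F.IsModel p G ι → Cfsg.IsPSolvable p G := by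
  induction h with
  | @trivial S F p hbot =>
    intro hp hfin hS hF
    haveI := hp
    haveI := hfin
    refine ⟨⟨hF, ⊥, isNormal_bot F, isCentric_of_normal (isNormal_bot F) ((centralizerIn_le S ⊥).trans hbot.le)⟩,
      fun {G} _ ι hM => ?_⟩
    haveI := hM.1
    have hle : Cfsg.pCore p G ≤ ⊥ := fun g hg => by
      obtain ⟨s, rfl⟩ := model_pCore_le hM hg
      rw [show s = 1 from Subtype.ext (Subgroup.mem_bot.1 (hbot.le s.2)), map_one]
      exact Subgroup.one_mem _
    refine Cfsg.Agent.PSolvable.of_isPGroup fun g => ⟨0, ?_⟩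
    have h1 : g ∈ Cfsg.pCore p G := hM.2.2.2 (Subgroup.mem_centralizer_iff.2 fun y hy => by
      rw [Subgroup.mem_bot.1 (hle hy), one_mul, mul_one])
    simpa using Subgroup.mem_bot.1 (hle h1)
  | @step S F E p D hE hD _ ih =>
    intro hp hfin hS hF
    haveI := hp
    haveI := hfin
    have hTS : E.hyperfocalSubgroup p ≤ S := hyperfocal_le E
    haveI := finite_of_le hTS
    obtain ⟨hDc, hDG⟩ := ih hp inferInstance (hS.to_le hTS) hD.1
    have hTn : ((E.hyperfocalSubgroup p).subgroupOf S).Normal :=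
      ⟨fun x hx g => hyperfocal_conj_mem E g.2 hx⟩
    have hEc := constrained_of_sub hS (pPower_isNormalIn hS hE.1 hTS hTn hD.1 hD.2).1 le_rfl hDc
    have hFc := constrained_of_sub hS (pPrimeResidual_isNormalIn hS (weaklyNormal_self hF) hE).1
      (hyperfocal_le F) hEc
    refine ⟨hFc, fun {G} _ ι hM => ?_⟩
    haveI := hM.1
    obtain ⟨κ, hκ⟩ := pPrimeResidual_model hM hE
    obtain ⟨κ', hκ'⟩ := pResidual_model hκ hD
    haveI := pElementClosure_top_normal (G := G) (p := p)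
    haveI := Cfsg.Agent.PBasic.pResidual_normal_inst p ↥(Cfsg.pElementClosure p (⊤ : Subgroup G))
    have hK : Cfsg.IsPSolvable p ↥(Cfsg.pElementClosure p (⊤ : Subgroup G)) :=
      Cfsg.Agent.PSolvable.of_extension (Cfsg.pResidual p ↥(Cfsg.pElementClosure p (⊤ : Subgroup G))) (hDG κ' hκ')
      (Cfsg.Agent.PSolvable.of_isPGroup (Cfsg.Agent.PBasic.quotient_isPGroup_of_pResidual_le le_rfl))
    refine Cfsg.Agent.PSolvable.of_extension (Cfsg.pElementClosure p (⊤ : Subgroup G)) hK (Cfsg.Agent.PSolvable.of_coprime ?_)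
    obtain ⟨R, hR⟩ := hM.2.2.1
    have hle : (R : Subgroup G) ≤ Cfsg.pElementClosure p (⊤ : Subgroup G) := Cfsg.Agent.LEAmalgam.le_pElementClosure R.2 le_top
    exact Nat.Coprime.coprime_dvd_left (Subgroup.index_dvd_of_le hle)
      ((Nat.Prime.coprime_iff_not_dvd hp.out).2 R.not_dvd_index).symm

/-- A system with a `p`-soluble model has a terminating series. -/
theorem series_of_model {G : Type*} [Group G] {ι : S →* G} (hM : F.IsModel p G ι) (hsol : Cfsg.IsPSolvable p G) :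
    F.HasTerminatingResidualSeries p := by
  induction hk : Nat.card S using Nat.strong_induction_on generalizing S G with
  | _ k ih =>
  by_cases hbot : S = ⊥
  · exact .trivial F p hbot
  haveI := hM.1
  obtain ⟨R, hR⟩ := hM.2.2.1
  have hS : IsPGroup p S := (hR ▸ R.2 : IsPGroup p ι.range).of_equiv (MonoidHom.ofInjective hM.2.1.1).symm
  have hF := saturated_of_realized hM.2.1 hM.2.2.1
  have hE := exists_pPrimeResidual hS hF
  obtain ⟨κ, hκ⟩ := pPrimeResidual_model hM hE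
  set E := pPrimeSys F p
  have hTS : E.hyperfocalSubgroup p ≤ S := hyperfocal_le E
  haveI := finite_of_le hTS
  obtain ⟨D, hD, hDi, -⟩ := exists_pPower hS hE.1 hTS le_rfl
  obtain ⟨κ', hκ'⟩ := pResidual_model hκ ⟨hD, hDi⟩
  have hKs := Cfsg.Agent.PSolvable.subgroup (Cfsg.pElementClosure p (⊤ : Subgroup G)) hsol
  refine .step F E p D hE ⟨hD, hDi⟩ (ih _ ?_ hκ' (Cfsg.Agent.PSolvable.subgroup _ hKs) rfl)
  rw [← hk]
  refine lt_of_le_of_ne (Subgroup.card_le_of_le hTS) fun he => hbot ?_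
  have hTeq : E.hyperfocalSubgroup p = S := Subgroup.eq_of_le_of_card_ge hTS he.ge
  haveI := Cfsg.Agent.PBasic.pResidual_normal_inst p ↥(Cfsg.pElementClosure p (⊤ : Subgroup G))
  have hL : Cfsg.pResidual p ↥(Cfsg.pElementClosure p (⊤ : Subgroup G)) = ⊤ := by
    obtain ⟨RK, hRK⟩ := hκ.2.2.1
    have hle : (RK : Subgroup ↥(Cfsg.pElementClosure p (⊤ : Subgroup G))) ≤ Cfsg.pResidual p ↥(Cfsg.pElementClosure p (⊤ : Subgroup G)) := by
      rw [hRK]
      rintro _ ⟨x, rfl⟩
      exact (model_hyperfocal hκ x).1 (hTeq.ge x.2)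
    obtain ⟨m, hm⟩ := IsPGroup.iff_card.1
      (Cfsg.Agent.PBasic.quotient_isPGroup_of_pResidual_le (N := Cfsg.pResidual p ↥(Cfsg.pElementClosure p (⊤ : Subgroup G))) le_rfl)
    rcases m with _ | m
    · exact Subgroup.index_eq_one.1 (hm.trans (pow_zero p))
    · exfalso
      refine RK.not_dvd_index ((dvd_pow_self p m.succ_ne_zero).trans ?_)
      exact (dvd_of_eq hm.symm).trans (Subgroup.index_dvd_of_le hle)
  have hKt := eq_one_of_psolvable hKs hL pElementClosure_self_top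
  rw [Subgroup.eq_bot_iff_forall]
  intro x hx
  have : κ ⟨x, hx⟩ ∈ (⊥ : Subgroup ↥(Cfsg.pElementClosure p (⊤ : Subgroup G))) := hKt ▸ Subgroup.mem_top _
  rw [Subgroup.mem_bot, ← map_one κ] at this
  exact congrArg Subtype.val (hκ.2.1.1 this)

end Cfsg.Agent.FusionSys
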