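import Cfsg.Agent.Lib.Fusion.Normal
import Cfsg.Agent.Lib.Fusion.FactorMorphism
import Cfsg.Agent.Lib.Fusion.SurjectiveSaturated
import Cfsg.Prelude.Def_FusionComponents

/-!
# Solvable systems and chains of strongly closed subgroups
-/

set_option autoImplicit false

open scoped commutatorElement

namespace Cfsg.Agent.FusionSys

open Cfsg Cfsg.FusionSystem

variable {Ω : Type*} [Group Ω] {S : Subgroup Ω} [Finite S] {p : ℕ} [hp : Fact p.Prime] {F : FusionSystem S}

omit [Finite S] hp in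
/-- A chain of strongly closed subgroups from `A` to `B` with abelian quotients. -/
def HasAbChain (F : FusionSystem S) (A B : Subgroup Ω) : Prop :=
  ∃ (n : ℕ) (T : Fin (n + 1) → Subgroup Ω), T 0 = A ∧ T (Fin.last n) = B ∧ Monotone T ∧
    (∀ i, F.StronglyClosed (T i)) ∧ ∀ i : Fin n, ⁅T i.succ, T i.succ⁆ ≤ T (Fin.castSucc i)

omit [Finite S] hp in
theorem hasAbChain_refl {A : Subgroup Ω} (hA : F.StronglyClosed A) : HasAbChain F A A :=
  ⟨0, fun _ => A, rfl, rfl, monotone_const, fun _ => hA, fun i => i.elim0⟩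

omit [Finite S] hp in
theorem hasAbChain_cons {A A' B : Subgroup Ω} (hA : F.StronglyClosed A) (hle : A ≤ A') (hab : ⁅A', A'⁆ ≤ A)
    (h : HasAbChain F A' B) : HasAbChain F A B := by
  obtain ⟨n, T, h0, hl, hm, hsc, hc⟩ := h
  refine ⟨n + 1, Fin.cons A T, by simp, ?_, ?_, ?_, ?_⟩
  · rw [← Fin.succ_last, Fin.cons_succ, hl]
  · refine Fin.monotone_iff_le_succ.2 fun i => ?_
    cases i using Fin.cases with
    | zero => simpa [h0] using hle
    | succ j =>
      rw [Fin.castSucc_succ, Fin.cons_succ, Fin.cons_succ]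
      exact hm (Fin.castSucc_lt_succ).le
  · intro i
    cases i using Fin.cases with
    | zero => simpa using hA
    | succ j => simpa using hsc j
  · intro i
    cases i using Fin.cases with
    | zero => simpa [h0] using hab
    | succ j =>
      rw [Fin.castSucc_succ, Fin.cons_succ, Fin.cons_succ]
      exact hc j

/-- The factor system on the quotient is saturated. -/
theorem factor_top_saturated (hS : IsPGroup p S) (hF : F.IsSaturated p) {R : Subgroup Ω} (hR : F.StronglyClosed R)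
    [(R.subgroupOf S).Normal] {E : FusionSystem (⊤ : Subgroup (S ⧸ R.subgroupOf S))}
    (hE : F.IsFactorSystem R (QuotientGroup.mk' (R.subgroupOf S)) E) : E.IsSaturated p :=
  saturated_of_surjectiveMorphism hS hF (factor_surjectiveMorphism hS hF hR hE)

omit hp in
/-- The centre of a normal subgroup is strongly closed. -/
theorem stronglyClosed_center_of_normal {C : Subgroup Ω} (hC : F.IsNormal C) :
    F.StronglyClosed (C ⊓ Subgroup.centralizer (C : Set Ω)) := by
  refine ⟨inf_le_left.trans hC.1, fun R hR φ hφ x => ?_⟩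
  obtain ⟨α, -, hα⟩ := exists_aut_of_isNormal hC (hR.trans inf_le_left) hφ
  rw [← hα x]
  refine ⟨(α _).2, Subgroup.mem_centralizer_iff.2 fun c hc => ?_⟩
  have h := Subgroup.mem_centralizer_iff.1 (hR x.2).2 (α.symm ⟨c, hc⟩) (α.symm ⟨c, hc⟩).2
  have e := congrArg (fun z : C => ((α z : C) : Ω))
    (Subtype.ext h : α.symm ⟨c, hc⟩ * Subgroup.inclusion (hR.trans inf_le_left) x =
      Subgroup.inclusion (hR.trans inf_le_left) x * α.symm ⟨c, hc⟩)
  simpa using e

omit [Finite S] in
theorem center_ne_bot_of_ne_bot {C : Subgroup Ω} [Finite C] (hC : IsPGroup p C) (hne : C ≠ ⊥) :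
    C ⊓ Subgroup.centralizer (C : Set Ω) ≠ ⊥ := by
  haveI := (Subgroup.nontrivial_iff_ne_bot C).2 hne
  haveI := hC.center_nontrivial
  intro h
  obtain ⟨z, hz⟩ := exists_ne (1 : Subgroup.center C)
  refine hz (Subtype.ext (Subtype.ext (Subgroup.mem_bot.1 (h ▸ ⟨(z : C).2,
    Subgroup.mem_centralizer_iff.2 fun s hs => ?_⟩))))
  exact congrArg Subtype.val (Subgroup.mem_center_iff.1 z.2 ⟨s, hs⟩)

section factor

variable {S₀ : Subgroup Ω} {Ω' : Type*} [Group Ω'] {S' : Subgroup Ω'} {θ : S →* Ω'} {E : FusionSystem S'}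

/-- The preimage of a strongly closed subgroup is strongly closed. -/
theorem stronglyClosed_preimage (hS : IsPGroup p S) (hF : F.IsSaturated p) (hS₀ : F.StronglyClosed S₀)
    (hE : F.IsFactorSystem S₀ θ E) {V : Subgroup Ω'} (hV : E.StronglyClosed V) :
    F.StronglyClosed (preimageAlong θ V) := by
  refine ⟨Subgroup.map_subtype_le _, fun R hR φ hφ x => ?_⟩
  obtain ⟨φ', hφ', hRS, hφS, hRm, hind⟩ := exists_induced hS hF hS₀ hE hφ
  refine (mem_preimageAlong _ _ _).2 ⟨hφS x, ?_⟩
  rw [← hind x]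
  refine hV.2 _ ?_ φ' hφ' _
  intro y hy
  obtain ⟨z, hzS, hzR, rfl⟩ := mem_imageAlong.1 hy
  exact ((mem_preimageAlong _ _ _).1 (hR hzR)).2

omit [Finite S] hp in
/-- The image of a strongly closed subgroup over the kernel is strongly closed. -/
theorem stronglyClosed_image (hE : F.IsFactorSystem S₀ θ E) {A : Subgroup Ω} (hA : F.StronglyClosed A)
    (hle : S₀ ≤ A) : E.StronglyClosed (imageAlong θ A) := by
  obtain ⟨-, hker, hran, hspec⟩ := hE
  refine ⟨?_, fun R' hR' φ' hφ' y => ?_⟩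
  · intro y hy
    obtain ⟨z, hzS, -, rfl⟩ := mem_imageAlong.1 hy
    exact hran ▸ ⟨_, rfl⟩
  · obtain ⟨hR'S, φ, hφ, hPS, hφS, hPm, hind⟩ := (hspec R' φ').1 hφ'
    have hPA : preimageAlong θ R' ≤ A := by
      intro z hz
      obtain ⟨hzS, hzm⟩ := (mem_preimageAlong _ _ _).1 hz
      obtain ⟨a, haS, haA, hae⟩ := mem_imageAlong.1 (hR' hzm)
      have h := hle ((hker (⟨a, haS⟩⁻¹ * ⟨z, hzS⟩)).1 (by rw [map_mul, map_inv, hae, inv_mul_cancel]))
      have h2 := A.mul_mem haA h
      simpa using h2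
    obtain ⟨s, hs⟩ := hran.ge (hR'S y.2)
    have hsP : (s : Ω) ∈ preimageAlong θ R' := (mem_preimageAlong _ _ _).2 ⟨s.2, hs ▸ y.2⟩
    have h := hind ⟨s, hsP⟩
    rw [show (⟨θ ⟨(s : Ω), hPS hsP⟩, hPm ⟨s, hsP⟩⟩ : R') = y from Subtype.ext hs] at h
    rw [h]
    exact mem_imageAlong.2 ⟨_, hφS _, hA.2 _ hPA φ hφ _, rfl⟩

end factor

omit [Finite S] hp in
theorem abelian_of_commutator {A : Subgroup Ω} {R : Subgroup Ω} [(R.subgroupOf S).Normal] (hA : A ≤ S)
    (hab : ⁅A, A⁆ ≤ R) : ∀ x ∈ imageAlong (QuotientGroup.mk' (R.subgroupOf S)) A,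
      ∀ y ∈ imageAlong (QuotientGroup.mk' (R.subgroupOf S)) A, x * y = y * x := by
  intro x hx y hy
  obtain ⟨a, haS, ha, rfl⟩ := mem_imageAlong.1 hx
  obtain ⟨b, hbS, hb, rfl⟩ := mem_imageAlong.1 hy
  refine commutatorElement_eq_one_iff_mul_comm.1 ?_
  rw [← map_commutatorElement]
  exact (QuotientGroup.eq_one_iff _).2 (hab (Subgroup.commutator_mem_commutator ha hb))

/-- A chain gives a nontrivial core in every proper factor system. -/
theorem solvable_of_chain (hS : IsPGroup p S) (hF : F.IsSaturated p) (h : HasAbChain F ⊥ S) :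
    F.IsSolvableSystem := by
  obtain ⟨n, T, h0, hl, hm, hsc, hc⟩ := h
  intro R hR hRS hn E hE
  have hle : ∀ k, (hk : k < n + 1) → T ⟨k, hk⟩ ≤ R ∨ E.core ≠ ⊥ := by
    intro k
    induction k with
    | zero => intro hk; exact Or.inl ((show T ⟨0, hk⟩ = ⊥ from h0) ▸ bot_le)
    | succ k ih =>
      intro hk
      rcases ih (by omega) with hkR | h
      · by_cases hsucc : T ⟨k + 1, hk⟩ ≤ R
        · exact Or.inl hsucc
        right
        set A := R ⊔ T ⟨k + 1, hk⟩ with hA
        have hAsc : F.StronglyClosed A := stronglyClosed_sup hS hF hR (hsc _)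
        have hab0 : ⁅T ⟨k + 1, hk⟩, T ⟨k + 1, hk⟩⁆ ≤ R := (hc ⟨k, by omega⟩).trans hkR
        have hAimg : imageAlong (QuotientGroup.mk' (R.subgroupOf S)) A =
            imageAlong (QuotientGroup.mk' (R.subgroupOf S)) (T ⟨k + 1, hk⟩) := by
          unfold imageAlong
          rw [hA, Subgroup.subgroupOf_sup hR.1 (hsc _).1, Subgroup.map_sup,
            (Subgroup.map_eq_bot_iff _).2 (QuotientGroup.ker_mk' _).ge, bot_sup_eq]
        have hnorm := isNormal_of_abelian ((hS.to_quotient _).to_subgroup _) (factor_top_saturated hS hF hR hE)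
          (stronglyClosed_image hE hAsc le_sup_left)
          (by rw [hAimg]; exact abelian_of_commutator (hsc _).1 hab0)
        intro hcore
        refine hsucc fun t ht => ?_
        have h1 : (QuotientGroup.mk' (R.subgroupOf S)) ⟨t, (hsc _).1 ht⟩ ∈ E.core :=
          isNormal_le_core hnorm (mem_imageAlong.2 ⟨t, _, Subgroup.mem_sup_right ht, rfl⟩)
        rw [hcore, Subgroup.mem_bot] at h1
        exact (QuotientGroup.eq_one_iff (⟨t, (hsc _).1 ht⟩ : S)).1 h1
      · exact Or.inr h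
  rcases hle n (by omega) with h | h
  · exact absurd (le_antisymm hR.1 ((hl : T ⟨n, by omega⟩ = S) ▸ h)) hRS
  · exact h

/-- One step up from a strongly closed subgroup of a solvable system. -/
theorem exists_abelian_step (hS : IsPGroup p S) (hF : F.IsSaturated p) (hsol : F.IsSolvableSystem)
    {R : Subgroup Ω} (hR : F.StronglyClosed R) (hRS : R ≠ S) :
    ∃ A, F.StronglyClosed A ∧ R < A ∧ ⁅A, A⁆ ≤ R := by
  haveI hn : (R.subgroupOf S).Normal :=
    ⟨fun x hx g => (Subgroup.mem_normalizer_iff.1 (stronglyClosed_le_normalizer hR g.2) _).1 hx⟩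
  set θ := QuotientGroup.mk' (R.subgroupOf S) with hθ
  have hker : ∀ s : S, θ s = 1 ↔ (s : Ω) ∈ R := fun s => QuotientGroup.eq_one_iff s
  have hran : θ.range = (⊤ : Subgroup (S ⧸ R.subgroupOf S)) :=
    MonoidHom.range_eq_top.2 (QuotientGroup.mk'_surjective _)
  set E := factorSystem F hR θ hker hran
  have hE : F.IsFactorSystem R θ E := ⟨hR.1, hker, hran, fun _ _ => Iff.rfl⟩
  have hcore := hsol R hR hRS E hE
  have hC := core_isNormal E
  set Z := E.core ⊓ Subgroup.centralizer (E.core : Set (S ⧸ R.subgroupOf S))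
  have hZ := stronglyClosed_center_of_normal hC
  have hZne : Z ≠ ⊥ := center_ne_bot_of_ne_bot ((hS.to_quotient _).to_subgroup _) hcore
  have hRle : R ≤ preimageAlong θ Z := fun r hr =>
    (mem_preimageAlong _ _ _).2 ⟨hR.1 hr, by rw [(hker ⟨r, hR.1 hr⟩).2 hr]; exact one_mem _⟩
  refine ⟨preimageAlong θ Z, stronglyClosed_preimage hS hF hR hE hZ, lt_of_le_of_ne hRle fun he => hZne ?_, ?_⟩
  · rw [eq_bot_iff]
    intro z hz
    obtain ⟨s, rfl⟩ := QuotientGroup.mk'_surjective (R.subgroupOf S) z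
    have h1 : (s : Ω) ∈ preimageAlong θ Z := (mem_preimageAlong _ _ _).2 ⟨s.2, hz⟩
    rw [← he] at h1
    exact Subgroup.mem_bot.2 ((hker s).2 h1)
  · rw [Subgroup.commutator_le]
    intro a ha b hb
    obtain ⟨haS, ham⟩ := (mem_preimageAlong _ _ _).1 ha
    obtain ⟨hbS, hbm⟩ := (mem_preimageAlong _ _ _).1 hb
    refine (hker ⁅(⟨a, haS⟩ : S), ⟨b, hbS⟩⁆).1 ?_
    rw [map_commutatorElement, commutatorElement_eq_one_iff_mul_comm]
    exact Subgroup.mem_centralizer_iff.1 hbm.2 _ ham.1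

/-- A solvable system has a chain. -/
theorem chain_of_solvable (hS : IsPGroup p S) (hF : F.IsSaturated p) (hsol : F.IsSolvableSystem)
    {R : Subgroup Ω} (hR : F.StronglyClosed R) : HasAbChain F R S := by
  induction hk : Nat.card S - Nat.card R using Nat.strong_induction_on generalizing R with
  | _ k ih =>
  by_cases hRS : R = S
  · subst hRS; exact hasAbChain_refl hR
  obtain ⟨A, hA, hlt, hab⟩ := exists_abelian_step hS hF hsol hR hRS
  refine hasAbChain_cons hR hlt.le hab (ih _ ?_ hA rfl)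
  haveI := finite_of_le (S := S) hA.1
  have h1 : Nat.card R < Nat.card A :=
    Set.Finite.card_lt_card (Set.toFinite (A : Set Ω)) (SetLike.coe_ssubset_coe.2 hlt)
  have h2 : Nat.card A ≤ Nat.card S := Subgroup.card_le_of_le hA.1
  omega

/-- A solvable system is constrained. -/
theorem constrained_of_solvable (hS : IsPGroup p S) (hF : F.IsSaturated p) (hsol : F.IsSolvableSystem) :
    F.IsConstrained p := by
  set Q := F.core with hQdef
  have hQ := core_isNormal F
  have hQc := isNormal_stronglyClosed hQ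
  haveI := finite_of_le (S := S) hQ.1
  refine ⟨hF, Q, hQ, hQ.1, fun Q' hQ' => ?_⟩
  obtain ⟨φ, hφ, rfl⟩ := hQ'
  have hr : φ.range = Q := Subgroup.eq_of_le_of_card_ge
    (by rintro _ ⟨x, rfl⟩; exact hQc.2 Q le_rfl φ hφ x) (isConj_card ⟨φ, hφ, rfl⟩).le
  rw [hr]
  by_contra hnc
  set B := Q ⊔ centralizerIn S Q with hB
  have hBsc : F.StronglyClosed B := stronglyClosed_sup_centralizer hS hF hQc
  obtain ⟨n, T, h0, hl, hm, hsc, hcm⟩ := chain_of_solvable hS hF hsol (stronglyClosed_bot F)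
  -- the first term leaving the core
  obtain ⟨i, hi, hlow⟩ : ∃ i : Fin n, ¬ T i.succ ⊓ B ≤ Q ∧ T i.castSucc ⊓ B ≤ Q := by
    by_contra hno
    push_neg at hno
    have hall : ∀ k, (hk : k < n + 1) → T ⟨k, hk⟩ ⊓ B ≤ Q := by
      intro k
      induction k with
      | zero => intro hk; exact inf_le_left.trans ((show T ⟨0, hk⟩ = ⊥ from h0) ▸ bot_le)
      | succ k ih =>
        intro hk
        by_contra h
        exact hno ⟨k, by omega⟩ h (ih (by omega))
    have h1 := hall n (by omega)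
    rw [show T ⟨n, _⟩ = S from hl, inf_eq_right.2 hBsc.1] at h1
    exact hnc (le_sup_right.trans h1)
  set V := Q ⊔ (T i.succ ⊓ B) with hV
  have hVsc : F.StronglyClosed V := stronglyClosed_sup hS hF hQc (stronglyClosed_inf (hsc _) hBsc)
  have hVB : V ≤ B := sup_le le_sup_left inf_le_right
  have hQN := isNormal_le_normalizer hQ
  have hVV : ⁅V, V⁆ ≤ Q := by
    haveI hn : (Q.subgroupOf S).Normal := ⟨fun x hx g => (Subgroup.mem_normalizer_iff.1 (hQN g.2) _).1 hx⟩
    have hTB : T i.succ ⊓ B ≤ S := inf_le_left.trans (hsc _).1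
    have hab : ⁅T i.succ ⊓ B, T i.succ ⊓ B⁆ ≤ Q := by
      refine le_trans ?_ hlow
      refine le_inf ((Subgroup.commutator_mono inf_le_left inf_le_left).trans (hcm i)) ?_
      exact (Subgroup.commutator_mono inf_le_right inf_le_right).trans
        (Subgroup.commutator_le.2 fun a ha b hb => B.mul_mem (B.mul_mem (B.mul_mem ha hb) (B.inv_mem ha)) (B.inv_mem hb))
    have himg : imageAlong (QuotientGroup.mk' (Q.subgroupOf S)) V =
        imageAlong (QuotientGroup.mk' (Q.subgroupOf S)) (T i.succ ⊓ B) := by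
      unfold imageAlong
      rw [hV, Subgroup.subgroupOf_sup hQ.1 hTB, Subgroup.map_sup,
        (Subgroup.map_eq_bot_iff _).2 (QuotientGroup.ker_mk' _).ge, bot_sup_eq]
    have hcomm := abelian_of_commutator hTB hab
    rw [← himg] at hcomm
    rw [Subgroup.commutator_le]
    intro a ha b hb
    refine (QuotientGroup.eq_one_iff (N := Q.subgroupOf S) ⁅(⟨a, hVsc.1 ha⟩ : S), (⟨b, hVsc.1 hb⟩ : S)⁆).1 ?_
    show QuotientGroup.mk' (Q.subgroupOf S) ⁅(⟨a, hVsc.1 ha⟩ : S), (⟨b, hVsc.1 hb⟩ : S)⁆ = 1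
    rw [map_commutatorElement, commutatorElement_eq_one_iff_mul_comm]
    exact hcomm _ (mem_imageAlong.2 ⟨a, _, ha, rfl⟩) _ (mem_imageAlong.2 ⟨b, _, hb, rfl⟩)
  obtain ⟨m, C, c0, cl, cm, cc, csc⟩ := isNormal_exists_series hS hQ
  have hCQ : ∀ j, C j ≤ Q := fun j => (cm (Fin.le_last j)).trans cl.le
  have hQV : Q ≤ V := le_sup_left
  have hCV : ∀ j : Fin m, ⁅C j.succ, V⁆ ≤ C j.castSucc := by
    intro j
    rw [Subgroup.commutator_le]
    intro x hx v hv
    have hv' : v ∈ ((Q ⊔ centralizerIn S Q : Subgroup Ω) : Set Ω) := hVB hv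
    rw [Subgroup.coe_mul_of_right_le_normalizer_left Q (centralizerIn S Q)
      ((centralizerIn_le S Q).trans hQN)] at hv'
    obtain ⟨q, hq, c, hc, rfl⟩ := hv'
    have e : c * x⁻¹ * c⁻¹ = x⁻¹ := by
      rw [← Subgroup.mem_centralizer_iff.1 hc.2 _ (Q.inv_mem (hCQ _ hx)), mul_inv_cancel_right]
    rw [show ⁅x, q * c⁆ = x * q * (c * x⁻¹ * c⁻¹) * q⁻¹ by rw [commutatorElement_def]; group, e,
      ← commutatorElement_def]
    exact cc j (Subgroup.commutator_mem_commutator hx hq)
  have hnV : F.IsNormal V := by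
    refine isNormal_of_chain hS hF hVsc (n := m + 1) (C := Fin.snoc C V) ?_ (Fin.snoc_last _ _) ?_ ?_ ?_
    · rw [← Fin.castSucc_zero, Fin.snoc_castSucc, c0]
    · refine Fin.monotone_iff_le_succ.2 fun j => ?_
      cases j using Fin.lastCases with
      | last => rw [Fin.snoc_castSucc, Fin.succ_last, Fin.snoc_last, cl]; exact hQV
      | cast k => rw [Fin.succ_castSucc, Fin.snoc_castSucc, Fin.snoc_castSucc]; exact cm Fin.castSucc_lt_succ.le
    · intro j
      cases j using Fin.lastCases with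
      | last => rw [Fin.succ_last, Fin.snoc_last, Fin.snoc_castSucc, cl]; exact hVV
      | cast k => rw [Fin.succ_castSucc, Fin.snoc_castSucc, Fin.snoc_castSucc]; exact hCV k
    · intro j
      rw [Fin.snoc_castSucc]
      exact stronglyClosed_weaklyClosed (csc _)
  exact hi (le_sup_right.trans (isNormal_le_core hnV))

end Cfsg.Agent.FusionSys
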