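import Cfsg.Agent.Lib.Fusion.CentralLift
import Cfsg.Agent.Lib.Fusion.CentralizerNormal
import Cfsg.Agent.Lib.Fusion.SeriesIff
import Cfsg.Agent.Lib.Fusion.NormalConstrained
import Cfsg.Agent.Lib.Fusion.SolvableChain
import Cfsg.Agent.Lib.Fusion.Abelian

/-!
# Systems without components

A saturated system without components is constrained, and constrained systems have no components.
-/

set_option autoImplicit false

namespace Cfsg.Agent.FusionSys.CompFree

open Cfsg Cfsg.FusionSystem

variable {Ω : Type*} [Group Ω]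

/-- A normal subsystem moved along an equality of carriers. -/
theorem exists_cast_normal {S T U : Subgroup Ω} {p : ℕ} {F : FusionSystem U} (e : T = S) {M : FusionSystem T}
    (hM : M.IsNormalIn F p) : ∃ M' : FusionSystem S, M'.IsNormalIn F p ∧ ∀ P, M'.Hom P = M.Hom P := by
  subst e
  exact ⟨M, hM, fun _ => rfl⟩

variable {p : ℕ} [hp : Fact p.Prime]

/-- Components of a normal subsystem are components. -/
theorem component_of_normal {S T U : Subgroup Ω} {F : FusionSystem S} {D : FusionSystem T} {C : FusionSystem U}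
    (hD : D.IsNormalIn F p) (hC : C.IsComponentIn D p) : C.IsComponentIn F p :=
  ⟨.step hC.1 hD, hC.2⟩

/-- The core of a constrained subsystem is centric in it. -/
theorem centralizer_core_le {S : Subgroup Ω} {D : FusionSystem S} (hD : D.IsConstrained p) :
    centralizerIn S D.core ≤ D.core := fun x hx => by
  obtain ⟨-, Q, hQn, hQc⟩ := hD
  exact isNormal_le_core hQn (hQc.2 Q (isConj_refl D hQn.1)
    ⟨hx.1, Subgroup.centralizer_le (isNormal_le_core hQn) hx.2⟩)

/-- A constrained system has no component. -/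
theorem no_component_of_constrained {S : Subgroup Ω} [Finite S] (hS : IsPGroup p S) {F : FusionSystem S}
    (hF : F.IsConstrained p) {T : Subgroup Ω} {C : FusionSystem T} : ¬ C.IsComponentIn F p := by
  rintro ⟨hsub, hq⟩
  have hTS := subnormal_le hsub
  haveI := finite_of_le hTS
  have hTp := hS.to_le hTS
  obtain ⟨-, Q, hQn, hQc⟩ := constrained_of_subnormal hsub hp.out hS inferInstance hF
  have hQz := isCentral_le_center (LayerCore.normal_central_of_quasisimple hTp hq hQn)
  have hcomm : ∀ q ∈ Q, ∀ t ∈ T, t * q = q * t := fun q hq t ht =>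
    Subgroup.mem_centralizer_iff.1 (C.center_le_centralizer (hQz hq)) t ht
  have hle : T ≤ Q := fun t ht => hQc.2 Q (isConj_refl C hQn.1)
    ⟨ht, Subgroup.mem_centralizer_iff.2 fun q hq => (hcomm q hq t ht).symm⟩
  exact not_quasisimple_of_abelian (fun x hx y hy => hcomm y (hle hy) x hx) hTp C hq

/-- `O^{p'}` is its own `O^{p'}`. -/
theorem pPrimeSys_idem {S : Subgroup Ω} [Finite S] (hS : IsPGroup p S) {F : FusionSystem S} (hF : F.IsSaturated p) :
    (pPrimeSys F p).IsSubsystemOf (pPrimeSys (pPrimeSys F p) p) := by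
  have hG := exists_pPrimeResidual hS hF
  have hG₂ := exists_pPrimeResidual hS hG.1
  refine hG.2.2 _ hG₂.1 ⟨fun P φ hφ => hG.2.1.1 P (hG₂.2.1.1 P hφ), fun P hP => ?_⟩
  rw [MonoidHom.map_closure, Subgroup.closure_le]
  rintro _ ⟨a, ⟨k, hk⟩, rfl⟩
  have ha : (a : MulAut P) ∈ (pPrimeSys F p).autGroup P :=
    hG.2.1.2 P hP ⟨a, Subgroup.subset_closure ⟨k, hk⟩, rfl⟩
  refine hG₂.2.1.2 P hP ⟨⟨a, ha⟩, Subgroup.subset_closure ⟨k, ?_⟩, rfl⟩
  exact (Subgroup.orderOf_coe _).symm.trans ((Subgroup.orderOf_coe a).trans hk)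

/-- The step: with smaller normal subsystems constrained, a system without components is constrained. -/
theorem constrained_step {S : Subgroup Ω} [Finite S] (hS : IsPGroup p S) {F : FusionSystem S}
    (hF : F.IsSaturated p) (hnc : ¬ ∃ (T : Subgroup Ω) (C : FusionSystem T), C.IsComponentIn F p)
    (ih : ∀ (T : Subgroup Ω) (D : FusionSystem T), T < S → D.IsSaturated p →
      (¬ ∃ (U : Subgroup Ω) (C : FusionSystem U), C.IsComponentIn D p) → D.IsConstrained p) :
    F.IsConstrained p := by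
  have hQ := core_isNormal F
  set Q := F.core
  have hC := LayerCore.centralizer_isNormalIn hS hF hQ
  rcases eq_or_lt_of_le (centralizerIn_le S Q) with heq | hlt
  swap
  · have hc := ih _ _ hlt hC.1.1 fun ⟨U, C, h⟩ => hnc ⟨U, C, component_of_normal hC h⟩
    have hcore := isNormal_le_core (core_normal_of_invariant hS hC.1)
    refine ⟨hF, Q, hQ, isCentric_of_normal hQ fun x hx => ?_⟩
    exact hcore (centralizer_core_le hc ⟨hx, Subgroup.mem_centralizer_iff.2 fun q hq =>
      Subgroup.mem_centralizer_iff.1 hx.2 q (hcore hq)⟩)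
  obtain ⟨C', hC', hC'e⟩ := exists_cast_normal heq hC
  have hres := exists_pPrimeResidual hS hF
  have hGn := pPrimeResidual_isNormalIn hS (weaklyNormal_self hF) hres
  set G := pPrimeSys F p
  by_cases hGc : G.IsConstrained p
  · exact constrained_of_sub hS hGn.1 (hyperfocal_le F) hGc
  exfalso
  have hG : G.IsSaturated p := hGn.1.1
  have hGnc : ¬ ∃ (T : Subgroup Ω) (C : FusionSystem T), C.IsComponentIn G p :=
    fun ⟨T, C, h⟩ => hnc ⟨T, C, component_of_normal hGn h⟩
  have hGC := pPrimeResidual_le_weaklyNormal hS (weaklyNormal_self hF) hres hC'.1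
  -- the core of the residual is central in it
  have hQG := core_isNormal G
  have hQGle : G.core ≤ Q := isNormal_le_core (core_normal_of_invariant hS hGn.1)
  have hcen : G.IsCentral G.core := by
    refine ⟨hQG.1, fun P φ hφ => ?_⟩
    obtain ⟨ψ, hψ, h1, -⟩ := hQG.2 P φ hφ
    refine ⟨ψ, hψ, h1, fun x => ?_⟩
    have h3 := hGC _ hψ
    rw [hC'e] at h3
    obtain ⟨-, -, -, χ, -, e1, e2⟩ :
        ψ ∈ F.centralizerHom Q (P ⊔ G.core) := h3
    refine (e1 (Subgroup.inclusion le_sup_right x)).symm.trans ?_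
    exact e2 ⟨x, hQGle x.2⟩
  have hZ := center_isCentral G
  have hcoreZ : G.core ≤ G.center := isCentral_le_center hcen
  -- the hyperfocal subgroup is everything
  have hhyp : G.hyperfocalSubgroup p = S := by
    by_contra hne
    have hTS : G.hyperfocalSubgroup p ≤ S := hyperfocal_le G
    obtain ⟨D, hD, hDi, -⟩ := exists_pPower hS hG hTS le_rfl
    have hTn : ((G.hyperfocalSubgroup p).subgroupOf S).Normal :=
      ⟨fun x hx g => hyperfocal_conj_mem G g.2 hx⟩
    have hDn := pPower_isNormalIn hS hG hTS hTn hD hDi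
    have hDc := ih _ D (lt_of_le_of_ne hTS hne) hD fun ⟨U, C, h⟩ => hGnc ⟨U, C, component_of_normal hDn h⟩
    exact hGc (constrained_of_sub hS hDn.1 le_rfl hDc)
  have hne : G.center ≠ S := fun he => hGc ⟨hG, G.center, isCentral_isNormal hZ, isCentric_of_normal
    (isCentral_isNormal hZ) ((centralizerIn_le _ _).trans he.ge)⟩
  refine hGnc ⟨S, G, .refl G p, hG, hhyp, fun E hE => ?_⟩
  have hZc : G.StronglyClosed G.center := isNormal_stronglyClosed (isCentral_isNormal hZ)
  set π := QuotientGroup.mk' ((G.center).subgroupOf S)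
  refine ⟨factor_top_saturated hS hG hZc hE, fun htop => hne ?_, fun T' E' hE' => ?_⟩
  · refine le_antisymm hZ.1 fun s hs => (hE.2.1 ⟨s, hs⟩).1 ?_
    exact Subgroup.mem_bot.1 (htop ▸ Subgroup.mem_top _)
  obtain ⟨D, hD, hDind⟩ := exists_normal_lift hS hG hZ hE hE'
  rcases eq_or_lt_of_le (le_preimageAlong π T') with heq' | hlt'
  swap
  · left
    have hDc := ih _ D hlt' hD.1.1 fun ⟨U, C, h⟩ => hGnc ⟨U, C, component_of_normal hD h⟩
    have hDZ : D.core ≤ G.center := (isNormal_le_core (core_normal_of_invariant hS hD.1)).trans hcoreZ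
    rw [Subgroup.eq_bot_iff_forall]
    intro y hy
    obtain ⟨s, rfl⟩ := QuotientGroup.mk'_surjective ((G.center).subgroupOf S) y
    have hsT : (s : Ω) ∈ preimageAlong π T' := (mem_preimageAlong _ _ _).2 ⟨s.2, hy⟩
    refine (hE.2.1 s).2 (hDZ (centralizer_core_le hDc ⟨hsT, Subgroup.mem_centralizer_iff.2 fun q hq => ?_⟩))
    exact (Subgroup.mem_centralizer_iff.1 (G.center_le_centralizer (hDZ hq)) s s.2).symm
  right
  have hT' : T' = ⊤ := eq_top_iff.2 fun y _ => by
    obtain ⟨s, rfl⟩ := QuotientGroup.mk'_surjective ((G.center).subgroupOf S) y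
    exact ((mem_preimageAlong _ _ _).1 (heq'.ge s.2)).2
  refine ⟨hT', fun P' => Set.Subset.antisymm (fun φ' h => hE'.1.2.2.1 P' h) fun φ' hφ' => ?_⟩
  obtain ⟨D', hD', hD'e⟩ := exists_cast_normal heq' hD
  obtain ⟨-, φ, hφ, hi⟩ := (hE.2.2.2 P' φ').1 hφ'
  have h1 := pPrimeResidual_le_weaklyNormal hS (weaklyNormal_self hG) (exists_pPrimeResidual hS hG) hD'.1 _
    (pPrimeSys_idem hS hF _ hφ)
  rw [hD'e] at h1
  obtain ⟨P'', φ'', hφ'', hi'⟩ := hDind _ φ h1
  have hlift : ∀ y ∈ P', ∃ x : preimageAlong π P', π ⟨x, le_preimageAlong _ _ x.2⟩ = y := fun y hy => by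
    obtain ⟨s, rfl⟩ := QuotientGroup.mk'_surjective ((G.center).subgroupOf S) y
    exact ⟨⟨s, (mem_preimageAlong _ _ _).2 ⟨s.2, hy⟩⟩, rfl⟩
  have hle : P' ≤ P'' := fun y hy => by
    obtain ⟨x, rfl⟩ := hlift y hy
    obtain ⟨_, _, hm, _⟩ := hi'
    exact hm x
  refine hom_congr E' (restrict_mem E' hφ'' hle) fun y => ?_
  obtain ⟨y, hy⟩ := y
  obtain ⟨x, rfl⟩ := hlift y hy
  obtain ⟨_, _, _, he⟩ := hi
  obtain ⟨_, _, _, he'⟩ := hi'
  exact (he x).trans (he' x).symm

/-- A saturated system without components is constrained. -/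
theorem constrained_of_no_component {S : Subgroup Ω} [Finite S] (hS : IsPGroup p S) {F : FusionSystem S}
    (hF : F.IsSaturated p) (hnc : ¬ ∃ (T : Subgroup Ω) (C : FusionSystem T), C.IsComponentIn F p) :
    F.IsConstrained p := by
  suffices H : ∀ (n : ℕ) (S : Subgroup Ω), Finite S → Nat.card S = n → IsPGroup p S → ∀ F : FusionSystem S,
      F.IsSaturated p → (¬ ∃ (T : Subgroup Ω) (C : FusionSystem T), C.IsComponentIn F p) → F.IsConstrained p from
    H _ S inferInstance rfl hS F hF hnc
  intro n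
  induction n using Nat.strong_induction_on with
  | _ n ih =>
  intro S hfin hn hS F hF hnc
  refine constrained_step hS hF hnc fun T D hlt hD hDnc => ?_
  have hT := finite_of_le hlt.le
  refine ih _ ?_ T hT rfl (hS.to_le hlt.le) D hD hDnc
  rw [← hn]
  exact lt_of_le_of_ne (Subgroup.card_le_of_le hlt.le)
    fun he => hlt.ne (Subgroup.eq_of_le_of_card_ge hlt.le he.ge)

end Cfsg.Agent.FusionSys.CompFree
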