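import Cfsg.Agent.Lib.Fusion.SimpleTransport
import Cfsg.Agent.Lib.Fusion.InvariantFrattini
import Cfsg.Agent.Lib.Fusion.CentreLemmas
import Cfsg.Agent.Lib.Fusion.Subsystem
import Cfsg.Agent.Lib.Fusion.Local
import Cfsg.Agent.Lib.Fusion.Hyperfocal

/-!
# Transport of subnormal and quasisimple systems along isomorphisms

A conjugate of a component is a component, and the layer is invariant under automorphisms of the system.
-/

set_option autoImplicit false

namespace Cfsg.Agent.FusionSys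

open Cfsg Cfsg.FusionSystem

variable {Ω Ω' Ω'' : Type*} [Group Ω] [Group Ω'] [Group Ω''] {S : Subgroup Ω} {T : Subgroup Ω'} {W : Subgroup Ω''}
  {F : FusionSystem S} {E : FusionSystem T} {ι : S →* Ω'}

namespace IsFusIso

/-- The inverse isomorphism. -/
noncomputable def symmMap (h : IsFusIso F E ι) : T →* Ω :=
  S.subtype.comp ((MonoidHom.ofInjective h.inj).symm.toMonoidHom.comp (Subgroup.inclusion h.range.ge))

variable (h : IsFusIso F E ι)

theorem symmMap_mem (y : T) : h.symmMap y ∈ S :=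
  ((MonoidHom.ofInjective h.inj).symm (Subgroup.inclusion h.range.ge y)).2

theorem apply_symmMap (y : T) : ι ⟨h.symmMap y, h.symmMap_mem y⟩ = y :=
  congrArg Subtype.val ((MonoidHom.ofInjective h.inj).apply_symm_apply (Subgroup.inclusion h.range.ge y))

theorem symmMap_apply (x : S) (hx : ι x ∈ T) : h.symmMap ⟨ι x, hx⟩ = x :=
  congrArg Subtype.val (h.inj (a₁ := ⟨_, h.symmMap_mem _⟩) (h.apply_symmMap ⟨ι x, hx⟩))

include h in
theorem mem_range' (x : S) : ι x ∈ T := h.range ▸ ⟨x, rfl⟩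

include h in
/-- An isomorphism can be inverted. -/
theorem symm : IsFusIso E F h.symmMap := by
  have hag := h.agrees
  refine ⟨fun a b hab => ?_, ?_, fun P hP φ hφ φ' he => ?_⟩
  · exact Subtype.ext ((h.apply_symmMap a).symm.trans
      ((congrArg ι (Subtype.ext hab)).trans (h.apply_symmMap b)))
  · ext z
    constructor
    · rintro ⟨y, rfl⟩
      exact h.symmMap_mem y
    · exact fun hz => ⟨⟨_, h.mem_range' ⟨z, hz⟩⟩, h.symmMap_apply ⟨z, hz⟩ _⟩
  have hP0 : imageAlong h.symmMap P ≤ S := by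
    rintro _ ⟨y, -, rfl⟩
    exact h.symmMap_mem y
  have himg : imageAlong ι (imageAlong h.symmMap P) = P := by
    ext z
    constructor
    · rintro ⟨x, ⟨y, hy, hyx⟩, rfl⟩
      rw [show x = ⟨h.symmMap y, h.symmMap_mem y⟩ from Subtype.ext hyx.symm, h.apply_symmMap]
      exact hy
    · intro hz
      exact ⟨⟨_, h.symmMap_mem ⟨z, hP hz⟩⟩, ⟨⟨z, hP hz⟩, hz, rfl⟩, h.apply_symmMap ⟨z, hP hz⟩⟩
  have hφ' : ∀ w, φ' w ∈ S := by
    rintro ⟨_, y, hy, rfl⟩
    rw [he ⟨y, hy⟩ ⟨y, hy, rfl⟩]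
    exact h.symmMap_mem _
  have hag' : ∀ (x : imageAlong h.symmMap P) (hx : ι ⟨x, hP0 x.2⟩ ∈ P),
      φ ⟨ι ⟨x, hP0 x.2⟩, hx⟩ = ι ⟨φ' x, hφ' x⟩ := by
    rintro ⟨_, y, hy, rfl⟩ hx
    refine Eq.trans ?_ ((congrArg ι (Subtype.ext (he ⟨y, hy⟩ ⟨y, hy, rfl⟩))).trans
      (h.apply_symmMap ⟨φ ⟨y, hy⟩, hφ _⟩)).symm
    exact apply_congr φ (h.apply_symmMap y) _ _
  exact ⟨fun hm => hag.bwd _ hP0 φ' hφ' P φ hm himg.le hag',
    fun hm => hag.fwd _ hP0 φ' hφ' hm P φ himg.ge hag'⟩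

include h in
/-- Isomorphisms compose. -/
theorem trans {D : FusionSystem W} {κ : T →* Ω''} (k : IsFusIso E D κ) :
    IsFusIso F D (κ.comp (ι.codRestrict T h.mem_range')) := by
  refine ⟨fun a b hab => h.inj (congrArg Subtype.val (k.inj hab)), ?_, fun P hP φ hφ φ'' he => ?_⟩
  · rw [MonoidHom.range_comp, ← k.range, MonoidHom.range_eq_map κ]
    congr 1
    refine eq_top_iff.2 fun y _ => ?_
    obtain ⟨x, hx⟩ : (y : Ω') ∈ ι.range := h.range.symm ▸ y.2
    exact ⟨x, Subtype.ext hx⟩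
  set φ₁ := pushMap h.inj hP φ hφ
  have hP1 : imageAlong ι P ≤ T := imageAlong_le h.range P
  have hφ₁ : ∀ y, φ₁ y ∈ T := by
    rintro ⟨_, x, hx, rfl⟩
    exact (congrArg (· ∈ T) (pushMap_apply h.inj hP φ hφ ⟨x, hx⟩ (imageAlong_mem hx))).mpr (h.mem_range' _)
  have himg : ∀ z, z ∈ imageAlong κ (imageAlong ι P) ↔ z ∈ imageAlong (κ.comp (ι.codRestrict T h.mem_range')) P := by
    intro z
    constructor
    · rintro ⟨y, ⟨x, hx, hxy⟩, rfl⟩
      exact ⟨x, hx, congrArg κ (Subtype.ext hxy)⟩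
    · rintro ⟨x, hx, rfl⟩
      exact ⟨⟨ι x, h.mem_range' x⟩, ⟨x, hx, rfl⟩, rfl⟩
  have hag : ∀ (y : imageAlong ι P) (hy : κ ⟨y, hP1 y.2⟩ ∈ imageAlong (κ.comp (ι.codRestrict T h.mem_range')) P),
      φ'' ⟨κ ⟨y, hP1 y.2⟩, hy⟩ = κ ⟨φ₁ y, hφ₁ y⟩ := by
    rintro ⟨_, x, hx, rfl⟩ hy
    refine (he ⟨x, hx⟩ hy).trans (congrArg κ (Subtype.ext ?_))
    exact (pushMap_apply h.inj hP φ hφ ⟨x, hx⟩ _).symm
  refine (h.hom_iff P hP φ hφ φ₁ fun x hx => pushMap_apply h.inj hP φ hφ x hx).trans ?_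
  exact ⟨fun hm => k.agrees.fwd _ hP1 φ₁ hφ₁ hm _ φ'' (fun z hz => (himg z).2 hz) hag,
    fun hm => k.agrees.bwd _ hP1 φ₁ hφ₁ _ φ'' hm (fun z hz => (himg z).1 hz) hag⟩

include h in
theorem of_eq {κ : S →* Ω'} (he : ∀ x, κ x = ι x) : IsFusIso F E κ := by
  rw [MonoidHom.ext he]
  exact h

include h in
theorem finite_range [Finite S] : Finite T :=
  Finite.of_surjective (ι.codRestrict T h.mem_range') fun y =>
    ⟨⟨_, h.symmMap_mem y⟩, Subtype.ext (h.apply_symmMap y)⟩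

include h in
/-- A normal subsystem is pushed to a normal subsystem. -/
theorem normal_push [Finite S] {p : ℕ} [Fact p.Prime] (hF : F.IsSaturated p) {U : Subgroup Ω}
    {D : FusionSystem U} (hD : D.IsNormalIn F p) :
    ∃ (U' : Subgroup Ω') (D' : FusionSystem U') (hUS : U ≤ S),
      D'.IsNormalIn E p ∧ IsFusIso D D' (ι.comp (Subgroup.inclusion hUS)) := by
  haveI := h.finite_range
  have hUS : U ≤ S := hD.1.2.2.2.1.1
  have hn := h.symm.normal_pull (h.symm.saturated hF) hD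
  have k := pullSystem_isFusIso h.symm.inj (hUS.trans h.symm.range.ge) D
  refine ⟨_, pullSystem h.symm.inj D, hUS, hn, k.symm.of_eq fun x => ?_⟩
  have h1 := k.apply_symmMap x
  show ι ⟨x, hUS x.2⟩ = k.symmMap x
  have hT : k.symmMap x ∈ T := preimageAlong_le_src _ _ (k.symmMap_mem x)
  rw [show (⟨(x : Ω), hUS x.2⟩ : S) = ⟨h.symmMap ⟨k.symmMap x, hT⟩, h.symmMap_mem _⟩ from Subtype.ext h1.symm,
    h.apply_symmMap]

end IsFusIso

/-- Subnormal subsystems are pushed to subnormal subsystems. -/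
theorem subnormal_push {p : ℕ} {U : Subgroup Ω} {C : FusionSystem U} (hC : C.IsSubnormalIn F p) :
    ∀ {T : Subgroup Ω'} {E : FusionSystem T} {ι : S →* Ω'}, Finite S → Fact p.Prime → F.IsSaturated p →
      IsFusIso F E ι → ∃ (U' : Subgroup Ω') (C' : FusionSystem U') (hUS : U ≤ S),
        C'.IsSubnormalIn E p ∧ IsFusIso C C' (ι.comp (Subgroup.inclusion hUS)) := by
  induction hC with
  | refl F p => exact fun {T E ι} _ _ _ h => ⟨T, E, le_rfl, .refl E p, h.of_eq fun x => rfl⟩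
  | @step U₁ S E₁ D F p hED hDF ih =>
    intro T E ι hfin hp hF h
    haveI := hfin
    haveI := hp
    obtain ⟨U', D', hU₁, hn, k⟩ := h.normal_push hF hDF
    obtain ⟨V, C', hUU₁, hC', l⟩ := ih (finite_of_le hU₁) hp hDF.1.1 k
    exact ⟨V, C', hUU₁.trans hU₁, .step hC' hn, l.of_eq fun x => rfl⟩

/-- A map with full source is an automorphism of the system. -/
theorem isFusIso_of_mem {Ω : Type*} [Group Ω] {S : Subgroup Ω} [Finite S] {F : FusionSystem S} {γ : S →* Ω}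
    (hγ : γ ∈ F.Hom S) : IsFusIso F F γ := by
  have hr : γ.range = S :=
    Subgroup.eq_of_le_of_card_ge (range_le F hγ) (isConj_card ⟨γ, hγ, rfl⟩).le
  obtain ⟨θ, hθ, hθe⟩ := F.inv_mem hγ
  refine ⟨F.injective_of_mem hγ, hr, fun P hP φ hφ φ' he => ?_⟩
  have hA : imageAlong γ P ≤ γ.range := Subgroup.map_le_range γ _
  have hv : ∀ y, θ.comp (Subgroup.inclusion hA) y ∈ P := by
    rintro ⟨_, x, hx, rfl⟩
    exact (hθe x).symm ▸ hx
  have hθA := restrict_mem F hθ hA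
  constructor
  · intro hm
    have h1 := F.comp_mem hθA hm hv
    refine hom_congr F (F.comp_mem h1 hγ fun y => hom_apply_mem F h1 y) ?_
    rintro ⟨_, x, hx, rfl⟩
    refine (he ⟨x, hx⟩ _).trans (congrArg γ (Subtype.ext ?_))
    exact (apply_congr φ (hθe x) _ hx).symm
  · intro hm
    have h2 := F.comp_mem (restrict_mem F hγ hP) hm fun x => imageAlong_mem (ι := γ) (P := P) (x := ⟨x, hP x.2⟩) x.2
    have hv2 : ∀ x, (φ'.comp ((γ.comp (Subgroup.inclusion hP)).codRestrict _ fun x =>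
        imageAlong_mem (ι := γ) (P := P) (x := ⟨x, hP x.2⟩) x.2)) x ∈ γ.range := fun x => hr.ge (hom_apply_mem F h2 x)
    refine hom_congr F (F.comp_mem h2 hθ hv2) fun x => ?_
    refine Eq.symm ((apply_congr θ (he x (imageAlong_mem (ι := γ) (P := P) (x := ⟨x, hP x.2⟩) x.2)) _ ⟨_, rfl⟩).trans (hθe _))

/-- An automorphism of the carrier of an invariant subsystem is an automorphism of it. -/
theorem isFusIso_of_invariant {Ω : Type*} [Group Ω] {S U : Subgroup Ω} {F : FusionSystem S} {D : FusionSystem U}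
    (hAI : AutInvariant F D) {α : MulAut U} (hα : α ∈ F.autGroup U) :
    IsFusIso D D (U.subtype.comp α.toMonoidHom) := by
  refine ⟨fun a b h => α.injective (Subtype.ext h), ?_, fun P hP φ hφ φ' he => ?_⟩
  · ext z
    constructor
    · rintro ⟨y, rfl⟩
      exact (α y).2
    · exact fun hz => ⟨α.symm ⟨z, hz⟩, congrArg Subtype.val (α.apply_symm_apply _)⟩
  constructor
  · intro hm
    obtain ⟨χ, hχ, hχe⟩ := hAI P hP φ hm α hα
    refine hom_congr D hχ ?_
    rintro ⟨_, x, hx, rfl⟩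
    exact (he ⟨x, hx⟩ _).trans (hχe ⟨x, hx⟩ (hφ _) _).symm
  · intro hm
    obtain ⟨χ, hχ, hχe⟩ := hAI _ (hom_le D hm) φ' hm α⁻¹ (Subgroup.inv_mem _ hα)
    have hle : P ≤ ((imageAlong (U.subtype.comp α.toMonoidHom) P).subgroupOf U).map
        (U.subtype.comp (α⁻¹).toMonoidHom) := fun x hx =>
      ⟨α ⟨x, hP hx⟩, imageAlong_mem (ι := U.subtype.comp α.toMonoidHom) (x := ⟨x, hP hx⟩) hx,
        congrArg Subtype.val (α.symm_apply_apply _)⟩
    refine hom_congr D (restrict_mem D hχ hle) fun x => ?_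
    have e1 := he x (imageAlong_mem (ι := U.subtype.comp α.toMonoidHom) (P := P) (x := ⟨x, hP x.2⟩) x.2)
    have hv : φ' ⟨_, imageAlong_mem (ι := U.subtype.comp α.toMonoidHom) (x := ⟨x, hP x.2⟩) x.2⟩ ∈ U :=
      hom_apply_mem D hm _
    have hb : ((α⁻¹ (α ⟨x, hP x.2⟩) : U) : Ω) = x := congrArg Subtype.val (α.symm_apply_apply _)
    refine Eq.trans ?_ (((apply_congr χ hb.symm _ (hb.symm ▸ hle x.2)).trans (hχe ⟨_, imageAlong_mem (ι := U.subtype.comp α.toMonoidHom) (x := ⟨x, hP x.2⟩) x.2⟩ hv _))).symm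
    rw [show (⟨_, hv⟩ : U) = α ⟨φ x, hφ x⟩ from Subtype.ext e1]
    exact (congrArg Subtype.val (α.symm_apply_apply (⟨φ x, hφ x⟩ : U))).symm

/-- A conjugate of a subnormal subsystem is subnormal. -/
theorem subnormal_conj {Ω : Type*} [Group Ω] {S U : Subgroup Ω} {F : FusionSystem S} {C : FusionSystem U} {p : ℕ}
    (hC : C.IsSubnormalIn F p) : Finite S → Fact p.Prime → F.IsSaturated p → ∀ {γ : U →* Ω}, γ ∈ F.Hom U →
      ∃ (U' : Subgroup Ω) (C' : FusionSystem U'), C'.IsSubnormalIn F p ∧ IsFusIso C C' γ := by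
  induction hC with
  | @refl F p =>
    intro hfin _ _ γ hγ
    haveI := hfin
    exact ⟨_, F, .refl F p, isFusIso_of_mem hγ⟩
  | @step U₁ S E₁ D F p hED hDF ih =>
    intro hfin hp hF γ hγ
    haveI := hfin
    haveI := hp
    obtain ⟨⟨hDs, -, -, hcl, hAI, hfr⟩, -⟩ := id hDF
    haveI := finite_of_le hcl.1
    have hUU₁ := subnormal_le hED
    obtain ⟨α, hα, φ₀, hφ₀, he⟩ := hfr _ hUU₁ γ hγ
    obtain ⟨V, C', hC', k⟩ := ih inferInstance hp hDs hφ₀
    obtain ⟨V', C'', hV, hC'', l⟩ := subnormal_push hC' inferInstance hp hDs (isFusIso_of_invariant hAI hα)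
    exact ⟨V', C'', .step hC'' hDF, (k.trans l).of_eq fun x => he x (hom_apply_mem D hφ₀ x)⟩

section quasisimple

variable {p : ℕ}

include ι in
theorem IsFusIso.hyperfocal_le_image [Finite S] [Fact p.Prime] (h : IsFusIso F E ι) :
    imageAlong ι (F.hyperfocalSubgroup p) ≤ E.hyperfocalSubgroup p := by
  haveI := h.finite_range
  suffices hk : F.hyperfocalSubgroup p ≤ ((E.hyperfocalSubgroup p).comap ι).map S.subtype by
    rintro _ ⟨x, hx, rfl⟩
    obtain ⟨y, hy, hyx⟩ := hk hx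
    rwa [show x = y from Subtype.ext hyx.symm]
  refine (Subgroup.closure_le _).2 ?_
  rintro _ ⟨P, a, x, hP, ha, rfl⟩
  have hag := h.agrees
  have hP' : imageAlong ι P ≤ T := imageAlong_le h.range P
  set e := equivOf h.inj hP rfl
  let f : F.autGroup P →* E.autGroup (imageAlong ι P) :=
    ((MulAut.congr e).toMonoidHom.comp (F.autGroup P).subtype).codRestrict _ fun b =>
      (hag.autGroup_iff h.inj hP hP hP' rfl _).1 b.2
  have hfa := Cfsg.Agent.PBasic.map_pResidual_le (p := p) f ⟨a, ha, rfl⟩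
  refine ⟨⟨_, S.mul_mem (S.inv_mem (hP x.2)) (hP ((a : MulAut P) x).2)⟩, ?_, rfl⟩
  show ι _ ∈ E.hyperfocalSubgroup p
  have h1 : ((((f a : E.autGroup _) : MulAut _) (e x) : imageAlong ι P) : Ω') =
      ι ⟨((a : MulAut P) x : P), hP ((a : MulAut P) x).2⟩ := by
    show ((e ((a : MulAut P) (e.symm (e x))) : imageAlong ι P) : Ω') = _
    rw [e.symm_apply_apply]
    rfl
  have hg := hyperfocal_mem (F := E) hP' hfa (e x)
  rw [h1, equivOf_apply, ← map_inv, ← map_mul] at hg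
  exact hg

include ι in
theorem IsFusIso.center_le_image (h : IsFusIso F E ι) : imageAlong ι F.center ≤ E.center := by
  suffices hk : F.center ≤ (E.center.comap ι).map S.subtype by
    rintro _ ⟨x, hx, rfl⟩
    obtain ⟨y, hy, hyx⟩ := hk hx
    rwa [show x = y from Subtype.ext hyx.symm]
  refine sSup_le fun Q hQ => ?_
  obtain ⟨hQS, hext⟩ := hQ
  suffices hc : E.IsCentral (imageAlong ι Q) from fun z hz =>
    ⟨⟨z, hQS hz⟩, le_sSup (s := {Q | E.IsCentral Q}) hc (imageAlong_mem (x := ⟨z, hQS hz⟩) hz), rfl⟩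
  refine ⟨imageAlong_le h.range Q, fun P' φ' hφ' => ?_⟩
  set P := preimageAlong ι P'
  have hPS : P ≤ S := preimageAlong_le_src ι P'
  have hP' : imageAlong ι P = P' := IsFusIso.imageAlong_preimage h.range (hom_le E hφ')
  obtain ⟨φ, hφ, hφS, hφe⟩ := h.exists_pull hPS (restrict_mem E hφ' hP'.le)
  obtain ⟨ψ, hψ, hψP, hψQ⟩ := hext P φ hφ
  obtain ⟨ψ', hψ', hψe⟩ := h.exists_push hψ
  have himg : imageAlong ι (P ⊔ Q) = P' ⊔ imageAlong ι Q := by rw [imageAlong_sup hPS hQS, hP']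
  refine ⟨ψ'.comp (Subgroup.inclusion himg.ge), restrict_mem E hψ' himg.ge, fun y => ?_, fun y => ?_⟩
  · obtain ⟨y, hy⟩ := y
    obtain ⟨x, hx, rfl⟩ := hP'.ge hy
    refine (hψe ⟨x, le_sup_left (b := Q) hx⟩ _).trans ?_
    refine (congrArg ι (Subtype.ext (hψP ⟨x, hx⟩) : (_ : S) = ⟨φ ⟨x, hx⟩, hφS _⟩)).trans ?_
    exact (hφe ⟨x, hx⟩ (hP'.ge hy)).symm
  · obtain ⟨_, x, hx, rfl⟩ := y
    refine (hψe ⟨x, le_sup_right (a := P) hx⟩ _).trans ?_
    exact congrArg ι (Subtype.ext (hψQ ⟨x, hx⟩))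

theorem center_stronglyClosed [Finite S] (F : FusionSystem S) : F.StronglyClosed F.center := by
  obtain ⟨hZS, hext⟩ := center_isCentral F
  refine ⟨hZS, fun P hP φ hφ x => ?_⟩
  obtain ⟨ψ, -, h1, h2⟩ := hext P φ hφ
  have e : φ x = x := by
    rw [← h1 x, show Subgroup.inclusion le_sup_left x = Subgroup.inclusion le_sup_right (⟨x, hP x.2⟩ : F.center)
      from Subtype.ext rfl, h2]
  rw [e]
  exact hP x.2

include ι in
/-- Quasisimplicity is invariant under isomorphisms. -/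
theorem IsFusIso.quasisimple [Finite S] [Fact p.Prime] (h : IsFusIso F E ι) (hF : F.Quasisimple p) :
    E.Quasisimple p := by
  obtain ⟨hFs, hhyp, hsimp⟩ := hF
  haveI := h.finite_range
  have hEs := h.symm.saturated hFs
  have hT : imageAlong ι S = T := by
    rw [imageAlong, Subgroup.subgroupOf_self, ← MonoidHom.range_eq_map, h.range]
  refine ⟨hEs, le_antisymm (hyperfocal_le E) ?_, fun E₁ hE₁ => ?_⟩
  · intro y hy
    obtain ⟨x, rfl⟩ := h.range.ge hy
    exact h.hyperfocal_le_image (imageAlong_mem (hhyp.ge x.2))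
  set Z := (F.center).subgroupOf S
  set Z' := (E.center).subgroupOf T
  let ι' : S →* T := ι.codRestrict T h.mem_range'
  have hZ : Z ≤ Z'.comap ι' := fun x hx => h.center_le_image (imageAlong_mem hx)
  have hZ' : ∀ x : S, ι' x ∈ Z' → x ∈ Z := fun x hx => by
    have h1 := h.symm.center_le_image (imageAlong_mem (ι := h.symmMap) (x := ι' x) hx)
    show (x : Ω) ∈ F.center
    rwa [show h.symmMap (ι' x) = x from h.symmMap_apply x _] at h1
  let κ : S ⧸ Z →* T ⧸ Z' := QuotientGroup.map Z Z' ι' hZ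
  have hκinj : Function.Injective κ := by
    rw [injective_iff_map_eq_one]
    intro a
    obtain ⟨x, rfl⟩ := QuotientGroup.mk'_surjective Z a
    intro hx
    exact (QuotientGroup.eq_one_iff x).2 (hZ' x ((QuotientGroup.eq_one_iff (ι' x)).1 hx))
  have hι'surj : ∀ y : T, ∃ x : S, ι' x = y := fun y => ⟨⟨_, h.symmMap_mem y⟩, Subtype.ext (h.apply_symmMap y)⟩
  have hκsurj : Function.Surjective κ := fun b => by
    obtain ⟨y, rfl⟩ := QuotientGroup.mk'_surjective Z' b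
    obtain ⟨x, rfl⟩ := hι'surj y
    exact ⟨QuotientGroup.mk' Z x, rfl⟩
  have hq : (QuotientGroup.mk' Z).range = ⊤ := MonoidHom.range_eq_top.2 (QuotientGroup.mk'_surjective Z)
  obtain ⟨E₀, hE₀⟩ : ∃ E₀ : FusionSystem (⊤ : Subgroup (S ⧸ Z)), F.IsFactorSystem F.center (QuotientGroup.mk' Z) E₀ :=
    ⟨_, factorSystem_spec F (center_stronglyClosed F) (QuotientGroup.mk' Z)
      (fun s => (QuotientGroup.eq_one_iff s).trans Subgroup.mem_subgroupOf) hq⟩
  have hsimp₀ := hsimp E₀ hE₀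
  have hpre : ∀ (P : Subgroup (S ⧸ Z)),
      preimageAlong (QuotientGroup.mk' Z') (imageAlong (κ.comp (⊤ : Subgroup (S ⧸ Z)).subtype) P) =
        imageAlong ι (preimageAlong (QuotientGroup.mk' Z) P) := by
    intro P
    ext z
    constructor
    · rintro ⟨y, ⟨a, ha, hay⟩, rfl⟩
      obtain ⟨x, rfl⟩ := hι'surj y
      have e : (a : S ⧸ Z) = QuotientGroup.mk' Z x := hκinj hay
      exact ⟨x, ⟨x, show QuotientGroup.mk' Z x ∈ P from e ▸ ha, rfl⟩, rfl⟩
    · rintro ⟨x, ⟨x', hx', hxx⟩, rfl⟩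
      obtain rfl : x' = x := Subtype.ext hxx
      exact ⟨ι' x', ⟨⟨_, Subgroup.mem_top _⟩, hx', rfl⟩, rfl⟩
  have hiso : IsFusIso E₀ E₁ (κ.comp (⊤ : Subgroup (S ⧸ Z)).subtype) := by
    refine ⟨hκinj.comp Subtype.val_injective, ?_, fun P hP φ hφ φ' he => ?_⟩
    · rw [MonoidHom.range_eq_top]
      exact fun b => ⟨⟨_, Subgroup.mem_top _⟩, (hκsurj b).choose_spec⟩
    have hpS : preimageAlong (QuotientGroup.mk' Z) P ≤ S := Subgroup.map_subtype_le _
    have hq' : ∀ x : preimageAlong (QuotientGroup.mk' Z) P, QuotientGroup.mk' Z ⟨x, hpS x.2⟩ ∈ P := by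
      rintro ⟨_, x, hx, rfl⟩
      exact hx
    rw [hE₀.2.2.2 P φ, hE₁.2.2.2 _ φ']
    constructor
    · rintro ⟨-, ψ, hψ, _, hψS, hmem, hψe⟩
      obtain ⟨ψ', hψ', hψ'e⟩ := h.exists_push hψ
      refine ⟨le_top, _, restrict_mem E hψ' (hpre P).le, preimageAlong_le_src _ _,
        fun y => hom_apply_mem E hψ' _, fun y => ?_, fun y => ?_⟩
      · obtain ⟨_, z, hz, rfl⟩ := y
        exact hz
      · obtain ⟨y, hy⟩ := y
        obtain ⟨x, hx, rfl⟩ := (hpre P).le hy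
        refine (he ⟨_, hmem ⟨x, hx⟩⟩ (imageAlong_mem (x := ⟨_, Subgroup.mem_top _⟩) (hmem ⟨x, hx⟩))).trans ?_
        show κ (φ ⟨_, hmem ⟨x, hx⟩⟩) = _
        rw [hψe ⟨x, hx⟩]
        show QuotientGroup.mk' Z' (ι' ⟨_, hψS ⟨x, hx⟩⟩) = _
        exact congrArg (QuotientGroup.mk' Z') (Subtype.ext (hψ'e ⟨x, hx⟩ (imageAlong_mem hx)).symm)
    · rintro ⟨-, ψ', hψ', _, hψ'S, hmem, hψ'e⟩
      obtain ⟨ψ, hψ, hψS, hψe⟩ := h.exists_pull hpS (restrict_mem E hψ' (hpre P).ge)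
      refine ⟨le_top, ψ, hψ, hpS, hψS, hq', fun x => hκinj ?_⟩
      have hx' : ι ⟨x, hpS x.2⟩ ∈ imageAlong ι (preimageAlong (QuotientGroup.mk' Z) P) := imageAlong_mem x.2
      refine (he ⟨_, hq' x⟩ (imageAlong_mem (x := ⟨_, Subgroup.mem_top _⟩) (hq' x))).symm.trans ?_
      refine Eq.trans ?_ ((hψ'e ⟨_, (hpre P).ge hx'⟩).trans
        (congrArg (QuotientGroup.mk' Z') (Subtype.ext (hψe x hx'))))
      exact apply_congr φ' rfl _ _
  haveI : Finite (⊤ : Subgroup (S ⧸ Z)) := inferInstance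
  haveI := hiso.finite_range
  exact hiso.simple_push hsimp₀ (hiso.symm.saturated hsimp₀.1)

end quasisimple

/-- The factor system by the trivial subgroup is an isomorphic copy. -/
theorem isFusIso_of_factor {C : FusionSystem S} (hι : ∀ s : S, ι s = 1 → s = 1) (hC : C.IsFactorSystem ⊥ ι E) :
    IsFusIso C E ι := by
  have hinj : Function.Injective ι := (injective_iff_map_eq_one ι).2 hι
  refine ⟨hinj, hC.2.2.1, fun P hP φ hφ φ' he => ?_⟩
  have hpre : preimageAlong ι (imageAlong ι P) = P := by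
    ext x
    constructor
    · rintro ⟨y, ⟨z, hz, hzy⟩, rfl⟩
      rw [← hinj hzy]
      exact hz
    · exact fun hx => ⟨⟨x, hP hx⟩, imageAlong_mem (x := ⟨x, hP hx⟩) hx, rfl⟩
  rw [hC.2.2.2]
  constructor
  · intro hm
    refine ⟨imageAlong_le hC.2.2.1 P, _, restrict_mem C hm hpre.le, preimageAlong_le_src _ _,
      fun x => hφ _, fun x => imageAlong_mem (ι := ι) (P := P) (x := ⟨x, preimageAlong_le_src _ _ x.2⟩) (hpre.le x.2), fun x => ?_⟩
    exact he ⟨x, hpre.le x.2⟩ _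
  · rintro ⟨-, ψ, hψ, _, hψS, hmem, hψe⟩
    refine hom_congr C (restrict_mem C hψ hpre.ge) fun x => ?_
    refine congrArg Subtype.val (hinj (a₁ := ⟨φ x, hφ x⟩) (a₂ := ⟨_, hψS (Subgroup.inclusion hpre.ge x)⟩) ?_)
    exact (he x (hmem (Subgroup.inclusion hpre.ge x))).symm.trans (hψe (Subgroup.inclusion hpre.ge x))

/-- An isomorphic image is determined by the isomorphism. -/
theorem isFusIso_unique {E' : FusionSystem T} (h : IsFusIso F E ι) (h' : IsFusIso F E' ι) : E = E' := by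
  refine hom_ext _ _ fun Q => Set.ext fun ψ => ?_
  have key : ∀ {A B : FusionSystem T}, IsFusIso F A ι → IsFusIso F B ι → ψ ∈ A.Hom Q → ψ ∈ B.Hom Q := by
    intro A B hA hB hψ
    have hQ := hom_le A hψ
    have hle := (IsFusIso.imageAlong_preimage hA.range hQ)
    obtain ⟨φ, hφ, hφS, he⟩ := hA.exists_pull (preimageAlong_le_src ι Q) (restrict_mem A hψ hle.le)
    exact hB.agrees.fwd _ (preimageAlong_le_src ι Q) φ hφS hφ Q ψ hle.ge fun x hx => he x (imageAlong_mem x.2)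
  exact ⟨key h h', key h' h⟩

/-- An isomorphism given by a morphism with a morphism as inverse. -/
theorem isFusIso_of_morphisms {Ω : Type*} [Group Ω] {S : Subgroup Ω} {F : FusionSystem S} (a : S ≃* S)
    (ha : F.IsMorphism F (S.subtype.comp a.toMonoidHom))
    (ha' : F.IsMorphism F (S.subtype.comp a.symm.toMonoidHom)) : IsFusIso F F (S.subtype.comp a.toMonoidHom) := by
  refine ⟨fun x y h => a.injective (Subtype.ext h), ?_, fun P hP φ hφ φ' he => ?_⟩
  · ext z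
    constructor
    · rintro ⟨y, rfl⟩
      exact (a y).2
    · exact fun hz => ⟨a.symm ⟨z, hz⟩, congrArg Subtype.val (a.apply_symm_apply _)⟩
  constructor
  · intro hm
    obtain ⟨χ, hχ, _, hφS, hmem, hχe⟩ := ha.2 P φ hm
    refine hom_congr F hχ ?_
    rintro ⟨_, x, hx, rfl⟩
    exact (he ⟨x, hx⟩ _).trans (hχe ⟨x, hx⟩).symm
  · intro hm
    obtain ⟨χ, hχ, _, hφS, hmem, hχe⟩ := ha'.2 _ φ' hm
    have hle : P ≤ imageAlong (S.subtype.comp a.symm.toMonoidHom) (imageAlong (S.subtype.comp a.toMonoidHom) P) :=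
      fun x hx => ⟨a ⟨x, hP hx⟩, imageAlong_mem (ι := S.subtype.comp a.toMonoidHom) (x := ⟨x, hP hx⟩) hx,
        congrArg Subtype.val (a.symm_apply_apply _)⟩
    refine hom_congr F (restrict_mem F hχ hle) fun x => ?_
    set y : imageAlong (S.subtype.comp a.toMonoidHom) P :=
      ⟨_, imageAlong_mem (ι := S.subtype.comp a.toMonoidHom) (x := ⟨x, hP x.2⟩) x.2⟩
    have e := hχe y
    have e1 : χ (Subgroup.inclusion hle x) = χ ⟨_, hmem y⟩ :=
      apply_congr χ (congrArg Subtype.val (a.symm_apply_apply ⟨x, hP x.2⟩)).symm _ _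
    refine ((e1.trans e).trans ?_).symm
    show ((a.symm ⟨φ' y, hφS y⟩ : S) : Ω) = φ x
    rw [show (⟨φ' y, hφS y⟩ : S) = a ⟨φ x, hφ x⟩ from Subtype.ext (he x _), a.symm_apply_apply]

/-- The layer is invariant under automorphisms of the system. -/
theorem layer_invariant {Ω : Type*} [Group Ω] {S : Subgroup Ω} [Finite S] {p : ℕ} [Fact p.Prime]
    {F : FusionSystem S} (hF : F.IsSaturated p) {ι : S →* Ω} (h : IsFusIso F F ι) {T : Subgroup Ω}
    {E : FusionSystem T} (hE : E.IsLayerOf F p) :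
    imageAlong ι T = T ∧ ∀ (P : Subgroup Ω) (φ : P →* Ω), φ ∈ E.Hom P → ∀ φ' : imageAlong ι P →* Ω,
      InducedAlong ι φ φ' → φ' ∈ E.Hom (imageAlong ι P) := by
  obtain ⟨hn, hcomp, hmin⟩ := hE
  have hTS : T ≤ S := hn.1.2.2.2.1.1
  have hn₀ := h.normal_pull hF hn
  have hpag := pullSystem_agrees h.inj E
  have hsub : E.IsSubsystemOf (pullSystem h.inj E) := by
    refine hmin _ _ hn₀ fun U C hC => ?_
    obtain ⟨U', C', hUS, hC', k⟩ := subnormal_push hC.1 inferInstance inferInstance hF h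
    haveI := finite_of_le hUS
    have hsubC := hcomp U' C' ⟨hC', k.quasisimple hC.2⟩
    intro P φ hφ
    have hPU := hom_le C hφ
    obtain ⟨φ', hφ', he⟩ := k.exists_push hφ
    refine hpag.bwd P (hPU.trans hUS) φ (fun x => hUS (hom_apply_mem C hφ x)) _ φ' (hsubC _ hφ')
      (fun z hz => ?_) fun x hx => he x hx
    obtain ⟨x, hx, rfl⟩ := hz
    exact ⟨⟨x, hPU hx⟩, hx, rfl⟩
  have hle : imageAlong ι T ≤ T := by
    rintro _ ⟨x, hx, rfl⟩
    obtain ⟨y, hy, hyx⟩ := hom_le _ (hsub T (subtype_mem E le_rfl)) hx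
    rwa [show x = y from Subtype.ext hyx.symm]
  haveI := finite_of_le hTS
  refine ⟨Subgroup.eq_of_le_of_card_ge hle ?_, fun P φ hφ φ' hind => ?_⟩
  · rw [← Nat.card_congr (imageEquiv h.inj hTS).toEquiv]
  · obtain ⟨hP, hφS, hmem, he⟩ := hind
    exact hpag.fwd P hP φ hφS (hsub P hφ) _ φ' le_rfl fun x hx => he x

end Cfsg.Agent.FusionSys
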