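import Cfsg.Agent.Lib.Fusion.Saturated
import Cfsg.Agent.Lib.Fusion.Centric
import Cfsg.Prelude.Def_FusionComponents

/-!
# Transport of saturation along an isomorphism of fusion systems
-/

set_option autoImplicit false

namespace Cfsg.Agent.FusionSys

open Cfsg Cfsg.FusionSystem

variable {Ω Ω' : Type*} [Group Ω] [Group Ω'] {S : Subgroup Ω} {T : Subgroup Ω'}

/-- `ι` is an isomorphism from the system `F` onto the system `E`. -/
structure IsFusIso (F : FusionSystem S) (E : FusionSystem T) (ι : S →* Ω') : Prop where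
  inj : Function.Injective ι
  range : ι.range = T
  hom_iff : ∀ (P : Subgroup Ω) (hP : P ≤ S) (φ : P →* Ω) (hφ : ∀ x : P, φ x ∈ S)
    (φ' : imageAlong ι P →* Ω'),
    (∀ (x : P) (hx : ι ⟨x, hP x.2⟩ ∈ imageAlong ι P), φ' ⟨ι ⟨x, hP x.2⟩, hx⟩ = ι ⟨φ x, hφ x⟩) →
      (φ ∈ F.Hom P ↔ φ' ∈ E.Hom (imageAlong ι P))

variable {F : FusionSystem S} {E : FusionSystem T} {ι : S →* Ω'}

theorem imageAlong_mem {P : Subgroup Ω} {x : S} (hx : (x : Ω) ∈ P) : ι x ∈ imageAlong ι P := ⟨x, hx, rfl⟩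

theorem imageAlong_le (hι : ι.range = T) (P : Subgroup Ω) : imageAlong ι P ≤ T :=
  hι ▸ Subgroup.map_le_range ι _

/-- A subgroup of `S` and its image. -/
noncomputable def imageEquiv (hι : Function.Injective ι) {P : Subgroup Ω} (hP : P ≤ S) : P ≃* imageAlong ι P :=
  (Subgroup.subgroupOfEquivOfLe hP).symm.trans (Subgroup.equivMapOfInjective _ ι hι)

theorem imageEquiv_apply (hι : Function.Injective ι) {P : Subgroup Ω} (hP : P ≤ S) (x : P) :
    (imageEquiv hι hP x : Ω') = ι ⟨x, hP x.2⟩ := rfl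

namespace IsFusIso

variable (h : IsFusIso F E ι)
include h

/-- The transported homomorphism. -/
theorem exists_push {P : Subgroup Ω} {φ : P →* Ω} (hφ : φ ∈ F.Hom P) :
    ∃ φ' ∈ E.Hom (imageAlong ι P), ∀ (x : P) (hx : ι ⟨x, hom_le F hφ x.2⟩ ∈ imageAlong ι P),
      φ' ⟨ι ⟨x, hom_le F hφ x.2⟩, hx⟩ = ι ⟨φ x, hom_apply_mem F hφ x⟩ := by
  set e := imageEquiv h.inj (hom_le F hφ)
  refine ⟨(ι.comp (φ.codRestrict S (hom_apply_mem F hφ))).comp e.symm.toMonoidHom, ?_, fun x hx => ?_⟩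
  · refine (h.hom_iff P (hom_le F hφ) φ (hom_apply_mem F hφ) _ fun x hx => ?_).1 hφ
    show ι _ = ι _
    congr 1
    exact Subtype.ext (congrArg φ (e.symm_apply_apply x))
  · show ι _ = ι _
    congr 1
    exact Subtype.ext (congrArg φ (e.symm_apply_apply x))

theorem exists_pull {P : Subgroup Ω} (hP : P ≤ S) {φ' : imageAlong ι P →* Ω'}
    (hφ' : φ' ∈ E.Hom (imageAlong ι P)) :
    ∃ φ ∈ F.Hom P, ∃ hφ : ∀ x : P, φ x ∈ S, ∀ (x : P) (hx : ι ⟨x, hP x.2⟩ ∈ imageAlong ι P),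
      φ' ⟨ι ⟨x, hP x.2⟩, hx⟩ = ι ⟨φ x, hφ x⟩ := by
  set e := imageEquiv h.inj hP
  have hmem : ∀ x : P, φ' (e x) ∈ ι.range := fun x => h.range.symm ▸ hom_apply_mem E hφ' _
  set g : P →* S := (MonoidHom.ofInjective h.inj).symm.toMonoidHom.comp
    ((φ'.comp e.toMonoidHom).codRestrict ι.range hmem)
  have hg : ∀ x : P, ι (g x) = φ' (e x) := fun x =>
    congrArg Subtype.val ((MonoidHom.ofInjective h.inj).apply_symm_apply ⟨φ' (e x), hmem x⟩)
  refine ⟨S.subtype.comp g, ?_, fun x => (g x).2, fun x hx => (hg x).symm⟩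
  exact (h.hom_iff P hP (S.subtype.comp g) (fun x => (g x).2) φ' fun x hx => (hg x).symm).2 hφ'

theorem push_range {P : Subgroup Ω} {φ : P →* Ω} (hφ : φ ∈ F.Hom P) {φ' : imageAlong ι P →* Ω'}
    (he : ∀ (x : P) (hx : ι ⟨x, hom_le F hφ x.2⟩ ∈ imageAlong ι P),
      φ' ⟨ι ⟨x, hom_le F hφ x.2⟩, hx⟩ = ι ⟨φ x, hom_apply_mem F hφ x⟩) :
    φ'.range = imageAlong ι φ.range := by
  ext y
  constructor
  · rintro ⟨⟨_, x, hx, rfl⟩, rfl⟩
    exact ⟨⟨φ ⟨x, hx⟩, hom_apply_mem F hφ _⟩, ⟨⟨x, hx⟩, rfl⟩, (he ⟨x, hx⟩ _).symm⟩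
  · rintro ⟨z, ⟨x, hxz⟩, rfl⟩
    refine ⟨⟨_, imageAlong_mem (ι := ι) (P := P) (x := ⟨x, hom_le F hφ x.2⟩) x.2⟩, (he x _).trans ?_⟩
    exact congrArg ι (Subtype.ext hxz)

theorem imageAlong_inj {P Q : Subgroup Ω} (hP : P ≤ S) (hQ : Q ≤ S) (he : imageAlong ι P = imageAlong ι Q) :
    P = Q := by
  have key : ∀ {A B : Subgroup Ω}, A ≤ S → imageAlong ι A = imageAlong ι B → A ≤ B := fun {A B} hA he x hx => by
    obtain ⟨y, hy, hye⟩ := he.le (imageAlong_mem (x := ⟨x, hA hx⟩) hx)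
    have e : (y : Ω) = x := congrArg Subtype.val (h.inj hye)
    rw [← e]
    exact hy
  exact le_antisymm (key hP he) (key hQ he.symm)

omit h in
theorem imageAlong_preimage (hι : ι.range = T) {R : Subgroup Ω'} (hR : R ≤ T) :
    imageAlong ι ((R.comap ι).map S.subtype) = R := by
  rw [imageAlong, show ((R.comap ι).map S.subtype).subgroupOf S = R.comap ι from
    Subgroup.comap_map_eq_self_of_injective S.subtype_injective _, Subgroup.map_comap_eq, hι,
    inf_eq_right.2 hR]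

theorem exists_isConj {P : Subgroup Ω} (hP : P ≤ S) {R' : Subgroup Ω'} (hc : E.IsConj (imageAlong ι P) R') :
    ∃ R : Subgroup Ω, imageAlong ι R = R' ∧ F.IsConj P R := by
  obtain ⟨φ', hφ', hr⟩ := hc
  obtain ⟨φ, hφ, hφS, he⟩ := h.exists_pull hP hφ'
  exact ⟨φ.range, (h.push_range hφ fun x hx => he x hx).symm.trans hr, φ, hφ, rfl⟩

theorem mem_normalizer_iff {P : Subgroup Ω} (hP : P ≤ S) {g : S} :
    (g : Ω) ∈ Subgroup.normalizer (P : Set Ω) ↔ ι g ∈ Subgroup.normalizer (imageAlong ι P : Set Ω') := by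
  rw [Subgroup.mem_normalizer_iff, Subgroup.mem_normalizer_iff]
  constructor
  · intro hg y
    constructor
    · rintro ⟨x, hx, rfl⟩
      exact ⟨g * x * g⁻¹, (hg x).1 hx, by simp⟩
    · rintro ⟨z, hz, hze⟩
      refine ⟨g⁻¹ * z * g, (hg _).2 ?_, by rw [map_mul, map_mul, hze, map_inv]; group⟩
      simpa [mul_assoc, Subgroup.mem_subgroupOf] using hz
  · intro hg x
    constructor
    · intro hx
      obtain ⟨z, hz, hze⟩ := (hg (ι ⟨x, hP hx⟩)).1 (imageAlong_mem (x := ⟨x, hP hx⟩) hx)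
      rw [← map_inv, ← map_mul, ← map_mul] at hze
      rw [h.inj hze] at hz
      exact hz
    · intro hx
      obtain ⟨z, hz, hze⟩ := (hg (ι (g⁻¹ * ⟨g * x * (g : Ω)⁻¹, hP hx⟩ * g))).2 ⟨⟨_, hP hx⟩, hx, by
        simp only [map_mul, map_inv]; group⟩
      rw [h.inj hze] at hz
      simpa [mul_assoc, Subgroup.mem_subgroupOf] using hz

theorem receptive_pull {Q : Subgroup Ω} (hQ : Q ≤ S) (hr : E.IsReceptive (imageAlong ι Q)) :
    F.IsReceptive Q := by
  refine ⟨hQ, fun P φ hφ hrange => ?_⟩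
  obtain ⟨φ', hφ', he⟩ := h.exists_push hφ
  obtain ⟨ψ', hψ', hψe'⟩ := hr.2 _ φ' hφ' ((h.push_range hφ he).trans (by rw [hrange]))
  have hP := hom_le F hφ
  have hle : extender S P φ ≤ S := (Subgroup.closure_le _).2 fun g hg => hg.1
  have hext : imageAlong ι (extender S P φ) ≤ extender T (imageAlong ι P) φ' := by
    rintro _ ⟨g, hg, rfl⟩
    suffices hk : (extender S P φ).subgroupOf S ≤ (extender T (imageAlong ι P) φ').comap ι from hk hg
    intro g hg
    have : (g : Ω) ∈ ((extender T (imageAlong ι P) φ').comap ι).map S.subtype := by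
      refine (Subgroup.closure_le _).2 ?_ (show (g : Ω) ∈ extender S P φ from hg)
      rintro u ⟨huS, hun, v, hvS, huv⟩
      refine ⟨⟨u, huS⟩, ?_, rfl⟩
      refine Subgroup.subset_closure ⟨h.range ▸ ⟨_, rfl⟩, (h.mem_normalizer_iff hP).1 hun,
        ι ⟨v, hvS⟩, h.range ▸ ⟨_, rfl⟩, ?_⟩
      rintro ⟨_, x, hx, rfl⟩ hmem
      have hux : u * (x : Ω) * u⁻¹ ∈ P := (Subgroup.mem_normalizer_iff.1 hun _).1 hx
      have e1 := he ⟨_, hux⟩ (imageAlong_mem hux)
      rw [he ⟨x, hx⟩ ⟨x, hx, rfl⟩]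
      refine Eq.trans ?_ (e1.trans ?_)
      · exact apply_congr φ' (by simp only [← map_inv, ← map_mul]; rfl) _ _
      · rw [← map_inv, ← map_mul, ← map_mul]
        exact congrArg ι (Subtype.ext (huv ⟨x, hx⟩ hux))
    obtain ⟨g', hg', hge⟩ := this
    rwa [Subtype.ext hge] at hg'
  obtain ⟨ψ, hψ, hψS, hψe⟩ := h.exists_pull hle (restrict_mem E hψ' hext)
  refine ⟨ψ, hψ, fun x hxP hxN => ?_⟩
  have e1 := hψe ⟨x, hxN⟩ (imageAlong_mem hxN)
  have e2 := hψe' (ι ⟨x, hP hxP⟩) (imageAlong_mem hxP) (hext (imageAlong_mem hxN))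
  have e3 := he ⟨x, hxP⟩ (imageAlong_mem hxP)
  exact congrArg Subtype.val (h.inj ((e1.symm.trans e2).trans e3))

variable {p : ℕ}

theorem autGroup_push {Q : Subgroup Ω} (hQ : Q ≤ S) :
    (E.autGroup (imageAlong ι Q)).map (MulAut.congr (imageEquiv h.inj hQ).symm).toMonoidHom = F.autGroup Q := by
  have hQ' : imageAlong ι Q ≤ T := imageAlong_le h.range Q
  set e := imageEquiv h.inj hQ with hedef
  ext β
  constructor
  · rintro ⟨α, hα, rfl⟩
    rw [mem_autGroup_iff F hQ]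
    refine (h.hom_iff Q hQ _ (fun x => hQ (MulAut.congr e.symm α x).2) _ fun x hx => ?_).2
      ((mem_autGroup_iff E hQ' α).1 hα)
    show ((α (e x) : imageAlong ι Q) : Ω') = ((e (e.symm (α (e.symm.symm x))) : imageAlong ι Q) : Ω')
    rw [e.apply_symm_apply]; rfl
  · intro hβ
    refine ⟨MulAut.congr e β, (mem_autGroup_iff E hQ' _).2 ?_, ?_⟩
    · refine (h.hom_iff Q hQ (Q.subtype.comp β.toMonoidHom) (fun x => hQ (β x).2) _ fun x hx => ?_).1
        ((mem_autGroup_iff F hQ β).1 hβ)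
      show ((e (β (e.symm (e x))) : imageAlong ι Q) : Ω') = _
      rw [e.symm_apply_apply]; rfl
    · refine MulEquiv.ext fun x => ?_
      show e.symm (e (β (e.symm (e.symm.symm x)))) = β x
      simp

theorem autInduced_push {Q : Subgroup Ω} (hQ : Q ≤ S) :
    (autInducedBy T (imageAlong ι Q)).map (MulAut.congr (imageEquiv h.inj hQ).symm).toMonoidHom =
      autInducedBy S Q := by
  set e := imageEquiv h.inj hQ with hedef
  ext β
  constructor
  · rintro ⟨α, hα, rfl⟩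
    obtain ⟨g', hg', hge⟩ := (mem_autInducedBy_iff α).1 hα
    obtain ⟨g, rfl⟩ : g' ∈ ι.range := h.range.symm ▸ hg'
    refine (mem_autInducedBy_iff _).2 ⟨g, g.2, fun x => ?_⟩
    have e1 := hge (e x)
    rw [hedef, imageEquiv_apply, ← map_inv, ← map_mul, ← map_mul] at e1
    have e2 : e (MulAut.congr e.symm α x) = α (e x) := e.apply_symm_apply _
    have e3 := (congrArg Subtype.val e2).trans e1
    rw [hedef, imageEquiv_apply] at e3
    exact congrArg Subtype.val (h.inj e3)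
  · intro hβ
    obtain ⟨g, hg, hge⟩ := (mem_autInducedBy_iff β).1 hβ
    refine ⟨MulAut.congr e β, (mem_autInducedBy_iff _).2 ⟨ι ⟨g, hg⟩, h.range ▸ ⟨_, rfl⟩, fun y => ?_⟩, ?_⟩
    · obtain ⟨x, rfl⟩ := e.surjective y
      show ((e (β (e.symm (e x))) : imageAlong ι Q) : Ω') = _
      rw [e.symm_apply_apply, hedef, imageEquiv_apply, imageEquiv_apply, ← map_inv, ← map_mul, ← map_mul]
      exact congrArg ι (Subtype.ext (hge x))
    · refine MulEquiv.ext fun x => ?_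
      show e.symm (e (β (e.symm (e.symm.symm x)))) = β x
      simp

/-- Saturation pulls back along an isomorphism. -/
theorem saturated [Finite S] [Fact p.Prime] (hE : E.IsSaturated p) : F.IsSaturated p := by
  haveI : Finite T := h.range ▸ Finite.of_surjective ι.rangeRestrict ι.rangeRestrict_surjective
  intro P hP
  obtain ⟨R', hc, ha, hr⟩ := hE (imageAlong ι P) (imageAlong_le h.range P)
  obtain ⟨R, rfl, hPR⟩ := h.exists_isConj hP hc
  have hR := isConj_le_right hPR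
  refine ⟨R, hPR, fullyAutomized_of_isSyl_aut hR ?_, h.receptive_pull hR hr⟩
  haveI := finite_of_le (S := S) hR
  haveI := finite_of_le (S := T) (imageAlong_le h.range R)
  rw [← h.autGroup_push hR, ← h.autInduced_push hR]
  exact (isSyl_of_fullyAutomized ha).map _

end IsFusIso

/-- A realized system is isomorphic to the system of the group on the image. -/
theorem isFusIso_of_realized {G : Type*} [Group G] {κ : S →* G} (hκ : F.IsRealizedBy κ) :
    IsFusIso F (groupFusionSystem κ.range) κ := by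
  refine ⟨hκ.1, rfl, fun P hP φ hφ φ' he => ?_⟩
  constructor
  · intro hm
    obtain ⟨g, hg⟩ := (hκ.2 P hP φ hφ).1 hm
    refine ⟨imageAlong_le rfl P, ?_, g, ?_⟩
    · rintro ⟨_, x, hx, rfl⟩
      exact (congrArg (· ∈ κ.range) (he ⟨(x : Ω), hx⟩ ⟨x, hx, rfl⟩)).mpr ⟨_, rfl⟩
    · rintro ⟨_, x, hx, rfl⟩
      exact (he ⟨(x : Ω), hx⟩ ⟨x, hx, rfl⟩).trans (hg ⟨(x : Ω), hx⟩)
  · intro hm
    obtain ⟨-, -, g, hg⟩ := hm
    refine (hκ.2 P hP φ hφ).2 ⟨g, fun x => ?_⟩
    rw [← he x (imageAlong_mem (ι := κ) (P := P) (x := ⟨x, hP x.2⟩) x.2)]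
    exact hg ⟨_, imageAlong_mem (ι := κ) (P := P) (x := ⟨x, hP x.2⟩) x.2⟩

end Cfsg.Agent.FusionSys
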