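import Cfsg.Agent.Lib.Fusion.ModelData
import Cfsg.Agent.Lib.Fusion.Transport
import Cfsg.Agent.Lib.Fusion.Group
import Cfsg.Agent.Lib.FiniteGroup.FittingPow

/-!
# Properties of models
-/

set_option autoImplicit false

namespace Cfsg.Agent.FusionSys

open Cfsg Cfsg.FusionSystem

variable {Ω : Type*} [Group Ω] {S : Subgroup Ω} [Finite S] {p : ℕ} [hp : Fact p.Prime] {F : FusionSystem S}
  {G : Type*} [Group G] {ι : S →* G}

theorem saturated_of_realized (hι : F.IsRealizedBy ι) [Finite G] (hT : ∃ T : Sylow p G, (T : Subgroup G) = ι.range) :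
    F.IsSaturated p := by
  obtain ⟨T, hT⟩ := hT
  refine (isFusIso_of_realized hι).saturated ?_
  rw [← hT]
  exact groupFusionSystem_saturated T

/-- The preimage in `S` of a subgroup of the group. -/
def preim (ι : S →* G) (K : Subgroup G) : Subgroup Ω := (K.comap ι).map S.subtype

omit [Finite S] in
theorem preim_le (K : Subgroup G) : preim ι K ≤ S := Subgroup.map_subtype_le _

omit [Finite S] in
theorem mem_preim {K : Subgroup G} {x : S} : (x : Ω) ∈ preim ι K ↔ ι x ∈ K := by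
  refine ⟨?_, fun h => ⟨x, h, rfl⟩⟩
  rintro ⟨y, hy, hye⟩
  rwa [← Subtype.ext (a1 := y) (a2 := x) hye]

section model

variable (hM : F.IsModel p G ι)
include hM

theorem model_pCore_le : Cfsg.pCore p G ≤ ι.range := by
  haveI := hM.1
  obtain ⟨T, hT⟩ := hM.2.2.1
  haveI := Cfsg.Agent.FiniteGroup.pCore_normal (G := G) p
  exact hT ▸ IsPGroup.le_sylow_of_normal (Cfsg.Agent.FiniteGroup.pCore_isPGroup (G := G) p) T

omit hM in
/-- A normal subgroup of the group inside the image gives a normal subgroup of the system. -/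
theorem preim_normal (hι : F.IsRealizedBy ι) {K : Subgroup G} [K.Normal] (hK : K ≤ ι.range) :
    F.IsNormal (preim ι K) := by
  refine ⟨preim_le K, fun P φ hφ => ?_⟩
  have hP := hom_le F hφ
  obtain ⟨g, hg⟩ := (hι.2 P hP φ (hom_apply_mem F hφ)).1 hφ
  set U := preim ι K with hU
  have hle : P ⊔ U ≤ S := sup_le hP (preim_le K)
  have hmem : ∀ x : (P ⊔ U : Subgroup Ω), g * ι ⟨x, hle x.2⟩ * g⁻¹ ∈ ι.range := by
    have h : P ⊔ U ≤ ((ι.range.comap (MulAut.conj g).toMonoidHom).comap ι).map S.subtype := by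
      refine sup_le (fun x hx => ⟨⟨x, hP hx⟩, ⟨_, hg ⟨x, hx⟩⟩, rfl⟩) ?_
      rintro _ ⟨x, hx, rfl⟩
      exact ⟨x, hK (‹K.Normal›.conj_mem _ hx g), rfl⟩
    intro x
    obtain ⟨y, hy, hye⟩ := h x.2
    rw [show (⟨(x : Ω), hle x.2⟩ : S) = y from Subtype.ext hye.symm]
    exact hy
  set e := MonoidHom.ofInjective hι.1
  let ψ : (P ⊔ U : Subgroup Ω) →* Ω := S.subtype.comp (e.symm.toMonoidHom.comp
    ((((MulAut.conj g).toMonoidHom.comp ι).comp (Subgroup.inclusion hle)).codRestrict ι.range hmem))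
  have hψ : ∀ x, ι ⟨ψ x, SetLike.coe_mem _⟩ = g * ι ⟨x, hle x.2⟩ * g⁻¹ := fun x =>
    congrArg Subtype.val (e.apply_symm_apply ⟨_, hmem x⟩)
  have hψF : ψ ∈ F.Hom (P ⊔ U) := (hι.2 _ hle ψ fun x => SetLike.coe_mem _).2 ⟨g, hψ⟩
  refine ⟨ψ, hψF, fun x => congrArg Subtype.val (hι.1 ((hψ (Subgroup.inclusion le_sup_left x)).trans (hg x).symm)), ?_⟩
  haveI := finite_of_le (S := S) (preim_le (ι := ι) K)
  refine Subgroup.eq_of_le_of_card_ge ?_ ?_
  · rintro _ ⟨x, hx, rfl⟩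
    refine (mem_preim (x := ⟨ψ x, SetLike.coe_mem _⟩)).2 ?_
    rw [hψ]
    exact ‹K.Normal›.conj_mem _ ((mem_preim (x := ⟨(x : Ω), hle x.2⟩)).1 hx) g
  · rw [Nat.card_congr (Subgroup.equivMapOfInjective _ ψ (F.injective_of_mem hψF)).toEquiv.symm,
      Nat.card_congr (Subgroup.subgroupOfEquivOfLe (le_sup_right : U ≤ P ⊔ U)).toEquiv]

theorem model_centricNormal : CentricNormal F (preim ι (Cfsg.pCore p G)) := by
  haveI := Cfsg.Agent.FiniteGroup.pCore_normal (G := G) p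
  have hn := preim_normal hM.2.1 (model_pCore_le hM)
  refine ⟨hn, hn.1, ?_⟩
  rintro R ⟨φ, hφ, rfl⟩
  haveI := finite_of_le (S := S) hn.1
  have hR : φ.range = preim ι (Cfsg.pCore p G) := by
    refine Subgroup.eq_of_le_of_card_ge ?_ (isConj_card ⟨φ, hφ, rfl⟩).le
    rintro _ ⟨x, rfl⟩
    exact stronglyClosed_apply_mem (isNormal_stronglyClosed hn) hφ x x.2
  rw [hR]
  rintro c ⟨hc, hcc⟩
  refine (mem_preim (x := ⟨c, hc⟩)).2 (hM.2.2.2 (Subgroup.mem_centralizer_iff.2 fun k hk => ?_))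
  obtain ⟨s, rfl⟩ := model_pCore_le hM hk
  rw [← map_mul, ← map_mul]
  exact congrArg ι (Subtype.ext (Subgroup.mem_centralizer_iff.1 hcc s (mem_preim.2 hk)))

/-- A model makes the system constrained. -/
theorem model_constrained : F.IsConstrained p := by
  haveI := hM.1
  exact ⟨saturated_of_realized hM.2.1 hM.2.2.1, _, (model_centricNormal hM).normal, (model_centricNormal hM).centric⟩

variable {Q : Subgroup Ω}

/-- The group normalizes the image of every normal subgroup of the system. -/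
theorem model_conj_mem (hQn : F.IsNormal Q) (g : G) {q : S} (hq : (q : Ω) ∈ Q) :
    ∃ q' : S, (q' : Ω) ∈ Q ∧ ι q' = g * ι q * g⁻¹ := by
  haveI := Cfsg.Agent.FiniteGroup.pCore_normal (G := G) p
  set U := preim ι (Cfsg.pCore p G)
  have hU := preim_le (ι := ι) (Cfsg.pCore p G)
  have hmem : ∀ x : U, g * ι ⟨x, hU x.2⟩ * g⁻¹ ∈ ι.range := fun x =>
    model_pCore_le hM ((Cfsg.Agent.FiniteGroup.pCore_normal (G := G) p).conj_mem _ (mem_preim.1 x.2) g)
  set e := MonoidHom.ofInjective hM.2.1.1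
  let φ : U →* Ω := S.subtype.comp (e.symm.toMonoidHom.comp
    ((((MulAut.conj g).toMonoidHom.comp ι).comp (Subgroup.inclusion hU)).codRestrict ι.range hmem))
  have hφ : ∀ x, ι ⟨φ x, SetLike.coe_mem _⟩ = g * ι ⟨x, hU x.2⟩ * g⁻¹ := fun x =>
    congrArg Subtype.val (e.apply_symm_apply ⟨_, hmem x⟩)
  have hφF : φ ∈ F.Hom U := (hM.2.1.2 U hU φ fun x => SetLike.coe_mem _).2 ⟨g, hφ⟩
  obtain ⟨ψ, hψ, hψU, hψQ⟩ := hQn.2 U φ hφF
  have hle := hom_le F hψ
  obtain ⟨g', hg'⟩ := (hM.2.1.2 _ hle ψ (hom_apply_mem F hψ)).1 hψ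
  have hd : g'⁻¹ * g ∈ Cfsg.pCore p G := hM.2.2.2 (Subgroup.mem_centralizer_iff.2 fun k hk => by
    obtain ⟨s, rfl⟩ := model_pCore_le hM hk
    have h1 := hφ ⟨s, mem_preim.2 hk⟩
    have h2 := hg' (Subgroup.inclusion le_sup_left ⟨s, mem_preim.2 hk⟩)
    have h3 : g' * ι s * g'⁻¹ = g * ι s * g⁻¹ :=
      h2.symm.trans ((congrArg ι (Subtype.ext (hψU _))).trans h1)
    calc ι s * (g'⁻¹ * g) = g'⁻¹ * (g' * ι s * g'⁻¹) * g := by group
      _ = g'⁻¹ * (g * ι s * g⁻¹) * g := by rw [h3]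
      _ = g'⁻¹ * g * ι s := by group)
  obtain ⟨d, hd'⟩ := model_pCore_le hM hd
  have hdq : (d : Ω) * q * (d : Ω)⁻¹ ∈ Q :=
    (Subgroup.mem_normalizer_iff.1 (isNormal_le_normalizer hQn d.2) _).1 hq
  set w : (U ⊔ Q : Subgroup Ω) := Subgroup.inclusion le_sup_right ⟨_, hdq⟩
  refine ⟨⟨ψ w, hom_apply_mem F hψ w⟩, hψQ.le ⟨w, hdq, rfl⟩, ?_⟩
  rw [hg' w, show g = g' * ι d by rw [hd', mul_inv_cancel_left]]
  show g' * ι (d * q * d⁻¹) * g'⁻¹ = _
  rw [map_mul, map_mul, map_inv]; group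

/-- The group acts on a normal centric subgroup as the whole automizer, with kernel the image of its centre. -/
theorem exists_modelAction (hQ : CentricNormal F Q) :
    ∃ π : G →* F.autGroup Q, Function.Surjective π ∧
      (∀ (g : G) (q : Q), g * ι ⟨q, hQ.le q.2⟩ * g⁻¹ =
        ι ⟨((π g : MulAut Q) q : Q), hQ.le ((π g : MulAut Q) q).2⟩) ∧
      π.ker = (zQInc hQ).range.map ι ∧ ∀ s : S, π (ι s) = actQ hQ s := by
  haveI := hM.1
  haveI := finite_of_le (S := S) hQ.le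
  have hinj := hM.2.1.1
  set ιQ : Q →* G := ι.comp (Subgroup.inclusion hQ.le) with hιQ
  have hιQi : Function.Injective ιQ := hinj.comp (Subgroup.inclusion_injective _)
  have hnorm : ∀ g : G, g ∈ Subgroup.normalizer (ιQ.range : Set G) := fun g =>
    mem_normalizer_of_conj_mem g (by
      rintro _ ⟨q, rfl⟩
      obtain ⟨q', hq', hqe⟩ := model_conj_mem hM hQ.normal g (q := Subgroup.inclusion hQ.le q) q.2
      exact ⟨⟨q', hq'⟩, hqe⟩) (by
      rintro _ ⟨q, rfl⟩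
      obtain ⟨q', hq', hqe⟩ := model_conj_mem hM hQ.normal g⁻¹ (q := Subgroup.inclusion hQ.le q) q.2
      exact ⟨⟨q', hq'⟩, hqe.trans (by rw [inv_inv]; rfl)⟩)
  set e := MonoidHom.ofInjective hιQi
  let π₀ : G →* MulAut Q := ((MulAut.congr e.symm).toMonoidHom.comp ιQ.range.normalizerMonoidHom).comp
    ((MonoidHom.id G).codRestrict _ hnorm)
  have hspec : ∀ (g : G) (q : Q), g * ιQ q * g⁻¹ = ιQ (π₀ g q) := fun g q =>
    (congrArg Subtype.val (e.apply_symm_apply (ιQ.range.normalizerMonoidHom ⟨g, hnorm g⟩ (e q)))).symm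
  have hmem : ∀ g, π₀ g ∈ F.autGroup Q := fun g =>
    (mem_autGroup_iff F hQ.le _).2 ((hM.2.1.2 Q hQ.le _ fun x => hQ.le (π₀ g x).2).2
      ⟨g, fun x => (hspec g x).symm⟩)
  set π := π₀.codRestrict (F.autGroup Q) hmem
  have hact : ∀ s : S, π (ι s) = actQ hQ s := fun s => by
    refine Subtype.ext (MulEquiv.ext fun q => Subtype.ext ?_)
    have h4 : (⟨(π₀ (ι s) q : Q), hQ.le (π₀ (ι s) q).2⟩ : S) = s * ⟨q, hQ.le q.2⟩ * s⁻¹ :=
      hinj ((hspec (ι s) q).symm.trans (by simp only [map_mul, map_inv]; rfl))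
    exact (congrArg Subtype.val h4).trans (actQ_apply hQ s q).symm
  refine ⟨π, fun a => ?_, hspec, ?_, hact⟩
  · obtain ⟨g, hg⟩ := (hM.2.1.2 Q hQ.le _ fun x => hQ.le ((a : MulAut Q) x).2).1
      ((mem_autGroup_iff F hQ.le _).1 a.2)
    refine ⟨g, Subtype.ext (MulEquiv.ext fun q => ?_)⟩
    exact hιQi (((hg q).trans (hspec g q)).symm)
  refine le_antisymm ?_ ?_
  swap
  · rintro _ ⟨z, hz, rfl⟩
    rw [MonoidHom.mem_ker, hact]
    rw [zQInc_range] at hz
    exact hz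
  -- the kernel is a normal `p`-group
  obtain ⟨T, hT⟩ := hM.2.2.1
  have hker_le : ∀ k ∈ π.ker, k ∈ ι.range → k ∈ (zQInc hQ).range.map ι := by
    rintro _ hk ⟨s, rfl⟩
    refine ⟨s, ?_, rfl⟩
    rw [zQInc_range, SetLike.mem_coe, MonoidHom.mem_ker, ← hact]
    exact hk
  have hp' : ∀ c ∈ π.ker, (orderOf c).Coprime p → c = 1 := by
    intro c hc hco
    haveI := Cfsg.Agent.FiniteGroup.pCore_normal (G := G) p
    refine orderOf_eq_one_iff.1 (Nat.eq_one_of_dvd_coprimes ?_ dvd_rfl (dvd_refl _))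
    have hcent : c ∈ Subgroup.centralizer ((Cfsg.pCore p G : Subgroup G) : Set G) := by
      rw [Subgroup.mem_centralizer_iff]
      intro k hk
      have hd : c⁻¹ * k * c * k⁻¹ ∈ (zQInc hQ).range.map ι :=
        hker_le _ (by
          rw [show c⁻¹ * k * c * k⁻¹ = c⁻¹ * (k * c * k⁻¹) by group]
          exact Subgroup.mul_mem _ (Subgroup.inv_mem _ hc) ((MonoidHom.normal_ker π).conj_mem _ hc k))
          (model_pCore_le hM (by
            rw [show c⁻¹ * k * c * k⁻¹ = (c⁻¹ * k * c⁻¹⁻¹) * k⁻¹ by group]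
            exact Subgroup.mul_mem _ (Subgroup.Normal.conj_mem inferInstance _ hk _) (Subgroup.inv_mem _ hk)))
      obtain ⟨_, ⟨z, rfl⟩, hze⟩ := hd
      have hzc : Commute c (ι (zQInc hQ z)) := by
        have h1 := hspec c ⟨z, z.2.1⟩
        rw [show π₀ c = 1 from congrArg Subtype.val hc] at h1
        exact mul_inv_eq_iff_eq_mul.1 h1
      have hz1 : ι (zQInc hQ z) ^ orderOf c = 1 := by
        have h2 : (c * ι (zQInc hQ z)) ^ orderOf c = 1 := by
          rw [hze, show c * (c⁻¹ * k * c * k⁻¹) = k * c * k⁻¹ by group, conj_pow, pow_orderOf_eq_one, mul_one,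
            mul_inv_cancel]
        rwa [hzc.mul_pow, pow_orderOf_eq_one, one_mul] at h2
      obtain ⟨n, hn⟩ := (hS_image : IsPGroup p ι.range) ⟨ι (zQInc hQ z), ⟨_, rfl⟩⟩
      have hone : ι (zQInc hQ z) = 1 := orderOf_eq_one_iff.1 (Nat.eq_one_of_dvd_coprimes
        (hco.pow_right n) (orderOf_dvd_of_pow_eq_one hz1)
        (orderOf_dvd_of_pow_eq_one (congrArg Subtype.val hn)))
      rw [hze] at hone
      calc k * c = k * c * (k * c)⁻¹ * (k * c) := by group
        _ = c * (c⁻¹ * k * c * k⁻¹) * k := by group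
        _ = c * k := by rw [hone, mul_one]
    obtain ⟨n, hn⟩ := (Cfsg.Agent.FiniteGroup.pCore_isPGroup (G := G) p) ⟨c, hM.2.2.2 hcent⟩
    exact Nat.Coprime.coprime_dvd_right (orderOf_dvd_of_pow_eq_one (congrArg Subtype.val hn))
      (hco.pow_right n)
  have hpk : IsPGroup p π.ker := fun ⟨c, hc⟩ => by
    obtain ⟨k, m, hm, hkm⟩ := Nat.exists_eq_pow_mul_and_not_dvd (orderOf_pos c).ne' p hp.out.ne_one
    refine ⟨k, Subtype.ext ?_⟩
    refine hp' _ (π.ker.pow_mem hc _) ?_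
    rw [SubmonoidClass.coe_pow, orderOf_pow, hkm, Nat.gcd_mul_right_left, Nat.mul_div_cancel_left _ (pow_pos hp.out.pos k)]
    exact ((Nat.Prime.coprime_iff_not_dvd hp.out).2 hm).symm
  intro k hk
  exact hker_le k hk (hT ▸ (IsPGroup.le_sylow_of_normal hpk T) hk)
where
  hS_image : IsPGroup p ι.range := by
    obtain ⟨T, hT⟩ := hM.2.2.1
    exact hT ▸ T.2

end model

end Cfsg.Agent.FusionSys
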