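import Cfsg.Agent.Lib.Fusion.Model
import Cfsg.Agent.Lib.Fusion.ModelFacts
import Cfsg.Agent.Lib.Fusion.Subsystem
import Cfsg.Agent.Lib.CharP.AxB

/-!
# Constrained systems of central quotients
-/

set_option autoImplicit false

namespace Cfsg.Agent.FusionSys

open Cfsg Cfsg.FusionSystem

universe u

variable {p : ℕ} [hp : Fact p.Prime]

/-- A subgroup acting trivially on a central subgroup `W` and on the quotient of the generalized Fitting part by `W`
lies in that part. -/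
theorem stabilizer_le_pCore {M : Type u} [Group M] [Finite M]
    (hM : Subgroup.centralizer ((Cfsg.pCore p M : Subgroup M) : Set M) ≤ Cfsg.pCore p M) {W : Subgroup M}
    (hWU : W ≤ Cfsg.pCore p M) (hW : W ≤ Subgroup.center M) :
    ∃ C : Subgroup M, C ≤ Cfsg.pCore p M ∧
      ∀ c : M, (∀ u ∈ Cfsg.pCore p M, u⁻¹ * (c * u * c⁻¹) ∈ W) → c ∈ C := by
  haveI := Cfsg.Agent.FiniteGroup.pCore_normal (G := M) p
  set U := Cfsg.pCore p M with hU
  haveI hWn : W.Normal := ⟨fun w hw g => by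
    rw [Subgroup.mem_center_iff.1 (hW hw) g, mul_inv_cancel_right]; exact hw⟩
  set π := QuotientGroup.mk' W
  set C := (Subgroup.centralizer ((U.map π : Subgroup (M ⧸ W)) : Set (M ⧸ W))).comap π
  haveI : (U.map π).Normal := Subgroup.Normal.map inferInstance π (QuotientGroup.mk'_surjective W)
  have hCn : C.Normal := inferInstance
  have hC : ∀ c, c ∈ C ↔ ∀ u ∈ U, π u * π c = π c * π u := fun c => by
    rw [Subgroup.mem_comap, Subgroup.mem_centralizer_iff]
    exact ⟨fun h u hu => h _ ⟨u, hu, rfl⟩, by rintro h _ ⟨u, hu, rfl⟩; exact h u hu⟩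
  refine ⟨C, AxB.le_pCore hCn ?_, fun c hc => (hC c).2 fun u hu => ?_⟩
  · -- no nontrivial element of order prime to `p`
    refine IsPGroup.of_card (n := (Nat.card C).primeFactorsList.length)
      (Nat.eq_prime_pow_of_unique_prime_dvd Nat.card_pos.ne' fun {q} hq hqC => by_contra fun hqp => ?_)
    haveI := Fact.mk hq
    obtain ⟨c, hc⟩ := exists_prime_orderOf_dvd_card' q hqC
    have hco : orderOf (c : M) = q := (Subgroup.orderOf_coe c).trans hc
    have hcop : q.Coprime p := (Nat.coprime_primes hq hp.out).2 hqp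
    have hUp : IsPGroup p U := AxB.isPGroup_pCore p
    have hcent : (c : M) ∈ Subgroup.centralizer (U : Set M) := by
      rw [Subgroup.mem_centralizer_iff]
      intro u hu
      have h1 := (hC c).1 c.2 u hu
      rw [← map_mul, ← map_mul, eq_comm] at h1
      have hz : ((c : M) * u)⁻¹ * (u * c) ∈ W := QuotientGroup.eq.1 h1
      set z := ((c : M) * u)⁻¹ * (u * c) with hzdef
      have hcz : Commute (c : M) z := (Subgroup.mem_center_iff.1 (hW hz) c)
      have hconj : u * c * u⁻¹ = c * z := by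
        have e1 : u * c = c * u * z := by rw [hzdef, mul_inv_cancel_left]
        rw [e1, mul_assoc (c : M) u z, Subgroup.mem_center_iff.1 (hW hz) u, mul_assoc, mul_inv_cancel_right]
      have hpow : ((c : M) * z) ^ q = 1 := by
        rw [← hconj, conj_pow, show (c : M) ^ q = 1 by rw [← hco]; exact pow_orderOf_eq_one _, mul_one,
          mul_inv_cancel]
      rw [hcz.mul_pow, show (c : M) ^ q = 1 by rw [← hco]; exact pow_orderOf_eq_one _, one_mul] at hpow
      obtain ⟨k, hk⟩ := IsPGroup.iff_orderOf.1 hUp ⟨z, hWU hz⟩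
      rw [Subgroup.orderOf_mk] at hk
      have hz1 : z = 1 := orderOf_eq_one_iff.1 (Nat.eq_one_of_dvd_coprimes (hcop.pow_right k)
        (orderOf_dvd_of_pow_eq_one hpow) hk.dvd)
      rw [hz1, mul_one] at hconj
      calc u * c = u * c * u⁻¹ * u := by group
        _ = c * u := by rw [hconj]
    obtain ⟨k, hk⟩ := IsPGroup.iff_orderOf.1 hUp ⟨c, hM hcent⟩
    rw [Subgroup.orderOf_mk, hco] at hk
    exact hq.ne_one (Nat.eq_one_of_dvd_coprimes (hcop.pow_right k) dvd_rfl hk.dvd)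
  · show (QuotientGroup.mk u * QuotientGroup.mk c : M ⧸ W) = QuotientGroup.mk c * QuotientGroup.mk u
    rw [← QuotientGroup.mk_mul, ← QuotientGroup.mk_mul, QuotientGroup.eq]
    have h2 := hc u hu
    have h3 := hW h2
    have e : u⁻¹ * (c * u * c⁻¹) = c⁻¹ * (u⁻¹ * (c * u * c⁻¹)) * c := by
      rw [Subgroup.mem_center_iff.1 h3 c⁻¹, inv_mul_cancel_right]
    have e2 : (u * c)⁻¹ * (c * u) = c⁻¹ * (u⁻¹ * (c * u * c⁻¹)) * c := by group
    rw [e2, ← e]
    exact h2

variable {G : Type u} [Group G] [Finite G]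

/-- The system of a quotient by a central subgroup of a group with constrained system is constrained. -/
theorem constrained_quotient_central (S : Sylow p G) (hF : (groupFusionSystem (S : Subgroup G)).IsConstrained p)
    (Z : Subgroup G) [Z.Normal] (hZ : Z ≤ Subgroup.center G) :
    (groupFusionSystem ((S : Subgroup G).map (QuotientGroup.mk' Z))).IsConstrained p := by
  set F := groupFusionSystem (S : Subgroup G) with hFdef
  obtain ⟨hFs, Q₀, hQ₀n, hQ₀c⟩ := hF
  obtain ⟨M, _, ι, hM⟩ := exists_model S.2 hFs ⟨hQ₀n, hQ₀c⟩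
  haveI := hM.1
  set U := preim ι (Cfsg.pCore p M) with hUdef
  have hU : CentricNormal F U := model_centricNormal hM
  set π := QuotientGroup.mk' Z
  have hsat : (groupFusionSystem ((S : Subgroup G).map π)).IsSaturated p := by
    rw [← S.coe_mapSurjective (QuotientGroup.mk'_surjective Z)]
    exact groupFusionSystem_saturated _
  refine ⟨hsat, U.map π, ?_, Subgroup.map_mono hU.le, ?_⟩
  · refine ⟨Subgroup.map_mono hU.le, fun P' φ' hφ' => ?_⟩
    obtain ⟨hP', hφS, γ, hγ⟩ := hφ'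
    set P := P'.comap π ⊓ (S : Subgroup G)
    obtain ⟨g, hg, hgS⟩ := exists_lift_conj S Z (P := P) inf_le_right γ fun x hx => by
      have h1 := hφS ⟨π x, hx.1⟩
      rw [hγ] at h1
      exact h1
    obtain ⟨ψ, hψ, hψe, hψU⟩ := hU.normal.2 P (conjHom P g)
      ⟨inf_le_right, fun x => hgS x x.2, g, fun _ => rfl⟩
    obtain ⟨hPU, hψS, g', hg'⟩ := hψ
    have hle : P' ⊔ U.map π ≤ (P ⊔ U).map π := by
      rw [Subgroup.map_sup]
      refine sup_le_sup_right (fun x hx => ?_) _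
      obtain ⟨s, hs, rfl⟩ := hP' hx
      exact ⟨s, ⟨hx, hs⟩, rfl⟩
    refine ⟨conjHom _ (π g'), ⟨sup_le hP' (Subgroup.map_mono hU.le), ?_, π g', fun _ => rfl⟩, fun x => ?_, ?_⟩
    · rintro ⟨y, hy⟩
      obtain ⟨s, hs, rfl⟩ := hle hy
      refine ⟨ψ ⟨s, hs⟩, hψS _, ?_⟩
      show _ = π g' * π s * (π g')⁻¹
      rw [hg', map_mul, map_mul, map_inv]
    · obtain ⟨s, hs, hse⟩ := hP' x.2
      have hsP : s ∈ P := ⟨show π s ∈ P' from hse ▸ x.2, hs⟩
      show π g' * (x : G ⧸ Z) * (π g')⁻¹ = φ' x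
      rw [hγ, ← hse, ← hg, ← map_inv, ← map_mul, ← map_mul]
      have h2 := hψe ⟨s, hsP⟩
      rw [hg'] at h2
      exact (congrArg π h2).trans (by simp [conjHom, π])
    · ext y
      constructor
      · rintro ⟨⟨w, hw⟩, ⟨u, hu, hue⟩, rfl⟩
        refine ⟨ψ ⟨u, Subgroup.mem_sup_right hu⟩, hψU.le ⟨_, hu, rfl⟩, ?_⟩
        show _ = π g' * w * (π g')⁻¹
        rw [hg', show w = π u from hue.symm, map_mul, map_mul, map_inv]
      · rintro ⟨u, hu, rfl⟩
        obtain ⟨⟨w, hw⟩, hwU, rfl⟩ := hψU.ge hu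
        refine ⟨⟨π w, Subgroup.mem_sup_right ⟨w, hwU, rfl⟩⟩, ⟨w, hwU, rfl⟩, ?_⟩
        show π g' * π w * (π g')⁻¹ = _
        rw [hg', map_mul, map_mul, map_inv]
  · -- centric
    rintro R ⟨φ', ⟨-, hφS, γ, hγ⟩, rfl⟩
    have hrange : φ'.range ≤ U.map π := by
      obtain ⟨g, hg, hgS⟩ := exists_lift_conj S Z (P := U) hU.le γ fun x hx => by
        have h1 := hφS ⟨π x, x, hx, rfl⟩
        rw [hγ] at h1
        exact h1
      rintro _ ⟨⟨_, u, hu, rfl⟩, rfl⟩
      refine ⟨g * u * g⁻¹, ?_, ?_⟩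
      · exact stronglyClosed_apply_mem (isNormal_stronglyClosed hU.normal)
          (show conjHom U g ∈ F.Hom U from ⟨hU.le, fun x => hgS x x.2, g, fun _ => rfl⟩) ⟨u, hu⟩ hu
      · rw [hγ, ← hg]; simp [π]
    have heq : φ'.range = U.map π := by
      refine Subgroup.eq_of_le_of_card_ge hrange (le_of_eq ?_)
      refine Nat.card_congr (MonoidHom.ofInjective ?_).toEquiv
      intro a b hab
      rw [hγ, hγ] at hab
      exact Subtype.ext (mul_left_cancel (mul_right_cancel hab))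
    rw [heq]
    rintro y ⟨⟨s, hs, rfl⟩, hsc⟩
    refine ⟨s, ?_, rfl⟩
    -- the image of `S ∩ Z` is central in the model
    set W := (Z.comap (S : Subgroup G).subtype).map ι
    have hWU : W ≤ Cfsg.pCore p M := by
      rintro _ ⟨z, hz, rfl⟩
      refine hM.2.2.2 (Subgroup.mem_centralizer_iff.2 fun k hk => ?_)
      obtain ⟨t, rfl⟩ := model_pCore_le hM hk
      rw [← map_mul, ← map_mul]
      exact congrArg ι (Subtype.ext (Subgroup.mem_center_iff.1 (hZ hz) t))
    have hWc : W ≤ Subgroup.center M := by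
      rintro _ ⟨z, hz, rfl⟩
      refine Subgroup.mem_center_iff.2 fun g => ?_
      have hmem : ∀ x : U, g * ι ⟨x, hU.le x.2⟩ * g⁻¹ ∈ ι.range := fun x =>
        model_pCore_le hM ((Cfsg.Agent.FiniteGroup.pCore_normal (G := M) p).conj_mem _ (mem_preim.1 x.2) g)
      set e := MonoidHom.ofInjective hM.2.1.1
      let φ : U →* G := (S : Subgroup G).subtype.comp (e.symm.toMonoidHom.comp
        ((((MulAut.conj g).toMonoidHom.comp ι).comp (Subgroup.inclusion hU.le)).codRestrict ι.range hmem))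
      have hφ : ∀ x, ι ⟨φ x, SetLike.coe_mem _⟩ = g * ι ⟨x, hU.le x.2⟩ * g⁻¹ := fun x =>
        congrArg Subtype.val (e.apply_symm_apply ⟨_, hmem x⟩)
      obtain ⟨-, -, g₀, hg₀⟩ := (hM.2.1.2 U hU.le φ fun x => SetLike.coe_mem _).2 ⟨g, hφ⟩
      have hzU : (z : G) ∈ U := mem_preim.2 (hWU ⟨z, hz, rfl⟩)
      have h1 := hφ ⟨z, hzU⟩
      have h2 : φ ⟨z, hzU⟩ = z := by
        rw [hg₀]
        show g₀ * (z : G) * g₀⁻¹ = z
        rw [show g₀ * (z : G) = z * g₀ from Subgroup.mem_center_iff.1 (hZ hz) g₀, mul_inv_cancel_right]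
      rw [show (⟨φ ⟨z, hzU⟩, SetLike.coe_mem _⟩ : (S : Subgroup G)) = z from Subtype.ext h2] at h1
      exact mul_inv_eq_iff_eq_mul.1 h1.symm
    obtain ⟨C, hCU, hC⟩ := stabilizer_le_pCore hM.2.2.2 hWU hWc
    refine (mem_preim (x := ⟨s, hs⟩)).2 (hCU (hC _ fun u hu => ?_))
    obtain ⟨t, rfl⟩ := model_pCore_le hM hu
    refine ⟨t⁻¹ * (⟨s, hs⟩ * t * ⟨s, hs⟩⁻¹), ?_, by simp⟩
    have h2 : π t * π s = π s * π t := Subgroup.mem_centralizer_iff.1 hsc _ ⟨t, mem_preim.2 hu, rfl⟩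
    show (t : G)⁻¹ * (s * t * s⁻¹) ∈ Z
    rw [← QuotientGroup.eq]
    show π t = π (s * t * s⁻¹)
    rw [map_mul, map_mul, map_inv, ← h2, mul_inv_cancel_right]

end Cfsg.Agent.FusionSys
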