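/-
Coordinates on a `p`-subgroup `P` of order `p ^ 3` and exponent `p` with centre `⟨⁅a, b⁆⟩`, and the
matrix representation of its normalizer on `P/Z(P)`.
-/
import Mathlib

set_option autoImplicit false

namespace Cfsg.Agent.CubePlane

open Matrix
open scoped commutatorElement

variable {G : Type*} [Group G] {p : ℕ} [hp : Fact p.Prime]

/-- `z` to the power of a residue. -/
def zp (z : G) (k : ZMod p) : G := z ^ k.val

variable {z : G}

theorem zp_add (hz : z ^ p = 1) (j k : ZMod p) : zp z (j + k) = zp z j * zp z k := by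
  rw [zp, zp, zp, ← pow_add, ZMod.val_add, ← pow_eq_pow_mod _ hz]

theorem zp_zero : zp z (0 : ZMod p) = 1 := by rw [zp, ZMod.val_zero, pow_zero]

theorem zp_one : zp z (1 : ZMod p) = z := by rw [zp, ZMod.val_one, pow_one]

theorem zp_natCast (hz : z ^ p = 1) (n : ℕ) : zp z (n : ZMod p) = z ^ n := by
  rw [zp, ZMod.val_natCast, ← pow_eq_pow_mod _ hz]

theorem zp_neg (hz : z ^ p = 1) (k : ZMod p) : zp z (-k) = (zp z k)⁻¹ := by
  rw [eq_inv_iff_mul_eq_one, ← zp_add hz, neg_add_cancel, zp_zero]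

theorem zp_zp (hz : z ^ p = 1) (d k : ZMod p) : zp (zp z d) k = zp z (d * k) := by
  show (z ^ d.val) ^ k.val = _
  rw [← pow_mul, ← zp_natCast hz, Nat.cast_mul, ZMod.natCast_zmod_val, ZMod.natCast_zmod_val]

theorem zp_pow (hz : z ^ p = 1) (k : ZMod p) : zp z k ^ p = 1 := by
  rw [zp, ← pow_mul, mul_comm, pow_mul, hz, one_pow]

theorem zp_mem (k : ZMod p) : zp z k ∈ Subgroup.zpowers z := pow_mem (Subgroup.mem_zpowers z) _

theorem exists_zp (hz : z ^ p = 1) {w : G} (hw : w ∈ Subgroup.zpowers z) : ∃ k : ZMod p, zp z k = w := by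
  obtain ⟨i, rfl⟩ := Subgroup.mem_zpowers_iff.1 hw
  refine ⟨(i : ZMod p), ?_⟩
  rw [zp, ← zpow_natCast, ZMod.val_intCast, ← zpow_eq_zpow_emod' i hz]

theorem zp_inj (hz : z ^ p = 1) (hz1 : z ≠ 1) {j k : ZMod p} (h : zp z j = zp z k) : j = k := by
  have ho : orderOf z = p := orderOf_eq_prime hz hz1
  exact ZMod.val_injective p (pow_injOn_Iio_orderOf (by simp [ho, ZMod.val_lt])
    (by simp [ho, ZMod.val_lt]) h)

theorem conj_zp (n : G) (k : ZMod p) : n * zp z k * n⁻¹ = zp (n * z * n⁻¹) k := by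
  rw [zp, zp, conj_pow]

/-- A frame: generators `a`, `b` of `P` modulo the centre `⟨z⟩`, `z = ⁅a, b⁆`. -/
structure Frame (P : Subgroup G) (p : ℕ) (a b z : G) : Prop where
  ha : a ∈ P
  hb : b ∈ P
  hz : ⁅a, b⁆ = z
  hz1 : z ≠ 1
  cent : ∀ x ∈ P, x * z = z * x
  comm : ∀ x ∈ P, ∀ y ∈ P, ⁅x, y⁆ ∈ Subgroup.zpowers z
  hexp : ∀ x ∈ P, x ^ p = 1
  ker : ∀ x ∈ P, x * a = a * x → x * b = b * x → x ∈ Subgroup.zpowers z

section

open Classical in
/-- The commutator form. -/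
noncomputable def lg (p : ℕ) (z x y : G) : ZMod p :=
  if h : ∃ k : ZMod p, zp z k = ⁅x, y⁆ then h.choose else 0

variable {P : Subgroup G} {a b : G} (F : Frame P p a b z)
include F

theorem Frame.zmem : z ∈ P := by
  rw [← F.hz, commutatorElement_def]
  exact mul_mem (mul_mem (mul_mem F.ha F.hb) (inv_mem F.ha)) (inv_mem F.hb)

theorem Frame.zle : Subgroup.zpowers z ≤ P := Subgroup.zpowers_le.2 F.zmem

theorem Frame.zpp : z ^ p = 1 := F.hexp z F.zmem

theorem Frame.cent' {x w : G} (hx : x ∈ P) (hw : w ∈ Subgroup.zpowers z) : x * w = w * x := by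
  obtain ⟨i, rfl⟩ := Subgroup.mem_zpowers_iff.1 hw
  exact Commute.zpow_right (F.cent x hx) i

theorem Frame.lg_spec {x y : G} (hx : x ∈ P) (hy : y ∈ P) : zp z (lg p z x y) = ⁅x, y⁆ := by
  have h := exists_zp (p := p) F.zpp (F.comm x hx y hy)
  rw [lg, dif_pos h]
  exact h.choose_spec

theorem Frame.lg_eq {x y : G} (hx : x ∈ P) (hy : y ∈ P) {k : ZMod p} (h : zp z k = ⁅x, y⁆) :
    lg p z x y = k :=
  zp_inj F.zpp F.hz1 ((F.lg_spec hx hy).trans h.symm)

theorem Frame.lg_eq_zero_iff {x y : G} (hx : x ∈ P) (hy : y ∈ P) :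
    lg p z x y = 0 ↔ x * y = y * x := by
  rw [← commutatorElement_eq_one_iff_mul_comm, ← F.lg_spec hx hy]
  exact ⟨fun h => by rw [h, zp_zero], fun h => zp_inj F.zpp F.hz1 (h.trans zp_zero.symm)⟩

theorem Frame.lg_antisymm {x y : G} (hx : x ∈ P) (hy : y ∈ P) : lg p z y x = -lg p z x y :=
  F.lg_eq hy hx (by rw [zp_neg F.zpp, F.lg_spec hx hy, commutatorElement_inv])

theorem Frame.lg_mul {x x' y : G} (hx : x ∈ P) (hx' : x' ∈ P) (hy : y ∈ P) :
    lg p z (x * x') y = lg p z x y + lg p z x' y := by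
  refine F.lg_eq (mul_mem hx hx') hy ?_
  rw [zp_add F.zpp, F.lg_spec hx hy, F.lg_spec hx' hy, ← F.cent' (P := P)
    (w := ⁅x', y⁆) (x := ⁅x, y⁆) (F.zle (F.comm x hx y hy)) (F.comm x' hx' y hy) |>.symm]
  have h1 : x * ⁅x', y⁆ * x⁻¹ = ⁅x', y⁆ := by
    rw [F.cent' hx (F.comm x' hx' y hy), mul_inv_cancel_right]
  nth_rewrite 1 [← h1]
  simp only [commutatorElement_def]
  group

theorem Frame.lg_z {w y : G} (hw : w ∈ Subgroup.zpowers z) (hy : y ∈ P) : lg p z w y = 0 :=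
  (F.lg_eq_zero_iff (F.zle hw) hy).2 (F.cent' hy hw).symm

theorem Frame.lg_z' {w y : G} (hw : w ∈ Subgroup.zpowers z) (hy : y ∈ P) : lg p z y w = 0 :=
  (F.lg_eq_zero_iff hy (F.zle hw)).2 (F.cent' hy hw)

theorem Frame.lg_pow {x y : G} (hx : x ∈ P) (hy : y ∈ P) (n : ℕ) :
    lg p z (x ^ n) y = n * lg p z x y := by
  induction n with
  | zero => rw [pow_zero, F.lg_z (one_mem _) hy, Nat.cast_zero, zero_mul]
  | succ n ih => rw [pow_succ, F.lg_mul (pow_mem hx n) hx hy, ih, Nat.cast_succ, add_one_mul]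

theorem Frame.lg_zp {x y : G} (hx : x ∈ P) (hy : y ∈ P) (k : ZMod p) :
    lg p z (zp x k) y = k * lg p z x y := by
  rw [zp, F.lg_pow hx hy, ZMod.natCast_zmod_val]

omit F in
theorem zp_memP {x : G} (hx : x ∈ P) (k : ZMod p) : zp x k ∈ P := pow_mem hx _

theorem Frame.lg_self {x : G} (hx : x ∈ P) : lg p z x x = 0 := (F.lg_eq_zero_iff hx hx).2 rfl

theorem Frame.lg_ab : lg p z a b = 1 := F.lg_eq F.ha F.hb (by rw [zp_one, F.hz])

theorem Frame.lg_ba : lg p z b a = -1 := by rw [F.lg_antisymm F.ha F.hb, F.lg_ab]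

theorem Frame.decomp {x : G} (hx : x ∈ P) :
    ∃ w ∈ Subgroup.zpowers z, x = w * (zp a (lg p z x b) * zp b (lg p z a x)) := by
  set u := zp a (lg p z x b) * zp b (lg p z a x) with hu
  have hua : zp a (lg p z x b) ∈ P := zp_memP F.ha _
  have hub : zp b (lg p z a x) ∈ P := zp_memP F.hb _
  have hu' : u ∈ P := mul_mem hua hub
  have hy : x * u⁻¹ ∈ P := mul_mem hx (inv_mem hu')
  have key : ∀ y ∈ P, lg p z (x * u⁻¹) y = lg p z x y - lg p z u y := fun y hy' => by
    have := F.lg_mul hy hu' hy'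
    rw [inv_mul_cancel_right] at this
    linear_combination -this
  refine ⟨x * u⁻¹, F.ker _ hy ((F.lg_eq_zero_iff hy F.ha).1 ?_) ((F.lg_eq_zero_iff hy F.hb).1 ?_),
    by rw [inv_mul_cancel_right]⟩
  · rw [key a F.ha, hu, F.lg_mul hua hub F.ha, F.lg_zp F.ha F.ha, F.lg_zp F.hb F.ha, F.lg_self F.ha,
      F.lg_ba, F.lg_antisymm F.ha hx]
    ring
  · rw [key b F.hb, hu, F.lg_mul hua hub F.hb, F.lg_zp F.ha F.hb, F.lg_zp F.hb F.hb, F.lg_self F.hb,
      F.lg_ab]
    ring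

/-- The commutator form in coordinates. -/
theorem Frame.lg_formula {x y : G} (hx : x ∈ P) (hy : y ∈ P) :
    lg p z x y = lg p z x b * lg p z a y - lg p z a x * lg p z y b := by
  obtain ⟨w, hw, he⟩ := F.decomp hx
  conv_lhs => rw [he]
  rw [F.lg_mul (F.zle hw) (mul_mem (zp_memP F.ha _) (zp_memP F.hb _)) hy,
    F.lg_mul (x := zp a _) (zp_memP F.ha _) (zp_memP F.hb _) hy, F.lg_z hw hy, F.lg_zp F.ha hy,
    F.lg_zp F.hb hy, F.lg_antisymm hy F.hb]
  ring

/-- Coordinates modulo the centre. -/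
theorem Frame.mem_z {x : G} (hx : x ∈ P) (h₁ : lg p z x b = 0) (h₂ : lg p z a x = 0) :
    x ∈ Subgroup.zpowers z := by
  obtain ⟨w, hw, he⟩ := F.decomp hx
  rw [h₁, h₂, zp_zero, zp_zero, mul_one, mul_one] at he
  exact he ▸ hw

/-- Elements commuting with a noncentral element. -/
theorem Frame.of_comm {x u : G} (hx : x ∈ P) (hu : u ∈ P) (hu' : u ∉ Subgroup.zpowers z)
    (h : x * u = u * x) : ∃ k : ZMod p, ∃ w ∈ Subgroup.zpowers z, x = w * zp u k := by
  have h0 := (F.lg_eq_zero_iff hx hu).2 h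
  rw [F.lg_formula hx hu] at h0
  suffices ∃ k : ZMod p, lg p z x b = k * lg p z u b ∧ lg p z a x = k * lg p z a u by
    obtain ⟨k, h₁, h₂⟩ := this
    have hk : zp u k ∈ P := zp_memP hu _
    have hy : x * (zp u k)⁻¹ ∈ P := mul_mem hx (inv_mem hk)
    refine ⟨k, x * (zp u k)⁻¹, F.mem_z hy ?_ ?_, by rw [inv_mul_cancel_right]⟩
    · have := F.lg_mul hy hk F.hb
      rw [inv_mul_cancel_right, h₁, F.lg_zp hu F.hb] at this
      linear_combination -this
    · rw [F.lg_antisymm hy F.ha, neg_eq_zero]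
      have := F.lg_mul hy hk F.ha
      rw [inv_mul_cancel_right, F.lg_antisymm F.ha hx, h₂, F.lg_zp hu F.ha, F.lg_antisymm F.ha hu] at this
      linear_combination -this
  by_cases hub : lg p z u b = 0
  · have hau : lg p z a u ≠ 0 := fun h' => hu' (F.mem_z hu hub h')
    refine ⟨lg p z a x / lg p z a u, ?_, by field_simp⟩
    rw [hub, mul_zero, sub_zero] at h0
    rw [hub, mul_zero]
    exact (mul_eq_zero.1 h0).resolve_right hau
  · refine ⟨lg p z x b / lg p z u b, by field_simp, ?_⟩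
    field_simp
    linear_combination -h0

variable {n : G} (hn : n ∈ Subgroup.normalizer (P : Set G))
include hn

theorem Frame.conj_mem {x : G} (hx : x ∈ P) : n * x * n⁻¹ ∈ P :=
  (Subgroup.mem_normalizer_iff.1 hn x).1 hx

theorem Frame.conj_z : n * z * n⁻¹ = zp z (lg p z (n * a * n⁻¹) (n * b * n⁻¹)) := by
  rw [F.lg_spec (F.conj_mem hn F.ha) (F.conj_mem hn F.hb), ← F.hz]
  simp only [commutatorElement_def]
  group

theorem Frame.conj_zmem {w : G} (hw : w ∈ Subgroup.zpowers z) : n * w * n⁻¹ ∈ Subgroup.zpowers z := by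
  obtain ⟨k, rfl⟩ := exists_zp (p := p) F.zpp hw
  rw [conj_zp, F.conj_z hn, zp_zp F.zpp]
  exact zp_mem _

/-- Linearity of conjugation. -/
theorem Frame.conj_lg {x y : G} (hx : x ∈ P) (hy : y ∈ P) :
    lg p z (n * x * n⁻¹) y =
      lg p z x b * lg p z (n * a * n⁻¹) y + lg p z a x * lg p z (n * b * n⁻¹) y := by
  obtain ⟨w, hw, he⟩ := F.decomp hx
  have hna := F.conj_mem hn F.ha
  have hnb := F.conj_mem hn F.hb
  have e : n * x * n⁻¹ = (n * w * n⁻¹) *
      (zp (n * a * n⁻¹) (lg p z x b) * zp (n * b * n⁻¹) (lg p z a x)) := by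
    rw [← conj_zp, ← conj_zp]
    conv_lhs => rw [he]
    group
  rw [e, F.lg_mul (F.zle (F.conj_zmem hn hw)) (mul_mem (zp_memP hna _) (zp_memP hnb _)) hy,
    F.lg_mul (x := zp (n * a * n⁻¹) _) (zp_memP hna _) (zp_memP hnb _) hy, F.lg_z (F.conj_zmem hn hw) hy,
    F.lg_zp hna hy, F.lg_zp hnb hy, zero_add]

end

/-- The matrix of conjugation by `n` on `P/Z`. -/
noncomputable def mat (p : ℕ) (a b z n : G) : Matrix (Fin 2) (Fin 2) (ZMod p) :=
  !![lg p z (n * a * n⁻¹) b, lg p z (n * b * n⁻¹) b; lg p z a (n * a * n⁻¹), lg p z a (n * b * n⁻¹)]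

/-- The coordinate vector. -/
noncomputable def co (p : ℕ) (a b z x : G) : Fin 2 → ZMod p := ![lg p z x b, lg p z a x]

variable {P : Subgroup G} {a b : G} (F : Frame P p a b z)
include F

theorem Frame.mat_mulVec {n x : G} (hn : n ∈ Subgroup.normalizer (P : Set G)) (hx : x ∈ P) :
    mat p a b z n *ᵥ co p a b z x = co p a b z (n * x * n⁻¹) := by
  have e1 := F.conj_lg hn hx F.hb
  have e2 := F.conj_lg hn hx F.ha
  rw [F.lg_antisymm F.ha (F.conj_mem hn hx), F.lg_antisymm F.ha (F.conj_mem hn F.ha),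
    F.lg_antisymm F.ha (F.conj_mem hn F.hb)] at e2
  ext i
  fin_cases i <;> simp [mat, co, vecHead, vecTail]
  · linear_combination -e1
  · linear_combination e2

theorem Frame.co_a : co p a b z a = ![1, 0] := by rw [co, F.lg_ab, F.lg_self F.ha]

theorem Frame.co_b : co p a b z b = ![0, 1] := by rw [co, F.lg_ab, F.lg_self F.hb]

theorem Frame.mat_mul {n m : G} (hn : n ∈ Subgroup.normalizer (P : Set G))
    (hm : m ∈ Subgroup.normalizer (P : Set G)) :
    mat p a b z (n * m) = mat p a b z n * mat p a b z m := by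
  have key : ∀ x ∈ P, mat p a b z (n * m) *ᵥ co p a b z x = (mat p a b z n * mat p a b z m) *ᵥ co p a b z x :=
    fun x hx => by
      rw [← mulVec_mulVec, F.mat_mulVec hm hx, F.mat_mulVec hn (F.conj_mem hm hx),
        F.mat_mulVec (mul_mem hn hm) hx]
      congr 1
      group
  have ka := key a F.ha
  have kb := key b F.hb
  rw [F.co_a] at ka
  rw [F.co_b] at kb
  generalize mat p a b z (n * m) = A, mat p a b z n * mat p a b z m = B at ka kb
  ext i j
  fin_cases j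
  · simpa [mulVec, dotProduct, Fin.sum_univ_two] using congrFun ka i
  · simpa [mulVec, dotProduct, Fin.sum_univ_two] using congrFun kb i

theorem Frame.mat_of_mem {g : G} (hg : g ∈ P) : mat p a b z g = 1 := by
  have hc : ∀ x ∈ P, ∀ y ∈ P, lg p z (g * x * g⁻¹) y = lg p z x y := fun x hx y hy => by
    have e : g * x * g⁻¹ = ⁅g, x⁆ * x := by rw [commutatorElement_def]; group
    rw [e, F.lg_mul (F.zle (F.comm g hg x hx)) hx hy, F.lg_z (F.comm g hg x hx) hy, zero_add]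
  have ha' : g * a * g⁻¹ ∈ P := mul_mem (mul_mem hg F.ha) (inv_mem hg)
  have hb' : g * b * g⁻¹ ∈ P := mul_mem (mul_mem hg F.hb) (inv_mem hg)
  have e1 := hc a F.ha a F.ha
  have e2 := hc b F.hb a F.ha
  rw [F.lg_antisymm F.ha ha', F.lg_self F.ha, neg_eq_zero] at e1
  rw [F.lg_antisymm F.ha hb', F.lg_ba, neg_inj] at e2
  ext i j
  fin_cases i <;> fin_cases j <;>
    simp [mat, hc a F.ha b F.hb, hc b F.hb b F.hb, F.lg_ab, F.lg_self F.hb, e1, e2]

theorem Frame.det_mat {n : G} (hn : n ∈ Subgroup.normalizer (P : Set G)) :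
    zp z (mat p a b z n).det = n * z * n⁻¹ := by
  rw [F.conj_z hn, F.lg_formula (F.conj_mem hn F.ha) (F.conj_mem hn F.hb), det_fin_two]
  simp [mat]
  ring_nf

theorem Frame.mat_pow {n : G} (hn : n ∈ Subgroup.normalizer (P : Set G)) (k : ℕ) :
    mat p a b z (n ^ k) = mat p a b z n ^ k := by
  induction k with
  | zero => rw [pow_zero, pow_zero, F.mat_of_mem (one_mem _)]
  | succ k ih => rw [pow_succ, pow_succ, F.mat_mul (pow_mem hn k) hn, ih]

end Cfsg.Agent.CubePlane
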