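/-
Finite permutation groups in which every nontrivial element fixes exactly two points: at most two
points have stabilizer of order at least `6`, and at most six have stabilizer of order divisible by
`4`.  Matrices of order prime to the characteristic fix exactly two points of the projective line.
-/
import Mathlib
import Cfsg.Agent.Lib.OddOrder.GL2Odd

set_option autoImplicit false

namespace Cfsg.Agent.TwoFixed

open MulAction

/-- The arithmetic of the three nonfree orbits. -/
theorem arith_three {N m₁ m₂ m₃ n₁ n₂ n₃ : ℕ} (h₁ : n₁ * m₁ = N) (h₂ : n₂ * m₂ = N) (h₃ : n₃ * m₃ = N)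
    (hn₁ : 4 ≤ n₁) (hn₂ : 2 ≤ n₂) (hn₃ : 2 ≤ n₃) (hm₁ : 1 ≤ m₁) (hsum : m₁ + m₂ + m₃ = N + 2) :
    n₂ < 4 ∧ n₃ < 4 ∧ (6 ≤ n₁ → m₁ ≤ 2) ∧ (4 ∣ n₁ → m₁ ≤ 6) := by
  have q₁ : 4 * m₁ ≤ N := h₁ ▸ Nat.mul_le_mul_right m₁ hn₁
  have q₂ : 2 * m₂ ≤ N := h₂ ▸ Nat.mul_le_mul_right m₂ hn₂
  have q₃ : 2 * m₃ ≤ N := h₃ ▸ Nat.mul_le_mul_right m₃ hn₃
  have b₂ : n₂ < 4 := by
    by_contra h
    have : 4 * m₂ ≤ N := h₂ ▸ Nat.mul_le_mul_right m₂ (not_lt.1 h)
    omega
  have b₃ : n₃ < 4 := by
    by_contra h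
    have : 4 * m₃ ≤ N := h₃ ▸ Nat.mul_le_mul_right m₃ (not_lt.1 h)
    omega
  have b4 : n₁ = 4 → 4 * m₁ = N := fun h => h ▸ h₁
  have b6 : 6 ≤ n₁ → 6 * m₁ ≤ N := fun h => h₁ ▸ Nat.mul_le_mul_right m₁ h
  refine ⟨b₂, b₃, fun h => ?_, fun h => ?_⟩
  · have := b6 h
    interval_cases n₂ <;> interval_cases n₃ <;> omega
  · interval_cases n₂ <;> interval_cases n₃ <;>
      rcases (show n₁ = 4 ∨ 6 ≤ n₁ by omega) with e | e <;>
      first
        | (have := b4 e; omega)
        | (have := b6 e; omega)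

/-- Weighted count of the nonfree orbits. -/
theorem arith_sum {ι : Type*} [DecidableEq ι] (s : Finset ι) (m n : ι → ℕ) {N : ℕ}
    (P : ℕ → Prop) [DecidablePred P] (B : ℕ) (hB : 2 ≤ B) (hP4 : ∀ k, 2 ≤ k → P k → 4 ≤ k)
    (hP : ∀ k l, 4 ≤ k → P k → (6 ≤ k → l ≤ 2) → (4 ∣ k → l ≤ 6) → l ≤ B)
    (hN : 2 ≤ N) (hmn : ∀ i ∈ s, n i * m i = N) (hn : ∀ i ∈ s, 2 ≤ n i)
    (hsum : (∑ i ∈ s, m i) + 2 * N = N * s.card + 2) :
    ∑ i ∈ s.filter (fun i => P (n i)), m i ≤ B := by
  have hm : ∀ i ∈ s, 1 ≤ m i ∧ 2 * m i ≤ N := fun i hi => by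
    refine ⟨Nat.pos_of_ne_zero fun h => ?_, hmn i hi ▸ Nat.mul_le_mul_right _ (hn i hi)⟩
    have := hmn i hi
    rw [h, mul_zero] at this
    omega
  have hb : 2 * (∑ i ∈ s, m i) ≤ N * s.card := by
    rw [Finset.mul_sum, mul_comm N]
    exact (Finset.sum_le_card_nsmul s _ N fun i hi => (hm i hi).2)
  have hb' : s.card ≤ ∑ i ∈ s, m i := by
    simpa using Finset.card_nsmul_le_sum s m 1 fun i hi => (hm i hi).1
  have hc3 : s.card ≤ 3 := by nlinarith
  obtain hc | hc | hc | hc : s.card = 0 ∨ s.card = 1 ∨ s.card = 2 ∨ s.card = 3 := by omega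
  · rw [Finset.card_eq_zero.1 hc]; simp
  · rw [hc] at hsum hb'; omega
  · refine (Finset.sum_le_sum_of_subset (Finset.filter_subset _ s)).trans ?_
    rw [hc, mul_comm] at hsum
    omega
  · obtain ⟨a, b, c, hab, hac, hbc, rfl⟩ := Finset.card_eq_three.1 hc
    simp only [Finset.sum_insert, Finset.mem_insert, Finset.mem_singleton, hab, hac, hbc, or_self,
      not_false_eq_true, Finset.sum_singleton, hc] at hsum
    simp only [Finset.mem_insert, Finset.mem_singleton, forall_eq_or_imp, forall_eq] at hmn hn hm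
    obtain ⟨ea, eb, ec⟩ := hmn
    obtain ⟨na, nb, nc⟩ := hn
    obtain ⟨⟨ma, -⟩, ⟨mb, -⟩, ⟨mc, -⟩⟩ := hm
    have h0 : ∀ k, 2 ≤ k → k < 4 → ¬ P k := fun k hk hk' h => absurd (hP4 k hk h) (not_le.2 hk')
    by_cases pa : P (n a)
    · obtain ⟨b2, b3, r6, r4⟩ := arith_three ea eb ec (hP4 _ na pa) nb nc ma (by omega)
      rw [Finset.filter_insert, if_pos pa, Finset.filter_insert, if_neg (h0 _ nb b2),
        Finset.filter_singleton, if_neg (h0 _ nc b3)]
      simpa using hP _ _ (hP4 _ na pa) pa r6 r4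
    by_cases pb : P (n b)
    · obtain ⟨b2, b3, r6, r4⟩ := arith_three eb ea ec (hP4 _ nb pb) na nc mb (by omega)
      rw [Finset.filter_insert, if_neg pa, Finset.filter_insert, if_pos pb,
        Finset.filter_singleton, if_neg (h0 _ nc b3)]
      simpa using hP _ _ (hP4 _ nb pb) pb r6 r4
    by_cases pc : P (n c)
    · rw [Finset.filter_insert, if_neg pa, Finset.filter_insert, if_neg pb,
        Finset.filter_singleton, if_pos pc]
      obtain ⟨-, -, r6, r4⟩ := arith_three ec ea eb (hP4 _ nc pc) na nb mc (by omega)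
      simpa using hP _ _ (hP4 _ nc pc) pc r6 r4
    · rw [Finset.filter_insert, if_neg pa, Finset.filter_insert, if_neg pb,
        Finset.filter_singleton, if_neg pc]
      simp

variable {L X : Type*} [Group L] [Finite L] [MulAction L X] [Finite X]

/-- If every nontrivial element fixes exactly two points, the points whose stabilizer order satisfies
`P` (which forces order `≥ 6`, or divisibility by `4`) are few. -/
theorem card_le (h : ∀ g : L, g ≠ 1 → Nat.card (fixedBy X g) = 2)
    (P : ℕ → Prop) (B : ℕ) (hB : 2 ≤ B) (hP4 : ∀ k, 1 ≤ k → P k → 4 ≤ k)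
    (hP : ∀ k l, 4 ≤ k → P k → (6 ≤ k → l ≤ 2) → (4 ∣ k → l ≤ 6) → l ≤ B)
    (T : Finset X) (hT : ∀ x ∈ T, P (Nat.card (stabilizer L x))) : T.card ≤ B := by
  classical
  haveI := Fintype.ofFinite L
  haveI := Fintype.ofFinite X
  rcases T.eq_empty_or_nonempty with rfl | ⟨x₀, hx₀⟩
  · simp
  set N := Nat.card L with hN
  let Ω := MulAction.orbitRel.Quotient L X
  haveI : Fintype Ω := Fintype.ofFinite Ω
  let π : X → Ω := Quotient.mk''
  let m : Ω → ℕ := fun ω => (Finset.univ.filter fun x => π x = ω).card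
  have hm : ∀ x : X, m (π x) = Nat.card (orbit L x) := fun x => by
    refine (Nat.subtype_card _ fun y => ?_).symm
    simp only [Finset.mem_filter, Finset.mem_univ, true_and]
    exact Quotient.eq''.trans MulAction.orbitRel_apply
  have hmn : ∀ x : X, Nat.card (stabilizer L x) * m (π x) = N := fun x => by
    rw [hm, mul_comm, hN, Nat.card_eq_fintype_card, Nat.card_eq_fintype_card, Nat.card_eq_fintype_card]
    exact MulAction.card_orbit_mul_card_stabilizer_eq_card_group L x
  have hNpos : 0 < N := Nat.card_pos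
  have hmpos : ∀ ω, 0 < m ω := fun ω => by
    obtain ⟨x, rfl⟩ : ∃ x, π x = ω := Quotient.exists_rep ω
    exact Finset.card_pos.2 ⟨x, by simp⟩
  have hstab : ∀ x : X, N / m (π x) = Nat.card (stabilizer L x) := fun x => by
    rw [← hmn x, Nat.mul_div_cancel _ (hmpos _)]
  let s : Finset Ω := Finset.univ.filter fun ω => m ω ≠ N
  have hN2 : 2 ≤ N := by
    by_contra hlt
    have h4 := hP4 _ Nat.card_pos (hT x₀ hx₀)
    have := Subgroup.card_le_card_group (stabilizer L x₀)
    rw [← hN] at this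
    omega
  have hbig : ∀ ω ∈ s, 2 ≤ N / m ω := fun ω hω => by
    obtain ⟨x, rfl⟩ : ∃ x, π x = ω := Quotient.exists_rep ω
    rw [hstab]
    have h1 : 0 < Nat.card (stabilizer L x) := Nat.card_pos
    by_contra hlt
    have h2 := hmn x
    rw [show Nat.card (stabilizer L x) = 1 by omega, one_mul] at h2
    exact (Finset.mem_filter.1 hω).2 h2
  have hburn : Fintype.card X + 2 * (N - 1) = Fintype.card Ω * N := by
    rw [hN, Nat.card_eq_fintype_card, ← MulAction.sum_card_fixedBy_eq_card_orbits_mul_card_group L X,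
      ← Finset.sum_erase_add _ _ (Finset.mem_univ (1 : L)),
      Finset.sum_congr rfl (g := fun _ => 2) fun g hg => by
        rw [← Nat.card_eq_fintype_card]; exact h g (Finset.ne_of_mem_erase hg)]
    have e1 : Fintype.card (fixedBy X (1 : L)) = Fintype.card X :=
      Fintype.card_congr ((Equiv.setCongr (MulAction.fixedBy_one_eq_univ X L)).trans (Equiv.Set.univ X))
    rw [e1, Finset.sum_const, Finset.card_erase_of_mem (Finset.mem_univ _), Finset.card_univ,
      smul_eq_mul]
    ring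
  have hX : Fintype.card X = ∑ ω, m ω := by
    rw [← Finset.card_univ]
    exact Finset.card_eq_sum_card_fiberwise fun x _ => Finset.mem_univ (π x)
  have hsplit := Finset.sum_filter_add_sum_filter_not (Finset.univ : Finset Ω) (fun ω => m ω ≠ N) m
  have hfree : ∑ ω ∈ Finset.univ.filter (fun ω => ¬ m ω ≠ N), m ω =
      (Finset.univ.filter fun ω => ¬ m ω ≠ N).card * N :=
    Finset.sum_const_nat fun ω hω => not_not.1 (Finset.mem_filter.1 hω).2
  have hcard : s.card + (Finset.univ.filter fun ω => ¬ m ω ≠ N).card = Fintype.card Ω :=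
    Finset.card_filter_add_card_filter_not _
  rw [hfree] at hsplit
  rw [← hcard, add_mul] at hburn
  have key := arith_sum s m (fun ω => N / m ω) P B hB (fun k hk => hP4 k (by omega)) hP hN2
    (fun ω hω => by
      obtain ⟨x, rfl⟩ : ∃ x, π x = ω := Quotient.exists_rep ω
      rw [hstab]; exact hmn x) hbig
    (by
      rw [mul_comm N]
      show (∑ ω ∈ s, m ω) + 2 * N = s.card * N + 2
      have hs : ∑ ω ∈ s, m ω + (Finset.univ.filter fun ω => ¬ m ω ≠ N).card * N = Fintype.card X := by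
        rw [hX]; exact hsplit
      omega)
  refine le_trans ?_ key
  rw [Finset.card_eq_sum_card_fiberwise (f := π) (t := s.filter fun ω => P (N / m ω))]
  · exact Finset.sum_le_sum fun ω _ => Finset.card_le_card fun x hx => by
      simp only [Finset.mem_filter] at hx
      simp [hx.2]
  · intro x hx
    have hPx := hT x hx
    rw [← hstab] at hPx
    refine Finset.mem_filter.2 ⟨Finset.mem_filter.2 ⟨Finset.mem_univ _, fun hne => ?_⟩, hPx⟩
    rw [hne, Nat.div_self hNpos] at hPx
    exact absurd (hP4 1 le_rfl hPx) (by norm_num)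

section Matrices

open Matrix

variable {K : Type*} [Field K]

/-- A matrix of finite order prime to the characteristic with a square discriminant is scalar or
fixes exactly two lines. -/
theorem scalar_or_two (h2 : (2 : K) ≠ 0) (M : Matrix (Fin 2) (Fin 2) K) {m : ℕ} (hm : (m : K) ≠ 0)
    (hM : M ^ m = 1) {s : K} (hs : M.trace * M.trace - 4 * M.det = s * s) :
    (∃ c : K, M = c • (1 : Matrix (Fin 2) (Fin 2) K)) ∨
      ∃ v w : Fin 2 → K, v ≠ 0 ∧ w ≠ 0 ∧ (¬ ∃ c : K, w = c • v) ∧
        (∃ a : K, M *ᵥ v = a • v) ∧ (∃ a : K, M *ᵥ w = a • w) ∧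
        ∀ u : Fin 2 → K, u ≠ 0 → (∃ a : K, M *ᵥ u = a • u) →
          (∃ c : K, u = c • v) ∨ (∃ c : K, u = c • w) := by
  set α := (M.trace + s) / 2 with hα
  set β := (M.trace - s) / 2 with hβ
  have hab : α + β = M.trace := by rw [hα, hβ]; field_simp; ring
  have hab' : α * β = M.det := by
    rw [hα, hβ]; field_simp; linear_combination hs
  have hCH : (M - α • 1) * (M - β • 1) = 0 := by
    rw [trace_fin_two] at hab
    rw [det_fin_two] at hab'
    ext i j
    fin_cases i <;> fin_cases j <;> simp [mul_apply, Fin.sum_univ_two]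
    · linear_combination hab' - M 0 0 * hab
    · linear_combination -(M 0 1) * hab
    · linear_combination -(M 1 0) * hab
    · linear_combination hab' - M 1 1 * hab
  by_cases hne : α = β
  · left
    refine ⟨α, ?_⟩
    set Nm := M - α • (1 : Matrix (Fin 2) (Fin 2) K) with hNm
    rw [← hne, ← hNm] at hCH
    have hMe : M = α • 1 + Nm := by rw [hNm]; abel
    have hk : ∀ k : ℕ, M ^ (k + 1) = α ^ (k + 1) • 1 + (((k + 1 : ℕ) : K) * α ^ k) • Nm := by
      intro k
      induction k with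
      | zero => simp [hMe]
      | succ k ih =>
        rw [pow_succ, ih, hMe]
        simp only [add_mul, mul_add, smul_mul_assoc, mul_smul_comm, one_mul, mul_one, hCH, smul_zero,
          add_zero, smul_smul]
        push_cast
        rw [pow_succ α (k + 1)]
        module
    obtain ⟨k, rfl⟩ := Nat.exists_eq_succ_of_ne_zero (fun h : m = 0 => hm (by rw [h, Nat.cast_zero]))
    rw [hk] at hM
    have hN0 := congrArg (fun Q => Q * Nm) hM
    simp only [add_mul, smul_mul_assoc, one_mul, hCH, smul_zero, add_zero] at hN0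
    by_contra hscal
    have hNne : Nm ≠ 0 := fun h => hscal (by rw [hMe, h, add_zero])
    have h0 : (α ^ (k + 1) - 1) • Nm = 0 := by rw [sub_smul, one_smul, hN0, sub_self]
    have hαm : α ^ (k + 1) = 1 := sub_eq_zero.1 ((smul_eq_zero.1 h0).resolve_right hNne)
    rw [hαm, one_smul, add_eq_left] at hM
    rcases mul_eq_zero.1 ((smul_eq_zero.1 hM).resolve_right hNne) with h | h
    · exact hm h
    · exact one_ne_zero (by rw [← hαm, pow_succ, h, zero_mul] : (1 : K) = 0)
  · right
    have hex : ∀ x : K, (M - x • (1 : Matrix (Fin 2) (Fin 2) K)).det = 0 →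
        ∃ v : Fin 2 → K, v ≠ 0 ∧ M *ᵥ v = x • v := fun x hx => by
      obtain ⟨v, hv, h⟩ := exists_mulVec_eq_zero_iff.2 hx
      exact ⟨v, hv, by rwa [sub_mulVec, smul_mulVec, one_mulVec, sub_eq_zero] at h⟩
    rw [trace_fin_two] at hab
    rw [det_fin_two] at hab'
    obtain ⟨v, hv, hva⟩ := hex α (by simp [det_fin_two]; linear_combination -hab' + α * hab)
    obtain ⟨w, hw, hwb⟩ := hex β (by simp [det_fin_two]; linear_combination -hab' + β * hab)
    have hnsa : M ≠ α • (1 : Matrix (Fin 2) (Fin 2) K) := fun h => by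
      rw [h, smul_mulVec, one_mulVec] at hwb
      have h0 : (α - β) • w = 0 := by rw [sub_smul, hwb, sub_self]
      exact hne (sub_eq_zero.1 ((smul_eq_zero.1 h0).resolve_right hw))
    have hnsb : M ≠ β • (1 : Matrix (Fin 2) (Fin 2) K) := fun h => by
      rw [h, smul_mulVec, one_mulVec] at hva
      have h0 : (β - α) • v = 0 := by rw [sub_smul, hva, sub_self]
      exact hne (sub_eq_zero.1 ((smul_eq_zero.1 h0).resolve_right hv)).symm
    refine ⟨v, w, hv, hw, ?_, ⟨α, hva⟩, ⟨β, hwb⟩, ?_⟩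
    · rintro ⟨c, rfl⟩
      rw [mulVec_smul, hva, smul_comm] at hwb
      have h0 : (α - β) • (c • v) = 0 := by rw [sub_smul, hwb, sub_self]
      exact hne (sub_eq_zero.1 ((smul_eq_zero.1 h0).resolve_right hw))
    · rintro u hu ⟨x, hx⟩
      have h1 : (x - α) * (x - β) = 0 := by
        have h0 := congrArg (fun Q => Q *ᵥ u) hCH
        simp only [← mulVec_mulVec, sub_mulVec, smul_mulVec, one_mulVec, zero_mulVec, hx, ← sub_smul,
          mulVec_smul, mulVec_sub, smul_smul] at h0
        rw [mul_comm]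
        exact (smul_eq_zero.1 h0).resolve_right hu
      rcases mul_eq_zero.1 h1 with h | h <;> rw [sub_eq_zero] at h <;> subst h
      · exact Or.inl (OddOrder.GL2Odd.eig_line hnsa hv hva hx)
      · exact Or.inr (OddOrder.GL2Odd.eig_line hnsb hw hwb hx)

end Matrices

end Cfsg.Agent.TwoFixed
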