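/-
Sylow subgroups extraspecial of order `p ^ 3` and exponent `p`: few subgroups of order `p ^ 2` can have
an automizer containing the special linear group when `p` is large.
-/
import Cfsg.Agent.Lib.Fusion.TwoFixedCount
import Cfsg.Agent.Lib.Fusion.CubePlaneFrame
import Cfsg.Prelude.Def_Transfer

set_option autoImplicit false

namespace Cfsg.Agent.CubePlane

open Matrix
open scoped commutatorElement LinearAlgebra.Projectivization Pointwise

variable {G : Type*} [Group G] [Finite G] {p : ℕ} [hp : Fact p.Prime]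

/-- A frame exists. -/
theorem exists_frame (P : Sylow p G) (hE : Cfsg.IsExtraspecial p ↥P) (hcard : Nat.card P = p ^ 3)
    (hexp : Monoid.exponent ↥P = p) : ∃ a b z : G, Frame (P : Subgroup G) p a b z := by
  obtain ⟨⟨-, -, hcom⟩, hZ⟩ := hE
  have hcard' : Nat.card ↥P = p ^ 3 := hcard
  have hlt : Subgroup.center ↥P ≠ ⊤ := fun h => by
    rw [h, Subgroup.card_top, hcard'] at hZ
    exact (Nat.pow_lt_pow_right hp.out.one_lt (show 1 < 3 by norm_num)).ne' (by rw [pow_one]; exact hZ)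
  obtain ⟨a, ha⟩ : ∃ a : ↥P, a ∉ Subgroup.center ↥P := by
    by_contra h
    push Not at h
    exact hlt (eq_top_iff.2 fun x _ => h x)
  obtain ⟨b, hb⟩ : ∃ b : ↥P, b * a ≠ a * b := by simpa [Subgroup.mem_center_iff] using ha
  have hmemc : ∀ x y : ↥P, ⁅x, y⁆ ∈ Subgroup.center ↥P := fun x y => by
    rw [← hcom, commutator_def]
    exact Subgroup.commutator_mem_commutator (Subgroup.mem_top x) (Subgroup.mem_top y)
  set z := ⁅a, b⁆ with hz
  have hz1 : z ≠ 1 := fun h => hb (commutatorElement_eq_one_iff_mul_comm.1 h).symm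
  have hzc : ∀ x : ↥P, x ∈ Subgroup.center ↥P → x ∈ Subgroup.zpowers z := fun x hx => by
    have hle : Subgroup.zpowers z ≤ Subgroup.center ↥P := Subgroup.zpowers_le.2 (hmemc a b)
    have ho : Nat.card (Subgroup.zpowers z) = p := by
      rw [Nat.card_zpowers]
      exact orderOf_eq_prime (by have := Monoid.pow_exponent_eq_one z; rwa [hexp] at this) hz1
    rwa [Subgroup.eq_of_le_of_card_ge hle (by rw [ho, hZ])]
  have hgen : Subgroup.closure ({a, b} : Set ↥P) = ⊤ := by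
    set H := Subgroup.closure ({a, b} : Set ↥P)
    obtain ⟨k, hk, hHk⟩ := (Nat.dvd_prime_pow hp.out).1 (hcard' ▸ H.card_subgroup_dvd_card)
    refine Subgroup.eq_top_of_card_eq _ ?_
    rw [hHk, hcard']
    congr 1
    by_contra hk3
    have hnc : ¬ ∀ x y : H, x * y = y * x := fun h => hb (congrArg Subtype.val
      (h ⟨b, Subgroup.subset_closure (by simp)⟩ ⟨a, Subgroup.subset_closure (by simp)⟩))
    apply hnc
    intro x y
    rcases (show k = 0 ∨ k = 1 ∨ k = 2 by omega) with rfl | rfl | rfl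
    · rw [pow_zero] at hHk
      haveI : Subsingleton H := (Nat.card_eq_one_iff_unique.1 hHk).1
      exact Subsingleton.elim _ _
    · rw [pow_one] at hHk
      haveI := isCyclic_of_prime_card hHk
      exact mul_comm' x y
    · exact (IsPGroup.isMulCommutative_of_card_eq_prime_sq hHk).is_comm.comm x y
  refine ⟨a, b, z, a.2, b.2, ?_, fun h => hz1 (Subtype.ext h), ?_, ?_, ?_, ?_⟩
  · rfl
  · intro x hx
    exact congrArg Subtype.val (Subgroup.mem_center_iff.1 (hmemc a b) ⟨x, hx⟩)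
  · intro x hx y hy
    obtain ⟨i, hi⟩ := Subgroup.mem_zpowers_iff.1 (hzc _ (hmemc ⟨x, hx⟩ ⟨y, hy⟩))
    exact Subgroup.mem_zpowers_iff.2 ⟨i, congrArg Subtype.val hi⟩
  · intro x hx
    have := Monoid.pow_exponent_eq_one (⟨x, hx⟩ : ↥P)
    rw [hexp] at this
    exact congrArg Subtype.val this
  · intro x hx hxa hxb
    have hc : (⟨x, hx⟩ : ↥P) ∈ Subgroup.center ↥P := by
      rw [← Subgroup.centralizer_univ, ← Subgroup.coe_top, ← hgen, Subgroup.centralizer_closure,
        Subgroup.mem_centralizer_iff]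
      rintro h (rfl | rfl)
      · exact Subtype.ext hxa.symm
      · exact Subtype.ext hxb.symm
    obtain ⟨i, hi⟩ := Subgroup.mem_zpowers_iff.1 (hzc _ hc)
    exact Subgroup.mem_zpowers_iff.2 ⟨i, congrArg Subtype.val hi⟩

variable {a b z : G}

/-- A point `u` of `P` is good when every transvection of `⟨u, z⟩` fixing `u` is induced. -/
def Good (p : ℕ) (z u : G) : Prop :=
  ∀ x : ZMod p, ∃ y : G, y * u * y⁻¹ = u ∧ y * z * y⁻¹ = z * zp u x

variable {P : Sylow p G}

theorem exists_diag (F : Frame (P : Subgroup G) p a b z) {u : G} (hu : u ∈ (P : Subgroup G))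
    (hu' : u ∉ Subgroup.zpowers z) (hg : Good p z u) {l m : ZMod p} (hlm : l * m = 1) :
    ∃ g : G, g * u * g⁻¹ = zp u m ∧ g * z * g⁻¹ = zp z l := by
  have hzp := F.zpp
  have hup := F.hexp u hu
  have hcomm : Commute u z := F.cent u hu
  let pt : ZMod p → ZMod p → G := fun i j => zp u i * zp z j
  have hZ : ∀ i j : ZMod p, Commute (zp u i) (zp z j) := fun i j => hcomm.pow_pow _ _
  -- transvections fixing `u`
  have hl : ∀ (x : ZMod p), ∃ y : G, ∀ i j : ZMod p, y * pt i j * y⁻¹ = pt (i + x * j) j := by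
    intro x
    obtain ⟨y, h₁, h₂⟩ := hg x
    refine ⟨y, fun i j => ?_⟩
    have e : zp (z * zp u x) j = zp z j * zp u (x * j) := by
      rw [← zp_zp hup]
      exact ((hcomm.symm.pow_right _).mul_pow _)
    show y * (zp u i * zp z j) * y⁻¹ = zp u (i + x * j) * zp z j
    rw [← conj_mul, conj_zp, conj_zp, h₁, h₂, e, zp_add hup, (hZ _ _).symm.eq, mul_assoc]
  -- transvections fixing `z`
  have hr : ∀ (x : ZMod p), ∃ y : G, ∀ i j : ZMod p, y * pt i j * y⁻¹ = pt i (j + x * i) := by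
    intro x
    obtain ⟨v, hv, hvu⟩ : ∃ v ∈ (P : Subgroup G), lg p z v u ≠ 0 := by
      by_contra h
      push Not at h
      refine hu' (F.mem_z hu ?_ ?_)
      · rw [F.lg_antisymm F.hb hu, h b F.hb, neg_zero]
      · exact h a F.ha
    set k := x / lg p z v u
    refine ⟨zp v k, fun i j => ?_⟩
    have hy : zp v k ∈ (P : Subgroup G) := zp_memP hv k
    have e1 : zp v k * u * (zp v k)⁻¹ = zp z x * u := by
      have := F.lg_spec hy hu
      rw [F.lg_zp hv hu, show k * lg p z v u = x from div_mul_cancel₀ x hvu] at this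
      rw [this, commutatorElement_def]
      group
    have e2 : zp v k * z * (zp v k)⁻¹ = z := by rw [F.cent _ hy, mul_inv_cancel_right]
    have e : zp (zp z x * u) i = zp z (x * i) * zp u i := by
      rw [← zp_zp hzp]
      exact ((hcomm.pow_right _).symm.mul_pow _)
    show zp v k * (zp u i * zp z j) * (zp v k)⁻¹ = zp u i * zp z (j + x * i)
    rw [← conj_mul, conj_zp, conj_zp, e1, e2, e, ← (hZ _ _).eq, mul_assoc, ← zp_add hzp, add_comm]
  obtain ⟨y₁, h₁⟩ := hl (-(l - 1) * m)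
  obtain ⟨y₂, h₂⟩ := hr 1
  obtain ⟨y₃, h₃⟩ := hl (l - 1)
  obtain ⟨y₄, h₄⟩ := hr (-m)
  refine ⟨y₁ * y₂ * y₃ * y₄, ?_, ?_⟩
  · have e : y₁ * y₂ * y₃ * y₄ * u * (y₁ * y₂ * y₃ * y₄)⁻¹ =
        y₁ * (y₂ * (y₃ * (y₄ * pt 1 0 * y₄⁻¹) * y₃⁻¹) * y₂⁻¹) * y₁⁻¹ := by
      simp only [pt, zp_one, zp_zero, mul_one]; group
    rw [e, h₄, h₃, h₂, h₁]
    show zp u _ * zp z _ = zp u m
    have e0 : (0 + -m * 1 + 1 * (1 + (l - 1) * (0 + -m * 1))) = 0 := by linear_combination -hlm
    rw [e0, zp_zero, mul_one]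
    congr 1
    linear_combination -hlm
  · have e : y₁ * y₂ * y₃ * y₄ * z * (y₁ * y₂ * y₃ * y₄)⁻¹ =
        y₁ * (y₂ * (y₃ * (y₄ * pt 0 1 * y₄⁻¹) * y₃⁻¹) * y₂⁻¹) * y₁⁻¹ := by
      simp only [pt, zp_one, zp_zero, one_mul]; group
    rw [e, h₄, h₃, h₂, h₁]
    show zp u _ * zp z _ = zp z l
    have e0 : (0 + (l - 1) * (1 + -m * 0) +
        -(l - 1) * m * (1 + -m * 0 + 1 * (0 + (l - 1) * (1 + -m * 0)))) = 0 := by
      linear_combination -(l - 1) * hlm
    rw [e0, zp_zero, one_mul]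
    congr 1
    ring

/-- The diagonal element can be chosen in the normalizer of `P`. -/
theorem exists_norm_diag (F : Frame (P : Subgroup G) p a b z) {u : G} (hu : u ∈ (P : Subgroup G))
    (hu' : u ∉ Subgroup.zpowers z) (hg : Good p z u) {l m : ZMod p} (hlm : l * m = 1) :
    ∃ t ∈ Subgroup.normalizer ((P : Subgroup G) : Set G),
      t * z * t⁻¹ = zp z l ∧ ∃ w ∈ Subgroup.zpowers z, t * u * t⁻¹ = w * zp u m := by
  obtain ⟨g, hgu, hgz⟩ := exists_diag F hu hu' hg hlm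
  let Z := Subgroup.zpowers z
  have hfix : ∀ x : G, x * z = z * x → ∀ w ∈ Z, x * w * x⁻¹ = w := fun x hx w hw => by
    obtain ⟨i, rfl⟩ := Subgroup.mem_zpowers_iff.1 hw
    rw [(Commute.zpow_right hx i).eq, mul_inv_cancel_right]
  let M : Subgroup G :=
    { carrier := {x | x * z = z * x ∧ x * u * x⁻¹ * u⁻¹ ∈ Z}
      one_mem' := ⟨by simp, by simp⟩
      mul_mem' := fun {x y} hx hy => ⟨by
        show x * y * z = z * (x * y)
        rw [mul_assoc, hy.1, ← mul_assoc, hx.1, mul_assoc], by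
        show x * y * u * (x * y)⁻¹ * u⁻¹ ∈ Z
        have e : x * y * u * (x * y)⁻¹ * u⁻¹ =
            (x * (y * u * y⁻¹ * u⁻¹) * x⁻¹) * (x * u * x⁻¹ * u⁻¹) := by group
        rw [e, hfix x hx.1 _ hy.2]
        exact mul_mem hy.2 hx.2⟩
      inv_mem' := fun {x} hx => ⟨by
        show x⁻¹ * z = z * x⁻¹
        exact ((Commute.inv_left (hx.1 : Commute x z))).eq, by
        show x⁻¹ * u * x⁻¹⁻¹ * u⁻¹ ∈ Z
        have e : x⁻¹ * u * x⁻¹⁻¹ * u⁻¹ = x⁻¹ * (x * u * x⁻¹ * u⁻¹)⁻¹ * x⁻¹⁻¹ := by group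
        rw [e, hfix _ ((Commute.inv_left (hx.1 : Commute x z))).eq _ (inv_mem hx.2)]
        exact inv_mem hx.2⟩ }
  have hPM : (P : Subgroup G) ≤ M := fun x hx => ⟨F.cent x hx, by
    have := F.comm x hx u hu
    rwa [commutatorElement_def] at this⟩
  have hgu' : g * zp u l * g⁻¹ = u := by
    rw [conj_zp, hgu, zp_zp (F.hexp u hu), mul_comm, hlm, zp_one]
  have hgz' : g * zp z m * g⁻¹ = z := by rw [conj_zp, hgz, zp_zp F.zpp, hlm, zp_one]
  have hgPM : ((g • P : Sylow p G) : Subgroup G) ≤ M := by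
    rw [Sylow.coe_subgroup_smul]
    intro y hy
    obtain ⟨x, hx, rfl⟩ : ∃ x ∈ (P : Subgroup G), g * x * g⁻¹ = y := by
      obtain ⟨x, hx, rfl⟩ := hy
      exact ⟨x, hx, rfl⟩
    refine ⟨?_, ?_⟩
    · have h := congrArg (fun v => g * v * g⁻¹) (F.cent' hx (zp_mem m) : x * zp z m = zp z m * x)
      simp only [← conj_mul (b := g), hgz'] at h
      exact h
    · have h := F.comm x hx _ (zp_memP hu l)
      rw [commutatorElement_def] at h
      obtain ⟨k, hk⟩ := exists_zp (p := p) F.zpp h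
      have e : g * x * g⁻¹ * u * (g * x * g⁻¹)⁻¹ * u⁻¹ = g * (x * zp u l * x⁻¹ * (zp u l)⁻¹) * g⁻¹ := by
        conv_lhs => rw [← hgu']
        group
      rw [e, ← hk, conj_zp, hgz, zp_zp F.zpp]
      exact zp_mem _
  obtain ⟨⟨n, hnM⟩, hn⟩ := MulAction.exists_smul_eq ↥M ((g • P).subtype hgPM) (P.subtype hPM)
  rw [Sylow.smul_subtype] at hn
  have hnP : (n * g) • P = P := by rw [mul_smul]; exact Sylow.subtype_injective hn
  refine ⟨n * g, Sylow.smul_eq_iff_mem_normalizer.1 hnP, ?_, ?_⟩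
  · have e : n * g * z * (n * g)⁻¹ = n * (g * z * g⁻¹) * n⁻¹ := by group
    rw [e, hgz, hfix n hnM.1 _ (zp_mem l)]
  · refine ⟨n * g * u * (n * g)⁻¹ * (zp u m)⁻¹, ?_, by rw [inv_mul_cancel_right]⟩
    have e : n * g * u * (n * g)⁻¹ = n * (g * u * g⁻¹) * n⁻¹ := by group
    rw [e, hgu]
    show n * zp u m * n⁻¹ * (zp u m)⁻¹ ∈ Z
    have hcomm : Commute u (n * u * n⁻¹ * u⁻¹) := F.cent' hu hnM.2
    have e1 : n * zp u m * n⁻¹ = zp (n * u * n⁻¹ * u⁻¹) m * zp u m := by
      rw [conj_zp]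
      have h2 : n * u * n⁻¹ = (n * u * n⁻¹ * u⁻¹) * u := by rw [inv_mul_cancel_right]
      conv_lhs => rw [h2]
      exact hcomm.symm.mul_pow _
    rw [e1, mul_inv_cancel_right]
    exact pow_mem hnM.2 _

theorem det_zero_of_proportional {v w : Fin 2 → ZMod p} {K : Type*} [Field K] (f : ZMod p →+* K)
    {c : K} (h : (fun i => f (w i)) = c • fun i => f (v i)) : v 0 * w 1 - v 1 * w 0 = 0 := by
  apply f.injective
  have h0 := congrFun h 0
  have h1 := congrFun h 1
  simp only [Pi.smul_apply, smul_eq_mul] at h0 h1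
  rw [map_sub, map_mul, map_mul, map_zero, h0, h1]
  ring

/-- The main count. -/
theorem card_good_le (F : Frame (P : Subgroup G) p a b z) (hp2 : p ≠ 2)
    (Q : ℕ → Prop) (B : ℕ) (hB : 2 ≤ B) (hQ4 : ∀ k, 1 ≤ k → Q k → 4 ≤ k)
    (hQ : ∀ k l, 4 ≤ k → Q k → (6 ≤ k → l ≤ 2) → (4 ∣ k → l ≤ 6) → l ≤ B)
    (hQl : ∀ l : (ZMod p)ˣ, orderOf l = p - 1 → ∀ k, 1 ≤ k → orderOf (l ^ 3) ∣ k → Q k)
    (S : Finset G) (hS : ∀ u ∈ S, u ∈ (P : Subgroup G) ∧ u ∉ Subgroup.zpowers z ∧ Good p z u)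
    (hcomm : ∀ u ∈ S, ∀ v ∈ S, u * v = v * u → u = v) : S.card ≤ B := by
  classical
  let K := GaloisField p 2
  haveI : Fintype K := Fintype.ofFinite K
  haveI : CharP K p := charP_of_injective_algebraMap (algebraMap (ZMod p) K).injective p
  set f : ZMod p →+* K := algebraMap (ZMod p) K with hf
  set N : Subgroup G := Subgroup.normalizer ((P : Subgroup G) : Set G) with hN
  let M : ↥N →* Matrix (Fin 2) (Fin 2) (ZMod p) :=
    { toFun := fun n => mat p a b z n
      map_one' := F.mat_of_mem (one_mem _)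
      map_mul' := fun n m => F.mat_mul n.2 m.2 }
  let ρ : ↥N →* LinearMap.GeneralLinearGroup K (Fin 2 → K) :=
    ((Matrix.toLinAlgEquiv' (R := K) (n := Fin 2)).toAlgHom.toRingHom.toMonoidHom.comp
      (f.mapMatrix.toMonoidHom.comp M)).toHomUnits
  have hρ : ∀ (n : ↥N) (v : Fin 2 → K), ρ n • v = (f.mapMatrix (M n)) *ᵥ v := fun _ _ => rfl
  let X := ℙ K (Fin 2 → K)
  haveI : Finite X := inferInstanceAs (Finite (ℙ K (Fin 2 → K)))
  let θ : ↥N →* Equiv.Perm X := (MulAction.toPermHom _ X).comp ρ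
  have hθ : ∀ (n : ↥N) (v : Fin 2 → K) (hv : v ≠ 0), θ n (Projectivization.mk K v hv) =
      Projectivization.mk K v hv ↔ ∃ c : K, f.mapMatrix (M n) *ᵥ v = c • v := by
    intro n v hv
    show ρ n • Projectivization.mk K v hv = _ ↔ _
    rw [Projectivization.smul_mk, Projectivization.mk_eq_mk_iff']
    simp only [hρ]
    exact ⟨fun ⟨c, hc⟩ => ⟨c, hc.symm⟩, fun ⟨c, hc⟩ => ⟨c, hc.symm⟩⟩
  have hscal : ∀ n : ↥N, θ n = 1 → ∃ c : K, f.mapMatrix (M n) = c • (1 : Matrix (Fin 2) (Fin 2) K) := by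
    intro n hn
    have hall : ∀ v : Fin 2 → K, v ≠ 0 → ∃ c : K, f.mapMatrix (M n) *ᵥ v = c • v := fun v hv =>
      (hθ n v hv).1 (by rw [hn]; rfl)
    obtain ⟨c₀, h₀⟩ := hall ![1, 0] (fun h => by simpa using congrFun h 0)
    obtain ⟨c₁, h₁⟩ := hall ![0, 1] (fun h => by simpa using congrFun h 1)
    obtain ⟨c₂, h₂⟩ := hall ![1, 1] (fun h => by simpa using congrFun h 1)
    generalize f.mapMatrix (M n) = A at h₀ h₁ h₂
    refine ⟨c₀, ?_⟩
    have a0 := congrFun h₀ 0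
    have a1 := congrFun h₀ 1
    have b0 := congrFun h₁ 0
    have b1 := congrFun h₁ 1
    have d0 := congrFun h₂ 0
    have d1 := congrFun h₂ 1
    simp [mulVec, dotProduct, Fin.sum_univ_two, vecHead, vecTail] at a0 a1 b0 b1 d0 d1
    ext i j
    fin_cases i <;> fin_cases j <;> simp [a0, a1, b0]
    rw [a0, b0, add_zero] at d0
    rw [a1, b1, zero_add] at d1
    rw [b1, d1, d0]
  have h2K : (2 : K) ≠ 0 := by
    intro h
    have : ((2 : ℕ) : K) = 0 := by exact_mod_cast h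
    rw [CharP.cast_eq_zero_iff K p] at this
    exact hp2 ((Nat.prime_dvd_prime_iff_eq hp.out Nat.prime_two).1 this)
  have hsq : ∀ d : ZMod p, ∃ s : K, f d = s * s := by
    intro d
    by_cases hd : d = 0
    · exact ⟨0, by rw [hd, map_zero, zero_mul]⟩
    obtain ⟨k, hk⟩ := hp.out.odd_of_ne_two hp2
    refine (FiniteField.isSquare_iff (fun h => ?_) (by simpa using hd)).2 ?_
    · rw [ringChar.eq K p] at h
      exact hp2 h
    · have hcK : Fintype.card K = p ^ 2 := by rw [← Nat.card_eq_fintype_card]; exact GaloisField.card p 2 (by norm_num)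
      have e : p ^ 2 / 2 = (p - 1) * (k + 1) := by
        rw [hk, show (2 * k + 1) ^ 2 = 1 + 2 * (2 * k * (k + 1)) by ring, Nat.add_mul_div_left _ _ two_pos]
        simp
      rw [hcK, e, ← map_pow, pow_mul, ZMod.pow_card_sub_one_eq_one hd, one_pow, map_one]
  let L := θ.range
  have hfix : ∀ g : L, g ≠ 1 → Nat.card (MulAction.fixedBy X g) = 2 := by
    rintro ⟨_, n, rfl⟩ hne
    let I := ((P : Subgroup G).subgroupOf N).index
    have hI : ¬ p ∣ I := fun h => P.not_dvd_index (h.trans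
      (Subgroup.relIndex_dvd_index_of_le (H := (P : Subgroup G)) (K := N) Subgroup.le_normalizer))
    have hMI : f.mapMatrix (M n) ^ I = 1 := by
      rw [← map_pow, ← map_pow,
        show M (n ^ I) = 1 from F.mat_of_mem (Subgroup.pow_index_mem ((P : Subgroup G).subgroupOf N) n),
        map_one]
    have hIK : (I : K) ≠ 0 := fun h => hI ((CharP.cast_eq_zero_iff K p I).1 h)
    obtain ⟨s, hs⟩ := hsq ((M n).trace * (M n).trace - 4 * (M n).det)
    rcases TwoFixed.scalar_or_two h2K _ hIK hMI (s := s) (by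
        rw [← hs]
        simp [trace_fin_two, det_fin_two, map_ofNat]) with ⟨c, hc⟩ | ⟨v, w, hv, hw, hvw, hev, hew, honly⟩
    · refine absurd (Subtype.ext (Equiv.ext fun x => ?_)) hne
      induction x using Projectivization.ind with | _ u hu =>
      exact (hθ n u hu).2 ⟨c, by rw [hc, smul_mulVec, one_mulVec]⟩
    · have hset : MulAction.fixedBy X (⟨θ n, n, rfl⟩ : L) =
          {Projectivization.mk K v hv, Projectivization.mk K w hw} := by
        ext x
        induction x using Projectivization.ind with | _ u hu =>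
        show θ n _ = _ ↔ _
        rw [hθ]
        refine ⟨fun h => ?_, ?_⟩
        · rcases honly u hu h with ⟨c, hc⟩ | ⟨c, hc⟩
          · exact Or.inl ((Projectivization.mk_eq_mk_iff' K _ _ _ _).2 ⟨c, hc.symm⟩)
          · exact Or.inr ((Projectivization.mk_eq_mk_iff' K _ _ _ _).2 ⟨c, hc.symm⟩)
        · rintro (h | h)
          · obtain ⟨c, hc⟩ := (Projectivization.mk_eq_mk_iff' K _ _ _ _).1 h
            obtain ⟨d, hd⟩ := hev
            exact ⟨d, by rw [← hc, mulVec_smul, hd, smul_comm]⟩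
          · obtain ⟨c, hc⟩ := (Projectivization.mk_eq_mk_iff' K _ _ _ _).1 h
            obtain ⟨d, hd⟩ := hew
            exact ⟨d, by rw [← hc, mulVec_smul, hd, smul_comm]⟩
      rw [Nat.card_coe_set_eq, hset]
      refine Set.ncard_pair fun h => ?_
      obtain ⟨c, hc⟩ := (Projectivization.mk_eq_mk_iff' K _ _ _ _).1 h.symm
      exact hvw ⟨c, hc.symm⟩
  -- the points of `S`
  let cv : G → Fin 2 → K := fun u i => f (co p a b z u i)
  have hcv : ∀ u ∈ S, cv u ≠ 0 := fun u hu h => (hS u hu).2.1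
    (F.mem_z (hS u hu).1 (f.injective (by simpa [cv, co] using congrFun h 0))
      (f.injective (by simpa [cv, co] using congrFun h 1)))
  let pti : {u // u ∈ S} → X := fun u => Projectivization.mk K (cv u) (hcv u u.2)
  have hinj : Function.Injective pti := by
    rintro ⟨u, hu⟩ ⟨v, hv⟩ h
    obtain ⟨c, hc⟩ := (Projectivization.mk_eq_mk_iff' K _ _ _ _).1 h.symm
    have h0 := det_zero_of_proportional f (v := co p a b z u) (w := co p a b z v) hc.symm
    refine Subtype.ext (hcomm u hu v hv ((F.lg_eq_zero_iff (hS u hu).1 (hS v hv).1).1 ?_))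
    rw [F.lg_formula (hS u hu).1 (hS v hv).1]
    simpa [co] using h0
  obtain ⟨l, hl⟩ : ∃ l : (ZMod p)ˣ, orderOf l = p - 1 := by
    obtain ⟨l, hl⟩ := IsCyclic.exists_ofOrder_eq_natCard (α := (ZMod p)ˣ)
    exact ⟨l, by rw [hl, Nat.card_eq_fintype_card, ZMod.card_units]⟩
  rw [← Finset.card_attach, ← Finset.card_image_of_injective _ hinj]
  refine TwoFixed.card_le hfix Q B hB hQ4 hQ _ ?_
  rintro _ hx
  obtain ⟨⟨u, hu⟩, -, rfl⟩ := Finset.mem_image.1 hx
  obtain ⟨huP, huz, hgood⟩ := hS u hu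
  obtain ⟨t, ht, htz, w, hw, htu⟩ := exists_norm_diag F huP huz hgood
    (l := (l : ZMod p)) (m := ((l⁻¹ : (ZMod p)ˣ) : ZMod p)) (Units.mul_inv l)
  have heig : mat p a b z t *ᵥ co p a b z u = ((l⁻¹ : (ZMod p)ˣ) : ZMod p) • co p a b z u := by
    have hk := zp_memP (p := p) huP ((l⁻¹ : (ZMod p)ˣ) : ZMod p)
    rw [F.mat_mulVec ht huP, htu]
    ext i
    fin_cases i <;>
      simp only [co, Fin.zero_eta, Fin.isValue, cons_val_zero, Pi.smul_apply, smul_eq_mul, Fin.mk_one, cons_val_one]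
    · rw [F.lg_mul (F.zle hw) hk F.hb, F.lg_z hw F.hb, F.lg_zp huP F.hb, zero_add]
    · rw [F.lg_antisymm (mul_mem (F.zle hw) hk) F.ha, F.lg_mul (F.zle hw) hk F.ha,
        F.lg_z hw F.ha, F.lg_zp huP F.ha, F.lg_antisymm huP F.ha]
      ring
  have hdet : (mat p a b z t).det = (l : ZMod p) :=
    zp_inj F.zpp F.hz1 ((F.det_mat ht).trans htz)
  have heigk : ∀ k : ℕ, mat p a b z t ^ k *ᵥ co p a b z u =
      ((l⁻¹ : (ZMod p)ˣ) : ZMod p) ^ k • co p a b z u := by
    intro k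
    induction k with
    | zero => rw [pow_zero, pow_zero, one_mulVec, one_smul]
    | succ k ih => rw [pow_succ, ← mulVec_mulVec, heig, mulVec_smul, ih, smul_smul, pow_succ']
  let tL : L := ⟨θ ⟨t, ht⟩, ⟨t, ht⟩, rfl⟩
  have hmapv : ∀ (A : Matrix (Fin 2) (Fin 2) (ZMod p)) (μ : ZMod p),
      A *ᵥ co p a b z u = μ • co p a b z u → f.mapMatrix A *ᵥ cv u = f μ • cv u := by
    intro A μ h
    ext i
    have := congrArg f (congrFun h i)
    simpa [mulVec, dotProduct, cv] using this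
  have htfix : tL ∈ MulAction.stabilizer L (pti ⟨u, hu⟩) := by
    show θ ⟨t, ht⟩ (Projectivization.mk K (cv u) _) = _
    exact (hθ _ _ _).2 ⟨_, hmapv _ _ heig⟩
  refine hQl l hl _ Nat.card_pos ?_
  refine (orderOf_dvd_of_pow_eq_one ?_).trans (Subgroup.orderOf_dvd_natCard _ htfix)
  set k := orderOf tL
  have hk : θ (⟨t, ht⟩ ^ k) = 1 := by
    rw [map_pow]
    exact congrArg Subtype.val (pow_orderOf_eq_one tL)
  obtain ⟨c, hc⟩ := hscal _ hk
  have hMk : M (⟨t, ht⟩ ^ k) = mat p a b z t ^ k := map_pow M _ k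
  rw [hMk] at hc
  have h1 := hmapv _ _ (heigk k)
  rw [hc, smul_mulVec, one_mulVec] at h1
  have hck : c = f (((l⁻¹ : (ZMod p)ˣ) : ZMod p) ^ k) := by
    have h0 : (c - f (((l⁻¹ : (ZMod p)ˣ) : ZMod p) ^ k)) • cv u = 0 := by rw [sub_smul, h1, sub_self]
    exact sub_eq_zero.1 ((smul_eq_zero.1 h0).resolve_right (hcv u hu))
  have h2 := congrArg Matrix.det hc
  rw [← RingHom.map_det, det_pow, hdet, det_smul, det_one, mul_one, Fintype.card_fin, hck,
    ← map_pow] at h2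
  have h3 := f.injective h2
  apply Units.ext
  rw [Units.val_pow_eq_pow_val, Units.val_pow_eq_pow_val, Units.val_one]
  calc ((l : ZMod p) ^ 3) ^ k = ((l : ZMod p) ^ k) * ((l : ZMod p) ^ k) ^ 2 := by ring
    _ = (((l⁻¹ : (ZMod p)ˣ) : ZMod p) ^ k) ^ 2 * ((l : ZMod p) ^ k) ^ 2 := by rw [h3]
    _ = ((((l⁻¹ : (ZMod p)ˣ) : ZMod p) * (l : ZMod p)) ^ k) ^ 2 := by ring
    _ = 1 := by rw [Units.inv_mul, one_pow, one_pow]

/-- A generator's cube has large order. -/
theorem order_cube (l : (ZMod p)ˣ) (hl : orderOf l = p - 1) :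
    (13 < p → 6 ≤ orderOf (l ^ 3)) ∧ (p = 11 → orderOf (l ^ 3) = 10) ∧
      (p = 13 → orderOf (l ^ 3) = 4) := by
  have e : orderOf (l ^ 3) = (p - 1) / Nat.gcd (p - 1) 3 := by rw [orderOf_pow, hl]
  refine ⟨fun h => ?_, fun h => by rw [e, h]; norm_num, fun h => by rw [e, h]; norm_num⟩
  rw [e]
  rcases (Nat.dvd_prime Nat.prime_three).1 (Nat.gcd_dvd_right (p - 1) 3) with g | g
  · rw [g]; omega
  · rw [g]
    rcases (show p = 14 ∨ p = 15 ∨ p = 16 ∨ p = 17 ∨ p = 18 ∨ 19 ≤ p by omega) with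
      rfl | rfl | rfl | rfl | rfl | h'
    iterate 3 exact absurd hp.out (by norm_num)
    · norm_num at g
    · exact absurd hp.out (by norm_num)
    · omega

theorem card_good_le_two (F : Frame (P : Subgroup G) p a b z) (hp13 : 13 < p ∨ p = 11)
    (S : Finset G) (hS : ∀ u ∈ S, u ∈ (P : Subgroup G) ∧ u ∉ Subgroup.zpowers z ∧ Good p z u)
    (hcomm : ∀ u ∈ S, ∀ v ∈ S, u * v = v * u → u = v) : S.card ≤ 2 := by
  refine card_good_le F (by omega) (fun k => 6 ≤ k) 2 le_rfl (fun k _ h => by omega)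
    (fun k l _ h h6 _ => h6 h) (fun l hl k hk hd => ?_) S hS hcomm
  have := Nat.le_of_dvd hk hd
  obtain ⟨h1, h2, -⟩ := order_cube l hl
  rcases hp13 with h | h
  · have := h1 h; omega
  · rw [h2 h] at this; omega

theorem card_good_le_six (F : Frame (P : Subgroup G) p a b z) (hp13 : p = 13)
    (S : Finset G) (hS : ∀ u ∈ S, u ∈ (P : Subgroup G) ∧ u ∉ Subgroup.zpowers z ∧ Good p z u)
    (hcomm : ∀ u ∈ S, ∀ v ∈ S, u * v = v * u → u = v) : S.card ≤ 6 := by
  refine card_good_le F (by omega) (fun k => 4 ∣ k) 6 (by norm_num)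
    (fun k hk h => Nat.le_of_dvd hk h) (fun k l _ h _ h4 => h4 h)
    (fun l hl k hk hd => ((order_cube l hl).2.2 hp13) ▸ hd) S hS hcomm

end Cfsg.Agent.CubePlane
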