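/-
Prime bounds for extraspecial Sylow subgroups of order `p ^ 3` and exponent `p`.
-/
import Cfsg.Agent.Lib.Fusion.CubePlaneBound

set_option autoImplicit false

namespace Cfsg.Agent.CubePlane

open scoped commutatorElement

universe u

variable {G : Type u} [Group G] [Finite G] {p : ℕ} [hp : Fact p.Prime] {P : Sylow p G} {a b z : G}

/-- Structure of a subgroup of order `p ^ 2`. -/
theorem plane_struct (F : Frame (P : Subgroup G) p a b z) {A : Subgroup G} (hA : A ≤ (P : Subgroup G))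
    (hAc : Nat.card A = p ^ 2) :
    ∃ e : Multiplicative (ZMod p × ZMod p) ≃* A, (e (Multiplicative.ofAdd (1, 0)) : G) = z ∧
      (e (Multiplicative.ofAdd (0, 1)) : G) ∉ Subgroup.zpowers z := by
  have ho : orderOf z = p := orderOf_eq_prime F.zpp F.hz1
  obtain ⟨u, huA, huz⟩ : ∃ u ∈ A, u ∉ Subgroup.zpowers z := by
    by_contra h
    push Not at h
    have := Nat.card_le_card_of_injective _ (Subgroup.inclusion_injective (show A ≤ Subgroup.zpowers z from h))
    rw [hAc, Nat.card_zpowers, ho] at this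
    nlinarith [hp.out.two_le]
  have huP := hA huA
  have hup : u ^ p = 1 := F.hexp u huP
  haveI := IsPGroup.isMulCommutative_of_card_eq_prime_sq hAc
  have hcomm : Commute z u := (F.cent u huP).symm
  let e₀ : Multiplicative (ZMod p × ZMod p) →* G :=
    { toFun := fun v => zp z v.toAdd.1 * zp u v.toAdd.2
      map_one' := by show zp z (0 : ZMod p) * zp u (0 : ZMod p) = 1; rw [zp_zero, zp_zero, one_mul]
      map_mul' := fun v w => by
        show zp z (v.toAdd.1 + w.toAdd.1) * zp u (v.toAdd.2 + w.toAdd.2) = _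
        rw [zp_add F.zpp, zp_add hup]
        exact Commute.mul_mul_mul_comm (hcomm.pow_pow _ _) _ _ }
  have hsub : A ≤ e₀.range := fun x hx => by
    have hc : x * u = u * x := congrArg Subtype.val (mul_comm' (⟨x, hx⟩ : A) ⟨u, huA⟩)
    obtain ⟨k, w, hw, rfl⟩ := F.of_comm (hA hx) huP huz hc
    obtain ⟨j, rfl⟩ := exists_zp (p := p) F.zpp hw
    exact ⟨Multiplicative.ofAdd (j, k), rfl⟩
  have hcard2 : Nat.card (Multiplicative (ZMod p × ZMod p)) = p ^ 2 := by
    rw [Nat.card_congr Multiplicative.toAdd, Nat.card_prod, Nat.card_zmod, pow_two]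
  have hle : Nat.card e₀.range ≤ Nat.card (Multiplicative (ZMod p × ZMod p)) :=
    Nat.card_le_card_of_surjective _ e₀.rangeRestrict_surjective
  have hAe : A = e₀.range := Subgroup.eq_of_le_of_card_ge hsub (by rw [hAc, ← hcard2]; exact hle)
  have hinj : Function.Injective e₀ := by
    rw [← MonoidHom.ker_eq_bot_iff]
    refine Subgroup.eq_bot_of_card_eq _ ?_
    have h := Subgroup.card_eq_card_quotient_mul_card_subgroup e₀.ker
    rw [Nat.card_congr (QuotientGroup.quotientKerEquivRange e₀).toEquiv, ← hAe, hAc, hcard2] at h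
    exact Nat.eq_of_mul_eq_mul_left (pow_pos hp.out.pos 2) (by rw [mul_one]; exact h.symm)
  refine ⟨(MonoidHom.ofInjective hinj).trans (MulEquiv.subgroupCongr hAe.symm), ?_, ?_⟩
  · show zp z (1 : ZMod p) * zp u (0 : ZMod p) = z
    rw [zp_one, zp_zero, mul_one]
  · show zp z (0 : ZMod p) * zp u (1 : ZMod p) ∉ Subgroup.zpowers z
    rwa [zp_one, zp_zero, one_mul]

theorem good_of_induced (F : Frame (P : Subgroup G) p a b z) {A : Subgroup G} (hA : A ≤ (P : Subgroup G))
    (hAc : Nat.card A = p ^ 2)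
    (hSL : ∀ φ : MulAut ↥A, orderOf φ = p → ∃ g : G, ∀ v : ↥A, (φ v : G) = g * (v : G) * g⁻¹) :
    ∃ u ∈ A, u ∉ Subgroup.zpowers z ∧ Good p z u ∧ z ∈ A := by
  obtain ⟨e, hez, heu⟩ := plane_struct F hA hAc
  refine ⟨_, (e (Multiplicative.ofAdd (0, 1))).2, heu, fun x => ?_, hez ▸ SetLike.coe_mem _⟩
  by_cases hx : x = 0
  · exact ⟨1, by simp, by rw [hx, zp_zero]; simp⟩
  let s : ZMod p → (ZMod p × ZMod p ≃+ ZMod p × ZMod p) := fun x =>
    { toFun := fun v => (v.1, v.2 + x * v.1)
      invFun := fun v => (v.1, v.2 - x * v.1)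
      left_inv := fun v => by simp
      right_inv := fun v => by simp
      map_add' := fun v w => Prod.ext rfl (by show v.2 + w.2 + x * (v.1 + w.1) = _; simp; ring) }
  let sh : ZMod p → MulAut A := fun x => e.symm.trans ((AddEquiv.toMultiplicative (s x)).trans e)
  have hsh : ∀ (x : ZMod p) (v : ZMod p × ZMod p),
      sh x (e (Multiplicative.ofAdd v)) = e (Multiplicative.ofAdd (v.1, v.2 + x * v.1)) := fun x v => by
    simp [sh, s, AddEquiv.toMultiplicative]
  have hadd : ∀ x y : ZMod p, sh x * sh y = sh (x + y) := by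
    intro x y
    ext v
    obtain ⟨w, rfl⟩ := e.surjective v
    rw [MulAut.mul_apply, ← ofAdd_toAdd w, hsh, hsh, hsh]
    congr 4
    ring
  have hzero : sh 0 = 1 := by
    ext v
    obtain ⟨w, rfl⟩ := e.surjective v
    rw [MulAut.one_apply, ← ofAdd_toAdd w, hsh]
    simp
  have hpow : ∀ n : ℕ, sh x ^ n = sh (n * x) := by
    intro n
    induction n with
    | zero => rw [pow_zero, Nat.cast_zero, zero_mul, hzero]
    | succ n ih => rw [pow_succ, ih, hadd, Nat.cast_succ, add_one_mul]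
  have hord : orderOf (sh x) = p := by
    refine orderOf_eq_prime (by rw [hpow, ZMod.natCast_self, zero_mul, hzero]) fun h => hx ?_
    have := congrArg (fun φ : MulAut A => φ (e (Multiplicative.ofAdd (1, 0)))) h
    simp only [hsh, MulAut.one_apply] at this
    simpa using congrArg Prod.snd (Multiplicative.ofAdd.injective (e.injective this))
  obtain ⟨y, hy⟩ := hSL _ hord
  refine ⟨y, ?_, ?_⟩
  · rw [← hy, hsh]; simp
  · conv_lhs => rw [← hez]
    rw [← hy, hsh]
    have : ((1 : ZMod p), (0 : ZMod p) + x * 1) = (1, 0) + x.val • ((0 : ZMod p), (1 : ZMod p)) := by simp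
    simp only [this, ofAdd_add, ofAdd_nsmul, map_mul, map_pow, Subgroup.coe_mul, SubmonoidClass.coe_pow, hez]
    rfl

/-- Three planes with full automizer force `p ≤ 13`. -/
theorem three_planes (hp2 : p ≠ 2) (P : Sylow p G) (hE : Cfsg.IsExtraspecial p ↥P)
    (hcard : Nat.card P = p ^ 3) (hexp : Monoid.exponent ↥P = p)
    (A : Fin 3 → Subgroup G) (hA : Function.Injective A) (hAP : ∀ i, A i ≤ (P : Subgroup G))
    (hAcard : ∀ i, Nat.card ↥(A i) = p ^ 2)
    (hSL : ∀ i, ∀ φ : MulAut ↥(A i), orderOf φ = p → ∃ g : G, ∀ a : ↥(A i), (φ a : G) = g * (a : G) * g⁻¹) :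
    p ≤ 13 := by
  classical
  by_contra hgt
  push Not at hgt
  obtain ⟨a, b, z, F⟩ := exists_frame P hE hcard hexp
  choose u hu hu' hgood hzA using fun i => good_of_induced F (hAP i) (hAcard i) (hSL i)
  have key : ∀ i j, u i * u j = u j * u i → A i ≤ A j := by
    intro i j hc x hx
    have hmem : ∀ k, ∀ w ∈ Subgroup.zpowers z, w ∈ A k := fun k w hw => Subgroup.zpowers_le.2 (hzA k) hw
    obtain ⟨k, w, hw, he⟩ := F.of_comm (hAP i (hu i)) (hAP j (hu j)) (hu' j) hc
    have huij : u i ∈ A j := by rw [he]; exact mul_mem (hmem j w hw) (pow_mem (hu j) _)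
    haveI := IsPGroup.isMulCommutative_of_card_eq_prime_sq (hAcard i)
    have hcx : x * u i = u i * x := congrArg Subtype.val (mul_comm' (⟨x, hx⟩ : A i) ⟨u i, hu i⟩)
    obtain ⟨k', w', hw', rfl⟩ := F.of_comm (hAP i hx) (hAP i (hu i)) (hu' i) hcx
    exact mul_mem (hmem j w' hw') (pow_mem huij _)
  have hinj : ∀ i j, u i * u j = u j * u i → i = j := fun i j hc =>
    hA (le_antisymm (key i j hc) (key j i hc.symm))
  have hu3 : (Finset.univ.image u).card = 3 := by
    rw [Finset.card_image_of_injective _ (fun i j h => hinj i j (by rw [h])), Finset.card_univ, Fintype.card_fin]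
  have := card_good_le_two F (Or.inl hgt) (Finset.univ.image u) (fun v hv => by
      obtain ⟨i, -, rfl⟩ := Finset.mem_image.1 hv
      exact ⟨hAP i (hu i), hu' i, hgood i⟩)
    (fun v hv w hw h => by
      obtain ⟨i, -, rfl⟩ := Finset.mem_image.1 hv
      obtain ⟨j, -, rfl⟩ := Finset.mem_image.1 hw
      rw [hinj i j h])
  omega

theorem good_of_conj (F : Frame (P : Subgroup G) p a b z) {u : G} (hu : u ∈ (P : Subgroup G))
    (hu' : u ∉ Subgroup.zpowers z) {g : G} (hg : g * z * g⁻¹ = u) : Good p z u := by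
  let H : Subgroup G := Subgroup.centralizer {u}
  have hmemH : ∀ y : G, y ∈ H ↔ y * u = u * y := fun y => by
    rw [Subgroup.mem_centralizer_iff]
    simp [eq_comm]
  have hPH : ((g • P : Sylow p G) : Subgroup G) ≤ H := by
    rw [Sylow.coe_subgroup_smul]
    rintro y ⟨x, hx, rfl⟩
    rw [hmemH]
    show g * x * g⁻¹ * u = u * (g * x * g⁻¹)
    rw [← hg, conj_mul, conj_mul, F.cent x hx]
  have hzH : z ∈ H := (hmemH z).2 (F.cent u hu).symm
  have hzp : IsPGroup p (Subgroup.zpowers (⟨z, hzH⟩ : H)) := by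
    refine IsPGroup.of_card (n := 1) ?_
    rw [pow_one, Nat.card_zpowers, Subgroup.orderOf_mk]
    exact orderOf_eq_prime F.zpp F.hz1
  obtain ⟨Q, hQ⟩ := hzp.exists_le_sylow
  obtain ⟨⟨h, hh⟩, hQh⟩ := MulAction.exists_smul_eq ↥H ((g • P).subtype hPH) Q
  have hzQ : (⟨z, hzH⟩ : H) ∈ (Q : Subgroup H) := hQ (Subgroup.mem_zpowers _)
  rw [← hQh, Sylow.smul_subtype] at hzQ
  have hzc : z ∈ ((h • g • P : Sylow p G) : Subgroup G) := hzQ
  rw [← mul_smul, Sylow.coe_subgroup_smul] at hzc
  set c := h * g with hc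
  obtain ⟨x, hx, hxz⟩ : ∃ x ∈ (P : Subgroup G), c * x * c⁻¹ = z := by
    obtain ⟨x, hx, he⟩ := hzc
    exact ⟨x, hx, he⟩
  have hcz : c * z * c⁻¹ = u := by
    rw [hc, mul_inv_rev, show h * g * z * (g⁻¹ * h⁻¹) = h * (g * z * g⁻¹) * h⁻¹ by group, hg,
      (hmemH h).1 hh, mul_inv_cancel_right]
  have hxz' : x ∉ Subgroup.zpowers z := fun hm => by
    obtain ⟨k, rfl⟩ := exists_zp (p := p) F.zpp hm
    rw [conj_zp, hcz] at hxz
    have hk : k ≠ 0 := fun h0 => F.hz1 (by rw [← hxz, h0, zp_zero])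
    refine hu' ?_
    have : u = zp (zp u k) k⁻¹ := by rw [zp_zp (F.hexp u hu), mul_inv_cancel₀ hk, zp_one]
    rw [this, hxz]
    exact zp_mem _
  obtain ⟨v, hv, hvx⟩ : ∃ v ∈ (P : Subgroup G), lg p z v x ≠ 0 := by
    by_contra hcon
    push Not at hcon
    refine hxz' (F.mem_z hx ?_ (hcon a F.ha))
    rw [F.lg_antisymm F.hb hx, hcon b F.hb, neg_zero]
  intro t
  set k := t / lg p z v x
  have hy : zp v k ∈ (P : Subgroup G) := zp_memP hv k
  refine ⟨c * zp v k * c⁻¹, ?_, ?_⟩
  · rw [← hcz, show c * zp v k * c⁻¹ * (c * z * c⁻¹) * (c * zp v k * c⁻¹)⁻¹ =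
        c * (zp v k * z * (zp v k)⁻¹) * c⁻¹ by group, F.cent _ hy, mul_inv_cancel_right]
  · have e1 : zp v k * x * (zp v k)⁻¹ = zp z t * x := by
      have := F.lg_spec hy hx
      rw [F.lg_zp hv hx, show k * lg p z v x = t from div_mul_cancel₀ t hvx] at this
      rw [this, commutatorElement_def]
      group
    calc c * zp v k * c⁻¹ * z * (c * zp v k * c⁻¹)⁻¹
        = c * (zp v k * x * (zp v k)⁻¹) * c⁻¹ := by rw [← hxz]; group
      _ = (c * zp z t * c⁻¹) * (c * x * c⁻¹) := by rw [e1, conj_mul]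
      _ = zp u t * z := by rw [conj_zp, hcz, hxz]
      _ = z * zp u t := (F.cent _ (zp_memP hu t))

/-- All nonidentity elements conjugate forces `p ≤ 7`. -/
theorem all_conjugate (hp2 : p ≠ 2) (P : Sylow p G) (hE : Cfsg.IsExtraspecial p ↥P)
    (hcard : Nat.card P = p ^ 3) (hexp : Monoid.exponent ↥P = p)
    (hconj : ∀ x y : ↥P, x ≠ 1 → y ≠ 1 → ∃ g : G, g * (x : G) * g⁻¹ = (y : G)) :
    p ≤ 7 := by
  classical
  by_contra hgt
  push Not at hgt
  obtain ⟨a, b, z, F⟩ := exists_frame P hE hcard hexp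
  let u : ZMod p → G := fun i => a * zp b i
  have huP : ∀ i, u i ∈ (P : Subgroup G) := fun i => mul_mem F.ha (zp_memP F.hb i)
  have hub : ∀ i, lg p z (u i) b = 1 := fun i => by
    rw [F.lg_mul F.ha (zp_memP F.hb i) F.hb, F.lg_ab, F.lg_zp F.hb F.hb, F.lg_self F.hb, mul_zero, add_zero]
  have hau : ∀ i, lg p z a (u i) = i := fun i => by
    rw [F.lg_antisymm (huP i) F.ha, F.lg_mul F.ha (zp_memP F.hb i) F.ha, F.lg_zp F.hb F.ha,
      F.lg_self F.ha, F.lg_ba]
    ring
  have huz : ∀ i, u i ∉ Subgroup.zpowers z := fun i h => by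
    have := hub i
    rw [F.lg_z h F.hb] at this
    exact zero_ne_one this
  have hinj : ∀ i j, u i * u j = u j * u i → i = j := fun i j h => by
    have h0 := (F.lg_eq_zero_iff (huP i) (huP j)).2 h
    rw [F.lg_formula (huP i) (huP j), hub, hub, hau, hau] at h0
    linear_combination -h0
  have hgood : ∀ i, Good p z (u i) := fun i => by
    obtain ⟨g, hg⟩ := hconj ⟨z, F.zmem⟩ ⟨u i, huP i⟩ (fun h => F.hz1 (congrArg Subtype.val h))
      (fun h => huz i (by rw [show u i = 1 from congrArg Subtype.val h]; exact one_mem _))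
    exact good_of_conj F (huP i) (huz i) hg
  have hS : (Finset.univ.image u).card = p := by
    rw [Finset.card_image_of_injective _ (fun i j h => hinj i j (by rw [h])), Finset.card_univ, ZMod.card]
  have h1 : ∀ v ∈ Finset.univ.image u, v ∈ (P : Subgroup G) ∧ v ∉ Subgroup.zpowers z ∧ Good p z v :=
    fun v hv => by
      obtain ⟨i, -, rfl⟩ := Finset.mem_image.1 hv
      exact ⟨huP i, huz i, hgood i⟩
  have h2 : ∀ v ∈ Finset.univ.image u, ∀ w ∈ Finset.univ.image u, v * w = w * v → v = w :=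
    fun v hv w hw h => by
      obtain ⟨i, -, rfl⟩ := Finset.mem_image.1 hv
      obtain ⟨j, -, rfl⟩ := Finset.mem_image.1 hw
      rw [hinj i j h]
  by_cases h13 : p = 13
  · have := card_good_le_six F h13 _ h1 h2
    omega
  · have h11 : 13 < p ∨ p = 11 := by
      by_contra hc
      push Not at hc
      obtain ⟨hc1, hc2⟩ := hc
      have := hp.out
      interval_cases p <;> first | omega | norm_num at this
    have := card_good_le_two F h11 _ h1 h2
    omega

end Cfsg.Agent.CubePlane
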