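import Cfsg.Agent.Lib.Fusion.EssentialSmall
import Cfsg.Agent.Lib.Fusion.SmallCentreOdd
import Cfsg.Agent.Lib.Extraspecial.ExpSq
import Cfsg.Agent.Lib.LinearBlock.MonThree
import Cfsg.Agent.Lib.Transfer.PGroup
import Mathlib.Logic.Small.Basic

/-!
# Groups of order `p⁴` whose automorphism group has no normal Sylow subgroup
-/

set_option autoImplicit false

namespace Cfsg.Agent.EssentialFour

open Cfsg Cfsg.Agent.FusionSys
open scoped commutatorElement

variable {H : Type*} [Group H] [Finite H] {p : ℕ} [hp : Fact p.Prime]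

theorem not_series (hH : IsPGroup p H) (C : ℕ → Subgroup H) (n : ℕ) (hcard : Nat.card H = p ^ n)
    (hchar : ∀ i, (C i).Characteristic) (hmono : ∀ i < n, C i ≤ C (i + 1))
    (hc : ∀ i ≤ n, Nat.card (C i) = p ^ i) : IsPGroup p (commutator (MulAut H)) := by
  refine isPGroup_commutator_of_series hH C n (Subgroup.eq_bot_of_card_eq _ ((hc 0 n.zero_le).trans (pow_zero p)))
    (Subgroup.eq_top_of_card_eq _ ((hc n le_rfl).trans hcard.symm)) hchar fun i hi => ?_
  haveI := hchar i
  have hU := hc i hi.le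
  have hV := hc (i + 1) hi
  obtain ⟨x, hxV, hxU⟩ : ∃ x ∈ C (i + 1), x ∉ C i := by
    by_contra! h
    have := Subgroup.card_le_of_le (show C (i + 1) ≤ C i from h)
    rw [hU, hV] at this
    exact absurd ((Nat.pow_le_pow_iff_right hp.out.one_lt).1 this) (by omega)
  refine ⟨x, hxV, fun y hy => ?_⟩
  have hle : C i ⊔ Subgroup.zpowers x ≤ C (i + 1) := sup_le (hmono i hi) (Subgroup.zpowers_le.2 hxV)
  obtain ⟨j, -, hj⟩ := (Nat.dvd_prime_pow hp.out).1 (hcard ▸ (C i ⊔ Subgroup.zpowers x).card_subgroup_dvd_card)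
  have htop : C i ⊔ Subgroup.zpowers x = C (i + 1) := by
    refine Subgroup.eq_of_le_of_card_ge hle ?_
    rw [hV, hj]
    refine Nat.pow_le_pow_right hp.out.pos ?_
    by_contra hlt
    have hge : Nat.card (C i ⊔ Subgroup.zpowers x : Subgroup H) ≤ Nat.card (C i) := by
      rw [hj, hU]; exact Nat.pow_le_pow_right hp.out.pos (by omega)
    exact hxU ((Subgroup.eq_of_le_of_card_ge le_sup_left hge).ge
      (Subgroup.mem_sup_right (Subgroup.mem_zpowers x)))
  rw [← htop] at hy
  obtain ⟨u, hu, v, hv, rfl⟩ := Subgroup.mem_sup_of_normal_left.1 hy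
  obtain ⟨k, rfl⟩ := Subgroup.mem_zpowers_iff.1 hv
  exact ⟨k, by rwa [mul_inv_cancel_right]⟩

theorem not_chain4 (hH : IsPGroup p H) (hcard : Nat.card H = p ^ 4) (hno : ¬ IsPGroup p (commutator (MulAut H)))
    (A B C : Subgroup H) (hA : A.Characteristic) (hB : B.Characteristic) (hC : C.Characteristic) (hAB : A ≤ B)
    (hBC : B ≤ C) (h1 : Nat.card A = p) (h2 : Nat.card B = p ^ 2) (h3 : Nat.card C = p ^ 3) : False := by
  refine hno (not_series hH (fun i => if i = 0 then ⊥ else if i = 1 then A else if i = 2 then B else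
    if i = 3 then C else ⊤) 4 hcard (fun i => ?_) (fun i hi => ?_) (fun i hi => ?_))
  · haveI := hA; haveI := hB; haveI := hC
    split_ifs <;> infer_instance
  · interval_cases i <;> simp [hAB, hBC]
  · interval_cases i <;> simp [h1, h2, h3, hcard]

theorem card_index {U : Subgroup H} {n k : ℕ} (hcard : Nat.card H = p ^ n) (hk : Nat.card U = p ^ k)
    (hkn : k ≤ n) : U.index = p ^ (n - k) :=
  Nat.eq_of_mul_eq_mul_left (pow_pos hp.out.pos k)
    (by rw [← pow_add, Nat.add_sub_cancel' hkn, ← hcard, ← hk, Subgroup.card_mul_index])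

/-- Rank three abelian groups of order `p⁴`. -/
theorem rank_three {H : Type*} [CommGroup H] [Finite H] (hcard : Nat.card H = p ^ 4) {a : H} (ha : a ^ p ≠ 1)
    (hsq : ∀ x : H, x ^ (p * p) = 1) (hK : Nat.card (powMonoidHom p : H →* H).ker = p ^ 3) :
    Nonempty (H ≃* Multiplicative (ZMod (p ^ 2) × ZMod p × ZMod p)) := by
  classical
  set K := (powMonoidHom p : H →* H).ker with hKdef
  have hKp : ∀ x ∈ K, x ^ p = 1 := fun x hx => hx
  have grow : ∀ U : Subgroup H, U ≤ K → Nat.card U < p ^ 3 → ∃ b ∈ K, b ∉ U := by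
    intro U _ hlt
    by_contra! h
    have := Subgroup.card_le_of_le (show K ≤ U from h)
    omega
  have hord : ∀ x ∈ K, Nat.card (Subgroup.zpowers x) ≤ p := fun x hx => by
    rw [Nat.card_zpowers]; exact orderOf_le_of_pow_eq_one hp.out.pos (hKp x hx)
  have hsup : ∀ U V : Subgroup H, Nat.card (U ⊔ V : Subgroup H) ≤ Nat.card U * Nat.card V := fun U V => by
    rw [← Nat.card_prod]
    refine Nat.card_le_card_of_surjective (fun uv : U × V => (⟨(uv.1 : H) * uv.2,
      mul_mem (Subgroup.mem_sup_left uv.1.2) (Subgroup.mem_sup_right uv.2.2)⟩ : (U ⊔ V : Subgroup H))) fun w => ?_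
    obtain ⟨u, hu, v, hv, he⟩ := Subgroup.mem_sup.1 w.2
    exact ⟨(⟨u, hu⟩, ⟨v, hv⟩), Subtype.ext he⟩
  have hapK : a ^ p ∈ K := show (a ^ p) ^ p = 1 by rw [← pow_mul]; exact hsq a
  set U1 := Subgroup.zpowers (a ^ p)
  have hp1 := hp.out.one_lt
  have hU1 : U1 ≤ K := Subgroup.zpowers_le.2 hapK
  obtain ⟨b, hbK, hbU⟩ := grow U1 hU1 (lt_of_le_of_lt (hord _ hapK)
    (by simpa using Nat.pow_lt_pow_right hp1 (show 1 < 3 by norm_num)))
  set U2 := U1 ⊔ Subgroup.zpowers b
  have hU2c : Nat.card U2 ≤ p * p := (hsup _ _).trans (Nat.mul_le_mul (hord _ hapK) (hord _ hbK))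
  have hU2 : U2 ≤ K := sup_le hU1 (Subgroup.zpowers_le.2 hbK)
  obtain ⟨c, hcK, hcU⟩ := grow U2 hU2 (lt_of_le_of_lt hU2c
    (by rw [← sq]; exact Nat.pow_lt_pow_right hp1 (by norm_num)))
  haveI : NeZero (p ^ 2) := ⟨pow_ne_zero 2 hp.out.ne_zero⟩
  haveI : NeZero p := ⟨hp.out.ne_zero⟩
  let one1 : ∀ (m : ℕ) [NeZero m] (g : H), g ^ m = 1 → Multiplicative (ZMod m) →* H := fun m _ g hg =>
    { toFun := fun i => g ^ (Multiplicative.toAdd i).val
      map_one' := by simp
      map_mul' := fun i j => by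
        show g ^ (Multiplicative.toAdd i + Multiplicative.toAdd j).val = _
        rw [ZMod.val_add, ← pow_add, ← pow_mod_orderOf g (_ % m),
          Nat.mod_mod_of_dvd _ (orderOf_dvd_of_pow_eq_one hg), pow_mod_orderOf] }
  let f : Multiplicative (ZMod (p ^ 2) × ZMod p × ZMod p) →* H :=
    { toFun := fun v => one1 (p ^ 2) a (by rw [sq]; exact hsq a) (Multiplicative.ofAdd (Multiplicative.toAdd v).1) *
        (one1 p b hbK (Multiplicative.ofAdd (Multiplicative.toAdd v).2.1) *
         one1 p c hcK (Multiplicative.ofAdd (Multiplicative.toAdd v).2.2))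
      map_one' := by simp
      map_mul' := fun v w => by
        simp only [toAdd_mul, Prod.fst_add, Prod.snd_add, ofAdd_add, map_mul]
        ac_rfl }
  have hone : ∀ (m : ℕ) [NeZero m] [Fact (1 < m)] (g : H) (hg : g ^ m = 1),
      one1 m g hg (Multiplicative.ofAdd 1) = g := fun m _ _ g hg => by
    show g ^ (1 : ZMod m).val = g
    rw [ZMod.val_one, pow_one]
  haveI : Fact (1 < p) := ⟨hp1⟩
  haveI : Fact (1 < p ^ 2) := ⟨Nat.one_lt_pow two_ne_zero hp1⟩
  have haR : a ∈ f.range := ⟨Multiplicative.ofAdd (1, 0, 0), by simp [f, hone]⟩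
  have hbR : b ∈ f.range := ⟨Multiplicative.ofAdd (0, 1, 0), by simp [f]; exact hone p b hbK⟩
  have hcR : c ∈ f.range := ⟨Multiplicative.ofAdd (0, 0, 1), by simp [f]; exact hone p c hcK⟩
  have hle : U2 ⊔ Subgroup.zpowers c ≤ f.range ⊓ K := sup_le (sup_le
    (Subgroup.zpowers_le.2 ⟨pow_mem haR p, hapK⟩) (Subgroup.zpowers_le.2 ⟨hbR, hbK⟩))
    (Subgroup.zpowers_le.2 ⟨hcR, hcK⟩)
  have hap1 : U1 ≠ ⊥ := fun h => ha (Subgroup.mem_bot.1 (h ▸ Subgroup.mem_zpowers (a ^ p)))
  have hlt1 : ⊥ < U1 := bot_lt_iff_ne_bot.2 hap1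
  have hlt2 : U1 < U2 := lt_of_le_not_ge le_sup_left fun h =>
    hbU (h (Subgroup.mem_sup_right (Subgroup.mem_zpowers b)))
  have hlt3 : U2 < U2 ⊔ Subgroup.zpowers c := lt_of_le_not_ge le_sup_left fun h =>
    hcU (h (Subgroup.mem_sup_right (Subgroup.mem_zpowers c)))
  have hlt4 : U2 ⊔ Subgroup.zpowers c < f.range := lt_of_le_not_ge (hle.trans inf_le_left) fun h =>
    ha ((hle (h haR)).2)
  have step : ∀ U V : Subgroup H, U < V → p * Nat.card U ≤ Nat.card V := fun U V h => by
    obtain ⟨i, -, hi⟩ := (Nat.dvd_prime_pow hp.out).1 (hcard ▸ U.card_subgroup_dvd_card)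
    obtain ⟨j, -, hj⟩ := (Nat.dvd_prime_pow hp.out).1 (hcard ▸ V.card_subgroup_dvd_card)
    rw [hi, hj, ← pow_succ']
    refine Nat.pow_le_pow_right hp.out.pos (Nat.succ_le_of_lt ?_)
    by_contra hij
    exact h.ne (Subgroup.eq_of_le_of_card_ge h.le (by rw [hi, hj]; exact Nat.pow_le_pow_right hp.out.pos (by omega)))
  have hbig : p ^ 4 ≤ Nat.card f.range := by
    have e1 := step _ _ hlt1
    rw [Subgroup.card_bot, mul_one] at e1
    calc p ^ 4 = p * (p * (p * p)) := by ring
      _ ≤ p * (p * Nat.card U2) := Nat.mul_le_mul_left p (Nat.mul_le_mul_left p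
          ((Nat.mul_le_mul_left p e1).trans (step _ _ hlt2)))
      _ ≤ p * Nat.card (U2 ⊔ Subgroup.zpowers c : Subgroup H) := Nat.mul_le_mul_left p (step _ _ hlt3)
      _ ≤ Nat.card f.range := step _ _ hlt4
  have hsurj : Function.Surjective f := MonoidHom.range_eq_top.1
    (Subgroup.eq_top_of_le_card _ (by rw [hcard]; exact hbig))
  refine ⟨(MulEquiv.ofBijective f ((Nat.bijective_iff_surjective_and_card f).2 ⟨hsurj, ?_⟩)).symm⟩
  rw [hcard, Nat.card_congr Multiplicative.toAdd, Nat.card_prod, Nat.card_prod, Nat.card_zmod, Nat.card_zmod]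
  ring

/-- The centre cannot have order `p`. -/
theorem center_ne_prime (hH : IsPGroup p H) (hcard : Nat.card H = p ^ 4)
    (hno : ¬ IsPGroup p (commutator (MulAut H))) : Nat.card (Subgroup.center H) ≠ p := by
  intro hZ
  set Z := Subgroup.center H with hZdef
  haveI hZc : Z.Characteristic := Subgroup.centerCharacteristic
  have hQ : Nat.card (H ⧸ Z) = p ^ 3 := by
    rw [← Subgroup.index_eq_card, card_index hcard (hZ.trans (pow_one p).symm) (by norm_num)]
  have hQp : IsPGroup p (H ⧸ Z) := hH.to_quotient Z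
  haveI : Nontrivial (H ⧸ Z) := (IsPGroup.nontrivial_iff_card hQp).2 ⟨3, by norm_num, hQ⟩
  obtain ⟨w, hw, hwk⟩ := (Nat.dvd_prime_pow hp.out).1 (hQ ▸ (Subgroup.center (H ⧸ Z)).card_subgroup_dvd_card)
  have hw0 : w ≠ 0 := fun h => by
    haveI := hQp.center_nontrivial
    have := Finite.one_lt_card (α := Subgroup.center (H ⧸ Z))
    rw [hwk, h, pow_zero] at this
    exact lt_irrefl _ this
  set Z2 := (Subgroup.center (H ⧸ Z)).comap (QuotientGroup.mk' Z) with hZ2
  have hZ2c : Z2.Characteristic := Subgroup.Characteristic.comap_quotient_mk Subgroup.centerCharacteristic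
  have hZle : Z ≤ Z2 := fun z hz => Subgroup.mem_comap.2 (by
    rw [show QuotientGroup.mk' Z z = 1 from (QuotientGroup.eq_one_iff z).2 hz]; exact one_mem _)
  have hcomm : ∀ u ∈ Z2, ∀ h : H, ⁅h, u⁆ ∈ Z := fun u hu h => by
    rw [← QuotientGroup.eq_one_iff]
    exact (map_commutatorElement (QuotientGroup.mk' Z) h u).trans
      (commutatorElement_eq_one_iff_mul_comm.2 (Subgroup.mem_center_iff.1 hu _))
  obtain ⟨u, huZ2, huZ⟩ : ∃ u ∈ Z2, u ∉ Z := by
    haveI : Nontrivial (Subgroup.center (H ⧸ Z)) := hQp.center_nontrivial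
    obtain ⟨⟨q, hq⟩, hq1⟩ := exists_ne (1 : Subgroup.center (H ⧸ Z))
    obtain ⟨u, rfl⟩ := QuotientGroup.mk_surjective q
    exact ⟨u, hq, fun h => hq1 (Subtype.ext ((QuotientGroup.eq_one_iff u).2 h))⟩
  let δ : H →* Z :=
    { toFun := fun h => ⟨⁅h, u⁆, hcomm u huZ2 h⟩
      map_one' := Subtype.ext (commutatorElement_one_left u)
      map_mul' := fun g h => Subtype.ext (by
        show ⁅g * h, u⁆ = ⁅g, u⁆ * ⁅h, u⁆
        have hc := Subgroup.mem_center_iff.1 (hcomm u huZ2 h) g
        have : ⁅g * h, u⁆ = g * ⁅h, u⁆ * g⁻¹ * ⁅g, u⁆ := by simp only [commutatorElement_def]; group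
        rw [this, hc, mul_inv_cancel_right]
        exact (Subgroup.mem_center_iff.1 (hcomm u huZ2 h) _).symm) }
  have hδ : δ.ker.index = p := by
    rw [Subgroup.index_ker]
    haveI : Fact (Nat.card Z).Prime := ⟨hZ ▸ hp.out⟩
    rcases δ.range.eq_bot_or_eq_top_of_prime_card with h | h
    · refine absurd (Subgroup.mem_center_iff.2 fun g => ?_) huZ
      have h1 : δ g = 1 := Subgroup.mem_bot.1 (h ▸ ⟨g, rfl⟩)
      exact commutatorElement_eq_one_iff_mul_comm.1 (congrArg Subtype.val h1)
    · rw [h, Subgroup.card_top, hZ]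
  have hK : Nat.card δ.ker = p ^ 3 := by
    refine Nat.eq_of_mul_eq_mul_right hp.out.pos ?_
    conv_lhs => rw [← hδ]
    rw [Subgroup.card_mul_index, hcard, ← pow_succ]
  have hw1 : w = 1 := by
    by_contra hw1
    have hne : w ≠ 2 := fun h2 => by
      subst h2
      haveI : IsCyclic ((H ⧸ Z) ⧸ Subgroup.center (H ⧸ Z)) := isCyclic_of_prime_card (p := p)
        (Nat.eq_of_mul_eq_mul_right (pow_pos hp.out.pos 2)
          (by rw [← hwk, ← Subgroup.card_eq_card_quotient_mul_card_subgroup, hQ, hwk, ← pow_succ']))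
      have hab := commutative_of_cyclic_center_quotient (QuotientGroup.mk' (Subgroup.center (H ⧸ Z)))
        (QuotientGroup.ker_mk' _).le
      have : Subgroup.center (H ⧸ Z) = ⊤ := eq_top_iff.2 fun g _ => Subgroup.mem_center_iff.2 fun h => hab h g
      rw [this, Subgroup.card_top, hQ] at hwk
      exact absurd (Nat.pow_right_injective hp.out.two_le hwk) (by norm_num)
    have hw3 : w = 3 := by omega
    subst hw3
    -- class two: the kernel is abelian of index `p`
    have htop : Subgroup.center (H ⧸ Z) = ⊤ := Subgroup.eq_top_of_card_eq _ (hwk.trans hQ.symm)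
    have hcl : ∀ x y : H, ⁅x, y⁆ ∈ Z := fun x y => hcomm y (Subgroup.mem_comap.2 (htop ▸ trivial)) x
    have huK : u ∈ δ.ker := Subtype.ext (commutatorElement_self u)
    have hKab : ∀ g ∈ δ.ker, ∀ h ∈ δ.ker, g * h = h * g := by
      have hlt : Z < Z ⊔ Subgroup.zpowers u := lt_of_le_not_ge le_sup_left fun h =>
        huZ (h (Subgroup.mem_sup_right (Subgroup.mem_zpowers u)))
      have hcu : Subgroup.zpowers u ⊔ Z ≤ (Subgroup.center δ.ker).map δ.ker.subtype := by
        refine sup_le (Subgroup.zpowers_le.2 ⟨⟨u, huK⟩, Subgroup.mem_center_iff.2 fun g => Subtype.ext ?_, rfl⟩)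
          fun z hz => ?_
        · exact commutatorElement_eq_one_iff_mul_comm.1 (congrArg Subtype.val g.2)
        · have hzK : z ∈ δ.ker := Subtype.ext (commutatorElement_eq_one_iff_mul_comm.2
            (Subgroup.mem_center_iff.1 hz u).symm)
          exact ⟨⟨z, hzK⟩, Subgroup.mem_center_iff.2 fun g => Subtype.ext (Subgroup.mem_center_iff.1 hz g), rfl⟩
      have hcz : p ^ 2 ≤ Nat.card (Subgroup.center δ.ker) := by
        obtain ⟨j, -, hj⟩ := (Nat.dvd_prime_pow hp.out).1 (hcard ▸ (Z ⊔ Subgroup.zpowers u).card_subgroup_dvd_card)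
        have h2 : p ^ 2 ≤ p ^ j := by
          refine Nat.pow_le_pow_right hp.out.pos ?_
          by_contra hj2
          refine hlt.ne (Subgroup.eq_of_le_of_card_ge le_sup_left ?_)
          rw [hj, hZ]
          exact (Nat.pow_le_pow_right hp.out.pos (by omega)).trans (pow_one p).le
        rw [← hj] at h2
        refine h2.trans ?_
        rw [sup_comm, ← Subgroup.card_map_of_injective δ.ker.subtype_injective]
        exact Subgroup.card_le_of_le hcu
      have hcyc : IsCyclic (δ.ker ⧸ Subgroup.center δ.ker) := by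
        obtain ⟨j, hj3, hj⟩ := (Nat.dvd_prime_pow hp.out).1 (hK ▸ (Subgroup.center δ.ker).card_subgroup_dvd_card)
        have hmul := (Subgroup.center δ.ker).card_eq_card_quotient_mul_card_subgroup
        rw [hj] at hcz
        have hj2 : 2 ≤ j := (Nat.pow_le_pow_iff_right hp.out.one_lt).1 hcz
        rw [hK, hj] at hmul
        obtain rfl | rfl : j = 2 ∨ j = 3 := by omega
        · exact isCyclic_of_prime_card (p := p)
            (Nat.eq_of_mul_eq_mul_right (pow_pos hp.out.pos 2) (by rw [← hmul, ← pow_succ']))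
        · haveI : Subsingleton (δ.ker ⧸ Subgroup.center δ.ker) := Finite.card_le_one_iff_subsingleton.1
            (le_of_eq (Nat.eq_of_mul_eq_mul_right (pow_pos hp.out.pos 3) (hmul.symm.trans (one_mul _).symm)))
          infer_instance
      exact fun g hg h hh => congrArg Subtype.val (commutative_of_cyclic_center_quotient
        (QuotientGroup.mk' (Subgroup.center δ.ker)) (QuotientGroup.ker_mk' _).le ⟨g, hg⟩ ⟨h, hh⟩)
    obtain ⟨x, hx⟩ : ∃ x, x ∉ δ.ker := by
      by_contra! h
      rw [show δ.ker = ⊤ from eq_top_iff.2 fun g _ => h g, Subgroup.index_top] at hδ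
      exact hp.out.ne_one hδ.symm
    -- the centralizer of `x` in the kernel is central
    let ε : δ.ker →* Z :=
      { toFun := fun k => ⟨⁅(k : H), x⁆, hcl k x⟩
        map_one' := Subtype.ext (commutatorElement_one_left x)
        map_mul' := fun g h => Subtype.ext (by
          show ⁅(g : H) * h, x⁆ = ⁅(g : H), x⁆ * ⁅(h : H), x⁆
          have hc := Subgroup.mem_center_iff.1 (hcl h x) g
          have : ⁅(g : H) * h, x⁆ = g * ⁅(h : H), x⁆ * (g : H)⁻¹ * ⁅(g : H), x⁆ := by
            simp only [commutatorElement_def]; group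
          rw [this, hc, mul_inv_cancel_right]
          exact (Subgroup.mem_center_iff.1 (hcl h x) _).symm) }
    have hεk : ε.ker.map δ.ker.subtype ≤ Z := by
      rintro _ ⟨k, hk, rfl⟩
      refine Subgroup.mem_center_iff.2 fun g => ?_
      have hle : δ.ker ⊔ Subgroup.zpowers x ≤ Subgroup.centralizer {(k : H)} := sup_le
        (fun g hg => Subgroup.mem_centralizer_iff.2 fun m hm => by
          rw [Set.mem_singleton_iff.1 hm]; exact hKab _ k.2 g hg)
        (Subgroup.zpowers_le.2 (Subgroup.mem_centralizer_iff.2 fun m hm => by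
          rw [Set.mem_singleton_iff.1 hm]
          exact commutatorElement_eq_one_iff_mul_comm.1 (congrArg Subtype.val hk)))
      have htop : δ.ker ⊔ Subgroup.zpowers x = ⊤ := by
        refine Subgroup.index_eq_one.1 (((Nat.dvd_prime hp.out).1
          (hδ ▸ Subgroup.index_dvd_of_le (le_sup_left (b := Subgroup.zpowers x)))).resolve_right fun h => ?_)
        have hrel := Subgroup.relIndex_mul_index (le_sup_left (a := δ.ker) (b := Subgroup.zpowers x))
        rw [h, hδ] at hrel
        have : δ.ker.relIndex (δ.ker ⊔ Subgroup.zpowers x) = 1 :=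
          Nat.eq_of_mul_eq_mul_right hp.out.pos (hrel.trans (one_mul p).symm)
        exact hx (Subgroup.relIndex_eq_one.1 this (Subgroup.mem_sup_right (Subgroup.mem_zpowers x)))
      exact (Subgroup.mem_centralizer_iff.1 (hle (htop ▸ Subgroup.mem_top g)) k rfl).symm
    have h1 := Subgroup.card_le_of_le hεk
    rw [Subgroup.card_map_of_injective δ.ker.subtype_injective, hZ] at h1
    have h2 := ε.ker.card_mul_index
    rw [Subgroup.index_ker, hK] at h2
    have h3 : Nat.card ε.range ≤ p := hZ ▸ Subgroup.card_le_card_group _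
    have h4 : p ^ 3 ≤ p * p := h2 ▸ Nat.mul_le_mul h1 h3
    rw [← sq] at h4
    exact absurd ((Nat.pow_le_pow_iff_right hp.out.one_lt).1 h4) (by norm_num)
  subst hw1
  have hZ2card : Nat.card Z2 = p ^ 2 := by
    have h := Z2.card_mul_index
    rw [hZ2, Subgroup.index_comap_of_surjective _ (QuotientGroup.mk'_surjective Z),
      card_index hQ hwk (by norm_num), hcard] at h
    exact Nat.eq_of_mul_eq_mul_right (pow_pos hp.out.pos 2) (h.trans (by ring))
  have hgen : Z2 = Z ⊔ Subgroup.zpowers u := by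
    refine (Subgroup.eq_of_le_of_card_ge (sup_le hZle (Subgroup.zpowers_le.2 huZ2)) ?_).symm
    obtain ⟨j, -, hj⟩ := (Nat.dvd_prime_pow hp.out).1 (hcard ▸ (Z ⊔ Subgroup.zpowers u).card_subgroup_dvd_card)
    rw [hZ2card, hj]
    refine Nat.pow_le_pow_right hp.out.pos ?_
    by_contra hj2
    refine huZ ((Subgroup.eq_of_le_of_card_ge (le_sup_left (a := Z) (b := Subgroup.zpowers u)) ?_).ge
      (Subgroup.mem_sup_right (Subgroup.mem_zpowers u)))
    rw [hj, hZ]
    exact (Nat.pow_le_pow_right hp.out.pos (by omega)).trans (pow_one p).le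
  have hCeq : Subgroup.centralizer (Z2 : Set H) = δ.ker := by
    refine le_antisymm (fun g hg => Subtype.ext (commutatorElement_eq_one_iff_mul_comm.2 ?_)) fun g hg => ?_
    · exact (Subgroup.mem_centralizer_iff.1 hg u huZ2).symm
    · rw [Subgroup.mem_centralizer_iff]
      intro m hm
      have hle : Z ⊔ Subgroup.zpowers u ≤ Subgroup.centralizer {g} := sup_le (Subgroup.center_le_centralizer _)
        (Subgroup.zpowers_le.2 (Subgroup.mem_centralizer_iff.2 fun n hn => by
          rw [Set.mem_singleton_iff.1 hn]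
          exact commutatorElement_eq_one_iff_mul_comm.1 (congrArg Subtype.val hg)))
      exact (Subgroup.mem_centralizer_iff.1 (hle (hgen ▸ (hm : m ∈ Z2))) g rfl).symm
  haveI := hZ2c
  have hCc : (Subgroup.centralizer (Z2 : Set H)).Characteristic := inferInstance
  refine not_chain4 hH hcard hno Z Z2 _ hZc hZ2c hCc hZle ?_ hZ hZ2card (hCeq ▸ hK)
  rw [hCeq, hgen]
  exact sup_le (fun z hz => Subtype.ext (commutatorElement_eq_one_iff_mul_comm.2
    (Subgroup.mem_center_iff.1 hz u).symm)) (Subgroup.zpowers_le.2 (Subtype.ext (commutatorElement_self u)))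

theorem le_pow_of_lt {U V : Subgroup H} {n k : ℕ} (hcard : Nat.card H = p ^ n) (h : U < V)
    (hk : p ^ k ≤ Nat.card U) : p ^ (k + 1) ≤ Nat.card V := by
  obtain ⟨i, -, hi⟩ := (Nat.dvd_prime_pow hp.out).1 (hcard ▸ U.card_subgroup_dvd_card)
  obtain ⟨j, -, hj⟩ := (Nat.dvd_prime_pow hp.out).1 (hcard ▸ V.card_subgroup_dvd_card)
  rw [hi] at hk
  rw [hj]
  refine Nat.pow_le_pow_right hp.out.pos ?_
  have h1 := (Nat.pow_le_pow_iff_right hp.out.one_lt).1 hk
  by_contra hij
  exact h.ne (Subgroup.eq_of_le_of_card_ge h.le (by rw [hi, hj]; exact Nat.pow_le_pow_right hp.out.pos (by omega)))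

theorem card_range_eq_of_ne {G : Type*} [Group G] [Finite G] {f : H →* G} (hG : Nat.card G = p) {x : H} (hx : f x ≠ 1) :
    f.ker.index = p := by
  haveI : Fact (Nat.card G).Prime := ⟨hG ▸ hp.out⟩
  rw [Subgroup.index_ker]
  rcases f.range.eq_bot_or_eq_top_of_prime_card with h | h
  · exact absurd (Subgroup.mem_bot.1 (h ▸ ⟨x, rfl⟩)) hx
  · rw [h, Subgroup.card_top, hG]

/-- In order `2⁴` with centre `Z ≅ 2²` and squares in `C = H' = {1, e}`: every non-central element squares to `e`,
or there is a characteristic chain. -/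
theorem sq_eq_of_two {H : Type*} [Group H] [Finite H] (hH : IsPGroup 2 H) (hcard : Nat.card H = 2 ^ 4)
    (hno : ¬ IsPGroup 2 (commutator (MulAut H))) (hZ : Nat.card (Subgroup.center H) = 2 ^ 2) {C : Subgroup H}
    (hC : C.Characteristic) (hCZ : C ≤ Subgroup.center H) (hCc : Nat.card C = 2) {e : H}
    (hCe : ∀ x, x ∈ C ↔ (x = 1 ∨ x = e)) (hcl : ∀ x y : H, ⁅x, y⁆ ∈ C) (hsq : ∀ x : H, x ^ 2 ∈ C)
    (hz : ∀ z ∈ Subgroup.center H, z ^ 2 = 1) :
    ∀ x : H, x ∉ Subgroup.center H → x ^ 2 = e := by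
  haveI : Fact (Nat.Prime 2) := ⟨Nat.prime_two⟩
  set Z := Subgroup.center H with hZdef
  have hnab : ¬ ∀ a b : H, a * b = b * a := fun h => by
    have : Z = ⊤ := eq_top_iff.2 fun g _ => Subgroup.mem_center_iff.2 fun x => h x g
    rw [this, Subgroup.card_top, hcard] at hZ
    norm_num at hZ
  obtain ⟨a, ha⟩ : ∃ a : H, a ^ 2 ≠ 1 := by
    by_contra! h
    refine hnab fun a b => ?_
    have i : ∀ c : H, c⁻¹ = c := fun c => inv_eq_of_mul_eq_one_right (by rw [← sq]; exact h c)
    calc a * b = (a * b)⁻¹ := (i _).symm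
      _ = b * a := by rw [mul_inv_rev, i, i]
  have hae : ∀ x : H, x ^ 2 ≠ 1 → x ^ 2 = e := fun x hx => ((hCe _).1 (hsq x)).resolve_left hx
  by_contra! hex
  obtain ⟨t, htZ, hte⟩ := hex
  have ht : t ^ 2 = 1 := ((hCe _).1 (hsq t)).resolve_right hte
  have haZ : a ∉ Z := fun h => ha (hz a h)
  set M := Z ⊔ Subgroup.zpowers a with hM
  have hcsq : ∀ c ∈ Z, ∀ x : H, (c * x) ^ 2 = x ^ 2 := fun c hc x => by
    rw [Commute.mul_pow (show Commute c x from (Subgroup.mem_center_iff.1 hc x).symm), hz c hc, one_mul]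
  have haa : a * a ∈ Z := by rw [← sq]; exact hCZ (hsq a)
  have hev : ∀ y ∈ M, y ∈ Z ∨ ∃ c ∈ Z, y = c * a := by
    intro y hy
    obtain ⟨c, hc, w, hw, rfl⟩ := Subgroup.mem_sup_of_normal_left.1 hy
    obtain ⟨i, rfl⟩ := Subgroup.mem_zpowers_iff.1 hw
    rcases Int.even_or_odd i with ⟨m, rfl⟩ | ⟨m, rfl⟩
    · left; refine mul_mem hc ?_
      rw [← two_mul, zpow_mul, zpow_ofNat, sq]; exact zpow_mem haa m
    · right
      refine ⟨c * a ^ (2 * m), mul_mem hc ?_, by rw [mul_assoc, ← zpow_add_one]⟩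
      rw [zpow_mul, zpow_ofNat, sq]; exact zpow_mem haa m
  have hMc : Nat.card M = 2 ^ 3 := by
    refine le_antisymm ?_ (le_pow_of_lt (k := 2) hcard (lt_of_le_not_ge le_sup_left fun h =>
      haZ (h (Subgroup.mem_sup_right (Subgroup.mem_zpowers a)))) hZ.ge)
    refine (Nat.card_le_card_of_surjective (fun w : Z × Bool => (⟨(w.1 : H) * if w.2 then a else 1,
      mul_mem (Subgroup.mem_sup_left w.1.2) (by
        split_ifs
        exacts [Subgroup.mem_sup_right (Subgroup.mem_zpowers a), one_mem _])⟩ : M)) fun y => ?_).trans ?_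
    · rcases hev y y.2 with h | ⟨c, hc, he⟩
      · exact ⟨(⟨y, h⟩, false), Subtype.ext (mul_one _)⟩
      · exact ⟨(⟨c, hc⟩, true), Subtype.ext he.symm⟩
    · rw [Nat.card_prod, hZ, Nat.card_eq_fintype_card (α := Bool), Fintype.card_bool]; norm_num
  have hMi : M.index = 2 := (card_index hcard hMc (by norm_num)).trans (pow_one 2)
  have hkey : ∀ x : H, x ^ 2 ≠ 1 → x ∈ M := fun b hb => by
    by_contra hbM
    have hne : a * b ≠ b * a := fun h => by
      refine hbM (Subgroup.mem_sup_left (Subgroup.mem_center_iff.2 fun g => ?_))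
      have hcb : ∀ g : H, g ∈ M → Commute g b := fun g hg => by
        rcases hev g hg with hg' | ⟨c, hc, rfl⟩
        · exact (Subgroup.mem_center_iff.1 hg' b).symm
        · exact Commute.mul_left (Subgroup.mem_center_iff.1 hc b).symm h
      by_cases hg : g ∈ M
      · exact hcb g hg
      · have := hcb _ ((Subgroup.mul_mem_iff_of_index_two hMi).2
          (iff_of_false hg (fun hc => hbM (by simpa using M.inv_mem hc)) : g ∈ M ↔ b⁻¹ ∈ M))
        calc g * b = (g * b⁻¹ * b) * b := by group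
          _ = b * (g * b⁻¹) * b := by rw [this.eq]
          _ = b * g := by group
    have hcz : ⁅b, a⁆ = e := ((hCe _).1 (hcl b a)).resolve_left fun h =>
      hne (commutatorElement_eq_one_iff_mul_comm.1 h).symm
    have heZ : e ∈ Z := hCZ ((hCe e).2 (Or.inr rfl))
    have hec : ∀ g : H, Commute e g := fun g => (Subgroup.mem_center_iff.1 heZ g).symm
    have hba : b * a = e * (a * b) := by rw [← hcz, commutatorElement_def]; group
    have hab2 : (a * b) ^ 2 = e := by
      rw [Cfsg.Agent.ExpSq.mul_pow_of_central hba (hec a) (hec b) 2, hae a ha, hae b hb]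
      simp [← sq, hz e heZ]
    by_cases htM : t ∈ M
    · rcases hev t htM with h | ⟨c, hc, rfl⟩
      · exact htZ h
      · exact hte ((hcsq c hc a).trans (hae a ha))
    · rcases hev _ ((Subgroup.mul_mem_iff_of_index_two hMi).2
        (iff_of_false htM (fun hc => hbM (by simpa using M.inv_mem hc)) : t ∈ M ↔ b⁻¹ ∈ M)) with h | ⟨c, hc, hce⟩
      · have := hcsq _ h b
        rw [inv_mul_cancel_right, hae b hb] at this
        exact hte this
      · have := hcsq c hc (a * b)
        rw [← mul_assoc, ← hce, inv_mul_cancel_right, hab2] at this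
        exact hte this
  refine not_chain4 hH hcard hno C Z M hC Subgroup.centerCharacteristic
    (Subgroup.characteristic_iff_le_comap.2 fun φ x hx => ?_) hCZ le_sup_left hCc hZ hMc
  rcases hev x hx with h | ⟨c, hc, rfl⟩
  · exact Subgroup.mem_sup_left
      (Subgroup.characteristic_iff_le_comap.1 Subgroup.centerCharacteristic φ h)
  · refine hkey _ ?_
    rw [← map_pow, hcsq c hc a]
    exact fun h => ha (φ.injective (h.trans (map_one φ).symm))

/-- Centre of order `p²`. -/
theorem center_sq (hH : IsPGroup p H) (hcard : Nat.card H = p ^ 4) (hno : ¬ IsPGroup p (commutator (MulAut H)))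
    (hZ : Nat.card (Subgroup.center H) = p ^ 2) :
    (Odd p ∧ ∃ (E : Type) (_ : Group E) (_ : Finite E), Cfsg.IsExtraspecial p E ∧ Nat.card E = p ^ 3 ∧
        (∀ x : E, x ^ p = 1) ∧ Nonempty (H ≃* E × Multiplicative (ZMod p))) ∨
      (p = 2 ∧ Nonempty (H ≃* QuaternionGroup 2 × Multiplicative (ZMod 2))) ∨
      ((∀ x : H, x ^ (p ^ 2) = 1) ∧ IsCyclic (Subgroup.center H)) := by
  classical
  have hp0 : p.Prime := hp.out
  have hlt : ∀ {i j : ℕ}, i < j → ¬ p ^ j ≤ p ^ i := fun hij h =>
    absurd ((Nat.pow_le_pow_iff_right hp0.one_lt).1 h) (not_le.2 hij)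
  set Z := Subgroup.center H with hZdef
  haveI hZchar : Z.Characteristic := Subgroup.centerCharacteristic
  have hQ : Nat.card (H ⧸ Z) = p ^ 2 := by
    rw [← Subgroup.index_eq_card, card_index hcard hZ (by norm_num)]
  have hnab : ¬ ∀ a b : H, a * b = b * a := fun h => by
    have : Z = ⊤ := eq_top_iff.2 fun g _ => Subgroup.mem_center_iff.2 fun x => h x g
    rw [this, Subgroup.card_top, hcard] at hZ
    exact absurd (Nat.pow_right_injective hp0.two_le hZ) (by norm_num)
  have hnc : ¬ IsCyclic (H ⧸ Z) := fun h =>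
    hnab (commutative_of_cyclic_center_quotient (QuotientGroup.mk' Z) (QuotientGroup.ker_mk' Z).le)
  have hpow : ∀ x : H, x ^ p ∈ Z := fun x => by
    rw [← QuotientGroup.eq_one_iff, QuotientGroup.mk_pow]
    by_contra hx
    refine hnc (isCyclic_of_orderOf_eq_card (x : H ⧸ Z) ?_)
    rw [hQ]
    refine orderOf_eq_prime_pow (p := p) (n := 1) (by rwa [pow_one]) ?_
    rw [← hQ]; exact pow_card_eq_one'
  have hZcl : ∀ x y : H, ⁅x, y⁆ ∈ Z := fun x y => by
    rw [← QuotientGroup.eq_one_iff]
    exact (map_commutatorElement (QuotientGroup.mk' Z) x y).trans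
      (commutatorElement_eq_one_iff_mul_comm.2 (IsPGroup.commutative_of_card_eq_prime_sq hQ _ _))
  have hcent : ∀ x y g : H, Commute ⁅x, y⁆ g := fun x y g => (Subgroup.mem_center_iff.1 (hZcl x y) g).symm
  have hba : ∀ x y : H, y * x = ⁅y, x⁆ * (x * y) := fun x y => by rw [commutatorElement_def]; group
  push Not at hnab
  obtain ⟨a, b, hab⟩ := hnab
  set e := ⁅a, b⁆ with he
  have he1 : e ≠ 1 := fun h => hab (commutatorElement_eq_one_iff_mul_comm.1 h)
  have hep : e ^ p = 1 := by
    rw [he, ← Cfsg.Agent.PGroupBasics.commutator_pow (hcent a b b)]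
    exact commutatorElement_eq_one_iff_mul_comm.2 (Subgroup.mem_center_iff.1 (hpow b) a)
  set C := Subgroup.zpowers e with hCdef
  have hCc : Nat.card C = p := by
    rw [hCdef, Nat.card_zpowers]; exact orderOf_eq_prime hep he1
  have hCZ : C ≤ Z := Subgroup.zpowers_le.2 (hZcl a b)
  haveI : C.Normal := ⟨fun n hn g => by
    rw [Subgroup.mem_center_iff.1 (hCZ hn) g, mul_inv_cancel_right]; exact hn⟩
  have haZ : a ∉ Z := fun h => hab (Subgroup.mem_center_iff.1 h b).symm
  set U := Z ⊔ Subgroup.zpowers a with hU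
  have hbU : b ∉ U := by
    intro h
    refine hab ((Subgroup.mem_centralizer_iff.1 ((sup_le (Subgroup.center_le_centralizer {a})
      (Subgroup.zpowers_le.2 (Subgroup.mem_centralizer_iff.2 fun m hm => by rw [Set.mem_singleton_iff.1 hm])) :
        U ≤ Subgroup.centralizer {a}) h)) a rfl)
  have hgen : U ⊔ Subgroup.zpowers b = ⊤ := Subgroup.eq_top_of_le_card _ (hcard ▸ le_pow_of_lt (k := 3) hcard
    (lt_of_le_not_ge le_sup_left fun h => hbU (h (Subgroup.mem_sup_right (Subgroup.mem_zpowers b))))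
    (le_pow_of_lt (k := 2) hcard (lt_of_le_not_ge le_sup_left fun h =>
      haZ (h (Subgroup.mem_sup_right (Subgroup.mem_zpowers a)))) hZ.ge))
  have hgen' : ∀ T : Subgroup H, Z ≤ T → a ∈ T → b ∈ T → T = ⊤ := fun T h1 h2 h3 =>
    eq_top_iff.2 (hgen ▸ sup_le (sup_le h1 (Subgroup.zpowers_le.2 h2)) (Subgroup.zpowers_le.2 h3))
  let q := QuotientGroup.mk' C
  have hqab : Commute (q a) (q b) := commutatorElement_eq_one_iff_mul_comm.1 (by
    rw [← map_commutatorElement, ← he]; exact (QuotientGroup.eq_one_iff e).2 (Subgroup.mem_zpowers e))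
  have hcl : ∀ x y : H, ⁅x, y⁆ ∈ C := by
    have hcz : ∀ g : H, g ∈ Z → ∀ h, Commute (q g) (q h) := fun g hg h =>
      ((show Commute g h from (Subgroup.mem_center_iff.1 hg h).symm)).map q
    have h1 : ∀ g : H, q g ∈ Subgroup.center (H ⧸ C) := by
      have hgenc : ∀ g : H, Commute (q a) (q g) ∧ Commute (q b) (q g) := fun g => by
        have e1 := hgen' ((Subgroup.centralizer {q a}).comap q) (fun z hz => Subgroup.mem_centralizer_iff.2
          fun m hm => by rw [Set.mem_singleton_iff.1 hm]; exact (hcz z hz a).symm)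
          (Subgroup.mem_centralizer_iff.2 fun m hm => by rw [Set.mem_singleton_iff.1 hm])
          (Subgroup.mem_centralizer_iff.2 fun m hm => by rw [Set.mem_singleton_iff.1 hm]; exact hqab)
        have e2 := hgen' ((Subgroup.centralizer {q b}).comap q) (fun z hz => Subgroup.mem_centralizer_iff.2
          fun m hm => by rw [Set.mem_singleton_iff.1 hm]; exact (hcz z hz b).symm)
          (Subgroup.mem_centralizer_iff.2 fun m hm => by rw [Set.mem_singleton_iff.1 hm]; exact hqab.symm)
          (Subgroup.mem_centralizer_iff.2 fun m hm => by rw [Set.mem_singleton_iff.1 hm])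
        exact ⟨Subgroup.mem_centralizer_iff.1 (e1.ge (Subgroup.mem_top g)) _ rfl,
          Subgroup.mem_centralizer_iff.1 (e2.ge (Subgroup.mem_top g)) _ rfl⟩
      intro g
      have hcq : ∀ g, (∀ h, Commute (q g) (q h)) → q g ∈ Subgroup.center (H ⧸ C) := fun g hg =>
        Subgroup.mem_center_iff.2 fun w => by obtain ⟨h, rfl⟩ := QuotientGroup.mk_surjective w; exact (hg h).symm
      exact (hgen' ((Subgroup.center (H ⧸ C)).comap q) (fun z hz => hcq z (hcz z hz))
        (hcq a fun h => (hgenc h).1) (hcq b fun h => (hgenc h).2)).ge (Subgroup.mem_top g)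
    intro x y
    rw [← QuotientGroup.eq_one_iff]
    exact (map_commutatorElement q x y).trans
      (commutatorElement_eq_one_iff_mul_comm.2 (Subgroup.mem_center_iff.1 (h1 y) (q x)))
  have hCchar : C.Characteristic := by
    have : C = commutator H := le_antisymm (Subgroup.zpowers_le.2
      (Subgroup.commutator_mem_commutator (Subgroup.mem_top a) (Subgroup.mem_top b)))
      (by rw [commutator_def, Subgroup.commutator_le]; exact fun x _ y _ => hcl x y)
    rw [this]; infer_instance
  have hCp : ∀ c ∈ C, c ^ p = 1 := fun c hc => by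
    obtain ⟨i, rfl⟩ := Subgroup.mem_zpowers_iff.1 hc
    rw [← zpow_natCast, zpow_comm, zpow_natCast, hep, one_zpow]
  by_cases hcyc : IsCyclic Z
  · refine Or.inr (Or.inr ⟨?_, hcyc⟩)
    by_contra hexp
    push Not at hexp
    obtain ⟨x₀, hx₀⟩ := hexp
    have hC' : ∀ z ∈ Z, z ^ p = 1 → z ∈ C := by
      haveI : IsCyclic Z := hcyc
      have h1 : Nat.card {z : Z // z ^ p = 1} ≤ p := by
        haveI := Fintype.ofFinite Z
        rw [Nat.card_eq_fintype_card, Fintype.card_subtype]
        exact IsCyclic.card_pow_eq_one_le hp0.pos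
      intro z hz hzp
      let i : C → {z : Z // z ^ p = 1} := fun c => ⟨⟨c, hCZ c.2⟩, Subtype.ext (hCp c c.2)⟩
      have hi : Function.Injective i := fun c d h => Subtype.ext (congrArg (fun w => (w.1 : H)) h)
      obtain ⟨c, hc⟩ := (hi.bijective_of_nat_card_le (h1.trans hCc.ge)).2 ⟨⟨z, hz⟩, Subtype.ext hzp⟩
      exact (congrArg (fun w => (w.1 : H)) hc : (c : H) = z) ▸ c.2
    have hdvd : p ∣ (p ^ 2).choose 2 := by
      have h4 : 4 ≤ p ^ 2 := by nlinarith [hp0.two_le]
      exact hp0.dvd_choose_pow (by norm_num) (fun h => by omega)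
    let ψ : H →* C :=
      { toFun := fun x => ⟨x ^ (p ^ 2), hC' _ (by rw [sq, pow_mul]; exact pow_mem (hpow x) p) (by
            have h1 := pow_card_eq_one' (x := (⟨x ^ p, hpow x⟩ : Z))
            rw [hZ] at h1
            have h2 : (x ^ p) ^ p ^ 2 = 1 := congrArg Subtype.val h1
            rw [← pow_mul] at h2 ⊢
            rwa [mul_comm] at h2)⟩
        map_one' := Subtype.ext (one_pow _)
        map_mul' := fun x y => Subtype.ext (by
          show (x * y) ^ p ^ 2 = x ^ p ^ 2 * y ^ p ^ 2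
          rw [Cfsg.Agent.ExpSq.mul_pow_of_central (hba x y) (hcent y x x) (hcent y x y)]
          obtain ⟨m, hm⟩ := hdvd
          rw [hm, pow_mul, hCp _ (hcl y x), one_pow, one_mul]) }
    have hK : ψ.ker.index = p := card_range_eq_of_ne (x := x₀) hCc fun h => hx₀ (congrArg Subtype.val h)
    have hKc : Nat.card ψ.ker = p ^ 3 := Nat.eq_of_mul_eq_mul_right hp0.pos (by
      conv_lhs => rw [← hK]
      rw [Subgroup.card_mul_index, hcard, ← pow_succ])
    refine not_chain4 hH hcard hno C Z ψ.ker hCchar hZchar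
      (Subgroup.characteristic_iff_le_comap.2 fun α x hx => Subtype.ext ?_) hCZ (fun z hz => Subtype.ext ?_)
      hCc hZ hKc
    · show (α x) ^ p ^ 2 = 1
      rw [← map_pow, show x ^ p ^ 2 = 1 from congrArg Subtype.val hx, map_one]
    · have h1 := pow_card_eq_one' (x := (⟨z, hz⟩ : Z))
      rw [hZ] at h1
      show z ^ p ^ 2 = 1
      exact congrArg Subtype.val h1
  -- non-cyclic centre
  have hZp : ∀ z ∈ Z, z ^ p = 1 := fun z hz => by
    by_contra h
    refine hcyc (isCyclic_of_orderOf_eq_card (⟨z, hz⟩ : Z) ?_)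
    rw [hZ]
    refine orderOf_eq_prime_pow (p := p) (n := 1) (by rw [pow_one]; exact fun h' => h (congrArg Subtype.val h')) ?_
    rw [← hZ]; exact pow_card_eq_one'
  have hpC : ∀ x : H, x ^ p ∈ C := by
    by_contra! hex
    obtain ⟨x₀, hx₀⟩ := hex
    let χ : H →* (Z ⧸ C.subgroupOf Z) :=
      { toFun := fun x => (⟨x ^ p, hpow x⟩ : Z)
        map_one' := (QuotientGroup.eq_one_iff _).2 (Subgroup.mem_subgroupOf.2 (by
          show (1 : H) ^ p ∈ C
          rw [one_pow]; exact one_mem _))
        map_mul' := fun x y => by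
          rw [← QuotientGroup.mk_mul, QuotientGroup.eq, Subgroup.mem_subgroupOf]
          show ((x * y) ^ p)⁻¹ * (x ^ p * y ^ p) ∈ C
          rw [Cfsg.Agent.ExpSq.mul_pow_of_central (hba x y) (hcent y x x) (hcent y x y), mul_inv_rev, mul_assoc,
            ((hcent y x (x ^ p * y ^ p)).pow_left _).inv_left.eq, inv_mul_cancel_left]
          exact inv_mem (pow_mem (hcl y x) _) }
    have hT : Nat.card (Z ⧸ C.subgroupOf Z) = p := by
      refine Nat.eq_of_mul_eq_mul_right hp0.pos ?_
      conv_lhs => rw [← hCc, ← Nat.card_congr (Subgroup.subgroupOfEquivOfLe hCZ).toEquiv]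
      rw [← Subgroup.card_eq_card_quotient_mul_card_subgroup, hZ, sq]
    have hmem : ∀ x, χ x = 1 ↔ x ^ p ∈ C := fun x =>
      (QuotientGroup.eq_one_iff _).trans Subgroup.mem_subgroupOf
    have hK : χ.ker.index = p := card_range_eq_of_ne (x := x₀) hT fun h => hx₀ ((hmem _).1 h)
    have hKc : Nat.card χ.ker = p ^ 3 := Nat.eq_of_mul_eq_mul_right hp0.pos (by
      conv_lhs => rw [← hK]
      rw [Subgroup.card_mul_index, hcard, ← pow_succ])
    refine not_chain4 hH hcard hno C Z χ.ker hCchar hZchar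
      (Subgroup.characteristic_iff_le_comap.2 fun α x hx => (hmem _).2 ?_) hCZ
      (fun z hz => (hmem z).2 (by rw [hZp z hz]; exact one_mem _)) hCc hZ hKc
    rw [show (α.toMonoidHom x) ^ p = α (x ^ p) from (map_pow α x p).symm]
    exact Subgroup.characteristic_iff_le_comap.1 hCchar α ((hmem x).1 hx)
  have hnext : (Odd p → ∀ x : H, x ^ p = 1) := by
    intro hodd
    by_contra hex
    push Not at hex
    obtain ⟨x₀, hx₀⟩ := hex
    let φ : H →* C :=
      { toFun := fun x => ⟨x ^ p, hpC x⟩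
        map_one' := Subtype.ext (one_pow _)
        map_mul' := fun x y => Subtype.ext (by
          show (x * y) ^ p = x ^ p * y ^ p
          rw [Cfsg.Agent.ExpSq.mul_pow_of_central (hba x y) (hcent y x x) (hcent y x y)]
          obtain ⟨m, hm⟩ := Cfsg.Agent.ExpSq.dvd_choose_two hp0 (by rintro rfl; exact absurd hodd (by decide))
          rw [hm, pow_mul, hCp _ (hcl y x), one_pow, one_mul]) }
    have hK : φ.ker.index = p := card_range_eq_of_ne (x := x₀) hCc fun h => hx₀ (congrArg Subtype.val h)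
    have hKc : Nat.card φ.ker = p ^ 3 := Nat.eq_of_mul_eq_mul_right hp0.pos (by
      conv_lhs => rw [← hK]
      rw [Subgroup.card_mul_index, hcard, ← pow_succ])
    refine not_chain4 hH hcard hno C Z φ.ker hCchar hZchar
      (Subgroup.characteristic_iff_le_comap.2 fun α x hx => Subtype.ext ?_) hCZ (fun z hz => Subtype.ext (hZp z hz))
      hCc hZ hKc
    show (α x) ^ p = 1
    rw [← map_pow, show x ^ p = 1 from congrArg Subtype.val hx, map_one]
  -- the direct decomposition
  obtain ⟨c, hcZ, hcC⟩ : ∃ c ∈ Z, c ∉ C := by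
    by_contra! h
    have := Subgroup.card_le_of_le (show Z ≤ C from h)
    rw [hZ, hCc] at this
    exact hlt one_lt_two (this.trans (pow_one p).ge)
  have hc1 : c ≠ 1 := fun h => hcC (h ▸ one_mem C)
  set E := Subgroup.closure ({a, b} : Set H) with hEdef
  have haE : a ∈ E := Subgroup.subset_closure (by simp)
  have hbE : b ∈ E := Subgroup.subset_closure (by simp)
  have heE : e ∈ E := by
    rw [he, commutatorElement_def]
    exact mul_mem (mul_mem (mul_mem haE hbE) (inv_mem haE)) (inv_mem hbE)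
  have hCE : C ≤ E := Subgroup.zpowers_le.2 heE
  have hEle : Nat.card E ≤ p ^ 3 := by
    haveI : NeZero p := ⟨hp0.ne_zero⟩
    have hqp : ∀ x : H, q x ^ p = 1 := fun x => by
      rw [← map_pow]; exact (QuotientGroup.eq_one_iff _).2 (hpC x)
    have hmod : ∀ (x : H) (i j : ZMod p), q x ^ (i + j).val = q x ^ i.val * q x ^ j.val := fun x i j => by
      rw [ZMod.val_add, ← pow_add, ← pow_mod_orderOf (q x) (_ % p),
        Nat.mod_mod_of_dvd _ (orderOf_dvd_of_pow_eq_one (hqp x)), pow_mod_orderOf]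
    let g : Multiplicative (ZMod p × ZMod p) →* H ⧸ C :=
      { toFun := fun v => q a ^ (Multiplicative.toAdd v).1.val * q b ^ (Multiplicative.toAdd v).2.val
        map_one' := by simp
        map_mul' := fun v w => by
          simp only [toAdd_mul, Prod.fst_add, Prod.snd_add, hmod]
          exact ((hqab.symm.pow_pow _ _).mul_mul_mul_comm _ _).symm }
    haveI : Fact (1 < p) := ⟨hp0.one_lt⟩
    have hEg : E.map q ≤ g.range := by
      rw [hEdef, MonoidHom.map_closure, Subgroup.closure_le]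
      rintro _ ⟨x, rfl | rfl, rfl⟩
      · exact ⟨Multiplicative.ofAdd (1, 0), by simp [g, ZMod.val_one]⟩
      · exact ⟨Multiplicative.ofAdd (0, 1), by simp [g, ZMod.val_one]⟩
    have h1 := Subgroup.card_le_of_le hEg
    have h2 : Nat.card g.range ≤ p * p := by
      refine (Nat.card_le_card_of_surjective _ g.rangeRestrict_surjective).trans ?_
      rw [Nat.card_congr Multiplicative.toAdd, Nat.card_prod, Nat.card_zmod]
    have h3 := (C.subgroupOf E).card_eq_card_quotient_mul_card_subgroup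
    rw [Nat.card_congr (Subgroup.subgroupOfEquivOfLe hCE).toEquiv, hCc] at h3
    have h4 : Nat.card (E ⧸ C.subgroupOf E) = Nat.card (E.map q) := by
      rw [← Subgroup.index_eq_card, ← Subgroup.relIndex, ← Subgroup.relIndex_ker, QuotientGroup.ker_mk']
    rw [h3, h4, pow_succ, sq]
    exact Nat.mul_le_mul_right p (h1.trans h2)
  have hcE : c ∉ E := by
    intro h
    have : Z ≤ E := by
      have hCc' : C ⊔ Subgroup.zpowers c = Z := Subgroup.eq_of_le_of_card_ge
        (sup_le hCZ (Subgroup.zpowers_le.2 hcZ)) (hZ ▸ le_pow_of_lt (k := 1) hcard (lt_of_le_not_ge le_sup_left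
          fun h => hcC (h (Subgroup.mem_sup_right (Subgroup.mem_zpowers c)))) (hCc.symm ▸ (pow_one p).le))
      rw [← hCc']; exact sup_le hCE (Subgroup.zpowers_le.2 h)
    rw [hgen' E this haE hbE, Subgroup.card_top, hcard] at hEle
    exact hlt (by norm_num) hEle
  have hcp : c ^ p = 1 := hZp c hcZ
  have hcc : ∀ g : H, Commute c g := fun g => (Subgroup.mem_center_iff.1 hcZ g).symm
  haveI : NeZero p := ⟨hp0.ne_zero⟩
  haveI : Fact (1 < p) := ⟨hp0.one_lt⟩
  have hmodc : ∀ (i j : ZMod p), c ^ (i + j).val = c ^ i.val * c ^ j.val := fun i j => by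
    rw [ZMod.val_add, ← pow_add, ← pow_mod_orderOf c (_ % p),
      Nat.mod_mod_of_dvd _ (orderOf_dvd_of_pow_eq_one hcp), pow_mod_orderOf]
  let f : E × Multiplicative (ZMod p) →* H :=
    { toFun := fun w => (w.1 : H) * c ^ (Multiplicative.toAdd w.2).val
      map_one' := by simp
      map_mul' := fun v w => by
        simp only [Prod.fst_mul, Prod.snd_mul, Subgroup.coe_mul, toAdd_mul, hmodc]
        exact ((hcc _).pow_left _).symm.mul_mul_mul_comm _ _ }
  have hfinj : Function.Injective f := by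
    refine (injective_iff_map_eq_one f).2 fun w hw => ?_
    obtain ⟨x, i⟩ := w
    have hw' : (x : H) * c ^ (Multiplicative.toAdd i).val = 1 := hw
    have hcx : c ^ (Multiplicative.toAdd i).val ∈ E := by
      rw [eq_inv_of_mul_eq_one_right hw']; exact inv_mem x.2
    have hi : Multiplicative.toAdd i = 0 := by
      by_contra hi
      refine hcE ?_
      have hco : (Multiplicative.toAdd i).val.Coprime p := Nat.Coprime.symm
        (hp0.coprime_iff_not_dvd.2 fun h => hi ((ZMod.val_eq_zero _).1 (Nat.eq_zero_of_dvd_of_lt h (ZMod.val_lt _))))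
      obtain ⟨m, hm⟩ := exists_pow_eq_self_of_coprime (n := (Multiplicative.toAdd i).val) (x := c)
        (by rw [orderOf_eq_prime hcp hc1]; exact hco)
      rw [← hm]; exact pow_mem hcx m
    rw [hi, ZMod.val_zero, pow_zero, mul_one] at hw'
    exact Prod.ext (Subtype.ext hw') hi
  have hfsurj : Function.Surjective f := by
    refine MonoidHom.range_eq_top.1 (hgen' _ ?_ ⟨(⟨a, haE⟩, 1), by simp [f]⟩ ⟨(⟨b, hbE⟩, 1), by simp [f]⟩)
    have hCc' : C ⊔ Subgroup.zpowers c = Z := Subgroup.eq_of_le_of_card_ge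
      (sup_le hCZ (Subgroup.zpowers_le.2 hcZ)) (hZ ▸ le_pow_of_lt (k := 1) hcard (lt_of_le_not_ge le_sup_left
        fun h => hcC (h (Subgroup.mem_sup_right (Subgroup.mem_zpowers c)))) (hCc.symm ▸ (pow_one p).le))
    rw [← hCc']
    exact sup_le (fun x hx => ⟨(⟨x, hCE hx⟩, 1), by simp [f]⟩)
      (Subgroup.zpowers_le.2 ⟨(1, Multiplicative.ofAdd 1), by simp [f, ZMod.val_one]⟩)
  have iso : E × Multiplicative (ZMod p) ≃* H := MulEquiv.ofBijective f ⟨hfinj, hfsurj⟩
  have hEc : Nat.card E = p ^ 3 := by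
    have h := Nat.card_congr iso.toEquiv
    rw [Nat.card_prod, Nat.card_congr Multiplicative.toAdd, Nat.card_zmod, hcard, pow_succ] at h
    exact Nat.eq_of_mul_eq_mul_right hp0.pos h
  rcases hp0.eq_two_or_odd' with rfl | hodd
  · refine Or.inr (Or.inl ⟨rfl, ?_⟩)
    have hCe : ∀ x, x ∈ C ↔ (x = 1 ∨ x = e) := fun x => by
      refine ⟨fun hx => ?_, ?_⟩
      · obtain ⟨i, rfl⟩ := Subgroup.mem_zpowers_iff.1 hx
        rcases Int.even_or_odd i with ⟨m, rfl⟩ | ⟨m, rfl⟩
        · left; rw [← two_mul, zpow_mul, zpow_ofNat, hep, one_zpow]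
        · right; rw [zpow_add_one, zpow_mul, zpow_ofNat, hep, one_zpow, one_mul]
      · rintro (rfl | rfl)
        exacts [one_mem _, Subgroup.mem_zpowers _]
    have hsq := sq_eq_of_two hH hcard hno hZ hCchar hCZ hCc hCe hcl hpC hZp
    have hq := Cfsg.Agent.LBMon.q8_of_unique (S := E) (by rw [hEc]; norm_num) (fun x => Subtype.ext (by
      show (x : H) ^ (2 * 2) = 1
      rw [pow_mul]; exact hCp _ (hpC _))) (fun x y hx hy hx2 hy2 => ?_)
    · obtain ⟨eq8⟩ := hq
      exact ⟨iso.symm.trans (MulEquiv.prodCongr eq8 (MulEquiv.refl _))⟩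
    · have key : ∀ w : E, w ≠ 1 → w ^ 2 = 1 → (w : H) = e := by
        intro w hw hw2
        have hwZ : (w : H) ∈ Z := by
          by_contra h
          exact he1 ((hsq w h).symm.trans (congrArg Subtype.val hw2))
        have hwC : (w : H) ∈ C := by
          by_contra h
          refine hcE ?_
          have hle : C ⊔ Subgroup.zpowers (w : H) = Z := Subgroup.eq_of_le_of_card_ge
            (sup_le hCZ (Subgroup.zpowers_le.2 hwZ)) (hZ ▸ le_pow_of_lt (k := 1) hcard (lt_of_le_not_ge le_sup_left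
              fun h' => h (h' (Subgroup.mem_sup_right (Subgroup.mem_zpowers (w : H)))))
              (hCc.symm ▸ (pow_one 2).le))
          exact (hle ▸ sup_le hCE (Subgroup.zpowers_le.2 w.2) : Z ≤ E) hcZ
        exact ((hCe _).1 hwC).resolve_left fun h => hw (Subtype.ext h)
      exact Subtype.ext ((key x hx hx2).trans (key y hy hy2).symm)
  · refine Or.inl ⟨hodd, ?_⟩
    have hEp : IsPGroup p E := hH.to_subgroup E
    have hcenter : Subgroup.center E = C.subgroupOf E := by
      refine le_antisymm (fun x hx => ?_) fun x hx => Subgroup.mem_center_iff.2 fun g =>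
        Subtype.ext (Subgroup.mem_center_iff.1 (hCZ (Subgroup.mem_subgroupOf.1 hx)) g)
      rw [Subgroup.mem_subgroupOf]
      have hxZ : (x : H) ∈ Z := by
        exact Subgroup.mem_center_iff.2 fun g => (Subgroup.mem_centralizer_iff.1
          ((hgen' (Subgroup.centralizer {(x : H)}) (Subgroup.center_le_centralizer _)
          (Subgroup.mem_centralizer_iff.2 fun m hm => by
            rw [Set.mem_singleton_iff.1 hm]
            exact (congrArg Subtype.val (Subgroup.mem_center_iff.1 hx ⟨a, haE⟩)).symm)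
          (Subgroup.mem_centralizer_iff.2 fun m hm => by
            rw [Set.mem_singleton_iff.1 hm]
            exact (congrArg Subtype.val (Subgroup.mem_center_iff.1 hx ⟨b, hbE⟩)).symm)).ge (Subgroup.mem_top g))
          _ rfl).symm
      by_contra h
      refine hcE ?_
      have hle : C ⊔ Subgroup.zpowers (x : H) = Z := Subgroup.eq_of_le_of_card_ge
        (sup_le hCZ (Subgroup.zpowers_le.2 hxZ)) (hZ ▸ le_pow_of_lt (k := 1) hcard (lt_of_le_not_ge le_sup_left
          fun h' => h (h' (Subgroup.mem_sup_right (Subgroup.mem_zpowers (x : H))))) (hCc.symm ▸ (pow_one p).le))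
      exact (hle ▸ sup_le hCE (Subgroup.zpowers_le.2 x.2) : Z ≤ E) hcZ
    let eS : Shrink.{0} E ≃* E := Shrink.mulEquiv
    refine ⟨Shrink.{0} E, inferInstance, Finite.of_equiv E eS.symm.toEquiv, ?_,
      (Nat.card_congr eS.toEquiv).trans hEc, fun x => eS.injective ?_,
      ⟨iso.symm.trans (MulEquiv.prodCongr eS.symm (MulEquiv.refl _))⟩⟩
    · haveI := Finite.of_equiv E eS.symm.toEquiv
      refine isExtraspecial_of_card_cube (IsPGroup.of_equiv hEp eS.symm) ((Nat.card_congr eS.toEquiv).trans hEc) ?_ ?_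
      · rw [Nat.card_congr (Subgroup.centerCongr eS).toEquiv, hcenter,
          Nat.card_congr (Subgroup.subgroupOfEquivOfLe hCE).toEquiv, hCc]
      · intro x y
        refine Subgroup.mem_center_iff.2 fun g => eS.injective ?_
        rw [map_mul, map_mul]
        refine Subgroup.mem_center_iff.1 ?_ (eS g)
        rw [map_commutatorElement, hcenter, Subgroup.mem_subgroupOf]
        exact hcl (eS x) (eS y)
    · rw [map_pow, map_one]
      exact Subtype.ext (hnext hodd _)

end Cfsg.Agent.EssentialFour
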