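import Cfsg.Agent.Lib.Fusion.Normal
import Cfsg.Agent.Lib.Fusion.Hyperfocal
import Cfsg.Agent.Lib.Functors.Critical
import Cfsg.Agent.Lib.LocalEven.OmegaFour

/-!
# Normality criteria from elements of order `p` or four of the hyperfocal subgroup
-/

set_option autoImplicit false

namespace Cfsg.Agent.FusionSys

open Cfsg Cfsg.FusionSystem
open scoped commutatorElement

/-- Elements of order dividing `p`, or four when `p = 2`. -/
def Small (p : ℕ) {G : Type*} [Group G] (x : G) : Prop := x ^ p = 1 ∨ (p = 2 ∧ x ^ 4 = 1)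

theorem small_map {p : ℕ} {G H : Type*} [Group G] [Group H] (f : G →* H) {x : G} (h : Small p x) : Small p (f x) :=
  h.imp (fun h => by rw [← map_pow, h, map_one]) fun h => ⟨h.1, by rw [← map_pow, h.2, map_one]⟩

theorem small_of_map {p : ℕ} {G H : Type*} [Group G] [Group H] (f : G →* H) (hf : Function.Injective f) {x : G}
    (h : Small p (f x)) : Small p x :=
  h.imp (fun h => hf (by rw [map_pow, h, map_one])) fun h => ⟨h.1, hf (by rw [map_pow, h.2, map_one])⟩

section group

variable {R : Type*} [Group R] [Finite R] {p : ℕ} [hp : Fact p.Prime]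

/-- An automorphism of coprime order fixing the small elements of an invariant subgroup fixes it. -/
theorem fix_of_small₂ (hR : IsPGroup p R) {α : MulAut R} (hα : (orderOf α).Coprime p) (M : Subgroup R)
    (hM : ∀ y ∈ M, α y ∈ M) (hfix : ∀ y ∈ M, Small p y → α y = y) : ∀ y ∈ M, α y = y := by
  haveI : Finite (R ⋊[MonoidHom.id (MulAut R)] MulAut R) :=
    Finite.of_equiv (R × MulAut R) SemidirectProduct.equivProd.symm
  set x : R ⋊[MonoidHom.id (MulAut R)] MulAut R := SemidirectProduct.inr α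
  set Q := M.map (SemidirectProduct.inl : R →* R ⋊[MonoidHom.id (MulAut R)] MulAut R) with hQ
  have hconj : ∀ y : R, x * SemidirectProduct.inl y * x⁻¹ = SemidirectProduct.inl (α y) :=
    fun y => by
      show SemidirectProduct.inr α * SemidirectProduct.inl y * (SemidirectProduct.inr α)⁻¹ = _
      rw [← map_inv, ← SemidirectProduct.inl_aut]
      rfl
  have hxN : x ∈ Subgroup.normalizer (Q : Set (R ⋊[MonoidHom.id (MulAut R)] MulAut R)) := by
    refine mem_normalizer_of_conj_mem_finite ?_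
    rintro _ ⟨y, hy, rfl⟩
    exact ⟨α y, hM y hy, (hconj y).symm⟩
  have hord : (orderOf x).Coprime p := by rwa [orderOf_injective _ SemidirectProduct.inr_injective α]
  intro y hy
  have h := Cfsg.Agent.LEOmega.commute_of_small hord _ Q le_rfl ((hR.to_subgroup M).map _) hxN
    (by
      rintro _ ⟨z, hz, rfl⟩ hzp
      rw [← mul_inv_eq_iff_eq_mul, hconj, hfix z hz (small_of_map _ SemidirectProduct.inl_injective hzp)])
    _ ⟨y, hy, rfl⟩
  rw [← mul_inv_eq_iff_eq_mul, hconj] at h
  exact SemidirectProduct.inl_injective h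

omit [Finite R] in
theorem eq_one_of_coprime (hR : IsPGroup p R) {n : ℕ} (hn : n.Coprime p) {c : R} (h : c ^ n = 1) : c = 1 := by
  obtain ⟨k, hk⟩ := hR c
  have h3 : orderOf c ∣ Nat.gcd n (p ^ k) :=
    Nat.dvd_gcd (orderOf_dvd_of_pow_eq_one h) (orderOf_dvd_of_pow_eq_one hk)
  rwa [(hn.pow_right k).gcd_eq_one, Nat.dvd_one, orderOf_eq_one_iff] at h3

omit [Finite R] in
theorem pow_apply_of_fixed (α : MulAut R) {x c : R} (hx : α x = x * c) (hc : α c = c) (n : ℕ) :
    (α ^ n) x = x * c ^ n := by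
  induction n with
  | zero => simp
  | succ n ih => rw [pow_succ', MulAut.mul_apply, ih, map_mul, map_pow, hx, hc, pow_succ', mul_assoc]

/-- A characteristic subgroup of small elements detecting automorphisms of coprime order. -/
theorem exists_small_char (hR : IsPGroup p R) : ∃ W : Subgroup R, W.Characteristic ∧ (∀ x ∈ W, Small p x) ∧
    ∀ α : MulAut R, (orderOf α).Coprime p → (∀ x ∈ W, α x = x) → α = 1 := by
  obtain ⟨H, hH⟩ := Critical.exists_critical hR
  haveI := hH.char
  have hcz : ∀ x ∈ H, ∀ y ∈ H, ∀ w ∈ H, Commute ⁅x, y⁆ w := fun x _ y hy w hw =>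
    (Subgroup.mem_centralizer_iff.1 (Subgroup.mem_inf.1
      (hH.comm (Subgroup.commutator_mem_commutator (Subgroup.mem_top x) hy))).2 w hw).symm
  have hzp : ∀ x ∈ H, ∀ y ∈ H, ⁅x, y⁆ ^ p = 1 := fun x hx y hy => by
    have hxp := Subgroup.mem_centralizer_iff.1 (Subgroup.mem_inf.1 (hH.pow _ hx)).2 y hy
    have hcx : Commute ⁅x, y⁆ x := hcz _ hx _ hy x hx
    have hswap : x * y = ⁅x, y⁆ * (y * x) := by rw [commutatorElement_def]; group
    have e : ∀ n : ℕ, x ^ n * y = ⁅x, y⁆ ^ n * (y * x ^ n) := by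
      intro n
      induction n with
      | zero => simp
      | succ n ih =>
        rw [pow_succ', mul_assoc, ih, ← mul_assoc x, ← (hcx.pow_left n).eq, mul_assoc, ← mul_assoc x y, hswap,
          pow_succ, mul_assoc, mul_assoc, mul_assoc]
    have h1 := e p
    rw [hxp, right_eq_mul] at h1
    exact h1
  let q : ℕ := if p = 2 then 4 else p
  have hswap : ∀ a ∈ H, ∀ b ∈ H, a ^ q = 1 → b ^ q = 1 → (a * b) ^ q = 1 := by
    intro a ha b hb ha1 hb1
    set z := ⁅b⁻¹, a⁻¹⁆ with hz
    have hza : Commute z a := hcz _ (inv_mem hb) _ (inv_mem ha) a ha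
    have hzb : Commute z b := hcz _ (inv_mem hb) _ (inv_mem ha) b hb
    have hba : b * a = a * b * z := by rw [hz, commutatorElement_def]; group
    have hz1 : z ^ p = 1 := hzp _ (inv_mem hb) _ (inv_mem ha)
    have hdvd : p ∣ q.choose 2 := by
      by_cases h2 : p = 2
      · simp [q, h2]; decide
      · simp only [q, h2, if_false]
        exact hp.out.dvd_choose_self two_ne_zero (lt_of_le_of_ne hp.out.two_le (Ne.symm h2))
    obtain ⟨k, hk⟩ := hdvd
    rw [LEOmega.mul_pow_class_two hba hza hzb q, ha1, hb1, one_mul, one_mul, hk, pow_mul, hz1, one_pow]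
  have hq : ∀ x : R, Small p x ↔ x ^ q = 1 := by
    intro x
    by_cases h2 : p = 2
    · subst h2
      simp only [Small, q, if_true, true_and]
      exact ⟨fun h => h.elim (fun h => by rw [show (4 : ℕ) = 2 * 2 from rfl, pow_mul, h, one_pow]) id, Or.inr⟩
    · simp only [Small, q, h2, if_false, false_and, or_false]
  let W : Subgroup R :=
    { carrier := {x | x ∈ H ∧ x ^ q = 1}
      one_mem' := ⟨one_mem _, one_pow q⟩
      mul_mem' := fun {a b} ha hb => ⟨mul_mem ha.1 hb.1, hswap a ha.1 b hb.1 ha.2 hb.2⟩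
      inv_mem' := fun {a} ha => ⟨inv_mem ha.1, by rw [inv_pow, ha.2, inv_one]⟩ }
  refine ⟨W, Subgroup.characteristic_iff_le_comap.2 fun φ x hx =>
    ⟨Subgroup.characteristic_iff_le_comap.1 hH.char φ hx.1, show (φ x) ^ q = 1 by rw [← map_pow, hx.2, map_one]⟩,
    fun x hx => (hq x).2 hx.2, fun α hα h => ?_⟩
  refine Critical.mulAut_eq_one hR hH.cent hα (fix_of_small₂ hR hα H ?_ fun y hy hs => h y ⟨hy, (hq y).1 hs⟩)
  exact fun y hy => Subgroup.characteristic_iff_le_comap.1 hH.char α hy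

omit [Finite R] in
/-- An automorphism of coprime order stabilizing a chain through a subgroup fixes it. -/
theorem fix_of_chain (hR : IsPGroup p R) {α : MulAut R} (hα : (orderOf α).Coprime p) (W : Subgroup R)
    (hW : ∀ x ∈ W, α x ∈ W) (C : ℕ → Subgroup R) (h0 : C 0 = ⊥)
    (hstep : ∀ i, ∀ x ∈ W, x ∈ C (i + 1) → x⁻¹ * α x ∈ C i) : ∀ i, ∀ x ∈ W, x ∈ C i → α x = x := by
  intro i
  induction i with
  | zero => intro x _ hx; rw [h0, Subgroup.mem_bot] at hx; rw [hx, map_one]
  | succ i ih =>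
    intro x hxW hx
    have hc := ih _ (W.mul_mem (W.inv_mem hxW) (hW x hxW)) (hstep i x hxW hx)
    have h2 := pow_apply_of_fixed α (mul_inv_cancel_left x (α x)).symm hc (orderOf α)
    rw [pow_orderOf_eq_one, MulAut.one_apply, left_eq_mul] at h2
    exact (inv_mul_eq_one.1 (eq_one_of_coprime hR hα h2)).symm

end group

variable {Ω : Type*} [Group Ω] {S : Subgroup Ω} [Finite S] {p : ℕ} [hp : Fact p.Prime] {F : FusionSystem S}

/-- An invariant subgroup of small hyperfocal elements detecting the automorphisms of coprime order. -/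
theorem exists_small_invariant (hS : IsPGroup p S) (hF : F.IsSaturated p) {P : Subgroup Ω} (hP : P ≤ S) :
    ∃ W : Subgroup P, (∀ x ∈ W, (x : Ω) ∈ F.hyperfocalSubgroup p ∧ Small p (x : Ω)) ∧
      (∀ a ∈ F.autGroup P, ∀ x ∈ W, a x ∈ W) ∧
      ∀ a ∈ F.autGroup P, (orderOf a).Coprime p → (∀ x ∈ W, a x = x) → a = 1 := by
  have := finite_of_le hP
  have hPp : IsPGroup p P := hS.to_le hP
  set D := (F.hyperfocalSubgroup p).subgroupOf P with hD
  obtain ⟨W, hWc, hWs, hWd⟩ := exists_small_char (hPp.to_subgroup D)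
  have hinv : ∀ a ∈ F.autGroup P, D.map a.toMonoidHom = D := by
    intro a ha
    refine Subgroup.eq_of_le_of_card_ge ?_ (Subgroup.card_map_of_injective a.injective).ge
    rintro _ ⟨x, hx, rfl⟩
    exact (hyperfocal_stronglyClosed hS hF).2 _ inf_le_right _
      (restrict_mem F ((mem_autGroup_iff F hP a).1 ha) (inf_le_left : P ⊓ F.hyperfocalSubgroup p ≤ P))
      ⟨x, x.2, hx⟩
  let res : ∀ a ∈ F.autGroup P, MulAut D := fun a ha => (a.subgroupMap D).trans (MulEquiv.subgroupCongr (hinv a ha))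
  have hres : ∀ a (ha : a ∈ F.autGroup P) (x : D), ((res a ha x : D) : P) = a x := fun a ha x => rfl
  refine ⟨W.map D.subtype, ?_, ?_, ?_⟩
  · rintro _ ⟨x, hx, rfl⟩
    exact ⟨x.2, small_map (P.subtype.comp D.subtype) (hWs x hx)⟩
  · rintro a ha _ ⟨x, hx, rfl⟩
    exact ⟨res a ha x, Subgroup.characteristic_iff_le_comap.1 hWc (res a ha) hx, rfl⟩
  · intro a ha hcop hfix
    have hpow : ∀ n : ℕ, ∀ x : D, ((((res a ha) ^ n) x : D) : P) = (a ^ n) x := by
      intro n
      induction n with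
      | zero => exact fun x => rfl
      | succ n ih => intro x; rw [pow_succ', pow_succ', MulAut.mul_apply, MulAut.mul_apply, hres a ha, ih]
    have hr1 : (orderOf (res a ha)).Coprime p := by
      refine hcop.coprime_dvd_left (orderOf_dvd_of_pow_eq_one (MulEquiv.ext fun x => Subtype.ext ?_))
      rw [hpow, pow_orderOf_eq_one]; rfl
    have h1 := hWd (res a ha) hr1 fun x hx => Subtype.ext (hfix _ ⟨x, hx, rfl⟩)
    have hfixD : ∀ y : P, y ∈ D → a y = y := fun y hy => by
      have := congrArg (fun g : MulAut D => ((g ⟨y, hy⟩ : D) : P)) h1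
      exact this
    refine MulEquiv.ext fun x => ?_
    have hmem : (⟨a, ha⟩ : F.autGroup P) ∈ pResidual p (F.autGroup P) := by
      refine Subgroup.subset_closure ?_
      show (orderOf (⟨a, ha⟩ : F.autGroup P)).Coprime p
      rw [← orderOf_injective _ (F.autGroup P).subtype_injective]
      exact hcop
    have h2 := pow_apply_of_fixed a (mul_inv_cancel_left x (a x)).symm
      (hfixD _ (hyperfocal_mem hP hmem x)) (orderOf a)
    rw [pow_orderOf_eq_one, MulAut.one_apply, left_eq_mul] at h2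
    exact (inv_mul_eq_one.1 (eq_one_of_coprime hPp hcop h2)).symm

omit [Finite S] hp in
theorem isPGroup_of_coprime_trivial₂ {A : Type*} [Group A] [Finite A] [Fact p.Prime]
    (h : ∀ a : A, (orderOf a).Coprime p → a = 1) : IsPGroup p A := by
  intro a
  refine ⟨(orderOf a).factorization p, h _ ?_⟩
  have hn : 0 < orderOf a := orderOf_pos a
  rw [orderOf_pow' _ (pow_ne_zero _ (Fact.out : p.Prime).ne_zero),
    Nat.gcd_eq_right (Nat.ordProj_dvd _ p)]
  exact ((Fact.out : p.Prime).coprime_iff_not_dvd.2 (Nat.not_dvd_ordCompl Fact.out hn.ne')).symm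

/-- `S` is normal when some chain through the small hyperfocal elements is invariant under the system and
centralized by `S`. -/
theorem isNormal_top_of_chain (hS : IsPGroup p S) (hF : F.IsSaturated p) (C : ℕ → Subgroup Ω) (n : ℕ)
    (h0 : C 0 = ⊥) (hn : ∀ x ∈ F.hyperfocalSubgroup p, Small p x → x ∈ C n)
    (hinv : ∀ i, ∀ (P : Subgroup Ω) (φ : P →* Ω), φ ∈ F.Hom P → ∀ x : P,
      (x : Ω) ∈ F.hyperfocalSubgroup p → Small p (x : Ω) → (x : Ω) ∈ C i → φ x ∈ C i)
    (hconj : ∀ i, ∀ x ∈ F.hyperfocalSubgroup p, Small p x → x ∈ C (i + 1) → ∀ s ∈ S,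
      x⁻¹ * (s * x * s⁻¹) ∈ C i) : F.IsNormal S := by
  refine isNormal_of_le hS hF (stronglyClosed_self F) fun P hP => ?_
  exfalso
  have hPS := hP.1.1
  have := finite_of_le hPS
  have hlt := essential_lt hS hF hP
  obtain ⟨W, hW, hWinv, hWd⟩ := exists_small_invariant hS hF hPS
  have hmap : ∀ a ∈ F.autGroup P, ∀ i, ∀ x ∈ W, (x : Ω) ∈ C i → ((a x : P) : Ω) ∈ C i := fun a ha i x hx hxi =>
    hinv i P _ ((mem_autGroup_iff F hPS a).1 ha) x (hW x hx).1 (hW x hx).2 hxi
  let K : Subgroup (F.autGroup P) :=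
    { carrier := {a | ∀ i, ∀ x ∈ W, (x : Ω) ∈ C (i + 1) → ((x⁻¹ * (a : MulAut P) x : P) : Ω) ∈ C i}
      one_mem' := fun i x _ _ => by simp [(C i).one_mem]
      mul_mem' := fun {a b} ha hb i x hx hxi => by
        have h := mul_mem (hb i x hx hxi)
          (ha i _ (hWinv _ b.2 x hx) (hmap _ b.2 _ x hx hxi))
        rwa [← Subgroup.coe_mul, mul_assoc, mul_inv_cancel_left] at h
      inv_mem' := fun {a} ha i x hx hxi => by
        have h := inv_mem (ha i _ (hWinv _ a⁻¹.2 x hx) (hmap _ a⁻¹.2 _ x hx hxi))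
        rw [show (a : MulAut P) ((↑a⁻¹ : MulAut P) x) = x from (a : MulAut P).apply_symm_apply x,
          ← Subgroup.coe_inv, mul_inv_rev, inv_inv] at h
        exact h }
  haveI hKn : K.Normal := ⟨fun k hk g i x hx hxi => by
    have hy := hWinv _ g⁻¹.2 x hx
    have hyi := hmap _ g⁻¹.2 _ x hx hxi
    have h := hmap _ g.2 i _ (W.mul_mem (W.inv_mem hy) (hWinv _ k.2 _ hy)) (hk i _ hy hyi)
    rw [map_mul, map_inv, show (g : MulAut P) ((↑g⁻¹ : MulAut P) x) = x from (g : MulAut P).apply_symm_apply x] at h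
    exact h⟩
  have hKp : IsPGroup p K := by
    refine isPGroup_of_coprime_trivial₂ fun k hk => ?_
    have hk' : (orderOf ((k : F.autGroup P) : MulAut P)).Coprime p := by
      rwa [← orderOf_injective ((F.autGroup P).subtype.comp K.subtype)
        ((F.autGroup P).subtype_injective.comp K.subtype_injective)] at hk
    refine Subtype.ext (Subtype.ext (hWd _ (k : F.autGroup P).2 hk' fun x hx => ?_))
    refine fix_of_chain (hS.to_le hPS) hk' W (hWinv _ (k : F.autGroup P).2)
      (fun i => (C i).subgroupOf P) (by simp [h0]) (fun i y hy hyi => k.2 i y hy hyi) n x hx ?_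
    exact hn _ (hW x hx).1 (hW x hx).2
  obtain ⟨-, hrad⟩ := essential_radical hS hF hP
  have hle : autInducedBy S P ≤ Inn P := by
    intro c hc
    rw [← hrad]
    refine ⟨⟨c, autInducedBy_le_autGroup F hPS hc⟩, Cfsg.Agent.PBasic.le_pCore hKn hKp ?_, rfl⟩
    obtain ⟨s, hs, he⟩ := (mem_autInducedBy_iff c).1 hc
    intro i x hx hxi
    show (((x⁻¹ * c x : P)) : Ω) ∈ C i
    rw [Subgroup.coe_mul, Subgroup.coe_inv, he]
    exact hconj i _ (hW x hx).1 (hW x hx).2 hxi s hs
  refine (lt_normalizerIn hS hlt).not_ge fun g hg => ?_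
  obtain ⟨c, hc, he⟩ := exists_conjAut (K := S) hg.1 hg.2
  have hc' := hle hc
  rw [inn_eq_autInducedBy_self] at hc'
  obtain ⟨u, hu, hue⟩ := (mem_autInducedBy_iff c).1 hc'
  have hcen : u⁻¹ * g ∈ centralizerIn S P := by
    refine ⟨S.mul_mem (S.inv_mem (hPS hu)) hg.1, Subgroup.mem_centralizer_iff.2 fun y hy => ?_⟩
    have := (he ⟨y, hy⟩).symm.trans (hue ⟨y, hy⟩)
    simp only at this
    calc y * (u⁻¹ * g) = u⁻¹ * (u * y * u⁻¹) * g := by group
      _ = u⁻¹ * (g * y * g⁻¹) * g := by rw [this]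
      _ = u⁻¹ * g * y := by group
  have h2 := P.mul_mem hu (centralizerIn_le_of_centric hP.1 hcen)
  rwa [mul_inv_cancel_left] at h2

/-- If all automorphisms of coprime order are trivial, the system is inner. -/
theorem eq_inner_of_coprime (hS : IsPGroup p S) (hF : F.IsSaturated p)
    (h : ∀ P : Subgroup Ω, P ≤ S → ∀ a ∈ F.autGroup P, (orderOf a).Coprime p → a = 1) :
    F = innerFusionSystem S := by
  refine eq_inner_of_autGroup_isPGroup hS hF fun P hP => ?_
  have := finite_of_le hP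
  refine isPGroup_of_coprime_trivial₂ fun a ha => Subtype.ext (h P hP a a.2 ?_)
  rwa [← orderOf_injective _ (F.autGroup P).subtype_injective] at ha

/-- The image of a term of the upper central series of `S`. -/
abbrev ucs (S : Subgroup Ω) (i : ℕ) : Subgroup Ω := (Subgroup.upperCentralSeries S i).map S.subtype

omit [Finite S] hp in
theorem ucs_conj {x : Ω} {i : ℕ} (hx : x ∈ ucs S (i + 1)) {s : Ω} (hs : s ∈ S) :
    x⁻¹ * (s * x * s⁻¹) ∈ ucs S i := by
  obtain ⟨y, hy, rfl⟩ := hx
  have h := Subgroup.mem_upperCentralSeries_succ_iff.1 (inv_mem hy) ⟨s, hs⟩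
  refine ⟨_, h, ?_⟩
  show ((⁅y⁻¹, (⟨s, hs⟩ : S)⁆ : S) : Ω) = _
  simp [commutatorElement_def, mul_assoc]

end Cfsg.Agent.FusionSys

namespace Cfsg.Agent.FusionSys

open Cfsg Cfsg.FusionSystem

variable {Ω : Type*} [Group Ω] {S : Subgroup Ω} [Finite S] {p : ℕ} [hp : Fact p.Prime]

omit [Finite S] in
theorem card_zpowers_small {x : Ω} (hx : Small p x) (h1 : x ≠ 1) :
    Nat.card (Subgroup.zpowers x) = p ∨ Nat.card (Subgroup.zpowers x) = 4 := by
  rw [Nat.card_zpowers]
  rcases hx with h | ⟨rfl, h⟩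
  · exact Or.inl (orderOf_eq_prime h h1)
  · by_cases h2 : x ^ 2 = 1
    · exact Or.inl (orderOf_eq_prime h2 h1)
    · exact Or.inr (orderOf_eq_prime_pow (p := 2) (n := 1) (by simpa using h2) (by simpa using h))

theorem exists_ucs_top (hS : IsPGroup p S) : ∃ n, ∀ y ∈ S, y ∈ ucs S n := by
  haveI := hS.isNilpotent
  exact ⟨Group.nilpotencyClass S, fun y hy =>
    ⟨⟨y, hy⟩, by rw [Subgroup.upperCentralSeries_nilpotencyClass]; trivial, rfl⟩⟩

end Cfsg.Agent.FusionSys
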