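import Cfsg.Agent.Lib.Fusion.Alperin
import Cfsg.Agent.Lib.Fusion.SmallElements

/-!
# Automorphism groups of `p`-groups with characteristic series, against essentiality
-/

set_option autoImplicit false

namespace Cfsg.Agent.FusionSys

open Cfsg Cfsg.FusionSystem
open scoped commutatorElement

section group

variable {H : Type*} [Group H] [Finite H] {p : ℕ} [hp : Fact p.Prime]

/-- The derived group of `Aut H` stabilizes a characteristic series of cyclic factors. -/
theorem exists_stabilizer_series (C : ℕ → Subgroup H) (n : ℕ) (hchar : ∀ i, (C i).Characteristic)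
    (hstep : ∀ i < n, ∃ x ∈ C (i + 1), ∀ y ∈ C (i + 1), ∃ k : ℤ, y * (x ^ k)⁻¹ ∈ C i) :
    ∃ K : Subgroup (MulAut H), commutator (MulAut H) ≤ K ∧
      ∀ γ ∈ K, ∀ i < n, ∀ y ∈ C (i + 1), y⁻¹ * γ y ∈ C i := by
  have hmap : ∀ i (α : MulAut H) (x : H), x ∈ C i → α x ∈ C i := fun i α x hx =>
    Subgroup.characteristic_iff_le_comap.1 (hchar i) α hx
  let K : Subgroup (MulAut H) :=
    { carrier := {γ | ∀ i < n, ∀ y ∈ C (i + 1), y⁻¹ * γ y ∈ C i}
      one_mem' := fun i _ y _ => by simp
      mul_mem' := fun {a b} ha hb i hi y hy => by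
        have h := mul_mem (ha i hi y hy) (hmap i a _ (hb i hi y hy))
        rw [map_mul, map_inv, mul_assoc, mul_inv_cancel_left] at h
        exact h
      inv_mem' := fun {a} ha i hi y hy => by
        have h := (C i).inv_mem (ha i hi _ (hmap (i + 1) a⁻¹ y hy))
        rw [mul_inv_rev, inv_inv, MulAut.apply_inv_self] at h
        exact h }
  have hcomm : commutator (MulAut H) ≤ K := by
    rw [commutator_def, Subgroup.commutator_le]
    intro α _ β _ i hi y hy
    haveI : (C i).Normal := haveI := hchar i; inferInstance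
    obtain ⟨x, hx, hgen⟩ := hstep i hi
    let q := QuotientGroup.mk' (C i)
    have hq : ∀ γ : MulAut H, ∃ a : ℤ, ∀ w ∈ C (i + 1), q (γ w) = q w ^ a := by
      intro γ
      obtain ⟨a, ha⟩ := hgen _ (hmap (i + 1) γ x hx)
      refine ⟨a, fun w hw => ?_⟩
      obtain ⟨k, hk⟩ := hgen w hw
      have e1 : q w = q x ^ k := by
        rw [← map_zpow, ← mul_inv_eq_one, ← map_inv, ← map_mul]
        exact (QuotientGroup.eq_one_iff _).2 hk
      have e2 : q (γ x) = q x ^ a := by
        rw [← map_zpow, ← mul_inv_eq_one, ← map_inv, ← map_mul]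
        exact (QuotientGroup.eq_one_iff _).2 ha
      have e3 : q (γ w) = q (γ x) ^ k := by
        have h := hmap i γ _ hk
        rw [map_mul, map_inv, map_zpow] at h
        rw [← map_zpow, ← mul_inv_eq_one, ← map_inv, ← map_mul]
        exact (QuotientGroup.eq_one_iff _).2 h
      rw [e3, e2, e1, ← zpow_mul, ← zpow_mul, mul_comm]
    obtain ⟨a, ha⟩ := hq α
    obtain ⟨b, hb⟩ := hq β
    set w := (β * α)⁻¹ y with hw
    have hw' : w ∈ C (i + 1) := hmap _ _ _ hy
    have hwy : β (α w) = y := MulAut.apply_inv_self H (β * α) y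
    have he : ⁅α, β⁆ y = α (β w) := by
      rw [commutatorElement_def, hw, mul_inv_rev]; rfl
    have hqe : q (α (β w)) = q (β (α w)) := by
      rw [ha _ (hmap _ β _ hw'), hb _ hw', hb _ (hmap _ α _ hw'), ha _ hw', ← zpow_mul, ← zpow_mul, mul_comm]
    rw [hwy] at hqe
    rw [he]
    exact QuotientGroup.eq.1 hqe.symm
  exact ⟨K, hcomm, fun γ hγ => hγ⟩

/-- A `p`-group with a characteristic series of cyclic factors: the derived group of its automorphism group is a
`p`-group. -/
theorem isPGroup_commutator_of_series (hH : IsPGroup p H) (C : ℕ → Subgroup H) (n : ℕ) (h0 : C 0 = ⊥)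
    (hn : C n = ⊤) (hchar : ∀ i, (C i).Characteristic)
    (hstep : ∀ i < n, ∃ x ∈ C (i + 1), ∀ y ∈ C (i + 1), ∃ k : ℤ, y * (x ^ k)⁻¹ ∈ C i) :
    IsPGroup p (commutator (MulAut H)) := by
  obtain ⟨K, hcomm, hK⟩ := exists_stabilizer_series C n hchar hstep
  refine IsPGroup.to_le (fun ⟨γ, hγ⟩ => ?_) hcomm
  obtain ⟨k, m, hm, hkm⟩ := Nat.exists_eq_pow_mul_and_not_dvd (orderOf_pos γ).ne' p hp.out.ne_one
  refine ⟨k, Subtype.ext ?_⟩
  have hγ' : γ ^ p ^ k ∈ K := pow_mem hγ _
  have hcop : (orderOf (γ ^ p ^ k)).Coprime p := by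
    refine Nat.Coprime.coprime_dvd_left (k := m) (orderOf_dvd_of_pow_eq_one ?_)
      ((hp.out.coprime_iff_not_dvd.2 hm).symm)
    rw [← pow_mul, ← hkm, pow_orderOf_eq_one]
  refine MulEquiv.ext fun x => ?_
  refine fix_of_chain hH hcop ⊤ (fun _ _ => trivial) (fun i => if i ≤ n then C i else ⊤) ?_ ?_ n x trivial ?_
  · simpa using h0
  · intro i y _ hy
    by_cases hi : i < n
    · simp only [if_pos (show i + 1 ≤ n by omega)] at hy
      simp only [if_pos hi.le]
      exact hK _ hγ' i hi y hy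
    · by_cases hi' : i ≤ n
      · rw [if_pos hi', show i = n by omega, hn]; trivial
      · rw [if_neg hi']; trivial
  · simp [hn]

/-- Characteristic subgroups `A ≤ B` of orders `p`, `p²` in a group of order `p³`. -/
theorem isPGroup_commutator_of_pair (hH : IsPGroup p H) (hcard : Nat.card H = p ^ 3) (A B : Subgroup H)
    (hA : A.Characteristic) (hB : B.Characteristic) (hAB : A ≤ B) (h1 : Nat.card A = p)
    (h2 : Nat.card B = p ^ 2) : IsPGroup p (commutator (MulAut H)) := by
  have gen : ∀ U V : Subgroup H, U.Normal → U ≤ V → Nat.card V = p * Nat.card U →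
      ∃ x ∈ V, ∀ y ∈ V, ∃ k : ℤ, y * (x ^ k)⁻¹ ∈ U := by
    intro U V hU hUV hc
    obtain ⟨x, hxV, hxU⟩ : ∃ x ∈ V, x ∉ U := by
      by_contra! h
      have := Subgroup.card_le_of_le (show V ≤ U from h)
      rw [hc] at this
      nlinarith [hp.out.two_le, Nat.card_pos (α := U)]
    refine ⟨x, hxV, fun y hy => ?_⟩
    have hle : U ⊔ Subgroup.zpowers x ≤ V := sup_le hUV (Subgroup.zpowers_le.2 hxV)
    have hdl : Nat.card U ∣ Nat.card (U ⊔ Subgroup.zpowers x : Subgroup H) := Subgroup.card_dvd_of_le le_sup_left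
    obtain ⟨c, hcc⟩ := hdl
    have hdr := Subgroup.card_dvd_of_le hle
    rw [hc, hcc, mul_comm p] at hdr
    have htop : U ⊔ Subgroup.zpowers x = V := by
      rcases (Nat.dvd_prime hp.out).1 (Nat.dvd_of_mul_dvd_mul_left Nat.card_pos hdr) with rfl | rfl
      · rw [mul_one] at hcc
        have := Subgroup.eq_of_le_of_card_ge (le_sup_left (b := Subgroup.zpowers x)) hcc.le
        exact absurd (this.ge ((le_sup_right : Subgroup.zpowers x ≤ U ⊔ _) (Subgroup.mem_zpowers x))) hxU
      · exact Subgroup.eq_of_le_of_card_ge hle (by rw [hc, hcc, mul_comm])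
    rw [← htop] at hy
    obtain ⟨u, hu, v, hv, rfl⟩ := Subgroup.mem_sup_of_normal_left.1 hy
    obtain ⟨k, rfl⟩ := Subgroup.mem_zpowers_iff.1 hv
    exact ⟨k, by rwa [mul_inv_cancel_right]⟩
  haveI := hA
  haveI := hB
  refine isPGroup_commutator_of_series hH
    (fun i => if i = 0 then ⊥ else if i = 1 then A else if i = 2 then B else ⊤) 3 rfl rfl (fun i => ?_) ?_
  · split_ifs <;> infer_instance
  · intro i hi
    interval_cases i
    · exact gen ⊥ A inferInstance bot_le (by rw [h1, Subgroup.card_bot, mul_one])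
    · exact gen A B inferInstance hAB (by rw [h1, h2, sq])
    · exact gen B ⊤ inferInstance le_top (by rw [Subgroup.card_top, hcard, h2, ← pow_succ'])

/-- A group of automorphisms preserving a series of cyclic steps stabilizes it on its derived group. -/
theorem stabilizer_series_of_invariant (C : ℕ → Subgroup H) (n : ℕ) (A : Subgroup (MulAut H))
    (hnorm : ∀ i, (C i).Normal) (hinv : ∀ i, ∀ α ∈ A, ∀ x ∈ C i, α x ∈ C i)
    (hstep : ∀ i < n, ∃ x ∈ C (i + 1), ∀ y ∈ C (i + 1), ∃ k : ℤ, y * (x ^ k)⁻¹ ∈ C i)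
    {α β : MulAut H} (hα : α ∈ A) (hβ : β ∈ A) :
    ∀ i < n, ∀ y ∈ C (i + 1), y⁻¹ * ⁅α, β⁆ y ∈ C i := by
  intro i hi y hy
  haveI := hnorm i
  obtain ⟨x, hx, hgen⟩ := hstep i hi
  let q := QuotientGroup.mk' (C i)
  have hq : ∀ γ ∈ A, ∃ a : ℤ, ∀ w ∈ C (i + 1), q (γ w) = q w ^ a := by
    intro γ hγ
    obtain ⟨a, ha⟩ := hgen _ (hinv (i + 1) γ hγ x hx)
    refine ⟨a, fun w hw => ?_⟩
    obtain ⟨k, hk⟩ := hgen w hw
    have e1 : q w = q x ^ k := by
      rw [← map_zpow, ← mul_inv_eq_one, ← map_inv, ← map_mul]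
      exact (QuotientGroup.eq_one_iff _).2 hk
    have e2 : q (γ x) = q x ^ a := by
      rw [← map_zpow, ← mul_inv_eq_one, ← map_inv, ← map_mul]
      exact (QuotientGroup.eq_one_iff _).2 ha
    have e3 : q (γ w) = q (γ x) ^ k := by
      have h := hinv i γ hγ _ hk
      rw [map_mul, map_inv, map_zpow] at h
      rw [← map_zpow, ← mul_inv_eq_one, ← map_inv, ← map_mul]
      exact (QuotientGroup.eq_one_iff _).2 h
    rw [e3, e2, e1, ← zpow_mul, ← zpow_mul, mul_comm]
  obtain ⟨a, ha⟩ := hq α hα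
  obtain ⟨b, hb⟩ := hq β hβ
  set w := (β * α)⁻¹ y with hw
  have hw' : w ∈ C (i + 1) := hinv _ _ (A.inv_mem (A.mul_mem hβ hα)) _ hy
  have hwy : β (α w) = y := MulAut.apply_inv_self H (β * α) y
  have he : ⁅α, β⁆ y = α (β w) := by
    rw [commutatorElement_def, hw, mul_inv_rev]; rfl
  have hqe : q (α (β w)) = q (β (α w)) := by
    rw [ha _ (hinv _ β hβ _ hw'), hb _ hw', hb _ (hinv _ α hα _ hw'), ha _ hw', ← zpow_mul, ← zpow_mul, mul_comm]
  rw [hwy] at hqe
  rw [he]
  exact QuotientGroup.eq.1 hqe.symm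

/-- An automorphism of order prime to `p` stabilizing a series is trivial. -/
theorem eq_one_of_stabilizes (hH : IsPGroup p H) (C : ℕ → Subgroup H) (n : ℕ) (h0 : C 0 = ⊥) (hn : C n = ⊤)
    {γ : MulAut H} (hγ : ∀ i < n, ∀ y ∈ C (i + 1), y⁻¹ * γ y ∈ C i) (hcop : (orderOf γ).Coprime p) : γ = 1 := by
  refine MulEquiv.ext fun x => ?_
  refine fix_of_chain hH hcop ⊤ (fun _ _ => trivial) (fun i => if i ≤ n then C i else ⊤) ?_ ?_ n x trivial ?_
  · simpa using h0
  · intro i y _ hy
    by_cases hi : i < n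
    · simp only [if_pos (show i + 1 ≤ n by omega)] at hy
      simp only [if_pos hi.le]
      exact hγ i hi y hy
    · by_cases hi' : i ≤ n
      · rw [if_pos hi', show i = n by omega, hn]; trivial
      · rw [if_neg hi']; trivial
  · simp [hn]

/-- The derived group of a group of automorphisms preserving a series with cyclic steps is a `p`-group. -/
theorem isPGroup_commutator_of_invariant (hH : IsPGroup p H) (C : ℕ → Subgroup H) (n : ℕ) (h0 : C 0 = ⊥)
    (hn : C n = ⊤) (A : Subgroup (MulAut H)) (hnorm : ∀ i, (C i).Normal)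
    (hinv : ∀ i, ∀ α ∈ A, ∀ x ∈ C i, α x ∈ C i)
    (hstep : ∀ i < n, ∃ x ∈ C (i + 1), ∀ y ∈ C (i + 1), ∃ k : ℤ, y * (x ^ k)⁻¹ ∈ C i) :
    IsPGroup p (commutator A) := by
  let K : Subgroup A :=
    { carrier := {γ | ∀ i < n, ∀ y ∈ C (i + 1), y⁻¹ * (γ : MulAut H) y ∈ C i}
      one_mem' := fun i _ y _ => by simp
      mul_mem' := fun {a b} ha hb i hi y hy => by
        have h := mul_mem (ha i hi y hy) (hinv i a a.2 _ (hb i hi y hy))
        rw [map_mul, map_inv, mul_assoc, mul_inv_cancel_left] at h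
        exact h
      inv_mem' := fun {a} ha i hi y hy => by
        have h := (C i).inv_mem (ha i hi _ (hinv (i + 1) _ (A.inv_mem a.2) y hy))
        rw [mul_inv_rev, inv_inv, MulAut.apply_inv_self] at h
        exact h }
  have hcomm : commutator A ≤ K := by
    rw [commutator_def, Subgroup.commutator_le]
    exact fun α _ β _ => stabilizer_series_of_invariant C n A hnorm hinv hstep α.2 β.2
  refine IsPGroup.to_le (fun ⟨γ, hγ⟩ => ?_) hcomm
  obtain ⟨k, m, hm, hkm⟩ := Nat.exists_eq_pow_mul_and_not_dvd (orderOf_pos γ).ne' p hp.out.ne_one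
  refine ⟨k, Subtype.ext (Subtype.ext (eq_one_of_stabilizes hH C n h0 hn
    (γ := ((γ ^ p ^ k : A) : MulAut H)) (pow_mem hγ (p ^ k) : γ ^ p ^ k ∈ K) ?_))⟩
  refine Nat.Coprime.coprime_dvd_left (k := m) (orderOf_dvd_of_pow_eq_one ?_)
    ((hp.out.coprime_iff_not_dvd.2 hm).symm)
  rw [← SubmonoidClass.coe_pow, ← pow_mul, ← hkm, pow_orderOf_eq_one]
  rfl

end group

variable {Ω : Type*} [Group Ω] {S : Subgroup Ω} [Finite S] {p : ℕ} [hp : Fact p.Prime] {F : FusionSystem S}

/-- No derived `p`-group in the automorphism group of an essential subgroup. -/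
theorem not_isPGroup_commutator_mulAut (hS : IsPGroup p S) (hF : F.IsSaturated p) {H : Subgroup Ω}
    (hH : F.IsEssential p H) : ¬ IsPGroup p (commutator (MulAut H)) := by
  intro hc
  haveI := finite_of_le hH.1.1
  have hrad := (essential_radical hS hF hH).2
  obtain ⟨hn, M, hM⟩ := hH.2.2
  have hCp : IsPGroup p (commutator (F.autGroup H)) := by
    have h1 : (commutator (F.autGroup H)).map (F.autGroup H).subtype ≤ commutator (MulAut H) := by
      rw [commutator_def, commutator_def, Subgroup.map_commutator]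
      exact Subgroup.commutator_mono le_top le_top
    exact IsPGroup.of_equiv (hc.to_le h1)
      (Subgroup.equivMapOfInjective _ _ (F.autGroup H).subtype_injective).symm
  obtain ⟨P, hP⟩ := hCp.exists_le_sylow
  have hPn : (P : Subgroup (F.autGroup H)).Normal := Subgroup.Normal.of_commutator_le _ hP
  set I := (Inn H).subgroupOf (F.autGroup H) with hI
  have hle : (P : Subgroup (F.autGroup H)) ≤ I := fun x hx => Subgroup.mem_subgroupOf.2
    (hrad.le ⟨x, Cfsg.Agent.PBasic.le_pCore hPn P.2 hx, rfl⟩)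
  exact P.not_dvd_index (hM.1.trans (Subgroup.index_dvd_of_le hle))

/-- An essential subgroup has no derived `p`-group in its automizer. -/
theorem not_isPGroup_commutator_autGroup (hS : IsPGroup p S) (hF : F.IsSaturated p) {H : Subgroup Ω}
    (hH : F.IsEssential p H) : ¬ IsPGroup p (commutator (F.autGroup H)) := by
  intro hc
  haveI := finite_of_le hH.1.1
  have hrad := (essential_radical hS hF hH).2
  obtain ⟨hn, M, hM⟩ := hH.2.2
  obtain ⟨P, hP⟩ := hc.exists_le_sylow
  have hPn : (P : Subgroup (F.autGroup H)).Normal := Subgroup.Normal.of_commutator_le _ hP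
  have hle : (P : Subgroup (F.autGroup H)) ≤ (Inn H).subgroupOf (F.autGroup H) := fun x hx =>
    Subgroup.mem_subgroupOf.2 (hrad.le ⟨x, Cfsg.Agent.PBasic.le_pCore hPn P.2 hx, rfl⟩)
  exact P.not_dvd_index (hM.1.trans (Subgroup.index_dvd_of_le hle))

end Cfsg.Agent.FusionSys
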