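import Cfsg.Agent.Lib.Fusion.Alperin
import Cfsg.Agent.Lib.Fusion.InnerCriterion
import Cfsg.Agent.Lib.Fusion.Normal

/-!
# Fusion systems on a `p`-group with an extraspecial subgroup of index `p`

The context is a `p`-group `S` whose commutators lie in a central subgroup `⟨z⟩` of order `p`.
In an abelian essential subgroup the automorphisms moving `⟨z⟩` produce a map of `S` acting on
`Z(S)` with `z ↦ z²`; its fixed points in `Z(S)` are invariant under the system.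
-/

set_option autoImplicit false

namespace Cfsg.Agent.FusionSys.ExtraCentre

open Cfsg Cfsg.FusionSystem

section shifts

variable {A : Type*} [Group A]

theorem zpow_fix {f : MulAut A} {c : A} (hc : f c = c) (n : ℤ) : (f ^ n) c = c := by
  induction n with
  | zero => simp
  | succ n ih => rw [zpow_add_one, MulAut.mul_apply, hc, ih]
  | pred n ih =>
    rw [zpow_sub_one, MulAut.mul_apply]
    conv_lhs => arg 2; arg 2; rw [← hc]
    rw [show f⁻¹ (f c) = c from f.symm_apply_apply c, ih]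

theorem zpow_shift {f : MulAut A} {x c : A} (hc : f c = c) (hx : f x = x * c) (n : ℤ) :
    (f ^ n) x = x * c ^ n := by
  induction n with
  | zero => simp
  | succ n ih =>
    rw [zpow_add_one, MulAut.mul_apply, hx, map_mul, ih, zpow_fix hc, zpow_add_one, mul_assoc]
  | pred n ih =>
    have hi : f⁻¹ x = x * c⁻¹ := f.injective (by
      rw [show f (f⁻¹ x) = x from f.apply_symm_apply x, map_mul, map_inv, hx, hc, mul_inv_cancel_right])
    rw [zpow_sub_one, MulAut.mul_apply, hi, map_mul, map_inv, ih, zpow_fix hc, zpow_sub_one, mul_assoc]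

theorem shifts_commute {f g : MulAut A} {c : A} (hf : f c = c) (hg : g c = c)
    (hfs : ∀ x, ∃ i : ℤ, f x = x * c ^ i) (hgs : ∀ x, ∃ i : ℤ, g x = x * c ^ i) : f * g = g * f := by
  refine MulEquiv.ext fun x => ?_
  obtain ⟨i, hi⟩ := hfs x
  obtain ⟨j, hj⟩ := hgs x
  rw [MulAut.mul_apply, MulAut.mul_apply, hj, hi, map_mul, map_mul, map_zpow, map_zpow, hf, hg, hi, hj,
    mul_assoc, mul_assoc, ← zpow_add, ← zpow_add, add_comm]

end shifts

variable {Ω : Type*} [Group Ω] {S : Subgroup Ω} {p : ℕ}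

/-- The commutators of `S` lie in a central subgroup `⟨z⟩` of order `p`, and `S` is not abelian. -/
structure Ctx (S : Subgroup Ω) (p : ℕ) (z : Ω) : Prop where
  mem : z ∈ S
  central : ∀ s ∈ S, s * z = z * s
  ord : orderOf z = p
  comm : ∀ g ∈ S, ∀ x ∈ S, ∃ i : ℤ, g * x * g⁻¹ = x * z ^ i

/-- `Z(S)` inside the ambient group. -/
abbrev zs (S : Subgroup Ω) : Subgroup Ω := S ⊓ Subgroup.centralizer (S : Set Ω)

theorem mem_zs {x : Ω} : x ∈ zs S ↔ x ∈ S ∧ ∀ s ∈ S, s * x = x * s := by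
  rw [Subgroup.mem_inf, Subgroup.mem_centralizer_iff]; rfl

variable [hp : Fact p.Prime] [Finite S] {F : FusionSystem S} {z : Ω}

omit hp in
theorem zs_le_of_centric {F : FusionSystem S} {P : Subgroup Ω} (h : F.IsCentric P) : zs S ≤ P :=
  fun _ hx => h.2 P (isConj_refl F h.1)
    ⟨hx.1, Subgroup.centralizer_le (fun _ hy => h.1 hy) hx.2⟩

theorem z_mem_zs (hz : Ctx S p z) : z ∈ zs S := mem_zs.2 ⟨hz.mem, hz.central⟩

omit [Finite S] in
theorem gen_zpowers (hz : Ctx S p z) {x : Ω} (hx : x ∈ Subgroup.zpowers z) (hx1 : x ≠ 1) :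
    z ∈ Subgroup.zpowers x := by
  haveI : Finite (Subgroup.zpowers z) := Nat.finite_of_card_ne_zero (by
    rw [Nat.card_zpowers, hz.ord]; exact hp.out.ne_zero)
  have hcard : Nat.card (Subgroup.zpowers z) = p := by rw [Nat.card_zpowers, hz.ord]
  have hle : Subgroup.zpowers x ≤ Subgroup.zpowers z := Subgroup.zpowers_le.2 hx
  have hd : Nat.card (Subgroup.zpowers x) ∣ p := hcard ▸ Subgroup.card_dvd_of_le hle
  rcases (Nat.dvd_prime hp.out).1 hd with h | h
  · exact absurd (Subgroup.card_eq_one.1 h ▸ Subgroup.mem_zpowers x : x ∈ (⊥ : Subgroup Ω))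
      (fun h => hx1 (Subgroup.mem_bot.1 h))
  · rw [Subgroup.eq_of_le_of_card_ge hle (by rw [h, hcard])]
    exact Subgroup.mem_zpowers z

theorem conj_shift_aut (hz : Ctx S p z) {E : Subgroup Ω} (hES : E ≤ S) (hzE : z ∈ E) {t : MulAut E}
    (ht : t ∈ autInducedBy S E) :
    t ⟨z, hzE⟩ = ⟨z, hzE⟩ ∧ ∀ x : E, ∃ i : ℤ, t x = x * (⟨z, hzE⟩ : E) ^ i := by
  obtain ⟨g, hg, hge⟩ := (mem_autInducedBy_iff t).1 ht
  refine ⟨Subtype.ext ?_, fun x => ?_⟩
  · rw [hge]; exact mul_inv_eq_iff_eq_mul.2 (hz.central g hg)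
  · obtain ⟨i, hi⟩ := hz.comm g hg x (hES x.2)
    exact ⟨i, Subtype.ext (by rw [hge]; simpa using hi)⟩

section essential

variable {E : Subgroup Ω} (hS : IsPGroup p S) (hF : F.IsSaturated p) (hz : Ctx S p z)
  (hE : F.IsEssential p E) (hab : ∀ a ∈ E, ∀ b ∈ E, a * b = b * a)

include hab in
theorem inn_eq_one {a : MulAut E} (ha : a ∈ Inn E) : a = 1 := by
  obtain ⟨q, rfl⟩ := ha
  refine MulEquiv.ext fun x => Subtype.ext ?_
  show (q : Ω) * x * (q : Ω)⁻¹ = x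
  exact mul_inv_eq_iff_eq_mul.2 (hab q q.2 x x.2)

include hS hF hz hE hab in
/-- An automorphism outside the strongly embedded subgroup moves the centre of transvections. -/
theorem exists_mover (hzE : z ∈ E) : ∃ a ∈ F.autGroup E, ((a ⟨z, hzE⟩ : E) : Ω) ∉ Subgroup.zpowers z ∧
    ∀ t ∈ autInducedBy S E, t (a ⟨z, hzE⟩) = a ⟨z, hzE⟩ → t = 1 := by
  obtain ⟨M, hM, hTM⟩ := exists_stronglyEmbedded_ge_outS hS hF hE
  have := finite_of_le hE.1.1
  set zE : E := ⟨z, hzE⟩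
  have hz1 : zE ^ (p : ℤ) = 1 := Subtype.ext (by
    show z ^ (p : ℤ) = 1
    rw [zpow_natCast, ← hz.ord, pow_orderOf_eq_one])
  have lemA : ∀ (a : F.autGroup E) (t : MulAut E), t ∈ autInducedBy S E → t ≠ 1 →
      t ((a : MulAut E) zE) = (a : MulAut E) zE → outMk F E a ∈ M := by
    intro a t ht ht1 hfix
    obtain ⟨htz, hts⟩ := conj_shift_aut hz hE.1.1 hzE ht
    set ta : F.autGroup E := ⟨t, autInducedBy_le_autGroup F hE.1.1 ht⟩ with hta
    have hbar : outMk F E ta ∈ M := hTM ⟨ta, ht, rfl⟩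
    have hord : orderOf (outMk F E ta) = p := by
      refine orderOf_eq_prime ?_ fun h => ht1 (inn_eq_one hab ((outMk_eq_one_iff F E ta).1 h))
      rw [← map_pow, ← zpow_natCast, show ta ^ (p : ℤ) = 1 from ?_, map_one]
      refine Subtype.ext (MulEquiv.ext fun x => ?_)
      obtain ⟨i, hi⟩ := hts x
      show ((t ^ (p : ℤ) : MulAut E) x) = x
      rw [zpow_shift (by rw [map_zpow, htz]) hi, ← zpow_mul, mul_comm i, zpow_mul, hz1, one_zpow, mul_one]
    set v : F.autGroup E := a⁻¹ * ta * a with hv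
    have hvz : (v : MulAut E) zE = zE := by
      show (a : MulAut E)⁻¹ (t ((a : MulAut E) zE)) = zE
      rw [hfix]; exact (a : MulAut E).symm_apply_apply zE
    set w : F.autGroup E := v * ta * v⁻¹ with hw
    have hcomm : (w : MulAut E) * t = t * (w : MulAut E) := by
      refine shifts_commute ?_ htz (fun x => ?_) hts
      · show (v : MulAut E) (t ((v : MulAut E)⁻¹ zE)) = zE
        have : (v : MulAut E)⁻¹ zE = zE := (v : MulAut E).injective (by
          rw [show (v : MulAut E) ((v : MulAut E)⁻¹ zE) = zE from (v : MulAut E).apply_symm_apply zE, hvz])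
        rw [this, htz, hvz]
      · obtain ⟨i, hi⟩ := hts ((v : MulAut E)⁻¹ x)
        refine ⟨i, ?_⟩
        show (v : MulAut E) (t ((v : MulAut E)⁻¹ x)) = _
        rw [hi, map_mul, map_zpow, hvz]
        congr 1
        exact (v : MulAut E).apply_symm_apply x
    have hwM : outMk F E w ∈ M := Cfsg.Agent.LEStrongEmb.centralizer_le hM hbar hord (by
      rw [Subgroup.mem_centralizer_singleton_iff, ← map_mul, ← map_mul]
      exact congrArg (outMk F E) (Subtype.ext hcomm))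
    rw [hw, map_mul, map_mul, map_inv] at hwM
    have hvM := Cfsg.Agent.LEStrongEmb.mem_of_conj_mem hM hord hbar hwM
    rw [hv, map_mul, map_mul, map_inv] at hvM
    have := Cfsg.Agent.LEStrongEmb.mem_of_conj_mem hM hord hbar (g := (outMk F E a)⁻¹) (by rwa [inv_inv])
    simpa using M.inv_mem this
  obtain ⟨y, -, hy⟩ := SetLike.exists_of_lt (lt_top_iff_ne_top.2 hM.2.1)
  obtain ⟨a, rfl⟩ := QuotientGroup.mk'_surjective _ y
  refine ⟨a, a.2, fun hmem => ?_, fun t ht hfix => by_contra fun ht1 => hy (lemA a t ht ht1 hfix)⟩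
  obtain ⟨g, hgN, hgE⟩ := SetLike.exists_of_lt (lt_normalizerIn hS (essential_lt hS hF hE))
  obtain ⟨t, ht, hte⟩ := exists_conjAut (P := E) hgN.1 hgN.2
  refine hy (lemA a t ht (fun h1 => hgE ?_) ?_)
  · exact mem_of_conj_mem_inn (F := F) (centralizerIn_le_of_centric hE.1) hgN.1 hE.1.1 hte
      (h1 ▸ one_mem _)
  · obtain ⟨i, hi⟩ := hmem
    have : (a : MulAut E) zE = zE ^ i := Subtype.ext (by rw [← hi]; rfl)
    rw [this, map_zpow, (conj_shift_aut hz hE.1.1 hzE ht).1]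

end essential

/-- The data of an abelian essential subgroup with a moving automorphism. -/
structure EData (S : Subgroup Ω) (F : FusionSystem S) (p : ℕ) (z : Ω) (E : Subgroup Ω) : Prop where
  le : E ≤ S
  normal : S ≤ Subgroup.normalizer (E : Set Ω)
  ab : ∀ a ∈ E, ∀ b ∈ E, a * b = b * a
  self : centralizerIn S E ≤ E
  zmem : z ∈ E
  index : (E.subgroupOf S).index = p

omit [Finite S] in
theorem normal_of_mem (hz : Ctx S p z) {E : Subgroup Ω} (hES : E ≤ S) (hzE : z ∈ E) :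
    S ≤ Subgroup.normalizer (E : Set Ω) := fun g hg => by
  refine mem_normalizer_of_conj_mem g (fun x hx => ?_) fun x hx => ?_
  · obtain ⟨i, hi⟩ := hz.comm g hg x (hES hx)
    rw [hi]; exact E.mul_mem hx (E.zpow_mem hzE i)
  · obtain ⟨i, hi⟩ := hz.comm g⁻¹ (S.inv_mem hg) x (hES hx)
    rw [inv_inv] at hi
    rw [hi]; exact E.mul_mem hx (E.zpow_mem hzE i)

theorem exists_data (hS : IsPGroup p S) (hF : F.IsSaturated p) (hz : Ctx S p z) {E : Subgroup Ω}
    (hE : F.IsEssential p E) (hab : ∀ a ∈ E, ∀ b ∈ E, a * b = b * a) :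
    ∃ h : EData S F p z E, ∃ a ∈ F.autGroup E, ((a ⟨z, h.zmem⟩ : E) : Ω) ∉ Subgroup.zpowers z := by
  have hzE : z ∈ E := zs_le_of_centric hE.1 (z_mem_zs hz)
  obtain ⟨a, ha, hmv, hinj⟩ := exists_mover hS hF hz hE hab hzE
  have hES := hE.1.1
  have hn := normal_of_mem hz hES hzE
  set x := a ⟨z, hzE⟩
  have hC := centralizerIn_le_of_centric hE.1
  refine ⟨⟨hES, hn, hab, hC, hzE, ?_⟩, a, ha, hmv⟩
  have hne : (E.subgroupOf S).index ≠ 1 := by
    rw [ne_eq, Subgroup.index_eq_one, Subgroup.subgroupOf_eq_top]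
    exact (essential_lt hS hF hE).not_ge
  haveI : Finite (Subgroup.zpowers z) := finite_of_le (Subgroup.zpowers_le.2 hz.mem)
  have hle : (E.subgroupOf S).index ≤ p := by
    rw [Subgroup.index_eq_card, ← hz.ord, ← Nat.card_zpowers]
    have hmem : ∀ g : S, (x : Ω)⁻¹ * ((g : Ω) * x * (g : Ω)⁻¹) ∈ Subgroup.zpowers z := fun g => by
      obtain ⟨i, hi⟩ := hz.comm g g.2 x (hES x.2)
      exact ⟨i, by rw [hi]; group⟩
    refine Nat.card_le_card_of_injective (fun q => (⟨_, hmem q.out⟩ : Subgroup.zpowers z)) fun q r hqr => ?_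
    rw [← QuotientGroup.out_eq' q, ← QuotientGroup.out_eq' r, QuotientGroup.eq, Subgroup.mem_subgroupOf]
    have h1 : (q.out : Ω) * x * (q.out : Ω)⁻¹ = (r.out : Ω) * x * (r.out : Ω)⁻¹ :=
      mul_left_cancel (congrArg Subtype.val hqr)
    have hgS := (q.out⁻¹ * r.out).2
    obtain ⟨t, ht, hte⟩ := exists_conjAut (K := S) (P := E) hgS (hn hgS)
    refine mem_of_conj_mem_inn (F := F) hC hgS hES hte ?_
    rw [hinj t ht (Subtype.ext ?_)]
    · exact one_mem _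
    · rw [hte]
      push_cast
      calc (q.out : Ω)⁻¹ * r.out * x * ((q.out : Ω)⁻¹ * r.out)⁻¹
          = (q.out : Ω)⁻¹ * ((r.out : Ω) * x * (r.out : Ω)⁻¹) * q.out := by group
        _ = (x : Ω) := by rw [← h1]; group
  obtain ⟨i, hi⟩ := hS.index (E.subgroupOf S)
  rw [hi] at hne hle ⊢
  rcases i with _ | i
  · exact absurd (pow_zero p) hne
  · have h2 : p ^ 1 ≤ p ^ (i + 1) := Nat.pow_le_pow_right hp.out.pos (by omega)
    rw [pow_one] at h2
    omega

section data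

variable {E : Subgroup Ω} (hS : IsPGroup p S) (hF : F.IsSaturated p) (hz : Ctx S p z) (hd : EData S F p z E)

include hd in
theorem sylow_T (hS : IsPGroup p S) (hF : F.IsSaturated p) :
    ∃ R : Sylow p (F.autGroup E), (R : Subgroup _) = (autInducedBy S E).subgroupOf (F.autGroup E) :=
  (fullyNormalized_imp hS hF (fullyNormalized_of_normal (F := F) hd.le hd.normal)).2.2

include hS hF hd in
/-- A `p`-element normalizing `Aut_S(E)` lies in it. -/
theorem mem_T {v : F.autGroup E} {k : ℕ} (hv : v ^ p ^ k = 1)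
    (hn : v ∈ Subgroup.normalizer (((autInducedBy S E).subgroupOf (F.autGroup E) : Subgroup _) : Set (F.autGroup E))) :
    (v : MulAut E) ∈ autInducedBy S E := by
  have := finite_of_le hd.le
  obtain ⟨R, hR⟩ := sylow_T hd hS hF
  rw [← hR] at hn
  have hV : IsPGroup p (Subgroup.zpowers v) := by
    obtain ⟨j, -, hj⟩ := (Nat.dvd_prime_pow hp.out).1 (orderOf_dvd_of_pow_eq_one hv)
    exact IsPGroup.of_card ((Nat.card_zpowers v).trans hj)
  have hsup := hV.to_sup_of_normal_right' R.2 (Subgroup.zpowers_le.2 hn)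
  have := R.is_maximal' hsup le_sup_right
  have hvR : v ∈ (R : Subgroup _) := this ▸ le_sup_left (a := Subgroup.zpowers v) (Subgroup.mem_zpowers v)
  rw [hR] at hvR
  exact hvR

include hS hF hz hd in
/-- An automorphism preserving `⟨z⟩` normalizes `Aut_S(E)`. -/
theorem conj_mem_T {b : F.autGroup E}
    (hb : (((b : MulAut E) ⟨z, hd.zmem⟩ : E) : Ω) ∈ Subgroup.zpowers z) {t : MulAut E}
    (ht : t ∈ autInducedBy S E) : (b : MulAut E) * t * (b : MulAut E)⁻¹ ∈ autInducedBy S E := by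
  set zE : E := ⟨z, hd.zmem⟩
  obtain ⟨k, hk⟩ := hb
  have hbz : (b : MulAut E) zE = zE ^ k := Subtype.ext (by rw [← hk]; rfl)
  obtain ⟨htz, hts⟩ := conj_shift_aut hz hd.le hd.zmem ht
  set ta : F.autGroup E := ⟨t, autInducedBy_le_autGroup F hd.le ht⟩
  set v : F.autGroup E := b * ta * b⁻¹ with hv
  have hvs : ∀ x, ∃ i : ℤ, (v : MulAut E) x = x * zE ^ i := fun x => by
    obtain ⟨i, hi⟩ := hts ((b : MulAut E)⁻¹ x)
    refine ⟨k * i, ?_⟩
    show (b : MulAut E) (t ((b : MulAut E)⁻¹ x)) = _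
    rw [hi, map_mul, map_zpow, hbz, ← zpow_mul]
    congr 1
    exact (b : MulAut E).apply_symm_apply x
  have hvz : (v : MulAut E) zE = zE := by
    have hc : t ((b : MulAut E) zE) = (b : MulAut E) zE := by rw [hbz, map_zpow, htz]
    -- `b z` is a generator of `⟨z⟩`, so `b⁻¹ z` is fixed by `t`
    have hne : z ^ k ≠ 1 := fun h => by
      have h1 : (b : MulAut E) zE = 1 := by rw [hbz]; exact Subtype.ext h
      rw [MulEquiv.map_eq_one_iff] at h1
      have := congrArg Subtype.val h1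
      exact hp.out.ne_one (hz.ord ▸ orderOf_eq_one_iff.2 this)
    obtain ⟨l, hl⟩ := gen_zpowers hz ⟨k, rfl⟩ hne
    have hzl : zE = ((b : MulAut E) zE) ^ l := by
      rw [hbz]; exact Subtype.ext hl.symm
    have hbi : (b : MulAut E)⁻¹ zE = zE ^ l := by
      conv_lhs => rw [hzl]
      rw [map_zpow, show (b : MulAut E)⁻¹ ((b : MulAut E) zE) = zE from (b : MulAut E).symm_apply_apply zE]
    show (b : MulAut E) (t ((b : MulAut E)⁻¹ zE)) = zE
    rw [hbi, map_zpow, htz, map_zpow, ← hzl]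
  refine mem_T hS hF hd (v := v) (k := 1) ?_ ?_
  · refine Subtype.ext (MulEquiv.ext fun x => ?_)
    obtain ⟨i, hi⟩ := hvs x
    show (((v : MulAut E) ^ (p ^ 1)) x) = x
    rw [pow_one, ← zpow_natCast, zpow_shift (by rw [map_zpow, hvz]) hi, ← zpow_mul, mul_comm i, zpow_mul,
      show zE ^ (p : ℤ) = 1 from Subtype.ext (by
        show z ^ (p : ℤ) = 1
        rw [zpow_natCast, ← hz.ord, pow_orderOf_eq_one]), one_zpow, mul_one]
  · refine Subgroup.centralizer_le_normalizer _ (Subgroup.mem_centralizer_iff.2 fun u hu => ?_)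
    obtain ⟨huz, hus⟩ := conj_shift_aut hz hd.le hd.zmem (Subgroup.mem_subgroupOf.1 hu)
    exact Subtype.ext (shifts_commute huz hvz hus hvs)

include hS hF hz hd in
theorem fix_eq_one {a : F.autGroup E} (ha : (((a : MulAut E) ⟨z, hd.zmem⟩ : E) : Ω) ∉ Subgroup.zpowers z)
    {t : MulAut E} (ht : t ∈ autInducedBy S E)
    (hfix : t ((a : MulAut E) ⟨z, hd.zmem⟩) = (a : MulAut E) ⟨z, hd.zmem⟩) : t = 1 := by
  by_contra ht1
  set zE : E := ⟨z, hd.zmem⟩
  obtain ⟨htz, hts⟩ := conj_shift_aut hz hd.le hd.zmem ht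
  set v : F.autGroup E := a⁻¹ * ⟨t, autInducedBy_le_autGroup F hd.le ht⟩ * a with hv
  have hvz : (v : MulAut E) zE = zE := by
    show (a : MulAut E)⁻¹ (t ((a : MulAut E) zE)) = zE
    rw [hfix]; exact (a : MulAut E).symm_apply_apply zE
  have hvT : (v : MulAut E) ∈ autInducedBy S E := by
    have := finite_of_le hd.le
    have hnorm : v ∈ Subgroup.normalizer
        (((autInducedBy S E).subgroupOf (F.autGroup E) : Subgroup _) : Set (F.autGroup E)) := by
      refine mem_normalizer_of_conj_mem v (fun u hu => ?_) fun u hu => ?_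
      · exact Subgroup.mem_subgroupOf.2 (conj_mem_T hS hF hz hd
          (show (((v : MulAut E) zE : E) : Ω) ∈ _ by rw [hvz]; exact Subgroup.mem_zpowers z)
          (Subgroup.mem_subgroupOf.1 hu))
      · have hvi : ((v⁻¹ : F.autGroup E) : MulAut E) zE = zE := by
          show (v : MulAut E)⁻¹ zE = zE
          conv_lhs => rw [← hvz]
          exact (v : MulAut E).symm_apply_apply zE
        have := conj_mem_T hS hF hz hd
          (show ((((v⁻¹ : F.autGroup E) : MulAut E) zE : E) : Ω) ∈ _ by rw [hvi]; exact Subgroup.mem_zpowers z)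
          (Subgroup.mem_subgroupOf.1 hu)
        exact Subgroup.mem_subgroupOf.2 (by simpa using this)
    refine mem_T hS hF hd (k := 1) ?_ hnorm
    rw [pow_one]
    have htp : (⟨t, autInducedBy_le_autGroup F hd.le ht⟩ : F.autGroup E) ^ p = 1 := by
      refine Subtype.ext (MulEquiv.ext fun x => ?_)
      obtain ⟨i, hi⟩ := hts x
      show ((t ^ p : MulAut E) x) = x
      rw [← zpow_natCast, zpow_shift (by rw [map_zpow, htz]) hi, ← zpow_mul, mul_comm i, zpow_mul,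
        show zE ^ (p : ℤ) = 1 from Subtype.ext (by
          show z ^ (p : ℤ) = 1
          rw [zpow_natCast, ← hz.ord, pow_orderOf_eq_one]), one_zpow, mul_one]
    have hc := conj_pow (i := p) (a := a⁻¹) (b := (⟨t, autInducedBy_le_autGroup F hd.le ht⟩ : F.autGroup E))
    rw [htp, mul_one, mul_inv_cancel, inv_inv] at hc
    exact hc
  obtain ⟨-, hvs⟩ := conj_shift_aut hz hd.le hd.zmem hvT
  obtain ⟨x, hx⟩ : ∃ x, t x ≠ x := by
    by_contra h
    push_neg at h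
    exact ht1 (MulEquiv.ext h)
  obtain ⟨i, hi⟩ := hts x
  obtain ⟨j, hj⟩ := hvs ((a : MulAut E)⁻¹ x)
  have h1 : (v : MulAut E) ((a : MulAut E)⁻¹ x) = (a : MulAut E)⁻¹ x * (a : MulAut E)⁻¹ (zE ^ i) := by
    show (a : MulAut E)⁻¹ (t ((a : MulAut E) ((a : MulAut E)⁻¹ x))) = _
    rw [show (a : MulAut E) ((a : MulAut E)⁻¹ x) = x from (a : MulAut E).apply_symm_apply x, hi, map_mul]
  rw [hj, mul_left_cancel_iff] at h1
  have hji : (a : MulAut E) (zE ^ j) = zE ^ i := by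
    rw [h1]; exact (a : MulAut E).apply_symm_apply _
  have hne : z ^ j ≠ 1 := fun h => hx (by
    rw [hi, ← hji, show zE ^ j = 1 from Subtype.ext h, map_one, mul_one])
  obtain ⟨l, hl⟩ := gen_zpowers hz ⟨j, rfl⟩ hne
  refine ha ⟨i * l, ?_⟩
  have : (a : MulAut E) zE = zE ^ (i * l) := by
    conv_lhs => rw [show zE = (zE ^ j) ^ l from Subtype.ext hl.symm, map_zpow, hji]
    rw [zpow_mul]
  rw [this]; rfl

include hS hF hz hd in
/-- An automorphism moving `⟨z⟩` gives a map of `S` squaring `z`, with controlled fixed points in `Z(S)`. -/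
theorem exists_torus (hodd : Odd p) {a : F.autGroup E}
    (ha : (((a : MulAut E) ⟨z, hd.zmem⟩ : E) : Ω) ∉ Subgroup.zpowers z) :
    ∃ s ∈ F.autGroup S, ((s ⟨z, hz.mem⟩ : S) : Ω) = z ^ (2 : ℤ) ∧
      (∀ c : S, (c : Ω) ∈ zs S → ∃ (w : S) (i : ℤ), (w : Ω) ∈ zs S ∧ s w = w ∧
        (c : Ω) = w * z ^ i) ∧
      ∀ c : S, (c : Ω) ∈ zs S → ∀ hc : (c : Ω) ∈ E,
        (s c = c ↔ ∀ t ∈ autInducedBy S E,
          (a : MulAut E) (t ((a : MulAut E)⁻¹ ⟨c, hc⟩)) = ⟨c, hc⟩) := by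
  have := finite_of_le hd.le
  set zE : E := ⟨z, hd.zmem⟩ with hzEdef
  set y : E := (a : MulAut E) zE with hy
  have hzp : zE ^ (p : ℤ) = 1 := Subtype.ext (by
    show z ^ (p : ℤ) = 1
    rw [zpow_natCast, ← hz.ord, pow_orderOf_eq_one])
  have hyp : y ^ (p : ℤ) = 1 := by rw [hy, ← map_zpow, hzp, map_one]
  have hinj : ∀ t ∈ autInducedBy S E, t y = y → t = 1 := fun t ht => fix_eq_one hS hF hz hd ha ht
  haveI : Finite (Subgroup.zpowers z) := finite_of_le (Subgroup.zpowers_le.2 hz.mem)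
  have hz1 : z ≠ 1 := fun h => hp.out.ne_one (hz.ord ▸ orderOf_eq_one_iff.2 h)
  -- an element of `S` inducing `y ↦ y z`
  obtain ⟨g, hgS, hgy⟩ : ∃ g ∈ S, g * (y : Ω) * g⁻¹ = y * z := by
    have hmem : ∀ g : S, (y : Ω)⁻¹ * ((g : Ω) * y * (g : Ω)⁻¹) ∈ Subgroup.zpowers z := fun g => by
      obtain ⟨i, hi⟩ := hz.comm g g.2 y (hd.le y.2)
      exact ⟨i, by rw [hi]; group⟩
    let f : S ⧸ E.subgroupOf S → Subgroup.zpowers z := fun q => ⟨_, hmem q.out⟩
    have hf : Function.Injective f := by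
      intro q r hqr
      rw [← QuotientGroup.out_eq' q, ← QuotientGroup.out_eq' r, QuotientGroup.eq, Subgroup.mem_subgroupOf]
      have h1 : (q.out : Ω) * y * (q.out : Ω)⁻¹ = (r.out : Ω) * y * (r.out : Ω)⁻¹ :=
        mul_left_cancel (congrArg Subtype.val hqr)
      have hgS := (q.out⁻¹ * r.out).2
      obtain ⟨t, ht, hte⟩ := exists_conjAut (K := S) (P := E) hgS (hd.normal hgS)
      refine mem_of_conj_mem_inn (F := F) hd.self hgS hd.le hte ?_
      rw [hinj t ht (Subtype.ext ?_)]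
      · exact one_mem _
      · rw [hte]
        push_cast
        calc (q.out : Ω)⁻¹ * r.out * y * ((q.out : Ω)⁻¹ * r.out)⁻¹
            = (q.out : Ω)⁻¹ * ((r.out : Ω) * y * (r.out : Ω)⁻¹) * q.out := by group
          _ = (y : Ω) := by rw [← h1]; group
    have hb := hf.bijective_of_nat_card_le (by
      rw [Nat.card_zpowers, hz.ord, ← Subgroup.index_eq_card, hd.index])
    obtain ⟨q, hq⟩ := hb.2 ⟨z, Subgroup.mem_zpowers z⟩
    refine ⟨q.out, q.out.2, ?_⟩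
    have h := congrArg Subtype.val hq
    show (q.out : Ω) * y * (q.out : Ω)⁻¹ = _
    exact inv_mul_eq_iff_eq_mul.1 h
  obtain ⟨t₁, ht₁, ht₁e⟩ := exists_conjAut (K := S) (P := E) hgS (hd.normal hgS)
  obtain ⟨htz, hts⟩ := conj_shift_aut hz hd.le hd.zmem ht₁
  rw [← hzEdef] at htz
  have hty : t₁ y = y * zE := Subtype.ext (by rw [ht₁e]; exact hgy)
  have hgE : g ∉ E := fun hg => hz1 (by
    have := hgy
    rw [hd.ab g hg y y.2, mul_inv_cancel_right] at this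
    exact left_eq_mul.1 this)
  have hTpow : ∀ t ∈ autInducedBy S E, ∃ n : ℤ, t = t₁ ^ n := by
    intro t ht
    obtain ⟨htz', hts'⟩ := conj_shift_aut hz hd.le hd.zmem ht
    obtain ⟨n, hn⟩ := hts' y
    rw [← hzEdef] at hn htz'
    refine ⟨n, eq_of_inv_mul_eq_one (hinj _ (mul_mem (inv_mem ht) (zpow_mem ht₁ n)) ?_)⟩
    rw [MulAut.mul_apply, zpow_shift htz hty, ← hn]
    exact t.symm_apply_apply y
  -- `E` is generated by `Z(S)` and `y`
  have hfixZ : ∀ x : E, t₁ x = x → (x : Ω) ∈ zs S := by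
    intro x hx
    refine mem_zs.2 ⟨hd.le x.2, fun s hs => ?_⟩
    set H := S ⊓ Subgroup.centralizer {(x : Ω)} with hH
    have hHm : ∀ s, s ∈ H ↔ s ∈ S ∧ s * x = x * s := fun s => by
      rw [hH, Subgroup.mem_inf, Subgroup.mem_centralizer_singleton_iff]
    have hEH : E ≤ H := fun s hs => (hHm s).2 ⟨hd.le hs, hd.ab s hs x x.2⟩
    have hgH : g ∈ H := (hHm g).2 ⟨hgS, mul_inv_eq_iff_eq_mul.1 (by rw [← ht₁e x, hx])⟩
    have hHS : S ≤ H := by
      rw [← Subgroup.subgroupOf_eq_top, ← Subgroup.index_eq_one]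
      have hd' := Subgroup.index_dvd_of_le (Subgroup.comap_mono (f := S.subtype) hEH : E.subgroupOf S ≤ H.subgroupOf S)
      rw [show (Subgroup.comap S.subtype E).index = p from hd.index] at hd'
      rcases (Nat.dvd_prime hp.out).1 hd' with h | h
      · exact h
      · exfalso
        have hlt : E.subgroupOf S < H.subgroupOf S :=
          lt_of_le_of_ne (Subgroup.comap_mono hEH) fun he =>
            hgE (Subgroup.mem_subgroupOf.1 (he.ge (show (⟨g, hgS⟩ : S) ∈ H.subgroupOf S from hgH)))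
        have := Subgroup.index_strictAnti hlt
        rw [hd.index, show (H.subgroupOf S).index = p from h] at this
        exact lt_irrefl _ this
    exact ((hHm s).1 (hHS hs)).2
  have hZfix : ∀ x : E, (x : Ω) ∈ zs S → ∀ t ∈ autInducedBy S E, t x = x := by
    intro x hx t ht
    obtain ⟨k, hk, hke⟩ := (mem_autInducedBy_iff t).1 ht
    exact Subtype.ext (by rw [hke]; exact mul_inv_eq_iff_eq_mul.2 ((mem_zs.1 hx).2 k hk))
  -- the conjugate transvection
  set u₀ : MulAut E := (a : MulAut E) * t₁ * (a : MulAut E)⁻¹ with hu₀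
  have hu₀y : u₀ y = y := by
    show (a : MulAut E) (t₁ ((a : MulAut E)⁻¹ ((a : MulAut E) zE))) = _
    rw [show (a : MulAut E)⁻¹ ((a : MulAut E) zE) = zE from (a : MulAut E).symm_apply_apply zE, htz]
  have hu₀s : ∀ x : E, ∃ i : ℤ, u₀ x = x * y ^ i := fun x => by
    obtain ⟨i, hi⟩ := hts ((a : MulAut E)⁻¹ x)
    refine ⟨i, ?_⟩
    show (a : MulAut E) (t₁ ((a : MulAut E)⁻¹ x)) = _
    rw [hi, map_mul, map_zpow, hy]
    congr 1
    exact (a : MulAut E).apply_symm_apply x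
  obtain ⟨j, hj⟩ := hu₀s zE
  have hzj : z ^ j ≠ 1 := by
    intro h
    have h1 : u₀ zE = zE := by
      rw [hj, hy, ← map_zpow, show zE ^ j = 1 from Subtype.ext h, map_one, mul_one]
    have h2 : t₁ ((a : MulAut E)⁻¹ zE) = (a : MulAut E)⁻¹ zE := (a : MulAut E).injective (by
      rw [show (a : MulAut E) ((a : MulAut E)⁻¹ zE) = zE from (a : MulAut E).apply_symm_apply zE]
      exact h1)
    have ha' : ((((a⁻¹ : F.autGroup E) : MulAut E) zE : E) : Ω) ∉ Subgroup.zpowers z := by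
      rintro ⟨m, hm⟩
      have hm' : (a : MulAut E)⁻¹ zE = zE ^ m := Subtype.ext hm.symm
      have hne : z ^ m ≠ 1 := fun h => by
        rw [show zE ^ m = 1 from Subtype.ext h, MulEquiv.map_eq_one_iff] at hm'
        exact hz1 (congrArg Subtype.val hm')
      obtain ⟨l, hl⟩ := gen_zpowers hz ⟨m, rfl⟩ hne
      refine ha ⟨l, ?_⟩
      have : (a : MulAut E) zE = zE ^ l := by
        conv_lhs => rw [show zE = (zE ^ m) ^ l from Subtype.ext hl.symm]
        rw [map_zpow, ← hm', show (a : MulAut E) ((a : MulAut E)⁻¹ zE) = zE from (a : MulAut E).apply_symm_apply zE]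
      show z ^ l = ((a : MulAut E) zE : E)
      rw [this]; rfl
    have h3 := fix_eq_one hS hF hz hd ha' ht₁ h2
    rw [h3] at hty
    exact hz1 (congrArg Subtype.val (left_eq_mul.1 hty))
  obtain ⟨k, hk⟩ := gen_zpowers hz ⟨j, rfl⟩ hzj
  have hk' : (y ^ j) ^ k = y := by
    rw [hy, ← map_zpow, ← map_zpow, show (zE ^ j) ^ k = zE from Subtype.ext hk]
  set u : MulAut E := u₀ ^ k with hu
  have huy : u y = y := zpow_fix hu₀y k
  have huz : u zE = zE * y := by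
    rw [hu, zpow_shift (by rw [map_zpow, hu₀y]) hj, hk']
  obtain ⟨q, hq⟩ := hodd
  have hp2 : (p : ℤ) = 2 * q + 1 := by exact_mod_cast hq
  have hcy : Commute zE y := Subtype.ext (hd.ab z hd.zmem y y.2)
  have hcy' : ∀ m n : ℤ, Commute (zE ^ m) (y ^ n) := fun m n => hcy.zpow_zpow m n
  obtain ⟨δ, hδ⟩ : ∃ δ : MulAut E, δ = t₁ ^ (-2 : ℤ) * u ^ (-(q + 1) : ℤ) * t₁ * u := ⟨_, rfl⟩
  have hU : ∀ n : ℤ, (u ^ n) y = y ∧ (u ^ n) zE = zE * y ^ n :=
    fun n => ⟨zpow_fix huy n, zpow_shift huy huz n⟩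
  have hTz : ∀ n : ℤ, (t₁ ^ n) zE = zE ∧ (t₁ ^ n) y = y * zE ^ n :=
    fun n => ⟨zpow_fix htz n, zpow_shift htz hty n⟩
  have hδz : δ zE = zE ^ (2 : ℤ) := by
    rw [hδ, MulAut.mul_apply, MulAut.mul_apply, MulAut.mul_apply, huz, map_mul, htz, hty, map_mul (u ^ _),
      map_mul (u ^ _), (hU _).1, (hU _).2]
    have h1 : zE * y ^ (-(q + 1) : ℤ) * (y * (zE * y ^ (-(q + 1) : ℤ))) = zE ^ (2 : ℤ) := by
      calc zE * y ^ (-(q + 1) : ℤ) * (y * (zE * y ^ (-(q + 1) : ℤ)))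
          = zE * (y ^ (-(q + 1) : ℤ) * y * zE) * y ^ (-(q + 1) : ℤ) := by group
        _ = zE * (zE * (y ^ (-(q + 1) : ℤ) * y)) * y ^ (-(q + 1) : ℤ) := by
          rw [((hcy.zpow_right (-(q + 1) : ℤ)).mul_right hcy).eq]
        _ = zE ^ (2 : ℤ) * (y ^ (-(q + 1) : ℤ) * y * y ^ (-(q + 1) : ℤ)) := by rw [zpow_two]; group
        _ = zE ^ (2 : ℤ) * (y ^ (p : ℤ))⁻¹ := by rw [hp2]; group
        _ = zE ^ (2 : ℤ) := by rw [hyp, inv_one, mul_one]
    rw [h1, map_zpow, (hTz _).1]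
  have hδy : δ y = y ^ (-q : ℤ) := by
    rw [hδ, MulAut.mul_apply, MulAut.mul_apply, MulAut.mul_apply, huy, hty, map_mul, (hU _).1, (hU _).2,
      map_mul, map_mul, map_zpow, (hTz _).1, (hTz _).2, (hcy.symm.zpow_right (-2 : ℤ)).mul_zpow,
      ← zpow_mul]
    calc y * zE ^ (-2 : ℤ) * (zE * (y ^ (-(q + 1) : ℤ) * zE ^ ((-2 : ℤ) * -(q + 1))))
        = y * (zE ^ (-1 : ℤ) * y ^ (-(q + 1) : ℤ)) * zE ^ ((-2 : ℤ) * -(q + 1)) := by group
      _ = y * (y ^ (-(q + 1) : ℤ) * zE ^ (-1 : ℤ)) * zE ^ ((-2 : ℤ) * -(q + 1)) := by rw [(hcy' _ _).eq]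
      _ = y ^ (-q : ℤ) * zE ^ (p : ℤ) := by rw [hp2]; group
      _ = y ^ (-q : ℤ) := by rw [hzp, mul_one]
  have hδfix : ∀ x : E, t₁ x = x → u₀ x = x → δ x = x := by
    intro x h1 h2
    rw [hδ, MulAut.mul_apply, MulAut.mul_apply, MulAut.mul_apply, hu, zpow_fix h2, h1, zpow_fix (zpow_fix h2 k),
      zpow_fix h1]
  have hdec : ∀ x : E, t₁ x = x → ∃ (w : E) (n : ℤ), t₁ w = w ∧ u₀ w = w ∧ x = w * zE ^ n := by
    intro x hx
    obtain ⟨i, hi⟩ := hu₀s x
    refine ⟨x * (zE ^ (k * i))⁻¹, k * i, ?_, ?_, (inv_mul_cancel_right _ _).symm⟩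
    · rw [map_mul, map_inv, map_zpow, hx, htz]
    · have hyi : (y ^ j) ^ (k * i) = y ^ i := by rw [zpow_mul, hk']
      rw [map_mul, map_inv, map_zpow, hi, hj, (hcy.zpow_right j).mul_zpow, hyi]
      group
  have hrel : δ * t₁ = t₁ ^ (4 : ℤ) * δ := by
    refine MulEquiv.ext fun x => ?_
    obtain ⟨i, hi⟩ := hts x
    rw [← hzEdef] at hi
    set c : E := x * (y ^ i)⁻¹ with hc
    have hct : t₁ c = c := by
      rw [hc, map_mul, map_inv, map_zpow, hi, hty, (hcy.symm).mul_zpow]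
      group
    obtain ⟨w, n, hwt, hwu, hw⟩ := hdec c hct
    have hx : x = w * zE ^ n * y ^ i := by rw [← hw, hc, inv_mul_cancel_right]
    have e : (δ * t₁) y = (t₁ ^ (4 : ℤ) * δ) y := by
      rw [MulAut.mul_apply, MulAut.mul_apply, hty, map_mul, hδz, hδy, map_zpow, (hTz _).2,
        hcy.symm.zpow_right (4 : ℤ) |>.mul_zpow, ← zpow_mul]
      congr 1
      calc zE ^ (2 : ℤ) = zE ^ ((4 : ℤ) * -q) * (zE ^ (p : ℤ)) ^ (2 : ℤ) := by rw [hp2]; group
        _ = zE ^ ((4 : ℤ) * -q) := by rw [hzp, one_zpow, mul_one]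
    have e2 : (δ * t₁) zE = (t₁ ^ (4 : ℤ) * δ) zE := by
      rw [MulAut.mul_apply, MulAut.mul_apply, htz, hδz, map_zpow, (hTz _).1]
    have e3 : (δ * t₁) w = (t₁ ^ (4 : ℤ) * δ) w := by
      rw [MulAut.mul_apply, MulAut.mul_apply, hwt, hδfix w hwt hwu, zpow_fix hwt]
    rw [hx, map_mul, map_mul, map_zpow, map_zpow, e, e2, e3, map_mul, map_mul, map_zpow, map_zpow]
  -- extension of `δ` to `S`
  have hu₀A : u₀ ∈ F.autGroup E :=
    mul_mem (mul_mem a.2 (autInducedBy_le_autGroup F hd.le ht₁)) (inv_mem a.2)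
  have hδA : δ ∈ F.autGroup E := by
    have h1 := autInducedBy_le_autGroup F hd.le ht₁
    rw [hδ]
    exact mul_mem (mul_mem (mul_mem (zpow_mem h1 _) (zpow_mem (zpow_mem hu₀A _) _)) h1) (zpow_mem hu₀A _)
  have hφ := (equivHom_autGroup F hd.le).1 hδA
  have hext : S ≤ extender S E (equivHom δ) := by
    intro s hs
    obtain ⟨ts, hts', htse⟩ := exists_conjAut (K := S) (P := E) hs (hd.normal hs)
    obtain ⟨n, rfl⟩ := hTpow ts hts'
    have h4 : δ * t₁ ^ n = (t₁ ^ (4 : ℤ)) ^ n * δ := by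
      have : SemiconjBy δ t₁ (t₁ ^ (4 : ℤ)) := hrel
      exact this.zpow_right n
    obtain ⟨r, hr, hre⟩ := (mem_autInducedBy_iff _).1 (zpow_mem (zpow_mem ht₁ (4 : ℤ)) n)
    refine Subgroup.subset_closure ⟨hs, hd.normal hs, r, hr, fun x hx => ?_⟩
    rw [equivHom_apply, equivHom_apply,
      show (⟨s * (x : Ω) * s⁻¹, hx⟩ : E) = (t₁ ^ n) x from Subtype.ext (htse x).symm, ← MulAut.mul_apply, h4,
      MulAut.mul_apply, hre]
  obtain ⟨ψ, hψ, hag⟩ := (fullyNormalized_receptive hS hF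
    (fullyNormalized_of_normal (F := F) hd.le hd.normal)).2 E _ hφ (equivHom_range δ)
  have hψS := restrict_mem F hψ hext
  obtain ⟨s, hs, hse⟩ := exists_autGroup_of_range F hψS (Subgroup.eq_of_le_of_card_ge (range_le F hψS)
    (Nat.card_congr (MonoidHom.ofInjective (F.injective_of_mem hψS)).toEquiv).le)
  have hsE : ∀ x : E, ((s ⟨x, hd.le x.2⟩ : S) : Ω) = (δ x : E) := fun x => by
    rw [hse]; exact hag x x.2 (hext (hd.le x.2))
  refine ⟨s, hs, ?_, fun c hc => ?_, fun c hc hcE => ?_⟩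
  · rw [show (⟨z, hz.mem⟩ : S) = ⟨(zE : Ω), hd.le zE.2⟩ from rfl, hsE, hδz]
    rfl
  · have hcE : (c : Ω) ∈ E := hd.self ⟨c.2, Subgroup.centralizer_le (fun _ hy => hd.le hy) hc.2⟩
    obtain ⟨w, n, hwt, hwu, hw⟩ := hdec ⟨c, hcE⟩ (hZfix _ hc _ ht₁)
    refine ⟨⟨w, hd.le w.2⟩, n, hfixZ w hwt, Subtype.ext ?_, congrArg Subtype.val hw⟩
    rw [hsE, hδfix w hwt hwu]
  · obtain ⟨w, n, hwt, hwu, hw⟩ := hdec ⟨c, hcE⟩ (hZfix _ hc _ ht₁)
    have hsc : ((s c : S) : Ω) = (δ ⟨c, hcE⟩ : E) := hsE ⟨c, hcE⟩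
    constructor
    · intro h t ht
      have h1 : δ ⟨c, hcE⟩ = ⟨c, hcE⟩ := Subtype.ext (by rw [← hsc, h])
      rw [hw, map_mul, map_zpow, hδfix w hwt hwu, hδz, mul_left_cancel_iff, ← zpow_mul] at h1
      have hn : zE ^ n = 1 := by
        have h2 : zE ^ (2 * n - n) = 1 := by rw [zpow_sub, h1, mul_inv_cancel]
        rwa [show 2 * n - n = n by ring] at h2
      rw [hn, mul_one] at hw
      obtain ⟨m, rfl⟩ := hTpow t ht
      rw [hw]
      have h3 : t₁ ((a : MulAut E)⁻¹ w) = (a : MulAut E)⁻¹ w := (a : MulAut E).injective (by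
        rw [show (a : MulAut E) ((a : MulAut E)⁻¹ w) = w from (a : MulAut E).apply_symm_apply w]
        exact hwu)
      rw [zpow_fix h3]
      exact (a : MulAut E).apply_symm_apply w
    · intro h
      refine Subtype.ext ?_
      rw [hsc, hδfix _ (hZfix _ hc _ ht₁) (h t₁ ht₁)]

end data

/-- A square of `z` with a complement of fixed points in `Z(S)`. -/
structure Torus (S : Subgroup Ω) (F : FusionSystem S) (z : Ω) (hzS : z ∈ S) (s : MulAut S) : Prop where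
  mem : s ∈ F.autGroup S
  sq : ((s ⟨z, hzS⟩ : S) : Ω) = z ^ (2 : ℤ)
  dec : ∀ c : S, (c : Ω) ∈ zs S → ∃ (w : S) (i : ℤ), (w : Ω) ∈ zs S ∧ s w = w ∧ (c : Ω) = w * z ^ i

theorem apply_mem_zs (F : FusionSystem S) {b : MulAut S} {x : S} (hx : (x : Ω) ∈ zs S) :
    ((b x : S) : Ω) ∈ zs S := mem_zs.2 ⟨(b x).2, fun r hr => by
      have h : b.symm ⟨r, hr⟩ * x = x * b.symm ⟨r, hr⟩ := Subtype.ext ((mem_zs.1 hx).2 _ (b.symm ⟨r, hr⟩).2)
      have h2 := congrArg b h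
      rw [map_mul, map_mul, b.apply_symm_apply] at h2
      exact congrArg Subtype.val h2⟩

/-- An automorphism of `S` fixing `z` and `Z(S)` modulo `⟨z⟩` fixes `Z(S)`. -/
theorem fix_of_shift (hS : IsPGroup p S) (hF : F.IsSaturated p) (hz : Ctx S p z) {b : MulAut S}
    (hb : b ∈ F.autGroup S) (hbz : b ⟨z, hz.mem⟩ = ⟨z, hz.mem⟩)
    (hshift : ∀ c : S, (c : Ω) ∈ zs S → ∃ i : ℤ, b c = c * (⟨z, hz.mem⟩ : S) ^ i) :
    ∀ c : S, (c : Ω) ∈ zs S → b c = c := by
  set G := F.autGroup S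
  let K : Subgroup G :=
    { carrier := {g | ∀ c : S, (c : Ω) ∈ zs S → (g : MulAut S) c = c}
      one_mem' := fun _ _ => rfl
      mul_mem' := fun {g h} hg hh c hc => by
        show (g : MulAut S) ((h : MulAut S) c) = c
        rw [hh c hc, hg c hc]
      inv_mem' := fun {g} hg c hc => by
        show (g : MulAut S)⁻¹ c = c
        conv_lhs => rw [← hg c hc]
        exact (g : MulAut S).symm_apply_apply c }
  haveI : K.Normal := ⟨fun g hg h c hc => by
    show (h : MulAut S) ((g : MulAut S) ((h : MulAut S)⁻¹ c)) = c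
    rw [hg _ (apply_mem_zs F hc)]
    exact (h : MulAut S).apply_symm_apply c⟩
  obtain ⟨R, hR⟩ := (fullyNormalized_imp hS hF
    (fullyNormalized_of_normal (F := F) (le_refl S) Subgroup.le_normalizer)).2.2
  have hRK : (R : Subgroup G) ≤ K := fun g hg c hc => by
    rw [hR] at hg
    obtain ⟨r, hr, hre⟩ := (mem_autInducedBy_iff _).1 (Subgroup.mem_subgroupOf.1 hg)
    exact Subtype.ext (by rw [hre]; exact mul_inv_eq_iff_eq_mul.2 ((mem_zs.1 hc).2 r hr))
  have hK : ¬ p ∣ K.index := fun h =>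
    R.not_dvd_index (h.trans (Subgroup.index_dvd_of_le hRK))
  have hbK : (⟨b, hb⟩ : G) ^ p ∈ K := fun c hc => by
    obtain ⟨i, hi⟩ := hshift c hc
    show (b ^ p : MulAut S) c = c
    rw [← zpow_natCast, zpow_shift (by rw [map_zpow, hbz]) hi, ← zpow_mul, mul_comm i, zpow_mul,
      show (⟨z, hz.mem⟩ : S) ^ (p : ℤ) = 1 from Subtype.ext (by
        show z ^ (p : ℤ) = 1
        rw [zpow_natCast, ← hz.ord, pow_orderOf_eq_one]), one_zpow, mul_one]
  have h1 := (pow_gcd_eq_one (a := (QuotientGroup.mk' K ⟨b, hb⟩)) (m := p) (n := K.index)).2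
    ⟨by rw [← map_pow]; exact (QuotientGroup.eq_one_iff _).2 hbK,
     by rw [← map_pow]; exact (QuotientGroup.eq_one_iff _).2 (K.pow_index_mem _)⟩
  rw [(hp.out.coprime_iff_not_dvd.2 hK).gcd_eq_one, pow_one] at h1
  exact (QuotientGroup.eq_one_iff _).1 h1

theorem z_aut_mem (hz : Ctx S p z) (hxy : ∃ a ∈ S, ∃ b ∈ S, a * b ≠ b * a) (b : MulAut S) :
    ∃ i : ℤ, b ⟨z, hz.mem⟩ = (⟨z, hz.mem⟩ : S) ^ i := by
  obtain ⟨x, hx, y, hy, hne⟩ := hxy
  obtain ⟨i, hi⟩ := hz.comm x hx y hy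
  have hne' : z ^ i ≠ 1 := fun h => hne (by
    rw [h, mul_one] at hi; exact mul_inv_eq_iff_eq_mul.1 hi)
  obtain ⟨l, hl⟩ := gen_zpowers hz ⟨i, rfl⟩ hne'
  obtain ⟨m, hm⟩ := hz.comm (b ⟨x, hx⟩) (b ⟨x, hx⟩).2 (b ⟨y, hy⟩) (b ⟨y, hy⟩).2
  refine ⟨m * l, ?_⟩
  have h1 : (⟨x, hx⟩ : S) * ⟨y, hy⟩ * (⟨x, hx⟩ : S)⁻¹ = ⟨y, hy⟩ * (⟨z, hz.mem⟩ : S) ^ i := Subtype.ext hi
  have h2 := congrArg b h1
  rw [map_mul, map_mul, map_mul, map_inv,
    show b ⟨x, hx⟩ * b ⟨y, hy⟩ * (b ⟨x, hx⟩)⁻¹ = b ⟨y, hy⟩ * (⟨z, hz.mem⟩ : S) ^ m from Subtype.ext hm,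
    mul_left_cancel_iff] at h2
  conv_lhs => rw [show (⟨z, hz.mem⟩ : S) = ((⟨z, hz.mem⟩ : S) ^ i) ^ l from Subtype.ext hl.symm,
    map_zpow, ← h2]
  rw [zpow_mul]

theorem eq_one_of_sq {A : Type*} [Group A] {x : A} {n : ℤ} (h : (x ^ n) ^ (2 : ℤ) = x ^ n) : x ^ n = 1 := by
  rwa [zpow_two, mul_eq_left] at h

/-- The fixed points in `Z(S)` are invariant under all automorphisms of `S` in the system. -/
theorem torus_invariant (hS : IsPGroup p S) (hF : F.IsSaturated p) (hz : Ctx S p z)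
    (hxy : ∃ a ∈ S, ∃ b ∈ S, a * b ≠ b * a) {s : MulAut S} (hs : Torus S F z hz.mem s)
    {b : MulAut S} (hb : b ∈ F.autGroup S) {w : S} (hw : (w : Ω) ∈ zs S) (hsw : s w = w) :
    s (b w) = b w := by
  set zS : S := ⟨z, hz.mem⟩
  have hsz : s zS = zS ^ (2 : ℤ) := Subtype.ext (by rw [hs.sq]; rfl)
  obtain ⟨i, hi⟩ := z_aut_mem hz hxy b
  obtain ⟨i', hi'⟩ := z_aut_mem hz hxy b⁻¹
  obtain ⟨k, hk⟩ := z_aut_mem hz hxy s⁻¹
  set g : MulAut S := s⁻¹ * (b⁻¹ * s * b) with hg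
  have hgz : g zS = zS := by
    show s⁻¹ (b⁻¹ (s (b zS))) = zS
    rw [hi, map_zpow, hsz, ← zpow_mul, mul_comm, zpow_mul, ← hi, map_zpow b⁻¹,
      show b⁻¹ (b zS) = zS from b.symm_apply_apply zS, ← hsz]
    exact s.symm_apply_apply zS
  have hshift : ∀ c : S, (c : Ω) ∈ zs S → ∃ i : ℤ, g c = c * zS ^ i := by
    intro c hc
    obtain ⟨v, n, hv, hsv, hcv⟩ := hs.dec c hc
    have hc' : c = v * zS ^ n := Subtype.ext (by rw [hcv]; rfl)
    obtain ⟨v', m, -, hsv', hbv⟩ := hs.dec (b v) (apply_mem_zs F hv)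
    have hbv' : b v = v' * zS ^ m := Subtype.ext (by rw [hbv]; rfl)
    refine ⟨k * (i' * m), ?_⟩
    have hgv : g v = v * zS ^ (k * (i' * m)) := by
      show s⁻¹ (b⁻¹ (s (b v))) = _
      rw [hbv', map_mul s, hsv', map_zpow s, hsz, zpow_two, (Commute.refl zS).mul_zpow, ← mul_assoc, ← hbv',
        map_mul, show b⁻¹ (b v) = v from b.symm_apply_apply v, map_zpow b⁻¹, hi', map_mul, map_zpow s⁻¹,
        map_zpow s⁻¹, hk, ← zpow_mul, ← zpow_mul]
      conv_lhs => arg 1; rw [← hsv]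
      rw [show s⁻¹ (s v) = v from s.symm_apply_apply v]
    rw [hc', map_mul, map_zpow, hgz, hgv, mul_assoc, mul_assoc, ← zpow_add, ← zpow_add, add_comm]
  have hfix := fix_of_shift hS hF hz (mul_mem (inv_mem hs.mem) (mul_mem (mul_mem (inv_mem hb) hs.mem) hb)) hgz hshift
  have h1 : s⁻¹ (b⁻¹ (s (b w))) = w := hfix w hw
  have h2 : b⁻¹ (s (b w)) = w := by
    have h := congrArg s h1
    rwa [show s (s⁻¹ (b⁻¹ (s (b w)))) = b⁻¹ (s (b w)) from s.apply_symm_apply _, hsw] at h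
  have h := congrArg b h2
  rwa [show b (b⁻¹ (s (b w))) = s (b w) from b.apply_symm_apply _] at h

/-- All these maps have the same fixed points in `Z(S)`. -/
theorem torus_fix_iff (hS : IsPGroup p S) (hF : F.IsSaturated p) (hz : Ctx S p z)
    (hxy : ∃ a ∈ S, ∃ b ∈ S, a * b ≠ b * a) {s s' : MulAut S} (hs : Torus S F z hz.mem s)
    (hs' : Torus S F z hz.mem s') {w : S} (hw : (w : Ω) ∈ zs S) : s w = w ↔ s' w = w := by
  have key : ∀ {s s' : MulAut S}, Torus S F z hz.mem s → Torus S F z hz.mem s' → s w = w → s' w = w := by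
    intro s s' hs hs' hsw
    set zS : S := ⟨z, hz.mem⟩
    obtain ⟨v, n, -, hsv, hwv⟩ := hs'.dec w hw
    have hwv' : w = v * zS ^ n := Subtype.ext (by rw [hwv]; rfl)
    have h1 : s' w = w * zS ^ n := by
      rw [hwv', map_mul, hsv, map_zpow, show s' zS = zS ^ (2 : ℤ) from Subtype.ext (by rw [hs'.sq]; rfl),
        zpow_two, (Commute.refl zS).mul_zpow, mul_assoc]
    have h2 := torus_invariant hS hF hz hxy hs hs'.mem hw hsw
    rw [h1, map_mul, hsw, map_zpow, show s zS = zS ^ (2 : ℤ) from Subtype.ext (by rw [hs.sq]; rfl),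
      mul_left_cancel_iff, ← zpow_mul, mul_comm, zpow_mul] at h2
    rw [h1, eq_one_of_sq h2, mul_one]
  exact ⟨key hs hs', key hs' hs⟩

/-- An abelian essential subgroup leaves the fixed points invariant. -/
theorem fix_invariant_of_abelian (hS : IsPGroup p S) (hF : F.IsSaturated p) (hz : Ctx S p z) (hodd : Odd p)
    (hxy : ∃ a ∈ S, ∃ b ∈ S, a * b ≠ b * a) {E : Subgroup Ω} (hE : F.IsEssential p E)
    (hab : ∀ a ∈ E, ∀ b ∈ E, a * b = b * a) {s : MulAut S} (hs : Torus S F z hz.mem s)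
    {b : MulAut E} (hb : b ∈ F.autGroup E) (w : E) (hw : (w : Ω) ∈ zs S)
    (hsw : s ⟨w, hw.1⟩ = ⟨w, hw.1⟩) :
    ∃ h : ((b w : E) : Ω) ∈ zs S, s ⟨(b w : E), h.1⟩ = ⟨(b w : E), h.1⟩ := by
  obtain ⟨hd, a₀, ha₀, hmv⟩ := exists_data hS hF hz hE hab
  set zE : E := ⟨z, hd.zmem⟩ with hzE
  -- conjugates of `Aut_S(E)` fix the fixed points
  have hall : ∀ (x : E) (hx : (x : Ω) ∈ zs S), s ⟨x, hx.1⟩ = ⟨x, hx.1⟩ →
      ∀ a ∈ F.autGroup E, ∀ t ∈ autInducedBy S E, a (t (a⁻¹ x)) = x := by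
    intro x hx hsx a ha t ht
    by_cases haz : ((a zE : E) : Ω) ∈ Subgroup.zpowers z
    · have h := conj_mem_T hS hF hz hd (b := ⟨a, ha⟩) haz ht
      obtain ⟨r, hr, hre⟩ := (mem_autInducedBy_iff _).1 h
      exact Subtype.ext ((hre x).trans (mul_inv_eq_iff_eq_mul.2 ((mem_zs.1 hx).2 r hr)))
    · obtain ⟨s', hs', hsq, hdec, hfx⟩ := exists_torus hS hF hz hd hodd (a := ⟨a, ha⟩) haz
      exact (hfx ⟨x, hx.1⟩ hx x.2).1 ((torus_fix_iff hS hF hz hxy hs ⟨hs', hsq, hdec⟩ hx).1 hsx) t ht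
  have hmove : ∀ a ∈ F.autGroup E, ∀ t ∈ autInducedBy S E, a (t (a⁻¹ (b w))) = b w := by
    intro a ha t ht
    have := hall w hw hsw (b⁻¹ * a) (mul_mem (inv_mem hb) ha) t ht
    rw [mul_inv_rev, inv_inv, MulAut.mul_apply, MulAut.mul_apply] at this
    have h := congrArg b this
    rwa [show b (b⁻¹ (a (t (a⁻¹ (b w))))) = a (t (a⁻¹ (b w))) from b.apply_symm_apply _] at h
  have hbz : ((b w : E) : Ω) ∈ zs S := by
    refine mem_zs.2 ⟨hd.le (b w).2, fun r hr => ?_⟩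
    obtain ⟨t, ht, hte⟩ := exists_conjAut (K := S) (P := E) hr (hd.normal hr)
    have := hmove 1 (one_mem _) t ht
    rw [inv_one, MulAut.one_apply, MulAut.one_apply] at this
    exact mul_inv_eq_iff_eq_mul.1 (by rw [← hte, this])
  obtain ⟨s₀, hs₀, hsq₀, hdec₀, hfx₀⟩ := exists_torus hS hF hz hd hodd (a := ⟨a₀, ha₀⟩) hmv
  refine ⟨hbz, (torus_fix_iff hS hF hz hxy hs ⟨hs₀, hsq₀, hdec₀⟩ hbz).2 ?_⟩
  exact (hfx₀ ⟨_, hbz.1⟩ hbz (b w).2).2 fun t ht => hmove a₀ ha₀ t ht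

theorem zpow_mem_of_aut {P : Subgroup Ω} (hz : Ctx S p z) (hPS : P ≤ S) (hzP : z ∈ P) {x y : Ω} (hx : x ∈ P)
    (hy : y ∈ P) (hne : x * y ≠ y * x) (b : MulAut P) : ((b ⟨z, hzP⟩ : P) : Ω) ∈ Subgroup.zpowers z := by
  obtain ⟨i, hi⟩ := hz.comm x (hPS hx) y (hPS hy)
  have hne' : z ^ i ≠ 1 := fun h => hne (by
    rw [h, mul_one] at hi; exact mul_inv_eq_iff_eq_mul.1 hi)
  obtain ⟨l, hl⟩ := gen_zpowers hz ⟨i, rfl⟩ hne'
  obtain ⟨m, hm⟩ := hz.comm (b ⟨x, hx⟩) (hPS (b ⟨x, hx⟩).2) (b ⟨y, hy⟩) (hPS (b ⟨y, hy⟩).2)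
  refine ⟨m * l, ?_⟩
  have h1 : (⟨x, hx⟩ : P) * ⟨y, hy⟩ * (⟨x, hx⟩ : P)⁻¹ = ⟨y, hy⟩ * (⟨z, hzP⟩ : P) ^ i := Subtype.ext hi
  have h2 := congrArg b h1
  rw [map_mul, map_mul, map_mul, map_inv,
    show b ⟨x, hx⟩ * b ⟨y, hy⟩ * (b ⟨x, hx⟩)⁻¹ = b ⟨y, hy⟩ * (⟨z, hzP⟩ : P) ^ m from Subtype.ext hm,
    mul_left_cancel_iff] at h2
  have h3 : b ⟨z, hzP⟩ = (⟨z, hzP⟩ : P) ^ (m * l) := by
    conv_lhs => rw [show (⟨z, hzP⟩ : P) = ((⟨z, hzP⟩ : P) ^ i) ^ l from Subtype.ext hl.symm, map_zpow, ← h2]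
    rw [zpow_mul]
  rw [h3]; rfl

/-- With an abelian essential subgroup the only essential subgroups are abelian. -/
theorem abelian_of_essential (hS : IsPGroup p S) (hF : F.IsSaturated p) (hz : Ctx S p z) {E : Subgroup Ω}
    (hd : EData S F p z E) (hodd : Odd p) {a : F.autGroup E}
    (ha : (((a : MulAut E) ⟨z, hd.zmem⟩ : E) : Ω) ∉ Subgroup.zpowers z)
    {P : Subgroup Ω} (hP : F.IsEssential p P) : ∀ x ∈ P, ∀ y ∈ P, x * y = y * x := by
  have := finite_of_le hd.le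
  set zE : E := ⟨z, hd.zmem⟩
  set y : E := (a : MulAut E) zE
  have hPS := hP.1.1
  have hZP := zs_le_of_centric hP.1
  have hlt := essential_lt hS hF hP
  haveI : Finite (Subgroup.zpowers z) := finite_of_le (Subgroup.zpowers_le.2 hz.mem)
  by_contra hne
  push_neg at hne
  obtain ⟨x₁, hx₁, x₂, hx₂, hne⟩ := hne
  -- an element of `P` outside `E`
  obtain ⟨g, hgP, hgE⟩ : ∃ g ∈ P, g ∉ E := by
    by_contra h
    push_neg at h
    exact hne (hd.ab _ (h _ hx₁) _ (h _ hx₂))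
  have hgen : ∀ H : Subgroup Ω, E ≤ H → H ≤ S → g ∈ H → H = S := by
    intro H hEH hHS hgH
    refine le_antisymm hHS ?_
    rw [← Subgroup.subgroupOf_eq_top, ← Subgroup.index_eq_one]
    have hd' := Subgroup.index_dvd_of_le (Subgroup.comap_mono (f := S.subtype) hEH : E.subgroupOf S ≤ H.subgroupOf S)
    rw [show (Subgroup.comap S.subtype E).index = p from hd.index] at hd'
    rcases (Nat.dvd_prime hp.out).1 hd' with h | h
    · exact h
    · exfalso
      have hlt' : E.subgroupOf S < H.subgroupOf S :=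
        lt_of_le_of_ne (Subgroup.comap_mono hEH) fun he =>
          hgE (Subgroup.mem_subgroupOf.1 (he.ge (show (⟨g, hHS hgH⟩ : S) ∈ H.subgroupOf S from hgH)))
      have := Subgroup.index_strictAnti hlt'
      rw [hd.index, show (H.subgroupOf S).index = p from h] at this
      exact lt_irrefl _ this
  -- `g` moves every element of `E` outside `Z(S)`
  have hfix : ∀ x : E, g * x * g⁻¹ = (x : Ω) → (x : Ω) ∈ zs S := fun x hx => by
    refine mem_zs.2 ⟨hd.le x.2, fun r hr => ?_⟩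
    have := hgen (S ⊓ Subgroup.centralizer {(x : Ω)})
      (le_inf hd.le fun e he => Subgroup.mem_centralizer_singleton_iff.2 (hd.ab e he x x.2)) inf_le_left
      ⟨hPS hgP, Subgroup.mem_centralizer_singleton_iff.2 (mul_inv_eq_iff_eq_mul.1 hx)⟩
    exact Subgroup.mem_centralizer_singleton_iff.1 (this.ge hr).2
  obtain ⟨j, hj⟩ := hz.comm g (hPS hgP) y (hd.le y.2)
  have hjne : z ^ j ≠ 1 := fun h => by
    rw [h, mul_one] at hj
    obtain ⟨t, ht, hte⟩ := exists_conjAut (K := S) (P := E) (hPS hgP) (hd.normal (hPS hgP))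
    have h1 := fix_eq_one hS hF hz hd ha ht (Subtype.ext ((hte y).trans hj))
    exact hgE (mem_of_conj_mem_inn (F := F) hd.self (hPS hgP) hd.le hte (h1 ▸ one_mem _))
  obtain ⟨l, hl⟩ := gen_zpowers hz ⟨j, rfl⟩ hjne
  -- every element of `E` is central times a power of `y`
  have hEdec : ∀ x : E, ∃ (c : E) (n : ℤ), (c : Ω) ∈ zs S ∧ x = c * y ^ n := by
    intro x
    obtain ⟨i, hi⟩ := hz.comm g (hPS hgP) x (hd.le x.2)
    refine ⟨x * (y ^ (l * i))⁻¹, l * i, hfix _ ?_, (inv_mul_cancel_right _ _).symm⟩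
    push_cast
    calc g * ((x : Ω) * ((y : Ω) ^ (l * i))⁻¹) * g⁻¹
        = (g * x * g⁻¹) * ((g * y * g⁻¹) ^ (l * i))⁻¹ := by rw [conj_zpow]; group
      _ = (x : Ω) * ((y : Ω) ^ (l * i))⁻¹ := by
        rw [hi, hj, (show Commute (y : Ω) (z ^ j) from hd.ab _ y.2 _ (E.zpow_mem hd.zmem j)).mul_zpow,
          mul_inv_rev, show (z ^ j) ^ (l * i) = z ^ i by rw [zpow_mul]; exact congrArg (· ^ i) hl]
        group
  -- `P ∩ E` contains nothing outside `Z(S)`
  have hPE : ∀ x ∈ P, x ∈ E → x ∈ zs S := by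
    intro x hxP hxE
    obtain ⟨c, n, hc, hxc⟩ := hEdec ⟨x, hxE⟩
    by_cases hyn : y ^ n = 1
    · rw [hyn, mul_one] at hxc
      rw [show x = (c : Ω) from congrArg Subtype.val hxc]; exact hc
    exfalso
    have hzn : z ^ n ≠ 1 := fun h => hyn (by
      show ((a : MulAut E) zE) ^ n = 1
      rw [← map_zpow, show zE ^ n = 1 from Subtype.ext h, map_one])
    obtain ⟨r, hr⟩ := gen_zpowers hz ⟨n, rfl⟩ hzn
    have hyr : (y ^ n) ^ r = y := by
      show (((a : MulAut E) zE) ^ n) ^ r = _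
      rw [← map_zpow, ← map_zpow, show (zE ^ n) ^ r = zE from Subtype.ext hr]
    have hyP : (y : Ω) ∈ P := by
      have h1 : ((y ^ n : E) : Ω) ∈ P := by
        have : (y ^ n : E) = c⁻¹ * ⟨x, hxE⟩ := by rw [hxc]; group
        rw [this]; exact P.mul_mem (P.inv_mem (hZP hc)) hxP
      rw [← hyr]; push_cast at h1 ⊢
      exact P.zpow_mem h1 r
    refine hlt.ne (hgen P (fun e he => ?_) hPS hgP)
    obtain ⟨c', n', hc', he'⟩ := hEdec ⟨e, he⟩
    rw [show e = (c' : Ω) * (y : Ω) ^ n' from congrArg Subtype.val he']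
    exact P.mul_mem (hZP hc') (P.zpow_mem hyP n')
  -- so `P` is abelian
  have hPdec : ∀ x ∈ P, ∃ c ∈ zs S, ∃ n : ℤ, x = c * g ^ n := by
    intro x hx
    obtain ⟨i, hi⟩ := hz.comm x (hPS hx) y (hd.le y.2)
    have hmem : x * (g ^ (l * i))⁻¹ ∈ E := by
      have hgx : x * (g ^ (l * i))⁻¹ ∈ S := S.mul_mem (hPS hx) (S.inv_mem (S.zpow_mem (hPS hgP) _))
      obtain ⟨t, ht, hte⟩ := exists_conjAut (K := S) (P := E) hgx (hd.normal hgx)
      obtain ⟨tg, htg, htge⟩ := exists_conjAut (K := S) (P := E) (hPS hgP) (hd.normal (hPS hgP))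
      obtain ⟨tx, htx, htxe⟩ := exists_conjAut (K := S) (P := E) (hPS hx) (hd.normal (hPS hx))
      have e1 : tg y = y * zE ^ j := Subtype.ext ((htge y).trans hj)
      have e2 : tx y = y * zE ^ i := Subtype.ext ((htxe y).trans hi)
      obtain ⟨r, hr, hre⟩ := (mem_autInducedBy_iff _).1 (zpow_mem htg (l * i))
      have hgp : ∀ v : E, ((tg ^ (l * i)) v : Ω) = g ^ (l * i) * v * (g ^ (l * i))⁻¹ := by
        intro v
        have hm : (Subgroup.normalizer (E : Set Ω)).subtype ⟨g, hd.normal (hPS hgP)⟩ = g := rfl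
        have heq : E.normalizerMonoidHom ⟨g, hd.normal (hPS hgP)⟩ = tg :=
          MulEquiv.ext fun v => Subtype.ext (htge v).symm
        rw [← heq, ← map_zpow]
        rfl
      have h4 : (tg ^ (l * i)) y = y * zE ^ i := by
        rw [zpow_shift (by rw [map_zpow, (conj_shift_aut hz hd.le hd.zmem htg).1]) e1, zpow_mul,
          show (zE ^ j) ^ l = zE from Subtype.ext hl]
      have h5 : t y = y := Subtype.ext (by
        rw [hte]
        calc x * (g ^ (l * i))⁻¹ * (y : Ω) * (x * (g ^ (l * i))⁻¹)⁻¹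
            = x * ((g ^ (l * i))⁻¹ * ((g ^ (l * i)) * y * (g ^ (l * i))⁻¹ * (z ^ i)⁻¹) * g ^ (l * i)) * x⁻¹ := by
              rw [← hgp, h4]; push_cast; simp only [show (zE : Ω) = z from rfl]; group
          _ = (x * y * x⁻¹) * (x * ((g ^ (l * i))⁻¹ * (z ^ i)⁻¹ * g ^ (l * i)) * x⁻¹) := by group
          _ = (y : Ω) := by
            rw [hi, show (g ^ (l * i))⁻¹ * (z ^ i)⁻¹ * g ^ (l * i) = (z ^ i)⁻¹ by
              rw [(Commute.zpow_zpow (show Commute g z from hz.central g (hPS hgP)) (l * i) i).inv_inv.eq,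
                inv_mul_cancel_right],
              (Commute.zpow_right (show Commute x z from hz.central x (hPS hx)) i).inv_right.eq]
            group)
      exact mem_of_conj_mem_inn (F := F) hd.self hgx hd.le hte (fix_eq_one hS hF hz hd ha ht h5 ▸ one_mem _)
    refine ⟨_, hPE _ (P.mul_mem hx (P.inv_mem (P.zpow_mem hgP _))) hmem, l * i, ?_⟩
    group
  obtain ⟨c₁, hc₁, n₁, rfl⟩ := hPdec x₁ hx₁
  obtain ⟨c₂, hc₂, n₂, rfl⟩ := hPdec x₂ hx₂
  have hcc : ∀ c ∈ zs S, ∀ r ∈ S, Commute c r := fun c hc r hr => ((mem_zs.1 hc).2 r hr).symm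
  exact hne (((hcc _ hc₁ _ (S.mul_mem hc₂.1 (S.zpow_mem (hPS hgP) _)))).mul_left
    ((hcc _ hc₂ _ (S.zpow_mem (hPS hgP) _)).symm.mul_right (Commute.zpow_zpow_self g n₁ n₂)))

/-- A map with squared `z` and a nontrivial normal subgroup. -/
theorem exists_normal (hS : IsPGroup p S) (hF : F.IsSaturated p) (hz : Ctx S p z) (hodd : Odd p)
    (hxy : ∃ a ∈ S, ∃ b ∈ S, a * b ≠ b * a) {y : Ω} (hy : y ∈ zs S) (hy' : y ∉ Subgroup.zpowers z) :
    ∃ Q : Subgroup Ω, Q ≠ ⊥ ∧ F.IsNormal Q := by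
  obtain ⟨x₀, hx₀, y₀, hy₀, hne₀⟩ := hxy
  have hxy : ∃ a ∈ S, ∃ b ∈ S, a * b ≠ b * a := ⟨x₀, hx₀, y₀, hy₀, hne₀⟩
  by_cases hA : ∃ E : Subgroup Ω, F.IsEssential p E ∧ ∀ a ∈ E, ∀ b ∈ E, a * b = b * a
  · obtain ⟨E, hE, hab⟩ := hA
    obtain ⟨hd, a, ha, hmv⟩ := exists_data hS hF hz hE hab
    obtain ⟨s, hs, hsq, hdec, -⟩ := exists_torus hS hF hz hd hodd (a := ⟨a, ha⟩) hmv
    have hT : Torus S F z hz.mem s := ⟨hs, hsq, hdec⟩
    let W : Subgroup Ω :=
      { carrier := {x | ∃ h : x ∈ zs S, s ⟨x, h.1⟩ = ⟨x, h.1⟩}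
        one_mem' := ⟨one_mem _, map_one s⟩
        mul_mem' := fun {a b} ⟨ha, ha'⟩ ⟨hb, hb'⟩ => ⟨mul_mem ha hb, by
          show s (⟨a, ha.1⟩ * ⟨b, hb.1⟩) = _
          rw [map_mul, ha', hb']
          rfl⟩
        inv_mem' := fun {a} ⟨ha, ha'⟩ => ⟨inv_mem ha, by
          show s (⟨a, ha.1⟩)⁻¹ = _
          rw [map_inv, ha']
          rfl⟩ }
    refine ⟨W, fun hW => hy' ?_, isNormal_of_autGroup_preserve hS hF fun P hP => ?_⟩
    · obtain ⟨w, n, hw, hsw, hyw⟩ := hdec ⟨y, hy.1⟩ hy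
      have hw1 : (w : Ω) ∈ W := ⟨hw, hsw⟩
      rw [hW, Subgroup.mem_bot] at hw1
      exact ⟨n, by show z ^ n = y; rw [show y = (w : Ω) * z ^ n from hyw, hw1, one_mul]⟩
    · rcases hP with hPS | hPe
      · subst hPS
        refine ⟨fun x hx => hx.1.1, fun b hb v ⟨hv, hv'⟩ => ⟨apply_mem_zs F hv, ?_⟩⟩
        exact torus_invariant hS hF hz hxy hT hb hv hv'
      · refine ⟨fun x hx => zs_le_of_centric hPe.1 hx.1, fun b hb v ⟨hv, hv'⟩ => ?_⟩
        exact fix_invariant_of_abelian hS hF hz hodd hxy hPe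
          (abelian_of_essential hS hF hz hd hodd (a := ⟨a, ha⟩) hmv hPe) hT hb v hv hv'
  · refine ⟨Subgroup.zpowers z, fun h => hp.out.ne_one ?_, isNormal_of_autGroup_preserve hS hF fun P hP => ?_⟩
    · rw [← hz.ord, ← Nat.card_zpowers, h, Subgroup.card_bot]
    · have hzP : z ∈ P := by
        rcases hP with rfl | hPe
        · exact hz.mem
        · exact zs_le_of_centric hPe.1 (z_mem_zs hz)
      have hPS : P ≤ S := hP.elim (fun e => e.le) fun e => e.1.1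
      obtain ⟨x, hx, x', hx', hne⟩ : ∃ x ∈ P, ∃ x' ∈ P, x * x' ≠ x' * x := by
        rcases hP with rfl | hPe
        · exact hxy
        · by_contra h
          push_neg at h
          exact hA ⟨P, hPe, h⟩
      refine ⟨Subgroup.zpowers_le.2 hzP, fun b _ v hv => ?_⟩
      obtain ⟨n, hn⟩ := hv
      rw [show v = (⟨z, hzP⟩ : P) ^ n from Subtype.ext hn.symm, map_zpow]
      exact Subgroup.zpow_mem _ (zpow_mem_of_aut hz hPS hzP hx hx' hne b) n

end Cfsg.Agent.FusionSys.ExtraCentre
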