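import Cfsg.Agent.Lib.Fusion.ModelFacts

/-!
# The action of a realizing group on a normal centric subgroup
-/

set_option autoImplicit false

namespace Cfsg.Agent.FusionSys

open Cfsg Cfsg.FusionSystem

variable {Ω : Type*} [Group Ω] {S : Subgroup Ω} [Finite S] {F : FusionSystem S}
  {G : Type*} [Group G] {ι : S →* G} {Q : Subgroup Ω}

omit [Finite S] in
/-- A group realizing the system and normalizing the image of a normal centric subgroup acts on it as the whole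
automizer. -/
theorem exists_realizedAction (hι : F.IsRealizedBy ι) (hQ : CentricNormal F Q)
    (hn : ∀ (g : G) (q : Q), ∃ q' : Q, ι ⟨q', hQ.le q'.2⟩ = g * ι ⟨q, hQ.le q.2⟩ * g⁻¹) :
    ∃ π : G →* F.autGroup Q, Function.Surjective π ∧
      (∀ (g : G) (q : Q), g * ι ⟨q, hQ.le q.2⟩ * g⁻¹ =
        ι ⟨((π g : MulAut Q) q : Q), hQ.le ((π g : MulAut Q) q).2⟩) ∧
      ∀ s : S, π (ι s) = actQ hQ s := by
  set ιQ : Q →* G := ι.comp (Subgroup.inclusion hQ.le) with hιQ
  have hιQi : Function.Injective ιQ := hι.1.comp (Subgroup.inclusion_injective _)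
  have hnorm : ∀ g : G, g ∈ Subgroup.normalizer (ιQ.range : Set G) := fun g =>
    mem_normalizer_of_conj_mem g (by
      rintro _ ⟨q, rfl⟩
      obtain ⟨q', hqe⟩ := hn g q
      exact ⟨q', hqe⟩) (by
      rintro _ ⟨q, rfl⟩
      obtain ⟨q', hqe⟩ := hn g⁻¹ q
      exact ⟨q', hqe.trans (by rw [inv_inv]; rfl)⟩)
  set e := MonoidHom.ofInjective hιQi
  let π₀ : G →* MulAut Q := ((MulAut.congr e.symm).toMonoidHom.comp ιQ.range.normalizerMonoidHom).comp
    ((MonoidHom.id G).codRestrict _ hnorm)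
  have hspec : ∀ (g : G) (q : Q), g * ιQ q * g⁻¹ = ιQ (π₀ g q) := fun g q =>
    (congrArg Subtype.val (e.apply_symm_apply (ιQ.range.normalizerMonoidHom ⟨g, hnorm g⟩ (e q)))).symm
  have hmem : ∀ g, π₀ g ∈ F.autGroup Q := fun g =>
    (mem_autGroup_iff F hQ.le _).2 ((hι.2 Q hQ.le _ fun x => hQ.le (π₀ g x).2).2
      ⟨g, fun x => (hspec g x).symm⟩)
  refine ⟨π₀.codRestrict (F.autGroup Q) hmem, fun a => ?_, hspec, fun s => ?_⟩
  · obtain ⟨g, hg⟩ := (hι.2 Q hQ.le _ fun x => hQ.le ((a : MulAut Q) x).2).1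
      ((mem_autGroup_iff F hQ.le _).1 a.2)
    exact ⟨g, Subtype.ext (MulEquiv.ext fun q => hιQi (((hg q).trans (hspec g q)).symm))⟩
  · refine Subtype.ext (MulEquiv.ext fun q => Subtype.ext ?_)
    have h4 : (⟨(π₀ (ι s) q : Q), hQ.le (π₀ (ι s) q).2⟩ : S) = s * ⟨q, hQ.le q.2⟩ * s⁻¹ :=
      hι.1 ((hspec (ι s) q).symm.trans (by simp only [map_mul, map_inv]; rfl))
    exact (congrArg Subtype.val h4).trans (actQ_apply hQ s q).symm

end Cfsg.Agent.FusionSys
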