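import Cfsg.Agent.Lib.Fusion.ModelSectionFree
import Cfsg.Agent.Lib.Fusion.RealizedAction
import Cfsg.Agent.Lib.Fusion.FactorMorphism
import Cfsg.Prelude.Def_FusionReduction

/-!
# Factor systems by normal subgroups inherit being section-free
-/

set_option autoImplicit false

namespace Cfsg.Agent.FusionSys

open Cfsg Cfsg.FusionSystem

section card

variable {A B : Type*} [Group A] [Group B]

theorem card_comap_eq (f : A →* B) {K : Subgroup B} (hK : K ≤ f.range) :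
    Nat.card (K.comap f) = Nat.card f.ker * Nat.card K := by
  have hs : Function.Surjective (f.subgroupComap K) := fun ⟨y, hy⟩ => by
    obtain ⟨x, rfl⟩ := hK hy
    exact ⟨⟨x, hy⟩, rfl⟩
  rw [Subgroup.card_eq_card_quotient_mul_card_subgroup (f.subgroupComap K).ker,
    Nat.card_congr (QuotientGroup.quotientKerEquivOfSurjective _ hs).toEquiv, mul_comm]
  congr 1
  have hle : f.ker ≤ K.comap f := fun x hx => by
    show f x ∈ K
    rw [hx]; exact K.one_mem
  refine (Nat.card_congr ?_).trans (Nat.card_congr (Subgroup.subgroupOfEquivOfLe hle).toEquiv)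
  exact Equiv.subtypeEquivRight fun x => ⟨fun h => congrArg Subtype.val h, fun h => Subtype.ext h⟩

end card

universe u v w

variable {Ω : Type u} [Group Ω] {S : Subgroup Ω} [Finite S] {p : ℕ} [hp : Fact p.Prime] {F : FusionSystem S}
  {Ω' : Type v} [Group Ω'] {S' : Subgroup Ω'} {θ : S →* Ω'} {E : FusionSystem S'}
  {H : Type w} [Group H]

/-- Factor systems by normal subgroups inherit being `H`-free. -/
theorem sectionFree_factor (hS : IsPGroup p S) (hF : F.IsSaturated p) (hfree : F.IsSectionFree p H)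
    {Q : Subgroup Ω} (hQ : F.IsNormal Q) (hE : F.IsFactorSystem Q θ E) : E.IsSectionFree p H := by
  intro P' hn' hc' N' hN' L' _ ι' hL' hinv
  obtain ⟨-, hker, hrange, hspec⟩ := id hE
  have hQc := isNormal_stronglyClosed hQ
  haveI : Finite S' := by rw [← hrange]; exact Finite.of_surjective θ.rangeRestrict θ.rangeRestrict_surjective
  set P := preimageAlong θ P' with hPdef
  have hPS : P ≤ S := Subgroup.map_subtype_le _
  have hpre : ∀ {K : Subgroup Ω'} (x : S), (x : Ω) ∈ preimageAlong θ K ↔ θ x ∈ K := fun {K} x => by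
    refine ⟨?_, fun h => ⟨x, h, rfl⟩⟩
    rintro ⟨y, hy, hye⟩
    rwa [← Subtype.ext (a1 := y) (a2 := x) hye]
  have hQpre : ∀ K : Subgroup Ω', Q ≤ preimageAlong θ K := fun K q hq =>
    (hpre ⟨q, hQ.1 hq⟩).2 (by rw [(hker _).2 hq]; exact K.one_mem)
  have himg : ∀ {R : Subgroup Ω}, Q ≤ R → ∀ y : S, θ y ∈ imageAlong θ R ↔ (y : Ω) ∈ R := fun {R} hQR y => by
    refine ⟨fun h => ?_, fun h => mem_imageAlong.2 ⟨y, y.2, h, rfl⟩⟩
    obtain ⟨x, hx, hxR, he⟩ := mem_imageAlong.1 h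
    have h1 : θ (⟨x, hx⟩⁻¹ * y) = 1 := by rw [map_mul, map_inv, he, inv_mul_cancel]
    have h2 := Subgroup.mul_mem R hxR (hQR ((hker _).1 h1))
    simpa using h2
  have hnpre : ∀ {R : Subgroup Ω}, R ≤ S → Q ≤ R → ∀ x : S,
      (x : Ω) ∈ normalizerIn S R ↔ θ x ∈ normalizerIn S' (imageAlong θ R) := fun {R} hRS hQR x => by
    constructor
    · intro hx
      refine ⟨hrange ▸ ⟨x, rfl⟩, mem_normalizer_of_conj_mem _ ?_ ?_⟩ <;>
      · intro z hz
        obtain ⟨y, hy, hyR, rfl⟩ := mem_imageAlong.1 hz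
        rw [← map_inv, ← map_mul, ← map_mul, himg hQR]
        first
        | exact (Subgroup.mem_normalizer_iff.1 hx.2 y).1 hyR
        | simpa using (Subgroup.mem_normalizer_iff.1 ((Subgroup.normalizer (R : Set Ω)).inv_mem hx.2) y).1 hyR
    · intro hx
      refine ⟨x.2, mem_normalizer_of_conj_mem _ (fun z hz => ?_) fun z hz => ?_⟩
      · refine (himg hQR (x * ⟨z, hRS hz⟩ * x⁻¹)).1 ?_
        rw [map_mul, map_mul, map_inv]
        exact (Subgroup.mem_normalizer_iff.1 hx.2 _).1 ((himg hQR ⟨z, hRS hz⟩).2 hz)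
      · suffices h : ((x⁻¹ * ⟨z, hRS hz⟩ * x⁻¹⁻¹ : S) : Ω) ∈ R by simpa using h
        refine (himg hQR (x⁻¹ * ⟨z, hRS hz⟩ * x⁻¹⁻¹)).1 ?_
        simp only [map_mul, map_inv]
        exact (Subgroup.mem_normalizer_iff.1 ((Subgroup.normalizer (imageAlong θ R : Set Ω')).inv_mem hx.2) _).1
          ((himg hQR ⟨z, hRS hz⟩).2 hz)
  have hQP : Q ≤ P := hQpre P'
  have hPimg : imageAlong θ P = P' := le_antisymm
    (fun y hy => by
      obtain ⟨x, hx, hxP, rfl⟩ := mem_imageAlong.1 hy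
      exact (hpre ⟨x, hx⟩).1 hxP)
    fun y hy => by
      obtain ⟨s, rfl⟩ := hrange.ge (hn'.1 hy)
      exact (himg hQP s).2 ((hpre s).2 hy)
  have hconj : ∀ R, F.IsConj P R → R ≤ S ∧ Q ≤ R ∧ E.IsConj P' (imageAlong θ R) := by
    rintro R ⟨φ, hφ, rfl⟩
    refine ⟨range_le F hφ, fun q hq => ?_, ?_⟩
    · obtain ⟨x, hx, hxe⟩ := exists_preimage_stronglyClosed hQc hφ hQP hq
      exact ⟨_, hxe⟩
    rw [← hPimg]
    obtain ⟨φ', hφ', hP0, hφS, hm, he⟩ := exists_induced hS hF hQc hE hφ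
    refine ⟨φ', hφ', ?_⟩
    ext z
    constructor
    · rintro ⟨⟨y, hy⟩, rfl⟩
      obtain ⟨x, hx, hxP, rfl⟩ := mem_imageAlong.1 hy
      exact mem_imageAlong.2 ⟨φ ⟨x, hxP⟩, hφS _, ⟨_, rfl⟩, (he ⟨x, hxP⟩).symm⟩
    · intro hz
      obtain ⟨_, hy, ⟨x, rfl⟩, rfl⟩ := mem_imageAlong.1 hz
      exact ⟨_, he x⟩
  have hPc : F.IsCentric P := ⟨hPS, fun R hR => by
    obtain ⟨hRS, hQR, hR'⟩ := hconj R hR
    intro c hc
    refine (himg hQR ⟨c, hc.1⟩).1 (hc'.2 _ hR' ⟨hrange ▸ ⟨_, rfl⟩, Subgroup.mem_centralizer_iff.2 fun z hz => ?_⟩)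
    obtain ⟨y, hy, hyR, rfl⟩ := mem_imageAlong.1 hz
    rw [← map_mul, ← map_mul]
    exact congrArg θ (Subtype.ext (Subgroup.mem_centralizer_iff.1 hc.2 y hyR))⟩
  have hcard : ∀ {R : Subgroup Ω}, R ≤ S → Q ≤ R →
      Nat.card (normalizerIn S R) = Nat.card θ.ker * Nat.card (normalizerIn S' (imageAlong θ R)) :=
    fun {R} hRS hQR => by
      rw [← card_comap_eq θ ((normalizerIn_le S' _).trans hrange.ge)]
      refine (congrArg (fun K : Subgroup Ω => Nat.card K) (le_antisymm (fun x hx => ?_) ?_)).trans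
        (Subgroup.card_map_of_injective S.subtype_injective)
      · exact ⟨⟨x, hx.1⟩, (hnpre hRS hQR ⟨x, hx.1⟩).1 hx, rfl⟩
      · rintro _ ⟨x, hx, rfl⟩
        exact (hnpre hRS hQR x).2 hx
  have hPn : F.IsFullyNormalized P := ⟨hPS, fun R hR => by
    obtain ⟨hRS, hQR, hR'⟩ := hconj R hR
    rw [hcard hRS hQR, hcard hPS hQP, hPimg]
    exact Nat.mul_le_mul_left _ (hn'.2 _ hR')⟩
  -- the model upstairs
  set N := normSystem F hPS with hNdef
  have hN : F.IsNormalizerSystem P N := normSystem_spec F hPS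
  obtain ⟨hNs, hNP⟩ := normalizerSystem_constrained hS hF hPn hPc hN
  haveI : Finite (normalizerIn S P) := finite_of_le (normalizerIn_le S P)
  haveI : Finite (normalizerIn S' P') := finite_of_le (normalizerIn_le S' P')
  obtain ⟨L, _, ι, hL⟩ := exists_model (hS.to_le (normalizerIn_le S P)) hNs hNP
  haveI := hL.1
  obtain ⟨D⟩ := exists_actionData hL hNP
  have hNS : ∀ x : S, (x : Ω) ∈ (normalizerIn S P) ↔ θ x ∈ (normalizerIn S' P') := fun x => by
    have := hnpre hPS hQP x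
    rwa [hPimg] at this
  set θN : (normalizerIn S P) →* (normalizerIn S' P') := (θ.comp (Subgroup.inclusion (normalizerIn_le S P))).codRestrict (normalizerIn S' P')
    (fun x => (hNS ⟨x, normalizerIn_le S P x.2⟩).1 x.2) with hθN
  have hθs : Function.Surjective θN := fun ⟨y, hy⟩ => by
    obtain ⟨s, rfl⟩ := hrange.ge (normalizerIn_le S' P' hy)
    exact ⟨⟨s, (hNS s).2 hy⟩, rfl⟩
  set K := (Q.subgroupOf (normalizerIn S P)).map ι with hK
  haveI hKn : K.Normal := ⟨by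
    rintro _ ⟨q, hq, rfl⟩ g
    have hq' : (q : Ω) ∈ Q := hq
    have hmem : (((D.pi g : MulAut P) ⟨q, hQP hq'⟩ : P) : Ω) ∈ Q := by
      have h1 : (D.pi g : MulAut P) ∈ F.autGroup P := by
        rw [← normalizerSystem_autGroup hPS hN]; exact (D.pi g).2
      exact stronglyClosed_apply_mem hQc ((mem_autGroup_iff F hPS _).1 h1) ⟨q, hQP hq'⟩ hq'
    exact ⟨⟨_, hNP.le ((D.pi g : MulAut P) ⟨q, hQP hq'⟩).2⟩, hmem, (D.conj g ⟨q, hQP hq'⟩).symm⟩⟩
  have hkerθ : ∀ x : (normalizerIn S P), θN x = 1 ↔ ι x ∈ K := fun x => by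
    constructor
    · intro h
      exact ⟨x, (hker _).1 (congrArg Subtype.val h), rfl⟩
    · rintro ⟨y, hy, hye⟩
      rw [← hL.2.1.1 hye]
      exact Subtype.ext ((hker _).2 hy)
  set κ : (normalizerIn S' P') →* L ⧸ K := θN.liftOfSurjective hθs ⟨(QuotientGroup.mk' K).comp ι, fun x hx => by
    rw [MonoidHom.mem_ker, MonoidHom.comp_apply, ← MonoidHom.mem_ker, QuotientGroup.ker_mk']
    exact (hkerθ x).1 hx⟩ with hκdef
  have hκ : ∀ x, κ (θN x) = QuotientGroup.mk' K (ι x) := fun x => θN.liftOfRightInverse_comp_apply _ _ _ x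
  have hκi : Function.Injective κ := (injective_iff_map_eq_one κ).2 fun y hy => by
    obtain ⟨x, rfl⟩ := hθs y
    rw [hκ, ← MonoidHom.mem_ker, QuotientGroup.ker_mk'] at hy
    exact (hkerθ x).2 hy
  have hreal : N'.IsRealizedBy κ := by
    refine ⟨hκi, fun X' hX' φ' hφ' => ⟨fun h => ?_, fun ⟨gb, hgb⟩ => ?_⟩⟩
    · rw [hN'] at h
      obtain ⟨-, -, -, ψ', hψ', e1, e2⟩ := h
      obtain ⟨hXP, ψ, hψ, hY, hψS, hm, he⟩ := (hspec _ _).1 hψ'
      have hPY : P ≤ preimageAlong θ (X' ⊔ P') := fun x hx =>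
        (hpre ⟨x, hPS hx⟩).2 (Subgroup.mem_sup_right ((hpre ⟨x, hPS hx⟩).1 hx))
      have hXY : ∀ (x : S), θ x ∈ X' → (x : Ω) ∈ preimageAlong θ (X' ⊔ P') := fun x hx =>
        (hpre x).2 (Subgroup.mem_sup_left hx)
      set X := preimageAlong θ X'
      have hXS : X ≤ S := Subgroup.map_subtype_le _
      have hXle : X ≤ preimageAlong θ (X' ⊔ P') := fun x hx => hXY ⟨x, hXS hx⟩ ((hpre _).1 hx)
      have hXN : X ≤ (normalizerIn S P) := fun x hx => (hNS ⟨x, hXS hx⟩).2 (hX' ((hpre _).1 hx))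
      have hval : ∀ x : X, θ ⟨ψ (Subgroup.inclusion hXle x), hψS _⟩ =
          φ' ⟨θ ⟨x, hXS x.2⟩, (hpre ⟨x, hXS x.2⟩).1 x.2⟩ := fun x => by
        rw [← e1]; exact (he _).symm
      have hψN : ∀ x : X, ψ (Subgroup.inclusion hXle x) ∈ (normalizerIn S P) := fun x =>
        (hNS ⟨_, hψS _⟩).2 (by rw [hval]; exact hφ' _)
      have hXPle : X ⊔ P ≤ preimageAlong θ (X' ⊔ P') := sup_le hXle hPY
      have e2' := (map_subgroupOf_eq_iff ψ' le_sup_right).1 e2
      have hψP : ∀ x : P, ψ (Subgroup.inclusion hPY x) ∈ P := fun x => by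
        refine (hpre ⟨_, hψS _⟩).2 ?_
        rw [← he]
        exact e2'.1 ⟨θ ⟨x, hPS x.2⟩, (hpre _).1 x.2⟩
      have hφN : ψ.comp (Subgroup.inclusion hXle) ∈ N.Hom X := by
        rw [hN]
        refine ⟨restrict_mem F hψ hXle, hXN, hψN, ψ.comp (Subgroup.inclusion hXPle), restrict_mem F hψ hXPle,
          fun x => rfl, ?_⟩
        haveI := finite_of_le (S := S) hPS
        rw [← range_restrict _ (le_sup_right : P ≤ X ⊔ P)]
        refine Subgroup.eq_of_le_of_card_ge (by rintro _ ⟨x, rfl⟩; exact hψP x) (le_of_eq ?_)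
        exact isConj_card ⟨_, restrict_mem F (restrict_mem F hψ hXPle) le_sup_right, rfl⟩
      obtain ⟨g, hg⟩ := (hL.2.1.2 X hXN _ hψN).1 hφN
      refine ⟨QuotientGroup.mk' K g, fun y => ?_⟩
      obtain ⟨x, hx⟩ := hθs ⟨y, hX' y.2⟩
      have hxX : (x : Ω) ∈ X := (hpre ⟨x, normalizerIn_le S P x.2⟩).2 (by
        rw [show θ ⟨x, _⟩ = (y : Ω') from congrArg Subtype.val hx]; exact y.2)
      rw [← hx, hκ, ← map_inv, ← map_mul, ← map_mul, ← hg ⟨x, hxX⟩, ← hκ]
      refine congrArg κ (Subtype.ext ?_)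
      exact ((hval ⟨x, hxX⟩).trans (congrArg φ' (Subtype.ext (congrArg (fun u : normalizerIn S' P' => (u : Ω')) hx)))).symm
    · obtain ⟨g, rfl⟩ := QuotientGroup.mk'_surjective K gb
      set X := preimageAlong θ X'
      have hXS : X ≤ S := Subgroup.map_subtype_le _
      have hXN : X ≤ (normalizerIn S P) := fun x hx => (hNS ⟨x, hXS hx⟩).2 (hX' ((hpre _).1 hx))
      have hmem : ∀ x : X, g * ι ⟨x, hXN x.2⟩ * g⁻¹ ∈ ι.range := fun x => by
        obtain ⟨w, hw⟩ := hθs ⟨φ' ⟨θ ⟨x, hXS x.2⟩, (hpre _).1 x.2⟩, hφ' _⟩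
        have h1 := hgb ⟨θ ⟨x, hXS x.2⟩, (hpre _).1 x.2⟩
        rw [← hw, hκ, show (⟨θ ⟨(x : Ω), hXS x.2⟩, _⟩ : (normalizerIn S' P')) = θN ⟨x, hXN x.2⟩ from rfl, hκ, ← map_inv, ← map_mul,
          ← map_mul] at h1
        have h2 : (ι w)⁻¹ * (g * ι ⟨x, hXN x.2⟩ * g⁻¹) ∈ K := by
          rw [← QuotientGroup.ker_mk' K, MonoidHom.mem_ker, map_mul, map_inv, h1, inv_mul_cancel]
        obtain ⟨q, -, hq⟩ := h2
        exact ⟨w * q, by rw [map_mul, hq, mul_inv_cancel_left]⟩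
      set e := MonoidHom.ofInjective hL.2.1.1
      let φ : X →* Ω := (normalizerIn S P).subtype.comp (e.symm.toMonoidHom.comp
        ((((MulAut.conj g).toMonoidHom.comp ι).comp (Subgroup.inclusion hXN)).codRestrict ι.range hmem))
      have hφe : ∀ x, ι ⟨φ x, SetLike.coe_mem _⟩ = g * ι ⟨x, hXN x.2⟩ * g⁻¹ := fun x =>
        congrArg Subtype.val (e.apply_symm_apply ⟨_, hmem x⟩)
      have hφN : φ ∈ N.Hom X := (hL.2.1.2 X hXN φ fun x => SetLike.coe_mem _).2 ⟨g, hφe⟩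
      rw [hN] at hφN
      obtain ⟨hφF, -, -, ψ, hψ, e1, e2⟩ := hφN
      obtain ⟨ψ', hψ', hXPS, hψS, hm, he⟩ := exists_induced hS hF hQc hE hψ
      have hle : X' ⊔ P' ≤ imageAlong θ (X ⊔ P) := by
        refine sup_le (fun y hy => ?_) fun y hy => ?_
        · obtain ⟨s, rfl⟩ := hrange.ge (normalizerIn_le S' P' (hX' hy))
          exact mem_imageAlong.2 ⟨s, s.2, Subgroup.mem_sup_left ((hpre s).2 hy), rfl⟩
        · rw [← hPimg] at hy
          obtain ⟨s, hs, hsP, rfl⟩ := mem_imageAlong.1 hy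
          exact mem_imageAlong.2 ⟨s, hs, Subgroup.mem_sup_right hsP, rfl⟩
      have hind : InducedAlong θ φ φ' := by
        refine ⟨hXS, hom_apply_mem F hφF, fun x => (hpre _).1 x.2, fun x => ?_⟩
        have h1 : κ (θN ⟨φ x, SetLike.coe_mem _⟩) = κ ⟨φ' ⟨θ ⟨x, hXS x.2⟩, (hpre _).1 x.2⟩, hφ' _⟩ := by
          rw [hκ, hφe, hgb, map_mul, map_mul, map_inv, ← hκ]
          rfl
        exact (congrArg Subtype.val (hκi h1)).symm
      rw [hN']
      refine ⟨(hspec _ _).2 ⟨hX'.trans (normalizerIn_le S' P'), φ, hφF, hind⟩, hX', hφ',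
        ψ'.comp (Subgroup.inclusion hle), restrict_mem E hψ' hle, fun y => ?_, ?_⟩
      · obtain ⟨s, hs⟩ := hrange.ge (normalizerIn_le S' P' (hX' y.2))
        have hsX : (s : Ω) ∈ X := (hpre s).2 (by rw [hs]; exact y.2)
        obtain ⟨_, _, _, hind'⟩ := hind
        have h1 := hind' ⟨s, hsX⟩
        have h2 := he (Subgroup.inclusion le_sup_left ⟨s, hsX⟩)
        rw [show y = (⟨θ s, by rw [hs]; exact y.2⟩ : X') from Subtype.ext hs.symm]
        refine (h2.trans ?_).trans h1.symm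
        exact congrArg θ (Subtype.ext (e1 ⟨s, hsX⟩))
      · have e2' := (map_subgroupOf_eq_iff ψ le_sup_right).1 e2
        rw [map_subgroupOf_eq_iff _ le_sup_right]
        refine ⟨fun y => ?_, fun z hz => ?_⟩
        · obtain ⟨s, hs⟩ := hrange.ge (hn'.1 y.2)
          have hsP : (s : Ω) ∈ P := (hpre s).2 (by rw [hs]; exact y.2)
          have h2 := he (Subgroup.inclusion le_sup_right ⟨s, hsP⟩)
          rw [show y = (⟨θ s, by rw [hs]; exact y.2⟩ : P') from Subtype.ext hs.symm]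
          exact (congrArg (· ∈ P') h2).mpr ((hpre ⟨_, hψS _⟩).1 (e2'.1 ⟨s, hsP⟩))
        · obtain ⟨s, rfl⟩ := hrange.ge (hn'.1 hz)
          obtain ⟨x, hx⟩ := e2'.2 s ((hpre s).2 hz)
          refine ⟨⟨θ ⟨x, hPS x.2⟩, (hpre _).1 x.2⟩, (he (Subgroup.inclusion le_sup_right x)).trans ?_⟩
          exact congrArg θ (Subtype.ext hx)
  have hT : ∃ T : Sylow p (L ⧸ K), (T : Subgroup (L ⧸ K)) = κ.range := by
    obtain ⟨T, hT⟩ := hL.2.2.1
    refine ⟨T.mapSurjective (QuotientGroup.mk'_surjective K), ?_⟩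
    rw [Sylow.coe_mapSurjective, hT, ← MonoidHom.range_comp]
    ext z
    constructor
    · rintro ⟨x, rfl⟩; exact ⟨θN x, hκ x⟩
    · rintro ⟨y, rfl⟩
      obtain ⟨x, rfl⟩ := hθs y
      exact ⟨x, (hκ x).symm⟩
  have hNP' : CentricNormal N' P' :=
    ⟨normalizerSystem_isNormal hn'.1 hN', normalizerSystem_centric hN' hc' (le_normalizerIn hn'.1)⟩
  obtain ⟨π, hπs, hπc, hπi⟩ := exists_realizedAction hreal hNP' fun gb q => by
    obtain ⟨g, rfl⟩ := QuotientGroup.mk'_surjective K gb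
    obtain ⟨s, hs⟩ := hrange.ge (hn'.1 q.2)
    have hsP : (s : Ω) ∈ P := (hpre s).2 (by rw [hs]; exact q.2)
    set r := (D.pi g : MulAut P) ⟨s, hsP⟩
    refine ⟨⟨θ ⟨r, hPS r.2⟩, (hpre _).1 r.2⟩, ?_⟩
    have h1 : (⟨q, hNP'.le q.2⟩ : (normalizerIn S' P')) = θN ⟨s, hNP.le hsP⟩ := Subtype.ext hs.symm
    rw [h1, hκ, ← map_inv, ← map_mul, ← map_mul, D.conj g ⟨s, hsP⟩, ← hκ]
    rfl
  obtain ⟨Φ, hΦ, -⟩ := exists_surjective_to_model hreal hT hL' hNP' π hπs hπc hπi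
  exact hfree P hPn hPc N hN L ι hL
    (involves_of_surjective (QuotientGroup.mk' K) (QuotientGroup.mk'_surjective K) (involves_of_surjective Φ hΦ hinv))

end Cfsg.Agent.FusionSys
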