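import Cfsg.Prelude.Def_FusionFitting
import Cfsg.Agent.Lib.Fusion.ComponentFree
import Cfsg.Agent.Lib.Fusion.Local

/-!
# Constrained systems and the generalized Fitting subsystem
-/

set_option autoImplicit false

namespace Cfsg.Agent.FusionSys.CompFree

open Cfsg Cfsg.FusionSystem

variable {Ω : Type*} [Group Ω] {S : Subgroup Ω} [Finite S] {p : ℕ} [hp : Fact p.Prime] {F : FusionSystem S}

/-- Without components the inner system of the trivial subgroup is the layer. -/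
theorem isLayerOf_bot (hS : IsPGroup p S) (hF : F.IsSaturated p)
    (hnc : ¬ ∃ (T : Subgroup Ω) (C : FusionSystem T), C.IsComponentIn F p) :
    (innerFusionSystem (⊥ : Subgroup Ω)).IsLayerOf F p := by
  refine ⟨LayerCore.inner_isNormalIn_of_central hS hF (isCentral_bot F),
    fun U C hC => (hnc ⟨U, C, hC⟩).elim, fun R D _ _ P φ hφ => ?_⟩
  obtain ⟨hP, g, hg, he⟩ := hφ
  rw [Subgroup.mem_bot] at hg
  subst hg
  exact hom_congr D (D.conj_mem (hP.trans bot_le) R.one_mem) he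

omit [Finite S] hp in
/-- The central product of the inner system of a subgroup with the trivial system. -/
theorem centralProduct_bot (A : Subgroup Ω) :
    IsCentralProductOf (innerFusionSystem A) (innerFusionSystem (⊥ : Subgroup Ω)) (innerFusionSystem A) := by
  let θ : ↥(A.prod (⊥ : Subgroup Ω)) →* Ω := (MonoidHom.fst Ω Ω).comp (A.prod ⊥).subtype
  refine ⟨prodSystem (innerFusionSystem A) (innerFusionSystem ⊥), fun P φ => Iff.rfl, ⊥, θ, bot_le, bot_inf_eq _,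
    bot_inf_eq _, fun x hx => rfl, fun y hy => (Subgroup.mem_bot.1 hy.2).symm, bot_le, fun s => ?_, ?_, ?_⟩
  · rw [Subgroup.mem_bot]
    exact ⟨fun h => Prod.ext h (Subgroup.mem_bot.1 s.2.2), fun h => congrArg Prod.fst h⟩
  · ext x
    exact ⟨fun ⟨s, hs⟩ => hs ▸ s.2.1, fun hx => ⟨⟨(x, 1), hx, rfl⟩, rfl⟩⟩
  intro P' φ'
  constructor
  · rintro ⟨hP, g, hg, he⟩
    refine ⟨hP, _, (prodSystem (innerFusionSystem A) (innerFusionSystem ⊥)).conj_mem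
      (le_preimageAlong θ P') (g := (g, 1)) ⟨hg, rfl⟩, le_preimageAlong θ P', fun x => ?_,
      fun x => ((mem_preimageAlong _ _ _).1 x.2).2, fun x => (he _).trans rfl⟩
    exact (A.prod ⊥).mul_mem ((A.prod ⊥).mul_mem ⟨hg, rfl⟩ (le_preimageAlong θ P' x.2))
      ((A.prod ⊥).inv_mem ⟨hg, rfl⟩)
  · rintro ⟨hP, φ, ⟨-, φ₁, ⟨-, g, hg, hge⟩, φ₂, -, hφ⟩, hQ, hv, hm, he⟩
    refine ⟨hP, g, hg, ?_⟩
    rintro ⟨y, hy⟩
    have hyp : ((y, 1) : Ω × Ω) ∈ preimageAlong θ P' :=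
      (mem_preimageAlong _ _ _).2 ⟨⟨hP hy, rfl⟩, hy⟩
    refine (he ⟨_, hyp⟩).trans ?_
    show (φ ⟨_, hyp⟩).1 = _
    rw [hφ ⟨_, hyp⟩ ⟨_, hyp, rfl⟩ ⟨_, hyp, rfl⟩]
    exact hge _

omit hp in
/-- The maps of a central factor are maps of the product. -/
theorem centralProduct_right_le {T₁ T₂ U : Subgroup Ω} [Finite T₁] [Finite T₂] {E₁ : FusionSystem T₁}
    {E₂ : FusionSystem T₂} {D : FusionSystem U} (h : IsCentralProductOf E₁ E₂ D) : E₂.IsSubsystemOf D := by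
  obtain ⟨D₀, hD₀, Z, θ, hZ, -, -, -, hθ₂, hfac⟩ := h
  haveI : Finite ↥(T₁.prod T₂) := Finite.of_equiv _ (T₁.prodEquiv T₂).toEquiv.symm
  intro P φ hφ
  have hP := hom_le E₂ hφ
  set P₀ := (⊥ : Subgroup Ω).prod P
  have hP₀ : P₀ ≤ T₁.prod T₂ := fun x hx => ⟨(Subgroup.mem_bot.1 hx.1).symm ▸ T₁.one_mem, hP hx.2⟩
  let φ₀ : P₀ →* Ω × Ω :=
    MonoidHom.prod 1 (φ.comp (((MonoidHom.snd Ω Ω).comp P₀.subtype).codRestrict P fun x => x.2.2))
  have hfst : P₀.map (MonoidHom.fst Ω Ω) ≤ T₁ := by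
    rintro _ ⟨x, hx, rfl⟩; exact (hP₀ hx).1
  have hsnd : P₀.map (MonoidHom.snd Ω Ω) ≤ P := by
    rintro _ ⟨x, hx, rfl⟩; exact hx.2
  have hφ₀ : φ₀ ∈ D₀.Hom P₀ := (hD₀ P₀ φ₀).2 ⟨hP₀, _, subtype_mem E₁ hfst, _, restrict_mem E₂ hφ hsnd,
    fun x h₁ h₂ => Prod.ext (Subgroup.mem_bot.1 x.2.1).symm rfl⟩
  obtain ⟨ψ, hψ, h1, h2⟩ := isCentral_extend (center_isCentral D₀) hφ₀
  have hin : ∀ y ∈ P, ∃ hy : ((1, y) : Ω × Ω) ∈ T₁.prod T₂, θ ⟨_, hy⟩ = y :=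
    fun y hy => ⟨⟨T₁.one_mem, hP hy⟩, hθ₂ y _⟩
  have hdec : ∀ x ∈ preimageAlong θ P, x ∈ P₀ ⊔ D₀.center := by
    intro x hx
    obtain ⟨hxT, hxP⟩ := (mem_preimageAlong _ _ _).1 hx
    obtain ⟨hy, hye⟩ := hin _ hxP
    have hk : ((⟨_, hy⟩ : T₁.prod T₂)⁻¹ * ⟨x, hxT⟩ : T₁.prod T₂).1 ∈ Z :=
      (hfac.2.1 _).1 (by rw [map_mul, map_inv, hye, inv_mul_cancel])
    have := Subgroup.mul_mem (P₀ ⊔ D₀.center) (Subgroup.mem_sup_left (show ((1, θ ⟨x, hxT⟩) : Ω × Ω) ∈ P₀ from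
      ⟨Subgroup.one_mem _, hxP⟩)) (Subgroup.mem_sup_right (hZ hk))
    rwa [Subgroup.coe_mul, Subgroup.coe_inv, mul_inv_cancel_left] at this
  have hψ' := restrict_mem D₀ hψ hdec
  refine (hfac.2.2.2 P φ).2 ⟨fun y hy => ?_, _, hψ', le_preimageAlong θ P,
    fun x => hom_apply_mem D₀ hψ' x, fun x => ((mem_preimageAlong _ _ _).1 x.2).2, fun x => ?_⟩
  · obtain ⟨hy', hye⟩ := hin y hy
    exact hfac.2.2.1 ▸ ⟨_, hye⟩
  obtain ⟨hxT, hxP⟩ := (mem_preimageAlong _ _ _).1 x.2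
  obtain ⟨hy, hye⟩ := hin _ hxP
  set z := ((⟨_, hy⟩ : T₁.prod T₂)⁻¹ * ⟨x, hxT⟩ : T₁.prod T₂) with hz
  have hθz : θ z = 1 := by rw [hz, map_mul, map_inv, hye, inv_mul_cancel]
  have hzC : (z : Ω × Ω) ∈ D₀.center := hZ ((hfac.2.1 z).1 hθz)
  have hyP₀ : ((1, θ ⟨x, hxT⟩) : Ω × Ω) ∈ P₀ := ⟨Subgroup.one_mem _, hxP⟩
  have hx : (⟨x, hdec x x.2⟩ : ↥(P₀ ⊔ D₀.center)) =
      ⟨_, Subgroup.mem_sup_left hyP₀⟩ * ⟨_, Subgroup.mem_sup_right hzC⟩ := Subtype.ext (by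
    show (x : Ω × Ω) = _ * (z : Ω × Ω)
    rw [hz, Subgroup.coe_mul, Subgroup.coe_inv, mul_inv_cancel_left])
  have hψx : ψ ⟨x, hdec x x.2⟩ = ((1, φ ⟨_, hxP⟩) : Ω × Ω) * (z : Ω × Ω) := by
    rw [hx, map_mul, h1 _ hyP₀, h2 _ _ hzC]
    rfl
  have hm : ((1, φ ⟨_, hxP⟩) : Ω × Ω) ∈ T₁.prod T₂ := ⟨T₁.one_mem, hom_apply_mem E₂ hφ _⟩
  refine Eq.trans ?_ (congrArg θ (Subtype.ext hψx.symm :
    (⟨_, hm⟩ * z : T₁.prod T₂) = ⟨ψ ⟨x, hdec x x.2⟩, hom_apply_mem D₀ hψ' x⟩))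
  rw [map_mul, hθz, mul_one]
  exact (hθ₂ _ _).symm

/-- A component is not contained in an inner system. -/
theorem not_inner_component (hS : IsPGroup p S) {T A : Subgroup Ω} (hA : A ≤ S) {C : FusionSystem T}
    (hC : C.IsComponentIn F p) : ¬ C.IsSubsystemOf (innerFusionSystem A) := by
  intro hsub
  have hTS := subnormal_le hC.1
  haveI := finite_of_le hTS
  have hbot : C.hyperfocalSubgroup p ≤ ⊥ := by
    refine (Subgroup.closure_le _).2 ?_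
    rintro _ ⟨P, a, x, hP, ha, rfl⟩
    have hle : C.autGroup P ≤ autInducedBy A P := fun b hb => by
      obtain ⟨-, g, hg, he⟩ := hsub P ((mem_autGroup_iff C hP b).1 hb)
      exact (mem_autInducedBy_iff b).2 ⟨g, hg, he⟩
    have hpg : IsPGroup p (C.autGroup P) := (autInducedBy_isPGroup (hS.to_le hA)).to_le hle
    have h1 : pResidual p (C.autGroup P) ≤ ⊥ := Cfsg.Agent.PBasic.pResidual_le (hpg.to_quotient _)
    rw [Subgroup.mem_bot.1 (h1 ha)]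
    simp
  refine not_quasisimple_of_abelian (fun x hx y hy => ?_) (hS.to_le hTS) C hC.2
  rw [← hC.2.2.1] at hx hy
  rw [Subgroup.mem_bot.1 (hbot hx), Subgroup.mem_bot.1 (hbot hy)]

/-- Constrained means that the core carries the generalized Fitting subsystem. -/
theorem constrained_iff_fitting (hS : IsPGroup p S) (hF : F.IsSaturated p) :
    F.IsConstrained p ↔ (innerFusionSystem F.core).IsGeneralizedFittingOf F p := by
  constructor
  · intro h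
    refine ⟨⊥, _, isLayerOf_bot hS hF fun ⟨_, _, hC⟩ => no_component_of_constrained hS h hC, centralProduct_bot _⟩
  · rintro ⟨T, E, hE, hprod⟩
    haveI := finite_of_le (core_isNormal F).1
    haveI := finite_of_le hE.1.1.2.2.2.1.1
    refine constrained_of_no_component hS hF ?_
    rintro ⟨U, C, hC⟩
    exact not_inner_component hS (core_isNormal F).1 hC
      fun P φ hφ => centralProduct_right_le hprod P (hE.2.1 U C hC P hφ)

end Cfsg.Agent.FusionSys.CompFree
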