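import Cfsg.Agent.Lib.Fusion.FittingConstrained
import Cfsg.Agent.Lib.Fusion.CentralizerSubsystem
import Cfsg.Agent.Lib.Fusion.CentreLemmas
import Cfsg.Agent.Lib.Fusion.ComponentCentralizer

/-!
# The generalized Fitting subsystem is self-centralizing
-/

set_option autoImplicit false
set_option linter.style.haveILetI false

namespace Cfsg.Agent.FusionSys.FitSelf

open Cfsg Cfsg.FusionSystem Cfsg.Agent.FusionSys Cfsg.Agent.FusionSys.FocCent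

variable {Ω : Type*} [Group Ω] {S T U Q : Subgroup Ω} {p : ℕ} [hp : Fact p.Prime]

section
variable {E : FusionSystem T} {D : FusionSystem U}

omit hp in
/-- The shape of a central product with an inner system. -/
theorem shape (h : IsCentralProductOf (innerFusionSystem Q) E D) :
    (∀ a ∈ Q, ∀ b ∈ T, a * b = b * a) ∧ (∀ x : Ω, x ∈ U ↔ ∃ a ∈ Q, ∃ b ∈ T, x = a * b) ∧
    (∀ (P : Subgroup Ω) (φ : P →* Ω), φ ∈ D.Hom P ↔ P ≤ U ∧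
      ∃ (P₂ : Subgroup Ω) (φ₂ : P₂ →* Ω), φ₂ ∈ E.Hom P₂ ∧ ∃ g ∈ Q,
        ∀ a ∈ Q, ∀ b ∈ T, ∀ hx : a * b ∈ P, ∃ hb : b ∈ P₂, φ ⟨a * b, hx⟩ = g * a * g⁻¹ * φ₂ ⟨b, hb⟩) := by
  obtain ⟨D₀, hD₀, Z, θ, -, -, -, hθ₁, hθ₂, -, -, hran, hfac⟩ := h
  have hθ : ∀ (u : Ω × Ω) (hu : u ∈ Q.prod T), θ ⟨u, hu⟩ = u.1 * u.2 := by
    intro u hu
    have h1 : ((u.1, 1) : Ω × Ω) ∈ Q.prod T := ⟨hu.1, T.one_mem⟩
    have h2 : ((1, u.2) : Ω × Ω) ∈ Q.prod T := ⟨Q.one_mem, hu.2⟩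
    rw [show (⟨u, hu⟩ : Q.prod T) = ⟨_, h1⟩ * ⟨_, h2⟩ from Subtype.ext (by simp), map_mul, hθ₁, hθ₂]
  have hcomm : ∀ a ∈ Q, ∀ b ∈ T, a * b = b * a := by
    intro a ha b hb
    have h1 : ((a, 1) : Ω × Ω) ∈ Q.prod T := ⟨ha, T.one_mem⟩
    have h2 : ((1, b) : Ω × Ω) ∈ Q.prod T := ⟨Q.one_mem, hb⟩
    rw [← hθ₁ a h1, ← hθ₂ b h2, ← map_mul, ← map_mul]
    exact congrArg θ (Subtype.ext (by simp))
  refine ⟨hcomm, fun x => ⟨fun hx => ?_, ?_⟩, fun P φ => ?_⟩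
  · obtain ⟨⟨u, hu⟩, rfl⟩ := hran.ge hx
    exact ⟨_, hu.1, _, hu.2, hθ u hu⟩
  · rintro ⟨a, ha, b, hb, rfl⟩
    exact hran ▸ ⟨⟨(a, b), ha, hb⟩, hθ (a, b) ⟨ha, hb⟩⟩
  have hmem : ∀ a ∈ Q, ∀ b ∈ T, a * b ∈ P → ((a, b) : Ω × Ω) ∈ preimageAlong θ P := fun a ha b hb hx =>
    (mem_preimageAlong _ _ _).2 ⟨Subgroup.mem_prod.2 ⟨ha, hb⟩, (hθ (a, b) _).symm ▸ hx⟩
  rw [hfac]
  refine and_congr Iff.rfl ⟨?_, ?_⟩
  · rintro ⟨φ₀, hφ₀, hP₀, hv, hm, he⟩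
    obtain ⟨-, φ₁, ⟨-, g, hg, hge⟩, φ₂, hφ₂, hpr⟩ := (hD₀ _ _).1 hφ₀
    refine ⟨_, φ₂, hφ₂, g, hg, fun a ha b hb hx => ?_⟩
    have h0 := hmem a ha b hb hx
    have hb₂ : b ∈ (preimageAlong θ P).map (MonoidHom.snd Ω Ω) := ⟨_, h0, rfl⟩
    have ha₁ : a ∈ (preimageAlong θ P).map (MonoidHom.fst Ω Ω) := ⟨_, h0, rfl⟩
    refine ⟨hb₂, ?_⟩
    have h1 := he ⟨_, h0⟩
    rw [hθ _ (hv ⟨_, h0⟩), hpr ⟨_, h0⟩ ha₁ hb₂] at h1
    refine Eq.trans ?_ (h1.trans (by simp only [hge]))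
    exact congrArg φ (Subtype.ext (hθ _ (hP₀ h0)).symm)
  · rintro ⟨P₂, φ₂, hφ₂, g, hg, hval⟩
    set P₀ := preimageAlong θ P
    have hP₀ : P₀ ≤ Q.prod T := le_preimageAlong θ P
    have hin : ∀ u : P₀, (u : Ω × Ω).1 * (u : Ω × Ω).2 ∈ P := fun u => by
      obtain ⟨hu, hup⟩ := (mem_preimageAlong _ _ _).1 u.2
      rwa [hθ] at hup
    have hsnd : P₀.map (MonoidHom.snd Ω Ω) ≤ P₂ := by
      rintro _ ⟨u, hu, rfl⟩
      exact (hval u.1 (hP₀ hu).1 u.2 (hP₀ hu).2 (hin ⟨u, hu⟩)).1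
    have hfst : P₀.map (MonoidHom.fst Ω Ω) ≤ Q := by
      rintro _ ⟨u, hu, rfl⟩; exact (hP₀ hu).1
    let φ₀ : P₀ →* Ω × Ω := MonoidHom.prod ((conjHom Q g).comp
      (((MonoidHom.fst Ω Ω).comp P₀.subtype).codRestrict Q fun u => (hP₀ u.2).1))
      (φ₂.comp (((MonoidHom.snd Ω Ω).comp P₀.subtype).codRestrict P₂ fun u => hsnd ⟨_, u.2, rfl⟩))
    have hφ₀ : φ₀ ∈ D₀.Hom P₀ := (hD₀ P₀ φ₀).2 ⟨hP₀, _, (innerFusionSystem Q).conj_mem hfst hg,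
      _, restrict_mem E hφ₂ hsnd, fun u h₁ h₂ => Prod.ext rfl rfl⟩
    refine ⟨φ₀, hφ₀, hP₀, fun u => hom_apply_mem D₀ hφ₀ u, fun u => ((mem_preimageAlong _ _ _).1 u.2).2,
      fun u => ?_⟩
    obtain ⟨hb, he⟩ := hval _ (hP₀ u.2).1 _ (hP₀ u.2).2 (hin u)
    rw [hθ _ (hom_apply_mem D₀ hφ₀ u)]
    exact (congrArg φ (Subtype.ext (hθ _ (hP₀ u.2)))).trans he

/-- A map of the product extends over the whole of the inner factor to a map of the ambient system. -/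
theorem exists_ambient_ext [Finite S] {F : FusionSystem S} (hQS : Q ≤ S)
    (h : IsCentralProductOf (innerFusionSystem Q) E D)
    (hcent : ∀ P : Subgroup Ω, E.Hom P ⊆ F.centralizerHom Q P)
    {P : Subgroup Ω} {φ : P →* Ω} (hφ : φ ∈ D.Hom P) :
    ∃ (P₂ : Subgroup Ω) (χ : ↥(P₂ ⊔ Q) →* Ω), χ ∈ F.Hom (P₂ ⊔ Q) ∧
      (∀ a ∈ Q, ∀ b ∈ T, a * b ∈ P → b ∈ P₂) ∧ ∀ hle : P ≤ P₂ ⊔ Q,
      (∀ x : P, χ (Subgroup.inclusion hle x) = φ x) ∧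
      ∀ (P' : Subgroup Ω) (hle' : P' ≤ P₂ ⊔ Q), P' ≤ U → (∀ a ∈ Q, ∀ b ∈ T, a * b ∈ P' → b ∈ P₂) →
        χ.comp (Subgroup.inclusion hle') ∈ D.Hom P' ∧ ∀ (y : Ω) (hy : y ∈ P'), y ∈ Q →
          (∀ q ∈ Q, q * y = y * q) → χ ⟨y, hle' hy⟩ = y := by
  obtain ⟨hcomm, hU, hmem⟩ := shape h
  obtain ⟨hPU, P₂, φ₂, hφ₂, g, hg, hval⟩ := (hmem P φ).1 hφ
  obtain ⟨-, -, hv, ψ, hψ, hψ₁, hψ₂⟩ := hcent P₂ hφ₂
  have hconj : conjHom S g ∈ F.Hom S := F.conj_mem le_rfl (hQS hg)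
  let χ : ↥(P₂ ⊔ Q) →* Ω := (conjHom S g).comp (ψ.codRestrict S fun x => hom_apply_mem F hψ x)
  have hχ : χ ∈ F.Hom (P₂ ⊔ Q) := F.comp_mem hψ hconj _
  have hkey : ∀ a ∈ Q, ∀ (b : Ω) (hb : b ∈ P₂) (hx : a * b ∈ P₂ ⊔ Q),
      χ ⟨a * b, hx⟩ = g * a * g⁻¹ * φ₂ ⟨b, hb⟩ := by
    intro a ha b hb hx
    have h1 : ψ ⟨a * b, hx⟩ = a * φ₂ ⟨b, hb⟩ := by
      rw [show (⟨a * b, hx⟩ : ↥(P₂ ⊔ Q)) = Subgroup.inclusion le_sup_right ⟨a, ha⟩ *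
        Subgroup.inclusion le_sup_left ⟨b, hb⟩ from Subtype.ext rfl, map_mul, hψ₁, hψ₂]
    have hc := hcomm g⁻¹ (Q.inv_mem hg) _ (hom_apply_mem E hφ₂ ⟨b, hb⟩)
    show g * ψ ⟨a * b, hx⟩ * g⁻¹ = _
    rw [h1]
    calc g * (a * φ₂ ⟨b, hb⟩) * g⁻¹ = g * a * (φ₂ ⟨b, hb⟩ * g⁻¹) := by group
      _ = g * a * g⁻¹ * φ₂ ⟨b, hb⟩ := by rw [← hc, ← mul_assoc]
  refine ⟨P₂, χ, hχ, fun a ha b hb hx => (hval a ha b hb hx).1, fun hle => ⟨?_, ?_⟩⟩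
  · rintro ⟨x, hx⟩
    obtain ⟨a, ha, b, hb, rfl⟩ := (hU x).1 (hPU hx)
    obtain ⟨hb₂, he⟩ := hval a ha b hb hx
    exact (hkey a ha b hb₂ (hle hx)).trans he.symm
  intro P' hle' hP'U hdec
  refine ⟨(hmem P' _).2 ⟨hP'U, P₂, φ₂, hφ₂, g, hg, fun a ha b hb hx =>
    ⟨hdec a ha b hb hx, hkey a ha b _ (hle' hx)⟩⟩, fun y hy hyQ hyc => ?_⟩
  have h1 := hkey y hyQ 1 P₂.one_mem (by rw [mul_one]; exact hle' hy)
  have h2 := (congrArg χ (Subtype.ext (mul_one y).symm :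
    (⟨y, hle' hy⟩ : ↥(P₂ ⊔ Q)) = ⟨y * 1, by rw [mul_one]; exact hle' hy⟩)).trans h1
  rw [show φ₂ ⟨1, P₂.one_mem⟩ = 1 from map_one φ₂, mul_one, hyc g hg, mul_inv_cancel_right] at h2
  exact h2

end

variable [Finite S]

/-- The self-centralizing property of the generalized Fitting subsystem. -/
theorem fitting_self_centralizing (hS : IsPGroup p S) {F : FusionSystem S} (hF : F.IsSaturated p)
    {D : FusionSystem U} (hD : D.IsGeneralizedFittingOf F p) :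
    (D.center ≤ centralizerIn S U ∧ ∀ P : Subgroup Ω, D.Hom P ⊆ F.centralizerHom D.center P) ∧
      ∀ Y : Subgroup Ω, Y ≤ centralizerIn S U →
        (∀ P : Subgroup Ω, D.Hom P ⊆ F.centralizerHom Y P) → Y ≤ D.center := by
  obtain ⟨T, E, hEl, hprod⟩ := hD
  obtain ⟨hcomm, hU, hmem⟩ := shape hprod
  have hQn := core_isNormal F
  have hQS : F.core ≤ S := hQn.1
  have hTS : T ≤ S := hEl.1.1.2.2.2.1.1
  haveI := finite_of_le hQS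
  haveI := finite_of_le hTS
  have hUS : U ≤ S := fun x hx => by
    obtain ⟨a, ha, b, hb, rfl⟩ := (hU x).1 hx
    exact S.mul_mem (hQS ha) (hTS hb)
  haveI := finite_of_le hUS
  have hTU : T ≤ U := fun b hb => (hU b).2 ⟨1, F.core.one_mem, b, hb, (one_mul b).symm⟩
  have hQU : F.core ≤ U := fun a ha => (hU a).2 ⟨a, ha, 1, T.one_mem, (mul_one a).symm⟩
  have hcent : ∀ P : Subgroup Ω, E.Hom P ⊆ F.centralizerHom F.core P := fun P φ hφ =>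
    hEl.2.2 _ _ (LayerCore.centralizer_isNormalIn hS hF hQn)
      (fun V C hC P' ψ hψ => LayerCore.component_centralizes hC hS hF hQn P' hψ) P hφ
  have hdecle : ∀ {P P₂ : Subgroup Ω}, P ≤ U → (∀ a ∈ F.core, ∀ b ∈ T, a * b ∈ P → b ∈ P₂) →
      P ≤ P₂ ⊔ F.core := by
    intro P P₂ hPU hdec x hx
    obtain ⟨a, ha, b, hb, rfl⟩ := (hU x).1 (hPU hx)
    exact Subgroup.mul_mem _ (Subgroup.mem_sup_right ha) (Subgroup.mem_sup_left (hdec a ha b hb hx))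
  have hsub : D.IsSubsystemOf F := by
    intro P φ hφ
    obtain ⟨P₂, χ, hχ, hdec, h⟩ := exists_ambient_ext hQS hprod hcent hφ
    have hle := hdecle (hom_le D hφ) hdec
    exact hom_congr F (restrict_mem F hχ hle) fun x => ((h hle).1 x).symm
  have hZU : D.center ≤ U := (center_isCentral D).1
  have hZc := D.center_le_centralizer
  refine ⟨⟨fun z hz => ⟨hUS (hZU hz), hZc hz⟩, fun P φ hφ => ?_⟩, fun Y hY hYD => ?_⟩
  · obtain ⟨ψ, hψ, h1, h2⟩ := (center_isCentral D).2 P φ hφ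
    have hin : ∀ x ∈ U, x ∈ centralizerIn S D.center := fun x hx => ⟨hUS hx,
      Subgroup.mem_centralizer_iff.2 fun z hz => (Subgroup.mem_centralizer_iff.1 (hZc hz) x hx).symm⟩
    exact ⟨hsub P hφ, fun x hx => hin x (hom_le D hφ hx), fun x => hin _ (hom_apply_mem D hφ x),
      ψ, hsub _ hψ, h1, h2⟩
  -- `Y` centralizes the layer
  have hYT : Y ≤ centralizerIn S T := fun y hy =>
    ⟨(hY hy).1, Subgroup.centralizer_le hTU (hY hy).2⟩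
  have hYG : Y ≤ goodSub F E := fun y hy => Subgroup.subset_closure
    (good_of_le hYT (fun P φ hφ => hYD P (CompFree.centralProduct_right_le hprod P hφ)) hy)
  obtain ⟨C, hCn, hCc⟩ := CentSub.exists_centralizer_subsystem hS hF hEl.1
  have hGS : goodSub F E ≤ S := (goodSub_le F E).trans (centralizerIn_le _ _)
  haveI := finite_of_le hGS
  have hCcons : C.IsConstrained p := by
    refine CompFree.constrained_of_no_component (hS.to_le hGS) hCn.1.1 ?_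
    rintro ⟨W, K, hK⟩
    have hWG : W ≤ goodSub F E := subnormal_le hK.1
    haveI := finite_of_le hWG
    have hWT : W ≤ T := hom_le E (hEl.2.1 W K (CompFree.component_of_normal hCn hK) W (subtype_mem K le_rfl))
    refine not_quasisimple_of_abelian (fun x hx y hy => ?_) (hS.to_le (hWG.trans hGS)) K hK.2
    exact Subgroup.mem_centralizer_iff.1 (goodSub_le F E (hWG hy)).2 x (hWT hx)
  have hCQ : C.core ≤ F.core := isNormal_le_core (core_normal_of_invariant hS hCn.1)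
  have hYQ : Y ≤ F.core := fun y hy => hCQ (CompFree.centralizer_core_le hCcons
    ⟨hYG hy, Subgroup.centralizer_le (hCQ.trans hQU) (hY hy).2⟩)
  refine isCentral_le_center ⟨hYQ.trans hQU, fun P φ hφ => ?_⟩
  obtain ⟨P₂, χ, -, hdec, h⟩ := exists_ambient_ext hQS hprod hcent hφ
  have hPU := hom_le D hφ
  have hcommP : ∀ y ∈ Y, ∀ x ∈ U, x * y = y * x := fun y hy x hx =>
    Subgroup.mem_centralizer_iff.1 (hY hy).2 x hx
  have hdec' : ∀ a ∈ F.core, ∀ b ∈ T, a * b ∈ P ⊔ Y → b ∈ P₂ := by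
    intro a ha b hb hx
    have hnorm : P ≤ Subgroup.normalizer (Y : Set Ω) := fun x hx' => Subgroup.mem_normalizer_iff.2 fun n =>
      ⟨fun hn => by rwa [hcommP n hn x (hPU hx'), mul_inv_cancel_right],
       fun hn => by
        have h1 := hcommP _ hn x⁻¹ (U.inv_mem (hPU hx'))
        have h2 : n = x * n * x⁻¹ := calc
          n = x⁻¹ * (x * n * x⁻¹) * x := by group
          _ = _ := by rw [h1]; group
        rwa [h2]⟩
    rw [← SetLike.mem_coe, Subgroup.coe_mul_of_left_le_normalizer_right _ _ hnorm] at hx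
    obtain ⟨x, hxP, y, hy, he⟩ := hx
    refine hdec (a * y⁻¹) (F.core.mul_mem ha (F.core.inv_mem (hYQ hy))) b hb ?_
    have h1 : b * y⁻¹ = y⁻¹ * b := hcommP _ (Y.inv_mem hy) b (hTU hb)
    rw [mul_assoc, ← h1, ← mul_assoc, ← show x * y = a * b from he, mul_inv_cancel_right]
    exact hxP
  have hle' : P ⊔ Y ≤ U := sup_le hPU (hYQ.trans hQU)
  obtain ⟨h1, h2⟩ := h (hdecle hPU hdec)
  obtain ⟨h3, h4⟩ := h2 (P ⊔ Y) (hdecle hle' hdec') hle' hdec'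
  exact ⟨_, h3, fun x => h1 x, fun y => h4 y (Subgroup.mem_sup_right y.2) (hYQ y.2)
    fun q hq => hcommP y y.2 q (hQU hq)⟩

end Cfsg.Agent.FusionSys.FitSelf
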