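import Cfsg.Agent.Lib.Fusion.AlperinInd
import Cfsg.Agent.Lib.Fusion.KNormalizer
import Cfsg.Agent.Lib.Fusion.Local

/-!
# The focal subgroup of the centralizer system centralizes a normal subsystem

For a fully centralized `R`, the lifts of automorphisms of `R` acting trivially on `C_S(R)` modulo `Z(R)`
move the generators of the focal subgroup of `C_F(R)` only by elements fixed by all such lifts.
-/

set_option autoImplicit false
set_option linter.unusedSectionVars false
set_option linter.style.haveILetI false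

namespace Cfsg.Agent.FusionSys.FocCent

open Cfsg Cfsg.FusionSystem Cfsg.Agent.FusionSys

variable {Ω : Type*} [Group Ω] {S : Subgroup Ω}

/-! ### Restrictions of automorphisms -/

theorem exists_aut_of_invariant (F : FusionSystem S) {P : Subgroup Ω} [Finite P] {φ : P →* Ω}
    (hφ : φ ∈ F.Hom P) (h : ∀ x : P, φ x ∈ P) :
    ∃ α ∈ F.autGroup P, ∀ x : P, ((α x : P) : Ω) = φ x := by
  refine exists_autGroup_of_range F hφ (Subgroup.eq_of_le_of_card_ge ?_ (isConj_card ⟨φ, hφ, rfl⟩).le)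
  rintro _ ⟨x, rfl⟩
  exact h x

/-- `β` is the restriction of `α`. -/
def Rel {M P : Subgroup Ω} (h : P ≤ M) (α : MulAut M) (β : MulAut P) : Prop :=
  ∀ x : P, α (Subgroup.inclusion h x) = Subgroup.inclusion h (β x)

theorem Rel.mul {M P : Subgroup Ω} {h : P ≤ M} {α α' : MulAut M} {β β' : MulAut P} (h1 : Rel h α β)
    (h2 : Rel h α' β') : Rel h (α * α') (β * β') := fun x => by
  rw [MulAut.mul_apply, h2, h1, MulAut.mul_apply]

theorem Rel.inv {M P : Subgroup Ω} {h : P ≤ M} {α : MulAut M} {β : MulAut P} (h1 : Rel h α β) :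
    Rel h α⁻¹ β⁻¹ := fun x => by
  have := h1 (β⁻¹ x)
  rw [show β (β⁻¹ x) = x from β.apply_symm_apply x] at this
  rw [← this]
  exact α.symm_apply_apply _

theorem Rel.apply {M P : Subgroup Ω} {h : P ≤ M} {α : MulAut M} {β : MulAut P} (h1 : Rel h α β) (x : P) :
    ((α ⟨x, h x.2⟩ : M) : Ω) = (β x : P) :=
  congrArg Subtype.val (h1 x)

theorem Rel.one {M P : Subgroup Ω} {h : P ≤ M} : Rel h (1 : MulAut M) (1 : MulAut P) := fun _ => rfl

theorem exists_rel [Finite S] (F : FusionSystem S) {M P : Subgroup Ω} (hPM : P ≤ M) (hM : M ≤ S)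
    {α : MulAut M} (hα : α ∈ F.autGroup M) (h : ∀ x : M, (x : Ω) ∈ P → ((α x : M) : Ω) ∈ P) :
    ∃ β ∈ F.autGroup P, Rel hPM α β := by
  haveI := finite_of_le (hPM.trans hM)
  obtain ⟨β, hβ, hβe⟩ := exists_aut_of_invariant F
    (restrict_mem F ((equivHom_autGroup F hM).1 hα) hPM) fun x => h _ x.2
  exact ⟨β, hβ, fun x => Subtype.ext (hβe x).symm⟩

/-! ### The lifts -/

/-- `Z(R)` inside the ambient group. -/
def zc (R : Subgroup Ω) : Subgroup Ω := R ⊓ Subgroup.centralizer (R : Set Ω)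

/-- `R C_S(R)`. -/
def rc (S R : Subgroup Ω) : Subgroup Ω := R ⊔ centralizerIn S R

theorem le_rc (R : Subgroup Ω) : R ≤ rc S R := le_sup_left

theorem cent_le_rc (R : Subgroup Ω) : centralizerIn S R ≤ rc S R := le_sup_right

theorem rc_le {R : Subgroup Ω} (hR : R ≤ S) : rc S R ≤ S := sup_le hR (centralizerIn_le _ _)

theorem zc_le_cent {R : Subgroup Ω} (hR : R ≤ S) : zc R ≤ centralizerIn S R :=
  fun _ hz => ⟨hR hz.1, hz.2⟩

theorem zc_comm_cent {R : Subgroup Ω} {z x : Ω} (hz : z ∈ zc R) (hx : x ∈ centralizerIn S R) :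
    z * x = x * z :=
  Subgroup.mem_centralizer_iff.1 hx.2 z hz.1

/-- The automorphisms of `R C_S(R)` in the system that stabilize `R` and act trivially on `C_S(R)`
modulo `Z(R)`. -/
def IsLift (F : FusionSystem S) (R : Subgroup Ω) (h : MulAut (rc S R)) : Prop :=
  h ∈ F.autGroup (rc S R) ∧ (∀ x : rc S R, (x : Ω) ∈ R → ((h x : rc S R) : Ω) ∈ R) ∧
    ∀ x : rc S R, (x : Ω) ∈ centralizerIn S R → (x : Ω)⁻¹ * ((h x : rc S R) : Ω) ∈ zc R

theorem IsLift.cent {F : FusionSystem S} {R : Subgroup Ω} (hR : R ≤ S) {h : MulAut (rc S R)}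
    (hh : IsLift F R h) (x : rc S R) (hx : (x : Ω) ∈ centralizerIn S R) :
    ((h x : rc S R) : Ω) ∈ centralizerIn S R := by
  have := (centralizerIn S R).mul_mem hx (zc_le_cent hR (hh.2.2 x hx))
  rwa [mul_inv_cancel_left] at this

theorem IsLift.mul [Finite S] {F : FusionSystem S} {R : Subgroup Ω} (hR : R ≤ S)
    {h k : MulAut (rc S R)} (hh : IsLift F R h) (hk : IsLift F R k) : IsLift F R (h * k) := by
  refine ⟨Subgroup.mul_mem _ hh.1 hk.1, fun x hx => hh.2.1 _ (hk.2.1 x hx), fun x hx => ?_⟩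
  have h1 := hk.2.2 x hx
  have h2 := hh.2.2 _ (hk.cent hR x hx)
  have := (zc R).mul_mem h1 h2
  rwa [mul_assoc, mul_inv_cancel_left] at this

/-- The group of lifts. -/
def liftGroup [Finite S] (F : FusionSystem S) {R : Subgroup Ω} (hR : R ≤ S) :
    Subgroup (MulAut (rc S R)) where
  carrier := {h | IsLift F R h}
  one_mem' := ⟨Subgroup.one_mem _, fun x hx => hx, fun x _ => by simp [(zc R).one_mem]⟩
  mul_mem' := IsLift.mul hR
  inv_mem' := by
    intro h hh
    haveI := finite_of_le (rc_le (S := S) hR)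
    haveI : Finite (MulAut (rc S R)) := Finite.of_injective _ DFunLike.coe_injective
    have hpow : ∀ n : ℕ, IsLift F R (h ^ n) := by
      intro n
      induction n with
      | zero => exact ⟨by rw [pow_zero]; exact Subgroup.one_mem _, fun x hx => hx,
          fun x _ => by simp [(zc R).one_mem]⟩
      | succ n ih => rw [pow_succ]; exact ih.mul hR hh
    have : h⁻¹ = h ^ (orderOf h - 1) := by
      apply inv_eq_of_mul_eq_one_right
      rw [← pow_succ', Nat.sub_add_cancel (orderOf_pos h), pow_orderOf_eq_one]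
    show IsLift F R h⁻¹
    rw [this]
    exact hpow _

/-- The displacement of `x` under `h`. -/
def disp {R : Subgroup Ω} (h : MulAut (rc S R)) (x : rc S R) : Ω :=
  (x : Ω)⁻¹ * ((h x : rc S R) : Ω)

theorem disp_spec {R : Subgroup Ω} (h : MulAut (rc S R)) (x : rc S R) :
    ((h x : rc S R) : Ω) = (x : Ω) * disp h x := by rw [disp, mul_inv_cancel_left]

theorem disp_mul [Finite S] {F : FusionSystem S} {R : Subgroup Ω} {h : MulAut (rc S R)}
    (hh : IsLift F R h) {x y : rc S R} (hx : (x : Ω) ∈ centralizerIn S R)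
    (hy : (y : Ω) ∈ centralizerIn S R) : disp h (x * y) = disp h x * disp h y := by
  have h1 : disp h x * y = y * disp h x := zc_comm_cent (hh.2.2 x hx) hy
  show ((x * y : rc S R) : Ω)⁻¹ * ((h (x * y) : rc S R) : Ω) = _
  rw [map_mul, Subgroup.coe_mul, Subgroup.coe_mul, disp_spec h x, disp_spec h y]
  calc ((x : Ω) * y)⁻¹ * ((x : Ω) * disp h x * ((y : Ω) * disp h y))
      = (y : Ω)⁻¹ * (disp h x * y) * disp h y := by group
    _ = disp h x * disp h y := by rw [h1]; group

theorem disp_inv [Finite S] {F : FusionSystem S} {R : Subgroup Ω} {h : MulAut (rc S R)}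
    (hh : IsLift F R h) {x : rc S R} (hx : (x : Ω) ∈ centralizerIn S R) :
    disp h x⁻¹ = (disp h x)⁻¹ := by
  have := disp_mul hh hx (y := x⁻¹) (by simpa using (centralizerIn S R).inv_mem hx)
  rw [mul_inv_cancel] at this
  rw [eq_inv_iff_mul_eq_one]
  have h1 : disp h (1 : rc S R) = 1 := by simp [disp]
  rw [h1] at this
  exact mul_eq_one_comm.1 this.symm

theorem disp_conj [Finite S] {F : FusionSystem S} {R : Subgroup Ω} (hR : R ≤ S)
    {h : MulAut (rc S R)} (hh : IsLift F R h) {g x : rc S R} (hg : (g : Ω) ∈ centralizerIn S R)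
    (hx : (x : Ω) ∈ centralizerIn S R) : disp h (g * x * g⁻¹) = disp h x := by
  have hgx : ((g * x : rc S R) : Ω) ∈ centralizerIn S R := Subgroup.mul_mem _ hg hx
  have hc : disp h g * disp h x = disp h x * disp h g :=
    zc_comm_cent (hh.2.2 g hg) (zc_le_cent hR (hh.2.2 x hx))
  rw [disp_mul hh hgx (by simpa using (centralizerIn S R).inv_mem hg), disp_mul hh hg hx,
    disp_inv hh hg, hc]
  exact mul_inv_cancel_right _ _

/-- The elements of `Z(R)` fixed by every lift. -/
def fixedZ (F : FusionSystem S) (R : Subgroup Ω) : Subgroup Ω where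
  carrier := {z | z ∈ zc R ∧ ∀ h : MulAut (rc S R), IsLift F R h → ∀ x : rc S R, (x : Ω) = z →
    ((h x : rc S R) : Ω) = z}
  one_mem' := ⟨(zc R).one_mem, fun h _ x hx => by
    rw [show x = 1 from Subtype.ext hx, map_one]; rfl⟩
  mul_mem' := by
    rintro a b ⟨ha, ha'⟩ ⟨hb, hb'⟩
    refine ⟨(zc R).mul_mem ha hb, fun h hh x hx => ?_⟩
    rw [show x = ⟨a, le_rc R ha.1⟩ * ⟨b, le_rc R hb.1⟩ from Subtype.ext hx, map_mul,
      Subgroup.coe_mul, ha' h hh _ rfl, hb' h hh _ rfl]
  inv_mem' := by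
    rintro a ⟨ha, ha'⟩
    refine ⟨(zc R).inv_mem ha, fun h hh x hx => ?_⟩
    rw [show x = ⟨a, le_rc R ha.1⟩⁻¹ from Subtype.ext hx, map_inv, Subgroup.coe_inv, ha' h hh _ rfl]

theorem commutator_fixed [Finite S] {F : FusionSystem S} {R : Subgroup Ω} {x s : Ω}
    (hx : x ∈ centralizerIn S R) (hs : s ∈ centralizerIn S R)
    (hz : x⁻¹ * (s * x * s⁻¹) ∈ zc R) : x⁻¹ * (s * x * s⁻¹) ∈ fixedZ F R := by
  refine ⟨hz, fun h hh c hc => ?_⟩
  let X : rc S R := ⟨x, cent_le_rc R hx⟩
  let U : rc S R := ⟨s, cent_le_rc R hs⟩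
  have hcc : c = X⁻¹ * (U * X * U⁻¹) := Subtype.ext hc
  rw [hcc, map_mul, map_mul, map_mul, map_inv, map_inv]
  simp only [Subgroup.coe_mul, Subgroup.coe_inv, disp_spec h X, disp_spec h U]
  show (x * disp h X)⁻¹ * (s * disp h U * (x * disp h X) * (s * disp h U)⁻¹) = _
  have a1 : disp h U * x = x * disp h U := zc_comm_cent (hh.2.2 U hs) hx
  have a2 : disp h U * disp h X = disp h X * disp h U :=
    Subgroup.mem_centralizer_iff.1 (hh.2.2 X hx).2 _ (hh.2.2 U hs).1
  have a3 : disp h X * s⁻¹ = s⁻¹ * disp h X :=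
    zc_comm_cent (hh.2.2 X hx) ((centralizerIn S R).inv_mem hs)
  have a4 : disp h X * x = x * disp h X := zc_comm_cent (hh.2.2 X hx) hx
  have a5 : disp h X * s = s * disp h X := zc_comm_cent (hh.2.2 X hx) hs
  calc (x * disp h X)⁻¹ * (s * disp h U * (x * disp h X) * (s * disp h U)⁻¹)
      = (disp h X)⁻¹ * x⁻¹ * s * (disp h U * x) * (disp h X * (disp h U)⁻¹) * s⁻¹ := by group
    _ = (disp h X)⁻¹ * x⁻¹ * s * x * (disp h U * disp h X) * (disp h U)⁻¹ * s⁻¹ := by rw [a1]; group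
    _ = (disp h X)⁻¹ * x⁻¹ * s * x * (disp h X * s⁻¹) := by rw [a2]; group
    _ = (disp h X)⁻¹ * (x⁻¹ * (s * x * s⁻¹) * disp h X) := by rw [a3]; group
    _ = x⁻¹ * (s * x * s⁻¹) := by
      have hcomm : Commute (disp h X) (x⁻¹ * (s * x * s⁻¹)) :=
        (Commute.inv_right a4).mul_right (((show Commute _ s from a5).mul_right a4).mul_right
          (Commute.inv_right a5))
      rw [← hcomm.eq]; group

/-! ### The displacement is constant along the centralizer system, modulo the fixed points -/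

/-- `a` and `b` have the same displacements modulo the fixed points. -/
def Eqv (F : FusionSystem S) (R : Subgroup Ω) (a b : Ω) : Prop :=
  ∀ h : MulAut (rc S R), IsLift F R h → ∀ x y : rc S R, (x : Ω) = a → (y : Ω) = b →
    (disp h x)⁻¹ * disp h y ∈ fixedZ F R

/-- The maps of `C_F(R)` preserving the displacements. -/
noncomputable def eqvSystem [Finite S] (F : FusionSystem S) {R : Subgroup Ω} (hR : R ≤ S) :
    FusionSystem (centralizerIn S R) where
  Hom P := {φ | φ ∈ F.centralizerHom R P ∧ ∀ x : P, Eqv F R x (φ x)}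
  le_of_mem h := (centSystem F hR).le_of_mem h.1
  injective_of_mem h := (centSystem F hR).injective_of_mem h.1
  conj_mem := by
    intro P g hP hg
    refine ⟨(centSystem F hR).conj_mem hP hg, fun w h hh x y hx hy => ?_⟩
    rw [show y = ⟨g, cent_le_rc R hg⟩ * x * ⟨g, cent_le_rc R hg⟩⁻¹ from
      Subtype.ext (by simp [hx, hy]), disp_conj hR hh hg (hx ▸ hP w.2), inv_mul_cancel]
    exact Subgroup.one_mem _
  comp_mem := by
    rintro P Q φ ψ ⟨hφ, eφ⟩ ⟨hψ, eψ⟩ h
    refine ⟨(centSystem F hR).comp_mem hφ hψ h, fun w k hk x y hx hy => ?_⟩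
    let m : rc S R := ⟨φ w, cent_le_rc R (hφ.2.2.1 w)⟩
    have := Subgroup.mul_mem _ (eφ w k hk x m hx rfl) (eψ ⟨φ w, h w⟩ k hk m y rfl hy)
    rwa [mul_assoc, mul_inv_cancel_left] at this
  inv_mem := by
    rintro P φ ⟨hφ, eφ⟩
    obtain ⟨ψ, hψ, hψe⟩ := (centSystem F hR).inv_mem hφ
    refine ⟨ψ, ⟨hψ, fun u k hk x y hx hy => ?_⟩, hψe⟩
    obtain ⟨w, hw⟩ := u.2
    have hu : u = ⟨φ w, ⟨w, rfl⟩⟩ := Subtype.ext hw.symm
    have := Subgroup.inv_mem _ (eφ w k hk y x (by rw [hy, hu, hψe]) (hx.trans hw.symm))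
    rwa [mul_inv_rev, inv_inv] at this

variable {p : ℕ} [hp : Fact p.Prime] [Finite S]

theorem step (hS : IsPGroup p S) {F : FusionSystem S} (hF : F.IsSaturated p) {R : Subgroup Ω}
    (hR : F.IsFullyCentralized R) {P : Subgroup Ω}
    (hPn : (centSystem F hR.1).IsFullyNormalized P)
    (hPc : centralizerIn (centralizerIn S R) P ≤ P) {γ : MulAut P}
    (hγ : γ ∈ (centSystem F hR.1).autGroup P) (w : P) : Eqv F R w (γ w : P) := by
  set C := centSystem F hR.1 with hC
  have hCsat : C.IsSaturated p :=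
    centralizerSystem_saturated hS hF hR C (centSystem_spec F hR.1)
  have hCp : IsPGroup p (centralizerIn S R) := hS.to_le (centralizerIn_le _ _)
  haveI : Finite (centralizerIn S R) := finite_of_le (centralizerIn_le S R)
  have hPC := hPn.1
  have hPS : P ≤ S := hPC.trans (centralizerIn_le _ _)
  haveI := finite_of_le hPS
  intro h hh a b ha hb
  have hZP : zc R ≤ P := fun z hz => hPc ⟨zc_le_cent hR.1 hz,
    Subgroup.mem_centralizer_iff.2 fun u hu => (zc_comm_cent hz (hPC hu)).symm⟩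
  -- every automorphism of `P` in `C` fixes `Z(R)`
  have fixZ : ∀ δ ∈ C.autGroup P, ∀ z : P, (z : Ω) ∈ zc R → δ z = z := by
    intro δ hδ z hz
    obtain ⟨-, -, -, ψ, hψ, e1, e2⟩ := (equivHom_autGroup C hPC).1 hδ
    refine Subtype.ext ((e1 z).symm.trans ?_)
    rw [show Subgroup.inclusion le_sup_left z
      = Subgroup.inclusion le_sup_right (⟨z, hz.1⟩ : R) from Subtype.ext rfl]
    exact e2 _
  -- the automorphisms of `P R`
  set M := P ⊔ R with hMdef
  have hMS : M ≤ S := sup_le hPS hR.1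
  haveI := finite_of_le hMS
  have hMQ : M ≤ rc S R := sup_le (hPC.trans (cent_le_rc R)) (le_rc R)
  have hhP : ∀ x : rc S R, (x : Ω) ∈ P → ((h x : rc S R) : Ω) ∈ P := fun x hx => by
    rw [disp_spec h x]
    exact P.mul_mem hx (hZP (hh.2.2 x (hPC hx)))
  obtain ⟨A, hA, hAe⟩ := exists_rel F hMQ (rc_le hR.1) hh.1 fun x hx =>
    apply_mem_of_sup (((rc S R).subtype.comp h.toMonoidHom).comp (Subgroup.inclusion hMQ))
      (R := M) (fun u => Subgroup.mem_sup_left (hhP _ u.2))
      (fun u => Subgroup.mem_sup_right (hh.2.1 _ u.2)) ⟨x, hx⟩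
  obtain ⟨-, -, -, ψ, hψ, e1, e2⟩ := (equivHom_autGroup C hPC).1 hγ
  obtain ⟨B, hB, hBe⟩ := exists_aut_of_invariant F hψ fun x => apply_mem_of_sup ψ
    (fun u => by rw [e1 u]; exact Subgroup.mem_sup_left (γ u).2)
    (fun u => by rw [e2 u]; exact Subgroup.mem_sup_right u.2) x
  obtain ⟨aP, haP, hAP⟩ := exists_rel F (le_sup_left : P ≤ M) hMS hA fun x hx => by
    have := hhP (Subgroup.inclusion hMQ x) hx
    rw [hAe x] at this
    exact this
  obtain ⟨aR, -, hAR⟩ := exists_rel F (le_sup_right : R ≤ M) hMS hA fun x hx => by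
    have := hh.2.1 (Subgroup.inclusion hMQ x) hx
    rw [hAe x] at this
    exact this
  have hBP : Rel (le_sup_left : P ≤ M) B γ := fun x => Subtype.ext ((hBe _).trans (e1 x))
  have hBR : Rel (le_sup_right : R ≤ M) B 1 := fun x => Subtype.ext ((hBe _).trans (e2 x))
  have hBAP := ((hBP.mul hAP).mul hBP.inv).mul hAP.inv
  have hBAR := ((hBR.mul hAR).mul hBR.inv).mul hAR.inv
  set u := γ * aP * γ⁻¹ * aP⁻¹ with hu
  have huC : u ∈ C.autGroup P := by
    refine (equivHom_autGroup C hPC).2 ⟨?_, hPC, fun x => hPC (u x).2, _,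
      (equivHom_autGroup F hMS).1 (Subgroup.mul_mem _ (Subgroup.mul_mem _ (Subgroup.mul_mem _ hB hA)
        (Subgroup.inv_mem _ hB)) (Subgroup.inv_mem _ hA)), fun x => hBAP.apply x, fun x => ?_⟩
    · have hγF : γ ∈ F.autGroup P := autGroup_mono (E := C) (F := F) (fun Q φ (hφ : φ ∈ F.centralizerHom R Q) => hφ.1) P hγ
      exact (equivHom_autGroup F hPS).1 (Subgroup.mul_mem _ (Subgroup.mul_mem _
        (Subgroup.mul_mem _ hγF haP) (Subgroup.inv_mem _ hγF)) (Subgroup.inv_mem _ haP))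
    · refine (hBAR.apply x).trans ?_
      simp
  -- the automorphisms trivial modulo `Z(R)`
  let W : Subgroup (C.autGroup P) :=
    { carrier := {δ | ∀ x : P, (x : Ω)⁻¹ * (((δ : MulAut P) x : P) : Ω) ∈ zc R}
      one_mem' := fun x => by simp [(zc R).one_mem]
      mul_mem' := fun {δ ε} hδ hε x => by
        have h1 := hε x
        have h2 := hδ ((ε : MulAut P) x)
        have := (zc R).mul_mem h1 h2
        rwa [mul_assoc, mul_inv_cancel_left] at this
      inv_mem' := fun {δ} hδ x => by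
        have h1 := (zc R).inv_mem (hδ ((δ : MulAut P)⁻¹ x))
        rw [show (δ : MulAut P) ((δ : MulAut P)⁻¹ x) = x from (δ : MulAut P).apply_symm_apply x,
          mul_inv_rev, inv_inv] at h1
        exact h1 }
  have hWn : W.Normal := ⟨fun δ hδ ε x => by
    set y := (ε : MulAut P)⁻¹ x with hy
    have hεy : (ε : MulAut P) y = x := (ε : MulAut P).apply_symm_apply x
    have hz := hδ y
    let z : P := y⁻¹ * (δ : MulAut P) y
    have hzz : (z : Ω) ∈ zc R := hz
    have : ((ε * δ * ε⁻¹ : C.autGroup P) : MulAut P) x = x * z := by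
      show (ε : MulAut P) ((δ : MulAut P) y) = _
      rw [show (δ : MulAut P) y = y * z from (mul_inv_cancel_left _ _).symm, map_mul, hεy,
        fixZ _ ε.2 z hzz]
    rw [this, Subgroup.coe_mul, inv_mul_cancel_left]
    exact hzz⟩
  have hWp : IsPGroup p W := by
    intro δ
    obtain ⟨m, hm⟩ := IsPGroup.iff_card.1 hS
    refine ⟨m, Subtype.ext (Subtype.ext (MulEquiv.ext fun x => ?_))⟩
    let z : P := x⁻¹ * ((δ : C.autGroup P) : MulAut P) x
    have hzz : (z : Ω) ∈ zc R := δ.2 x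
    have key : ∀ n : ℕ, ((((δ : W) : C.autGroup P) : MulAut P) ^ n) x = x * z ^ n := by
      intro n
      induction n with
      | zero => simp
      | succ n ih =>
        rw [pow_succ', MulAut.mul_apply, ih, map_mul, map_pow, fixZ _ (δ : C.autGroup P).2 z hzz,
          pow_succ', ← mul_assoc]
        rw [show x * z = ((δ : C.autGroup P) : MulAut P) x from mul_inv_cancel_left _ _]
    rw [SubgroupClass.coe_pow, SubgroupClass.coe_pow, key]
    have hz1 : z ^ p ^ m = 1 := by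
      have e := congrArg Subtype.val (pow_card_eq_one' (x := (⟨z, hPS z.2⟩ : S)))
      rw [SubgroupClass.coe_pow, hm] at e
      refine Subtype.ext ?_
      rw [SubgroupClass.coe_pow]
      exact e
    rw [hz1, mul_one]
    rfl
  have huW : (⟨u, huC⟩ : C.autGroup P) ∈ W := by
    intro x
    have haZ : ∀ y : P, (y : Ω)⁻¹ * ((aP y : P) : Ω) ∈ zc R := fun y => by
      rw [← hAP.apply y, ← hAe.apply ⟨y, _⟩]
      exact hh.2.2 ⟨(y : Ω), hMQ (Subgroup.mem_sup_left y.2)⟩ (hPC y.2)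
    set y := aP⁻¹ x with hy
    have hay : aP y = x := aP.apply_symm_apply x
    set v := γ⁻¹ y with hv
    have hgv : γ v = y := γ.apply_symm_apply y
    show (x : Ω)⁻¹ * ((γ (aP v) : P) : Ω) ∈ zc R
    let z : P := v⁻¹ * aP v
    have hzz : (z : Ω) ∈ zc R := haZ v
    rw [show aP v = v * z from (mul_inv_cancel_left _ _).symm, map_mul, hgv, fixZ _ hγ z hzz,
      Subgroup.coe_mul, ← mul_assoc]
    refine Subgroup.mul_mem _ ?_ hzz
    have := (zc R).inv_mem (haZ y)
    rwa [mul_inv_rev, inv_inv, hay] at this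
  obtain ⟨Sy, hSy⟩ := (fullyNormalized_imp hCp hCsat hPn).2.2
  have hWS : W ≤ (Sy : Subgroup (C.autGroup P)) :=
    (Cfsg.Agent.PBasic.le_pCore hWn hWp).trans (Cfsg.Agent.PBasic.pCore_le_sylow Sy)
  have huS := hWS huW
  rw [hSy, Subgroup.mem_subgroupOf] at huS
  obtain ⟨s, hs, hse⟩ := (mem_autInducedBy_iff _).1 huS
  -- evaluate at `aP (γ w)`
  set x := γ w with hxdef
  have e : u (aP x) = γ (aP w) := by
    show γ (aP (γ⁻¹ (aP⁻¹ (aP x)))) = _
    rw [show aP⁻¹ (aP x) = x from aP.symm_apply_apply x, hxdef,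
      show γ⁻¹ (γ w) = w from γ.symm_apply_apply w]
  have dw : (aP w : Ω) = w * disp h a := by
    rw [← hAP.apply w, ← hAe.apply ⟨w, _⟩]
    rw [show (⟨w, _⟩ : rc S R) = a from Subtype.ext ha.symm, disp_spec h a, ha]
  have dx : (aP x : Ω) = x * disp h b := by
    rw [← hAP.apply x, ← hAe.apply ⟨x, _⟩]
    rw [show (⟨x, _⟩ : rc S R) = b from Subtype.ext hb.symm, disp_spec h b, hb]
  have hga : ((γ (aP w) : P) : Ω) = x * disp h a := by
    have hz : disp h a ∈ zc R := hh.2.2 a (ha ▸ hPC w.2)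
    rw [show aP w = w * ⟨disp h a, hZP hz⟩ from Subtype.ext dw, map_mul, fixZ _ hγ ⟨disp h a, hZP hz⟩ hz,
      Subgroup.coe_mul]
  have hcomm : ((aP x : P) : Ω)⁻¹ * (s * (aP x : P) * s⁻¹) = (disp h b)⁻¹ * disp h a := by
    rw [← hse (aP x)]
    show _ * ((u (aP x) : P) : Ω) = _
    rw [e, hga, dx]
    group
  have hf : (disp h b)⁻¹ * disp h a ∈ fixedZ F R := by
    rw [← hcomm]
    refine commutator_fixed (hPC (aP x).2) hs ?_
    rw [hcomm]
    exact (zc R).mul_mem ((zc R).inv_mem (hh.2.2 b (hb ▸ hPC x.2))) (hh.2.2 a (ha ▸ hPC w.2))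
  have := Subgroup.inv_mem _ hf
  rwa [mul_inv_rev, inv_inv] at this

/-- The displacement of `w` and of its image under a map of `C_F(R)` agree modulo fixed points. -/
theorem eqv_of_centralizerHom (hS : IsPGroup p S) {F : FusionSystem S} (hF : F.IsSaturated p)
    {R : Subgroup Ω} (hR : F.IsFullyCentralized R) {P : Subgroup Ω} {φ : P →* Ω}
    (hφ : φ ∈ F.centralizerHom R P) (w : P) : Eqv F R w (φ w) := by
  haveI : Finite (centralizerIn S R) := finite_of_le (centralizerIn_le S R)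
  have hCsat := centralizerSystem_saturated hS hF hR _ (centSystem_spec F hR.1)
  have key : centSystem F hR.1 ≤ eqvSystem F hR.1 := by
    refine alperin_centric_radical (hS.to_le (centralizerIn_le _ _)) hCsat fun X hX => ?_
    have hXfull : (centSystem F hR.1).IsFullyNormalized X ∧
        centralizerIn (centralizerIn S R) X ≤ X := by
      rcases hX with rfl | ⟨hc, -, hn⟩
      · haveI : Finite (normalizerIn (centralizerIn S R) (centralizerIn S R)) :=
          finite_of_le (normalizerIn_le _ _)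
        exact ⟨⟨le_rfl, fun Q _ => Subgroup.card_le_of_le ((normalizerIn_le _ _).trans
          (le_normalizerIn le_rfl))⟩, inf_le_left⟩
      · exact ⟨hn, centralizerIn_le_of_centric hc⟩
    intro γ hγ
    exact (equivHom_autGroup _ hXfull.1.1).2
      ⟨(equivHom_autGroup _ hXfull.1.1).1 hγ, step hS hF hR hXfull.1 hXfull.2 hγ⟩
  exact (key P hφ).2 w

/-! ### Lifts fixing the generator -/

theorem exists_restriction (F : FusionSystem S) {R : Subgroup Ω} (hR : R ≤ S) :
    ∃ ρ : liftGroup F hR →* MulAut R, ∀ h : liftGroup F hR,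
      Rel (le_rc R) (h : MulAut (rc S R)) (ρ h) := by
  choose ρ hρm hρ using fun h : liftGroup F hR =>
    exists_rel F (le_rc R) (rc_le hR) h.2.1 h.2.2.1
  refine ⟨MonoidHom.mk' ρ fun h k => MulEquiv.ext fun x => Subgroup.inclusion_injective (le_rc (S := S) R) ?_, hρ⟩
  rw [← hρ (h * k) x]
  exact ((hρ h).mul (hρ k)) x

/-- Every liftable automorphism has a lift fixing `y`. -/
theorem exists_fixing_lift (hS : IsPGroup p S) {F : FusionSystem S} {R : Subgroup Ω} (hR : R ≤ S)
    {y : rc S R} (hyf : ∀ h : MulAut (rc S R), IsLift F R h → disp h y ∈ fixedZ F R)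
    {A V : Subgroup (MulAut R)} (hVA : V ≤ A) (hV : ¬ p ∣ V.relIndex A)
    (hA : ∀ α ∈ A, ∃ h, IsLift F R h ∧ Rel (le_rc R) h α)
    (hVfix : ∀ v ∈ V, ∃ h, IsLift F R h ∧ Rel (le_rc R) h v ∧ h y = y) :
    ∀ α ∈ A, ∃ h, IsLift F R h ∧ Rel (le_rc R) h α ∧ h y = y := by
  haveI := finite_of_le (rc_le (S := S) hR)
  haveI := finite_of_le hR
  haveI : Finite (MulAut (rc S R)) := Finite.of_injective _ DFunLike.coe_injective
  obtain ⟨ρ, hρ⟩ := exists_restriction F hR
  have huniq : ∀ (h : liftGroup F hR) (α : MulAut R), Rel (le_rc R) (h : MulAut (rc S R)) α →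
      ρ h = α := fun h α hα => MulEquiv.ext fun x =>
    Subgroup.inclusion_injective (le_rc R) (((hρ h) x).symm.trans (hα x))
  let H := A.comap ρ
  let f : H →* fixedZ F R := MonoidHom.mk'
    (fun h => ⟨disp ((h : liftGroup F hR) : MulAut (rc S R)) y, hyf _ (h : liftGroup F hR).2⟩)
    fun h k => Subtype.ext (by
      let z : fixedZ F R := ⟨disp ((k : liftGroup F hR) : MulAut (rc S R)) y, hyf _ (k : liftGroup F hR).2⟩
      show (y : Ω)⁻¹ * ((((h : liftGroup F hR) : MulAut (rc S R)) * ((k : liftGroup F hR) : MulAut (rc S R))) y : rc S R)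
        = disp ((h : liftGroup F hR) : MulAut (rc S R)) y * z
      rw [MulAut.mul_apply,
        show ((k : liftGroup F hR) : MulAut (rc S R)) y = y * ⟨z, le_rc R z.2.1.1⟩ from
          Subtype.ext (disp_spec _ y), map_mul, Subgroup.coe_mul,
        z.2.2 _ (h : liftGroup F hR).2 ⟨z, le_rc R z.2.1.1⟩ rfl, ← mul_assoc]
      rfl)
  let r : H →* A := (ρ.comp H.subtype).codRestrict A fun h => h.2
  have hr : Function.Surjective r := fun α => by
    obtain ⟨h, hh, hhα⟩ := hA α α.2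
    refine ⟨⟨⟨h, hh⟩, ?_⟩, Subtype.ext (huniq ⟨h, hh⟩ α hhα)⟩
    show ρ ⟨h, hh⟩ ∈ A
    rw [huniq ⟨h, hh⟩ α hhα]
    exact α.2
  set J := f.ker.map r with hJ
  have hVJ : V.subgroupOf A ≤ J := by
    intro v hv
    obtain ⟨h, hh, hhv, hhy⟩ := hVfix v hv
    have hρv := huniq ⟨h, hh⟩ v hhv
    refine ⟨⟨⟨h, hh⟩, show ρ ⟨h, hh⟩ ∈ A by rw [hρv]; exact v.2⟩, ?_, Subtype.ext hρv⟩
    refine Subtype.ext ?_
    show (y : Ω)⁻¹ * ((h y : rc S R) : Ω) = 1
    rw [hhy, inv_mul_cancel]
  have h1 : J.index ∣ f.ker.index := Subgroup.index_map_dvd _ hr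
  haveI : Finite (fixedZ F R) := finite_of_le (S := S) fun z (hz : z ∈ fixedZ F R) => hR hz.1.1
  obtain ⟨m, hm⟩ : ∃ m, Nat.card f.range = p ^ m :=
    IsPGroup.iff_card.1 ((hS.to_le (fun z (hz : z ∈ fixedZ F R) => hR hz.1.1)).to_subgroup _)
  rw [Subgroup.index_ker, hm] at h1
  have h2 : J.index ∣ (V.subgroupOf A).index := Subgroup.index_dvd_of_le hVJ
  have h3 : J = ⊤ := by
    rw [← Subgroup.index_eq_one]
    obtain ⟨i, -, hi⟩ := (Nat.dvd_prime_pow hp.out).1 h1
    rcases Nat.eq_zero_or_pos i with h0 | h0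
    · rw [hi, h0, pow_zero]
    · exact absurd ((dvd_pow_self p h0.ne').trans (hi ▸ h2)) hV
  intro α hα
  obtain ⟨h, hhf, hhα⟩ := (h3.ge (Subgroup.mem_top (⟨α, hα⟩ : A)))
  refine ⟨_, (h : liftGroup F hR).2, ?_, Subtype.ext ?_⟩
  · have : ρ h = α := congrArg Subtype.val hhα
    rw [← this]
    exact hρ h
  · have hd : disp ((h : liftGroup F hR) : MulAut (rc S R)) y = 1 := congrArg Subtype.val hhf
    rw [disp_spec _ y, hd, mul_one]

end Cfsg.Agent.FusionSys.FocCent
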