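import Cfsg.Agent.Lib.Fusion.FocCentralizer

/-!
# `foc(C_F(T)) ≤ C_S(E)` for a normal subsystem `E` over `T`
-/

set_option autoImplicit false
set_option linter.unusedSectionVars false
set_option linter.style.haveILetI false

namespace Cfsg.Agent.FusionSys.FocCent

open Cfsg Cfsg.FusionSystem Cfsg.Agent.FusionSys

variable {Ω : Type*} [Group Ω] {S T : Subgroup Ω}

theorem rel_zc {M R : Subgroup Ω} {h : R ≤ M} {a : MulAut M} {β : MulAut R} (hr : Rel h a β)
    (z : M) (hz : (z : Ω) ∈ zc R) : ((a z : M) : Ω) ∈ zc R := by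
  have e : ((a z : M) : Ω) = (β ⟨z, hz.1⟩ : R) := hr.apply ⟨z, hz.1⟩
  rw [e]
  refine ⟨(β _).2, Subgroup.mem_centralizer_iff.2 fun r hr' => ?_⟩
  have := Subgroup.mem_centralizer_iff.1 hz.2 _ (β⁻¹ ⟨r, hr'⟩).2
  have h2 := congrArg β (Subtype.ext this : β⁻¹ ⟨r, hr'⟩ * (⟨z, hz.1⟩ : R) = ⟨z, hz.1⟩ * β⁻¹ ⟨r, hr'⟩)
  rw [map_mul, map_mul, show β (β⁻¹ ⟨r, hr'⟩) = ⟨r, hr'⟩ from β.apply_symm_apply _] at h2
  exact congrArg Subtype.val h2

theorem rel_cent {R : Subgroup Ω} {a : MulAut (rc S R)} {β : MulAut R} (hr : Rel (le_rc R) a β)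
    (x : rc S R) (hx : (x : Ω) ∈ centralizerIn S R) (hS : ((a x : rc S R) : Ω) ∈ S) :
    ((a x : rc S R) : Ω) ∈ centralizerIn S R := by
  refine ⟨hS, Subgroup.mem_centralizer_iff.2 fun r hr' => ?_⟩
  have e : r = ((a ⟨(β⁻¹ ⟨r, hr'⟩ : R), le_rc R (β⁻¹ ⟨r, hr'⟩).2⟩ : rc S R) : Ω) := by
    rw [hr.apply, show β (β⁻¹ ⟨r, hr'⟩) = ⟨r, hr'⟩ from β.apply_symm_apply _]
  rw [e, ← Subgroup.coe_mul, ← Subgroup.coe_mul, ← map_mul, ← map_mul]
  exact congrArg (fun u : rc S R => ((a u : rc S R) : Ω))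
    (Subtype.ext (Subgroup.mem_centralizer_iff.1 hx.2 _ (β⁻¹ ⟨r, hr'⟩).2))

variable [Finite S] {p : ℕ} [hp : Fact p.Prime]

theorem IsLift.conj {F : FusionSystem S} {R : Subgroup Ω} (hR : R ≤ S)
    {a h : MulAut (rc S R)} {β : MulAut R} (ha : a ∈ F.autGroup (rc S R)) (hr : Rel (le_rc R) a β)
    (hh : IsLift F R h) : IsLift F R (a * h * a⁻¹) := by
  refine ⟨Subgroup.mul_mem _ (Subgroup.mul_mem _ ha hh.1) (Subgroup.inv_mem _ ha), fun x hx => ?_,
    fun x hx => ?_⟩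
  · have h1 : ((a⁻¹ x : rc S R) : Ω) ∈ R := by
      rw [show x = ⟨((⟨x, hx⟩ : R) : Ω), le_rc R hx⟩ from Subtype.ext rfl, hr.inv.apply ⟨x, hx⟩]
      exact (β⁻¹ _).2
    have h2 := hh.2.1 _ h1
    show ((a (h (a⁻¹ x)) : rc S R) : Ω) ∈ R
    rw [show h (a⁻¹ x) = ⟨((⟨_, h2⟩ : R) : Ω), le_rc R h2⟩ from Subtype.ext rfl, hr.apply ⟨_, h2⟩]
    exact (β _).2
  · set y := a⁻¹ x with hy
    have hay : a y = x := a.apply_symm_apply x
    have hyC := rel_cent hr.inv x hx (rc_le hR (a⁻¹ x).2)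
    let z : rc S R := y⁻¹ * h y
    show (x : Ω)⁻¹ * ((a (h y) : rc S R) : Ω) ∈ zc R
    rw [show h y = y * z from (mul_inv_cancel_left _ _).symm, map_mul, hay, Subgroup.coe_mul,
      inv_mul_cancel_left]
    exact rel_zc hr z (hh.2.2 y hyC)

/-- The maps of `E` whose extension fixing `y` lies in `F`. -/
noncomputable def fixSystem (E : FusionSystem T) (F : FusionSystem S) {y : Ω} (hy : y ∈ S)
    (hT : T ≤ centralizerIn S (Subgroup.zpowers y)) : FusionSystem T where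
  Hom P := {φ | φ ∈ E.Hom P ∧ φ ∈ F.centralizerHom (Subgroup.zpowers y) P}
  le_of_mem h := E.le_of_mem h.1
  injective_of_mem h := E.injective_of_mem h.1
  conj_mem hP hg := ⟨E.conj_mem hP hg,
    (centSystem F (Subgroup.zpowers_le.2 hy)).conj_mem (hP.trans hT) (hT hg)⟩
  comp_mem h1 h2 h := ⟨E.comp_mem h1.1 h2.1 h,
    (centSystem F (Subgroup.zpowers_le.2 hy)).comp_mem h1.2 h2.2 h⟩
  inv_mem := by
    intro P φ h
    obtain ⟨ψ, hψ, he⟩ := E.inv_mem h.1
    obtain ⟨ψ', hψ', he'⟩ := (centSystem F (Subgroup.zpowers_le.2 hy)).inv_mem h.2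
    refine ⟨ψ, ⟨hψ, hom_congr (centSystem F (Subgroup.zpowers_le.2 hy)) hψ' ?_⟩, he⟩
    rintro ⟨-, x, rfl⟩
    exact (he x).trans (he' x).symm

/-- The subgroup of `Aut_E(R)` shown to consist of maps fixing `y`. -/
theorem exists_good_subgroup (hS : IsPGroup p S) {F : FusionSystem S} (hF : F.IsSaturated p)
    (hTc : F.StronglyClosed T) {E : FusionSystem T} (hEF : E.IsSubsystemOf F)
    {R R' : Subgroup Ω} (hRT : R ≤ T) (hsyl : IsSyl p (autInducedBy T R) (E.autGroup R))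
    {φ : ↥(normalizerIn S R) →* Ω} (hφ : φ ∈ F.Hom (normalizerIn S R))
    (hφR : (R.subgroupOf (normalizerIn S R)).map φ = R') (hR' : F.IsFullyCentralized R')
    (hRc : T ⊓ Subgroup.centralizer (R' : Set Ω) ≤ R')
    {P : Subgroup Ω} {γ : P →* Ω} (hγ : γ ∈ F.centralizerHom T P) (w : P)
    {y : Ω} (hy : y = (w : Ω)⁻¹ * γ w)
    (e : R ≃* R') (he : ∀ (r : R) (hr : (r : Ω) ∈ normalizerIn S R), ((e r : R') : Ω) = φ ⟨r, hr⟩) :
    ∃ L : Subgroup (MulAut R), autInducedBy T R ≤ L ∧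
      (∀ α ∈ L, α ∈ E.autGroup R ∧ R.subtype.comp α.toMonoidHom ∈ F.centralizerHom (Subgroup.zpowers y) R) ∧
      (∀ a ∈ E.autGroup R, ∀ l ∈ L, a * l * a⁻¹ ∈ L) ∧
      ∀ α ∈ E.autGroup R, (∃ h, IsLift F R' h ∧ Rel (le_rc R') h (MulAut.congr e α)) → α ∈ L := by
  have hTS := hTc.1
  have hRS : R ≤ S := hRT.trans hTS
  have hR'S := hR'.1
  have hRN : R ≤ (normalizerIn S R) := le_normalizerIn hRS
  have hres : (φ.comp (Subgroup.inclusion hRN)).range = R' := extend_restrict_range hRN hφR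
  haveI := finite_of_le hRS
  haveI := finite_of_le hR'S
  haveI := finite_of_le (rc_le (S := S) hR'S)
  have heF : R'.subtype.comp e.toMonoidHom ∈ F.Hom R :=
    hom_congr F (restrict_mem F hφ hRN) fun r => he r (hRN r.2)
  have heF' : R.subtype.comp e.symm.toMonoidHom ∈ F.Hom R' := by
    have h := mapEquiv_symm_mem F heF (show (R'.subtype.comp e.toMonoidHom).range = R' by
      ext z
      exact ⟨by rintro ⟨r, rfl⟩; exact (e r).2, fun hz => ⟨e.symm ⟨z, hz⟩, by simp⟩⟩)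
    have heq : mapEquiv F heF (show (R'.subtype.comp e.toMonoidHom).range = R' by
      ext z
      exact ⟨by rintro ⟨r, rfl⟩; exact (e r).2, fun hz => ⟨e.symm ⟨z, hz⟩, by simp⟩⟩) = e :=
      MulEquiv.ext fun r => Subtype.ext rfl
    rwa [heq] at h
  -- the transported element
  have hcentN : centralizerIn S T ≤ (normalizerIn S R) := fun x hx =>
    centralizerIn_le_normalizerIn S R ⟨hx.1, Subgroup.centralizer_le hRT hx.2⟩
  obtain ⟨-, hPT, hγT, ψ, hψ, ψ1, ψ2⟩ := hγ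
  have hcy : y ∈ centralizerIn S T := by
    rw [hy]; exact Subgroup.mul_mem _ (Subgroup.inv_mem _ (hPT w.2)) (hγT w)
  have hwN : (w : Ω) ∈ (normalizerIn S R) := hcentN (hPT w.2)
  have hxN : γ w ∈ (normalizerIn S R) := hcentN (hγT w)
  have hyN : y ∈ (normalizerIn S R) := hcentN hcy
  set y' := φ ⟨y, hyN⟩ with hy'def
  have hcentR : ∀ (u : Ω) (hu : u ∈ (normalizerIn S R)), u ∈ Subgroup.centralizer (R : Set Ω) →
      φ ⟨u, hu⟩ ∈ centralizerIn S R' := fun u hu h =>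
    ⟨hom_apply_mem F hφ _, apply_mem_centralizer φ hRN hres _ h⟩
  have hy'C : y' ∈ centralizerIn S R' := hcentR y hyN (Subgroup.centralizer_le hRT hcy.2)
  -- the map carried along `φ`
  set P' := (φ.comp (Subgroup.inclusion (hPT.trans hcentN))).range with hP'def
  have hMN : P ⊔ R ≤ (normalizerIn S R) := sup_le (hPT.trans hcentN) hRN
  have hMT : P ⊔ R ≤ P ⊔ T := sup_le le_sup_left (hRT.trans le_sup_right)
  set φM := φ.comp (Subgroup.inclusion hMN) with hφMdef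
  obtain ⟨χ, hχ, hχr, hχ1, -⟩ := exists_inv F (restrict_mem F hφ hMN)
  have hψN : ∀ u, ψ (Subgroup.inclusion hMT u) ∈ (normalizerIn S R) := apply_mem_of_sup
    (ψ.comp (Subgroup.inclusion hMT)) (fun u => hcentN (by
      show ψ _ ∈ _
      rw [show Subgroup.inclusion hMT (Subgroup.inclusion le_sup_left u)
        = Subgroup.inclusion le_sup_left u from rfl, ψ1]
      exact hγT u))
    fun u => by
      show ψ _ ∈ _
      rw [show Subgroup.inclusion hMT (Subgroup.inclusion le_sup_right u)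
        = Subgroup.inclusion le_sup_right (Subgroup.inclusion hRT u) from rfl, ψ2]
      exact hRN u.2
  obtain ⟨θ₁, hθ₁, hθ₁e⟩ := comp_hom_mem F (restrict_mem F hψ hMT) hφ hψN
  obtain ⟨θ, hθ, hθe⟩ := comp_hom_mem F hχ hθ₁ fun u => hχr.le ⟨u, rfl⟩
  have hP'M : P' ≤ φM.range := by
    rintro _ ⟨u, rfl⟩; exact ⟨⟨u, Subgroup.mem_sup_left u.2⟩, rfl⟩
  have hR'M : R' ≤ φM.range := fun r hr => by
    obtain ⟨u, rfl⟩ := hres.ge hr
    exact ⟨⟨u, Subgroup.mem_sup_right u.2⟩, rfl⟩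
  have hθv : ∀ (u : Ω) (hu : u ∈ P ⊔ R) (h : φ ⟨u, hMN hu⟩ ∈ φM.range),
      θ ⟨φ ⟨u, hMN hu⟩, h⟩ = φ ⟨ψ ⟨u, hMT hu⟩, hψN ⟨u, hu⟩⟩ := by
    intro u hu h
    rw [hθe, hθ₁e]
    refine congrArg φ (Subtype.ext (congrArg ψ (Subtype.ext ?_)))
    exact hχ1 ⟨u, hu⟩ h
  have θapp : ∀ (u : Ω) (hu : u ∈ P ⊔ R) (z : φM.range), (z : Ω) = φ ⟨u, hMN hu⟩ →
      θ z = φ ⟨ψ ⟨u, hMT hu⟩, hψN ⟨u, hu⟩⟩ := fun u hu z hz => by
    obtain ⟨z, hzm⟩ := z
    change z = _ at hz
    subst hz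
    exact hθv u hu hzm
  have hγ' : θ.comp (Subgroup.inclusion hP'M) ∈ F.centralizerHom R' P' := by
    refine ⟨restrict_mem F hθ hP'M, ?_, ?_, θ.comp (Subgroup.inclusion (sup_le hP'M hR'M)),
      restrict_mem F hθ _, fun u => rfl, ?_⟩
    · rintro _ ⟨u, rfl⟩
      exact hcentR u _ (Subgroup.centralizer_le hRT (hPT u.2).2)
    · rintro ⟨_, u, rfl⟩
      show θ _ ∈ _
      rw [θapp u (Subgroup.mem_sup_left u.2) _ rfl]
      refine hcentR _ _ (Subgroup.centralizer_le hRT ?_)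
      rw [show ψ ⟨(u : Ω), _⟩ = γ u from ψ1 u]
      exact (hγT u).2
    · rintro ⟨r, hr⟩
      obtain ⟨u, rfl⟩ := hres.ge hr
      show θ _ = _
      rw [θapp u (Subgroup.mem_sup_right u.2) _ rfl]
      refine congrArg φ (Subtype.ext ?_)
      exact ψ2 ⟨u, hRT u.2⟩
  have hdisp : ∀ h : MulAut (rc S R'), IsLift F R' h →
      disp h ⟨y', cent_le_rc R' hy'C⟩ ∈ fixedZ F R' := by
    intro h hh
    have hw' : φ ⟨w, hwN⟩ ∈ centralizerIn S R' := hcentR w hwN (Subgroup.centralizer_le hRT (hPT w.2).2)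
    have hx' : φ ⟨γ w, hxN⟩ ∈ centralizerIn S R' := hcentR _ hxN (Subgroup.centralizer_le hRT (hγT w).2)
    have hyeq : (⟨y', cent_le_rc R' hy'C⟩ : rc S R') =
        ⟨φ ⟨w, hwN⟩, cent_le_rc R' hw'⟩⁻¹ * ⟨φ ⟨γ w, hxN⟩, cent_le_rc R' hx'⟩ := by
      refine Subtype.ext ?_
      show φ _ = (φ _)⁻¹ * φ _
      rw [← map_inv, ← map_mul]
      exact congrArg φ (Subtype.ext hy)
    rw [hyeq, disp_mul hh (by simpa using (centralizerIn S R').inv_mem hw') hx', disp_inv hh hw']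
    refine eqv_of_centralizerHom hS hF hR' hγ' ⟨φ ⟨w, hwN⟩, w, rfl⟩ h hh _ _ rfl ?_
    show φ ⟨γ w, hxN⟩ = θ _
    rw [θapp w (Subgroup.mem_sup_left w.2) _ rfl]
    exact congrArg φ (Subtype.ext (ψ1 w).symm)
  -- the liftable automorphisms
  obtain ⟨ρ, hρ⟩ := exists_restriction F hR'S
  set L := E.autGroup R ⊓ ρ.range.comap (MulAut.congr e).toMonoidHom with hLdef
  have hmem : ∀ α ∈ E.autGroup R, (∃ h, IsLift F R' h ∧ Rel (le_rc R') h (MulAut.congr e α)) → α ∈ L := by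
    rintro α hα ⟨h, hh, hhα⟩
    refine ⟨hα, ⟨h, hh⟩, ?_⟩
    exact MulEquiv.ext fun x => Subgroup.inclusion_injective (le_rc (S := S) R')
      ((hρ ⟨h, hh⟩ x).symm.trans (hhα x))
  have hlift : ∀ α ∈ L, ∃ h, IsLift F R' h ∧ Rel (le_rc R') h (MulAut.congr e α) := by
    rintro α ⟨-, h, hh⟩
    exact ⟨h, h.2, (show ρ h = MulAut.congr e α from hh) ▸ hρ h⟩
  -- the automorphisms induced by `T` lift
  have hVfix : ∀ v ∈ autInducedBy T R, ∃ h, IsLift F R' h ∧ Rel (le_rc R') h (MulAut.congr e v) ∧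
      h ⟨y', cent_le_rc R' hy'C⟩ = ⟨y', cent_le_rc R' hy'C⟩ := by
    intro v hv
    obtain ⟨t, htT, htv⟩ := (mem_autInducedBy_iff _).1 hv
    have htN : t ∈ (normalizerIn S R) := ⟨hTS htT, mem_normalizer_of_autInduced htv⟩
    set t' := φ ⟨t, htN⟩ with ht'def
    have ht'S : t' ∈ S := hom_apply_mem F hφ _
    have ht'T : t' ∈ T := stronglyClosed_apply_mem hTc hφ _ htT
    have ht'R : t' ∈ Subgroup.normalizer (R' : Set Ω) := apply_mem_normalizer φ hRN hres _ htN.2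
    have ht'C : ∀ x ∈ centralizerIn S R', t' * x * t'⁻¹ ∈ centralizerIn S R' := fun x hx =>
      ⟨S.mul_mem (S.mul_mem ht'S hx.1) (S.inv_mem ht'S), Subgroup.mem_centralizer_iff.2 fun r hr => by
        have hr' : t'⁻¹ * r * t' ∈ R' := by
          simpa using (Subgroup.mem_normalizer_iff.1 (Subgroup.inv_mem _ ht'R) r).1 hr
        have hc := Subgroup.mem_centralizer_iff.1 hx.2 _ hr'
        calc r * (t' * x * t'⁻¹) = t' * (t'⁻¹ * r * t' * x) * t'⁻¹ := by group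
          _ = t' * x * t'⁻¹ * r := by rw [hc]; group⟩
    have ht'Q : t' ∈ Subgroup.normalizer (rc S R' : Set Ω) := by
      refine mem_normalizer_of_conj_mem_finite fun x hx => ?_
      have hle : rc S R' ≤ (rc S R').comap (MulAut.conj t').toMonoidHom := sup_le
        (fun r hr => le_rc R' ((Subgroup.mem_normalizer_iff.1 ht'R r).1 hr))
        fun r hr => cent_le_rc R' (ht'C r hr)
      exact hle hx
    obtain ⟨c, hc, hce⟩ := exists_conjAut ht'S ht'Q
    refine ⟨c, ⟨autInducedBy_le_autGroup F (rc_le hR'S) hc, fun x hx => ?_, fun x hx => ?_⟩, ?_, ?_⟩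
    · rw [hce]; exact (Subgroup.mem_normalizer_iff.1 ht'R x).1 hx
    · rw [hce]
      have h1 : (x : Ω)⁻¹ * (t' * x * t'⁻¹) ∈ R' := hRc ⟨by
        have := (Subgroup.mem_normalizer_iff.1 (stronglyClosed_le_normalizer hTc (S.inv_mem hx.1)) t').1 ht'T
        rw [inv_inv] at this
        rw [show (x : Ω)⁻¹ * (t' * x * t'⁻¹) = (x : Ω)⁻¹ * t' * x * t'⁻¹ by group]
        exact T.mul_mem this (T.inv_mem ht'T),
        (Subgroup.mul_mem _ (Subgroup.inv_mem _ hx) (ht'C x hx)).2⟩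
      exact ⟨h1, (Subgroup.mul_mem _ (Subgroup.inv_mem _ hx) (ht'C x hx)).2⟩
    · intro r
      obtain ⟨r₀, rfl⟩ := e.surjective r
      refine Subtype.ext ?_
      show ((c _ : rc S R') : Ω) = ((MulAut.congr e v (e r₀) : R') : Ω)
      rw [hce, congr_apply, e.symm_apply_apply, he _ (hRN (v r₀).2)]
      show t' * (e r₀ : R') * t'⁻¹ = _
      rw [he _ (hRN r₀.2), ht'def, ← map_inv, ← map_mul, ← map_mul]
      exact congrArg φ (Subtype.ext (htv r₀).symm)
    · refine Subtype.ext ?_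
      rw [hce]
      show t' * y' * t'⁻¹ = y'
      rw [ht'def, hy'def, ← map_inv, ← map_mul, ← map_mul]
      refine congrArg φ (Subtype.ext ?_)
      show t * y * t⁻¹ = y
      rw [Subgroup.mem_centralizer_iff.1 hcy.2 t htT, mul_inv_cancel_right]
  have hVL : autInducedBy T R ≤ L := fun v hv =>
    hmem v (hsyl.1 hv) ((hVfix v hv).imp fun _ h => ⟨h.1, h.2.1⟩)
  refine ⟨L, hVL, fun α hα => ⟨hα.1, ?_⟩, fun a ha l hl => ?_, hmem⟩
  · -- a lift fixing `y'`
    have hrel : ¬ p ∣ ((autInducedBy T R).map (MulAut.congr e).toMonoidHom).relIndex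
        (L.map (MulAut.congr e).toMonoidHom) := by
      rw [Subgroup.relIndex_map_map_of_injective _ _ (MulAut.congr e).injective]
      intro hd
      refine hsyl.2.2 (hd.trans ?_)
      exact Dvd.intro _ (Subgroup.relIndex_mul_relIndex _ L _ hVL inf_le_left)
    obtain ⟨h, hh, hhα, hhy⟩ := exists_fixing_lift hS hR'S hdisp (Subgroup.map_mono hVL) hrel
      (by rintro _ ⟨β, hβ, rfl⟩; exact hlift β hβ)
      (by rintro _ ⟨v, hv, rfl⟩; exact hVfix v hv) _ ⟨α, hα, rfl⟩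
    set Y := Subgroup.zpowers y
    have hYN : R ⊔ Y ≤ (normalizerIn S R) := sup_le hRN (Subgroup.zpowers_le.2 hyN)
    set φY := φ.comp (Subgroup.inclusion hYN) with hφY
    have hQ2 : φY.range ≤ rc S R' := by
      rintro _ ⟨u, rfl⟩
      refine apply_mem_of_sup φY (fun v => le_rc R' (hres.le ⟨v, rfl⟩)) (fun v => ?_) u
      obtain ⟨k, hk⟩ := Subgroup.mem_zpowers_iff.1 v.2
      show φ _ ∈ _
      rw [show Subgroup.inclusion hYN (Subgroup.inclusion le_sup_right v) = (⟨y, hyN⟩ : (normalizerIn S R)) ^ k from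
        Subtype.ext (by simp [hk]), map_zpow]
      exact Subgroup.zpow_mem _ (cent_le_rc R' hy'C) k
    obtain ⟨χ', hχ', hχ'r, hχ'1, -⟩ := exists_inv F (restrict_mem F hφ hYN)
    have hhF := (equivHom_autGroup F (rc_le hR'S)).1 hh.1
    obtain ⟨σ, hσ, hσe⟩ := comp_hom_mem F (restrict_mem F hφ hYN) hhF fun u => hQ2 ⟨u, rfl⟩
    have hval1 : ∀ r : R, σ (Subgroup.inclusion le_sup_left r) = φ ⟨(α r : R), hRN (α r).2⟩ := by
      intro r
      rw [hσe]
      show ((h _ : rc S R') : Ω) = _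
      have happ : ∀ q q' : rc S R', (q : Ω) = q' → ((h q : rc S R') : Ω) = (h q' : rc S R') :=
        fun q q' hq => by rw [Subtype.ext hq]
      refine Eq.trans (happ _ ⟨((e r : R') : Ω), le_rc R' (e r).2⟩ (he r (hRN r.2)).symm) ?_
      rw [hhα.apply, MulEquiv.coe_toMonoidHom, congr_apply,
        e.symm_apply_apply, he _ (hRN (α r).2)]
    have hval2 : ∀ v : Y, σ (Subgroup.inclusion le_sup_right v) = φ ⟨v, hYN (Subgroup.mem_sup_right v.2)⟩ := by
      intro v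
      obtain ⟨k, hk⟩ := Subgroup.mem_zpowers_iff.1 v.2
      rw [hσe]
      show ((h _ : rc S R') : Ω) = φ _
      have hv : (⟨v, hYN (Subgroup.mem_sup_right v.2)⟩ : (normalizerIn S R)) = (⟨y, hyN⟩ : (normalizerIn S R)) ^ k := Subtype.ext (by simp [hk])
      rw [show (⟨_, _⟩ : rc S R') = (⟨y', cent_le_rc R' hy'C⟩ : rc S R') ^ k from Subtype.ext (by
        rw [SubgroupClass.coe_zpow]
        exact (congrArg φ hv).trans (map_zpow φ _ k)), map_zpow, hhy, hv, map_zpow]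
      rfl
    have hσr : ∀ u, σ u ∈ φY.range := apply_mem_of_sup σ
      (fun r => by rw [hval1]; exact ⟨⟨(α r : R), Subgroup.mem_sup_left (α r).2⟩, rfl⟩)
      (fun v => by rw [hval2]; exact ⟨⟨v, Subgroup.mem_sup_right v.2⟩, rfl⟩)
    obtain ⟨τ, hτ, hτe⟩ := comp_hom_mem F hσ hχ' hσr
    have hEα := (equivHom_autGroup E hRT).1 hα.1
    refine ⟨hEF R hEα, ?_, ?_, τ, hτ, fun r => ?_, fun v => ?_⟩
    · intro r hr
      refine ⟨hRS hr, Subgroup.mem_centralizer_iff.2 ?_⟩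
      rintro _ ⟨k, rfl⟩
      exact (Subgroup.mem_centralizer_iff.1 ((centralizerIn S T).zpow_mem hcy k).2 r (hRT hr)).symm
    · intro r
      refine ⟨hRS (α r).2, Subgroup.mem_centralizer_iff.2 ?_⟩
      rintro _ ⟨k, rfl⟩
      exact (Subgroup.mem_centralizer_iff.1 ((centralizerIn S T).zpow_mem hcy k).2 _ (hRT (α r).2)).symm
    · rw [hτe]
      refine Eq.trans (congrArg χ' (Subtype.ext (hval1 r) :
        _ = (⟨φY ⟨(α r : R), Subgroup.mem_sup_left (α r).2⟩, ⟨_, rfl⟩⟩ : φY.range))) ?_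
      exact hχ'1 ⟨(α r : R), Subgroup.mem_sup_left (α r).2⟩ ⟨_, rfl⟩
    · rw [hτe]
      refine Eq.trans (congrArg χ' (Subtype.ext (hval2 v) :
        _ = (⟨φY ⟨v, Subgroup.mem_sup_right v.2⟩, ⟨_, rfl⟩⟩ : φY.range))) ?_
      exact hχ'1 ⟨v, Subgroup.mem_sup_right v.2⟩ ⟨_, rfl⟩
  · -- normality
    refine hmem _ (Subgroup.mul_mem _ (Subgroup.mul_mem _ ha hl.1) (Subgroup.inv_mem _ ha)) ?_
    obtain ⟨h, hh, hhl⟩ := hlift l hl
    have ha' := congr_mem_autGroup F e heF heF' (autGroup_mono hEF R ha)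
    have hh0 := (equivHom_autGroup F hR'S).1 ha'
    obtain ⟨χ, hχ, hag⟩ := (fullyCentralized_receptive hS hF hR').2 R' _ hh0 (equivHom_range (MulAut.congr e a))
    have hQle : rc S R' ≤ extender S R' (equivHom (MulAut.congr e a)) :=
      sup_le (le_extender F hh0) (centralizerIn_le_extender _)
    set χ₀ := χ.comp (Subgroup.inclusion hQle) with hχ0
    have hagr : ∀ r : R', χ₀ (Subgroup.inclusion (le_rc R') r) = ((MulAut.congr e a r : R') : Ω) :=
      fun r => hag r r.2 _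
    have hχr : (χ₀.comp (Subgroup.inclusion (le_rc R'))).range = R' := by
      rw [show χ₀.comp (Subgroup.inclusion (le_rc R')) = equivHom (MulAut.congr e a) from
        MonoidHom.ext hagr, equivHom_range]
    obtain ⟨b, hb, hbe⟩ := exists_aut_of_invariant F (restrict_mem F hχ hQle) fun x => apply_mem_of_sup χ₀
      (fun r => by
        show χ₀ (Subgroup.inclusion (le_rc (S := S) R') r) ∈ _
        rw [hagr]; exact le_rc R' (MulAut.congr e a r).2)
      (fun c => cent_le_rc R' ⟨hom_apply_mem F (restrict_mem F hχ hQle) _,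
        apply_mem_centralizer χ₀ (le_rc R') hχr _ c.2.2⟩) x
    have hbR : Rel (le_rc R') b (MulAut.congr e a) := fun r => Subtype.ext ((hbe _).trans (hagr r))
    exact ⟨_, hh.conj hR'S hb hbR, by
      rw [map_mul, map_mul, map_inv]
      exact (hbR.mul hhl).mul hbR.inv⟩

/-- Every map of `E` extends to a map fixing a generator of the focal subgroup of `C_F(T)`. -/
theorem mem_centralizerHom_zpowers (hS : IsPGroup p S) {F : FusionSystem S} (hF : F.IsSaturated p)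
    {E : FusionSystem T} (hE : E.IsNormalIn F p) {P : Subgroup Ω} {γ : P →* Ω}
    (hγ : γ ∈ F.centralizerHom T P) (w : P) (Q : Subgroup Ω) :
    E.Hom Q ⊆ F.centralizerHom (Subgroup.zpowers ((w : Ω)⁻¹ * γ w)) Q := by
  obtain ⟨⟨hEsat, -, hEF, hTc, -, hFr⟩, hext⟩ := hE
  have hTS := hTc.1
  set y := (w : Ω)⁻¹ * γ w with hy
  have hcy : y ∈ centralizerIn S T :=
    Subgroup.mul_mem _ (Subgroup.inv_mem _ (hγ.2.1 w.2)) (hγ.2.2.1 w)
  have hT : T ≤ centralizerIn S (Subgroup.zpowers y) := fun t ht => ⟨hTS ht,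
    Subgroup.mem_centralizer_iff.2 (by
      rintro _ ⟨k, rfl⟩
      exact (Subgroup.mem_centralizer_iff.1 ((centralizerIn S T).zpow_mem hcy k).2 t ht).symm)⟩
  haveI : Finite T := finite_of_le hTS
  have hTp : IsPGroup p T := hS.to_le hTS
  suffices key : E ≤ fixSystem E F hcy.1 hT from fun φ hφ => (key Q hφ).2
  refine alperin_ind hTp hEsat fun R hR ih => ?_
  rcases hR with rfl | hess
  · -- `R = T`: every automorphism lifts
    have hwc : F.WeaklyClosed R := stronglyClosed_weaklyClosed hTc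
    have hfc : F.IsFullyCentralized R := ⟨hTS, fun Q ⟨φ, hφ, hr⟩ => by rw [← hr, hwc.2 φ hφ]⟩
    have hsub := subtype_mem F (normalizerIn_le S R)
    have hmap : (R.subgroupOf (normalizerIn S R)).map (normalizerIn S R).subtype = R := by
      rw [Subgroup.subgroupOf_map_subtype, inf_of_le_left (le_normalizerIn hTS)]
    have hsyl := isSyl_of_fullyAutomized (fullyNormalized_imp hTp hEsat (show E.IsFullyNormalized R from
      ⟨le_rfl, fun Q hQ => by
        haveI : Finite (normalizerIn R R) := finite_of_le (normalizerIn_le R R)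
        exact Subgroup.card_le_of_le ((normalizerIn_le _ _).trans (le_normalizerIn le_rfl))⟩)).2
    obtain ⟨L, -, hgood, -, hmem⟩ := exists_good_subgroup hS hF hTc hEF le_rfl hsyl hsub hmap hfc
      (le_of_eq_of_le rfl inf_le_left) hγ w hy (MulEquiv.refl R) (fun r hr => rfl)
    intro α hα
    obtain ⟨β, hβ, hβ1, hβ2⟩ := hext α hα
    have hL : α ∈ L := hmem α hα ⟨β, ⟨hβ, fun x hx => ?_, fun x hx => hβ2 x hx⟩,
      fun r => Subtype.ext (hβ1 r)⟩
    · exact (equivHom_autGroup _ le_rfl).2 ⟨(equivHom_autGroup E le_rfl).1 hα, (hgood α hL).2⟩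
    · have := hβ1 ⟨x, hx⟩
      rw [show x = Subgroup.inclusion le_sup_left (⟨x, hx⟩ : R) from Subtype.ext rfl]
      exact this ▸ (α _).2
  · have hRlt := essential_lt hTp hEsat hess
    have hRT := hRlt.le
    have hRS := hRT.trans hTS
    obtain ⟨R', hconj, hR'⟩ := exists_fullyNormalized F hRS
    obtain ⟨φ, hφ, -, hφR⟩ := exists_normalizer_map_fullyNormalized hS hF hR' hconj
    have hRN := le_normalizerIn hRS
    have hres := extend_restrict_range hRN hφR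
    set e := mapEquiv F (restrict_mem F hφ hRN) hres
    obtain ⟨α₀, hα₀, φ₀, hφ₀, hφ₀e⟩ := hFr R hRT _ (restrict_mem F hφ hRN)
    have hRc : T ⊓ Subgroup.centralizer (R' : Set Ω) ≤ R' := by
      intro x hx
      set x₀ := α₀⁻¹ ⟨x, hx.1⟩ with hx0
      have hx0' : α₀ x₀ = ⟨x, hx.1⟩ := α₀.apply_symm_apply _
      have hin : (x₀ : Ω) ∈ centralizerIn T φ₀.range := by
        refine ⟨x₀.2, Subgroup.mem_centralizer_iff.2 ?_⟩
        rintro _ ⟨r, rfl⟩
        have h1 := hom_apply_mem E hφ₀ r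
        have h2 : ((α₀ ⟨φ₀ r, h1⟩ : T) : Ω) ∈ R' := by
          rw [← hφ₀e r h1]; exact hres.le ⟨r, rfl⟩
        have h3 := Subgroup.mem_centralizer_iff.1 hx.2 _ h2
        have h4 : α₀ (⟨φ₀ r, h1⟩ * x₀) = α₀ (x₀ * ⟨φ₀ r, h1⟩) := by
          rw [map_mul, map_mul, hx0']; exact Subtype.ext h3
        exact congrArg Subtype.val (α₀.injective h4)
      obtain ⟨r, hr⟩ := hess.1.2 φ₀.range ⟨φ₀, hφ₀, rfl⟩ hin
      refine hres.le ⟨r, ?_⟩
      rw [hφ₀e r (hom_apply_mem E hφ₀ r), show (⟨φ₀ r, hom_apply_mem E hφ₀ r⟩ : T) = x₀ from Subtype.ext hr,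
        hx0']
    have hsyl := isSyl_of_fullyAutomized (fullyNormalized_imp hTp hEsat hess.2.1).2
    obtain ⟨L, hVL, hgood, hLn, -⟩ := exists_good_subgroup hS hF hTc hEF hRT hsyl hφ hφR
      (fullyNormalized_imp hS hF hR').1 hRc hγ w hy e (fun r hr => rfl)
    haveI := finite_of_le hRS
    haveI : Finite (MulAut R) := Finite.of_injective _ DFunLike.coe_injective
    set A := E.autGroup R
    haveI : (L.subgroupOf A).Normal := ⟨fun l hl a => hLn a a.2 l hl⟩
    obtain ⟨Sy, hSy⟩ := hsyl.toSylow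
    have htop := Sylow.normalizer_sup_eq_top' (N := L.subgroupOf A) Sy
      (by rw [hSy]; exact fun v hv => hVL hv)
    set A' := (fixSystem E F hcy.1 hT).autGroup R
    suffices A'.subgroupOf A = ⊤ from fun α hα => (this.ge (Subgroup.mem_top (⟨α, hα⟩ : A)) : _)
    rw [← top_le_iff, ← htop]
    refine sup_le (fun n hn => ?_) fun l hl => (equivHom_autGroup _ hRT).2
      ⟨(equivHom_autGroup E hRT).1 l.2, (hgood _ hl).2⟩
    have hnE := (equivHom_autGroup E hRT).1 n.2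
    obtain ⟨ψ, hψ, hag⟩ := (fullyNormalized_receptive hTp hEsat hess.2.1).2 R _ hnE
      (equivHom_range (n : MulAut R))
    have hNext : normalizerIn T R ≤ extender T R (equivHom (n : MulAut R)) := by
      intro g hg
      obtain ⟨a, ha, hae⟩ := exists_conjAut (P := R) hg.1 hg.2
      have h1 := (Subgroup.mem_normalizer_iff.1 hn (⟨a, hsyl.1 ha⟩ : A)).1 (by
        rw [hSy]; exact ha)
      rw [hSy, Subgroup.mem_subgroupOf] at h1
      obtain ⟨k, hk, hke⟩ := (mem_autInducedBy_iff _).1 h1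
      refine Subgroup.subset_closure ⟨hg.1, hg.2, k, hk, fun x hx => ?_⟩
      have h2 := hke ((n : MulAut R) x)
      simp only [Subgroup.coe_mul, Subgroup.coe_inv, MulAut.mul_apply] at h2
      rw [show (n : MulAut R)⁻¹ ((n : MulAut R) x) = x from (n : MulAut R).symm_apply_apply x] at h2
      refine Eq.trans ?_ h2
      show (((n : MulAut R) ⟨_, hx⟩ : R) : Ω) = _
      rw [show (⟨g * (x : Ω) * g⁻¹, hx⟩ : R) = a x from Subtype.ext (hae x).symm]
    have hlt : R < normalizerIn T R := lt_normalizerIn hTp hRlt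
    have hmem := ih _ hlt (restrict_mem E hψ hNext)
    refine (equivHom_autGroup _ hRT).2 (hom_congr _ (restrict_mem (fixSystem E F hcy.1 hT) hmem hlt.le) fun x => ?_)
    exact (hag x x.2 (hNext (hlt.le x.2))).symm

end Cfsg.Agent.FusionSys.FocCent
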