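import Cfsg.Agent.Lib.Fusion.ModelData
import Cfsg.Agent.Lib.Fusion.Centric

/-!
# Existence of models of constrained systems
-/

set_option autoImplicit false

namespace Cfsg.Agent.FusionSys

open Cfsg Cfsg.FusionSystem

universe u

/-- An equivariant section exists as soon as each point has a value fixed by its stabilizer. -/
theorem exists_equivariant_section {N X U : Type*} [Group N] [MulAction N X] (T : N → X → U → U)
    (hmul : ∀ a b y u, T (a * b) y u = T a (b • y) (T b y u)) (P : X → U → Prop)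
    (hP : ∀ a y u, P y u → P (a • y) (T a y u))
    (hfix : ∀ y, ∃ u, P y u ∧ ∀ a : N, a • y = y → T a y u = u) :
    ∃ f : X → U, ∀ y, P y (f y) ∧ ∀ a : N, f (a • y) = T a y (f y) := by
  classical
  let rep : X → X := fun y => (Quotient.mk (MulAction.orbitRel N X) y).out
  have hrep : ∀ y, ∃ a : N, a • rep y = y := fun y => by
    obtain ⟨a, ha⟩ := MulAction.orbitRel_apply.1 (show (MulAction.orbitRel N X).r (rep y) y from Quotient.mk_out y)
    exact ⟨a⁻¹, by rw [← ha, inv_smul_smul]⟩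
  have hrep' : ∀ (a : N) y, rep (a • y) = rep y := fun a y =>
    congrArg Quotient.out (Quotient.sound (MulAction.orbitRel_apply.2 ⟨a, rfl⟩))
  choose ay hay using hrep
  choose u hu hufix using hfix
  refine ⟨fun y => T (ay y) (rep y) (u (rep y)), fun y => ⟨?_, fun a => ?_⟩⟩
  · have := hP (ay y) (rep y) _ (hu (rep y))
    rwa [hay] at this
  · show T (ay (a • y)) (rep (a • y)) (u (rep (a • y))) = T a y (T (ay y) (rep y) (u (rep y)))
    have e1 : T (a * ay y) (rep y) (u (rep y)) = T a y (T (ay y) (rep y) (u (rep y))) := by rw [hmul, hay]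
    have hb : ((a * ay y)⁻¹ * ay (a • y)) • rep y = rep y := by
      rw [mul_smul]
      conv_lhs => rw [← hrep' a y, hay]
      rw [mul_inv_rev, mul_smul, inv_smul_smul, inv_smul_eq_iff, hay]
    have e2 : T (ay (a • y)) (rep y) (u (rep y)) = T (a * ay y) (rep y) (u (rep y)) := by
      conv_lhs => rw [show ay (a • y) = a * ay y * ((a * ay y)⁻¹ * ay (a • y)) by group, hmul, hb, hufix _ _ hb]
    rw [hrep', e2, e1]

section

variable {Ω : Type u} [Group Ω] {S : Subgroup Ω} {F : FusionSystem S} {Q : Subgroup Ω} [Finite S] {p : ℕ}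
  [hp : Fact p.Prime] (hS : IsPGroup p S) (hF : F.IsSaturated p) {hQ : CentricNormal F Q} (M : ModelData hQ)

omit [Finite S] in
include M in
theorem act_smul_Q (q : Q) (y : F.autGroup Q ⧸ (actQ hQ).range) : actQ hQ ⟨q, hQ.le q.2⟩ • y = y := by
  have h := M.data.act_c ⟨q, hQ.le q.2⟩ y
  have e : actQ hQ (M.data.c ⟨q, hQ.le q.2⟩ y) = (M.data.t y)⁻¹ * actQ hQ ⟨q, hQ.le q.2⟩ * M.data.t y := by
    refine Subtype.ext (MulEquiv.ext fun r => Subtype.ext ?_)
    rw [actQ_apply, M.c_Q]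
    simp only [Subgroup.coe_mul, Subgroup.coe_inv, MulAut.mul_apply]
    obtain ⟨r', rfl⟩ := ((M.data.t y : MulAut Q)⁻¹).surjective r
    rw [show (M.data.t y : MulAut Q) ((M.data.t y : MulAut Q)⁻¹ r') = r' from MulEquiv.apply_symm_apply _ r',
      show (actQ hQ ⟨q, hQ.le q.2⟩ : MulAut Q) r' = q * r' * q⁻¹ from Subtype.ext (actQ_apply hQ _ r'), map_mul,
      map_mul, map_inv]
    rfl
  rw [h, mul_left_inj, mul_left_inj, inv_inj] at e
  rw [← M.data.mk_t (actQ hQ ⟨q, hQ.le q.2⟩ • y), e, M.data.mk_t]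

omit [Finite S] in
/-- Every element of the extension acts on `Q` as its image. -/
theorem hat_conj_Q (g : ModelExt.Hat M.data) (q : Q) :
    g * ModelExt.hatInc M.data ⟨q, hQ.le q.2⟩ =
      ModelExt.hatInc M.data ⟨((g.h : MulAut Q) q : Q), hQ.le ((g.h : MulAut Q) q).2⟩ * g := by
  refine ModelExt.Hat.ext ?_ (funext fun y => Subtype.ext ?_)
  · refine Subtype.ext (MulEquiv.ext fun r => Subtype.ext ?_)
    simp only [ModelExt.Hat.mul_h, ModelExt.hatInc_h, Subgroup.coe_mul, MulAut.mul_apply, actQ_apply]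
    rw [show (actQ hQ ⟨q, hQ.le q.2⟩ : MulAut Q) r = q * r * q⁻¹ from Subtype.ext (actQ_apply hQ _ r), map_mul,
      map_mul, map_inv]
    rfl
  · simp only [ModelExt.Hat.mul_u, ModelExt.hatInc_u, ModelExt.hatInc_h, Subgroup.coe_mul]
    rw [act_smul_Q M q y, M.c_Q, M.c_Q]
    have e := congrArg (fun a : F.autGroup Q => (((a : MulAut Q) ((M.data.t y : MulAut Q)⁻¹ q) : Q) : Ω)) (g.cond y)
    simp only [actQ_apply, Subgroup.coe_mul, Subgroup.coe_inv, MulAut.mul_apply] at e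
    rw [show (M.data.t y : MulAut Q) ((M.data.t y : MulAut Q)⁻¹ q) = q from MulEquiv.apply_symm_apply _ q] at e
    rw [← e]
    group

include hS hF in
/-- A map of the system on an overgroup of `Q` is conjugation in the extension. -/
theorem exists_hat {N : Subgroup Ω} (hN : N ≤ S) (hQN : Q ≤ N) {ψ : N →* Ω} (hψ : ψ ∈ F.Hom N)
    (h : F.autGroup Q) (hψh : ∀ q : Q, ψ ⟨q, hQN q.2⟩ = (((h : MulAut Q) q : Q) : Ω)) :
    ∃ g : ModelExt.Hat M.data, g.h = h ∧ ∀ s : N,
      g * ModelExt.hatInc M.data ⟨s, hN s.2⟩ = ModelExt.hatInc M.data ⟨ψ s, hom_apply_mem F hψ s⟩ * g := by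
  classical
  set act := actQ hQ with hact
  let ψ' : N →* S := ψ.codRestrict S (hom_apply_mem F hψ)
  let ι : N →* S := Subgroup.inclusion hN
  have hcomm : ∀ s : N, act (ψ' s) * h = h * act (ι s) := fun s => by
    refine Subtype.ext (MulEquiv.ext fun r => Subtype.ext ?_)
    simp only [Subgroup.coe_mul, MulAut.mul_apply]
    rw [actQ_apply, ← hψh r, ← hψh]
    show ψ s * _ * (ψ s)⁻¹ = _
    rw [← map_inv]
    rw [← map_mul, ← map_mul]
    exact congrArg ψ (Subtype.ext (actQ_apply hQ (ι s) r).symm)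
  letI : MulAction N (F.autGroup Q ⧸ act.range) := MulAction.compHom _ (act.comp ι)
  have hsm : ∀ (s : N) (y : F.autGroup Q ⧸ act.range), act (ψ' s) • h • y = h • (s • y) := fun s y => by
    rw [← mul_smul, hcomm, mul_smul]; rfl
  obtain ⟨f, hf⟩ := exists_equivariant_section (N := N) (X := F.autGroup Q ⧸ act.range) (U := S)
    (fun s y u => M.data.c (ψ' s) (h • y) * u * (M.data.c (ι s) y)⁻¹)
    (fun a b y u => by
      show _ = M.data.c (ψ' a) (h • (b • y)) * (M.data.c (ψ' b) (h • y) * u * (M.data.c (ι b) y)⁻¹) * (M.data.c (ι a) (b • y))⁻¹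
      rw [map_mul, map_mul, M.data.c_mul, M.data.c_mul, hsm b y, mul_inv_rev]
      show _ * u * (_ * (M.data.c (ι a) (b • y))⁻¹) = _
      simp only [mul_assoc])
    (fun y u => act u = (M.data.t (h • y))⁻¹ * h * M.data.t y)
    (fun a y u hu => by
      show act (M.data.c (ψ' a) (h • y) * u * (M.data.c (ι a) y)⁻¹) = (M.data.t (h • (a • y)))⁻¹ * h * M.data.t (a • y)
      rw [map_mul, map_mul, map_inv, hu, M.data.act_c, M.data.act_c, hsm a y]
      calc _ = (M.data.t (h • (a • y)))⁻¹ * (act (ψ' a) * h) * (act (ι a))⁻¹ * M.data.t (a • y) := by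
            show _ * _ * ((M.data.t (a • y))⁻¹ * _ * _)⁻¹ = _
            group
            rfl
        _ = _ := by rw [hcomm]; group)
    (fun y => by
      set Ny : Subgroup Ω := (MulAction.stabilizer N y).map N.subtype with hNy
      have hle : Ny ≤ N := Subgroup.map_subtype_le _
      have hfix1 : ∀ s : Ny, act ⟨s, hN (hle s.2)⟩ • y = y := by
        rintro ⟨_, s, hs, rfl⟩; exact hs
      obtain ⟨φ1, hφ1, hφ1e⟩ := M.c_stab y Ny (hle.trans hN) hfix1
      set ψr := ψ.comp (Subgroup.inclusion hle) with hψr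
      have hψrF : ψr ∈ F.Hom Ny := restrict_mem F hψ hle
      obtain ⟨φ2, hφ2, hφ2e⟩ := M.c_stab (h • y) ψr.range (range_le F hψrF) (by
        rintro ⟨_, s, rfl⟩
        show act (ψ' (Subgroup.inclusion hle s)) • h • y = h • y
        rw [hsm]; exact congrArg (h • ·) (hfix1 s))
      obtain ⟨u₀, hu₀⟩ : ∃ u : S, act u = (M.data.t (h • y))⁻¹ * h * M.data.t y := by
        have h1 : (QuotientGroup.mk (M.data.t (h • y)) : F.autGroup Q ⧸ act.range) = QuotientGroup.mk (h * M.data.t y) := by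
          rw [M.data.mk_t, ← smul_eq_mul, ← MulAction.Quotient.smul_mk, M.data.mk_t]
        obtain ⟨u, hu⟩ := QuotientGroup.eq.1 h1
        exact ⟨u, by rw [hu, mul_assoc]⟩
      have hc1 : conjHom φ1.range (u₀ : Ω) ∈ F.Hom φ1.range := F.conj_mem (range_le F hφ1) u₀.2
      set θ1 : Ny →* Ω := (conjHom φ1.range (u₀ : Ω)).comp (φ1.codRestrict φ1.range fun x => ⟨x, rfl⟩) with hθ1
      have hθ1F : θ1 ∈ F.Hom Ny := F.comp_mem hφ1 hc1 _
      set θ2 : Ny →* Ω := φ2.comp (ψr.codRestrict ψr.range fun x => ⟨x, rfl⟩) with hθ2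
      have hθ2F : θ2 ∈ F.Hom Ny := F.comp_mem hψrF hφ2 _
      have e1 : ∀ s : Ny, θ1 s = (u₀ : Ω) * M.data.c ⟨s, hN (hle s.2)⟩ y * (u₀ : Ω)⁻¹ := fun s => by
        show (u₀ : Ω) * φ1 s * (u₀ : Ω)⁻¹ = _
        rw [hφ1e]
      have e2 : ∀ s : Ny, θ2 s = M.data.c (ψ' (Subgroup.inclusion hle s)) (h • y) := fun s => hφ2e ⟨ψr s, s, rfl⟩
      have hQNy : Q ≤ Ny := fun q hq => ⟨⟨q, hQN hq⟩, act_smul_Q M ⟨q, hq⟩ y, rfl⟩
      have hQval : ∀ q : Q, θ1 ⟨q, hQNy q.2⟩ = (((M.data.t (h • y) : MulAut Q)⁻¹ ((h : MulAut Q) q) : Q) : Ω) := fun q => by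
        rw [e1, M.c_Q]
        have e := congrArg (fun a : F.autGroup Q => (((a : MulAut Q) ((M.data.t y : MulAut Q)⁻¹ q) : Q) : Ω)) hu₀
        simp only [hact, actQ_apply, Subgroup.coe_mul, Subgroup.coe_inv, MulAut.mul_apply] at e
        rw [show (M.data.t y : MulAut Q) ((M.data.t y : MulAut Q)⁻¹ q) = q from MulEquiv.apply_symm_apply _ q] at e
        exact e
      have hagree : ∀ x : Ny, (x : Ω) ∈ Q → θ1 x = θ2 x := fun x hx => by
        rw [e2]
        refine (hQval ⟨x, hx⟩).trans ?_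
        rw [show ψ' (Subgroup.inclusion hle x) = ⟨((h : MulAut Q) ⟨x, hx⟩ : Q), hQ.le ((h : MulAut Q) ⟨x, hx⟩).2⟩ from
          Subtype.ext (hψh ⟨x, hx⟩), M.c_Q]
      obtain ⟨z, hzQ, hzC, hz⟩ := centric_agree hS hF hQNy hQ.centric hθ1F hθ2F hagree
      have hwS : θ1 z ∈ S := hom_apply_mem F hθ1F z
      have hw1 : act ⟨θ1 z, hwS⟩ = 1 := by
        set g : MulAut Q := (M.data.t (h • y) : MulAut Q)⁻¹ * (h : MulAut Q)
        have hzk : (zQRestrict Q g ⟨z, hzQ, hzC⟩ : Ω) = θ1 z := (hQval ⟨z, hzQ⟩).symm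
        refine MonoidHom.mem_ker.1 ((zQInc_range hQ).le ⟨zQRestrict Q g ⟨z, hzQ, hzC⟩, ?_⟩)
        exact Subtype.ext hzk
      refine ⟨⟨θ1 z, hwS⟩ * u₀, by rw [map_mul, hw1, one_mul, hu₀], fun a ha => Subtype.ext ?_⟩
      have hz' := hz ⟨a, a, ha, rfl⟩
      rw [map_mul, map_mul, map_inv] at hz'
      replace hz' := (e2 _).symm.trans (hz'.trans (congrArg (fun w => θ1 z * w * (θ1 z)⁻¹) (e1 _)))
      simp only [Subgroup.coe_mul, InvMemClass.coe_inv]
      rw [show M.data.c (ψ' a) (h • y) = M.data.c (ψ' (Subgroup.inclusion hle ⟨a, a, ha, rfl⟩)) (h • y) from rfl, hz']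
      show θ1 z * ((u₀ : Ω) * M.data.c (ι a) y * (u₀ : Ω)⁻¹) * (θ1 z)⁻¹ * (θ1 z * u₀) * ((M.data.c (ι a) y : S) : Ω)⁻¹ = _
      group)
  refine ⟨⟨h, f, fun y => (hf y).1⟩, rfl, fun s => ModelExt.Hat.ext ?_ (funext fun y => ?_)⟩
  · exact (hcomm s).symm
  · show f (act (ι s) • y) * M.data.c (ι s) y = M.data.c (ψ' s) (h • y) * f y
    rw [show act (ι s) • y = s • y from rfl, (hf y).2 s, inv_mul_cancel_right]

end

section

variable {Ω : Type u} [Group Ω] {S : Subgroup Ω} {F : FusionSystem S} [Finite S] {p : ℕ} [hp : Fact p.Prime]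

/-- The Model Theorem: existence. -/
theorem exists_model (hS : IsPGroup p S) (hF : F.IsSaturated p) {Q : Subgroup Ω} (hQ : CentricNormal F Q) :
    ∃ (G : Type u) (_ : Group G) (ι : S →* G), F.IsModel p G ι := by
  classical
  haveI := finite_of_le (S := S) hQ.le
  obtain ⟨M⟩ := exists_modelData hS hF hQ
  haveI : Fintype (F.autGroup Q ⧸ (actQ hQ).range) := Fintype.ofFinite _
  have hsyl := isSyl_of_fullyAutomized (fullyNormalized_imp hS hF
    (fullyNormalized_of_normal (F := F) hQ.le hQ.normalizer)).2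
  have hindex : ¬ p ∣ (actQ hQ).range.index := by rw [actQ_range hQ]; exact hsyl.2.2
  have hco : (Nat.card (zQ Q)).Coprime (Nat.card (F.autGroup Q ⧸ (actQ hQ).range)) := by
    haveI : Finite (zQ Q) := finite_of_le (S := S) (inf_le_left.trans hQ.le : zQ Q ≤ S)
    obtain ⟨k, hk⟩ : ∃ k, Nat.card (zQ Q) = p ^ k :=
      IsPGroup.iff_card.1 (hS.to_le (inf_le_left.trans hQ.le : zQ Q ≤ S))
    rw [hk]
    exact Nat.Coprime.pow_left k ((Nat.Prime.coprime_iff_not_dvd hp.out).2 hindex)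
  set ι := ModelExt.inc M.data with hι
  have hinj : Function.Injective ι := ModelExt.inc_injective M.data hco
  have hker : (ModelExt.proj M.data).ker ≤ (zQInc hQ).range.map ι := ModelExt.ker_proj_le M.data hco
  have hQconj : ∀ (g : ModelExt.Ext M.data) (q : Q), g * ι ⟨q, hQ.le q.2⟩ * g⁻¹ =
      ι ⟨((ModelExt.proj M.data g : MulAut Q) q : Q), hQ.le ((ModelExt.proj M.data g : MulAut Q) q).2⟩ := by
    intro g q
    obtain ⟨a, rfl⟩ := QuotientGroup.mk_surjective g
    rw [mul_inv_eq_iff_eq_mul]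
    exact congrArg (QuotientGroup.mk' (ModelExt.traceKer M.data)) (hat_conj_Q M a q)
  refine ⟨ModelExt.Ext M.data, inferInstance, ι, inferInstance, ⟨hinj, fun P hP φ hφ => ⟨fun hmem => ?_, ?_⟩⟩, ?_, ?_⟩
  · obtain ⟨ψ, hψ, hψP, hψQ⟩ := hQ.normal.2 P φ hmem
    obtain ⟨h, hh, hhe⟩ := exists_restrict_aut F (le_sup_right : Q ≤ P ⊔ Q) hψ hψQ
    obtain ⟨g, -, hg⟩ := exists_hat hS hF M (hom_le F hψ) le_sup_right hψ ⟨h, hh⟩ fun q => (hhe q).symm
    refine ⟨(g : ModelExt.Ext M.data), fun x => ?_⟩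
    rw [eq_mul_inv_iff_mul_eq]
    have := hg (Subgroup.inclusion le_sup_left x)
    rw [show (⟨ψ (Subgroup.inclusion le_sup_left x), hom_apply_mem F hψ _⟩ : S) = ⟨φ x, hφ x⟩ from
      Subtype.ext (hψP x)] at this
    exact (congrArg (QuotientGroup.mk' (ModelExt.traceKer M.data)) this).symm
  · rintro ⟨g, hg⟩
    set h := ModelExt.proj M.data g with hh
    obtain ⟨ψ, hψ, hψe⟩ := (fullyNormalized_receptive hS hF
      (fullyNormalized_of_normal (F := F) hQ.le hQ.normalizer)).2 Q (equivHom (h : MulAut Q))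
        ((equivHom_autGroup F hQ.le).1 h.2) (equivHom_range _)
    have hact : ∀ x : P, actQ hQ ⟨φ x, hφ x⟩ = h * actQ hQ ⟨x, hP x.2⟩ * h⁻¹ := fun x => by
      have := congrArg (ModelExt.proj M.data) (hg x)
      simpa only [map_mul, map_inv, hι, ModelExt.proj_inc] using this
    have hleP : P ≤ extender S Q (equivHom (h : MulAut Q)) := fun x hx =>
      Subgroup.subset_closure ⟨hP hx, hQ.normalizer (hP hx), φ ⟨x, hx⟩, hφ _, fun q hq => by
        have e := congrArg (fun a : F.autGroup Q => (((a : MulAut Q) ((h : MulAut Q) q) : Q) : Ω)) (hact ⟨x, hx⟩)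
        simp only [Subgroup.coe_mul, Subgroup.coe_inv, MulAut.mul_apply, actQ_apply] at e
        rw [show (h : MulAut Q)⁻¹ ((h : MulAut Q) q) = q from MulEquiv.symm_apply_apply _ q] at e
        exact Eq.trans (congrArg (fun r : Q => (((h : MulAut Q) r : Q) : Ω)) (Subtype.ext (actQ_apply hQ ⟨x, hP hx⟩ q).symm))
          e.symm⟩
    have hle : P ⊔ Q ≤ extender S Q (equivHom (h : MulAut Q)) :=
      sup_le hleP (le_extender F ((equivHom_autGroup F hQ.le).1 h.2))
    set ψ' := ψ.comp (Subgroup.inclusion hle)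
    have hψ' : ψ' ∈ F.Hom (P ⊔ Q) := restrict_mem F hψ hle
    obtain ⟨a, hah, ha⟩ := exists_hat hS hF M (hom_le F hψ') le_sup_right hψ' h fun q => hψe q q.2 (hle (Subgroup.mem_sup_right q.2))
    obtain ⟨w, ⟨z, rfl⟩, hw⟩ := hker (show g * (a : ModelExt.Ext M.data)⁻¹ ∈ (ModelExt.proj M.data).ker by
      rw [MonoidHom.mem_ker, map_mul, map_inv, ModelExt.proj_mk, hah, mul_inv_cancel])
    have hzS : ((z : Ω)) ∈ S := hQ.le z.2.1
    refine hom_congr F (F.comp_mem (restrict_mem F hψ' le_sup_left) (F.conj_mem le_rfl hzS)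
      fun x => hom_apply_mem F hψ' _) fun x => ?_
    show _ = (z : Ω) * ψ' (Subgroup.inclusion le_sup_left x) * (z : Ω)⁻¹
    have hax := congrArg (QuotientGroup.mk' (ModelExt.traceKer M.data)) (ha (Subgroup.inclusion le_sup_left x))
    rw [map_mul, map_mul] at hax
    have hfin : ι ⟨φ x, hφ x⟩ = ι ((zQInc hQ z) * ⟨ψ' (Subgroup.inclusion le_sup_left x), hom_apply_mem F hψ' _⟩ *
        (zQInc hQ z)⁻¹) := by
      rw [hg x, map_mul, map_mul, map_inv, hw]
      have hax' : (a : ModelExt.Ext M.data) * ι ⟨x, hP x.2⟩ =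
          ι ⟨ψ' (Subgroup.inclusion le_sup_left x), hom_apply_mem F hψ' _⟩ * a := hax
      rw [show ι ⟨ψ' (Subgroup.inclusion le_sup_left x), hom_apply_mem F hψ' _⟩ =
        (a : ModelExt.Ext M.data) * ι ⟨x, hP x.2⟩ * (a : ModelExt.Ext M.data)⁻¹ from eq_mul_inv_of_mul_eq hax'.symm]
      group
    exact congrArg Subtype.val (hinj hfin)
  · have hS' : IsPGroup p ι.range := hS.of_surjective ι.rangeRestrict ι.rangeRestrict_surjective
    have hidx : ι.range.index = (actQ hQ).range.index := by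
      rw [hι, ModelExt.range_inc M.data hco, Subgroup.index_comap_of_surjective _ (ModelExt.proj_surjective M.data)]
    exact ⟨hS'.toSylow (hidx ▸ hindex), rfl⟩
  · set Q' := (Q.subgroupOf S).map ι with hQ'
    have hQn : Q'.Normal := ⟨by
      rintro _ ⟨q, hq, rfl⟩ g
      exact ⟨⟨_, hQ.le ((ModelExt.proj M.data g : MulAut Q) ⟨q, hq⟩).2⟩,
        ((ModelExt.proj M.data g : MulAut Q) ⟨q, hq⟩).2, (hQconj g ⟨q, hq⟩).symm⟩⟩
    have hle : Q' ≤ pCore p (ModelExt.Ext M.data) :=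
      le_sSup ⟨hQn, (hS.to_subgroup (Q.subgroupOf S)).map ι⟩
    refine fun g hg => hle ?_
    have h1 : ModelExt.proj M.data g = 1 := Subtype.ext (MulEquiv.ext fun q => by
      have hm := Subgroup.mem_centralizer_iff.1 hg (ι ⟨q, hQ.le q.2⟩) (hle ⟨_, q.2, rfl⟩)
      have := hQconj g q
      rw [← hm, mul_inv_cancel_right] at this
      exact Subtype.ext (congrArg Subtype.val (hinj this)).symm)
    obtain ⟨w, ⟨z, rfl⟩, hw⟩ := hker h1
    exact ⟨zQInc hQ z, z.2.1, hw⟩

end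

end Cfsg.Agent.FusionSys
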