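import Cfsg.Agent.Lib.Fusion.NormalizerTower
import Cfsg.Agent.Lib.Fusion.ModelFacts
import Cfsg.Agent.Lib.Fusion.Model

/-!
# Systems controlled by a functor are constrained

If in every constrained member of a class closed under normalizer systems the subgroup given by a relative
functor is normal, every member is constrained.
-/

set_option autoImplicit false

namespace Cfsg.Agent.FusionSys

open Cfsg Cfsg.FusionSystem

variable {Ω : Type*} [Group Ω] {p : ℕ} [hp : Fact p.Prime]

/-- A relative functor: to a normal subgroup `Q` of `T` a subgroup of `T` outside `Q` when `C_T(Q)` is. -/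
structure RelFunctor (Ω : Type*) [Group Ω] (p : ℕ) where
  val : Subgroup Ω → Subgroup Ω → Subgroup Ω
  le : ∀ {Q T : Subgroup Ω}, Q ≤ T → val Q T ≤ T
  not_le : ∀ {Q T : Subgroup Ω}, Finite T → IsPGroup p T → Q ≤ T → T ≤ Subgroup.normalizer (Q : Set Ω) →
    ¬ centralizerIn T Q ≤ Q → ¬ val Q T ≤ Q
  normalizer : ∀ {Q T : Subgroup Ω}, Finite T → IsPGroup p T → Q ≤ T → ∀ n ∈ Subgroup.normalizer (Q : Set Ω),
    n ∈ Subgroup.normalizer (T : Set Ω) → n ∈ Subgroup.normalizer (val Q T : Set Ω)

/-- The class is controlled by the functor: closed under normalizer systems and normality in constrained members. -/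
structure Controlled (V : RelFunctor Ω p) (Good : ∀ T : Subgroup Ω, FusionSystem T → Prop) : Prop where
  norm : ∀ (T : Subgroup Ω) (M : FusionSystem T), Finite T → IsPGroup p T → M.IsSaturated p → Good T M →
    ∀ X, M.IsFullyNormalized X → ∀ N : FusionSystem (normalizerIn T X), M.IsNormalizerSystem X N →
      Good (normalizerIn T X) N
  constrained : ∀ (T : Subgroup Ω) (M : FusionSystem T), Finite T → IsPGroup p T → Good T M →
    M.IsConstrained p → ∀ Q, M.IsNormal Q → M.IsNormal (V.val Q T)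

theorem constrained_of_control {V : RelFunctor Ω p} {Good : ∀ T : Subgroup Ω, FusionSystem T → Prop}
    (hV : Controlled V Good) :
    ∀ {S : Subgroup Ω} [Finite S], IsPGroup p S → ∀ (F : FusionSystem S), F.IsSaturated p → Good S F →
      F.IsConstrained p := by
  intro S _ hS F
  induction hk : sysRank F using Nat.strong_induction_on generalizing S with
  | _ k ih =>
  intro hF hG
  by_contra hnc
  set Q := F.core with hQdef
  have hQ := core_isNormal F
  have hQS := hQ.1
  have hQn : S ≤ Subgroup.normalizer (Q : Set Ω) := isNormal_le_normalizer hQ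
  haveI := finite_of_le (S := S) hQS
  -- `Q` is not centric
  have hC : ¬ centralizerIn S Q ≤ Q := fun hle => hnc ⟨hF, Q, hQ, hQS, by
    rintro R ⟨φ, hφ, rfl⟩
    have hr : φ.range = Q := by
      refine Subgroup.eq_of_le_of_card_ge ?_ (isConj_card ⟨φ, hφ, rfl⟩).le
      rintro _ ⟨x, rfl⟩
      exact stronglyClosed_apply_mem (isNormal_stronglyClosed hQ) hφ x x.2
    rw [hr]
    exact hle⟩
  obtain ⟨c, hc, hcQ, hcx⟩ := exists_centralizer_not_le (p := p) (fun X hX => hS.to_le hX) hQS hQn hC
  -- the normalizer systems of the subgroups outside the core are smaller, hence constrained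
  have hstepV : ∀ X, F.IsFullyNormalized X → Q ≤ X ∧ ¬ X ≤ Q →
      ∀ Y, F.normalizerHom X Y ⊆ F.normalizerHom (V.val Q (normalizerIn S X)) Y ∧
        ¬ V.val Q (normalizerIn S X) ≤ Q := by
    intro X hX hQX Y
    have hN := normSystem_spec F hX.1
    have hTS := normalizerIn_le S X
    haveI := finite_of_le (S := S) hTS
    have hTp := hS.to_le hTS
    have hQT : Q ≤ normalizerIn S X := hQX.1.trans (le_normalizerIn hX.1)
    have hsat := normalizerSystem_saturated hS hF hX _ hN
    have hXn : (normSystem F hX.1).IsNormal X := by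
      refine ⟨le_normalizerIn hX.1, fun Z φ hφ => ?_⟩
      obtain ⟨hφF, hZ, hφN, ψ, hψ, e1, e2⟩ := hφ
      have hle : Z ⊔ X ⊔ X ≤ Z ⊔ X := sup_le le_rfl le_sup_right
      have e2' := (map_subgroupOf_eq_iff ψ le_sup_right).1 e2
      refine ⟨ψ, ⟨hψ, sup_le hZ (le_normalizerIn hX.1), apply_mem_of_sup ψ (fun z => by rw [e1]; exact hφN z)
        (fun x => le_normalizerIn hX.1 (e2'.1 x)), ψ.comp (Subgroup.inclusion hle), restrict_mem F hψ hle,
        fun z => rfl, ?_⟩, e1, e2⟩
      rw [map_subgroupOf_eq_iff _ le_sup_right]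
      exact ⟨fun x => e2'.1 x, fun y hy => e2'.2 y hy⟩
    have hcon : (normSystem F hX.1).IsConstrained p :=
      ih _ (hk ▸ sysRank_normalizer_lt hX.1 hQX.2 hN hXn) hTp _ rfl hsat
        (hV.norm S F inferInstance hS hF hG X hX _ hN)
    have hQM := isNormal_normalizerSystem hX.1 hQ hQT hN
    have hVn := hV.constrained _ _ inferInstance hTp
      (hV.norm S F inferInstance hS hF hG X hX _ hN) hcon Q hQM
    have hcT : c ∈ normalizerIn S X := ⟨hc.1, mem_normalizer_of_conj_mem c (fun x hx => by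
      simpa [mul_assoc] using X.mul_mem hx (hQX.1 (hcx x (hX.1 hx)))) fun x hx => by
      haveI := finite_of_le (S := S) hX.1
      have hn : c ∈ Subgroup.normalizer (X : Set Ω) := mem_normalizer_of_conj_mem_finite fun y hy => by
        simpa [mul_assoc] using X.mul_mem hy (hQX.1 (hcx y (hX.1 hy)))
      simpa using (Subgroup.mem_normalizer_iff.1 (Subgroup.inv_mem _ hn) x).1 hx⟩
    refine ⟨fun φ hφ => ?_, V.not_le inferInstance hTp hQT (hTS.trans hQn) fun h => hcQ (h ⟨hcT, hc.2⟩)⟩
    obtain ⟨ψ, hψ, h1, h2⟩ := hVn.2 Y φ hφ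
    have hVT := V.le (Q := Q) hQT
    have hn : ∀ z ∈ normalizerIn S X, z ∈ normalizerIn S (V.val Q (normalizerIn S X)) := fun z hz =>
      ⟨hz.1, V.normalizer inferInstance hTp hQT z (hQn hz.1) (Subgroup.le_normalizer hz)⟩
    exact ⟨hφ.1, fun y hy => hn y (hφ.2.1 hy), fun y => hn _ (hφ.2.2.1 y), ψ, hψ.1, h1, h2⟩
  set U := V.val Q S with hU
  have hUS : U ≤ S := V.le hQS
  have hUQ : ¬ U ≤ Q := V.not_le inferInstance hS hQS hQn hC
  have hUn : S ≤ Subgroup.normalizer (U : Set Ω) := fun s hs =>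
    V.normalizer inferInstance hS hQS s (hQn hs) (Subgroup.le_normalizer hs)
  set E := normSystemOn F hUS hUn with hE
  refine hUQ (isNormal_le_core (?_ : F.IsNormal U))
  suffices hle : F ≤ E from ⟨hUS, fun P φ hφ => (hle P hφ).2.2.2⟩
  refine alperin_step hS hF fun P hP hbig => ?_
  -- the climbing argument, for `P ⊔ Q`
  have hPn : F.IsFullyNormalized P := by
    rcases hP with rfl | h
    · exact fullyNormalized_top F
    · exact h.2.1
  have hPc : centralizerIn S P ≤ P := by
    rcases hP with rfl | h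
    · exact centralizerIn_le _ _
    · exact centralizerIn_le_of_centric h.1
  have hQP : Q ≤ P := by
    rcases hP with rfl | h
    · exact hQS
    · exact isNormal_le_centricRadical hS hQ h.1 (essential_radical hS hF h)
  have hPQ : ¬ P ≤ Q := fun h => hC fun x hx => h (hPc
    ⟨hx.1, Subgroup.centralizer_le h hx.2⟩)
  have hall : ∀ Y, F.normalizerHom P Y ⊆ E.Hom Y := by
    refine fun Y => ?_
    rcases hP with hPe | h
    · have hT : normalizerIn S P = S := le_antisymm (normalizerIn_le _ _) (hPe ▸ le_normalizerIn le_rfl)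
      have := (hstepV P hPn ⟨hQP, hPQ⟩ Y).1
      rw [hT] at this
      exact this
    have hPlt : P < S := essential_lt hS hF h
    haveI := finite_of_le (S := S) (normalizerIn_le S P)
    refine tower_climb hS hF E (fun X => Q ≤ X ∧ ¬ X ≤ Q) (fun X X' hX hXX' => ?_) (m := Nat.card P)
      (fun N ψ hψ hN => hbig N ψ hψ hN) (fun X hX hok hXS => ?_) (fun X hX hok hXS Y => ?_) P hPn ⟨hQP, hPQ⟩
      (card_lt_of_lt (lt_normalizerIn hS hPlt)) Y
    · obtain ⟨φ, hφ, rfl⟩ := hXX'
      refine ⟨fun q hq => ?_, fun hle => hX.2 fun x hx => ?_⟩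
      · obtain ⟨x, hx, hxe⟩ := exists_preimage_stronglyClosed (isNormal_stronglyClosed hQ) hφ hX.1 hq
        exact ⟨_, hxe⟩
      · obtain ⟨q, hq, hqe⟩ := exists_preimage_stronglyClosed (isNormal_stronglyClosed hQ) hφ hX.1
          (hle ⟨⟨x, hx⟩, rfl⟩)
        have he : q = x := congrArg Subtype.val (F.injective_of_mem hφ hqe)
        exact he ▸ hq
    · set T := normalizerIn S X with hT
      have hTlt : T < S := lt_of_le_of_ne (normalizerIn_le S X) hXS
      have hV' := hstepV X hX hok
      refine ⟨Q ⊔ V.val Q T, sup_le hQS ((V.le (hok.1.trans (le_normalizerIn hX.1))).trans (normalizerIn_le S X)),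
        ⟨le_sup_left, fun hle => (hV' ⊥).2 (le_sup_right.trans hle)⟩, ?_, fun hVE Y φ hφ => ?_⟩
      · refine lt_of_lt_of_le (lt_normalizerIn hS hTlt) fun z hz => ⟨hz.1, ?_⟩
        haveI := finite_of_le (S := S) hTlt.le
        have hn := V.normalizer inferInstance (hS.to_le hTlt.le) (hok.1.trans (le_normalizerIn hX.1)) z (hQn hz.1) hz.2
        refine Subgroup.mem_normalizer_iff_map_conj_eq.2 ?_
        rw [Subgroup.map_sup, Subgroup.mem_normalizer_iff_map_conj_eq.1 (hQn hz.1),
          Subgroup.mem_normalizer_iff_map_conj_eq.1 hn]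
      · obtain ⟨hφF, hY, hφN, ψ, hψ, e1, e2⟩ := (hV' Y).1 hφ
        refine hVE Y ?_
        obtain ⟨ψ', hψ', f1, f2⟩ := hQ.2 _ ψ hψ
        have hle : Y ⊔ (Q ⊔ V.val Q T) ≤ Y ⊔ V.val Q T ⊔ Q := sup_le (le_sup_left.trans le_sup_left)
          (sup_le le_sup_right (le_sup_right.trans le_sup_left))
        have hn : ∀ z ∈ normalizerIn S (V.val Q T), z ∈ normalizerIn S (Q ⊔ V.val Q T) := fun z hz => ⟨hz.1, by
          refine Subgroup.mem_normalizer_iff_map_conj_eq.2 ?_
          rw [Subgroup.map_sup, Subgroup.mem_normalizer_iff_map_conj_eq.1 (hQn hz.1),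
            Subgroup.mem_normalizer_iff_map_conj_eq.1 hz.2]⟩
        refine ⟨hφF, fun y hy => hn y (hY hy), fun y => hn _ (hφN y), ψ'.comp (Subgroup.inclusion hle),
          restrict_mem F hψ' hle, fun y => (f1 (Subgroup.inclusion le_sup_left y)).trans (e1 y), ?_⟩
        have hsub : Q ⊔ V.val Q T ≤ Y ⊔ V.val Q T ⊔ Q :=
          sup_le le_sup_right (le_sup_right.trans le_sup_left)
        haveI := finite_of_le (S := S) (sup_le hQS ((V.le (hok.1.trans (le_normalizerIn hX.1))).trans
          (normalizerIn_le S X)) : Q ⊔ V.val Q T ≤ S)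
        rw [← range_restrict _ (le_sup_right : Q ⊔ V.val Q T ≤ Y ⊔ (Q ⊔ V.val Q T))]
        refine Subgroup.eq_of_le_of_card_ge ?_ (isConj_card ⟨_, restrict_mem F (restrict_mem F hψ' hle) le_sup_right, rfl⟩).le
        rintro _ ⟨x, rfl⟩
        refine apply_mem_of_sup (R := Q ⊔ V.val Q T) (ψ'.comp (Subgroup.inclusion hsub)) (fun q => ?_) (fun v => ?_) x
        · exact Subgroup.mem_sup_left (((map_subgroupOf_eq_iff ψ' le_sup_right).1 f2).1 q)
        · refine Subgroup.mem_sup_right ?_
          show ψ' (Subgroup.inclusion le_sup_left (Subgroup.inclusion le_sup_right v)) ∈ _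
          rw [f1]
          exact ((map_subgroupOf_eq_iff ψ le_sup_right).1 e2).1 v
    · have h1 := (hstepV X hX hok Y).1
      rw [hXS] at h1
      exact h1
  intro α hα
  have hPS := hPn.1
  haveI := finite_of_le (S := S) hPS
  have hαF := (mem_autGroup_iff F hPS α).1 hα
  refine (mem_autGroup_iff E hPS α).2 (hall P ⟨hαF, le_normalizerIn hPS, fun x => le_normalizerIn hPS (α x).2,
    (P.subtype.comp α.toMonoidHom).comp (Subgroup.inclusion (sup_le le_rfl le_rfl)), restrict_mem F hαF _,
    fun x => rfl, ?_⟩)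
  rw [map_subgroupOf_eq_iff _ le_sup_right]
  exact ⟨fun x => (α _).2, fun y hy => ⟨α⁻¹ ⟨y, hy⟩, congrArg Subtype.val (α.apply_symm_apply ⟨y, hy⟩)⟩⟩

end Cfsg.Agent.FusionSys
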