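import Cfsg.Agent.Lib.Fusion.ModelLocal
import Cfsg.Prelude.Def_FusionReduction

/-!
# Section-free systems: centric radical subgroups suffice, and normalizer systems inherit it
-/

set_option autoImplicit false

namespace Cfsg.Agent.FusionSys

open Cfsg Cfsg.FusionSystem

universe u w

variable {Ω : Type u} [Group Ω] {S : Subgroup Ω} [Finite S] {p : ℕ} [hp : Fact p.Prime] {F : FusionSystem S}
  {H : Type w} [Group H]

/-- The centric radical subgroups suffice for being `H`-free. -/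
theorem sectionFree_of_radical (hS : IsPGroup p S) (hF : F.IsSaturated p)
    (h : ∀ Q : Subgroup Ω, F.IsFullyNormalized Q → F.IsCentric Q → F.IsRadical p Q →
      ∀ N : FusionSystem (normalizerIn S Q), F.IsNormalizerSystem Q N →
        ∀ (L : Type u) [Group L] (ι : normalizerIn S Q →* L), N.IsModel p L ι → ¬ Involves H L) :
    F.IsSectionFree p H := by
  intro Q
  induction hk : Nat.card S - Nat.card Q using Nat.strong_induction_on generalizing Q with
  | _ k ih =>
  intro hQn hQc N hN L _ ι hL hinv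
  by_cases hrad : F.IsRadical p Q
  · exact h Q hQn hQc hrad N hN L ι hL hinv
  obtain ⟨hNs, hNQ⟩ := normalizerSystem_constrained hS hF hQn hQc hN
  haveI : Finite (normalizerIn S Q) := finite_of_le (normalizerIn_le S Q)
  haveI := hL.1
  set R := preim ι (Cfsg.pCore p L) with hRdef
  have hR := model_centricNormal hL
  obtain ⟨D⟩ := exists_actionData hL hNQ
  have hQle : (Q.subgroupOf (normalizerIn S Q)).map ι ≤ Cfsg.pCore p L := by
    refine le_sSup ⟨⟨?_⟩, ((hS.to_le (normalizerIn_le S Q)).to_subgroup _).map ι⟩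
    rintro _ ⟨q, hq, rfl⟩ g
    exact ⟨⟨_, hNQ.le ((D.pi g : MulAut Q) ⟨q, hq⟩).2⟩, ((D.pi g : MulAut Q) ⟨q, hq⟩).2, (D.conj g ⟨q, hq⟩).symm⟩
  have hQR : Q ≤ R := fun q hq =>
    (mem_preim (x := ⟨q, hNQ.le hq⟩)).2 (hQle ⟨⟨q, hNQ.le hq⟩, hq, rfl⟩)
  have hne : Q ≠ R := fun he => by
    refine hrad ⟨hQn.1, ?_⟩
    have h1 : N.IsRadical p Q := (model_pCore_eq_iff hL hNQ).1 (le_antisymm (fun g hg => by
      obtain ⟨s, rfl⟩ := model_pCore_le hL hg
      exact ⟨s, he.ge ((mem_preim (x := s)).2 hg), rfl⟩) hQle)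
    have h2 := h1.2
    rwa [normalizerSystem_autGroup hQn.1 hN] at h2
  have hRS : R ≤ S := hR.le.trans (normalizerIn_le S Q)
  haveI := finite_of_le (S := S) hRS
  have hM : ∀ (X : Subgroup Ω) (φ : X →* Ω), φ ∈ N.Hom X ↔ X ≤ normalizerIn S Q ∧
      (∀ x, φ x ∈ normalizerIn S Q) ∧
      ∃ ψ ∈ F.Hom (X ⊔ R), (∀ x : X, ψ (Subgroup.inclusion le_sup_left x) = φ x) ∧
        (R.subgroupOf (X ⊔ R)).map ψ = R ∧ (Q.subgroupOf (X ⊔ R)).map ψ = Q := by
    intro X φ
    constructor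
    · intro hφ
      obtain ⟨ψ, hψ, h1, h2⟩ := hR.normal.2 X φ hφ
      have hψ0 := hψ
      rw [hN] at hψ
      obtain ⟨hψF, -, -, ψ', -, e1, e2⟩ := hψ
      refine ⟨hom_le N hφ, hom_apply_mem N hφ, ψ, hψF, h1, h2, ?_⟩
      have e2' := (map_subgroupOf_eq_iff ψ' le_sup_right).1 e2
      rw [map_subgroupOf_eq_iff _ (hQR.trans le_sup_right)]
      refine ⟨fun q => ?_, fun z hz => ?_⟩
      · refine (congrArg (· ∈ Q) (?_ : _ = ψ' _)).mpr (e2'.1 q)
        exact (e1 (Subgroup.inclusion (hQR.trans le_sup_right) q)).symm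
      · obtain ⟨q, hq⟩ := e2'.2 z hz
        exact ⟨q, ((e1 (Subgroup.inclusion (hQR.trans le_sup_right) q)).symm).trans hq⟩
    · rintro ⟨hX, hφ, ψ, hψ, h1, -, h3⟩
      rw [hN]
      have hle : X ⊔ Q ≤ X ⊔ R := sup_le_sup_left hQR X
      refine ⟨hom_congr F (restrict_mem F hψ le_sup_left) fun x => (h1 x).symm, hX, hφ,
        ψ.comp (Subgroup.inclusion hle), restrict_mem F hψ hle, h1, ?_⟩
      have h3' := (map_subgroupOf_eq_iff ψ (hQR.trans le_sup_right)).1 h3
      rw [map_subgroupOf_eq_iff _ le_sup_right]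
      exact ⟨fun q => h3'.1 q, fun z hz => h3'.2 z hz⟩
  obtain ⟨B', hB'n, hB'c, hemb⟩ := exists_model_overgroup hS hF hQR hR.le (normalizerIn_le S Q)
    (isCentric_mono hQc hQR hRS) inf_le_right hR.normalizer N hM (fun X θ hθ hX _ hXA => by
      have hconj : F.IsConj Q ((Q.subgroupOf R).map θ) := by
        refine ⟨θ.comp (Subgroup.inclusion hQR), restrict_mem F hθ hQR, ?_⟩
        rw [range_restrict]
      refine le_trans ?_ (hQn.2 _ hconj)
      haveI := finite_of_le (normalizerIn_le S ((Q.subgroupOf R).map θ))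
      exact Subgroup.card_le_of_le (le_inf hX hXA)) hL
  have hB'c' := isCentric_isConj (isCentric_mono hQc hQR hRS) hB'c
  obtain ⟨L', _, κ', hL', f, hf⟩ := hemb _ (normSystem_spec F hB'n.1)
  haveI := finite_of_le (S := S) hQn.1
  haveI := finite_of_le (S := S) hB'n.1
  have hlt : Nat.card Q < Nat.card B' := by
    rw [← isConj_card hB'c]
    exact lt_of_le_of_ne (Subgroup.card_le_of_le hQR) fun e => hne (Subgroup.eq_of_le_of_card_ge hQR e.ge)
  have hle : Nat.card B' ≤ Nat.card S := Subgroup.card_le_of_le hB'n.1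
  exact ih _ (by omega) B' rfl hB'n hB'c' _ (normSystem_spec F hB'n.1) L' κ' hL' (involves_of_injective f hf hinv)

/-- Normalizer systems of fully normalized subgroups inherit being `H`-free. -/
theorem sectionFree_normalizer (hS : IsPGroup p S) (hF : F.IsSaturated p) (hfree : F.IsSectionFree p H)
    {Q : Subgroup Ω} (hQ : F.IsFullyNormalized Q) (N : FusionSystem (normalizerIn S Q))
    (hN : F.IsNormalizerSystem Q N) : N.IsSectionFree p H := by
  haveI : Finite (normalizerIn S Q) := finite_of_le (normalizerIn_le S Q)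
  have hNS := normalizerSystem_saturated hS hF hQ N hN
  have hNp : IsPGroup p (normalizerIn S Q) := hS.to_le (normalizerIn_le S Q)
  refine sectionFree_of_radical hNp hNS fun P hPn hPc hPr M hM L _ ι hL hinv => ?_
  have hQP : Q ≤ P := isNormal_le_centricRadical hNp (normalizerSystem_isNormal hQ.1 hN) hPc hPr
  have hPT : P ≤ normalizerIn S Q := hPn.1
  have hPS : P ≤ S := hPT.trans (normalizerIn_le S Q)
  -- conjugates of `P` move to conjugates in the normalizer system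
  have hmove : ∀ (φ : P →* Ω), φ ∈ F.Hom P → ∃ β ∈ F.Hom (normalizerIn S ((Q.subgroupOf P).map φ)),
      ∃ hle : φ.range ≤ normalizerIn S ((Q.subgroupOf P).map φ), (∀ x, β x ∈ normalizerIn S Q) ∧
        N.IsConj P (β.comp (Subgroup.inclusion hle)).range := by
    intro φ hφ
    have hQ' : F.IsConj ((Q.subgroupOf P).map φ) Q := isConj_symm
      ⟨φ.comp (Subgroup.inclusion hQP), restrict_mem F hφ hQP, by rw [range_restrict]⟩
    obtain ⟨β, hβ, hβN, hβQ⟩ := exists_normalizer_map_fullyNormalized hS hF hQ hQ'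
    have hle : φ.range ≤ normalizerIn S ((Q.subgroupOf P).map φ) := by
      rintro _ ⟨x, rfl⟩
      refine ⟨hom_apply_mem F hφ x, mem_normalizer_of_conj_mem _ ?_ ?_⟩
      · rintro _ ⟨q, hq, rfl⟩
        exact ⟨x * q * x⁻¹, (Subgroup.mem_normalizer_iff.1 (hPT x.2).2 _).1 hq, by simp⟩
      · rintro _ ⟨q, hq, rfl⟩
        have h1 := (Subgroup.mem_normalizer_iff.1 ((Subgroup.normalizer (Q : Set Ω)).inv_mem (hPT x.2).2) _).1 hq
        exact ⟨x⁻¹ * q * x, by simpa [Subgroup.mem_subgroupOf] using h1, by simp⟩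
    refine ⟨β, hβ, hle, hβN, ?_⟩
    set χ := (β.comp (Subgroup.inclusion hle)).comp (φ.codRestrict φ.range fun x => ⟨x, rfl⟩) with hχ
    have hχF : χ ∈ F.Hom P := F.comp_mem hφ (restrict_mem F hβ hle) _
    refine ⟨χ, ?_, ?_⟩
    · rw [hN]
      refine ⟨hχF, hPT, fun x => hβN _, χ.comp (Subgroup.inclusion (sup_le le_rfl hQP)), restrict_mem F hχF _,
        fun x => rfl, ?_⟩
      have hQ'le := le_normalizerIn (S := S) ((Subgroup.map_le_range φ _).trans (range_le F hφ) :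
        (Q.subgroupOf P).map φ ≤ S)
      rw [map_subgroupOf_eq_iff _ le_sup_right]
      refine ⟨fun q => hβQ.le ⟨⟨_, hQ'le ⟨⟨q, hQP q.2⟩, q.2, rfl⟩⟩, ⟨⟨q, hQP q.2⟩, q.2, rfl⟩, rfl⟩, fun z hz => ?_⟩
      obtain ⟨w, hw0, hw⟩ := hβQ.ge hz
      obtain ⟨q, hq', hqe⟩ := hw0
      exact ⟨⟨q, hq'⟩, (congrArg β (Subtype.ext hqe)).trans hw⟩
    · ext y
      constructor
      · rintro ⟨x, rfl⟩; exact ⟨_, rfl⟩
      · rintro ⟨⟨_, x, rfl⟩, rfl⟩; exact ⟨x, rfl⟩
  have hPcF : F.IsCentric P := ⟨hPS, by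
    rintro R ⟨φ, hφ, rfl⟩
    obtain ⟨β, hβ, hle, hβN, hconj⟩ := hmove φ hφ
    intro c hc
    have hcN : c ∈ normalizerIn S ((Q.subgroupOf P).map φ) :=
      ⟨hc.1, Subgroup.centralizer_le_normalizer _ (Subgroup.centralizer_le (Subgroup.map_le_range φ _) hc.2)⟩
    obtain ⟨y, hy⟩ := hPc.2 _ hconj (show β ⟨c, hcN⟩ ∈ centralizerIn (normalizerIn S Q) _ from
      ⟨hβN _, Subgroup.mem_centralizer_iff.2 fun z hz => by
        obtain ⟨y, rfl⟩ := hz
        show β _ * β _ = β _ * β _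
        rw [← map_mul, ← map_mul]
        exact congrArg β (Subtype.ext (Subgroup.mem_centralizer_iff.1 hc.2 _ y.2))⟩)
    rw [show c = (y : Ω) from (congrArg Subtype.val (F.injective_of_mem hβ hy)).symm]
    exact y.2⟩
  haveI : ∀ R : Subgroup Ω, Finite (normalizerIn (normalizerIn S Q) R) := fun R =>
    finite_of_le ((normalizerIn_le _ _).trans (normalizerIn_le S Q))
  have hM' : ∀ (X : Subgroup Ω) (φ : X →* Ω), φ ∈ M.Hom X ↔ X ≤ normalizerIn (normalizerIn S Q) P ∧
      (∀ x, φ x ∈ normalizerIn (normalizerIn S Q) P) ∧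
      ∃ ψ ∈ F.Hom (X ⊔ P), (∀ x : X, ψ (Subgroup.inclusion le_sup_left x) = φ x) ∧
        (P.subgroupOf (X ⊔ P)).map ψ = P ∧ (Q.subgroupOf (X ⊔ P)).map ψ = Q := by
    intro X φ
    rw [hM]
    constructor
    · rintro ⟨-, hX, hφ, ψ, hψ, h1, h2⟩
      rw [hN] at hψ
      obtain ⟨hψF, -, -, ψ', -, e1, e2⟩ := hψ
      refine ⟨hX, hφ, ψ, hψF, h1, h2, ?_⟩
      have e2' := (map_subgroupOf_eq_iff ψ' le_sup_right).1 e2
      rw [map_subgroupOf_eq_iff _ (hQP.trans le_sup_right)]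
      refine ⟨fun q => ?_, fun z hz => ?_⟩
      · refine (congrArg (· ∈ Q) (?_ : _ = ψ' _)).mpr (e2'.1 q)
        exact (e1 (Subgroup.inclusion (hQP.trans le_sup_right) q)).symm
      · obtain ⟨q, hq⟩ := e2'.2 z hz
        exact ⟨q, ((e1 (Subgroup.inclusion (hQP.trans le_sup_right) q)).symm).trans hq⟩
    · rintro ⟨hX, hφ, ψ, hψ, h1, h2, h3⟩
      have hψN : ψ ∈ N.Hom (X ⊔ P) := by
        rw [hN]
        have h2' := (map_subgroupOf_eq_iff ψ le_sup_right).1 h2
        have h3' := (map_subgroupOf_eq_iff ψ (hQP.trans le_sup_right)).1 h3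
        refine ⟨hψ, sup_le (hX.trans (normalizerIn_le _ _)) hPT, apply_mem_of_sup ψ (fun x => ?_)
          (fun x => hPT (h2'.1 x)), ψ.comp (Subgroup.inclusion (sup_le le_rfl (hQP.trans le_sup_right))),
          restrict_mem F hψ _, fun x => rfl, ?_⟩
        · rw [h1]; exact normalizerIn_le _ _ (hφ x)
        · rw [map_subgroupOf_eq_iff _ le_sup_right]
          exact ⟨fun q => h3'.1 q, fun z hz => h3'.2 z hz⟩
      exact ⟨hom_congr N (restrict_mem N hψN le_sup_left) fun x => (h1 x).symm, hX, hφ, ψ, hψN, h1, h2⟩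
  obtain ⟨B', hB'n, hB'c, hemb⟩ := exists_model_overgroup hS hF hQP (le_normalizerIn hPT)
    ((normalizerIn_le _ _).trans (normalizerIn_le S Q)) hPcF (fun t ht => ht.1.2) inf_le_right M hM'
    (fun X θ hθ hX hXB hXA => by
      obtain ⟨β, hβ, hle, hβN, hconj⟩ := hmove θ hθ
      have hXN : X ≤ normalizerIn S ((Q.subgroupOf P).map θ) := le_inf hX hXA
      haveI := finite_of_le (S := S) hX
      refine le_trans (le_of_eq ?_) ((Subgroup.card_le_of_le (H := (β.comp (Subgroup.inclusion hXN)).range) ?_).trans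
        (hPn.2 _ hconj))
      · exact isConj_card ⟨β.comp (Subgroup.inclusion hXN), restrict_mem F hβ hXN, rfl⟩
      · rintro _ ⟨x, rfl⟩
        refine ⟨hβN _, mem_normalizer_of_conj_mem _ ?_ ?_⟩
        · rintro _ ⟨y, rfl⟩
          refine ⟨⟨_, (Subgroup.mem_normalizer_iff.1 (hXB x.2) y).1 y.2⟩, ?_⟩
          simp only [MonoidHom.comp_apply, ← map_inv, ← map_mul]
          rfl
        · rintro _ ⟨y, rfl⟩
          refine ⟨⟨(x : Ω)⁻¹ * y * x, ?_⟩, ?_⟩
          · have h1 := (Subgroup.mem_normalizer_iff.1 ((Subgroup.normalizer (θ.range : Set Ω)).inv_mem (hXB x.2)) y).1 y.2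
            simpa using h1
          · simp only [MonoidHom.comp_apply, ← map_inv, ← map_mul]
            rfl) hL
  obtain ⟨L', _, κ', hL', f, hf⟩ := hemb _ (normSystem_spec F hB'n.1)
  exact hfree B' hB'n (isCentric_isConj hPcF hB'c) _ (normSystem_spec F hB'n.1) L' κ' hL'
    (involves_of_injective f hf hinv)

end Cfsg.Agent.FusionSys
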