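import Cfsg.Agent.Lib.Fusion.FunctorRelative
import Cfsg.Agent.Lib.Fusion.ModelSectionFree

/-!
# Section-free systems controlled by a functor
-/

set_option autoImplicit false

namespace Cfsg.Agent.FusionSys

open Cfsg Cfsg.FusionSystem

universe u w

variable {Ω : Type u} [Group Ω] {S : Subgroup Ω} [Finite S] {p : ℕ} [hp : Fact p.Prime] {F : FusionSystem S}
  {H : Type w} [Group H]

/-- A model of a section-free constrained system is section-free. -/
theorem sectionFree_model (hfree : F.IsSectionFree p H) {Q : Subgroup Ω} (hQ : CentricNormal F Q) {L : Type u}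
    [Group L] {ι : S →* L} (hL : F.IsModel p L ι) : ¬ Involves H L := by
  have hn : normalizerIn S Q = S := le_antisymm (normalizerIn_le S Q) (le_inf le_rfl hQ.normalizer)
  set N := normSystem F hQ.le
  set ι' : normalizerIn S Q →* L := ι.comp (Subgroup.inclusion hn.le)
  refine hfree Q (fullyNormalized_of_normal hQ.le hQ.normalizer) hQ.centric N (normSystem_spec F hQ.le) L ι' ?_
  obtain ⟨hfin, ⟨hi, hr⟩, ⟨T, hT⟩, hC⟩ := hL
  refine ⟨hfin, ⟨hi.comp (Subgroup.inclusion_injective _), fun P hP φ hφ => ?_⟩, ⟨T, ?_⟩, hC⟩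
  · have hiff := hr P (hP.trans (normalizerIn_le S Q)) φ fun x => (hφ x).1
    refine ⟨fun h => hiff.1 h.1, fun h => ?_⟩
    have hF := hiff.2 h
    exact ⟨hF, hP, hφ, hQ.normal.2 P φ hF⟩
  · rw [hT]
    ext x
    constructor
    · rintro ⟨s, rfl⟩; exact ⟨⟨s, hn.ge s.2⟩, rfl⟩
    · rintro ⟨s, rfl⟩; exact ⟨_, rfl⟩

variable {W : ∀ (Q : Type u) [Group Q], Subgroup Q}
  (hW1 : ∀ (Q : Type u) [Group Q] [Finite Q], IsPGroup p Q → Nontrivial Q → W Q ≠ ⊥)
  (hW2 : ∀ (Q R : Type u) [Group Q] [Group R] [Finite Q], IsPGroup p Q →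
    ∀ φ : Q ≃* R, (W Q).map φ.toMonoidHom = W R)
  (hW3 : ∀ (L : Type u) [Group L] [Finite L] (P : Sylow p L),
    Subgroup.centralizer ((Cfsg.pCore p L : Subgroup L) : Set L) ≤ Cfsg.pCore p L → ¬ Involves H L →
      ((W ↥(P : Subgroup L)).map (P : Subgroup L).subtype).Normal)
include hW1 hW2 hW3

/-- Section-free saturated systems are constrained. -/
theorem constrained_of_sectionFree (hS : IsPGroup p S) (hF : F.IsSaturated p) (hfree : F.IsSectionFree p H) :
    F.IsConstrained p := by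
  refine constrained_of_control (V := relFunctor hW1 hW2) (Good := fun T M => M.IsSectionFree p H)
    ⟨fun T M hfin hT hM hG X hX N hN => ?_, fun T M hfin hT hG hcon Q hQ => ?_⟩ hS F hF hfree
  · haveI := hfin
    exact sectionFree_normalizer hT hM hG hX N hN
  · haveI := hfin
    obtain ⟨hMs, Z, hZn, hZc⟩ := hcon
    have hZ : CentricNormal M Z := ⟨hZn, hZc⟩
    obtain ⟨L, _, ι, hL⟩ := exists_model hT hMs hZ
    haveI := hL.1
    obtain ⟨P, hP⟩ := hL.2.2.1
    have hQn : ((Q.subgroupOf T).map ι).Normal := ⟨by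
      rintro _ ⟨q, hq, rfl⟩ g
      obtain ⟨q', hq', hqe⟩ := model_conj_mem hL hQ g (q := q) hq
      exact ⟨q', hq', hqe⟩⟩
    have h := relVal_normal hW2 (Cls := fun L _ => ¬ Involves H L)
      (fun A B _ _ f hf hB hA => hB (involves_of_injective f hf hA))
      (fun A B _ _ f hf hA hB => hA (involves_of_surjective f hf hB)) hW3 hQ.1 hL.2.1.1 P hP hL.2.2.2
      (sectionFree_model hG hZ hL) hQn
    haveI := h
    have hn := preim_normal hL.2.1 (K := ((relVal W Q T).subgroupOf T).map ι) (by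
      rintro _ ⟨x, -, rfl⟩; exact ⟨x, rfl⟩)
    have hVT : relVal W Q T ≤ T := (relFunctor hW1 hW2).le hQ.1
    have he : preim ι (((relVal W Q T).subgroupOf T).map ι) = relVal W Q T := by
      ext x
      constructor
      · intro hx
        obtain ⟨y, hy, rfl⟩ := hx
        obtain ⟨z, hz, hze⟩ := Subgroup.mem_comap.1 hy
        rw [hL.2.1.1 hze] at hz
        exact hz
      · intro hx
        exact (mem_preim (x := ⟨x, hVT hx⟩)).2 ⟨_, hx, rfl⟩
    rw [he] at hn
    exact hn

/-- The functor's value is normal. -/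
theorem isNormal_functor (hS : IsPGroup p S) (hF : F.IsSaturated p) (hfree : F.IsSectionFree p H) :
    F.IsNormal ((W S).map S.subtype) := by
  obtain ⟨-, Z, hZn, hZc⟩ := constrained_of_sectionFree hW1 hW2 hW3 hS hF hfree
  obtain ⟨L, _, ι, hL⟩ := exists_model hS hF ⟨hZn, hZc⟩
  haveI := hL.1
  obtain ⟨P, hP⟩ := hL.2.2.1
  set e : S ≃* (P : Subgroup L) := (MonoidHom.ofInjective hL.2.1.1).trans (MulEquiv.subgroupCongr hP.symm)
  have h := hW3 L P hL.2.2.2 (sectionFree_model hfree ⟨hZn, hZc⟩ hL)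
  rw [← hW2 _ _ hS e, Subgroup.map_map, show (P : Subgroup L).subtype.comp e.toMonoidHom = ι from
    MonoidHom.ext fun x => rfl] at h
  haveI := h
  have hn := preim_normal hL.2.1 (K := (W S).map ι) (by rintro _ ⟨x, -, rfl⟩; exact ⟨x, rfl⟩)
  unfold preim at hn
  rwa [Subgroup.comap_map_eq_self_of_injective hL.2.1.1] at hn

/-- The system is the normalizer system of the functor's value. -/
theorem normalizerSystem_eq (hS : IsPGroup p S) (hF : F.IsSaturated p) (hfree : F.IsSectionFree p H)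
    (N : FusionSystem (normalizerIn S ((W S).map S.subtype))) (hN : F.IsNormalizerSystem ((W S).map S.subtype) N)
    (P : Subgroup Ω) : N.Hom P = F.Hom P := by
  have hn := isNormal_functor hW1 hW2 hW3 hS hF hfree
  have hT : S ≤ normalizerIn S ((W S).map S.subtype) := le_inf le_rfl (isNormal_le_normalizer hn)
  rw [hN]
  ext φ
  exact ⟨fun h => h.1, fun h => ⟨h, (hom_le F h).trans hT, fun x => hT (hom_apply_mem F h x), hn.2 P φ h⟩⟩

end Cfsg.Agent.FusionSys
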