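import Cfsg.Agent.Lib.Fusion.FunctorConstrained
import Cfsg.Agent.Lib.Fusion.CharPLemmas
import Cfsg.Agent.Lib.Fusion.Subsystem

/-!
# Relative functors from functors
-/

set_option autoImplicit false

namespace Cfsg.Agent.FusionSys

open Cfsg Cfsg.FusionSystem

universe u

variable {Ω : Type u} [Group Ω]

/-- `Q ∩ C_T(Q)` inside `C_T(Q)`. -/
abbrev relKer (Q T : Subgroup Ω) : Subgroup (centralizerIn T Q) := Q.subgroupOf (centralizerIn T Q)

instance relKer_normal (Q T : Subgroup Ω) : (relKer Q T).Normal := ⟨fun q hq g => by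
  have h : g * q * g⁻¹ = q := mul_inv_eq_iff_eq_mul.2 (Subtype.ext
    (Subgroup.mem_centralizer_iff.1 g.2.2 q (Subgroup.mem_subgroupOf.1 hq)).symm)
  rw [h]; exact hq⟩

/-- The preimage in `C_T(Q)` of the functor's value on `C_T(Q)` modulo `Q`. -/
def relSub (W : ∀ (Q : Type u) [Group Q], Subgroup Q) (Q T : Subgroup Ω) : Subgroup (centralizerIn T Q) :=
  (W (centralizerIn T Q ⧸ relKer Q T)).comap (QuotientGroup.mk' (relKer Q T))

/-- The same, in the ambient group. -/
def relVal (W : ∀ (Q : Type u) [Group Q], Subgroup Q) (Q T : Subgroup Ω) : Subgroup Ω :=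
  (relSub W Q T).map (centralizerIn T Q).subtype

variable {p : ℕ} [hp : Fact p.Prime] {W : ∀ (Q : Type u) [Group Q], Subgroup Q}
  (hW2 : ∀ (Q R : Type u) [Group Q] [Group R] [Finite Q], IsPGroup p Q →
    ∀ φ : Q ≃* R, (W Q).map φ.toMonoidHom = W R)

omit hp in
include hW2 in
theorem relSub_map {Q T : Subgroup Ω} [Finite T] (hT : IsPGroup p T) (e : centralizerIn T Q ≃* centralizerIn T Q)
    (he : (relKer Q T).map e.toMonoidHom = relKer Q T) : (relSub W Q T).map e.toMonoidHom = relSub W Q T := by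
  haveI : Finite (centralizerIn T Q) := finite_of_le (centralizerIn_le T Q)
  set K := relKer Q T
  set eb := QuotientGroup.congr K K e he
  have hW := hW2 _ _ ((hT.to_le (centralizerIn_le T Q)).to_quotient K) eb
  ext x
  obtain ⟨y, rfl⟩ := e.surjective x
  constructor
  · rintro ⟨z, hz, hze⟩
    rw [e.injective hze] at hz
    show QuotientGroup.mk' K (e y) ∈ W _
    rw [← hW]
    exact ⟨QuotientGroup.mk' K y, hz, rfl⟩
  · intro h
    refine ⟨y, ?_, rfl⟩
    have h' : eb (QuotientGroup.mk' K y) ∈ W (centralizerIn T Q ⧸ K) := h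
    rw [← hW] at h'
    obtain ⟨z, hz, hze⟩ := h'
    rw [eb.injective hze] at hz
    exact hz

/-- The relative functor of a functor. -/
def relFunctor (hW1 : ∀ (Q : Type u) [Group Q] [Finite Q], IsPGroup p Q → Nontrivial Q → W Q ≠ ⊥)
    (hW2 : ∀ (Q R : Type u) [Group Q] [Group R] [Finite Q], IsPGroup p Q →
      ∀ φ : Q ≃* R, (W Q).map φ.toMonoidHom = W R) : RelFunctor Ω p where
  val := relVal W
  le := fun _ => (Subgroup.map_subtype_le _).trans (centralizerIn_le _ _)
  not_le := by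
    intro Q T hfin hT hQT _ hnc hle
    haveI := hfin
    haveI : Finite (centralizerIn T Q) := finite_of_le (centralizerIn_le T Q)
    have hnt : Nontrivial (centralizerIn T Q ⧸ relKer Q T) := by
      rw [QuotientGroup.nontrivial_iff]
      intro htop
      exact hnc fun x hx => Subgroup.mem_subgroupOf.1 (htop ▸ Subgroup.mem_top (⟨x, hx⟩ : centralizerIn T Q) :
        (⟨x, hx⟩ : centralizerIn T Q) ∈ relKer Q T)
    refine hW1 _ ((hT.to_le (centralizerIn_le T Q)).to_quotient _) hnt ((Subgroup.eq_bot_iff_forall _).2 fun x hx => ?_)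
    obtain ⟨y, rfl⟩ := QuotientGroup.mk'_surjective _ x
    exact (QuotientGroup.eq_one_iff y).2 (Subgroup.mem_subgroupOf.2 (hle ⟨y, hx, rfl⟩))
  normalizer := by
    intro Q T hfin hT hQT n hnQ hnT
    haveI := hfin
    set C := centralizerIn T Q
    have hnC : n ∈ Subgroup.normalizer (C : Set Ω) := by
      haveI : Finite C := finite_of_le (centralizerIn_le T Q)
      refine mem_normalizer_of_conj_mem_finite fun c hc => ⟨(Subgroup.mem_normalizer_iff.1 hnT c).1 hc.1,
        Subgroup.mem_centralizer_iff.2 fun q hq => ?_⟩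
      have hq' : n⁻¹ * q * n ∈ Q := by
        simpa using (Subgroup.mem_normalizer_iff.1 (Subgroup.inv_mem _ hnQ) q).1 hq
      have h := Subgroup.mem_centralizer_iff.1 hc.2 _ hq'
      calc q * (n * c * n⁻¹) = n * (n⁻¹ * q * n * c) * n⁻¹ := by group
        _ = n * (c * (n⁻¹ * q * n)) * n⁻¹ := by rw [h]
        _ = n * c * n⁻¹ * q := by group
    set e : C ≃* C := C.normalizerMonoidHom ⟨n, hnC⟩
    have hev : ∀ c : C, ((e c : C) : Ω) = n * c * n⁻¹ := fun c => rfl
    have he : (relKer Q T).map e.toMonoidHom = relKer Q T := by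
      ext x
      obtain ⟨y, rfl⟩ := e.surjective x
      refine ⟨?_, fun h => ⟨y, ?_, rfl⟩⟩
      · rintro ⟨z, hz, hze⟩
        rw [e.injective hze] at hz
        exact Subgroup.mem_subgroupOf.2 ((hev y).symm ▸
          (Subgroup.mem_normalizer_iff.1 hnQ _).1 (Subgroup.mem_subgroupOf.1 hz))
      · exact Subgroup.mem_subgroupOf.2 ((Subgroup.mem_normalizer_iff.1 hnQ _).2
          ((hev y) ▸ Subgroup.mem_subgroupOf.1 h))
    have hmap := relSub_map hW2 hT e he
    haveI : Finite (relVal W Q T) := finite_of_le ((Subgroup.map_subtype_le _).trans (centralizerIn_le T Q))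
    refine mem_normalizer_of_conj_mem_finite ?_
    rintro _ ⟨y, hy, rfl⟩
    exact ⟨e y, hmap.le ⟨y, hy, rfl⟩, hev y⟩

include hW2 in
/-- In a group with Sylow subgroup `T` satisfying the normality for its sections, the relative value is normal. -/
theorem relVal_normal {Cls : ∀ (L : Type u) [Group L], Prop}
    (hsub : ∀ (A B : Type u) [Group A] [Group B] (f : A →* B), Function.Injective f → Cls B → Cls A)
    (hquo : ∀ (A B : Type u) [Group A] [Group B] (f : A →* B), Function.Surjective f → Cls A → Cls B)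
    (hW3 : ∀ (L : Type u) [Group L] [Finite L] (P : Sylow p L),
      Subgroup.centralizer ((Cfsg.pCore p L : Subgroup L) : Set L) ≤ Cfsg.pCore p L → Cls L →
        ((W ↥(P : Subgroup L)).map (P : Subgroup L).subtype).Normal)
    {T : Subgroup Ω} [Finite T] {Q : Subgroup Ω} (hQT : Q ≤ T) {L : Type u} [Group L] [Finite L] {ι : T →* L}
    (hι : Function.Injective ι) (P : Sylow p L) (hP : (P : Subgroup L) = ι.range)
    (hL : Subgroup.centralizer ((Cfsg.pCore p L : Subgroup L) : Set L) ≤ Cfsg.pCore p L) (hcls : Cls L)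
    (hQn : ((Q.subgroupOf T).map ι).Normal) :
    (((relVal W Q T).subgroupOf T).map ι).Normal := by
  haveI := hQn
  set C := centralizerIn T Q
  haveI : Finite C := finite_of_le (centralizerIn_le T Q)
  have hTp : IsPGroup p T := (hP ▸ P.2 : IsPGroup p ι.range).of_equiv (MonoidHom.ofInjective hι).symm
  set Qb := (Q.subgroupOf T).map ι with hQb
  set L0 := Subgroup.centralizer (Qb : Set L) with hL0
  haveI hL0n : L0.Normal := by rw [hL0]; infer_instance
  set ιC : C →* L := ι.comp (Subgroup.inclusion (centralizerIn_le T Q)) with hιC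
  have hιCi : Function.Injective ιC := hι.comp (Subgroup.inclusion_injective _)
  have hmem0 : ∀ t : T, ι t ∈ L0 ↔ (t : Ω) ∈ C := fun t => by
    refine ⟨fun h => ⟨t.2, Subgroup.mem_centralizer_iff.2 fun q hq => ?_⟩, fun h => ?_⟩
    · have h1 := Subgroup.mem_centralizer_iff.1 h (ι ⟨q, hQT hq⟩) ⟨_, hq, rfl⟩
      rw [← map_mul, ← map_mul] at h1
      exact congrArg Subtype.val (hι h1)
    · rintro _ ⟨q, hq, rfl⟩
      rw [← map_mul, ← map_mul]
      exact congrArg ι (Subtype.ext (Subgroup.mem_centralizer_iff.1 h.2 q hq))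
  have hC0 : ∀ c : C, ιC c ∈ L0 := fun c => (hmem0 _).2 c.2
  set j : C →* L0 := ιC.codRestrict L0 hC0
  obtain ⟨P0, hP0⟩ := Cfsg.Agent.PBasic.exists_sylow_subgroupOf P L0
  have hjr : (P0 : Subgroup L0) = j.range := by
    rw [hP0]
    ext x
    constructor
    · intro hx
      have hx' : (x : L) ∈ ι.range := hP ▸ hx
      obtain ⟨t, ht⟩ := hx'
      exact ⟨⟨t, (hmem0 t).1 (ht ▸ x.2)⟩, Subtype.ext ht⟩
    · rintro ⟨c, rfl⟩
      show ιC c ∈ (P : Subgroup L)
      rw [hP]; exact ⟨_, rfl⟩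
  set K := relKer Q T
  set K0 := Qb.subgroupOf L0 with hK0
  haveI : K0.Normal := Subgroup.Normal.subgroupOf inferInstance L0
  have hjK : ∀ c : C, j c ∈ K0 ↔ c ∈ K := fun c => by
    refine ⟨fun h => ?_, fun h => ⟨Subgroup.inclusion (centralizerIn_le T Q) c, Subgroup.mem_subgroupOf.1 h, rfl⟩⟩
    obtain ⟨t, ht, hte⟩ := Subgroup.mem_subgroupOf.1 h
    have := hι hte
    rw [this] at ht
    exact ht
  have hK0K : ∀ x : L0, x ∈ K0 → ∃ c ∈ K, j c = x := fun x hx => by
    obtain ⟨t, ht, hte⟩ := Subgroup.mem_subgroupOf.1 hx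
    exact ⟨⟨t, (hmem0 t).1 (hte ▸ x.2)⟩, ht, Subtype.ext hte⟩
  have hK0c : ∀ k ∈ K0, ∀ g : L0, g * k = k * g := fun k hk g =>
    Subtype.ext (Subgroup.mem_centralizer_iff.1 g.2 _ (Subgroup.mem_subgroupOf.1 hk)).symm
  have hK0p : IsPGroup p K0 :=
    ((hTp.to_subgroup _).map ι).comap_of_injective L0.subtype L0.subtype_injective
  have hL1 := centralizer_pCore_le_quotient (centralizer_pCore_le_of_normal hL L0) K0 hK0p hK0c
  set f := QuotientGroup.mk' K0
  set jK : C ⧸ K →* L0 ⧸ K0 := QuotientGroup.lift K (f.comp j) fun c hc => by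
    rw [MonoidHom.mem_ker, MonoidHom.comp_apply, ← MonoidHom.mem_ker, QuotientGroup.ker_mk']
    exact (hjK c).2 hc with hjKdef
  have hjKi : Function.Injective jK := (injective_iff_map_eq_one jK).2 fun x hx => by
    obtain ⟨c, rfl⟩ := QuotientGroup.mk_surjective x
    have hc : f (j c) = 1 := hx
    rw [← MonoidHom.mem_ker, QuotientGroup.ker_mk'] at hc
    exact (QuotientGroup.eq_one_iff c).2 ((hjK c).1 hc)
  set P1 := P0.mapSurjective (QuotientGroup.mk'_surjective K0)
  have hP1 : jK.range = (P1 : Subgroup (L0 ⧸ K0)) := by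
    rw [Sylow.coe_mapSurjective, hjr, ← MonoidHom.range_comp]
    ext z
    constructor
    · rintro ⟨x, rfl⟩
      obtain ⟨c, rfl⟩ := QuotientGroup.mk_surjective x
      exact ⟨c, rfl⟩
    · rintro ⟨c, rfl⟩; exact ⟨(c : C ⧸ K), rfl⟩
  set e1 : C ⧸ K ≃* (P1 : Subgroup (L0 ⧸ K0)) :=
    (MonoidHom.ofInjective hjKi).trans (MulEquiv.subgroupCongr hP1)
  have hWe := hW2 _ _ ((hTp.to_le (centralizerIn_le T Q)).to_quotient K) e1
  haveI hW1n : ((W (C ⧸ K)).map jK).Normal := by
    have h := hW3 (L0 ⧸ K0) P1 hL1 (hquo L0 _ f (QuotientGroup.mk'_surjective K0)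
      (hsub L0 L L0.subtype L0.subtype_injective hcls))
    rw [← hWe, Subgroup.map_map] at h
    convert h using 2
    ext x; rfl
  set W0 := ((W (C ⧸ K)).map jK).comap f
  have hW0 : W0 = (relSub W Q T).map j := by
    ext x
    constructor
    · rintro ⟨y, hy, hye⟩
      obtain ⟨c, rfl⟩ := QuotientGroup.mk_surjective y
      have h1 : (j c)⁻¹ * x ∈ K0 := QuotientGroup.eq.1 (show (f (j c)) = f x from hye)
      obtain ⟨k, hk, hke⟩ := hK0K _ h1
      refine ⟨c * k, ?_, by rw [map_mul, hke, mul_inv_cancel_left]⟩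
      show QuotientGroup.mk' K (c * k) ∈ W _
      rw [map_mul, show QuotientGroup.mk' K k = 1 from (QuotientGroup.eq_one_iff k).2 hk, mul_one]
      exact hy
    · rintro ⟨c, hc, rfl⟩
      exact ⟨_, hc, rfl⟩
  have hV : ((relVal W Q T).subgroupOf T).map ι = W0.map L0.subtype := by
    rw [hW0, Subgroup.map_map]
    ext x
    constructor
    · rintro ⟨t, ⟨c, hc, hce⟩, rfl⟩
      exact ⟨c, hc, congrArg ι (Subtype.ext hce)⟩
    · rintro ⟨c, hc, rfl⟩
      exact ⟨_, ⟨c, hc, rfl⟩, rfl⟩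
  rw [hV]
  refine ⟨?_⟩
  rintro _ ⟨x, hx, rfl⟩ g
  obtain ⟨n, hn, h, hh, rfl⟩ := exists_frattini P L0 g
  have hx1 : (⟨h, hh⟩ : L0) * x * (⟨h, hh⟩ : L0)⁻¹ ∈ W0 :=
    Subgroup.Normal.conj_mem (Subgroup.Normal.comap hW1n f) x hx _
  generalize hy : (⟨h, hh⟩ : L0) * x * (⟨h, hh⟩ : L0)⁻¹ = y at hx1
  have hgoal : n * h * L0.subtype x * (n * h)⁻¹ = n * (y : L) * n⁻¹ := by
    rw [← hy]
    show n * h * (x : L) * (n * h)⁻¹ = n * (h * (x : L) * h⁻¹) * n⁻¹
    group
  rw [hgoal]
  rw [hW0] at hx1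
  obtain ⟨c, hc, rfl⟩ := hx1
  -- the automorphism of `C` induced by `n`
  have hrange : ιC.range = (P : Subgroup L) ⊓ L0 := by
    rw [hP]
    ext z
    constructor
    · rintro ⟨d, rfl⟩; exact ⟨⟨_, rfl⟩, hC0 d⟩
    · rintro ⟨⟨t, rfl⟩, ht⟩; exact ⟨⟨t, (hmem0 t).1 ht⟩, rfl⟩
  rw [← hrange] at hn
  set eC := MonoidHom.ofInjective hιCi
  set a : C ≃* C := eC.trans ((ιC.range.normalizerMonoidHom ⟨n, hn⟩).trans eC.symm)
  have ha : ∀ d, ιC (a d) = n * ιC d * n⁻¹ := fun d =>
    congrArg Subtype.val (eC.apply_symm_apply (ιC.range.normalizerMonoidHom ⟨n, hn⟩ (eC d)))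
  have haK : K.map a.toMonoidHom = K := by
    refine Subgroup.eq_of_le_of_card_ge ?_ (Subgroup.card_map_of_injective (f := a.toMonoidHom) a.injective).ge
    rintro _ ⟨d, hd, rfl⟩
    refine (hjK _).1 ?_
    show ιC (a d) ∈ Qb
    rw [ha]
    exact hQn.conj_mem _ (show ιC d ∈ Qb from ⟨Subgroup.inclusion (centralizerIn_le T Q) d, Subgroup.mem_subgroupOf.1 hd, rfl⟩) n
  refine ⟨j (a c), ?_, ha c⟩
  rw [hW0]
  exact Subgroup.mem_map_of_mem j ((relSub_map hW2 hTp a haK).le ⟨c, hc, rfl⟩)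

end Cfsg.Agent.FusionSys
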