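import Cfsg.Agent.Lib.Fusion.GeneratedStab
import Cfsg.Agent.Lib.Fusion.CardLt

/-!
# The saturation criterion for generated systems

Induction on the index of a subgroup `P` outside the generating family: all conjugates map their normalizers into
that of a fully normalized one, every automorphism extends to the subgroup inducing `O_p(Aut(P))`, and the Sylow
and extension axioms follow from those at that subgroup.
-/

set_option autoImplicit false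

namespace Cfsg.Agent.FusionSys

open Cfsg Cfsg.FusionSystem

variable {Ω : Type*} [Group Ω] {S : Subgroup Ω} [Finite S] {p : ℕ} [hp : Fact p.Prime]

/-- A fully automized receptive conjugate exists. -/
def SatClass (F : FusionSystem S) (p : ℕ) (R : Subgroup Ω) : Prop :=
  ∃ Q, F.IsConj R Q ∧ F.IsFullyAutomized p Q ∧ F.IsReceptive Q

/-- A map of the whole normalizer of `a` carrying `a` to `P`. -/
def Arrow (F : FusionSystem S) (a P : Subgroup Ω) : Prop :=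
  ∃ ψ ∈ F.Hom (normalizerIn S a), imgOf ψ a = P

omit [Finite S] hp in
theorem range_comp_of_range {R T : Subgroup Ω} (φ : R →* Ω) (ψ : T →* Ω) (h : ∀ x, φ x ∈ T) (hr : φ.range = T) :
    (ψ.comp (φ.codRestrict T h)).range = ψ.range := by
  ext y
  constructor
  · rintro ⟨x, rfl⟩; exact ⟨_, rfl⟩
  · rintro ⟨z, rfl⟩
    obtain ⟨x, hx⟩ := hr.ge z.2
    exact ⟨x, congrArg ψ (Subtype.ext hx)⟩

omit [Finite S] hp in
theorem exists_preimg {R c : Subgroup Ω} (φ : R →* Ω) (hc : c ≤ φ.range) : ∃ a ≤ R, imgOf φ a = c := by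
  refine ⟨(c.comap φ).map R.subtype, Subgroup.map_subtype_le _, ?_⟩
  rw [imgOf, ← Subgroup.comap_subtype, Subgroup.comap_map_eq_self_of_injective R.subtype_injective,
    Subgroup.map_comap_eq_self hc]

omit hp in
theorem imgOf_eq_of_mapsTo (F : FusionSystem S) {R a b : Subgroup Ω} {φ : R →* Ω} (hφ : φ ∈ F.Hom R) (ha : a ≤ R)
    (hb : b ≤ S) (h : ∀ x : R, (x : Ω) ∈ a → φ x ∈ b) (hc : Nat.card b ≤ Nat.card a) : imgOf φ a = b := by
  haveI := finite_of_le hb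
  refine Subgroup.eq_of_le_of_card_ge ?_ (by rwa [card_imgOf F hφ ha])
  rintro _ ⟨x, hx, rfl⟩
  exact h x hx

theorem lt_hub_domain (hS : IsPGroup p S) {R a : Subgroup Ω} (haS : normalizerIn S a ≤ S)
    (hR : R < normalizerIn S a) : R < normalizerIn S R ⊓ Subgroup.normalizer (a : Set Ω) := by
  haveI := finite_of_le haS
  refine lt_of_lt_of_le (Cfsg.Agent.Fusion.lt_inf_normalizer (hS.to_le haS).isNilpotent hR) ?_
  exact fun x hx => ⟨⟨hx.1.1, hx.2⟩, hx.1.2⟩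

omit [Finite S] hp in
theorem imgOf_hub {F : FusionSystem S} {R Q W a b : Subgroup Ω} {θ : R →* Ω} (hr : θ.range = Q) (haR : a ≤ R)
    (hRW : R ≤ W) (hb : imgOf θ a = b) {k : MulAut Q} (hk : k ∈ stabSub Q b) {ψ : W →* Ω}
    (hψ : ∀ (x : R) (hx : (x : Ω) ∈ W), ψ ⟨x, hx⟩ = ((k ⟨θ x, hr.le ⟨x, rfl⟩⟩ : Q) : Ω)) :
    imgOf ψ a = b := by
  subst hb
  ext y
  constructor
  · rintro ⟨⟨x, hxW⟩, hx, rfl⟩
    rw [hψ ⟨x, haR hx⟩ hxW]
    exact (hk _).2 ⟨⟨x, haR hx⟩, hx, rfl⟩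
  · intro hy
    obtain ⟨x, hxa, hxy⟩ := hy
    have hyQ : y ∈ Q := hxy ▸ hr.le ⟨x, rfl⟩
    have h1 : ((k⁻¹ ⟨y, hyQ⟩ : Q) : Ω) ∈ imgOf θ a := by
      have := hk (k⁻¹ ⟨y, hyQ⟩)
      rw [MulAut.apply_inv_self] at this
      exact this.1 ⟨x, hxa, hxy⟩
    obtain ⟨z, hz, hzy⟩ := h1
    refine ⟨⟨z, hRW z.2⟩, hz, ?_⟩
    rw [hψ z (hRW z.2), show (⟨θ z, hr.le ⟨z, rfl⟩⟩ : Q) = k⁻¹ ⟨y, hyQ⟩ from Subtype.ext hzy,
      MulAut.apply_inv_self]

section class_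

variable {F : FusionSystem S} {P : Subgroup Ω}

/-- A step on a larger subgroup transports the property of having an arrow to `P`. -/
theorem good_step (hS : IsPGroup p S) (hsat : ∀ R ≤ S, Nat.card P < Nat.card R → SatClass F p R)
    (hP : F.IsFullyNormalized P) {R a : Subgroup Ω} {φ : R →* Ω} (hφ : φ ∈ F.Hom R) (haR : a < R)
    (hRN : R ≤ normalizerIn S a) (hPa : F.IsConj P a) (hgood : Arrow F (imgOf φ a) P) : Arrow F a P := by
  induction hk : Nat.card S - Nat.card R using Nat.strong_induction_on generalizing R a with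
  | _ n ih =>
  have hRS := hom_le F hφ
  haveI := finite_of_le hRS
  obtain ⟨χ, hχ, hχP⟩ := hgood
  have hval : ∀ x : R, φ x ∈ normalizerIn S (imgOf φ a) := fun x => imgOf_mem_normalizer F hφ haR.le x (hRN x.2).2
  have hθ := F.comp_mem hφ hχ hval
  set θ := χ.comp (φ.codRestrict _ hval)
  have hθa : imgOf θ a = P := by rw [imgOf_comp, hχP]
  rcases eq_or_lt_of_le hRN with he | hlt
  · subst he; exact ⟨θ, hθ, hθa⟩
  haveI := finite_of_le (normalizerIn_le S a)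
  haveI := finite_of_le (normalizerIn_le S P)
  set M := θ.range with hM
  have hMN : M ≤ normalizerIn S P := by
    rintro _ ⟨x, rfl⟩
    exact hθa ▸ imgOf_mem_normalizer F hθ haR.le x (hRN x.2).2
  have hcM : Nat.card M = Nat.card R := (isConj_card ⟨θ, hθ, rfl⟩).symm
  have hMlt : M < normalizerIn S P := by
    refine lt_of_le_of_ne hMN fun he => ?_
    have h1 := card_lt_of_lt hlt
    have h2 := hP.2 a hPa
    rw [← he] at h2
    omega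
  have hcP : Nat.card P = Nat.card a := isConj_card hPa
  have hPR : Nat.card P < Nat.card R := hcP ▸ card_lt_of_lt haR
  obtain ⟨Q, ⟨θ₁, hθ₁, hθ₁r⟩, hQA, hQR⟩ := hsat R hRS hPR
  obtain ⟨γ, hγ, hsyl⟩ := exists_sylStab hS hQA (a := imgOf θ₁ a) (hθ₁r ▸ imgOf_le_range θ₁)
  have hγm := (mem_autGroup_iff F hQA.1 γ).1 hγ
  have hθ₁' := F.comp_mem hθ₁ hγm fun x => hθ₁r.le ⟨x, rfl⟩
  set θ₁' := (Q.subtype.comp γ.toMonoidHom).comp (θ₁.codRestrict Q fun x => hθ₁r.le ⟨x, rfl⟩)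
  rw [← imgOf_comp θ₁ (Q.subtype.comp γ.toMonoidHom) fun x => hθ₁r.le ⟨x, rfl⟩] at hsyl
  set b := imgOf θ₁' a
  have hr₁ : θ₁'.range = Q := by
    rw [range_comp_of_range _ _ _ hθ₁r, MonoidHom.range_comp, MonoidHom.range_eq_top.2 γ.surjective,
      ← MonoidHom.range_eq_map, Subgroup.range_subtype]
  obtain ⟨θi, hθi, -, hθir, hθiimg⟩ := exists_inv_imgOf F hθ
  have hv₂ : ∀ y, θi y ∈ R := fun y => hθir.le ⟨y, rfl⟩
  have hθ₂ := F.comp_mem hθi hθ₁' hv₂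
  set θ₂ := θ₁'.comp (θi.codRestrict R hv₂)
  have hr₂ : θ₂.range = Q := by rw [range_comp_of_range _ _ _ hθir, hr₁]
  have hθiP : imgOf θi P = a := by rw [← hθa]; exact hθiimg a haR.le
  have hb₂ : imgOf θ₂ P = b := by rw [imgOf_comp, hθiP]
  have hPM : P ≤ M := hθa ▸ imgOf_le_range θ
  obtain ⟨k₁, hk₁, ψ₁, hψ₁, hψ₁e⟩ := to_hub hS hQR hθ₁' hr₁ haR.le rfl hsyl
  obtain ⟨k₂, hk₂, ψ₂, hψ₂, hψ₂e⟩ := to_hub hS hQR hθ₂ hr₂ hPM hb₂ hsyl
  have hW₁ := lt_hub_domain hS (normalizerIn_le S a) hlt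
  have hW₂ := lt_hub_domain hS (normalizerIn_le S P) hMlt
  have i₁ := imgOf_hub (F := F) hr₁ haR.le hW₁.le rfl hk₁.2 hψ₁e
  have i₂ := imgOf_hub (F := F) hr₂ hPM hW₂.le hb₂ hk₂.2 hψ₂e
  haveI := finite_of_le (hom_le F hψ₁)
  haveI := finite_of_le (hom_le F hψ₂)
  have hle : ∀ W : Subgroup Ω, W ≤ S → Nat.card W ≤ Nat.card S := fun W hW => Subgroup.card_le_of_le hW
  have hgb : Arrow F b P := by
    obtain ⟨ψi, hψi, -, hψir, hψiimg⟩ := exists_inv_imgOf F hψ₂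
    have hc := card_imgOf F hψ₂ le_rfl
    rw [imgOf_self] at hc
    change Nat.card ψ₂.range = Nat.card (normalizerIn S M ⊓ Subgroup.normalizer (P : Set Ω) : Subgroup Ω) at hc
    have hbP : imgOf ψi b = P := by rw [← i₂]; exact hψiimg P (hPM.trans hW₂.le)
    have hbr : b ≤ ψ₂.range := i₂ ▸ imgOf_le_range ψ₂
    refine ih _ ?_ hψi (lt_of_le_of_ne hbr fun he => ?_) ?_ ?_ ?_ rfl
    · have := card_lt_of_lt hW₂
      have := hle _ (range_le F hψ₂)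
      omega
    · have h1 : Nat.card b = Nat.card P := by rw [← i₂]; exact card_imgOf F hψ₂ (hPM.trans hW₂.le)
      rw [he] at h1
      have := card_lt_of_lt hW₂
      omega
    · rintro _ ⟨x, rfl⟩
      exact i₂ ▸ imgOf_mem_normalizer F hψ₂ (hPM.trans hW₂.le) x x.2.2
    · exact i₂ ▸ isConj_imgOf F hψ₂ (hPM.trans hW₂.le)
    · rw [hbP]
      exact ⟨_, subtype_mem F (normalizerIn_le S P), imgOf_subtype (le_normalizerIn hP.1)⟩
  refine ih _ ?_ hψ₁ (haR.trans_le hW₁.le) (fun x hx => ⟨hx.1.1, hx.2⟩) hPa (i₁.symm ▸ hgb) rfl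
  have := card_lt_of_lt hW₁
  have := hle _ (hom_le F hψ₁)
  omega

theorem lt_inf_normalizerIn (hS : IsPGroup p S) {R a : Subgroup Ω} (hRS : R ≤ S) (haR : a < R) :
    a < R ⊓ normalizerIn S a := by
  haveI := finite_of_le hRS
  refine lt_of_lt_of_le (Cfsg.Agent.Fusion.lt_inf_normalizer (hS.to_le hRS).isNilpotent haR) ?_
  exact fun x hx => ⟨hx.1, hRS hx.1, hx.2⟩

theorem good_step_iff (hS : IsPGroup p S) (hsat : ∀ R ≤ S, Nat.card P < Nat.card R → SatClass F p R)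
    (hP : F.IsFullyNormalized P) {R a : Subgroup Ω} {φ : R →* Ω} (hφ : φ ∈ F.Hom R) (haR : a < R)
    (hPa : F.IsConj P a) : Arrow F a P ↔ Arrow F (imgOf φ a) P := by
  have key : ∀ {R a : Subgroup Ω} {φ : R →* Ω}, φ ∈ F.Hom R → a < R → F.IsConj P a →
      Arrow F (imgOf φ a) P → Arrow F a P := by
    intro R a φ hφ haR hPa h
    have hlt := lt_inf_normalizerIn hS (hom_le F hφ) haR
    refine good_step hS hsat hP (restrict_mem F hφ inf_le_left) hlt inf_le_right hPa ?_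
    rwa [imgOf_congr hlt.le haR.le (φ' := φ) fun x hx => rfl]
  refine ⟨fun h => ?_, key hφ haR hPa⟩
  obtain ⟨ψ, hψ, -, -, hψimg⟩ := exists_inv_imgOf F hφ
  refine key hψ (lt_of_le_of_ne (imgOf_le_range φ) fun he => ?_) (isConj_trans hPa (isConj_imgOf F hφ haR.le)) ?_
  · haveI := finite_of_le (hom_le F hφ)
    have h1 := card_imgOf F hφ haR.le
    rw [he, ← isConj_card ⟨φ, hφ, rfl⟩] at h1
    exact (card_lt_of_lt haR).ne h1.symm
  · rwa [hψimg a haR.le]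

/-- Every conjugate of `P` has an arrow to `P`. -/
theorem good_all (hS : IsPGroup p S) (hsat : ∀ R ≤ S, Nat.card P < Nat.card R → SatClass F p R)
    (hP : F.IsFullyNormalized P) (ℋ : Set (Subgroup Ω)) (hℋconj : ∀ P ∈ ℋ, ∀ Q, F.IsConj P Q → Q ∈ ℋ)
    (hgen : ∀ E : FusionSystem S, (∀ P ∈ ℋ, F.Hom P ⊆ E.Hom P) → F ≤ E) (hPn : P ∉ ℋ) (hSℋ : S ∈ ℋ) :
    ∀ a, F.IsConj P a → Arrow F a P := by
  have hne : ∀ R ∈ ℋ, ∀ a, F.IsConj P a → a ≠ R := fun R hR a ha he =>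
    hPn (hℋconj R hR P (he ▸ isConj_symm ha))
  let E : FusionSystem S :=
    { Hom := fun R => {φ | φ ∈ F.Hom R ∧ ∀ a ≤ R, F.IsConj P a → (Arrow F a P ↔ Arrow F (imgOf φ a) P)}
      le_of_mem := fun h => F.le_of_mem h.1
      injective_of_mem := fun h => F.injective_of_mem h.1
      conj_mem := by
        intro R g hR hg
        refine ⟨F.conj_mem hR hg, fun a ha hPa => ?_⟩
        rw [imgOf_congr ha (ha.trans hR) (φ' := conjHom S g) fun x hx => rfl]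
        exact good_step_iff hS hsat hP (F.conj_mem le_rfl hg) (lt_of_le_of_ne (ha.trans hR) (hne S hSℋ a hPa)) hPa
      comp_mem := by
        rintro R T φ ψ ⟨hφ, h1⟩ ⟨hψ, h2⟩ h
        refine ⟨F.comp_mem hφ hψ h, fun a ha hPa => ?_⟩
        rw [h1 a ha hPa, imgOf_comp]
        refine h2 _ ?_ (isConj_trans hPa (isConj_imgOf F hφ ha))
        rintro _ ⟨x, -, rfl⟩
        exact h x
      inv_mem := by
        rintro R φ ⟨hφ, h1⟩
        obtain ⟨ψ, hψ, he, -, hψimg⟩ := exists_inv_imgOf F hφ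
        refine ⟨ψ, ⟨hψ, fun c hc hPc => ?_⟩, fun x => he x _⟩
        obtain ⟨a, ha, rfl⟩ := exists_preimg φ hc
        rw [hψimg a ha]
        exact (h1 a ha (isConj_trans hPc (isConj_symm (isConj_imgOf F hφ ha)))).symm }
  have hFE := hgen E fun R hR φ hφ =>
    ⟨hφ, fun a ha hPa => good_step_iff hS hsat hP hφ (lt_of_le_of_ne ha (hne R hR a hPa)) hPa⟩
  intro a ha
  obtain ⟨φ, hφ, hr⟩ := isConj_symm ha
  rw [(hFE a hφ).2 a le_rfl ha, imgOf_self, hr]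
  exact ⟨_, subtype_mem F (normalizerIn_le S P), imgOf_subtype (le_normalizerIn hP.1)⟩

/-- `f` extends to the subgroup inducing `O_p(Aut_F(P))`. -/
def ExtRel (F : FusionSystem S) (p : ℕ) (P : Subgroup Ω) (f : P → Ω) : Prop :=
  ∃ ψ ∈ F.Hom (coreExt F p P), ∀ (x : P) (hx : (x : Ω) ∈ coreExt F p P), ψ ⟨x, hx⟩ = f x

theorem extRel_values (hS : IsPGroup p S) (hPS : P ≤ S) {f : P → Ω} (hf : ∀ x, f x ∈ P) {ψ : coreExt F p P →* Ω}
    (hψ : ψ ∈ F.Hom (coreExt F p P)) (he : ∀ (x : P) (hx : (x : Ω) ∈ coreExt F p P), ψ ⟨x, hx⟩ = f x) :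
    imgOf ψ P = P ∧ ∀ u, ψ u ∈ coreExt F p P := by
  have h1 : imgOf ψ P = P :=
    imgOf_eq_of_mapsTo F hψ (le_coreExt hS F hPS) hPS (fun x hx => (he ⟨x, hx⟩ x.2).symm ▸ hf _) le_rfl
  exact ⟨h1, fun u => by have := apply_mem_coreExt (p := p) F hψ (le_coreExt hS F hPS) u u.2; rwa [h1] at this⟩

theorem extRel_comp (hS : IsPGroup p S) (hPS : P ≤ S) {f g h : P → Ω} (hf : ∀ x, f x ∈ P)
    (hh : ∀ x, h x = g ⟨f x, hf x⟩) (h1 : ExtRel F p P f) (h2 : ExtRel F p P g) : ExtRel F p P h := by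
  obtain ⟨ψ, hψ, he⟩ := h1
  obtain ⟨χ, hχ, hχe⟩ := h2
  obtain ⟨-, hv⟩ := extRel_values hS hPS hf hψ he
  refine ⟨_, F.comp_mem hψ hχ hv, fun x hx => ?_⟩
  rw [hh, ← hχe ⟨f x, hf x⟩ (le_coreExt hS F hPS (hf x))]
  exact congrArg χ (Subtype.ext (he x hx))

theorem extRel_inv (hS : IsPGroup p S) (hPS : P ≤ S) {f g : P → Ω} (hf : ∀ x, f x ∈ P)
    (hg : ∀ x, g ⟨f x, hf x⟩ = x) (h1 : ExtRel F p P f) : ExtRel F p P g := by
  obtain ⟨ψ, hψ, he⟩ := h1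
  obtain ⟨hP, hv⟩ := extRel_values hS hPS hf hψ he
  obtain ⟨χ, hχ, hχe, -, -⟩ := exists_inv_imgOf F hψ
  have hU : coreExt F p P ≤ ψ.range := by
    haveI := finite_of_le (hom_le F hψ)
    refine le_of_eq (Subgroup.eq_of_le_of_card_ge ?_ (isConj_card ⟨ψ, hψ, rfl⟩).le).symm
    rintro _ ⟨u, rfl⟩; exact hv u
  refine ⟨χ.comp (Subgroup.inclusion hU), restrict_mem F hχ hU, fun y hy => ?_⟩
  obtain ⟨⟨x, hxU⟩, hx, hxy⟩ := hP.ge y.2
  have e1 : f ⟨x, hx⟩ = y := (he ⟨x, hx⟩ hxU).symm.trans hxy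
  have hyy : y = (⟨f ⟨x, hx⟩, hf _⟩ : P) := Subtype.ext e1.symm
  subst hyy
  rw [hg]
  exact (congrArg χ (Subtype.ext ((he ⟨x, hx⟩ hxU).symm))).trans (hχe ⟨x, hxU⟩ ⟨_, rfl⟩)

theorem coreExt_le_normalizer (hS : IsPGroup p S) (hPS : P ≤ S) :
    normalizerIn S P ≤ Subgroup.normalizer (coreExt F p P : Set Ω) := by
  intro g hg
  have hUS : coreExt F p P ≤ S := (coreExt_le F hPS).trans (normalizerIn_le S P)
  haveI := finite_of_le hUS
  refine mem_normalizer_of_conj_mem_finite fun u hu => ?_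
  have h1 : imgOf (conjHom (coreExt F p P) g) P = P :=
    imgOf_eq_of_mapsTo F (F.conj_mem hUS hg.1) (le_coreExt hS F hPS) hPS
      (fun x hx => (Subgroup.mem_normalizer_iff.1 hg.2 _).1 hx) le_rfl
  have := apply_mem_coreExt (p := p) F (F.conj_mem hUS hg.1) (le_coreExt hS F hPS) ⟨u, hu⟩ hu
  rwa [h1] at this

/-- An automorphism of `P` that extends to a larger subgroup extends to the subgroup inducing `O_p(Aut_F(P))`. -/
theorem loop (hS : IsPGroup p S) (hsat : ∀ R ≤ S, Nat.card P < Nat.card R → SatClass F p R)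
    (hP : F.IsFullyNormalized P) (hgood : ∀ a, F.IsConj P a → Arrow F a P) {R : Subgroup Ω} {φ : R →* Ω}
    (hφ : φ ∈ F.Hom R) (hPR : P < R) (hRN : R ≤ normalizerIn S P) (hφP : imgOf φ P = P) :
    ExtRel F p P fun x => φ ⟨x, hPR.le x.2⟩ := by
  induction hk : Nat.card S - Nat.card R using Nat.strong_induction_on generalizing R with
  | _ n ih =>
  have hPS := hP.1
  have hRS := hom_le F hφ
  haveI := finite_of_le hRS
  haveI := finite_of_le (normalizerIn_le S P)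
  have hUN := coreExt_le (p := p) F hPS
  by_cases hUR : coreExt F p P ≤ R
  · exact ⟨_, restrict_mem F hφ hUR, fun x hx => rfl⟩
  obtain ⟨u, huU, huN, huR⟩ : ∃ u ∈ coreExt F p P, u ∈ Subgroup.normalizer (R : Set Ω) ∧ u ∉ R := by
    have hlt : R < R ⊔ coreExt F p P := lt_of_le_of_ne le_sup_left fun he => hUR (he ▸ le_sup_right)
    have hsS : R ⊔ coreExt F p P ≤ S := sup_le hRS (hUN.trans (normalizerIn_le S P))
    haveI := finite_of_le hsS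
    obtain ⟨g, hg, hgR⟩ := SetLike.exists_of_lt (Cfsg.Agent.Fusion.lt_inf_normalizer (hS.to_le hsS).isNilpotent hlt)
    have hg1 : g ∈ ((R ⊔ coreExt F p P : Subgroup Ω) : Set Ω) := hg.1
    rw [Subgroup.coe_mul_of_left_le_normalizer_right _ _ (hRN.trans (coreExt_le_normalizer hS hPS))] at hg1
    obtain ⟨r, hr, u, hu, rfl⟩ := hg1
    exact ⟨u, hu, ((Subgroup.normalizer (R : Set Ω)).mul_mem_cancel_left (Subgroup.le_normalizer hr)).1 hg.2,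
      fun h => hgR (R.mul_mem hr h)⟩
  have hlt : R < normalizerIn S P := lt_of_le_of_ne hRN fun he => huR (he.ge (hUN huU))
  set M := φ.range with hM
  have hMN : M ≤ normalizerIn S P := by
    rintro _ ⟨x, rfl⟩
    exact hφP ▸ imgOf_mem_normalizer F hφ hPR.le x (hRN x.2).2
  have hcM : Nat.card M = Nat.card R := (isConj_card ⟨φ, hφ, rfl⟩).symm
  have hMlt : M < normalizerIn S P := lt_of_le_of_ne hMN fun he => by
    have h1 := card_lt_of_lt hlt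
    rw [← he] at h1
    omega
  obtain ⟨Q, ⟨θ₁, hθ₁, hθ₁r⟩, hQA, hQR⟩ := hsat R hRS (card_lt_of_lt hPR)
  haveI := finite_of_le hQA.1
  obtain ⟨γ, hγ, hsyl⟩ := exists_sylStab hS hQA (a := imgOf θ₁ P) (hθ₁r ▸ imgOf_le_range θ₁)
  have hγm := (mem_autGroup_iff F hQA.1 γ).1 hγ
  have hθ₁' := F.comp_mem hθ₁ hγm fun x => hθ₁r.le ⟨x, rfl⟩
  set θ₁' := (Q.subtype.comp γ.toMonoidHom).comp (θ₁.codRestrict Q fun x => hθ₁r.le ⟨x, rfl⟩)
  rw [← imgOf_comp θ₁ (Q.subtype.comp γ.toMonoidHom) fun x => hθ₁r.le ⟨x, rfl⟩] at hsyl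
  set b := imgOf θ₁' P with hb
  have hr₁ : θ₁'.range = Q := by
    rw [range_comp_of_range _ _ _ hθ₁r, MonoidHom.range_comp, MonoidHom.range_eq_top.2 γ.surjective,
      ← MonoidHom.range_eq_map, Subgroup.range_subtype]
  have hbQ : b ≤ Q := hr₁ ▸ imgOf_le_range θ₁'
  have hQNb : Q ≤ normalizerIn S b := by
    rw [← hr₁]
    rintro _ ⟨x, rfl⟩
    exact imgOf_mem_normalizer F hθ₁' hPR.le x (hRN x.2).2
  have hPb : F.IsConj P b := isConj_imgOf F hθ₁' hPR.le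
  obtain ⟨χ, hχ, hχb⟩ := hgood b hPb
  obtain ⟨φi, hφi, hφie, hφir, hφiimg⟩ := exists_inv_imgOf F hφ
  have hv₂ : ∀ y, φi y ∈ R := fun y => hφir.le ⟨y, rfl⟩
  have hθ₂ := F.comp_mem hφi hθ₁' hv₂
  set θ₂ := θ₁'.comp (φi.codRestrict R hv₂)
  have hr₂ : θ₂.range = Q := by rw [range_comp_of_range _ _ _ hφir, hr₁]
  have hφiP : imgOf φi P = P := by
    have := hφiimg P hPR.le
    rwa [hφP] at this
  have hb₂ : imgOf θ₂ P = b := by rw [imgOf_comp, hφiP]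
  have hPM : P ≤ M := hφP ▸ imgOf_le_range φ
  obtain ⟨k₁, hk₁, ψ₁, hψ₁, hψ₁e⟩ := to_hub hS hQR hθ₁' hr₁ hPR.le rfl hsyl
  obtain ⟨k₂, hk₂, ψ₂, hψ₂, hψ₂e⟩ := to_hub hS hQR hθ₂ hr₂ hPM hb₂ hsyl
  have hW₁ := lt_hub_domain hS (normalizerIn_le S P) hlt
  have hW₂ := lt_hub_domain hS (normalizerIn_le S P) hMlt
  have i₁ := imgOf_hub (F := F) hr₁ hPR.le hW₁.le rfl hk₁.2 hψ₁e
  have i₂ := imgOf_hub (F := F) hr₂ hPM hW₂.le hb₂ hk₂.2 hψ₂e
  haveI := finite_of_le (hom_le F hψ₁)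
  haveI := finite_of_le (hom_le F hψ₂)
  have hle : ∀ W : Subgroup Ω, W ≤ S → Nat.card W ≤ Nat.card S := fun W hW => Subgroup.card_le_of_le hW
  -- loops through `b` on larger sources
  have big : ∀ {W : Subgroup Ω} (ψ : W →* Ω) (hψ : ψ ∈ F.Hom W) (hPW : P < W),
      W ≤ normalizerIn S P → Nat.card R < Nat.card W → imgOf ψ P = b →
      ∀ hv : ∀ x, ψ x ∈ normalizerIn S b, ExtRel F p P fun x => χ ⟨ψ ⟨x, hPW.le x.2⟩, hv _⟩ := by
    intro W ψ hψ hPW hWN hc hi hv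
    refine ih _ ?_ (F.comp_mem hψ hχ hv) hPW hWN ?_ rfl
    · have := hle W (hom_le F hψ); omega
    · rw [imgOf_comp, hi, hχb]
  have hv₁ : ∀ x, ψ₁ x ∈ normalizerIn S b := fun x => by
    have := imgOf_mem_normalizer F hψ₁ (hPR.le.trans hW₁.le) x x.2.2
    rwa [i₁] at this
  have hv₂' : ∀ x, ψ₂ x ∈ normalizerIn S b := fun x =>
    i₂ ▸ imgOf_mem_normalizer F hψ₂ (hPM.trans hW₂.le) x x.2.2
  have hPM' : P < M := lt_of_le_of_ne hPM fun he => by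
    have h1 := card_lt_of_lt hPR
    have h2 : Nat.card P = Nat.card M := by rw [← he]
    omega
  have L₁ := big ψ₁ hψ₁ (hPR.trans_le hW₁.le) (fun x hx => ⟨hx.1.1, hx.2⟩) (card_lt_of_lt hW₁) i₁ hv₁
  have L₂ := big ψ₂ hψ₂ (hPM'.trans_le hW₂.le) (fun x hx => ⟨hx.1.1, hx.2⟩) (hcM ▸ card_lt_of_lt hW₂) i₂ hv₂'
  -- the middle automorphism
  set B := F.autGroup Q ⊓ stabSub Q b with hB
  set k := k₂ * k₁⁻¹ with hkdef
  have hkB : k ∈ B := B.mul_mem hk₂ (B.inv_mem hk₁)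
  set K := ((coreAut F p b).comap (resHom hbQ)).map (stabSub Q b).subtype ⊓ B with hK
  have hres : ∀ α : stabSub Q b, (α : MulAut Q) ∈ F.autGroup Q → resHom hbQ α ∈ F.autGroup b := by
    intro α hα
    rw [mem_autGroup_iff F (hbQ.trans hQA.1)]
    exact hom_congr F (restrict_mem F ((mem_autGroup_iff F hQA.1 _).1 hα) hbQ) fun x => rfl
  have hKn : B ≤ Subgroup.normalizer (K : Set (MulAut Q)) := by
    have key : ∀ x ∈ B, ∀ c ∈ K, x * c * x⁻¹ ∈ K := by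
      intro x hx c hc
      obtain ⟨⟨c', hc', rfl⟩, hcB⟩ := hc
      refine ⟨⟨⟨x, hx.2⟩ * c' * ⟨x, hx.2⟩⁻¹, ?_, rfl⟩, B.mul_mem (B.mul_mem hx hcB) (B.inv_mem hx)⟩
      rw [SetLike.mem_coe, Subgroup.mem_comap, map_mul, map_mul, map_inv]
      exact coreAut_normal F b (hres _ hx.1) hc'
    intro x hx
    rw [Subgroup.mem_normalizer_iff]
    refine fun c => ⟨key x hx c, fun h => ?_⟩
    have := key x⁻¹ (B.inv_mem hx) _ h
    simpa [mul_assoc] using this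
  have hT₂ := IsSyl.inf_normal hsyl (inf_le_right : K ≤ B) hKn
  set T₂ := autInducedBy S Q ⊓ stabSub Q b ⊓ K with hT₂def
  -- restrictions of `K` come from `T₂`
  have hKT : ∀ c : stabSub Q b, (c : MulAut Q) ∈ K → ∃ t : stabSub Q b, (t : MulAut Q) ∈ T₂ ∧ resHom hbQ t = resHom hbQ c := by
    have hKst : K ≤ stabSub Q b := inf_le_right.trans inf_le_right
    have hsyl' : IsSyl p (T₂.subgroupOf (stabSub Q b)) (K.subgroupOf (stabSub Q b)) :=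
      ⟨fun x hx => hT₂.1 (Subgroup.mem_subgroupOf.1 hx), isPGroup_subgroupOf hT₂.2.1,
        by rw [Subgroup.relIndex_subgroupOf hKst]; exact hT₂.2.2⟩
    have hKimg : (K.subgroupOf (stabSub Q b)).map (resHom hbQ) ≤ coreAut F p b := by
      rintro _ ⟨c, hc, rfl⟩
      obtain ⟨c', hc', hcc⟩ := (Subgroup.mem_subgroupOf.1 hc).1
      rwa [← Subtype.ext hcc] at *
    haveI := finite_of_le (hbQ.trans hQA.1)
    have heq := (hsyl'.map (resHom hbQ)).eq_of_le (Subgroup.map_mono hsyl'.1) le_rfl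
      ((coreAut_isPGroup F (hbQ.trans hQA.1)).to_le hKimg)
    intro c hc
    obtain ⟨t, ht, hte⟩ := heq.ge ⟨c, hc, rfl⟩
    exact ⟨t, ht, hte⟩
  have hKk : K.map (MulAut.conj k).toMonoidHom = K := Subgroup.mem_normalizer_iff_map_conj_eq.1 (hKn hkB)
  have h1 := hT₂.map_conj k
  rw [hKk] at h1
  obtain ⟨c, hc, hcle⟩ := hT₂.exists_conj h1.2.1 h1.1
  obtain ⟨t, ht, hte⟩ := hKT ⟨c, (hc.2).2⟩⁻¹ (K.inv_mem hc)
  set n' : MulAut Q := (t : MulAut Q) * (c * k) with hn'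
  have hn'B : n' ∈ B := B.mul_mem (hT₂.1 ht).2 (B.mul_mem hc.2 hkB)
  have hn'res : ∀ x : Q, (x : Ω) ∈ b → ((n' x : Q) : Ω) = ((k x : Q) : Ω) := by
    intro x hx
    have h2 : resHom hbQ (⟨n', hn'B.2⟩ : stabSub Q b) = resHom hbQ ⟨k, hkB.2⟩ := by
      rw [show (⟨n', hn'B.2⟩ : stabSub Q b) = t * (⟨c, (hc.2).2⟩ * ⟨k, hkB.2⟩) from rfl, map_mul, map_mul, hte,
        map_inv, inv_mul_cancel_left]
    exact congrArg (fun f : MulAut b => ((f ⟨x, hx⟩ : b) : Ω)) h2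
  have hn'T : ∀ d ∈ T₂, n' * d * n'⁻¹ ∈ T₂ := by
    intro d hd
    have h3 : c * (k * d * k⁻¹) * c⁻¹ ∈ T₂ := hcle ⟨_, ⟨d, hd, rfl⟩, rfl⟩
    rw [show n' * d * n'⁻¹ = (t : MulAut Q) * (c * (k * d * k⁻¹) * c⁻¹) * (t : MulAut Q)⁻¹ by rw [hn']; group]
    exact T₂.mul_mem (T₂.mul_mem ht h3) (T₂.inv_mem ht)
  set V := (coreExt F p b ⊓ normalizerIn S Q) ⊔ Q with hV
  have hVN : V ≤ normalizerIn S b := sup_le (inf_le_left.trans (coreExt_le F (hbQ.trans hQA.1))) hQNb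
  have hχn := (mem_autGroup_iff F hQA.1 n').1 hn'B.1
  have hrn : (Q.subtype.comp n'.toMonoidHom).range = Q := by
    rw [MonoidHom.range_comp, MonoidHom.range_eq_top.2 n'.surjective, ← MonoidHom.range_eq_map, Subgroup.range_subtype]
  obtain ⟨ψn, hψn, hψne⟩ := hQR.2 Q _ hχn hrn
  have hVext : V ≤ extender S Q (Q.subtype.comp n'.toMonoidHom) := by
    refine sup_le ?_ (le_extender F hχn)
    intro g hg
    obtain ⟨cg, hcg, hcge⟩ := exists_conjAut (P := Q) (K := S) hg.2.1 hg.2.2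
    have hgb := (coreExt_le F (hbQ.trans hQA.1) hg.1).2
    have hst : cg ∈ stabSub Q b := fun x => by
      rw [hcge]; exact (Subgroup.mem_normalizer_iff.1 hgb _).symm
    obtain ⟨o, ho, hoe⟩ := hg.1.2
    have hro : resHom hbQ ⟨cg, hst⟩ = o := MulEquiv.ext fun x => Subtype.ext ((hcge _).trans (hoe x).symm)
    have hcgT : cg ∈ T₂ := ⟨⟨hcg, hst⟩, ⟨⟨cg, hst⟩, (hro ▸ ho : resHom hbQ ⟨cg, hst⟩ ∈ coreAut F p b), rfl⟩,
      autInducedBy_le_autGroup F hQA.1 hcg, hst⟩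
    obtain ⟨h, hh, hhe⟩ := (mem_autInducedBy_iff _).1 (hn'T cg hcgT).1.1
    refine Subgroup.subset_closure ⟨hg.2.1, hg.2.2, h, hh, fun x hx => ?_⟩
    have h2 := hhe (n' x)
    rw [MulAut.mul_apply, MulAut.mul_apply, MulAut.inv_apply_self] at h2
    refine Eq.trans ?_ h2
    show ((n' ⟨_, hx⟩ : Q) : Ω) = _
    rw [show (⟨g * (x : Ω) * g⁻¹, hx⟩ : Q) = cg x from Subtype.ext (hcge x).symm]
  have hψV := restrict_mem F hψn hVext
  set ψV := ψn.comp (Subgroup.inclusion hVext)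
  have hψVe : ∀ (x : Q) (hx : (x : Ω) ∈ V), ψV ⟨x, hx⟩ = ((n' x : Q) : Ω) := fun x hx => hψne x x.2 _
  have iV : imgOf ψV b = b :=
    imgOf_eq_of_mapsTo F hψV (hbQ.trans le_sup_right) (hbQ.trans hQA.1)
      (fun x hx => by rw [hψVe ⟨x, hbQ hx⟩ x.2]; exact (hn'B.2 _).2 hx) le_rfl
  have hVlt : Q < V := by
    refine lt_of_le_of_ne le_sup_right fun he => ?_
    have iR : imgOf ψ₁ R = Q := by
      refine imgOf_eq_of_mapsTo F hψ₁ hW₁.le hQA.1 (fun x hx => ?_) (isConj_card ⟨θ₁', hθ₁', hr₁⟩).ge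
      rw [hψ₁e ⟨x, hx⟩ x.2]; exact (k₁ _).2
    have huW : u ∈ normalizerIn S R ⊓ Subgroup.normalizer (P : Set Ω) := ⟨⟨(hUN huU).1, huN⟩, (hUN huU).2⟩
    have h3 : ψ₁ ⟨u, huW⟩ ∈ coreExt F p b := by
      have := apply_mem_coreExt (p := p) F hψ₁ (hPR.le.trans hW₁.le) ⟨u, huW⟩ huU
      rwa [i₁] at this
    have h4 : ψ₁ ⟨u, huW⟩ ∈ normalizerIn S Q := iR ▸ imgOf_mem_normalizer F hψ₁ hW₁.le ⟨u, huW⟩ huN
    have h5 : ψ₁ ⟨u, huW⟩ ∈ imgOf ψ₁ R := iR.ge (he ▸ Subgroup.mem_sup_left ⟨h3, h4⟩)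
    exact huR ((apply_mem_imgOf_iff F hψ₁ _).1 h5)
  obtain ⟨χi, hχi, hχie, hχir, hχiimg⟩ := exists_inv_imgOf F hχ
  have hV'r : imgOf χ V ≤ χ.range := imgOf_le_range χ
  have hvi : ∀ y, (χi.comp (Subgroup.inclusion hV'r)) y ∈ V := by
    rintro ⟨_, x, hx, rfl⟩
    exact (hχie x ⟨x, rfl⟩).symm ▸ hx
  have hA := F.comp_mem (restrict_mem F hχi hV'r) hψV hvi
  have hvn : ∀ y, (ψV.comp ((χi.comp (Subgroup.inclusion hV'r)).codRestrict V hvi)) y ∈ normalizerIn S b := fun y => by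
    have hy : ((⟨_, hvi y⟩ : V) : Ω) ∈ Subgroup.normalizer (b : Set Ω) := (hVN (hvi y)).2
    have := imgOf_mem_normalizer F hψV (hbQ.trans le_sup_right) ⟨_, hvi y⟩ hy
    rwa [iV] at this
  have hLn := F.comp_mem hA hχ hvn
  have hPV : P ≤ imgOf χ V := hχb ▸ Subgroup.map_mono (Subgroup.comap_mono (hbQ.trans le_sup_right))
  have hcV : Nat.card (imgOf χ V) = Nat.card V := card_imgOf F hχ hVN
  haveI := finite_of_le (hVN.trans (normalizerIn_le S b))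
  haveI := finite_of_le (imgOf_le F hχ (a := V))
  have hcQ : Nat.card Q = Nat.card R := (isConj_card ⟨θ₁', hθ₁', hr₁⟩).symm
  have hVc : Nat.card R < Nat.card (imgOf χ V) := by
    rw [hcV, ← hcQ]; exact card_lt_of_lt hVlt
  have hPV' : P < imgOf χ V := lt_of_le_of_ne hPV fun he => by
    have h1 := card_lt_of_lt hPR
    have h2 : Nat.card P = Nat.card (imgOf χ V) := by rw [← he]
    omega
  have hiLn : ∀ (y : normalizerIn S b) (hy : (y : Ω) ∈ b), ∀ h : χ y ∈ imgOf χ V,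
      (χ.comp ((ψV.comp ((χi.comp (Subgroup.inclusion hV'r)).codRestrict V hvi)).codRestrict _ hvn)) ⟨χ y, h⟩ =
        χ ⟨((n' ⟨y, hbQ hy⟩ : Q) : Ω), hQNb (n' _).2⟩ := by
    intro y hy h
    refine congrArg χ (Subtype.ext ?_)
    show ψV ⟨χi ⟨χ y, _⟩, _⟩ = _
    rw [← hψVe ⟨y, hbQ hy⟩ (Subgroup.mem_sup_right (hbQ hy))]
    exact congrArg ψV (Subtype.ext (hχie y _))
  have Ln := ih _ (by have := hle _ (hom_le F hLn); omega) hLn hPV'
    (fun y hy => by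
      obtain ⟨x, hx, rfl⟩ := hy
      exact hχb ▸ imgOf_mem_normalizer F hχ (hbQ.trans hQNb) x (hVN hx).2)
    (imgOf_eq_of_mapsTo F hLn hPV hPS (fun y hy => by
      obtain ⟨x, hx', hxy⟩ := hχb.ge hy
      have hx : (x : Ω) ∈ b := hx'
      rw [show y = (⟨χ x, hxy ▸ y.2⟩ : imgOf χ V) from Subtype.ext hxy.symm, hiLn x hx]
      exact hχb.le ⟨_, (hn'B.2 ⟨x, hbQ hx⟩).2 hx, rfl⟩) le_rfl) rfl
  -- assemble
  have f₁P : ∀ x : P, χ ⟨ψ₁ ⟨x, (hPR.le.trans hW₁.le) x.2⟩, hv₁ _⟩ ∈ P :=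
    fun x => hχb.le ⟨_, i₁.le ⟨_, x.2, rfl⟩, rfl⟩
  have f₂P : ∀ x : P, χ ⟨ψ₂ ⟨x, (hPM.trans hW₂.le) x.2⟩, hv₂' _⟩ ∈ P :=
    fun x => hχb.le ⟨_, i₂.le ⟨_, x.2, rfl⟩, rfl⟩
  classical
  let g : P → Ω := fun y => if h : ∃ x : P, χ ⟨ψ₂ ⟨x, (hPM.trans hW₂.le) x.2⟩, hv₂' _⟩ = y then h.choose else 1
  have hg : ∀ x : P, g ⟨_, f₂P x⟩ = x := by
    intro x
    have hex : ∃ z : P, χ ⟨ψ₂ ⟨z, (hPM.trans hW₂.le) z.2⟩, hv₂' _⟩ =
        ((⟨_, f₂P x⟩ : P) : Ω) := ⟨x, rfl⟩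
    simp only [g, dif_pos hex]
    have h6 := hex.choose_spec
    have h7 := congrArg Subtype.val (F.injective_of_mem hχ h6)
    have h8 := F.injective_of_mem hψ₂ h7
    exact (congrArg Subtype.val h8 :)
  have G₂ := extRel_inv hS hPS f₂P hg L₂
  have f₃P : ∀ x : P, φ ⟨x, hPR.le x.2⟩ ∈ P := fun x => hφP.le ⟨_, x.2, rfl⟩
  have L₁n : ExtRel F p P fun x => χ ⟨ψ₂ ⟨φ ⟨x, hPR.le x.2⟩, (hPM.trans hW₂.le) (f₃P x)⟩, hv₂' _⟩ := by
    refine extRel_comp hS hPS f₁P (fun x => ?_) L₁ Ln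
    refine Eq.trans ?_ (hiLn ⟨ψ₁ ⟨x, (hPR.le.trans hW₁.le) x.2⟩, hv₁ _⟩ (i₁.le ⟨_, x.2, rfl⟩) _).symm
    refine congrArg χ (Subtype.ext ?_)
    show ψ₂ _ = ((n' _ : Q) : Ω)
    rw [hn'res _ (i₁.le ⟨_, x.2, rfl⟩)]
    have e₁ : (⟨ψ₁ ⟨x, (hPR.le.trans hW₁.le) x.2⟩, hbQ (i₁.le ⟨_, x.2, rfl⟩)⟩ : Q) =
        k₁ ⟨θ₁' ⟨x, hPR.le x.2⟩, hr₁.le ⟨_, rfl⟩⟩ := Subtype.ext (hψ₁e ⟨x, hPR.le x.2⟩ _)
    rw [e₁, hkdef, MulAut.mul_apply, MulAut.inv_apply_self, hψ₂e ⟨φ ⟨x, hPR.le x.2⟩, _, rfl⟩]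
    exact congrArg (fun z => ((k₂ z : Q) : Ω))
      (Subtype.ext (congrArg θ₁' (Subtype.ext (hφie ⟨x, hPR.le x.2⟩ ⟨_, rfl⟩))))
  exact extRel_comp hS hPS (fun x => f₂P ⟨_, f₃P x⟩) (fun x => (hg ⟨_, f₃P x⟩).symm) L₁n G₂

end class_

end Cfsg.Agent.FusionSys
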