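import Cfsg.Agent.Lib.Fusion.Alperin

/-!
# Essential classes cannot be left out of a conjugation family
-/

set_option autoImplicit false

namespace Cfsg.Agent.FusionSys

open Cfsg Cfsg.FusionSystem

variable {Ω : Type*} [Group Ω] {S : Subgroup Ω}

/-- The isomorphism extends to a map of the system on the normalizer of its source. -/
def ExtNorm (F : FusionSystem S) {P Q : Subgroup Ω} (a : P ≃* Q) : Prop :=
  ∃ ψ ∈ F.Hom (normalizerIn S P), ∀ (x : P) (h : (x : Ω) ∈ normalizerIn S P), ψ ⟨x, h⟩ = a x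

/-- Read at `Q` through normalizer maps, the map lies in the extendable group. -/
def InExtendable (F : FusionSystem S) (Q : Subgroup Ω) {P : Subgroup Ω} (φ : P →* Ω) : Prop :=
  ∀ (B : Subgroup Ω) (a : P ≃* Q) (b : B ≃* Q) (hB : ∀ x : P, φ x ∈ B), ExtNorm F a → ExtNorm F b →
    ∀ α : MulAut Q, (∀ x : P, α (a x) = b ⟨φ x, hB x⟩) → α ∈ extendableGroup F Q

variable {p : ℕ} [hp : Fact p.Prime] [Finite S]

theorem exists_extNorm (hS : IsPGroup p S) {F : FusionSystem S} (hF : F.IsSaturated p) {A Q : Subgroup Ω}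
    (hQ : F.IsFullyNormalized Q) (h : F.IsConj A Q) : ∃ a : A ≃* Q, ExtNorm F a := by
  obtain ⟨ψ, hψ, -, hψA⟩ := exists_normalizer_map_fullyNormalized hS hF hQ h
  exact ⟨mapEquiv F (restrict_mem F hψ (le_normalizerIn (isConj_le_left h))) (extend_restrict_range _ hψA),
    ψ, hψ, fun x hx => rfl⟩

omit hp in
theorem extNorm_isConj {F : FusionSystem S} {A Q : Subgroup Ω} (hA : A ≤ S) {a : A ≃* Q} (h : ExtNorm F a) :
    F.IsConj A Q := by
  obtain ⟨ψ, hψ, he⟩ := h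
  refine ⟨_, restrict_mem F hψ (le_normalizerIn hA), ?_⟩
  have : ψ.comp (Subgroup.inclusion (le_normalizerIn hA)) = equivHom a :=
    MonoidHom.ext fun x => he x _
  rw [this, equivHom_range]

/-- A map that extends properly is in the extendable group. -/
theorem inExtendable_of_lt (hS : IsPGroup p S) {F : FusionSystem S} {Q A R B : Subgroup Ω} (hAR : A < R)
    {ψ : R →* Ω} (hψ : ψ ∈ F.Hom R) {a : A ≃* Q} {b : B ≃* Q} (ha : ExtNorm F a) (hb : ExtNorm F b)
    (hB : ∀ x : A, ψ (Subgroup.inclusion hAR.le x) ∈ B) {α : MulAut Q}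
    (hα : ∀ x : A, α (a x) = b ⟨ψ (Subgroup.inclusion hAR.le x), hB x⟩) : α ∈ extendableGroup F Q := by
  obtain ⟨ψa, hψa, hea⟩ := ha
  obtain ⟨ψb, hψb, heb⟩ := hb
  have hRS := hom_le F hψ
  have hAS : A ≤ S := hAR.le.trans hRS
  have := finite_of_le (S := S) hRS
  have hM : A < normalizerIn R A := lt_normalizerIn (isPGroup_of_le hS hRS) hAR
  have hMN : normalizerIn R A ≤ normalizerIn S A := fun x hx => ⟨hRS hx.1, hx.2⟩
  have := finite_of_le (S := S) hAS
  have hBeq : (ψ.comp (Subgroup.inclusion hAR.le)).range = B := by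
    have hle : (ψ.comp (Subgroup.inclusion hAR.le)).range ≤ B := by
      rintro _ ⟨x, rfl⟩
      exact hB x
    have h1 : Nat.card B = Nat.card A := (Nat.card_congr b.toEquiv).trans (Nat.card_congr a.toEquiv).symm
    have h2 : Nat.card (ψ.comp (Subgroup.inclusion hAR.le)).range = Nat.card A :=
      (isConj_card ⟨_, restrict_mem F hψ hAR.le, rfl⟩).symm
    haveI : Finite B := Finite.of_equiv A (a.toEquiv.trans b.toEquiv.symm)
    exact Subgroup.eq_of_le_of_card_ge hle (by omega)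
  have hBS : B ≤ S := hBeq ▸ range_le F (restrict_mem F hψ hAR.le)
  haveI : Finite B := finite_of_le (S := S) hBS
  have hψN : ∀ x : normalizerIn R A, ψ (Subgroup.inclusion inf_le_left x) ∈ normalizerIn S B := fun x =>
    ⟨hom_apply_mem F hψ _, apply_mem_normalizer ψ hAR.le hBeq _ x.2.2⟩
  set ρ := ψa.comp (Subgroup.inclusion hMN) with hρ
  have hρF : ρ ∈ F.Hom (normalizerIn R A) := restrict_mem F hψa hMN
  obtain ⟨σ, hσ, hσr, hσ1, -⟩ := exists_inv F hρF
  obtain ⟨χ₁, hχ₁, hχ₁e⟩ := comp_hom_mem F (restrict_mem F hψ (inf_le_left : normalizerIn R A ≤ R)) hψb hψN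
  obtain ⟨χ, hχ, hχe⟩ := comp_hom_mem F hσ hχ₁ fun y => hσr.le ⟨y, rfl⟩
  have hQle : Q ≤ ρ.range := by
    intro q hq
    refine ⟨⟨a.symm ⟨q, hq⟩, hM.le (a.symm ⟨q, hq⟩).2⟩, ?_⟩
    show ψa ⟨_, _⟩ = q
    rw [hea, a.apply_symm_apply]
  have hQlt : Q < ρ.range := by
    refine lt_of_le_of_ne hQle fun he => ?_
    have h1 := isConj_card (F := F) (P := normalizerIn R A) (Q := ρ.range) ⟨ρ, hρF, rfl⟩
    rw [← he, ← Nat.card_congr a.toEquiv] at h1
    have := finite_of_le (S := S) (hMN.trans (normalizerIn_le S A))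
    exact hM.ne (Subgroup.eq_of_le_of_card_ge hM.le h1.le)
  refine Subgroup.subset_closure ⟨ρ.range, hQlt, χ, hχ, fun y => ?_⟩
  obtain ⟨x, rfl⟩ := a.surjective y
  rw [hα, hχe, hχ₁e]
  have e : σ (Subgroup.inclusion hQle (a x)) = (x : Ω) := by
    have h1 : Subgroup.inclusion hQle (a x) = ⟨ρ ⟨x, hM.le x.2⟩, ⟨_, rfl⟩⟩ :=
      Subtype.ext (hea x (hMN (hM.le x.2))).symm
    rw [h1]
    exact hσ1 _ _
  rw [← heb ⟨ψ (Subgroup.inclusion hAR.le x), hB x⟩ (le_normalizerIn hBS (hB x))]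
  congr 1
  exact Subtype.ext (congrArg ψ (Subtype.ext e))

/-- The maps that are extendable at the class of `Q`. -/
def classSystem (hS : IsPGroup p S) {F : FusionSystem S} (hF : F.IsSaturated p) {Q : Subgroup Ω}
    (hQ : F.IsFullyNormalized Q) (hQS : Q < S) : FusionSystem S where
  Hom P := {φ | φ ∈ F.Hom P ∧ InExtendable F Q φ}
  le_of_mem h := F.le_of_mem h.1
  injective_of_mem h := F.injective_of_mem h.1
  conj_mem := by
    intro P g hP hg
    refine ⟨F.conj_mem hP hg, fun B a b hB ha hb α hα => ?_⟩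
    have hlt : P < S := lt_of_le_of_ne hP fun he => by
      have := (isConj_card (extNorm_isConj hP ha))
      subst he
      exact hQS.ne (Subgroup.eq_of_le_of_card_ge hQS.le this.le)
    exact inExtendable_of_lt hS (lt_normalizerIn hS hlt) (F.conj_mem (normalizerIn_le S P) hg) ha hb hB hα
  comp_mem := by
    intro P R φ ψ hφ hψ h
    refine ⟨F.comp_mem hφ.1 hψ.1 h, fun B a b hB ha hb α hα => ?_⟩
    have hP := hom_le F hφ.1
    have hA : F.IsConj φ.range Q :=
      isConj_trans (isConj_symm ⟨φ, hφ.1, rfl⟩) (extNorm_isConj hP ha)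
    obtain ⟨A, hAdef⟩ : ∃ A, φ.range = A := ⟨_, rfl⟩
    rw [hAdef] at hA
    obtain ⟨c, hc⟩ := exists_extNorm hS hF hQ hA
    set e := mapEquiv F hφ.1 hAdef with he
    set β : MulAut Q := (a.symm.trans e).trans c with hβ
    have h1 : β ∈ extendableGroup F Q := hφ.2 A a c (fun x => hAdef ▸ ⟨x, rfl⟩) ha hc β fun x => by
      show c (e (a.symm (a x))) = _
      rw [a.symm_apply_apply]
      rfl
    have hAR : A ≤ R := hAdef ▸ (by rintro _ ⟨x, rfl⟩; exact h x)
    have hBA : ∀ y : A, ψ (Subgroup.inclusion hAR y) ∈ B := fun y => by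
      obtain ⟨x, hx⟩ := e.surjective y
      subst hx
      exact hB x
    have h2e : ∀ y : A, (α * β⁻¹) (c y) = b ⟨ψ (Subgroup.inclusion hAR y), hBA y⟩ := fun y => by
      obtain ⟨x, rfl⟩ := e.surjective y
      have h0 : β (a x) = c (e x) := by
        show c (e (a.symm (a x))) = _
        rw [a.symm_apply_apply]
      show α (β⁻¹ (c (e x))) = _
      rw [← h0, show β⁻¹ (β (a x)) = a x from β.symm_apply_apply _, hα]
      rfl
    have h2 : α * β⁻¹ ∈ extendableGroup F Q := by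
      rcases eq_or_lt_of_le hAR with heq | hlt
      · subst heq
        exact hψ.2 B c b hBA hc hb _ h2e
      · exact inExtendable_of_lt hS hlt hψ.1 hc hb hBA h2e
    have := mul_mem h2 h1
    rwa [inv_mul_cancel_right] at this
  inv_mem := by
    intro P φ hφ
    obtain ⟨ψ, hψ, hψe⟩ := F.inv_mem hφ.1
    refine ⟨ψ, ⟨hψ, fun B a b hB ha hb α hα => ?_⟩, hψe⟩
    have hPB : ∀ x : P, (x : Ω) ∈ B := fun x => by
      have := hB ⟨φ x, x, rfl⟩
      rwa [hψe] at this
    have hcard : Nat.card B ≤ Nat.card P := by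
      rw [Nat.card_congr b.toEquiv, ← Nat.card_congr a.toEquiv]
      exact (isConj_card ⟨φ, hφ.1, rfl⟩).ge
    have hfin : Finite φ.range := finite_of_le (S := S) (range_le F hφ.1)
    haveI : Finite B := Finite.of_equiv _ (a.toEquiv.trans b.toEquiv.symm)
    obtain rfl : P = B := Subgroup.eq_of_le_of_card_ge (fun x hx => hPB ⟨x, hx⟩) hcard
    have h1 : α⁻¹ ∈ extendableGroup F Q := hφ.2 φ.range b a (fun x => ⟨x, rfl⟩) hb ha α⁻¹ fun x => by
      have h2 := hα ⟨φ x, x, rfl⟩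
      have h3 : (⟨ψ ⟨φ x, x, rfl⟩, hB _⟩ : P) = x := Subtype.ext (hψe x)
      rw [h3] at h2
      rw [← h2]
      exact α.symm_apply_apply _
    exact inv_inv α ▸ inv_mem h1

/-- An essential class cannot be left out. -/
theorem exists_not_generating (hS : IsPGroup p S) {F : FusionSystem S} (hF : F.IsSaturated p) {Q : Subgroup Ω}
    (hQ : F.IsEssential p Q) :
    ∃ E : FusionSystem S, (∀ R : Subgroup Ω, R ≤ S → ¬ F.IsConj Q R → F.autGroup R ≤ E.autGroup R) ∧
      ¬ F ≤ E := by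
  have hQS := essential_lt hS hF hQ
  refine ⟨classSystem hS hF hQ.2.1 hQS, fun R hR hn => ?_, fun hle => ?_⟩
  · refine (Subgroup.closure_le _).2 fun α hα => Subgroup.subset_closure ⟨hα, fun B a b hB ha _ β _ => ?_⟩
    exact absurd (isConj_symm (extNorm_isConj hR ha)) hn
  · refine extendable_ne_of_essential hS hF hQ (le_antisymm (extendableGroup_le F Q) fun α hα => ?_)
    have h1 := hle Q ((mem_autGroup_iff F hQS.le α).1 hα)
    have hid : ExtNorm F (MulEquiv.refl Q) :=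
      ⟨_, subtype_mem F (normalizerIn_le S Q), fun x hx => rfl⟩
    exact h1.2 Q (MulEquiv.refl Q) (MulEquiv.refl Q) (fun x => (α x).2) hid hid α fun x => Subtype.ext rfl

/-- All maps of `F`, except that on `S` itself they must also be maps of `E`. -/
def topSystem (F E : FusionSystem S) : FusionSystem S where
  Hom P := {φ | φ ∈ F.Hom P ∧ (P = S → φ ∈ E.Hom P)}
  le_of_mem h := F.le_of_mem h.1
  injective_of_mem h := F.injective_of_mem h.1
  conj_mem hP hg := ⟨F.conj_mem hP hg, fun _ => E.conj_mem hP hg⟩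
  comp_mem := by
    intro P R φ ψ hφ hψ h
    refine ⟨F.comp_mem hφ.1 hψ.1 h, fun hP => E.comp_mem (hφ.2 hP) (hψ.2 ?_) h⟩
    refine Subgroup.eq_of_le_of_card_ge (hom_le F hψ.1) ?_
    subst hP
    rw [isConj_card ⟨φ, hφ.1, rfl⟩]
    haveI := finite_of_le (S := P) (hom_le F hψ.1)
    exact Subgroup.card_le_of_le (by rintro _ ⟨x, rfl⟩; exact h x)
  inv_mem := by
    intro P φ hφ
    obtain ⟨ψ, hψ, hψe⟩ := F.inv_mem hφ.1
    refine ⟨ψ, ⟨hψ, fun hr => ?_⟩, hψe⟩
    have hP : P = S := Subgroup.eq_of_le_of_card_ge (hom_le F hφ.1)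
      (by rw [isConj_card ⟨φ, hφ.1, rfl⟩, hr])
    obtain ⟨χ, hχ, hχe⟩ := E.inv_mem (hφ.2 hP)
    refine hom_congr E hχ fun y => ?_
    obtain ⟨_, x, rfl⟩ := y
    rw [hψe, hχe]

/-- The intersection of two generating families closed under conjugacy is generating. -/
theorem generating_inter (hS : IsPGroup p S) {F : FusionSystem S} (hF : F.IsSaturated p)
    (𝒬₁ 𝒬₂ : Set (Subgroup Ω)) (h₁ : ∀ R ∈ 𝒬₁, ∀ R', F.IsConj R R' → R' ∈ 𝒬₁)
    (h₂ : ∀ R ∈ 𝒬₂, ∀ R', F.IsConj R R' → R' ∈ 𝒬₂)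
    (hg₁ : ∀ E : FusionSystem S, (∀ R ∈ 𝒬₁, F.autGroup R ≤ E.autGroup R) → F ≤ E)
    (hg₂ : ∀ E : FusionSystem S, (∀ R ∈ 𝒬₂, F.autGroup R ≤ E.autGroup R) → F ≤ E)
    (E : FusionSystem S) (hE : ∀ R ∈ 𝒬₁ ∩ 𝒬₂, F.autGroup R ≤ E.autGroup R) : F ≤ E := by
  have key : ∀ 𝒬 : Set (Subgroup Ω), (∀ R ∈ 𝒬, ∀ R', F.IsConj R R' → R' ∈ 𝒬) →
      (∀ E : FusionSystem S, (∀ R ∈ 𝒬, F.autGroup R ≤ E.autGroup R) → F ≤ E) →
      (S ∉ 𝒬 → ∀ φ ∈ F.Hom S, φ ∈ E.Hom S) ∧ ∀ Q, F.IsEssential p Q → Q ∈ 𝒬 := by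
    intro 𝒬 h hg
    refine ⟨fun hn φ hφ => ?_, fun Q hQ => ?_⟩
    · have := hg (topSystem F E) fun R hR => (Subgroup.closure_le _).2 fun α hα =>
        Subgroup.subset_closure ⟨hα, fun he => absurd (he ▸ hR) hn⟩
      exact (this S hφ).2 rfl
    · by_contra hn
      obtain ⟨D, hD, hnot⟩ := exists_not_generating hS hF hQ
      refine hnot (hg D fun R hR => ?_)
      by_cases hRS : R ≤ S
      · exact hD R hRS fun hc => hn (h R hR Q (isConj_symm hc))
      · rw [autGroup_eq_bot F hRS]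
        exact bot_le
  obtain ⟨k1, e1⟩ := key 𝒬₁ h₁ hg₁
  obtain ⟨k2, e2⟩ := key 𝒬₂ h₂ hg₂
  refine alperin hS hF fun P hP => ?_
  rcases hP with hP | hP
  · by_cases hm : P ∈ 𝒬₁ ∩ 𝒬₂
    · exact hE P hm
    subst hP
    refine (Subgroup.closure_le _).2 fun α hα => Subgroup.subset_closure ?_
    rcases not_and_or.1 hm with hn | hn
    · exact k1 hn _ hα
    · exact k2 hn _ hα
  · exact hE P ⟨e1 P hP, e2 P hP⟩

end Cfsg.Agent.FusionSys
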