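import Cfsg.Agent.Lib.Fusion.Model
import Cfsg.Agent.Lib.Fusion.ModelFacts

/-!
# Uniqueness and rigidity of models
-/

set_option autoImplicit false

namespace Cfsg.Agent.FusionSys

open Cfsg Cfsg.FusionSystem

variable {Ω : Type*} [Group Ω] {S : Subgroup Ω} [Finite S] {p : ℕ} [hp : Fact p.Prime] {F : FusionSystem S}
  {Q : Subgroup Ω}

/-- The models' view of a normal centric subgroup. -/
structure ActionData (hQ : CentricNormal F Q) {G : Type*} [Group G] (ι : S →* G) where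
  pi : G →* F.autGroup Q
  surj : Function.Surjective pi
  conj : ∀ (g : G) (q : Q), g * ι ⟨q, hQ.le q.2⟩ * g⁻¹ =
    ι ⟨((pi g : MulAut Q) q : Q), hQ.le ((pi g : MulAut Q) q).2⟩
  ker : pi.ker = (zQInc hQ).range.map ι
  pi_inc : ∀ s : S, pi (ι s) = actQ hQ s

theorem exists_actionData {G : Type*} [Group G] {ι : S →* G} (hM : F.IsModel p G ι) (hQ : CentricNormal F Q) :
    Nonempty (ActionData hQ ι) := by
  obtain ⟨π, h1, h2, h3, h4⟩ := exists_modelAction hM hQ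
  exact ⟨⟨π, h1, h2, h3, h4⟩⟩

variable {hQ : CentricNormal F Q} {G : Type*} [Group G] {ι : S →* G} (D : ActionData hQ ι)

/-- The centre of `Q` in the group. -/
def zEmb (_D : ActionData hQ ι) : zQ Q →* G := ι.comp (zQInc hQ)

include D in
theorem zEmb_mem_ker (z : zQ Q) : D.pi (zEmb D z) = 1 := by
  have : zEmb D z ∈ D.pi.ker := by rw [D.ker]; exact ⟨zQInc hQ z, ⟨z, rfl⟩, rfl⟩
  exact this

include D in
theorem exists_zEmb {g : G} (hg : D.pi g = 1) : ∃ z : zQ Q, zEmb D z = g := by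
  have : g ∈ D.pi.ker := hg
  rw [D.ker] at this
  obtain ⟨_, ⟨z, rfl⟩, hz⟩ := this
  exact ⟨z, hz⟩

include D in
theorem zEmb_conj (g : G) (z : zQ Q) :
    g * zEmb D z * g⁻¹ = zEmb D (zQRestrict Q (D.pi g : MulAut Q) z) := D.conj g ⟨z, z.2.1⟩

theorem coprime_cosets_of_sylow [Finite G] (hinj : Function.Injective ι)
    (hT : ∃ T : Sylow p G, (T : Subgroup G) = ι.range) (hQ : CentricNormal F Q) :
    (Nat.card (zQ Q)).Coprime (Nat.card (G ⧸ ι.range)) := by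
  obtain ⟨T, hT⟩ := hT
  have hS : IsPGroup p S := (hT ▸ T.2 : IsPGroup p ι.range).of_equiv (MonoidHom.ofInjective hinj).symm
  haveI : Finite (zQ Q) := finite_of_le (S := S) (inf_le_left.trans hQ.le : zQ Q ≤ S)
  obtain ⟨k, hk⟩ : ∃ k, Nat.card (zQ Q) = p ^ k :=
    IsPGroup.iff_card.1 (hS.to_le (inf_le_left.trans hQ.le : zQ Q ≤ S))
  rw [hk]
  exact Nat.Coprime.pow_left k ((Nat.Prime.coprime_iff_not_dvd hp.out).2 (hT ▸ T.not_dvd_index))

variable (hM : F.IsModel p G ι)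
include hM

theorem coprime_cosets (hQ : CentricNormal F Q) : (Nat.card (zQ Q)).Coprime (Nat.card (G ⧸ ι.range)) := by
  haveI := hM.1
  exact coprime_cosets_of_sylow hM.2.1.1 hM.2.2.1 hQ

/-- The averaged element of a family with constant image. -/
theorem exists_average {X : Type*} [Fintype X] [Nonempty X] (hX : (Nat.card (zQ Q)).Coprime (Nat.card X))
    (e : X → G) (h : F.autGroup Q) (he : ∀ y, D.pi (e y) = h) :
    ∃ a : G, D.pi a = h ∧ ∃ d : X → zQ Q, (∀ y, zEmb D (d y) = a⁻¹ * e y) ∧ ∏ y, d y = 1 := by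
  obtain ⟨y₀⟩ := ‹Nonempty X›
  have hker : ∀ y, D.pi ((e y₀)⁻¹ * e y) = 1 := fun y => by rw [map_mul, map_inv, he, he, inv_mul_cancel]
  choose d₀ hd₀ using fun y => exists_zEmb D (hker y)
  obtain ⟨w, hw⟩ := (powCoprime hX).surjective (∏ y, d₀ y)
  refine ⟨e y₀ * zEmb D w, by rw [map_mul, he, zEmb_mem_ker, mul_one], fun y => w⁻¹ * d₀ y, fun y => ?_, ?_⟩
  · rw [map_mul, map_inv, hd₀]; group
  · rw [Finset.prod_mul_distrib, Finset.prod_const, Finset.card_univ, ← Nat.card_eq_fintype_card, inv_pow,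
      show w ^ Nat.card X = ∏ y, d₀ y from hw, inv_mul_cancel]

theorem average_unique {X : Type*} [Fintype X] (hX : (Nat.card (zQ Q)).Coprime (Nat.card X))
    {e : X → G} {a b : G} (hab : D.pi a = D.pi b)
    (ha : ∃ d : X → zQ Q, (∀ y, zEmb D (d y) = a⁻¹ * e y) ∧ ∏ y, d y = 1)
    (hb : ∃ d : X → zQ Q, (∀ y, zEmb D (d y) = b⁻¹ * e y) ∧ ∏ y, d y = 1) : a = b := by
  obtain ⟨da, hda, hpa⟩ := ha
  obtain ⟨db, hdb, hpb⟩ := hb
  obtain ⟨w, hw⟩ := exists_zEmb D (g := b⁻¹ * a) (by rw [map_mul, map_inv, hab, inv_mul_cancel])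
  have hinj : Function.Injective (zEmb D) := hM.2.1.1.comp (Subgroup.inclusion_injective _)
  have he : ∀ y, db y = w * da y := fun y => hinj (by rw [map_mul, hdb, hw, hda]; group)
  rw [Finset.prod_congr rfl fun y _ => he y, Finset.prod_mul_distrib, hpa, mul_one, Finset.prod_const,
    Finset.card_univ, ← Nat.card_eq_fintype_card] at hpb
  rw [(powCoprime hX).injective (hpb.trans (one_pow _).symm), map_one] at hw
  exact (inv_mul_eq_one.1 hw.symm).symm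

omit hM

/-- A group realizing the system and acting on a normal centric subgroup maps onto a model, over the automizer
and compatibly with the embeddings. -/
theorem exists_hom_to_model {G₁ G₂ : Type*} [Group G₁] [Finite G₁] [Group G₂] {ι₁ : S →* G₁} {ι₂ : S →* G₂}
    (h₁ : F.IsRealizedBy ι₁) (hT₁ : ∃ T : Sylow p G₁, (T : Subgroup G₁) = ι₁.range) (hM₂ : F.IsModel p G₂ ι₂)
    (hQ : CentricNormal F Q) (π₁ : G₁ →* F.autGroup Q)
    (hconj : ∀ (g : G₁) (q : Q), g * ι₁ ⟨q, hQ.le q.2⟩ * g⁻¹ =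
      ι₁ ⟨((π₁ g : MulAut Q) q : Q), hQ.le ((π₁ g : MulAut Q) q).2⟩)
    (hπ₁ : ∀ s : S, π₁ (ι₁ s) = actQ hQ s) (D₂ : ActionData hQ ι₂) :
    ∃ Φ : G₁ →* G₂, (∀ g, D₂.pi (Φ g) = π₁ g) ∧ ∀ x : S, Φ (ι₁ x) = ι₂ x := by
  classical
  haveI := hM₂.1
  haveI := finite_of_le (S := S) hQ.le
  haveI : Fintype (G₁ ⧸ ι₁.range) := Fintype.ofFinite _
  have hX := coprime_cosets_of_sylow h₁.1 hT₁ hQ
  have hinj := h₁.1
  let r : G₁ ⧸ ι₁.range → G₁ := fun y => y.out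
  have hr : ∀ (g : G₁) (y : G₁ ⧸ ι₁.range), ∃ s : S, ι₁ s = (r (g • y))⁻¹ * g * r y := fun g y => by
    have h1 : (QuotientGroup.mk (r (g • y)) : G₁ ⧸ ι₁.range) = QuotientGroup.mk (g * r y) := by
      rw [QuotientGroup.out_eq', ← smul_eq_mul, ← MulAction.Quotient.smul_mk, QuotientGroup.out_eq']
    obtain ⟨s, hs⟩ := QuotientGroup.eq.1 h1
    exact ⟨s, by rw [hs, mul_assoc]⟩
  choose σ hσ using hr
  have hσmul : ∀ g g' y, σ (g * g') y = σ g (g' • y) * σ g' y := fun g g' y =>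
    hinj (by rw [map_mul, hσ, hσ, hσ, mul_smul]; group)
  letI : MulAction S (G₁ ⧸ ι₁.range) := MulAction.compHom _ ι₁
  obtain ⟨r', hr'⟩ := exists_equivariant_section (N := S) (X := G₁ ⧸ ι₁.range) (U := G₂)
    (fun a y u => ι₂ a * u * (ι₂ (σ (ι₁ a) y))⁻¹)
    (fun a b y u => by
      show ι₂ (a * b) * u * (ι₂ (σ (ι₁ (a * b)) y))⁻¹ =
        ι₂ a * (ι₂ b * u * (ι₂ (σ (ι₁ b) y))⁻¹) * (ι₂ (σ (ι₁ a) (ι₁ b • y)))⁻¹
      rw [map_mul ι₁, hσmul, map_mul, map_mul, mul_inv_rev]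
      simp only [mul_assoc])
    (fun y u => D₂.pi u = π₁ (r y))
    (fun a y u hu => by
      show D₂.pi (ι₂ a * u * (ι₂ (σ (ι₁ a) y))⁻¹) = π₁ (r (ι₁ a • y))
      rw [map_mul, map_mul, map_inv, D₂.pi_inc, D₂.pi_inc, hu, ← hπ₁, ← hπ₁, hσ, map_mul, map_mul,
        map_inv]
      group)
    (fun y => by
      set Ny : Subgroup Ω := (MulAction.stabilizer S y).map S.subtype with hNy
      have hle : Ny ≤ S := Subgroup.map_subtype_le _
      have hfix : ∀ a : Ny, ι₁ ⟨a, hle a.2⟩ • y = y := by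
        rintro ⟨_, a, ha, rfl⟩; exact ha
      have hval : ∀ a : Ny, ι₁ (σ (ι₁ ⟨a, hle a.2⟩) y) = (r y)⁻¹ * ι₁ ⟨a, hle a.2⟩ * r y := fun a => by
        rw [hσ, hfix a]
      let ψ : Ny →* Ω := MonoidHom.mk' (fun a => (σ (ι₁ ⟨a, hle a.2⟩) y : Ω)) fun a b => by
        rw [← Subgroup.coe_mul]
        refine congrArg Subtype.val (hinj ?_)
        rw [map_mul, hval, hval, hval, show (⟨((a * b : Ny) : Ω), hle (a * b).2⟩ : S) =
          ⟨a, hle a.2⟩ * ⟨b, hle b.2⟩ from rfl, map_mul]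
        group
      have hψ : ψ ∈ F.Hom Ny := (h₁.2 Ny hle ψ fun a => SetLike.coe_mem _).2
        ⟨(r y)⁻¹, fun a => (hval a).trans (by group)⟩
      obtain ⟨w, hw⟩ := (hM₂.2.1.2 Ny hle ψ fun a => SetLike.coe_mem _).1 hψ
      have hQN : ∀ q : Q, ι₁ ⟨q, hQ.le q.2⟩ • y = y := fun q => by
        rw [← QuotientGroup.out_eq' y, MulAction.Quotient.smul_mk, smul_eq_mul, QuotientGroup.eq]
        refine ⟨(⟨_, hQ.le ((π₁ (r y) : MulAut Q)⁻¹ q).2⟩ : S)⁻¹, ?_⟩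
        have h := hconj (r y) ((π₁ (r y) : MulAut Q)⁻¹ q)
        simp only [MulAut.apply_inv_self, MulEquiv.apply_symm_apply] at h
        rw [map_inv, mul_inv_rev, ← h]
        simp only [r]
        group
      refine ⟨w⁻¹, Subtype.ext (MulEquiv.ext fun q => ?_), fun a ha => ?_⟩
      · obtain ⟨q', rfl⟩ : ∃ q', (π₁ (r y) : MulAut Q)⁻¹ q' = q := ((π₁ (r y) : MulAut Q)⁻¹).surjective q
        rw [show (π₁ (r y) : MulAut Q) ((π₁ (r y) : MulAut Q)⁻¹ q') = q' from MulEquiv.apply_symm_apply _ q',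
          map_inv]
        refine (MulEquiv.symm_apply_eq _).2 ?_
        refine Subtype.ext (congrArg Subtype.val (hM₂.2.1.1 (a₁ := ⟨_, hQ.le ((π₁ (r y) : MulAut Q)⁻¹ q').2⟩)
          (a₂ := ⟨_, hQ.le ((D₂.pi w : MulAut Q) q').2⟩) ?_) :)
        rw [← D₂.conj w q']
        refine Eq.trans (congrArg ι₂ (Subtype.ext ?_)) (hw ⟨q', ⟨q', hQ.le q'.2⟩, hQN q', rfl⟩)
        refine congrArg Subtype.val (hinj (a₁ := ⟨_, hQ.le ((π₁ (r y) : MulAut Q)⁻¹ q').2⟩)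
          (a₂ := σ (ι₁ ⟨q', hQ.le q'.2⟩) y) ?_)
        rw [hσ, hQN q']
        have h := hconj (r y)⁻¹ q'
        rw [map_inv, inv_inv] at h
        exact h.symm
      · show ι₂ a * w⁻¹ * (ι₂ (σ (ι₁ a) y))⁻¹ = w⁻¹
        rw [show ι₂ (σ (ι₁ a) y) = w * ι₂ a * w⁻¹ from hw ⟨a, a, ha, rfl⟩]
        group)
  let e : G₁ → G₁ ⧸ ι₁.range → G₂ := fun g y => r' (g • y) * ι₂ (σ g y) * (r' y)⁻¹
  have he : ∀ g y, D₂.pi (e g y) = π₁ g := fun g y => by
    show D₂.pi (r' (g • y) * ι₂ (σ g y) * (r' y)⁻¹) = _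
    rw [map_mul, map_mul, map_inv, (hr' _).1, (hr' _).1, D₂.pi_inc, ← hπ₁, hσ, map_mul, map_mul, map_inv]
    group
  have hemul : ∀ g g' y, e (g * g') y = e g (g' • y) * e g' y := fun g g' y => by
    show r' ((g * g') • y) * ι₂ (σ (g * g') y) * (r' y)⁻¹ = r' (g • g' • y) * ι₂ (σ g (g' • y)) * (r' (g' • y))⁻¹ *
      (r' (g' • y) * ι₂ (σ g' y) * (r' y)⁻¹)
    rw [hσmul, mul_smul, map_mul]; group
  have heinc : ∀ (s : S) y, e (ι₁ s) y = ι₂ s := fun s y => by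
    show r' (ι₁ s • y) * ι₂ (σ (ι₁ s) y) * (r' y)⁻¹ = _
    rw [show ι₁ s • y = s • y from rfl, (hr' y).2 s]
    group
  haveI : Nonempty (G₁ ⧸ ι₁.range) := ⟨QuotientGroup.mk 1⟩
  choose φ hφπ hφd using fun g => exists_average D₂ hM₂ hX (e g) (π₁ g) (he g)
  have hmul : ∀ g g', φ (g * g') = φ g * φ g' := fun g g' => by
    refine average_unique D₂ hM₂ hX (e := e (g * g')) ?_ (hφd _) ?_
    · rw [map_mul, hφπ, hφπ, hφπ, map_mul]
    obtain ⟨d, hd, hdp⟩ := hφd g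
    obtain ⟨d', hd', hdp'⟩ := hφd g'
    refine ⟨fun y => zQRestrict Q (D₂.pi (φ g')⁻¹ : MulAut Q) (d (g' • y)) * d' y, fun y => ?_, ?_⟩
    · rw [map_mul, ← zEmb_conj, hd, hd', hemul]; group
    · rw [Finset.prod_mul_distrib, hdp', mul_one, ← map_prod,
        show ∏ y, d (g' • y) = ∏ y, d y from Equiv.prod_comp (MulAction.toPerm g') d, hdp, map_one]
  have hinc : ∀ s, φ (ι₁ s) = ι₂ s := fun s => by
    refine average_unique D₂ hM₂ hX (e := e (ι₁ s)) ?_ (hφd _) ⟨fun _ => 1, fun y => ?_, Finset.prod_const_one⟩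
    · rw [hφπ, hπ₁, D₂.pi_inc]
    · rw [map_one, heinc, inv_mul_cancel]
  exact ⟨MonoidHom.mk' φ hmul, hφπ, hinc⟩

/-- A group realizing the system and acting on a normal centric subgroup as the whole automizer has every model as
a quotient. -/
theorem exists_surjective_to_model {G₁ G₂ : Type*} [Group G₁] [Finite G₁] [Group G₂] {ι₁ : S →* G₁} {ι₂ : S →* G₂}
    (h₁ : F.IsRealizedBy ι₁) (hT₁ : ∃ T : Sylow p G₁, (T : Subgroup G₁) = ι₁.range) (hM₂ : F.IsModel p G₂ ι₂)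
    (hQ : CentricNormal F Q) (π₁ : G₁ →* F.autGroup Q) (hsurj : Function.Surjective π₁)
    (hconj : ∀ (g : G₁) (q : Q), g * ι₁ ⟨q, hQ.le q.2⟩ * g⁻¹ =
      ι₁ ⟨((π₁ g : MulAut Q) q : Q), hQ.le ((π₁ g : MulAut Q) q).2⟩)
    (hπ₁ : ∀ s : S, π₁ (ι₁ s) = actQ hQ s) :
    ∃ Φ : G₁ →* G₂, Function.Surjective Φ ∧ ∀ x : S, Φ (ι₁ x) = ι₂ x := by
  obtain ⟨D₂⟩ := exists_actionData hM₂ hQ
  obtain ⟨Φ, hπ, hinc⟩ := exists_hom_to_model h₁ hT₁ hM₂ hQ π₁ hconj hπ₁ D₂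
  refine ⟨Φ, fun b => ?_, hinc⟩
  obtain ⟨g, hg⟩ := hsurj (D₂.pi b)
  obtain ⟨z, hz⟩ := exists_zEmb D₂ (g := (Φ g)⁻¹ * b) (by rw [map_mul, map_inv, hπ, hg, inv_mul_cancel])
  exact ⟨g * ι₁ (zQInc hQ z), by
    rw [map_mul, hinc, show ι₂ (zQInc hQ z) = (Φ g)⁻¹ * b from hz, mul_inv_cancel_left]⟩

/-- The Model Theorem: uniqueness. -/
theorem model_unique {G₁ G₂ : Type*} [Group G₁] [Group G₂] {ι₁ : S →* G₁} {ι₂ : S →* G₂}
    (hM₁ : F.IsModel p G₁ ι₁) (hM₂ : F.IsModel p G₂ ι₂) (hQ : CentricNormal F Q) :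
    ∃ φ : G₁ ≃* G₂, ∀ x : S, φ (ι₁ x) = ι₂ x := by
  obtain ⟨D₁⟩ := exists_actionData hM₁ hQ
  obtain ⟨D₂⟩ := exists_actionData hM₂ hQ
  haveI := hM₁.1
  obtain ⟨Φ, hφπ, hinc⟩ := exists_hom_to_model hM₁.2.1 hM₁.2.2.1 hM₂ hQ D₁.pi D₁.conj D₁.pi_inc D₂
  refine ⟨MulEquiv.ofBijective Φ ⟨(injective_iff_map_eq_one Φ).2 fun g hg => ?_, fun b => ?_⟩, hinc⟩
  · obtain ⟨z, rfl⟩ := exists_zEmb D₁ (g := g) (by rw [← hφπ, hg, map_one])
    have h1 : Φ (ι₁ (zQInc hQ z)) = 1 := hg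
    rw [hinc] at h1
    have h2 : ι₂ (zQInc hQ z) = ι₂ 1 := h1.trans (map_one ι₂).symm
    show ι₁ (zQInc hQ z) = 1
    rw [hM₂.2.1.1 h2, map_one]
  · obtain ⟨g, hg⟩ := D₁.surj (D₂.pi b)
    obtain ⟨z, hz⟩ := exists_zEmb D₂ (g := (Φ g)⁻¹ * b) (by rw [map_mul, map_inv, hφπ, hg, inv_mul_cancel])
    exact ⟨g * ι₁ (zQInc hQ z), by
      rw [map_mul, hinc, show ι₂ (zQInc hQ z) = (Φ g)⁻¹ * b from hz, mul_inv_cancel_left]⟩

/-- The Model Theorem: rigidity. -/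
theorem model_rigid {G : Type*} [Group G] {ι : S →* G} (hM : F.IsModel p G ι) (hQ : CentricNormal F Q)
    (ψ : G ≃* G) (hψ : ∀ x : S, ψ (ι x) = ι x) :
    ∃ z : S, z ∈ Subgroup.center S ∧ ∀ g : G, ψ g = ι z * g * (ι z)⁻¹ := by
  classical
  obtain ⟨D⟩ := exists_actionData hM hQ
  haveI := hM.1
  haveI : Fintype (G ⧸ ι.range) := Fintype.ofFinite _
  have hX := coprime_cosets hM hQ
  have hinj : Function.Injective (zEmb D) := hM.2.1.1.comp (Subgroup.inclusion_injective _)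
  have hπψ : ∀ g, D.pi (ψ g) = D.pi g := fun g => Subtype.ext (MulEquiv.ext fun q => Subtype.ext (by
    have h := congrArg ψ (D.conj g q)
    rw [map_mul, map_mul, map_inv, hψ, hψ, D.conj (ψ g) q] at h
    exact congrArg (fun u : S => (u : Ω)) (hM.2.1.1 h)))
  choose ε hε using fun g => exists_zEmb D (g := ψ g * g⁻¹) (by rw [map_mul, map_inv, hπψ, mul_inv_cancel])
  let act : G →* MulAut (zQ Q) := (zQRestrict Q).comp ((F.autGroup Q).subtype.comp D.pi)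
  have hact : ∀ g z, zEmb D (act g z) = g * zEmb D z * g⁻¹ := fun g z => (zEmb_conj D g z).symm
  have hεmul : ∀ g g', ε (g * g') = ε g * act g (ε g') := fun g g' => hinj (by
    rw [map_mul, hact, hε, hε, hε, map_mul]; group)
  have hεinc : ∀ s, ε (ι s) = 1 := fun s => hinj (by rw [hε, hψ, mul_inv_cancel, map_one])
  let f : G ⧸ ι.range → zQ Q := fun y => ε y.out
  have hf : ∀ g, f (QuotientGroup.mk g) = ε g := fun g => by
    obtain ⟨s, hs⟩ := QuotientGroup.eq.1 (QuotientGroup.out_eq' (QuotientGroup.mk g : G ⧸ ι.range)).symm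
    show ε (QuotientGroup.mk g : G ⧸ ι.range).out = ε g
    rw [show (QuotientGroup.mk g : G ⧸ ι.range).out = g * ι s by rw [hs, mul_inv_cancel_left], hεmul, hεinc,
      map_one, mul_one]
  obtain ⟨u, hu⟩ := (powCoprime hX).surjective (∏ y, f y)
  have hkey : ∀ g, ε g * act g u = u := fun g => by
    refine (powCoprime hX).injective ?_
    show (ε g * act g u) ^ Nat.card (G ⧸ ι.range) = u ^ Nat.card (G ⧸ ι.range)
    rw [mul_pow, ← map_pow, show u ^ Nat.card (G ⧸ ι.range) = ∏ y, f y from hu]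
    have hshift : ∀ y, f (g • y) = ε g * act g (f y) := fun y => by
      obtain ⟨a, rfl⟩ := QuotientGroup.mk_surjective y
      rw [MulAction.Quotient.smul_mk, smul_eq_mul, hf, hf, hεmul]
    conv_rhs => rw [← Equiv.prod_comp (MulAction.toPerm g) f]
    simp only [MulAction.toPerm_apply, hshift]
    rw [Finset.prod_mul_distrib, Finset.prod_const, Finset.card_univ, ← Nat.card_eq_fintype_card, map_prod]
  have hmain : ∀ g, ψ g = zEmb D u * g * (zEmb D u)⁻¹ := fun g => by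
    have h := congrArg (zEmb D) (hkey g)
    rw [map_mul, hact, hε] at h
    have e : ψ g * zEmb D u * g⁻¹ = zEmb D u := by
      convert h using 1; group
    exact eq_mul_inv_of_mul_eq (mul_inv_eq_iff_eq_mul.1 e)
  refine ⟨zQInc hQ u, Subgroup.mem_center_iff.2 fun s => hM.2.1.1 ?_, hmain⟩
  have h := hmain (ι s)
  rw [hψ] at h
  rw [map_mul, map_mul]
  show ι s * zEmb D u = zEmb D u * ι s
  nth_rw 1 [h]
  group

end Cfsg.Agent.FusionSys
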