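import Cfsg.Agent.Lib.Fusion.Group
import Cfsg.Agent.Lib.Fusion.ModelLocal
import Cfsg.Agent.Lib.Fusion.ModelUnique
import Cfsg.Agent.Lib.Fusion.Saturated

/-!
# Models of the normalizer systems of a group fusion system
-/

set_option autoImplicit false

namespace Cfsg.Agent.FusionSys

open Cfsg Cfsg.FusionSystem

universe u

variable {G : Type u} [Group G] [Finite G] {p : ℕ} [hp : Fact p.Prime]

omit [Finite G] in
/-- The normalizer system of the group system is realized by the normalizer in the group. -/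
theorem group_normalizerSystem_realizedBy (S Q : Subgroup G) (hQ : Q ≤ S)
    {N : FusionSystem (normalizerIn S Q)} (hN : (groupFusionSystem S).IsNormalizerSystem Q N) :
    N.IsRealizedBy (Subgroup.inclusion (inf_le_right : normalizerIn S Q ≤ Subgroup.normalizer (Q : Set G))) := by
  refine ⟨Subgroup.inclusion_injective _, fun P hP φ hφ => ?_⟩
  rw [hN P]
  constructor
  · rintro ⟨-, -, -, ψ, ⟨-, -, g, hg⟩, h1, h2⟩
    have hq := (map_subgroupOf_eq_iff ψ le_sup_right).1 h2
    have hgQ : g ∈ Subgroup.normalizer (Q : Set G) := by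
      refine mem_normalizer_of_conj_mem g (fun x hx => ?_) fun x hx => ?_
      · have h := hq.1 ⟨x, hx⟩
        rw [hg] at h
        exact h
      · obtain ⟨y, hy⟩ := hq.2 x hx
        rw [hg] at hy
        rw [← hy]
        show g⁻¹ * (g * (y : G) * g⁻¹) * g ∈ Q
        rw [show g⁻¹ * (g * (y : G) * g⁻¹) * g = y by group]
        exact y.2
    exact ⟨⟨g, hgQ⟩, fun x => Subtype.ext ((h1 x).symm.trans (hg _))⟩
  · rintro ⟨⟨g, hgQ⟩, hg⟩
    have hg' : ∀ x : P, φ x = g * (x : G) * g⁻¹ := fun x => congrArg Subtype.val (hg x)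
    have hgS : ∀ x : ↥(P ⊔ Q), g * (x : G) * g⁻¹ ∈ S :=
      apply_mem_of_sup ((MulAut.conj g).toMonoidHom.comp (P ⊔ Q).subtype) (fun x => by
        show g * (x : G) * g⁻¹ ∈ S
        rw [← hg']; exact (hφ x).1) fun x => hQ ((Subgroup.mem_normalizer_iff.1 hgQ _).1 x.2)
    refine ⟨⟨hP.trans inf_le_left, fun x => (hφ x).1, g, hg'⟩, hP, hφ,
      (MulAut.conj g).toMonoidHom.comp (P ⊔ Q).subtype,
      ⟨sup_le (hP.trans inf_le_left) hQ, hgS, g, fun x => rfl⟩, fun x => (hg' x).symm, ?_⟩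
    rw [map_subgroupOf_eq_iff _ le_sup_right]
    refine ⟨fun x => (Subgroup.mem_normalizer_iff.1 hgQ _).1 x.2, fun y hy => ?_⟩
    refine ⟨⟨g⁻¹ * y * g, ?_⟩, ?_⟩
    · simpa using (Subgroup.mem_normalizer_iff.1 (inv_mem hgQ) y).1 hy
    · show g * (g⁻¹ * y * g) * g⁻¹ = y
      group

/-- A normal subgroup meeting a Sylow subgroup trivially has order prime to `p`. -/
theorem coprime_of_disjoint_sylow {H : Type*} [Group H] [Finite H] (T : Sylow p H) (D : Subgroup H) [D.Normal]
    (h : (T : Subgroup H) ⊓ D = ⊥) : (Nat.card D).Coprime p := by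
  rw [Nat.coprime_comm, hp.out.coprime_iff_not_dvd]
  intro hdvd
  obtain ⟨x, hx⟩ := exists_prime_orderOf_dvd_card' p hdvd
  have hxH : orderOf (x : H) = p := by rw [Subgroup.orderOf_coe, hx]
  have hp' : IsPGroup p (Subgroup.zpowers (x : H)) := IsPGroup.of_card (n := 1) (by
    rw [Nat.card_zpowers, hxH, pow_one])
  obtain ⟨T', hT'⟩ := hp'.exists_le_sylow
  obtain ⟨g, hg⟩ := MulAction.exists_smul_eq H T' T
  have h1 : g * (x : H) * g⁻¹ ∈ (T : Subgroup H) := by
    rw [← hg, Sylow.coe_subgroup_smul]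
    exact ⟨_, hT' (Subgroup.mem_zpowers _), rfl⟩
  have h2 : g * (x : H) * g⁻¹ ∈ (T : Subgroup H) ⊓ D := ⟨h1, Subgroup.Normal.conj_mem inferInstance _ x.2 g⟩
  rw [h, Subgroup.mem_bot, mul_inv_eq_one, mul_eq_left] at h2
  rw [h2, orderOf_one] at hxH
  exact hp.out.ne_one hxH.symm

/-- Every model of a centric fully normalized subgroup is the normalizer modulo a normal subgroup of order prime
to `p`. -/
theorem group_model (S : Sylow p G) {Q : Subgroup G}
    (hQn : (groupFusionSystem (S : Subgroup G)).IsFullyNormalized Q)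
    (hQc : (groupFusionSystem (S : Subgroup G)).IsCentric Q)
    {N : FusionSystem (normalizerIn (S : Subgroup G) Q)}
    (hN : (groupFusionSystem (S : Subgroup G)).IsNormalizerSystem Q N) {L : Type*} [Group L]
    {ι : normalizerIn (S : Subgroup G) Q →* L} (hL : N.IsModel p L ι) :
    ∃ Φ : Subgroup.normalizer (Q : Set G) →* L, Function.Surjective Φ ∧ (Nat.card Φ.ker).Coprime p := by
  set inc := Subgroup.inclusion (inf_le_right : normalizerIn (S : Subgroup G) Q ≤ Subgroup.normalizer (Q : Set G))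
    with hinc
  have hS := S.2
  have hF := groupFusionSystem_saturated S
  have hQS : Q ≤ S := hQn.1
  have hreal : N.IsRealizedBy inc := group_normalizerSystem_realizedBy _ _ hQS hN
  obtain ⟨-, hNQ⟩ := normalizerSystem_constrained hS hF hQn hQc hN
  obtain ⟨T₁, hT₁⟩ : ∃ T : Sylow p (Subgroup.normalizer (Q : Set G)), (T : Subgroup _) = inc.range := by
    obtain ⟨T, hT⟩ := ((group_fullyNormalized_iff S hQS).1 hQn).toSylow
    exact ⟨T, by rw [hT, hinc, Subgroup.inclusion_range]; rfl⟩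
  have hmem : ∀ g : Subgroup.normalizer (Q : Set G), Q.normalizerMonoidHom g ∈ N.autGroup Q := fun g => by
    rw [normalizerSystem_autGroup hQS hN, group_autGroup S hQS, mem_autInducedBy_iff]
    exact ⟨g, trivial, fun _ => rfl⟩
  have hsurj : Function.Surjective (Q.normalizerMonoidHom.codRestrict (N.autGroup Q) hmem) := by
    rintro ⟨α, hα⟩
    have hα' := hα
    rw [normalizerSystem_autGroup hQS hN, group_autGroup S hQS, mem_autInducedBy_iff] at hα'
    obtain ⟨g, -, hg⟩ := hα'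
    have hgN : g ∈ Subgroup.normalizer (Q : Set G) := mem_normalizer_of_conj_mem g
      (fun x hx => by rw [← hg ⟨x, hx⟩]; exact (α ⟨x, hx⟩).2) fun x hx => by
        have h := hg (α.symm ⟨x, hx⟩)
        rw [α.apply_symm_apply] at h
        show g⁻¹ * x * g ∈ Q
        rw [show x = g * (α.symm ⟨x, hx⟩ : G) * g⁻¹ from h]
        rw [show g⁻¹ * (g * (α.symm ⟨x, hx⟩ : G) * g⁻¹) * g = (α.symm ⟨x, hx⟩ : G) by group]
        exact (α.symm ⟨x, hx⟩).2
    exact ⟨⟨g, hgN⟩, Subtype.ext (MulEquiv.ext fun x => Subtype.ext (hg x).symm)⟩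
  obtain ⟨Φ, hΦ, hΦι⟩ := exists_surjective_to_model hreal ⟨T₁, hT₁⟩ hL hNQ
    (Q.normalizerMonoidHom.codRestrict (N.autGroup Q) hmem) hsurj (fun g q => Subtype.ext rfl)
    (fun s => Subtype.ext (MulEquiv.ext fun q => Subtype.ext rfl))
  refine ⟨Φ, hΦ, coprime_of_disjoint_sylow T₁ _ ?_⟩
  rw [eq_bot_iff]
  rintro x ⟨hx, hxk⟩
  rw [hT₁] at hx
  obtain ⟨s, rfl⟩ := hx
  replace hxk : Φ (inc s) = 1 := hxk
  have hs : ι s = ι 1 := ((hΦι s).symm.trans hxk).trans (map_one ι).symm
  rw [Subgroup.mem_bot, hL.2.1.1 hs]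
  exact Subtype.ext rfl

end Cfsg.Agent.FusionSys
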