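import Cfsg.Agent.Lib.Fusion.ExtraspecialCentre
import Cfsg.Agent.Lib.Fusion.Model

/-!
# Saturated systems on Heisenberg-type groups with a nontrivial normal subgroup are constrained

The hypotheses hold for a Sylow `p`-subgroup of `SL₃(q)`.
-/

set_option autoImplicit false

namespace Cfsg.Agent.FusionSys.HeisCore

open Cfsg Cfsg.FusionSystem
open Cfsg.Agent.FusionSys.ExtraCentre (zs mem_zs zs_le_of_centric)

universe u

variable {Ω : Type u} [Group Ω] {S : Subgroup Ω}

/-- Commutators are central, centralizers of noncentral elements are abelian, and commutation with a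
noncentral element covers the centre. -/
structure Heis (S : Subgroup Ω) : Prop where
  comm : ∀ g ∈ S, ∀ x ∈ S, ∃ w ∈ zs S, g * x * g⁻¹ = x * w
  centAb : ∀ x ∈ S, x ∉ zs S → ∀ u ∈ S, ∀ v ∈ S, u * x = x * u → v * x = x * v → u * v = v * u
  surj : ∀ a ∈ S, a ∉ zs S → ∀ w ∈ zs S, ∃ s ∈ S, s * a * s⁻¹ = a * w
  nonab : ¬ S ≤ zs S

variable {p : ℕ} [hp : Fact p.Prime] [Finite S] {F : FusionSystem S}

omit hp [Finite S] in
theorem normal_of_centre_le (hH : Heis S) {E : Subgroup Ω} (hES : E ≤ S) (hZ : zs S ≤ E) :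
    S ≤ Subgroup.normalizer (E : Set Ω) := fun g hg => by
  refine mem_normalizer_of_conj_mem g (fun x hx => ?_) fun x hx => ?_
  · obtain ⟨w, hw, he⟩ := hH.comm g hg x (hES hx)
    rw [he]; exact E.mul_mem hx (hZ hw)
  · obtain ⟨w, hw, he⟩ := hH.comm g⁻¹ (S.inv_mem hg) x (hES hx)
    rw [inv_inv] at he
    rw [he]; exact E.mul_mem hx (hZ hw)

/-- Essential subgroups are abelian. -/
theorem essential_abelian (hS : IsPGroup p S) (hF : F.IsSaturated p) (hH : Heis S) {E : Subgroup Ω}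
    (hE : F.IsEssential p E) : ∀ a ∈ E, ∀ b ∈ E, a * b = b * a := by
  have hES := hE.1.1
  have := finite_of_le hES
  have hZE : zs S ≤ E := zs_le_of_centric hE.1
  by_contra hne
  push_neg at hne
  obtain ⟨a, ha, b, hb, hab⟩ := hne
  have hZ : ∀ x ∈ E, (∀ y ∈ E, y * x = x * y) → x ∈ zs S := fun x hx hc => by
    by_contra h
    exact hab (hH.centAb x (hES hx) h a (hES ha) b (hES hb) (hc a ha) (hc b hb))
  refine (essential_lt hS hF hE).not_ge fun s hs => ?_
  let A : Fin 2 → Subgroup Ω := ![E, zs S]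
  let B : Fin 2 → Subgroup Ω := ![zs S, ⊥]
  have hinv : ∀ α ∈ F.autGroup E, ∀ y : E, (y : Ω) ∈ zs S → ((α y : E) : Ω) ∈ zs S := fun α _ y hy => by
    refine hZ _ (α y).2 fun v hv => ?_
    have h : α.symm ⟨v, hv⟩ * y = y * α.symm ⟨v, hv⟩ := Subtype.ext ((mem_zs.1 hy).2 _ (hES (α.symm ⟨v, hv⟩).2))
    have h2 := congrArg α h
    rw [map_mul, map_mul, α.apply_symm_apply] at h2
    exact congrArg Subtype.val h2
  have hbot : ∀ α ∈ F.autGroup E, ∀ y : E, (y : Ω) ∈ (⊥ : Subgroup Ω) → ((α y : E) : Ω) ∈ (⊥ : Subgroup Ω) := by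
    intro α _ y hy
    rw [Subgroup.mem_bot] at hy ⊢
    rw [show y = 1 from Subtype.ext hy, map_one]; rfl
  refine mem_of_stabilizer hS hE.1 (essential_radical hS hF hE) A B ?_ ?_ (fun α _ hco hst => ?_) hs
    (normal_of_centre_le hH hES hZE hs) ?_
  · intro j
    fin_cases j
    · exact fun α _ y _ => (α y).2
    · exact hinv
  · intro j
    fin_cases j
    · exact hinv
    · exact hbot
  · refine MulEquiv.ext fun y => ?_
    refine fix_of_step (hS.to_le hES) hco ?_
    have h0 : ((y⁻¹ * α y : E) : Ω) ∈ zs S := hst 0 y y.2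
    have h1 := hst 1 (y⁻¹ * α y) h0
    refine Subtype.ext ?_
    exact (inv_mul_eq_one.1 (Subgroup.mem_bot.1 h1)).symm
  · intro j
    fin_cases j
    · intro y hy _
      obtain ⟨w, hw, he⟩ := hH.comm s hs y (hES hy)
      show y⁻¹ * (s * y * s⁻¹) ∈ zs S
      rw [he, inv_mul_cancel_left]; exact hw
    · intro y _ hy
      show y⁻¹ * (s * y * s⁻¹) ∈ (⊥ : Subgroup Ω)
      rw [(mem_zs.1 hy).2 s hs, mul_inv_cancel_right, inv_mul_cancel]
      exact one_mem _

theorem exists_not_central (hS : IsPGroup p S) (hF : F.IsSaturated p) (hH : Heis S) {E : Subgroup Ω}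
    (hE : F.IsEssential p E) : ∃ x ∈ E, x ∉ zs S := by
  by_contra h
  push_neg at h
  refine (essential_lt hS hF hE).not_ge fun s hs => centralizerIn_le_of_centric hE.1
    ⟨hs, Subgroup.mem_centralizer_iff.2 fun e he => ((mem_zs.1 (h e he)).2 s hs).symm⟩

/-- An essential subgroup is the centralizer of each of its noncentral elements. -/
theorem mem_of_commute (hS : IsPGroup p S) (hF : F.IsSaturated p) (hH : Heis S) {E : Subgroup Ω}
    (hE : F.IsEssential p E) {a : Ω} (ha : a ∈ E) (haZ : a ∉ zs S) {u : Ω} (hu : u ∈ S) (hua : u * a = a * u) :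
    u ∈ E := by
  have hab := essential_abelian hS hF hH hE
  exact centralizerIn_le_of_centric hE.1 ⟨hu, Subgroup.mem_centralizer_iff.2 fun e he =>
    hH.centAb a (hE.1.1 ha) haZ e (hE.1.1 he) u hu (hab e he a ha) hua⟩

/-- A nontrivial normal subgroup is not central once there is an essential subgroup. -/
theorem not_le_centre (hS : IsPGroup p S) (hF : F.IsSaturated p) (hH : Heis S) {E : Subgroup Ω}
    (hE : F.IsEssential p E) {Q : Subgroup Ω} (hQ : F.IsNormal Q) (hQ1 : Q ≠ ⊥) : ¬ Q ≤ zs S := by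
  intro hQZ
  have hES := hE.1.1
  have := finite_of_le hES
  have hab := essential_abelian hS hF hH hE
  have hZE : zs S ≤ E := zs_le_of_centric hE.1
  have hn := normal_of_centre_le hH hES hZE
  have hC := centralizerIn_le_of_centric hE.1
  set G := F.autGroup E
  set Z₀ : Subgroup E := (zs S).subgroupOf E
  set T : Subgroup G := (autInducedBy S E).subgroupOf G
  obtain ⟨R, hR⟩ := (fullyNormalized_imp hS hF hE.2.1).2.2
  replace hR : (R : Subgroup G) = T := hR
  -- the elements of `T`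
  have hTfix : ∀ t ∈ T, ∀ z : E, z ∈ Z₀ → (t : MulAut E) z = z := by
    intro t ht z hz
    obtain ⟨g, hg, hge⟩ := (mem_autInducedBy_iff _).1 (Subgroup.mem_subgroupOf.1 ht)
    exact Subtype.ext (by rw [hge]; exact mul_inv_eq_iff_eq_mul.2 ((mem_zs.1 hz).2 g hg))
  have hTshift : ∀ t ∈ T, ∀ x : E, x⁻¹ * (t : MulAut E) x ∈ Z₀ := by
    intro t ht x
    obtain ⟨g, hg, hge⟩ := (mem_autInducedBy_iff _).1 (Subgroup.mem_subgroupOf.1 ht)
    obtain ⟨w, hw, he⟩ := hH.comm g hg x (hES x.2)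
    show ((x⁻¹ * (t : MulAut E) x : E) : Ω) ∈ zs S
    push_cast
    rw [hge, he, inv_mul_cancel_left]; exact hw
  have hTfree : ∀ t ∈ T, ∀ x : E, (t : MulAut E) x = x → x ∉ Z₀ → t = 1 := by
    intro t ht x hx hxZ
    obtain ⟨g, hg, hge⟩ := (mem_autInducedBy_iff _).1 (Subgroup.mem_subgroupOf.1 ht)
    have hgE : g ∈ E := mem_of_commute hS hF hH hE x.2 hxZ hg
      (mul_inv_eq_iff_eq_mul.1 (by rw [← hge, hx]))
    refine Subtype.ext (MulEquiv.ext fun e => Subtype.ext ?_)
    show (((t : MulAut E) e : E) : Ω) = e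
    rw [hge]; exact mul_inv_eq_iff_eq_mul.2 (hab g hgE e e.2)
  have hTsurj : ∀ x : E, x ∉ Z₀ → ∀ r ∈ Z₀, ∃ t ∈ T, (t : MulAut E) x = x * r := by
    intro x hx r hr
    obtain ⟨s, hs, hse⟩ := hH.surj x (hES x.2) hx r hr
    obtain ⟨t, ht, hte⟩ := exists_conjAut (K := S) (P := E) hs (hn hs)
    exact ⟨⟨t, autInducedBy_le_autGroup F hES ht⟩, ht, Subtype.ext ((hte x).trans hse)⟩
  -- the stabilizer of `Z₀` normalizes `T`
  let K : Subgroup G :=
    { carrier := {k | (∀ z ∈ Z₀, (k : MulAut E) z = z) ∧ ∀ x : E, x⁻¹ * (k : MulAut E) x ∈ Z₀}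
      one_mem' := ⟨fun _ _ => rfl, fun x => by
        show x⁻¹ * x ∈ Z₀
        rw [inv_mul_cancel]; exact one_mem _⟩
      mul_mem' := fun {k l} hk hl => ⟨fun z hz => by
          show (k : MulAut E) ((l : MulAut E) z) = z
          rw [hl.1 z hz, hk.1 z hz], fun x => by
          show x⁻¹ * (k : MulAut E) ((l : MulAut E) x) ∈ Z₀
          have h := mul_mem (hk.2 x) (hl.2 x)
          rwa [← hk.1 _ (hl.2 x), mul_assoc, ← map_mul, mul_inv_cancel_left] at h⟩
      inv_mem' := fun {k} hk => ⟨fun z hz => by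
          show (k : MulAut E)⁻¹ z = z
          conv_lhs => rw [← hk.1 z hz]
          exact (k : MulAut E).symm_apply_apply z, fun x => by
          show x⁻¹ * (k : MulAut E)⁻¹ x ∈ Z₀
          have h := inv_mem (hk.2 ((k : MulAut E)⁻¹ x))
          rwa [show (k : MulAut E) ((k : MulAut E)⁻¹ x) = x from (k : MulAut E).apply_symm_apply x, mul_inv_rev,
            inv_inv] at h⟩ }
  have hKp : IsPGroup p K := by
    rintro ⟨k, hk⟩
    obtain ⟨n, hn'⟩ := IsPGroup.iff_card.1 (hS.to_le hES)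
    refine ⟨n, Subtype.ext (Subtype.ext (MulEquiv.ext fun x => ?_))⟩
    have hpow : ∀ m : ℕ, ((k : MulAut E) ^ m) x = x * (x⁻¹ * (k : MulAut E) x) ^ m := by
      intro m
      induction m with
      | zero => simp
      | succ m ih =>
        rw [pow_succ', MulAut.mul_apply, ih, map_mul, map_pow, hk.1 _ (hk.2 x), pow_succ', ← mul_assoc,
          mul_inv_cancel_left]
    show ((k : MulAut E) ^ p ^ n) x = x
    rw [hpow, ← hn', pow_card_eq_one', mul_one]
  have hTK : T ≤ K := fun t ht => ⟨hTfix t ht, hTshift t ht⟩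
  have hKT : K = T := by
    have := R.is_maximal' hKp (hR ▸ hTK)
    rw [this, hR]
  have hTnorm : ∀ g : G, (∀ z : E, (g : MulAut E) z ∈ Z₀ ↔ z ∈ Z₀) →
      g ∈ Subgroup.normalizer (T : Set G) := by
    intro g hg
    rw [← hKT]
    have key : ∀ (g : G), (∀ z : E, (g : MulAut E) z ∈ Z₀ ↔ z ∈ Z₀) → ∀ k ∈ K, g * k * g⁻¹ ∈ K := by
      intro g hg k hk
      refine ⟨fun z hz => ?_, fun x => ?_⟩
      · show (g : MulAut E) ((k : MulAut E) ((g : MulAut E)⁻¹ z)) = z
        rw [hk.1 _ ((hg _).1 (by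
          rwa [show (g : MulAut E) ((g : MulAut E)⁻¹ z) = z from (g : MulAut E).apply_symm_apply z]))]
        exact (g : MulAut E).apply_symm_apply z
      · show x⁻¹ * (g : MulAut E) ((k : MulAut E) ((g : MulAut E)⁻¹ x)) ∈ Z₀
        have h := (hg _).2 (hk.2 ((g : MulAut E)⁻¹ x))
        rwa [map_mul, map_inv,
          show (g : MulAut E) ((g : MulAut E)⁻¹ x) = x from (g : MulAut E).apply_symm_apply x] at h
    refine mem_normalizer_of_conj_mem g (key g hg) fun k hk => ?_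
    have := key g⁻¹ (fun z => by
      have h := hg ((g : MulAut E)⁻¹ z)
      rw [show (g : MulAut E) ((g : MulAut E)⁻¹ z) = z from (g : MulAut E).apply_symm_apply z] at h
      exact h.symm) k hk
    rwa [inv_inv] at this
  -- `T` is not normal
  have hne : ∃ g : G, g ∉ Subgroup.normalizer (T : Set G) := by
    by_contra h
    push_neg at h
    have hTn : T.Normal := Subgroup.normalizer_eq_top_iff.1 (eq_top_iff.2 fun g _ => h g)
    obtain ⟨s, hs, hsE⟩ := SetLike.exists_of_lt (essential_lt hS hF hE)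
    obtain ⟨t, ht, hte⟩ := exists_conjAut (K := S) (P := E) hs (hn hs)
    have htA := autInducedBy_le_autGroup F hES ht
    have hle : T ≤ pCore p G := Cfsg.Agent.PBasic.le_pCore hTn (hR ▸ R.2)
    have hin : t ∈ Inn E := (essential_radical hS hF hE).2.le ⟨⟨t, htA⟩, hle ht, rfl⟩
    exact hsE (mem_of_conj_mem_inn (F := F) hC hs hES hte hin)
  classical
  haveI := Fintype.ofFinite G
  set Bad := Finset.univ.filter fun g : G => ¬ ∀ z : E, (g : MulAut E) z ∈ Z₀ ↔ z ∈ Z₀
  have hBad : Bad.Nonempty := by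
    obtain ⟨g, hg⟩ := hne
    exact ⟨g, Finset.mem_filter.2 ⟨Finset.mem_univ _, fun h => hg (hTnorm g h)⟩⟩
  obtain ⟨g, hgB, hmax⟩ := Finset.exists_max_image Bad
    (fun g => Nat.card {z : E // z ∈ Z₀ ∧ (g : MulAut E) z ∈ Z₀}) hBad
  have hg := (Finset.mem_filter.1 hgB).2
  -- a point of the translate of `Z₀` outside `Z₀`
  obtain ⟨z₁, hz₁, hgz₁⟩ : ∃ z : E, z ∈ Z₀ ∧ (g : MulAut E) z ∉ Z₀ := by
    by_contra h
    push_neg at h
    refine hg fun z => ⟨fun hz => ?_, h z⟩
    obtain ⟨y, hy⟩ := (Finite.injective_iff_surjective.1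
      (show Function.Injective (fun y : Z₀ => (⟨(g : MulAut E) y, h y y.2⟩ : Z₀)) from fun a b hab =>
        Subtype.ext ((g : MulAut E).injective (congrArg Subtype.val hab)))) ⟨(g : MulAut E) z, hz⟩
    exact ((g : MulAut E).injective (congrArg Subtype.val hy)) ▸ y.2
  -- a nontrivial element of `Q` gives a common element
  obtain ⟨q, hqQ, hq1⟩ : ∃ q ∈ Q, q ≠ 1 := by
    by_contra h
    push_neg at h
    exact hQ1 (eq_bot_iff.2 fun q hq => Subgroup.mem_bot.2 (h q hq))
  have hgi : (g : MulAut E)⁻¹ ∈ G := inv_mem g.2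
  obtain ⟨ψ, -, hψe, hψQ⟩ := hQ.2 E _ ((equivHom_autGroup F hES).1 hgi)
  set qE : E := ⟨q, hZE (hQZ hqQ)⟩
  set z₀ : E := (g : MulAut E)⁻¹ qE
  have hgz₀ : (g : MulAut E) z₀ = qE := (g : MulAut E).apply_symm_apply qE
  have hz₀ : z₀ ∈ Z₀ := by
    have h : ψ (Subgroup.inclusion le_sup_left qE) ∈ (Q.subgroupOf (E ⊔ Q)).map ψ :=
      ⟨_, show q ∈ Q from hqQ, rfl⟩
    rw [hψQ, hψe] at h
    exact hQZ h
  set x : E := (g : MulAut E) z₁
  obtain ⟨t, ht, htx⟩ := hTsurj x hgz₁ qE (show (qE : Ω) ∈ zs S from hQZ hqQ)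
  -- the translate by `g⁻¹ t g` meets `Z₀` in more
  set v : G := g⁻¹ * t * g with hv
  have hvz : ∀ z : E, z ∈ Z₀ → (g : MulAut E) z ∈ Z₀ → (v : MulAut E) z = z := by
    intro z _ hgz
    show (g : MulAut E)⁻¹ ((t : MulAut E) ((g : MulAut E) z)) = z
    rw [hTfix t ht _ hgz]; exact (g : MulAut E).symm_apply_apply z
  have hv₁ : (v : MulAut E) z₁ = z₁ * z₀ := by
    show (g : MulAut E)⁻¹ ((t : MulAut E) x) = _
    rw [htx, map_mul]
    congr 1
    exact (g : MulAut E).symm_apply_apply z₁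
  have hnotT : v ∉ K := fun h => by
    have := h.1 z₁ hz₁
    rw [hv₁, mul_eq_left] at this
    apply hq1
    have h' : qE = 1 := by rw [← hgz₀, this, map_one]
    exact congrArg Subtype.val h'
  have hvpow : ∃ n : ℕ, v ^ p ^ n = 1 := by
    obtain ⟨n, hn'⟩ := (hR ▸ R.2 : IsPGroup p T) ⟨t, ht⟩
    refine ⟨n, ?_⟩
    have hc := conj_pow (i := p ^ n) (a := g⁻¹) (b := t)
    rw [show t ^ p ^ n = 1 from congrArg Subtype.val hn', mul_one, mul_inv_cancel, inv_inv] at hc
    rw [hv]; exact hc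
  have hvB : v ∈ Bad := Finset.mem_filter.2 ⟨Finset.mem_univ _, fun hvs => hnotT (by
    obtain ⟨n, hn'⟩ := hvpow
    have hnorm := hTnorm v hvs
    rw [← hR] at hnorm
    obtain ⟨j, -, hj⟩ := (Nat.dvd_prime_pow hp.out).1 (orderOf_dvd_of_pow_eq_one hn')
    have hV : IsPGroup p (Subgroup.zpowers v) := IsPGroup.of_card ((Nat.card_zpowers v).trans hj)
    have hmax' := R.is_maximal' (hV.to_sup_of_normal_right' R.2 (Subgroup.zpowers_le.2 hnorm)) le_sup_right
    rw [hKT, ← hR, ← hmax']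
    exact Subgroup.mem_sup_left (Subgroup.mem_zpowers v))⟩
  have hlt : Nat.card {z : E // z ∈ Z₀ ∧ (g : MulAut E) z ∈ Z₀} <
      Nat.card {z : E // z ∈ Z₀ ∧ (v : MulAut E) z ∈ Z₀} := by
    have hz₁v : z₁ ∈ Z₀ ∧ (v : MulAut E) z₁ ∈ Z₀ := ⟨hz₁, by rw [hv₁]; exact mul_mem hz₁ hz₀⟩
    let f : {z : E // z ∈ Z₀ ∧ (g : MulAut E) z ∈ Z₀} → {z : E // z ∈ Z₀ ∧ (v : MulAut E) z ∈ Z₀} :=
      fun z => ⟨z.1, z.2.1, by rw [hvz z.1 z.2.1 z.2.2]; exact z.2.1⟩
    have hinj : Function.Injective f := fun a b hab => Subtype.ext (congrArg Subtype.val hab :)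
    refine lt_of_le_of_ne (Nat.card_le_card_of_injective f hinj) fun he => ?_
    obtain ⟨z, hz⟩ := (hinj.bijective_of_nat_card_le he.ge).2 ⟨z₁, hz₁v⟩
    have hh : z.1 = z₁ := congrArg Subtype.val hz
    have h2 := z.2.2
    rw [hh] at h2
    exact hgz₁ h2
  exact absurd (hmax v hvB) hlt.not_ge

/-- The theorem. -/
theorem constrained_of_core_ne_bot (hS : IsPGroup p S) (hF : F.IsSaturated p) (hH : Heis S)
    (hcore : F.core ≠ ⊥) : ∃ A : Subgroup Ω, CentricNormal F A := by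
  have hQ := core_isNormal F
  set Q := F.core
  by_cases hess : ∃ E : Subgroup Ω, F.IsEssential p E
  · obtain ⟨A, hA⟩ := hess
    have hQle : ∀ P, F.IsEssential p P → Q ≤ P := fun P hP =>
      isNormal_le_centricRadical hS hQ hP.1 (essential_radical hS hF hP)
    obtain ⟨q, hq, hqZ⟩ := SetLike.not_le_iff_exists.1 (not_le_centre hS hF hH hA hQ hcore)
    have hab := essential_abelian hS hF hH hA
    have huniq : ∀ P, F.IsEssential p P → P = A := fun P hP => by
      refine le_antisymm (fun u hu => ?_) fun u hu => ?_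
      · exact mem_of_commute hS hF hH hA (hQle A hA hq) hqZ (hP.1.1 hu)
          (essential_abelian hS hF hH hP u hu q (hQle P hP hq))
      · exact mem_of_commute hS hF hH hP (hQle P hP hq) hqZ (hA.1.1 hu) (hab u hu q (hQle A hA hq))
    refine ⟨A, isNormal_of_autGroup_preserve hS hF fun P hP => ?_, hA.1⟩
    rcases hP with rfl | hP
    · refine ⟨hA.1.1, fun α hα v hv => ?_⟩
      obtain ⟨ψ, -, hψe, hψQ⟩ := hQ.2 P _ ((equivHom_autGroup F le_rfl).1 hα)
      set qS : P := ⟨q, hQ.1 hq⟩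
      have hαq : ((α qS : P) : Ω) ∈ Q := by
        have h : ψ (Subgroup.inclusion le_sup_left qS) ∈ (Q.subgroupOf (P ⊔ Q)).map ψ :=
          ⟨_, show q ∈ Q from hq, rfl⟩
        rw [hψQ, hψe] at h
        exact h
      refine mem_of_commute hS hF hH hA (hQle A hA hαq) (fun hZ => hqZ ?_) (α v).2 ?_
      · have h := Cfsg.Agent.FusionSys.ExtraCentre.apply_mem_zs F (b := α⁻¹) hZ
        rw [show α⁻¹ (α qS) = qS from α.symm_apply_apply qS] at h
        exact h
      · have h : v * qS = qS * v := Subtype.ext (hab v hv q (hQle A hA hq))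
        have h2 := congrArg α h
        rw [map_mul, map_mul] at h2
        exact congrArg Subtype.val h2
    · obtain rfl := huniq P hP
      exact ⟨le_rfl, fun α _ v _ => (α v).2⟩
  · refine ⟨S, isNormal_of_autGroup_preserve hS hF fun P hP => ?_, le_rfl, fun R hR g hg => ?_⟩
    · rcases hP with rfl | hP
      · exact ⟨le_rfl, fun α _ v _ => (α v).2⟩
      · exact absurd ⟨P, hP⟩ hess
    · obtain ⟨φ, hφ, rfl⟩ := hR
      rw [Subgroup.eq_of_le_of_card_ge (range_le F hφ) (isConj_card ⟨φ, hφ, rfl⟩).le]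
      exact hg.1

/-- A system with a model is realizable. -/
theorem realizable_of_centricNormal (hS : IsPGroup p S) (hF : F.IsSaturated p) {A : Subgroup Ω}
    (hA : CentricNormal F A) : F.IsRealizable p := by
  obtain ⟨G, hG, ι, hfin, hreal, ⟨T, hT⟩, -⟩ := exists_model hS hF hA
  exact ⟨G, hG, hfin, ι, hreal, T, hT⟩

end Cfsg.Agent.FusionSys.HeisCore
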