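import Cfsg.Agent.Lib.Fusion.SmallCentre

/-!
# `p`-groups with an abelian subgroup of index `p`
-/

set_option autoImplicit false

namespace Cfsg.Agent.FusionSys

open Cfsg Cfsg.FusionSystem
open scoped commutatorElement

variable {Ω : Type*} [Group Ω] {S A : Subgroup Ω} [Finite S] {p : ℕ} [hp : Fact p.Prime]

/-- `A` is an abelian subgroup of index `p` of the nonabelian group `S`. -/
structure IndexAbelian (S A : Subgroup Ω) (p : ℕ) : Prop where
  le_S : A ≤ S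
  comm : ∀ a ∈ A, ∀ b ∈ A, a * b = b * a
  index : (A.subgroupOf S).index = p
  nonab : ¬ ∀ a ∈ S, ∀ b ∈ S, a * b = b * a

variable (hd : IndexAbelian S A p) (hS : IsPGroup p S)
include hd hS

theorem idx_normal : (A.subgroupOf S).Normal := by
  obtain ⟨k, hk⟩ := IsPGroup.iff_card.1 hS
  have hdvd := (A.subgroupOf S).index_dvd_card
  rw [hd.index, hk] at hdvd
  have hk0 : k ≠ 0 := fun h => hp.out.ne_one (Nat.dvd_one.1 (by rwa [h, pow_zero] at hdvd))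
  refine Subgroup.normal_of_index_eq_minFac_card ?_
  rw [hk, Nat.pow_minFac hk0, hp.out.minFac_eq, hd.index]

theorem idx_conj_mem {g a : Ω} (hg : g ∈ S) (ha : a ∈ A) : g * a * g⁻¹ ∈ A :=
  (idx_normal hd hS).conj_mem ⟨a, hd.le_S ha⟩ ha ⟨g, hg⟩

theorem idx_gen {x g : Ω} (hxS : x ∈ S) (hx : x ∉ A) (hg : g ∈ S) : ∃ i : ℕ, ∃ a ∈ A, g = a * x ^ i := by
  haveI := idx_normal hd hS
  have hcard : Nat.card (S ⧸ A.subgroupOf S) = p := hd.index
  obtain ⟨i, hi⟩ := mem_zpowers_of_prime_card (g := (QuotientGroup.mk ⟨x, hxS⟩ : S ⧸ A.subgroupOf S))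
    (g' := QuotientGroup.mk ⟨g, hg⟩) hcard (by rw [ne_eq, QuotientGroup.eq_one_iff]; exact hx)
  obtain ⟨n, hn⟩ := mem_powers_iff_mem_zpowers.2 (⟨i, rfl⟩ : (⟨x, hxS⟩ : S) ^ i ∈ Subgroup.zpowers (⟨x, hxS⟩ : S))
  have hn' : (⟨x, hxS⟩ : S) ^ n = (⟨x, hxS⟩ : S) ^ i := hn
  have h := QuotientGroup.eq.1 (((QuotientGroup.mk_zpow _ _ i).trans hi).symm.trans
    (congrArg QuotientGroup.mk hn'.symm))
  have h' : g⁻¹ * x ^ n ∈ A := h
  refine ⟨n, g * x ^ (-(n : ℤ)), ?_, by group⟩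
  have := idx_conj_mem hd hS (g := g) hg (A.inv_mem h')
  rw [show g * x ^ (-(n : ℤ)) = g * (g⁻¹ * x ^ n)⁻¹ * g⁻¹ by group]
  exact this

omit hS in
theorem idx_exists_outside : ∃ x ∈ S, x ∉ A := by
  by_contra h
  simp only [not_exists, not_and, not_not] at h
  exact hp.out.ne_one (hd.index.symm.trans (Subgroup.index_eq_one.2 (eq_top_iff.2 fun s _ => h s s.2)))

/-- Elements of `A` commuting with an element outside `A` are central. -/
theorem idx_center_of_comm {x a : Ω} (hxS : x ∈ S) (hx : x ∉ A) (ha : a ∈ A) (hc : x * a = a * x) :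
    a ∈ centerOf S := by
  refine ⟨hd.le_S ha, Subgroup.mem_centralizer_iff.2 fun g hg => ?_⟩
  obtain ⟨i, b, hb, rfl⟩ := idx_gen hd hS hxS hx hg
  exact ((show Commute b a from hd.comm b hb a ha).mul_left ((show Commute x a from hc).pow_left i)).eq

theorem idx_center_le : centerOf S ≤ A := by
  intro z hz
  by_contra hzA
  refine hd.nonab fun a ha b hb => ?_
  obtain ⟨i, a', ha', rfl⟩ := idx_gen hd hS hz.1 hzA ha
  obtain ⟨j, b', hb', rfl⟩ := idx_gen hd hS hz.1 hzA hb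
  have h1 : Commute a' z := centerOf_comm hz (hd.le_S ha')
  have h2 : Commute b' z := centerOf_comm hz (hd.le_S hb')
  exact (((show Commute a' b' from hd.comm a' ha' b' hb').mul_right (h1.pow_right j)).mul_left
    (((h2.symm.pow_left i).mul_right ((Commute.refl z).pow_pow i j)))).eq

theorem idx_pow_mem {x : Ω} (hxS : x ∈ S) : x ^ p ∈ A := by
  haveI := idx_normal hd hS
  have hcard : Nat.card (S ⧸ A.subgroupOf S) = p := hd.index
  have h : (QuotientGroup.mk ((⟨x, hxS⟩ : S) ^ p) : S ⧸ A.subgroupOf S) = 1 := by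
    have := pow_card_eq_one' (G := S ⧸ A.subgroupOf S) (x := QuotientGroup.mk ⟨x, hxS⟩)
    rwa [hcard, ← QuotientGroup.mk_pow] at this
  exact (QuotientGroup.eq_one_iff ((⟨x, hxS⟩ : S) ^ p)).1 h

theorem idx_pow_center {x : Ω} (hxS : x ∈ S) (hx : x ∉ A) : x ^ p ∈ centerOf S :=
  idx_center_of_comm hd hS hxS hx (idx_pow_mem hd hS hxS) ((Commute.refl x).pow_right p).eq

/-- A power of an element outside `A` lies in `A` only if its exponent is divisible by `p`. -/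
theorem idx_dvd_of_pow_mem {x : Ω} (hxS : x ∈ S) (hx : x ∉ A) {i : ℕ} (hi : x ^ i ∈ A) : p ∣ i := by
  by_contra hni
  obtain ⟨a, b, hab⟩ := (Prime.coprime_iff_not_dvd (Nat.prime_iff_prime_int.1 hp.out)).2
    (fun h => hni (Int.natCast_dvd_natCast.1 h) : ¬ (p : ℤ) ∣ (i : ℤ))
  refine hx ?_
  rw [← zpow_one x, ← hab, zpow_add, mul_comm a, zpow_mul, zpow_natCast, mul_comm b, zpow_mul, zpow_natCast]
  exact A.mul_mem (A.zpow_mem (idx_pow_mem hd hS hxS) a) (A.zpow_mem hi b)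

theorem idx_comm_mem {a g : Ω} (ha : a ∈ A) (hg : g ∈ S) : ⁅a, g⁆ ∈ A := by
  rw [commutatorElement_def, show a * g * a⁻¹ * g⁻¹ = a * (g * a⁻¹ * g⁻¹) by group]
  exact A.mul_mem ha (idx_conj_mem hd hS hg (A.inv_mem ha))

theorem idx_comm_mul {a b g : Ω} (ha : a ∈ A) (hb : b ∈ A) (hg : g ∈ S) : ⁅a * b, g⁆ = ⁅a, g⁆ * ⁅b, g⁆ := by
  have h : a * ⁅b, g⁆ = ⁅b, g⁆ * a := hd.comm a ha _ (idx_comm_mem hd hS hb hg)
  have h' : ⁅a, g⁆ * ⁅b, g⁆ = ⁅b, g⁆ * ⁅a, g⁆ :=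
    hd.comm _ (idx_comm_mem hd hS ha hg) _ (idx_comm_mem hd hS hb hg)
  rw [h']
  calc ⁅a * b, g⁆ = a * ⁅b, g⁆ * (g * a⁻¹ * g⁻¹) := by simp only [commutatorElement_def]; group
    _ = ⁅b, g⁆ * a * (g * a⁻¹ * g⁻¹) := by rw [h]
    _ = ⁅b, g⁆ * ⁅a, g⁆ := by simp only [commutatorElement_def]; group

/-- The derived subgroup consists of the commutators of `A` with any element outside it. -/
theorem idx_commutator {x : Ω} (hxS : x ∈ S) (hx : x ∉ A) {y : Ω} (hy : y ∈ ⁅S, S⁆) : ∃ a ∈ A, y = ⁅a, x⁆ := by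
  let I : Subgroup Ω :=
    { carrier := {y | ∃ a ∈ A, y = ⁅a, x⁆}
      one_mem' := ⟨1, A.one_mem, (commutatorElement_one_left x).symm⟩
      mul_mem' := by
        rintro _ _ ⟨a, ha, rfl⟩ ⟨b, hb, rfl⟩
        exact ⟨a * b, A.mul_mem ha hb, (idx_comm_mul hd hS ha hb hxS).symm⟩
      inv_mem' := by
        rintro _ ⟨a, ha, rfl⟩
        refine ⟨a⁻¹, A.inv_mem ha, inv_eq_of_mul_eq_one_left ?_⟩
        rw [← idx_comm_mul hd hS (A.inv_mem ha) ha hxS, inv_mul_cancel, commutatorElement_one_left] }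
  have hpow : ∀ (i : ℕ), ∀ b ∈ A, ⁅b, x ^ i⁆ ∈ I := by
    intro i
    induction i with
    | zero => intro b _; rw [pow_zero, commutatorElement_one_right]; exact I.one_mem
    | succ i ih =>
      intro b hb
      rw [show ⁅b, x ^ (i + 1)⁆ = ⁅b, x ^ i⁆ * ⁅x ^ i * b * (x ^ i)⁻¹, x⁆ by
        simp only [pow_succ, commutatorElement_def]; group]
      exact I.mul_mem (ih b hb) ⟨_, idx_conj_mem hd hS (S.pow_mem hxS i) hb, rfl⟩
  refine (Subgroup.commutator_le.2 fun u hu v hv => ?_ : ⁅S, S⁆ ≤ I) hy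
  obtain ⟨i, a, ha, rfl⟩ := idx_gen hd hS hxS hx hu
  obtain ⟨j, b, hb, rfl⟩ := idx_gen hd hS hxS hx hv
  have h1 := idx_comm_mem hd hS hb (S.pow_mem hxS i)
  have h2 := idx_comm_mem hd hS ha (S.pow_mem hxS j)
  have h3 : a * (x ^ i * b * (x ^ i)⁻¹ * b⁻¹) * b = (x ^ i * b * (x ^ i)⁻¹ * b⁻¹) * (a * b) := by
    have e : x ^ i * b * (x ^ i)⁻¹ * b⁻¹ ∈ A := by
      rw [← commutatorElement_def, ← commutatorElement_inv]; exact A.inv_mem h1
    rw [hd.comm a ha _ e, mul_assoc]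
  have key : ⁅a * x ^ i, b * x ^ j⁆ = ⁅b, x ^ i⁆⁻¹ * ⁅a, x ^ j⁆ := by
    have hpp : x ^ i * x ^ j = x ^ j * x ^ i := ((Commute.refl x).pow_pow i j).eq
    have hjc : x ^ j * a⁻¹ * (x ^ j)⁻¹ ∈ A := idx_conj_mem hd hS (S.pow_mem hxS j) (A.inv_mem ha)
    calc ⁅a * x ^ i, b * x ^ j⁆
        = a * (x ^ i * b * (x ^ i)⁻¹) * (x ^ i * x ^ j * (x ^ i)⁻¹ * a⁻¹ * (x ^ j)⁻¹) * b⁻¹ := by
          simp only [commutatorElement_def]; group
      _ = a * (x ^ i * b * (x ^ i)⁻¹ * b⁻¹) * b * (x ^ j * a⁻¹ * (x ^ j)⁻¹) * b⁻¹ := by rw [hpp]; group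
      _ = (x ^ i * b * (x ^ i)⁻¹ * b⁻¹) * a * (b * (x ^ j * a⁻¹ * (x ^ j)⁻¹)) * b⁻¹ := by rw [h3]; group
      _ = (x ^ i * b * (x ^ i)⁻¹ * b⁻¹) * a * ((x ^ j * a⁻¹ * (x ^ j)⁻¹) * b) * b⁻¹ := by
          rw [hd.comm b hb _ hjc]
      _ = ⁅b, x ^ i⁆⁻¹ * ⁅a, x ^ j⁆ := by simp only [commutatorElement_def]; group
  rw [key]
  exact I.mul_mem (I.inv_mem (hpow i b hb)) (hpow j a ha)

/-- A subgroup of `A` shrinks by at most `|Z(S)|` on commutation with an element outside `A`. -/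
theorem idx_card_le {x : Ω} (hxS : x ∈ S) (hx : x ∉ A) {H K : Subgroup Ω} (hH : H ≤ A) (hK : K ≤ S)
    (hc : ∀ a ∈ H, ⁅a, x⁆ ∈ K) : Nat.card H ≤ Nat.card (centerOf S) * Nat.card K := by
  haveI := finite_centerOf (S := S)
  haveI := finite_of_le (S := S) hK
  haveI := finite_of_le (S := S) (hH.trans hd.le_S)
  let f : H →* K := MonoidHom.mk' (fun a => ⟨⁅(a : Ω), x⁆, hc a a.2⟩)
    (fun a b => Subtype.ext (idx_comm_mul hd hS (hH a.2) (hH b.2) hxS))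
  have hker : f.ker ≤ (centerOf S).subgroupOf H := fun a ha =>
    idx_center_of_comm hd hS hxS hx (hH a.2)
      (commutatorElement_eq_one_iff_mul_comm.1 (congrArg Subtype.val ha)).symm
  rw [← f.ker.card_mul_index, Subgroup.index_ker]
  refine Nat.mul_le_mul ?_ (Subgroup.card_le_card_group f.range)
  refine (Subgroup.card_le_of_le hker).trans ?_
  exact Nat.card_le_card_of_injective (fun a : (centerOf S).subgroupOf H => (⟨((a : H) : Ω), a.2⟩ : centerOf S))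
    fun a b h => Subtype.ext (Subtype.ext (congrArg (fun c : centerOf S => (c : Ω)) h))

end Cfsg.Agent.FusionSys
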