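import Cfsg.Agent.Lib.Fusion.IndexAbelianEssential

/-!
# All essential subgroups when `S` has an abelian subgroup of index `p`

An essential subgroup `P ≠ A` meets `A` in `Z(S)` or in `dsub S A x = {a ∈ A | [a,x] ∈ Z(S)}`, and has index `p`
in its normalizer.
-/

set_option autoImplicit false

namespace Cfsg.Agent.FusionSys

open Cfsg Cfsg.FusionSystem
open scoped commutatorElement

variable {Ω : Type*} [Group Ω] {S A : Subgroup Ω} [Finite S] {p : ℕ} [hp : Fact p.Prime] {F : FusionSystem S}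

/-- The elements of `A` whose commutator with `x` lies in `K`. -/
def commPre (hd : IndexAbelian S A p) (hS : IsPGroup p S) {x : Ω} (hx : x ∈ S) (K : Subgroup Ω) : Subgroup Ω where
  carrier := {a | a ∈ A ∧ ⁅a, x⁆ ∈ K}
  one_mem' := ⟨A.one_mem, by rw [commutatorElement_one_left]; exact K.one_mem⟩
  mul_mem' := fun {a b} ha hb => ⟨A.mul_mem ha.1 hb.1, by rw [idx_comm_mul hd hS ha.1 hb.1 hx]; exact K.mul_mem ha.2 hb.2⟩
  inv_mem' := fun {a} ha => ⟨A.inv_mem ha.1, by
    have h := idx_comm_mul hd hS (A.inv_mem ha.1) ha.1 hx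
    rw [inv_mul_cancel, commutatorElement_one_left] at h
    rw [eq_inv_of_mul_eq_one_left h.symm]
    exact K.inv_mem ha.2⟩

variable (hd : IndexAbelian S A p) (hS : IsPGroup p S) {x : Ω} (hxS : x ∈ S) (hx : x ∉ A)

include hd hS

theorem mem_commPre {K : Subgroup Ω} {a : Ω} : a ∈ commPre hd hS hxS K ↔ a ∈ A ∧ ⁅a, x⁆ ∈ K := Iff.rfl

/-- The elements of `A` with commutator in the centre. -/
def dsub : Subgroup Ω := commPre hd hS hxS (centerOf S)

theorem mem_dsub {a : Ω} : a ∈ dsub hd hS hxS ↔ a ∈ A ∧ ⁅a, x⁆ ∈ centerOf S := Iff.rfl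

include hx

theorem center_le_dsub : centerOf S ≤ dsub hd hS hxS := fun a ha => ⟨idx_center_le hd hS ha, by
  rw [commutatorElement_eq_one_iff_mul_comm.2 (centerOf_comm ha hxS).symm]; exact (centerOf S).one_mem⟩

theorem card_dsub : Nat.card (dsub hd hS hxS) = Nat.card (centerOf S) * Nat.card (commCenter S) := by
  haveI := finite_centerOf (S := S)
  let f : dsub hd hS hxS →* commCenter S :=
    MonoidHom.mk' (fun a => ⟨⁅(a : Ω), x⁆, a.2.2, Subgroup.commutator_mem_commutator (hd.le_S a.2.1) hxS⟩)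
      (fun a b => Subtype.ext (idx_comm_mul hd hS a.2.1 b.2.1 hxS))
  have hf : Function.Surjective f := fun w => by
    obtain ⟨a, ha, hw⟩ := idx_commutator hd hS hxS hx w.2.2
    exact ⟨⟨a, ha, hw ▸ w.2.1⟩, Subtype.ext hw.symm⟩
  have hker : f.ker = (centerOf S).subgroupOf (dsub hd hS hxS) := by
    ext a
    rw [MonoidHom.mem_ker, Subgroup.mem_subgroupOf]
    refine ⟨fun h => idx_center_of_comm hd hS hxS hx a.2.1
      (commutatorElement_eq_one_iff_mul_comm.1 (congrArg Subtype.val h)).symm, fun h => Subtype.ext ?_⟩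
    exact commutatorElement_eq_one_iff_mul_comm.2 (centerOf_comm h hxS).symm
  rw [← f.ker.card_mul_index, Subgroup.index_ker, show Nat.card f.range = Nat.card (commCenter S) by
      rw [MonoidHom.range_eq_top.2 hf, Subgroup.card_top], hker,
    Nat.card_congr (Subgroup.subgroupOfEquivOfLe (center_le_dsub hd hS hxS hx)).toEquiv]

theorem one_lt_card_commCenter : 1 < Nat.card (commCenter S) := by
  haveI : Finite (commCenter S) := finite_of_le (S := S) (inf_le_left.trans (centerOf_le S))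
  rw [Finite.one_lt_card_iff_nontrivial, Subgroup.nontrivial_iff_ne_bot]
  intro h
  haveI : Group.IsNilpotent S := hS.isNilpotent
  have hne : commutator S ≠ ⊥ := fun hc => hd.nonab fun a ha b hb => by
    have := Subgroup.commutator_mem_commutator (Subgroup.mem_top (⟨a, ha⟩ : S)) (Subgroup.mem_top (⟨b, hb⟩ : S))
    rw [← commutator_def, hc, Subgroup.mem_bot, commutatorElement_eq_one_iff_mul_comm] at this
    exact congrArg Subtype.val this
  obtain ⟨⟨g, hg⟩, hg1⟩ := Subgroup.ne_bot_iff_exists_ne_one.1 (Cfsg.Agent.SolvStruct.inf_center_ne_bot hne)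
  obtain ⟨hgc, hgz⟩ := Subgroup.mem_inf.1 hg
  have hgS : (g : Ω) ∈ ⁅S, S⁆ := by
    have := Subgroup.mem_map_of_mem S.subtype hgc
    rwa [commutator_def, Subgroup.map_commutator, ← MonoidHom.range_eq_map, Subgroup.range_subtype] at this
  have hgzS : (g : Ω) ∈ centerOf S := ⟨g.2, Subgroup.mem_centralizer_iff.2 fun y hy =>
    congrArg Subtype.val (Subgroup.mem_center_iff.1 hgz ⟨y, hy⟩)⟩
  have hmem : (g : Ω) ∈ commCenter S := Subgroup.mem_inf.2 ⟨hgzS, hgS⟩
  rw [h, Subgroup.mem_bot] at hmem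
  exact hg1 (Subtype.ext (Subtype.ext hmem))

variable (hF : F.IsSaturated p) {P : Subgroup Ω} (hP : F.IsEssential p P) (hxP : x ∈ P)

include hxP hP

/-- Elements of `A` whose commutator with `x` is in `P` normalize `P`. -/
theorem normalizes_of_comm {a : Ω} (ha : a ∈ A) (hc : ⁅a, x⁆ ∈ P) : a ∈ Subgroup.normalizer (P : Set Ω) := by
  haveI := finite_of_le (S := S) hP.1.1
  refine mem_normalizer_of_conj_mem_finite fun y hy => ?_
  obtain ⟨i, b, hb, rfl⟩ := idx_gen hd hS (hP.1.1 hxP) hx (hP.1.1 hy)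
  have hbP : b ∈ P := by
    have := P.mul_mem hy (P.inv_mem (P.pow_mem hxP i))
    rwa [mul_inv_cancel_right] at this
  rw [show a * (b * x ^ i) * a⁻¹ = a * b * a⁻¹ * (a * x * a⁻¹) ^ i by rw [conj_pow]; group,
    hd.comm a ha b hb, mul_inv_cancel_right, show a * x * a⁻¹ = ⁅a, x⁆ * x by rw [commutatorElement_def]; group]
  exact P.mul_mem hbP (P.pow_mem (P.mul_mem hc hxP) i)

include hF

/-- If `K` is invariant, elements acting trivially on `K` and `P/K` lie in `P`. -/
theorem mem_of_stabilizes {K : Subgroup Ω} (hKP : K ≤ P)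
    (hinv : ∀ α ∈ F.autGroup P, ∀ y : P, (y : Ω) ∈ K → ((α y : P) : Ω) ∈ K)
    {a : Ω} (haS : a ∈ S) (han : a ∈ Subgroup.normalizer (P : Set Ω)) (h1 : ∀ y ∈ K, a * y = y * a)
    (h2 : ∀ y ∈ P, y⁻¹ * (a * y * a⁻¹) ∈ K) : a ∈ P := by
  haveI := finite_of_le (S := S) hP.1.1
  set G := F.autGroup P
  let L : Subgroup G :=
    { carrier := {v | (∀ y : P, (y : Ω) ∈ K → (v : MulAut P) y = y) ∧
        ∀ y : P, ((y⁻¹ * (v : MulAut P) y : P) : Ω) ∈ K}
      one_mem' := ⟨fun y _ => rfl, fun y => by simp⟩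
      mul_mem' := by
        rintro u v ⟨hu, hu'⟩ ⟨hv, hv'⟩
        refine ⟨fun y hy => ?_, fun y => ?_⟩
        · show (u : MulAut P) ((v : MulAut P) y) = y
          rw [hv y hy, hu y hy]
        show ((y⁻¹ * (u : MulAut P) ((v : MulAut P) y) : P) : Ω) ∈ K
        rw [show y⁻¹ * (u : MulAut P) ((v : MulAut P) y) =
          y⁻¹ * (v : MulAut P) y * (((v : MulAut P) y)⁻¹ * (u : MulAut P) ((v : MulAut P) y)) by group]
        exact K.mul_mem (hv' y) (hu' _)
      inv_mem' := by
        rintro v ⟨hv, hv'⟩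
        refine ⟨fun y hy => ?_, fun y => ?_⟩
        · rw [Subgroup.coe_inv]
          exact (MulEquiv.symm_apply_eq (v : MulAut P)).2 (hv y hy).symm
        · have h := K.inv_mem (hv' ((v : MulAut P)⁻¹ y))
          rw [show (v : MulAut P) ((v : MulAut P)⁻¹ y) = y from (v : MulAut P).apply_symm_apply y] at h
          simpa using h }
  have hLn : L.Normal := ⟨fun v hv g => ⟨fun y hy => by
      show (g : MulAut P) ((v : MulAut P) ((g : MulAut P)⁻¹ y)) = y
      rw [hv.1 _ (hinv _ (G.inv_mem g.2) y hy)]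
      exact (g : MulAut P).apply_symm_apply y, fun y => by
      show ((y⁻¹ * (g : MulAut P) ((v : MulAut P) ((g : MulAut P)⁻¹ y)) : P) : Ω) ∈ K
      have h := hinv _ g.2 _ (hv.2 ((g : MulAut P)⁻¹ y))
      rwa [map_mul, map_inv, show (g : MulAut P) ((g : MulAut P)⁻¹ y) = y from
        (g : MulAut P).apply_symm_apply y] at h⟩⟩
  obtain ⟨e, he⟩ := IsPGroup.iff_card.1 (hS.to_le hP.1.1)
  have hLp : IsPGroup p L := by
    intro v
    refine ⟨e, Subtype.ext (Subtype.ext (MulEquiv.ext fun y => ?_))⟩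
    have hv1 : ∀ k : ℕ, (((v : G) : MulAut P) ^ k) y = y * (y⁻¹ * ((v : G) : MulAut P) y) ^ k := by
      intro k
      induction k with
      | zero => simp
      | succ k ih =>
        rw [pow_succ', MulAut.mul_apply, ih, map_mul, map_pow, v.2.1 _ (v.2.2 y)]
        rw [pow_succ', ← mul_assoc y, mul_inv_cancel_left]
    show (((v ^ p ^ e : L) : G) : MulAut P) y = y
    rw [SubmonoidClass.coe_pow, SubmonoidClass.coe_pow, hv1, ← he, pow_card_eq_one', mul_one]
  obtain ⟨u, hu, hue⟩ := exists_conjAut (K := S) (P := P) haS han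
  have hmem : (⟨u, autInducedBy_le_autGroup F hP.1.1 hu⟩ : G) ∈ L :=
    ⟨fun y hy => Subtype.ext (by
        show ((u y : P) : Ω) = y
        rw [hue, h1 y hy, mul_inv_cancel_right]),
      fun y => by
        show ((y⁻¹ * u y : P) : Ω) ∈ K
        rw [Subgroup.coe_mul, Subgroup.coe_inv, hue]
        exact h2 y y.2⟩
  obtain ⟨g, hg⟩ := ((essential_radical hS hF hP).2.le ⟨_, Cfsg.Agent.PBasic.le_pCore hLn hLp hmem, rfl⟩ : u ∈ Inn P)
  have hkey : ∀ q ∈ P, ((g : P) : Ω) * q * ((g : P) : Ω)⁻¹ = a * q * a⁻¹ := fun q hq => by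
    have := congrArg (fun v : MulAut P => ((v ⟨q, hq⟩ : P) : Ω)) hg
    simpa [hue] using this
  have h3 : (g : Ω)⁻¹ * a ∈ P := mem_of_centralizes hP.1 (S.mul_mem (S.inv_mem (hP.1.1 g.2)) haS) fun q hq =>
    calc q * ((g : Ω)⁻¹ * a) = (g : Ω)⁻¹ * ((g : Ω) * q * (g : Ω)⁻¹) * a := by group
      _ = (g : Ω)⁻¹ * (a * q * a⁻¹) * a := by rw [hkey q hq]
      _ = (g : Ω)⁻¹ * a * q := by group
  have := P.mul_mem g.2 h3
  rwa [mul_inv_cancel_left] at this

omit hxS hx hP hxP hF

/-- A subgroup of `S` containing an element outside `A` is `p` times as large as its part in `A`. -/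
theorem card_eq_mul_inf {H : Subgroup Ω} (hH : H ≤ S) {z : Ω} (hz : z ∈ H) (hzA : z ∉ A) :
    Nat.card H = p * Nat.card (H ⊓ A : Subgroup Ω) := by
  haveI := idx_normal hd hS
  have hcard : Nat.card (S ⧸ A.subgroupOf S) = p := hd.index
  let f : H →* S ⧸ A.subgroupOf S := (QuotientGroup.mk' _).comp (Subgroup.inclusion hH)
  have hker : f.ker = A.subgroupOf H := by
    ext y
    rw [MonoidHom.mem_ker, Subgroup.mem_subgroupOf]
    exact (QuotientGroup.eq_one_iff (Subgroup.inclusion hH y)).trans Iff.rfl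
  have hsurj : Function.Surjective f := fun g => by
    obtain ⟨k, hk⟩ := mem_zpowers_of_prime_card (g := f ⟨z, hz⟩) (g' := g) hcard (fun h => hzA
      (show (⟨z, hz⟩ : H) ∈ A.subgroupOf H from hker ▸ (MonoidHom.mem_ker.2 h)))
    exact ⟨(⟨z, hz⟩ : H) ^ k, by rw [map_zpow]; exact hk⟩
  have hr : f.ker.index = p := by
    rw [Subgroup.index_ker, MonoidHom.range_eq_top.2 hsurj, Subgroup.card_top, hcard]
  rw [← f.ker.card_mul_index, hr, hker, ← Subgroup.inf_subgroupOf_left,
    Nat.card_congr (Subgroup.subgroupOfEquivOfLe (inf_le_left : H ⊓ A ≤ H)).toEquiv, mul_comm]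

theorem card_S : Nat.card S = p * Nat.card A := by
  obtain ⟨z, hz, hzA⟩ := idx_exists_outside (A := A) hd
  rw [card_eq_mul_inf hd hS le_rfl hz hzA, inf_eq_right.2 hd.le_S]

include hxS hx in
/-- Bounding a subgroup of `A` by commutation with `x`. -/
theorem card_le_of_comm {H L K : Subgroup Ω} (hH : H ≤ A) (hK : K ≤ S) (hL : L ≤ S)
    (hc : ∀ a ∈ H, ⁅a, x⁆ ∈ K) (hl : ∀ a ∈ H, a ∈ centerOf S → a ∈ L) :
    Nat.card H ≤ Nat.card L * Nat.card K := by
  haveI := finite_of_le (S := S) hK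
  haveI := finite_of_le (S := S) hL
  let f : H →* K := MonoidHom.mk' (fun a => ⟨⁅(a : Ω), x⁆, hc a a.2⟩)
    (fun a b => Subtype.ext (idx_comm_mul hd hS (hH a.2) (hH b.2) hxS))
  rw [← f.ker.card_mul_index, Subgroup.index_ker]
  refine Nat.mul_le_mul ?_ (Subgroup.card_le_card_group f.range)
  exact Nat.card_le_card_of_injective (fun a : f.ker => (⟨((a : H) : Ω), hl _ (a : H).2
      (idx_center_of_comm hd hS hxS hx (hH (a : H).2)
        (commutatorElement_eq_one_iff_mul_comm.1 (congrArg Subtype.val a.2)).symm)⟩ : L))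
    fun a b h => Subtype.ext (Subtype.ext (congrArg (fun c : L => (c : Ω)) h))

/-- Between consecutive powers of `p`. -/
theorem card_eq_of_bounds {H L : Subgroup Ω} (hLH : L ≤ H) (hHS : H ≤ S) (h1 : Nat.card L < Nat.card H)
    (h2 : Nat.card H ≤ p * Nat.card L) : Nat.card H = p * Nat.card L := by
  haveI := finite_of_le (S := S) hHS
  haveI := finite_of_le (S := S) (hLH.trans hHS)
  obtain ⟨a, ha⟩ := IsPGroup.iff_card.1 (hS.to_le hHS)
  obtain ⟨b, hb⟩ := IsPGroup.iff_card.1 (hS.to_le (hLH.trans hHS))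
  rw [ha, hb] at h1 h2 ⊢
  have h := (Nat.pow_lt_pow_iff_right hp.out.one_lt).1 h1
  refine le_antisymm h2 ?_
  rw [← pow_succ']
  exact Nat.pow_le_pow_right hp.out.pos h

include hF in
/-- The shape of an essential subgroup other than `A`. -/
theorem essential_shape (hP : F.IsEssential p P) (hPA : P ≠ A) :
    ∃ (y : Ω) (hyS : y ∈ S), y ∈ P ∧ y ∉ A ∧ Nat.card (commCenter S) = p ∧
      (P ⊓ A = centerOf S ∨ P ⊓ A = dsub hd hS hyS) := by
  haveI := finite_of_le (S := S) hP.1.1
  have hPS := hP.1.1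
  obtain ⟨y, hyP, hyA⟩ : ∃ y ∈ P, y ∉ A := by
    by_contra hno
    simp only [not_exists, not_and, not_not] at hno
    exact hPA (le_antisymm hno fun a ha => mem_of_centralizes hP.1 (hd.le_S ha) fun q hq =>
      hd.comm q (hno q hq) a ha)
  have hyS := hPS hyP
  have hZP : centerOf S ≤ P := fun c hc => mem_of_centralizes hP.1 hc.1 fun q hq => centerOf_comm hc (hPS hq)
  have hZA := idx_center_le hd hS
  by_cases hle : P ⊓ A ≤ centerOf S
  · have hab : AbEssential F A p P y := ⟨hP, hyP, hyA, hZP, fun q hq hqA => hle ⟨hq, hqA⟩⟩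
    obtain ⟨z, hz, hcc, -⟩ := ab_split hd hS hF hab
    exact ⟨y, hyS, hyP, hyA, by rw [hcc, Nat.card_zpowers, hz], Or.inl (le_antisymm hle (le_inf hZP hZA))⟩
  haveI : Finite (P ⊓ A : Subgroup Ω) := finite_of_le (S := S) (inf_le_left.trans hPS)
  -- the part in `A` is not invariant
  obtain ⟨α, hα, b, hb, hbn⟩ : ∃ α ∈ F.autGroup P, ∃ b : P, (b : Ω) ∈ A ∧ ((α b : P) : Ω) ∉ A := by
    by_contra hno
    simp only [not_exists, not_and, not_not] at hno
    refine (lt_normalizerIn hS (essential_lt hS hF hP)).not_ge fun g hg => ?_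
    obtain ⟨i, a, ha, rfl⟩ := idx_gen hd hS hyS hyA hg.1
    have han : a ∈ Subgroup.normalizer (P : Set Ω) := by
      have := Subgroup.mul_mem _ hg.2 (Subgroup.inv_mem _ (Subgroup.le_normalizer (P.pow_mem hyP i)))
      rwa [mul_inv_cancel_right] at this
    refine P.mul_mem ?_ (P.pow_mem hyP i)
    refine mem_of_stabilizes hd hS hyA hF hP hyP (K := P ⊓ A) inf_le_left
      (fun β hβ q hq => ⟨(β q).2, hno β hβ q hq.2⟩) (hd.le_S ha) han (fun q hq => hd.comm a ha q hq.2) fun q hq => ?_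
    refine ⟨P.mul_mem (P.inv_mem hq) ((Subgroup.mem_normalizer_iff.1 han q).1 hq), ?_⟩
    rw [show q⁻¹ * (a * q * a⁻¹) = q⁻¹ * a * (q⁻¹)⁻¹ * a⁻¹ by group]
    exact A.mul_mem (idx_conj_mem hd hS (S.inv_mem (hPS hq)) ha) (A.inv_mem ha)
  set q : P := α b
  -- its size
  have hsize : Nat.card (P ⊓ A : Subgroup Ω) ≤ p * Nat.card (centerOf S) := by
    set B := A.subgroupOf P
    set C := B.map (α : P ≃* P).toMonoidHom with hC
    have hBcard : Nat.card B = Nat.card (P ⊓ A : Subgroup Ω) := by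
      show Nat.card (A.subgroupOf P) = _
      rw [← Subgroup.inf_subgroupOf_left]
      exact Nat.card_congr (Subgroup.subgroupOfEquivOfLe inf_le_left).toEquiv
    have hCcard : Nat.card C = Nat.card B := Subgroup.card_map_of_injective α.injective
    haveI : B.Normal := ⟨fun u hu g => idx_conj_mem hd hS (hPS g.2) hu⟩
    have hBi : B.index = p := by
      have h1 := B.card_mul_index
      have h2 := card_eq_mul_inf hd hS hPS hyP hyA
      rw [hBcard] at h1
      rw [h2, mul_comm p] at h1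
      exact Nat.eq_of_mul_eq_mul_left Nat.card_pos h1
    have hr : B.relIndex C ≤ p := hBi ▸ Nat.le_of_dvd (by rw [hBi]; exact hp.out.pos)
      (Subgroup.relIndex_dvd_index_of_normal B C)
    have hinf : Nat.card (B ⊓ C : Subgroup P) ≤ Nat.card (centerOf S) := by
      haveI := finite_centerOf (S := S)
      refine Nat.card_le_card_of_injective (fun u : (B ⊓ C : Subgroup P) => (⟨((u : P) : Ω), ?_⟩ : centerOf S))
        fun u v h => Subtype.ext (Subtype.ext (congrArg (fun c : centerOf S => (c : Ω)) h))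
      obtain ⟨u', hu', hue⟩ := (Subgroup.mem_inf.1 u.2).2
      refine idx_center_of_comm hd hS (hPS q.2) hbn (Subgroup.mem_inf.1 u.2).1 ?_
      have h : b * u' = u' * b := Subtype.ext (hd.comm _ hb _ hu')
      have h' := congrArg α h
      rw [map_mul, map_mul] at h'
      have hue' : α u' = (u : P) := hue
      rw [hue'] at h'
      exact congrArg Subtype.val h'
    have h3 : Nat.card (B ⊓ C : Subgroup P) * B.relIndex C = Nat.card C := by
      rw [← Subgroup.inf_relIndex_right]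
      have := ((B ⊓ C).subgroupOf C).card_mul_index
      rwa [Nat.card_congr (Subgroup.subgroupOfEquivOfLe (inf_le_right : B ⊓ C ≤ C)).toEquiv] at this
    rw [← hBcard, ← hCcard, ← h3, mul_comm p]
    exact Nat.mul_le_mul hinf hr
  have hzq : ∀ u ∈ P, (∀ w ∈ P, w * u = u * w) → u ∈ centerOf S := fun u hu hcomm => by
    by_cases huA : u ∈ A
    · exact idx_center_of_comm hd hS hyS hyA huA (hcomm y hyP)
    · exact absurd (fun w hw => idx_center_of_comm hd hS (hPS hu) huA hw.2 (hcomm w hw.1).symm) hle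
  -- the elements with central commutator lie in `P`
  have hDP : dsub hd hS hyS ≤ P ⊓ A := fun a ha => by
    refine ⟨?_, ha.1⟩
    have han := normalizes_of_comm hd hS hyA hP hyP ha.1 (hZP ha.2)
    refine mem_of_stabilizes hd hS hyA hF hP hyP (K := centerOf S) hZP (fun β hβ c hc => ?_) (hd.le_S ha.1) han
      (fun c hc => centerOf_comm hc (hd.le_S ha.1)) fun c hc => ?_
    · refine hzq _ (β c).2 fun w hw => ?_
      obtain ⟨w', hw'⟩ := β.surjective ⟨w, hw⟩
      have h : w' * c = c * w' := Subtype.ext (centerOf_comm hc (hPS w'.2))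
      have h' := congrArg β h
      rw [map_mul, map_mul, hw'] at h'
      exact congrArg Subtype.val h'
    · obtain ⟨i, u, hu, rfl⟩ := idx_gen hd hS hyS hyA (hPS hc)
      have hw := (show Commute y ⁅a, y⁆ from centerOf_comm ha.2 hyS).symm
      rw [show a * (u * y ^ i) * a⁻¹ = a * u * a⁻¹ * (a * y * a⁻¹) ^ i by rw [conj_pow]; group,
        hd.comm a ha.1 u hu, mul_inv_cancel_right,
        show a * y * a⁻¹ = ⁅a, y⁆ * y by rw [commutatorElement_def]; group, hw.mul_pow,
        (hw.pow_pow i i).eq, show (u * y ^ i)⁻¹ * (u * (y ^ i * ⁅a, y⁆ ^ i)) = ⁅a, y⁆ ^ i by group]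
      exact (centerOf S).pow_mem ha.2 i
  have hD := card_dsub hd hS hyS hyA
  have h1 := one_lt_card_commCenter hd hS hyA
  have hDS : dsub hd hS hyS ≤ S := fun a ha => hd.le_S ha.1
  haveI := finite_centerOf (S := S)
  have hle2 : Nat.card (dsub hd hS hyS) ≤ p * Nat.card (centerOf S) := (Subgroup.card_le_of_le hDP).trans hsize
  have hlt : Nat.card (centerOf S) < Nat.card (dsub hd hS hyS) := by
    rw [hD]; exact lt_mul_of_one_lt_right Nat.card_pos h1
  have hDcard := card_eq_of_bounds hd hS (center_le_dsub hd hS hyS hyA) hDS hlt hle2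
  refine ⟨y, hyS, hyP, hyA, ?_, Or.inr (Subgroup.eq_of_le_of_card_ge hDP (hsize.trans hDcard.ge)).symm⟩
  rw [hD, mul_comm p] at hDcard
  exact Nat.eq_of_mul_eq_mul_left Nat.card_pos hDcard

include hF in
/-- An essential subgroup other than `A` has index `p` in its normalizer. -/
theorem essential_index (hP : F.IsEssential p P) (hPA : P ≠ A) :
    (P.subgroupOf (S ⊓ Subgroup.normalizer (P : Set Ω))).index = p := by
  obtain ⟨y, hyS, hyP, hyA, hcc, hcases⟩ := essential_shape hd hS hF hP hPA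
  have hPS := hP.1.1
  set N := S ⊓ Subgroup.normalizer (P : Set Ω) with hN
  have hPN : P ≤ N := le_inf hPS Subgroup.le_normalizer
  have hlt : P < N := lt_normalizerIn hS (essential_lt hS hF hP)
  have hNcard := card_eq_mul_inf hd hS (inf_le_left : N ≤ S) (hPN hyP) hyA
  have hPcard := card_eq_mul_inf hd hS hPS hyP hyA
  haveI := finite_of_le (S := S) hPS
  haveI : Finite N := finite_of_le (S := S) inf_le_left
  have hlt' : Nat.card (P ⊓ A : Subgroup Ω) < Nat.card (N ⊓ A : Subgroup Ω) := by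
    by_contra hh
    have h1 : Nat.card N ≤ Nat.card P := by rw [hNcard, hPcard]; exact Nat.mul_le_mul le_rfl (not_lt.1 hh)
    exact hlt.ne (Subgroup.eq_of_le_of_card_ge hlt.le h1)
  have hNA : N ⊓ A ≤ commPre hd hS hyS (P ⊓ A) := fun a ha => by
    refine ⟨ha.2, ?_, idx_comm_mem hd hS ha.2 hyS⟩
    rw [commutatorElement_def]
    exact P.mul_mem ((Subgroup.mem_normalizer_iff.1 ha.1.2 y).1 hyP) (P.inv_mem hyP)
  have hle : Nat.card (N ⊓ A : Subgroup Ω) ≤ p * Nat.card (P ⊓ A : Subgroup Ω) := by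
    haveI : Finite (commPre hd hS hyS (P ⊓ A)) := finite_of_le (S := S) fun a ha => hd.le_S ha.1
    refine (Subgroup.card_le_of_le hNA).trans ?_
    rcases hcases with h | h <;> rw [h]
    · show Nat.card (dsub hd hS hyS) ≤ _
      rw [card_dsub hd hS hyS hyA, hcc, mul_comm]
    · haveI : Finite (dsub hd hS hyS) := finite_of_le (S := S) fun a ha => hd.le_S ha.1
      haveI : Finite (commCenter S) := finite_of_le (S := S) (inf_le_left.trans (centerOf_le S))
      let f : commPre hd hS hyS (dsub hd hS hyS) →* commCenter S :=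
        MonoidHom.mk' (fun a => ⟨⁅⁅(a : Ω), y⁆, y⁆, a.2.2.2,
          Subgroup.commutator_mem_commutator (hd.le_S a.2.2.1) hyS⟩)
          (fun a b => Subtype.ext (by
            show ⁅⁅(a : Ω) * b, y⁆, y⁆ = ⁅⁅(a : Ω), y⁆, y⁆ * ⁅⁅(b : Ω), y⁆, y⁆
            rw [idx_comm_mul hd hS a.2.1 b.2.1 hyS, idx_comm_mul hd hS a.2.2.1 b.2.2.1 hyS]))
      rw [← f.ker.card_mul_index, Subgroup.index_ker, mul_comm p]
      refine Nat.mul_le_mul ?_ ((Subgroup.card_le_card_group f.range).trans hcc.le)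
      refine Nat.card_le_card_of_injective (fun a : f.ker => (⟨(a.1.1 : Ω), ?_⟩ :
        dsub hd hS hyS)) fun a b hab => Subtype.ext (Subtype.ext (congrArg (fun c : dsub hd hS hyS => (c : Ω)) hab))
      exact ⟨a.1.2.1, idx_center_of_comm hd hS hyS hyA a.1.2.2.1
        (commutatorElement_eq_one_iff_mul_comm.1 (congrArg Subtype.val a.2)).symm⟩
  have heq := card_eq_of_bounds hd hS (inf_le_inf_right A hPN) (inf_le_left.trans inf_le_left) hlt' hle
  have h := (P.subgroupOf N).card_mul_index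
  rw [Nat.card_congr (Subgroup.subgroupOfEquivOfLe hPN).toEquiv, hNcard, heq, mul_left_comm, ← hPcard,
    mul_comm p] at h
  exact Nat.eq_of_mul_eq_mul_left Nat.card_pos h

omit hF in
theorem mem_secondCenter {a : Ω} : a ∈ (upperCentralSeries S 2).map S.subtype ↔
    a ∈ S ∧ ∀ g ∈ S, ⁅a, g⁆ ∈ centerOf S := by
  constructor
  · rintro ⟨u, hu, rfl⟩
    refine ⟨u.2, fun g hg => ?_⟩
    have h := (Subgroup.mem_upperCentralSeries_succ_iff).1 hu ⟨g, hg⟩
    rw [Subgroup.upperCentralSeries_one] at h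
    have h' : ⁅u, (⟨g, hg⟩ : S)⁆ ∈ Subgroup.center S := by
      convert h using 1
    exact ⟨(⁅u, (⟨g, hg⟩ : S)⁆).2, Subgroup.mem_centralizer_iff.2 fun w hw =>
      congrArg Subtype.val (Subgroup.mem_center_iff.1 h' ⟨w, hw⟩)⟩
  · rintro ⟨ha, h⟩
    refine ⟨⟨a, ha⟩, (Subgroup.mem_upperCentralSeries_succ_iff).2 fun g => ?_, rfl⟩
    rw [Subgroup.upperCentralSeries_one]
    have := (h g g.2).2
    exact Subgroup.mem_center_iff.2 fun w => Subtype.ext (Subgroup.mem_centralizer_iff.1 this w w.2)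

omit hF in
/-- The part of the second centre in `A`. -/
theorem secondCenter_inf {y : Ω} (hyS : y ∈ S) (hyA : y ∉ A) :
    (upperCentralSeries S 2).map S.subtype ⊓ A = dsub hd hS hyS := by
  ext a
  rw [Subgroup.mem_inf, mem_secondCenter hd hS, mem_dsub hd hS hyS]
  refine ⟨fun h => ⟨h.2, h.1.2 y hyS⟩, fun h => ⟨⟨hd.le_S h.1, fun g hg => ?_⟩, h.1⟩⟩
  obtain ⟨i, b, hb, rfl⟩ := idx_gen hd hS hyS hyA hg
  have hw := (show Commute y ⁅a, y⁆ from centerOf_comm h.2 hyS).symm
  rw [show ⁅a, b * y ^ i⁆ = a * b * a⁻¹ * (a * y * a⁻¹) ^ i * (b * y ^ i)⁻¹ by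
      rw [conj_pow, commutatorElement_def]; group,
    hd.comm a h.1 b hb, mul_inv_cancel_right, show a * y * a⁻¹ = ⁅a, y⁆ * y by rw [commutatorElement_def]; group,
    hw.mul_pow, ← mul_assoc, centerOf_comm ((centerOf S).pow_mem h.2 i) (hd.le_S hb),
    show ⁅a, y⁆ ^ i * b * y ^ i * (b * y ^ i)⁻¹ = ⁅a, y⁆ ^ i by group]
  exact (centerOf S).pow_mem h.2 i

omit hF in
/-- With a unique abelian subgroup of index `p` the second centre lies in it. -/
theorem secondCenter_le (hcc : Nat.card (commCenter S) = p)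
    (huniq : ∀ B : Subgroup Ω, B ≤ S → IsMulCommutative B → (B.subgroupOf S).index = p → B = A) :
    (upperCentralSeries S 2).map S.subtype ≤ A := by
  intro z hz
  by_contra hzA
  obtain ⟨hzS, hzc⟩ := (mem_secondCenter hd hS).1 hz
  have hAD : dsub hd hS hzS = A := le_antisymm (fun a ha => ha.1) fun a ha => ⟨ha, by
    rw [← commutatorElement_inv]
    exact (centerOf S).inv_mem (hzc a (hd.le_S ha))⟩
  have hA : Nat.card A = p * Nat.card (centerOf S) := by
    conv_lhs => rw [← hAD, card_dsub hd hS hzS hzA, hcc]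
    exact mul_comm _ _
  set B := centerOf S ⊔ Subgroup.zpowers z
  have hBS : B ≤ S := sup_le (centerOf_le S) (Subgroup.zpowers_le.2 hzS)
  have hBc : IsMulCommutative B := by
    refine Subgroup.le_centralizer_iff_isMulCommutative.1 (sup_le ?_ ?_)
    · exact fun c hc => Subgroup.mem_centralizer_iff.2 fun w hw => centerOf_comm hc (hBS hw)
    · rw [Subgroup.zpowers_le, Subgroup.mem_centralizer_iff]
      intro w hw
      have hle : B ≤ Subgroup.centralizer {z} := sup_le
        (fun c hc => Subgroup.mem_centralizer_singleton_iff.2 (centerOf_comm hc hzS).symm)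
        (Subgroup.zpowers_le.2 (Subgroup.mem_centralizer_singleton_iff.2 rfl))
      exact Subgroup.mem_centralizer_singleton_iff.1 (hle hw)
  have hBA : B ⊓ A = centerOf S := by
    refine le_antisymm ?_ (le_inf le_sup_left (idx_center_le hd hS))
    rintro w ⟨hwB, hwA⟩
    exact idx_center_of_comm hd hS hzS hzA hwA (hBc.is_comm.comm ⟨z, Subgroup.mem_sup_right (Subgroup.mem_zpowers z)⟩ ⟨w, hwB⟩ |> congrArg Subtype.val)
  have hBi : (B.subgroupOf S).index = p := by
    have h := (B.subgroupOf S).card_mul_index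
    rw [Nat.card_congr (Subgroup.subgroupOfEquivOfLe hBS).toEquiv, card_S hd hS,
      card_eq_mul_inf hd hS hBS (Subgroup.mem_sup_right (Subgroup.mem_zpowers z)) hzA, hBA, hA,
      mul_comm p (p * _)] at h
    haveI := finite_centerOf (S := S)
    exact Nat.eq_of_mul_eq_mul_left (Nat.mul_pos hp.out.pos Nat.card_pos) h
  exact hzA ((huniq B hBS hBc hBi).le (Subgroup.mem_sup_right (Subgroup.mem_zpowers z)))

omit hF in
theorem derived_le : ⁅S, S⁆ ≤ A := fun g hg => by
  obtain ⟨z, hz, hzA⟩ := idx_exists_outside (A := A) hd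
  obtain ⟨a, ha, rfl⟩ := idx_commutator hd hS hz hzA hg
  exact idx_comm_mem hd hS ha hz

omit hF in
include hxS hx in
/-- A subgroup of `A` containing the centre, measured by its commutators with `x`. -/
theorem card_eq_center_mul {W K : Subgroup Ω} (hW : W ≤ A) (hZW : centerOf S ≤ W) (hc : ∀ a ∈ W, ⁅a, x⁆ ∈ K)
    (hsurj : ∀ k ∈ K, ∃ a ∈ W, k = ⁅a, x⁆) : Nat.card W = Nat.card (centerOf S) * Nat.card K := by
  let f : W →* K := MonoidHom.mk' (fun a => ⟨⁅(a : Ω), x⁆, hc a a.2⟩)
    (fun a b => Subtype.ext (idx_comm_mul hd hS (hW a.2) (hW b.2) hxS))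
  have hf : Function.Surjective f := fun k => by
    obtain ⟨a, ha, hk⟩ := hsurj k k.2
    exact ⟨⟨a, ha⟩, Subtype.ext hk.symm⟩
  have hker : f.ker = (centerOf S).subgroupOf W := by
    ext a
    rw [MonoidHom.mem_ker, Subgroup.mem_subgroupOf]
    refine ⟨fun h => idx_center_of_comm hd hS hxS hx (hW a.2)
      (commutatorElement_eq_one_iff_mul_comm.1 (congrArg Subtype.val h)).symm, fun h => Subtype.ext ?_⟩
    exact commutatorElement_eq_one_iff_mul_comm.2 (centerOf_comm h hxS).symm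
  rw [← f.ker.card_mul_index, Subgroup.index_ker, MonoidHom.range_eq_top.2 hf, Subgroup.card_top, hker,
    Nat.card_congr (Subgroup.subgroupOfEquivOfLe hZW).toEquiv]

omit hF in
include hxS hx in
/-- The part of the derived subgroup outside the centre. -/
theorem index_center_sup_derived (hcc : Nat.card (commCenter S) = p) :
    ((centerOf S ⊔ ⁅S, S⁆).subgroupOf A).index = p := by
  set W := centerOf S ⊔ ⁅S, S⁆
  haveI := finite_centerOf (S := S)
  haveI := finite_of_le (S := S) hd.le_S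
  have hDS : ⁅S, S⁆ ≤ S := (derived_le hd hS).trans hd.le_S
  haveI := finite_of_le (S := S) hDS
  have hWA : W ≤ A := sup_le (idx_center_le hd hS) (derived_le hd hS)
  let f : (⁅S, S⁆ : Subgroup Ω) →* (⁅S, S⁆ : Subgroup Ω) := MonoidHom.mk' (fun a => ⟨⁅(a : Ω), x⁆,
      Subgroup.commutator_mem_commutator (hDS a.2) hxS⟩)
    (fun a b => Subtype.ext (idx_comm_mul hd hS (derived_le hd hS a.2) (derived_le hd hS b.2) hxS))
  set K := f.range.map (⁅S, S⁆ : Subgroup Ω).subtype
  have hK : Nat.card K = Nat.card f.range :=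
    Subgroup.card_map_of_injective (⁅S, S⁆ : Subgroup Ω).subtype_injective
  have hWK : W ≤ commPre hd hS hxS K := sup_le
    (fun c hc => ⟨idx_center_le hd hS hc, by
      rw [commutatorElement_eq_one_iff_mul_comm.2 (centerOf_comm hc hxS).symm]; exact K.one_mem⟩)
    (fun c hc => ⟨derived_le hd hS hc, ⟨f ⟨c, hc⟩, ⟨_, rfl⟩, rfl⟩⟩)
  have hWcard : Nat.card W = Nat.card (centerOf S) * Nat.card f.range := by
    rw [← hK]
    refine card_eq_center_mul hd hS hxS hx hWA le_sup_left (fun a ha => (hWK ha).2) ?_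
    rintro _ ⟨_, ⟨a, rfl⟩, rfl⟩
    exact ⟨a, Subgroup.mem_sup_right a.2, rfl⟩
  have hAcard : Nat.card A = Nat.card (centerOf S) * Nat.card (⁅S, S⁆ : Subgroup Ω) :=
    card_eq_center_mul hd hS hxS hx le_rfl (idx_center_le hd hS)
      (fun a ha => Subgroup.commutator_mem_commutator (hd.le_S ha) hxS) fun k hk => idx_commutator hd hS hxS hx hk
  have hkerf : Nat.card f.ker = p := by
    rw [← hcc]
    refine Nat.card_congr ⟨fun a => ⟨((a : (⁅S, S⁆ : Subgroup Ω)) : Ω),
      idx_center_of_comm hd hS hxS hx (derived_le hd hS a.1.2)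
        (commutatorElement_eq_one_iff_mul_comm.1 (congrArg Subtype.val a.2)).symm, a.1.2⟩,
      fun c => ⟨⟨(c : Ω), c.2.2⟩, Subtype.ext (commutatorElement_eq_one_iff_mul_comm.2 (centerOf_comm c.2.1 hxS).symm)⟩,
      fun a => rfl, fun c => rfl⟩
  have hder : Nat.card (⁅S, S⁆ : Subgroup Ω) = p * Nat.card f.range := by
    rw [← f.ker.card_mul_index, Subgroup.index_ker, hkerf]
  have h := (W.subgroupOf A).card_mul_index
  rw [Nat.card_congr (Subgroup.subgroupOfEquivOfLe hWA).toEquiv, hWcard, hAcard, hder,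
    show Nat.card (centerOf S) * (p * Nat.card f.range) = Nat.card (centerOf S) * Nat.card f.range * p by ring] at h
  haveI : Finite f.range := inferInstance
  exact Nat.eq_of_mul_eq_mul_left (Nat.mul_pos Nat.card_pos Nat.card_pos) h

omit hF in
include hxS hx in
/-- `S/Z(S)` has maximal class. -/
theorem not_lowerCentral_le (hcc : Nat.card (commCenter S) = p) {m : ℕ}
    (hm : ((centerOf S).subgroupOf S).index = p ^ m) (h3 : 3 ≤ m) :
    ¬ Subgroup.lowerCentralSeries S (m - 2) ≤ centerOf S := by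
  intro hle
  haveI := finite_centerOf (S := S)
  haveI := finite_of_le (S := S) hd.le_S
  let K : ℕ → Subgroup Ω := fun j => Nat.rec ⊥ (fun _ L => commPre hd hS hxS L) j
  have hKA : ∀ j, K j ≤ A := fun j => by
    rcases j with - | j
    · exact bot_le
    · exact fun a ha => ha.1
  have hKS : ∀ j, K j ≤ S := fun j => (hKA j).trans hd.le_S
  have hKd : ∀ j, (K j ⊓ ⁅S, S⁆ : Subgroup Ω) ≤ S := fun j => inf_le_left.trans (hKS j)
  have hcard : ∀ j, Nat.card (K j ⊓ ⁅S, S⁆ : Subgroup Ω) ≤ p ^ j := by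
    intro j
    induction j with
    | zero => rw [pow_zero, show K 0 = ⊥ from rfl, bot_inf_eq, Subgroup.card_bot]
    | succ j ih =>
      haveI := finite_of_le (S := S) (hKd j)
      refine (card_le_of_comm hd hS hxS hx (H := K (j + 1) ⊓ ⁅S, S⁆) (L := commCenter S) (K := K j ⊓ ⁅S, S⁆)
        (inf_le_left.trans (hKA (j + 1))) (hKd j) (inf_le_left.trans (centerOf_le S))
        (fun a ha => ⟨(show a ∈ commPre hd hS hxS (K j) from ha.1).2,
          Subgroup.commutator_mem_commutator (hKS (j + 1) ha.1) hxS⟩)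
        (fun a ha hz => ⟨hz, ha.2⟩)).trans ?_
      rw [hcc, pow_succ']
      exact Nat.mul_le_mul le_rfl ih
  have hiter : ∀ k : ℕ, ∀ a ∈ A, (fun b => ⁅b, x⁆)^[k] a ∈ centerOf S → a ∈ K (k + 1) := by
    intro k
    induction k with
    | zero => exact fun a ha hz => ⟨ha, Subgroup.mem_bot.2
        (commutatorElement_eq_one_iff_mul_comm.2 (centerOf_comm hz hxS).symm)⟩
    | succ k ih =>
      intro a ha hz
      rw [Function.iterate_succ_apply] at hz
      exact ⟨ha, ih _ (idx_comm_mem hd hS ha hxS) hz⟩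
  have hlcs : ∀ k : ℕ, ∀ a ∈ A, (fun b => ⁅b, x⁆)^[k] a ∈ Subgroup.lowerCentralSeries S k := by
    intro k
    induction k with
    | zero => exact fun a ha => hd.le_S ha
    | succ k ih =>
      intro a ha
      rw [Function.iterate_succ_apply']
      exact Subgroup.commutator_mem_commutator (ih a ha) hxS
  have hA : A ≤ K (m - 2 + 1) := fun a ha => hiter _ a ha (hle (hlcs _ a ha))
  have hbound : Nat.card A ≤ Nat.card (centerOf S) * p ^ (m - 2) := by
    haveI := finite_of_le (S := S) (hKd (m - 2))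
    refine (card_le_of_comm hd hS hxS hx (L := centerOf S) (K := K (m - 2) ⊓ ⁅S, S⁆) le_rfl (hKd _)
      (centerOf_le S) (fun a ha => ⟨(hA ha).2, Subgroup.commutator_mem_commutator (hd.le_S ha) hxS⟩)
      (fun a _ hz => hz)).trans ?_
    exact Nat.mul_le_mul le_rfl (hcard _)
  have h := ((centerOf S).subgroupOf S).card_mul_index
  rw [Nat.card_congr (Subgroup.subgroupOfEquivOfLe (centerOf_le S)).toEquiv, hm, card_S hd hS] at h
  have h2 : p * Nat.card A ≤ p * (Nat.card (centerOf S) * p ^ (m - 2)) := Nat.mul_le_mul le_rfl hbound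
  rw [← h, show p * (Nat.card (centerOf S) * p ^ (m - 2)) = Nat.card (centerOf S) * p ^ (m - 1) by
    rw [mul_left_comm, ← pow_succ', show m - 2 + 1 = m - 1 by omega]] at h2
  have h4 := (Nat.pow_le_pow_iff_right hp.out.one_lt).1 (Nat.le_of_mul_le_mul_left h2 Nat.card_pos)
  omega

omit hF in
/-- `P` is generated by its part in `A` and any element outside `A`. -/
theorem eq_inf_sup_zpowers {P : Subgroup Ω} (hPS : P ≤ S) {y : Ω} (hyP : y ∈ P) (hyA : y ∉ A) :
    P = (P ⊓ A) ⊔ Subgroup.zpowers y := by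
  refine le_antisymm (fun q hq => ?_) (sup_le inf_le_left (Subgroup.zpowers_le.2 hyP))
  obtain ⟨i, a, ha, rfl⟩ := idx_gen hd hS (hPS hyP) hyA (hPS hq)
  have haP : a ∈ P := by
    have := P.mul_mem hq (P.inv_mem (P.pow_mem hyP i))
    rwa [mul_inv_cancel_right] at this
  exact Subgroup.mul_mem_sup ⟨haP, ha⟩ (Subgroup.pow_mem _ (Subgroup.mem_zpowers y) i)

end Cfsg.Agent.FusionSys
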