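import Mathlib.GroupTheory.PGroup
import Mathlib.GroupTheory.OrderOfElement
import Mathlib.Algebra.Group.End
import Mathlib.Tactic.Group

/-!
# The torus element generated by two opposite transvections
-/

set_option autoImplicit false

namespace Cfsg.Agent.FusionSys

variable {A : Type*} [CommGroup A] [Finite A] {p : ℕ} [hp : Fact p.Prime]

omit [Finite A] hp in
theorem transvection_pow (t : MulAut A) {z r : A} (hz : t z = z) {e : ℤ} (hr : t r = r * z ^ e) (i : ℕ) :
    (t ^ i) r = r * z ^ (e * i) := by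
  induction i with
  | zero => simp
  | succ i ih =>
    rw [pow_succ', MulAut.mul_apply, ih, map_mul, map_zpow, hz, hr, mul_assoc, ← zpow_add]
    push_cast; ring_nf

/-- A power of a transvection moving `y` by exactly `z`. -/
theorem exists_unit_transvection (t : MulAut A) {z y : A} (hzp : z ^ p = 1) (hz : t z = z)
    (hd : ∀ r, r⁻¹ * t r ∈ Subgroup.zpowers z) (hy : t y ≠ y) :
    ∃ (i : ℕ) (a : ℤ), t y = y * z ^ a ∧ z ^ (a * i) = z ∧ (t ^ i) y = y * z ∧
      ∀ c, (t ^ i) c = c → t c = c := by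
  obtain ⟨a, ha⟩ := hd y
  have hya : t y = y * z ^ a := by
    rw [show z ^ a = y⁻¹ * t y from ha, mul_inv_cancel_left]
  have hne : z ^ a ≠ 1 := fun h => hy (by rw [hya, h, mul_one])
  have hz1 : z ≠ 1 := fun h => hne (by rw [h, one_zpow])
  have hoz : orderOf z = p := orderOf_eq_prime hzp hz1
  have hoa : orderOf (z ^ a) = p := orderOf_eq_prime (by rw [← zpow_natCast, ← zpow_mul, mul_comm, zpow_mul, zpow_natCast, hzp, one_zpow]) hne
  have hzmem : z ∈ Subgroup.zpowers (z ^ a) := by
    have hle : Subgroup.zpowers (z ^ a) ≤ Subgroup.zpowers z :=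
      Subgroup.zpowers_le.2 (Subgroup.zpow_mem _ (Subgroup.mem_zpowers z) a)
    have he := Subgroup.eq_of_le_of_card_ge hle (by rw [Nat.card_zpowers, Nat.card_zpowers, hoz, hoa])
    exact he.ge (Subgroup.mem_zpowers z)
  obtain ⟨i, hi⟩ := mem_powers_iff_mem_zpowers.2 hzmem
  have hi' : z ^ (a * i) = z := by rw [zpow_mul, zpow_natCast]; exact hi
  refine ⟨i, a, hya, hi', by rw [transvection_pow t hz hya, hi'], fun c hc => ?_⟩
  obtain ⟨e, he⟩ := hd c
  have hce : t c = c * z ^ e := by rw [show z ^ e = c⁻¹ * t c from he, mul_inv_cancel_left]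
  rw [transvection_pow t hz hce, mul_eq_left] at hc
  rw [hce, show z ^ e = (z ^ (a * i)) ^ e by rw [hi'], ← zpow_mul, show a * i * e = e * i * a by ring, zpow_mul, hc,
    one_zpow, mul_one]

/-- Two opposite transvections generate an element inverting their directions and commuting with the first. -/
theorem exists_torus (t t' : MulAut A) {z y : A} (hzp : z ^ p = 1) (hyp : y ^ p = 1) (hz : t z = z) (hy' : t' y = y)
    (hd : ∀ r, r⁻¹ * t r ∈ Subgroup.zpowers z) (hd' : ∀ r, r⁻¹ * t' r ∈ Subgroup.zpowers y)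
    (hy : t y ≠ y) (hz' : t' z ≠ z) :
    ∃ h ∈ Subgroup.closure ({t, t'} : Set (MulAut A)), h z = z⁻¹ ∧ h * t = t * h ∧ h y = y⁻¹ := by
  obtain ⟨i, a, hya, -, hi, hic⟩ := exists_unit_transvection t hzp hz hd hy
  obtain ⟨j, b, hzb, hjb, hj, hjc⟩ := exists_unit_transvection t' hyp hy' hd' hz'
  set t1 := t ^ i with ht1
  set t2 := (t' ^ j)⁻¹ with ht2
  have h1z : t1 z = z := by
    have := transvection_pow t hz (r := z) (e := 0) (by simp [hz]) i
    simpa using this
  have h1y : t1 y = y * z := hi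
  have h2y : t2 y = y := by
    have := transvection_pow t' hy' (r := y) (e := 0) (by simp [hy']) j
    rw [ht2]
    refine (MulEquiv.symm_apply_eq (t' ^ j)).2 ?_
    simpa using this.symm
  have h2z : t2 z = z * y⁻¹ := by
    rw [ht2]
    refine (MulEquiv.symm_apply_eq (t' ^ j)).2 ?_
    rw [map_mul, map_inv, hj, show (t' ^ j) y = y by
      simpa using transvection_pow t' hy' (r := y) (e := 0) (by simp [hy']) j, mul_inv_cancel_right]
  set w := t1 * t2 * t1 with hw
  have hwz : w z = y⁻¹ := by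
    rw [hw, MulAut.mul_apply, MulAut.mul_apply, h1z, h2z, map_mul, map_inv, h1z, h1y, mul_inv_rev, mul_inv_cancel_left]
  have hwy : w y = z := by
    rw [hw, MulAut.mul_apply, MulAut.mul_apply, h1y, map_mul, h2y, h2z, mul_comm z, mul_inv_cancel_left, h1z]
  refine ⟨w * w, ?_, ?_, ?_, ?_⟩
  · have ht : t1 ∈ Subgroup.closure ({t, t'} : Set (MulAut A)) :=
      Subgroup.pow_mem _ (Subgroup.subset_closure (by simp)) _
    have ht' : t2 ∈ Subgroup.closure ({t, t'} : Set (MulAut A)) :=
      Subgroup.inv_mem _ (Subgroup.pow_mem _ (Subgroup.subset_closure (by simp)) _)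
    exact Subgroup.mul_mem _ (Subgroup.mul_mem _ (Subgroup.mul_mem _ ht ht') ht)
      (Subgroup.mul_mem _ (Subgroup.mul_mem _ ht ht') ht)
  · rw [MulAut.mul_apply, hwz, map_inv, hwy]
  · refine MulEquiv.ext fun r => ?_
    obtain ⟨c, k, l, rfl, hc, hwc⟩ : ∃ (c : A) (k l : ℤ), r = c * z ^ k * y ^ l ∧ t c = c ∧ w c = c := by
      obtain ⟨e, he⟩ : r⁻¹ * t1 r ∈ Subgroup.zpowers z := by
        obtain ⟨e, he⟩ := hd r
        refine ⟨e * i, ?_⟩
        show z ^ (e * i) = r⁻¹ * t1 r
        rw [ht1, transvection_pow t hz (show t r = r * z ^ e by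
          rw [show z ^ e = r⁻¹ * t r from he, mul_inv_cancel_left]), inv_mul_cancel_left]
      have hre : t1 r = r * z ^ e := by rw [show z ^ e = r⁻¹ * t1 r from he, mul_inv_cancel_left]
      obtain ⟨f, hf⟩ : (r * y ^ (-e))⁻¹ * t2 (r * y ^ (-e)) ∈ Subgroup.zpowers y := by
        obtain ⟨f, hf⟩ := hd' (r * y ^ (-e))
        refine ⟨-(f * j), ?_⟩
        have h := transvection_pow t' hy' (show t' (r * y ^ (-e)) = r * y ^ (-e) * y ^ f by
          rw [show y ^ f = (r * y ^ (-e))⁻¹ * t' (r * y ^ (-e)) from hf, mul_inv_cancel_left]) j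
        show y ^ (-(f * j)) = _
        rw [eq_inv_mul_iff_mul_eq, ht2]
        refine (MulEquiv.eq_symm_apply (t' ^ j)).2 ?_
        rw [map_mul, map_zpow, h, show (t' ^ j) y = y by
          simpa using transvection_pow t' hy' (r := y) (e := 0) (by simp [hy']) j, mul_assoc, ← zpow_add,
          add_neg_cancel, zpow_zero, mul_one]
      have hrf : t2 (r * y ^ (-e)) = r * y ^ (-e) * y ^ f := by
        rw [show y ^ f = (r * y ^ (-e))⁻¹ * t2 (r * y ^ (-e)) from hf, mul_inv_cancel_left]
      set c := r * y ^ (-e) * z ^ f with hcdef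
      have h1c : t1 c = c := by
        rw [hcdef, map_mul, map_mul, map_zpow, map_zpow, hre, h1y, h1z, mul_zpow, zpow_neg z, mul_comm (y ^ (-e)),
          ← mul_assoc, mul_inv_cancel_right]
      have h2c : t2 c = c := by
        rw [hcdef, map_mul, map_zpow, hrf, h2z, mul_zpow, inv_zpow, mul_assoc (r * y ^ (-e)) (y ^ f), mul_comm (z ^ f),
          mul_inv_cancel_left]
      refine ⟨c, -f, e, ?_, hic c h1c, by rw [hw, MulAut.mul_apply, MulAut.mul_apply, h1c, h2c, h1c]⟩
      rw [hcdef, mul_assoc (r * y ^ (-e)), ← zpow_add, add_neg_cancel, zpow_zero, mul_one, mul_assoc, ← zpow_add,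
        neg_add_cancel, zpow_zero, mul_one]
    simp only [MulAut.mul_apply, map_mul, map_zpow, hz, hya, hc, hwc, hwz, hwy, map_inv, mul_inv, inv_zpow]
  · rw [MulAut.mul_apply, hwy, hwz]

end Cfsg.Agent.FusionSys
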