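import Cfsg.Agent.Lib.Fusion.IndexAbelian
import Cfsg.Agent.Lib.Fusion.Abelian
import Cfsg.Agent.Lib.Fusion.Transvection

/-!
# Abelian essential subgroups `Z(S)⟨x⟩` when `S` has an abelian subgroup of index `p`
-/

set_option autoImplicit false

namespace Cfsg.Agent.FusionSys

open Cfsg Cfsg.FusionSystem
open scoped commutatorElement

variable {Ω : Type*} [Group Ω] {S A : Subgroup Ω} [Finite S] {p : ℕ} [hp : Fact p.Prime] {F : FusionSystem S}

/-- An essential subgroup meeting `A` in the centre only. -/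
structure AbEssential (F : FusionSystem S) (A : Subgroup Ω) (p : ℕ) (P : Subgroup Ω) (x : Ω) : Prop where
  ess : F.IsEssential p P
  x_mem : x ∈ P
  x_not : x ∉ A
  center_le : centerOf S ≤ P
  inf_le : ∀ y ∈ P, y ∈ A → y ∈ centerOf S

variable (hd : IndexAbelian S A p) (hS : IsPGroup p S) {P : Subgroup Ω} {x : Ω}

include hd hS in
theorem ab_decomp (hP : AbEssential F A p P x) {y : Ω} (hy : y ∈ P) :
    ∃ i : ℕ, ∃ c ∈ centerOf S, y = c * x ^ i := by
  obtain ⟨i, a, ha, rfl⟩ := idx_gen hd hS (hP.ess.1.1 hP.x_mem) hP.x_not (hP.ess.1.1 hy)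
  refine ⟨i, a, hP.inf_le a ?_ ha, rfl⟩
  have := P.mul_mem hy (P.inv_mem (P.pow_mem hP.x_mem i))
  rwa [mul_inv_cancel_right] at this

include hd hS in
theorem ab_comm (hP : AbEssential F A p P x) {a b : Ω} (ha : a ∈ P) (hb : b ∈ P) : a * b = b * a := by
  obtain ⟨i, c, hc, rfl⟩ := ab_decomp hd hS hP ha
  obtain ⟨j, c', hc', rfl⟩ := ab_decomp hd hS hP hb
  have hxS := hP.ess.1.1 hP.x_mem
  have h1 : Commute x c := centerOf_comm hc hxS
  have h2 : Commute x c' := centerOf_comm hc' hxS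
  have h3 : Commute c c' := centerOf_comm hc' hc.1
  exact (((h3.mul_right ((h1.symm).pow_right j))).mul_left
    ((h2.pow_left i).mul_right ((Commute.refl x).pow_pow i j))).eq

/-- The central part of the derived subgroup. -/
def commCenter (S : Subgroup Ω) : Subgroup Ω := centerOf S ⊓ ⁅S, S⁆

include hd hS in
/-- Action of `Aut_S(P)`. -/
theorem ab_act (hP : AbEssential F A p P x) {u : MulAut P} (hu : u ∈ autInducedBy S P) :
    (∀ c : P, (c : Ω) ∈ centerOf S → u c = c) ∧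
      ∃ w ∈ commCenter S, ((u ⟨x, hP.x_mem⟩ : P) : Ω) = x * w := by
  obtain ⟨g, hg, hge⟩ := (mem_autInducedBy_iff u).1 hu
  refine ⟨fun c hc => Subtype.ext ((hge c).trans ?_), ?_⟩
  · rw [centerOf_comm hc hg, mul_inv_cancel_right]
  have hxS := hP.ess.1.1 hP.x_mem
  obtain ⟨i, a, ha, rfl⟩ := idx_gen hd hS hxS hP.x_not hg
  have hux : ((u ⟨x, hP.x_mem⟩ : P) : Ω) = ⁅a, x⁆ * x := by
    rw [hge]
    show a * x ^ i * x * (a * x ^ i)⁻¹ = _
    simp only [commutatorElement_def]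
    group
  have hmem : ⁅a, x⁆ ∈ P := by
    have := P.mul_mem (u ⟨x, hP.x_mem⟩).2 (P.inv_mem hP.x_mem)
    rwa [hux, mul_inv_cancel_right] at this
  have hc := hP.inf_le _ hmem (idx_comm_mem hd hS ha hxS)
  exact ⟨_, ⟨hc, Subgroup.commutator_mem_commutator (hd.le_S ha) hxS⟩, hux.trans (centerOf_comm hc hxS).symm⟩

include hd hS in
theorem ab_act_pow (hP : AbEssential F A p P x) {u : MulAut P} (hu : u ∈ autInducedBy S P) {w : Ω}
    (hw : w ∈ centerOf S) (hux : ((u ⟨x, hP.x_mem⟩ : P) : Ω) = x * w) (y : P) :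
    ∃ i : ℕ, ∃ c ∈ centerOf S, (y : Ω) = c * x ^ i ∧ ((u y : P) : Ω) = y * w ^ i := by
  obtain ⟨i, c, hc, hy⟩ := ab_decomp hd hS hP y.2
  refine ⟨i, c, hc, hy, ?_⟩
  have hye : y = ⟨c, hP.center_le hc⟩ * (⟨x, hP.x_mem⟩ : P) ^ i := Subtype.ext (by simpa using hy)
  rw [hye, map_mul, map_pow, (ab_act hd hS hP hu).1 _ hc, Subgroup.coe_mul, SubmonoidClass.coe_pow, hux,
    (show Commute x w from centerOf_comm hw (hP.ess.1.1 hP.x_mem)).mul_pow]
  simp [mul_assoc]

include hd hS in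
theorem ab_eq_one_of_fix (hP : AbEssential F A p P x) {u : MulAut P} (hu : u ∈ autInducedBy S P)
    (h : u ⟨x, hP.x_mem⟩ = ⟨x, hP.x_mem⟩) : u = 1 := by
  refine MulEquiv.ext fun y => Subtype.ext ?_
  obtain ⟨i, c, -, -, hy⟩ := ab_act_pow hd hS hP hu (centerOf S).one_mem
    (by rw [h, mul_one]) y
  rw [hy, one_pow, mul_one]; rfl

include hd hS in
theorem ab_fix_center (hP : AbEssential F A p P x) {u : MulAut P} (hu : u ∈ autInducedBy S P) (hu1 : u ≠ 1)
    {y : P} (hy : u y = y) : (y : Ω) ∈ centerOf S := by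
  obtain ⟨-, w, hw, hux⟩ := ab_act hd hS hP hu
  obtain ⟨i, c, hc, hye, hyu⟩ := ab_act_pow hd hS hP hu hw.1 hux y
  have hxS := hP.ess.1.1 hP.x_mem
  have hwp : w ^ p = 1 := by
    have h := (ab_act hd hS hP hu).1 ((⟨x, hP.x_mem⟩ : P) ^ p) (by simpa using idx_pow_center hd hS hxS hP.x_not)
    have h' := congrArg Subtype.val h
    rw [map_pow, SubmonoidClass.coe_pow, hux, (show Commute x w from centerOf_comm hw.1 hxS).mul_pow,
      SubmonoidClass.coe_pow, mul_eq_left] at h'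
    exact h'
  have hw1 : w ≠ 1 := fun h => hu1 (ab_eq_one_of_fix hd hS hP hu (Subtype.ext (by rw [hux, h, mul_one])))
  rw [hy, left_eq_mul, ← orderOf_dvd_iff_pow_eq_one, orderOf_eq_prime hwp hw1] at hyu
  obtain ⟨k, rfl⟩ := hyu
  rw [hye, pow_mul]
  exact (centerOf S).mul_mem hc ((centerOf S).pow_mem (idx_pow_center hd hS hxS hP.x_not) k)

include hd hS in
theorem ab_exists_act (hP : AbEssential F A p P x) {w : Ω} (hw : w ∈ commCenter S) :
    ∃ u ∈ autInducedBy S P, ((u ⟨x, hP.x_mem⟩ : P) : Ω) = x * w := by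
  have hPS := hP.ess.1.1
  haveI := finite_of_le (S := S) hPS
  obtain ⟨a, ha, hwa⟩ := idx_commutator hd hS (hPS hP.x_mem) hP.x_not hw.2
  have hxw : a * x * a⁻¹ = w * x := by rw [hwa, commutatorElement_def]; group
  have hn : a ∈ Subgroup.normalizer (P : Set Ω) := mem_normalizer_of_conj_mem_finite fun y hy => by
    obtain ⟨i, c, hc, rfl⟩ := ab_decomp hd hS hP hy
    rw [← mul_assoc a c, centerOf_comm hc (hd.le_S ha), show c * a * x ^ i * a⁻¹ = c * (a * x * a⁻¹) ^ i by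
      rw [conj_pow]; group, hxw]
    exact P.mul_mem (hP.center_le hc) (P.pow_mem (P.mul_mem (hP.center_le hw.1) hP.x_mem) i)
  obtain ⟨u, hu, hue⟩ := exists_conjAut (hd.le_S ha) hn
  exact ⟨u, hu, (hue _).trans (hxw.trans (centerOf_comm hw.1 (hPS hP.x_mem)).symm)⟩

variable (hF : F.IsSaturated p)

include hd hS hF in
/-- Some automorphism moves `Aut_S(P)` to a subgroup meeting it trivially. -/
theorem ab_exists_good (hP : AbEssential F A p P x) :
    ∃ α ∈ F.autGroup P, ∀ u ∈ autInducedBy S P, α * u * α⁻¹ ∈ autInducedBy S P → u = 1 := by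
  obtain ⟨M, hM, hle⟩ := exists_stronglyEmbedded_ge_outS hS hF hP.ess
  have hPS := hP.ess.1.1
  haveI := finite_of_le (S := S) hPS
  obtain ⟨-, -, hN, -⟩ := id hP.ess
  obtain ⟨y, hy⟩ : ∃ y, y ∉ M := by
    by_contra h
    simp only [not_exists, not_not] at h
    exact hM.2.1 (eq_top_iff.2 fun y _ => h y)
  obtain ⟨α, rfl⟩ := QuotientGroup.mk'_surjective _ y
  refine ⟨α, α.2, fun u hu hcu => ?_⟩
  by_contra hu1
  refine hy ?_
  obtain ⟨-, w, hw, hux⟩ := ab_act hd hS hP hu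
  have hup : u ^ p = 1 := by
    have hxS := hPS hP.x_mem
    refine ab_eq_one_of_fix hd hS hP (Subgroup.pow_mem _ hu p) ?_
    have h : ∀ n : ℕ, (((u ^ n) ⟨x, hP.x_mem⟩ : P) : Ω) = x * w ^ n := by
      intro n
      induction n with
      | zero => simp
      | succ n ih =>
        rw [pow_succ', MulAut.mul_apply, show (u ^ n) ⟨x, hP.x_mem⟩ =
          ⟨x, hP.x_mem⟩ * (⟨w, hP.center_le hw.1⟩ : P) ^ n from Subtype.ext (by simpa using ih), map_mul, map_pow,
          (ab_act hd hS hP hu).1 ⟨w, hP.center_le hw.1⟩ hw.1, Subgroup.coe_mul, hux, SubmonoidClass.coe_pow,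
          pow_succ', mul_assoc]
    have h2 := (ab_act hd hS hP hu).1 ((⟨x, hP.x_mem⟩ : P) ^ p) (by simpa using idx_pow_center hd hS hxS hP.x_not)
    have h2' := congrArg Subtype.val h2
    rw [map_pow, SubmonoidClass.coe_pow, hux, (show Commute x w from centerOf_comm hw.1 hxS).mul_pow,
      SubmonoidClass.coe_pow] at h2'
    exact Subtype.ext ((h p).trans (by rw [mul_eq_left.1 h2', mul_one]))
  set u' : F.autGroup P := ⟨u, autInducedBy_le_autGroup F hPS hu⟩
  have hInn : Inn P = ⊥ := inn_eq_bot_of_abelian (S := P) fun a ha b hb => ab_comm hd hS hP ha hb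
  have hord : orderOf (outMk F P u') = p := by
    refine orderOf_eq_prime ?_ fun h => hu1 ?_
    · rw [← map_pow, show u' ^ p = 1 from Subtype.ext hup, map_one]
    · have := (outMk_eq_one_iff F P u').1 h
      rw [hInn] at this
      exact Subgroup.mem_bot.1 this
  refine Cfsg.Agent.LEStrongEmb.mem_of_conj_mem hM hord (hle ⟨u', hu, rfl⟩) ?_
  rw [← map_inv, ← map_mul, ← map_mul]
  exact hle ⟨_, hcu, rfl⟩

include hd hS hF in
/-- The central part of the derived subgroup misses the preimage of the centre under a good automorphism. -/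
theorem ab_not_center (hP : AbEssential F A p P x) {α : MulAut P} (hα : α ∈ F.autGroup P)
    (hgood : ∀ u ∈ autInducedBy S P, α * u * α⁻¹ ∈ autInducedBy S P → u = 1) {w : Ω} (hw : w ∈ commCenter S)
    (h : ((α⁻¹ ⟨w, hP.center_le hw.1⟩ : P) : Ω) ∈ centerOf S) : w = 1 := by
  have hPS := hP.ess.1.1
  haveI := finite_of_le (S := S) hPS
  letI : CommGroup P := { (inferInstance : Group P) with
    mul_comm := fun a b => Subtype.ext (ab_comm hd hS hP a.2 b.2) }
  set G := F.autGroup P with hG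
  set T := autInducedBy S P with hT
  set wP : P := ⟨w, hP.center_le hw.1⟩ with hwP
  obtain ⟨u, hu, hux⟩ := ab_exists_act hd hS hP hw
  have hwp : wP ^ p = 1 := by
    have hxS := hPS hP.x_mem
    have h2 := (ab_act hd hS hP hu).1 ((⟨x, hP.x_mem⟩ : P) ^ p) (by simpa using idx_pow_center hd hS hxS hP.x_not)
    rw [map_pow, show u ⟨x, hP.x_mem⟩ = ⟨x, hP.x_mem⟩ * wP from Subtype.ext hux, mul_pow, mul_eq_left] at h2
    exact h2
  -- the transvections in direction `w`
  let L : Subgroup (MulAut P) :=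
    { carrier := {v | v ∈ G ∧ v wP = wP ∧ ∀ y, y⁻¹ * v y ∈ Subgroup.zpowers wP}
      one_mem' := ⟨G.one_mem, rfl, fun y => by simp⟩
      mul_mem' := by
        rintro a b ⟨ha, haw, had⟩ ⟨hb, hbw, hbd⟩
        refine ⟨G.mul_mem ha hb, by rw [MulAut.mul_apply, hbw, haw], fun y => ?_⟩
        rw [MulAut.mul_apply, show y⁻¹ * a (b y) = y⁻¹ * b y * ((b y)⁻¹ * a (b y)) by group]
        exact Subgroup.mul_mem _ (hbd y) (had _)
      inv_mem' := by
        rintro a ⟨ha, haw, had⟩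
        refine ⟨G.inv_mem ha, (MulEquiv.symm_apply_eq a).2 haw.symm, fun y => ?_⟩
        have := Subgroup.inv_mem _ (had (a⁻¹ y))
        rwa [show a (a⁻¹ y) = y from a.apply_symm_apply y, mul_inv_rev, inv_inv] at this }
  have hLp : IsPGroup p L := fun v => ⟨1, by
    rw [pow_one]
    refine Subtype.ext (MulEquiv.ext fun y => ?_)
    obtain ⟨k, hk⟩ := v.2.2.2 y
    rw [SubmonoidClass.coe_pow, transvection_pow (v : MulAut P) v.2.2.1 (show (v : MulAut P) y = y * wP ^ k by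
      rw [show wP ^ k = y⁻¹ * (v : MulAut P) y from hk, mul_inv_cancel_left]) p, mul_comm k, zpow_mul, zpow_natCast,
      hwp, one_zpow, mul_one]
    rfl⟩
  set T' := T.map (MulAut.conj α).toMonoidHom with hT'
  have hSyl : IsSyl p T' G := by
    have h1 := (isSyl_of_fullyAutomized (fullyNormalized_imp hS hF hP.ess.2.1).2).map_conj α
    have e : G.map (MulAut.conj α).toMonoidHom = G :=
      Subgroup.mem_normalizer_iff_map_conj_eq.1 (Subgroup.le_normalizer hα)
    rw [e] at h1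
    exact h1
  have hfix : ∀ v ∈ T', v wP = wP := by
    rintro _ ⟨s, hs, rfl⟩
    show α (s (α⁻¹ wP)) = wP
    rw [(ab_act hd hS hP hs).1 _ h]
    exact α.apply_symm_apply wP
  have hn : T' ≤ Subgroup.normalizer (L : Set (MulAut P)) := by
    have key : ∀ v ∈ T', ∀ l ∈ L, v * l * v⁻¹ ∈ L := fun v hv l hl => by
      have hwv : v⁻¹ wP = wP := hfix _ (T'.inv_mem hv)
      refine ⟨G.mul_mem (G.mul_mem (hSyl.1 hv) hl.1) (G.inv_mem (hSyl.1 hv)), ?_, fun y => ?_⟩
      · rw [MulAut.mul_apply, MulAut.mul_apply, hwv, hl.2.1, hfix v hv]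
      · obtain ⟨k, hk⟩ := hl.2.2 (v⁻¹ y)
        refine ⟨k, ?_⟩
        have hk' := congrArg v (show wP ^ k = (v⁻¹ y)⁻¹ * l (v⁻¹ y) from hk)
        rw [map_zpow, hfix v hv, map_mul, map_inv, show v (v⁻¹ y) = y from v.apply_symm_apply y] at hk'
        exact hk'
    intro v hv
    exact mem_normalizer_of_conj_mem v (key v hv) fun l hl => by simpa using key v⁻¹ (T'.inv_mem hv) l hl
  have hLG : L ≤ G := fun v hv => hv.1
  have hLT : L ≤ T' := (hSyl.eq_of_le le_sup_left (sup_le hSyl.1 hLG)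
    (IsPGroup.to_sup_of_normal_right' hSyl.2.1 hLp hn)).symm ▸ le_sup_right
  have huL : u ∈ L := by
    refine ⟨autInducedBy_le_autGroup F hPS hu, (ab_act hd hS hP hu).1 wP hw.1, fun y => ?_⟩
    obtain ⟨i, c, -, -, hy⟩ := ab_act_pow hd hS hP hu hw.1 hux y
    refine ⟨i, Subtype.ext ?_⟩
    show ((wP ^ (i : ℤ) : P) : Ω) = (y : Ω)⁻¹ * ((u y : P) : Ω)
    rw [hy, inv_mul_cancel_left]; simp [hwP]
  obtain ⟨s, hs, hsu⟩ := hLT huL
  have hs1 : s = 1 := hgood s hs (by rw [show α * s * α⁻¹ = u from hsu]; exact hu)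
  have hu1 : u = 1 := by rw [← show α * s * α⁻¹ = u from hsu, hs1, mul_one, mul_inv_cancel]
  rw [hu1] at hux
  exact (left_eq_mul (a := x)).1 hux

include hd hS hF in
/-- The central part of the derived subgroup has order `p`, and splits the centre with the preimage part. -/
theorem ab_split (hP : AbEssential F A p P x) :
    ∃ z, orderOf z = p ∧ commCenter S = Subgroup.zpowers z ∧
      ∀ (α : MulAut P), α ∈ F.autGroup P →
        (∀ u ∈ autInducedBy S P, α * u * α⁻¹ ∈ autInducedBy S P → u = 1) →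
          ∀ (c : P), (c : Ω) ∈ centerOf S → ∀ zP : P, (zP : Ω) = z →
            ∃ k : ℕ, ((α⁻¹ (c * (zP ^ k)⁻¹) : P) : Ω) ∈ centerOf S := by
  have hPS := hP.ess.1.1
  haveI := finite_of_le (S := S) hPS
  obtain ⟨α, hα, hgood⟩ := ab_exists_good hd hS hF hP
  -- a nontrivial element
  obtain ⟨z, hz, hz1⟩ : ∃ z ∈ commCenter S, z ≠ 1 := by
    obtain ⟨g, hgN, hgP⟩ := SetLike.exists_of_lt (lt_normalizerIn hS (essential_lt hS hF hP.ess))
    obtain ⟨u, hu, hue⟩ := exists_conjAut (K := S) (P := P) hgN.1 hgN.2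
    obtain ⟨-, w, hw, hux⟩ := ab_act hd hS hP hu
    refine ⟨w, hw, fun h => hgP ?_⟩
    have hu1 := ab_eq_one_of_fix hd hS hP hu (Subtype.ext (by rw [hux, h, mul_one]))
    refine mem_of_centralizes hP.ess.1 hgN.1 fun q hq => ?_
    have := hue ⟨q, hq⟩
    rw [hu1] at this
    rw [show g * q = g * q * g⁻¹ * g by group, ← this]; rfl
  have hsplit : ∀ (β : MulAut P), β ∈ F.autGroup P →
      (∀ u ∈ autInducedBy S P, β * u * β⁻¹ ∈ autInducedBy S P → u = 1) →
      ∀ (w : P), (w : Ω) ∈ commCenter S → w ≠ 1 → ∀ c : P, (c : Ω) ∈ centerOf S →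
        ∃ k : ℕ, ((β⁻¹ (c * (w ^ k)⁻¹) : P) : Ω) ∈ centerOf S := by
    intro β hβ hβg w hw hw1 c hc
    have hnot : ((β⁻¹ w : P) : Ω) ∉ A := fun hA => hw1 (Subtype.ext
      (ab_not_center hd hS hF hP hβ hβg hw (hP.inf_le _ (β⁻¹ w).2 hA)))
    obtain ⟨k, a, ha, he⟩ := idx_gen hd hS (hPS (β⁻¹ w).2) hnot (hPS (β⁻¹ c).2)
    refine ⟨k, hP.inf_le _ (β⁻¹ (c * (w ^ k)⁻¹)).2 ?_⟩
    rw [map_mul, map_inv, map_pow, Subgroup.coe_mul, Subgroup.coe_inv, SubmonoidClass.coe_pow, he, mul_inv_cancel_right]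
    exact ha
  set zP : P := ⟨z, hP.center_le hz.1⟩
  have hzP : zP ≠ 1 := fun h => hz1 (congrArg Subtype.val h)
  have hW : commCenter S = Subgroup.zpowers z := by
    refine le_antisymm (fun w hw => ?_) (Subgroup.zpowers_le.2 hz)
    obtain ⟨k, hk⟩ := hsplit α hα hgood zP hz hzP ⟨w, hP.center_le hw.1⟩ hw.1
    have hmem : w * (z ^ k)⁻¹ ∈ commCenter S :=
      (commCenter S).mul_mem hw ((commCenter S).inv_mem ((commCenter S).pow_mem hz k))
    have h1 := ab_not_center hd hS hF hP hα hgood hmem (by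
      convert hk using 4
      simp [zP])
    rw [mul_inv_eq_one] at h1
    rw [h1]
    exact Subgroup.pow_mem _ (Subgroup.mem_zpowers z) k
  refine ⟨z, ?_, hW, fun β hβ hβg c hc zP' hzP' => ?_⟩
  · obtain ⟨u, hu, hux⟩ := ab_exists_act hd hS hP hz
    have hxS := hPS hP.x_mem
    have h2 := congrArg Subtype.val ((ab_act hd hS hP hu).1 ((⟨x, hP.x_mem⟩ : P) ^ p)
      (by simpa using idx_pow_center hd hS hxS hP.x_not))
    rw [map_pow, SubmonoidClass.coe_pow, hux, (show Commute x z from centerOf_comm hz.1 hxS).mul_pow,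
      SubmonoidClass.coe_pow, mul_eq_left] at h2
    exact orderOf_eq_prime h2 hz1
  · exact hsplit β hβ hβg zP' (hzP' ▸ hz) (fun h => hz1 (by rw [← hzP', h]; rfl)) c hc

end Cfsg.Agent.FusionSys
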