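import Cfsg.Agent.Lib.Fusion.IndexAbelianEssential
import Cfsg.Agent.Lib.Fusion.Normal

/-!
# The automorphism of the centre inverting its commutator part
-/

set_option autoImplicit false

namespace Cfsg.Agent.FusionSys

open Cfsg Cfsg.FusionSystem
open scoped commutatorElement

variable {Ω : Type*} [Group Ω] {S A : Subgroup Ω} [Finite S] {p : ℕ} [hp : Fact p.Prime] {F : FusionSystem S}

omit hp in
theorem center_normalizer : S ≤ Subgroup.normalizer (centerOf S : Set Ω) := fun g hg => by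
  haveI := finite_centerOf (S := S)
  exact mem_normalizer_of_conj_mem_finite fun z hz => by rw [centerOf_comm hz hg, mul_inv_cancel_right]; exact hz

variable (hS : IsPGroup p S) (hF : F.IsSaturated p)
include hS hF

theorem center_autGroup_eq_one {δ : MulAut (centerOf S)} (hδ : δ ∈ F.autGroup (centerOf S)) (h : δ ^ p = 1) :
    δ = 1 := by
  haveI := finite_centerOf (S := S)
  have hsyl := isSyl_of_fullyAutomized (fullyNormalized_imp hS hF
    (fullyNormalized_of_normal (F := F) (centerOf_le S) center_normalizer)).2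
  have hbot : autInducedBy S (centerOf S) = ⊥ := by
    rw [eq_bot_iff]
    intro a ha
    obtain ⟨g, hg, hge⟩ := (mem_autInducedBy_iff a).1 ha
    refine Subgroup.mem_bot.2 (MulEquiv.ext fun z => Subtype.ext ((hge z).trans ?_))
    rw [centerOf_comm z.2 hg, mul_inv_cancel_right]; rfl
  have hc := hsyl.card_le (X := Subgroup.zpowers δ) (fun v => ⟨1, by
    obtain ⟨i, hi⟩ := v.2
    refine Subtype.ext ?_
    rw [pow_one, SubmonoidClass.coe_pow, ← show δ ^ i = (v : MulAut (centerOf S)) from hi, ← zpow_natCast,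
      ← zpow_mul, mul_comm, zpow_mul, zpow_natCast, h, one_zpow]
    rfl⟩) (Subgroup.zpowers_le.2 hδ)
  rw [hbot, Subgroup.card_bot, Nat.card_zpowers] at hc
  exact orderOf_eq_one_iff.1 (le_antisymm hc (orderOf_pos δ))

/-- Automorphisms of the centre extend to `S`, so preserve its part in the derived subgroup. -/
theorem center_apply_commCenter {δ : MulAut (centerOf S)} (hδ : δ ∈ F.autGroup (centerOf S)) {w : centerOf S}
    (hw : (w : Ω) ∈ commCenter S) : ((δ w : centerOf S) : Ω) ∈ commCenter S := by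
  haveI := finite_centerOf (S := S)
  refine ⟨(δ w).2, ?_⟩
  obtain ⟨ψ, hψ, hψe⟩ := (fullyNormalized_receptive hS hF
    (fullyNormalized_of_normal (F := F) (centerOf_le S) center_normalizer)).2 (centerOf S) (equivHom δ)
      ((equivHom_autGroup F (centerOf_le S)).1 hδ) (equivHom_range δ)
  have hle : S ≤ extender S (centerOf S) (equivHom δ) := fun g hg =>
    centralizerIn_le_extender _ ⟨hg, Subgroup.mem_centralizer_iff.2 fun z hz => (centerOf_comm hz hg).symm⟩
  set ψ' : S →* Ω := ψ.comp (Subgroup.inclusion hle)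
  have hr : ψ'.range ≤ S := by
    rintro _ ⟨s, rfl⟩; exact hom_apply_mem F hψ _
  have hmem : (⟨(w : Ω), w.2.1⟩ : S) ∈ commutator S := by
    have h := hw.2
    rw [← Subgroup.map_subtype_commutator] at h
    obtain ⟨v, hv, hve⟩ := h
    rwa [show (⟨(w : Ω), w.2.1⟩ : S) = v from Subtype.ext hve.symm]
  have h2 : ψ' ⟨(w : Ω), w.2.1⟩ ∈ (commutator S).map ψ' := ⟨_, hmem, rfl⟩
  rw [commutator_def, Subgroup.map_commutator, ← MonoidHom.range_eq_map] at h2
  have h3 := Subgroup.commutator_mono hr hr h2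
  rw [show ((δ w : centerOf S) : Ω) = ψ' ⟨(w : Ω), w.2.1⟩ from (hψe (w : Ω) w.2 (hle w.2.1)).symm]
  exact h3

omit hS hF in
/-- `γ` inverts `z` and moves elements only along `⟨z⟩`. -/
def IsCenterInv (γ : MulAut (centerOf S)) (z : centerOf S) : Prop :=
  γ z = z⁻¹ ∧ ∀ r, r⁻¹ * γ r ∈ Subgroup.zpowers z

theorem centerInv_unique {γ γ' : MulAut (centerOf S)} (hγ : γ ∈ F.autGroup (centerOf S))
    (hγ' : γ' ∈ F.autGroup (centerOf S)) {z : centerOf S} (hz : z ^ p = 1) (h : IsCenterInv γ z)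
    (h' : IsCenterInv γ' z) : γ = γ' := by
  haveI := finite_centerOf (S := S)
  letI : CommGroup (centerOf S) := { (inferInstance : Group (centerOf S)) with
    mul_comm := fun a b => Subtype.ext (centerOf_comm b.2 a.2.1) }
  have hfix : (γ'⁻¹ * γ) z = z := by
    rw [MulAut.mul_apply, h.1, map_inv]
    rw [show γ'⁻¹ z = z⁻¹ from (MulEquiv.symm_apply_eq γ').2 (by rw [map_inv, h'.1, inv_inv]), inv_inv]
  have hd : (γ'⁻¹ * γ) ^ p = 1 := by
    refine MulEquiv.ext fun r => ?_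
    obtain ⟨k, hk⟩ := h.2 r
    obtain ⟨l, hl⟩ := h'.2 r
    have e1 : γ r = r * z ^ k := by rw [show z ^ k = r⁻¹ * γ r from hk, mul_inv_cancel_left]
    have e2 : γ' r = r * z ^ l := by rw [show z ^ l = r⁻¹ * γ' r from hl, mul_inv_cancel_left]
    have e3 : (γ'⁻¹ * γ) r = r * z ^ (l - k) := by
      refine (MulEquiv.symm_apply_eq γ').2 ?_
      show γ r = γ' (r * z ^ (l - k))
      rw [e1, map_mul, e2, map_zpow, h'.1, inv_zpow, ← zpow_neg, mul_assoc, ← zpow_add]
      ring_nf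
    rw [transvection_pow _ hfix e3 p, mul_comm (l - k), zpow_mul, zpow_natCast, hz, one_zpow, mul_one]
    rfl
  exact (inv_mul_eq_one.1 (center_autGroup_eq_one hS hF (Subgroup.mul_mem _ (Subgroup.inv_mem _ hγ') hγ) hd)).symm

/-- Conjugating by an automorphism of the centre does not change it. -/
theorem centerInv_conj {γ δ : MulAut (centerOf S)} (hγ : γ ∈ F.autGroup (centerOf S))
    (hδ : δ ∈ F.autGroup (centerOf S)) {z : centerOf S} (hzp : z ^ p = 1)
    (hW : commCenter S = Subgroup.zpowers (z : Ω)) (h : IsCenterInv γ z) : δ * γ * δ⁻¹ = γ := by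
  have hmem : ∀ δ' ∈ F.autGroup (centerOf S), δ' z ∈ Subgroup.zpowers z := fun δ' hδ' => by
    have := center_apply_commCenter hS hF hδ' (w := z) (hW ▸ Subgroup.mem_zpowers _)
    rw [hW] at this
    obtain ⟨k, hk⟩ := this
    exact ⟨k, Subtype.ext (by simpa using hk)⟩
  refine centerInv_unique hS hF (Subgroup.mul_mem _ (Subgroup.mul_mem _ hδ hγ) (Subgroup.inv_mem _ hδ)) hγ hzp
    ⟨?_, fun r => ?_⟩ h
  · obtain ⟨k, hk⟩ := hmem δ⁻¹ (Subgroup.inv_mem _ hδ)
    rw [MulAut.mul_apply, MulAut.mul_apply, ← show z ^ k = δ⁻¹ z from hk, map_zpow, h.1, inv_zpow, map_inv,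
      show z ^ k = δ⁻¹ z from hk, show δ (δ⁻¹ z) = z from δ.apply_symm_apply z]
  · obtain ⟨k, hk⟩ := h.2 (δ⁻¹ r)
    have hk' := congrArg δ (show z ^ k = (δ⁻¹ r)⁻¹ * γ (δ⁻¹ r) from hk)
    rw [map_zpow, map_mul, map_inv, show δ (δ⁻¹ r) = r from δ.apply_symm_apply r] at hk'
    rw [MulAut.mul_apply, MulAut.mul_apply, ← hk']
    exact Subgroup.zpow_mem _ (hmem δ hδ) k

/-- An automorphism of a subgroup containing and preserving the centre preserves the fixed points. -/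
theorem centerInv_preserve {γ : MulAut (centerOf S)} (hγ : γ ∈ F.autGroup (centerOf S)) {z : centerOf S}
    (hzp : z ^ p = 1) (hW : commCenter S = Subgroup.zpowers (z : Ω)) (h : IsCenterInv γ z) {P : Subgroup Ω}
    (hPS : P ≤ S) (hZP : centerOf S ≤ P) {β : MulAut P} (hβ : β ∈ F.autGroup P)
    (hβZ : ∀ c : P, (c : Ω) ∈ centerOf S → ((β c : P) : Ω) ∈ centerOf S) (c : centerOf S) (hc : γ c = c) :
    ∃ c' : centerOf S, γ c' = c' ∧ (c' : Ω) = ((β ⟨c, hZP c.2⟩ : P) : Ω) := by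
  haveI := finite_centerOf (S := S)
  obtain ⟨φ, hφ, -, hφe⟩ := autGroup_apply_mem_hom F hPS hβ
  have hmap : ((centerOf S).subgroupOf P).map φ = centerOf S := by
    refine Subgroup.eq_of_le_of_card_ge ?_ ?_
    · rintro _ ⟨a, ha, rfl⟩
      rw [hφe]; exact hβZ a ha
    · rw [Nat.card_congr (Subgroup.equivMapOfInjective _ φ (F.injective_of_mem hφ)).toEquiv.symm,
        Nat.card_congr (Subgroup.subgroupOfEquivOfLe hZP).toEquiv]
  obtain ⟨δ, hδ, hδe⟩ := exists_restrict_aut F hZP hφ hmap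
  refine ⟨δ c, ?_, (hδe c).trans (hφe _)⟩
  have := DFunLike.congr_fun (centerInv_conj hS hF hγ hδ hzp hW h) (δ c)
  rw [MulAut.mul_apply, MulAut.mul_apply, show δ⁻¹ (δ c) = c from δ.symm_apply_apply c, hc] at this
  exact this.symm

variable (hd : IndexAbelian S A p) {P : Subgroup Ω} {x : Ω}
include hd

/-- The torus of an abelian essential subgroup restricted to the centre. -/
theorem ab_torus (hp2 : p ≠ 2) (hP : AbEssential F A p P x) {z : centerOf S} (hzo : orderOf (z : Ω) = p)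
    (hW : commCenter S = Subgroup.zpowers (z : Ω)) {α : MulAut P} (hα : α ∈ F.autGroup P)
    (hgood : ∀ u ∈ autInducedBy S P, α * u * α⁻¹ ∈ autInducedBy S P → u = 1) :
    ∃ γ ∈ F.autGroup (centerOf S), IsCenterInv γ z ∧
      (∀ r, ∃ (c : centerOf S) (k : ℕ), γ c = c ∧ r = c * z ^ k) ∧
      ∀ c : centerOf S, γ c = c ↔ ((α⁻¹ ⟨c, hP.center_le c.2⟩ : P) : Ω) ∈ centerOf S := by
  have hPS := hP.ess.1.1
  haveI := finite_of_le (S := S) hPS
  haveI := finite_centerOf (S := S)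
  letI : CommGroup P := { (inferInstance : Group P) with
    mul_comm := fun a b => Subtype.ext (ab_comm hd hS hP a.2 b.2) }
  have hzW : (z : Ω) ∈ commCenter S := hW ▸ Subgroup.mem_zpowers _
  obtain ⟨t, ht, htx⟩ := ab_exists_act hd hS hP hzW
  set zP : P := ⟨z, hP.center_le z.2⟩ with hzPdef
  have hzp : zP ^ p = 1 := Subtype.ext (by simpa [hzPdef, hzo] using pow_orderOf_eq_one (z : Ω))
  have ht1 : t ≠ 1 := fun h => by
    rw [h] at htx
    exact hp.out.ne_one (hzo.symm.trans (orderOf_eq_one_iff.2 ((left_eq_mul (a := x)).1 htx)))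
  have hgood' : ∀ u ∈ autInducedBy S P, α⁻¹ * u * α⁻¹⁻¹ ∈ autInducedBy S P → u = 1 := fun u hu hcu => by
    have := hgood _ hcu (by rw [show α * (α⁻¹ * u * α⁻¹⁻¹) * α⁻¹ = u by group]; exact hu)
    exact conj_eq_one_iff.1 this
  have hzne : (z : Ω) ≠ 1 := fun h => hp.out.ne_one (by rw [← hzo, h, orderOf_one])
  have hd1 : ∀ r, r⁻¹ * t r ∈ Subgroup.zpowers zP := fun r => by
    obtain ⟨i, c, -, -, hy⟩ := ab_act_pow hd hS hP ht z.2 htx r
    refine ⟨i, Subtype.ext ?_⟩
    show ((zP ^ (i : ℤ) : P) : Ω) = (r : Ω)⁻¹ * ((t r : P) : Ω)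
    rw [hy, inv_mul_cancel_left]; simp [hzPdef]
  set y : P := α zP with hydef
  obtain ⟨h, hh, hhz, hht, -⟩ := exists_torus (A := P) (p := p) t (α * t * α⁻¹) (z := zP) (y := y) hzp
    (by rw [hydef, ← map_pow, hzp, map_one]) ((ab_act hd hS hP ht).1 zP z.2)
    (by rw [hydef, MulAut.mul_apply, MulAut.mul_apply, show α⁻¹ (α zP) = zP from α.symm_apply_apply _,
      (ab_act hd hS hP ht).1 zP z.2])
    hd1 (fun r => by
      obtain ⟨k, hk⟩ := hd1 (α⁻¹ r)
      refine ⟨k, ?_⟩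
      show y ^ k = r⁻¹ * (α * t * α⁻¹) r
      rw [hydef, ← map_zpow, show zP ^ k = (α⁻¹ r)⁻¹ * t (α⁻¹ r) from hk, map_mul, map_inv,
        show α (α⁻¹ r) = r from α.apply_symm_apply r]
      rfl)
    (fun he => hzne (ab_not_center hd hS hF hP (Subgroup.inv_mem _ hα) hgood' hzW (by
      rw [inv_inv]; exact ab_fix_center hd hS hP ht ht1 he)))
    (fun he => hzne (ab_not_center hd hS hF hP hα hgood hzW (ab_fix_center hd hS hP ht ht1 (by
      refine α.injective (he.trans ?_)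
      exact (α.apply_symm_apply zP).symm))))
  have htG : t ∈ F.autGroup P := autInducedBy_le_autGroup F hPS ht
  have hhG : h ∈ F.autGroup P := (Subgroup.closure_le _).2 (by
    rintro a (rfl | rfl)
    · exact htG
    · exact Subgroup.mul_mem _ (Subgroup.mul_mem _ hα htG) (Subgroup.inv_mem _ hα)) hh
  have hfixC : ∀ c : P, (c : Ω) ∈ centerOf S → ((α⁻¹ c : P) : Ω) ∈ centerOf S → h c = c := fun c hc hc' => by
    have hle : Subgroup.closure ({t, α * t * α⁻¹} : Set (MulAut P)) ≤ MulAction.stabilizer (MulAut P) c := by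
      rw [Subgroup.closure_le]
      rintro a (rfl | rfl)
      · exact (ab_act hd hS hP ht).1 c hc
      · show α (t (α⁻¹ c)) = c
        rw [(ab_act hd hS hP ht).1 _ hc']
        exact α.apply_symm_apply c
    exact hle hh
  have hZ : ∀ c : P, (c : Ω) ∈ centerOf S → ((h c : P) : Ω) ∈ centerOf S := fun c hc =>
    ab_fix_center hd hS hP ht ht1 (by
      have := DFunLike.congr_fun hht c
      rw [MulAut.mul_apply, MulAut.mul_apply, (ab_act hd hS hP ht).1 c hc] at this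
      exact this.symm)
  obtain ⟨φ, hφ, -, hφe⟩ := autGroup_apply_mem_hom F hPS hhG
  have hmap : ((centerOf S).subgroupOf P).map φ = centerOf S := by
    refine Subgroup.eq_of_le_of_card_ge ?_ ?_
    · rintro _ ⟨a, ha, rfl⟩
      rw [hφe]; exact hZ a ha
    · rw [Nat.card_congr (Subgroup.equivMapOfInjective _ φ (F.injective_of_mem hφ)).toEquiv.symm,
        Nat.card_congr (Subgroup.subgroupOfEquivOfLe hP.center_le).toEquiv]
  obtain ⟨γ, hγ, hγe⟩ := exists_restrict_aut F hP.center_le hφ hmap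
  have hval : ∀ c : centerOf S, ((γ c : centerOf S) : Ω) = ((h ⟨c, hP.center_le c.2⟩ : P) : Ω) := fun c =>
    (hγe c).trans (hφe _)
  obtain ⟨z', hz'o, hz'W, hsplit⟩ := ab_split hd hS hF hP
  have hfix : ∀ c : centerOf S, ((α⁻¹ ⟨c, hP.center_le c.2⟩ : P) : Ω) ∈ centerOf S → γ c = c := fun c hc =>
    Subtype.ext ((hval c).trans (by rw [hfixC _ c.2 hc]))
  have hγz : γ z = z⁻¹ := Subtype.ext ((hval z).trans (by rw [show (⟨(z : Ω), _⟩ : P) = zP from rfl, hhz]; rfl))
  -- decomposition along the preimage part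
  have hdec : ∀ r : centerOf S, ∃ (c : centerOf S) (k : ℕ),
      ((α⁻¹ ⟨c, hP.center_le c.2⟩ : P) : Ω) ∈ centerOf S ∧ r = c * z ^ k := by
    intro r
    have hz'mem : z' ∈ commCenter S := hz'W ▸ Subgroup.mem_zpowers _
    obtain ⟨k, hk⟩ := hsplit α hα hgood ⟨r, hP.center_le r.2⟩ r.2 ⟨z', hP.center_le hz'mem.1⟩ rfl
    obtain ⟨i, hi⟩ := (orderOf_pos_iff.1 (hzo ▸ hp.out.pos)).mem_powers_iff_mem_zpowers.2
      (hW ▸ hz'mem : z' ∈ Subgroup.zpowers (z : Ω))
    have hi' : (z : Ω) ^ i = z' := hi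
    refine ⟨r * (z ^ (i * k))⁻¹, i * k, ?_, by rw [inv_mul_cancel_right]⟩
    convert hk using 4
    simp [pow_mul, hi']
  refine ⟨γ, hγ, ⟨hγz, fun r => ?_⟩, fun r => ?_, fun c => ⟨fun hc => ?_, hfix c⟩⟩
  · obtain ⟨c, k, hc, rfl⟩ := hdec r
    rw [map_mul, hfix c hc, map_pow, hγz, mul_inv_rev, mul_assoc, inv_mul_cancel_left]
    exact Subgroup.mul_mem _ (Subgroup.inv_mem _ (Subgroup.pow_mem _ (Subgroup.mem_zpowers z) k))
      (Subgroup.pow_mem _ (Subgroup.inv_mem _ (Subgroup.mem_zpowers z)) k)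
  · obtain ⟨c, k, hc, he⟩ := hdec r
    exact ⟨c, k, hfix c hc, he⟩
  · obtain ⟨c', k, hc', rfl⟩ := hdec c
    rw [map_mul, hfix c' hc', map_pow, hγz, mul_left_cancel_iff, inv_pow, inv_eq_iff_mul_eq_one, ← pow_add,
      ← orderOf_dvd_iff_pow_eq_one, ← Subgroup.orderOf_coe, hzo, ← two_mul] at hc
    obtain hk | ⟨m, rfl⟩ := (Nat.Prime.dvd_mul hp.out).1 hc
    · exact absurd ((Nat.prime_dvd_prime_iff_eq hp.out Nat.prime_two).1 hk) hp2
    · have hz1 : z ^ p = 1 := Subtype.ext (by simpa [hzo] using pow_orderOf_eq_one (z : Ω))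
      simp only [pow_mul, hz1, one_pow, mul_one]
      exact hc'

/-- The fixed points are preserved by the automorphisms of an abelian essential subgroup. -/
theorem ab_preserve (hp2 : p ≠ 2) (hP : AbEssential F A p P x) {z : centerOf S} (hzo : orderOf (z : Ω) = p)
    (hW : commCenter S = Subgroup.zpowers (z : Ω)) {γ : MulAut (centerOf S)} (hγ : γ ∈ F.autGroup (centerOf S))
    (h : IsCenterInv γ z) {β : MulAut P} (hβ : β ∈ F.autGroup P) (c : centerOf S) (hc : γ c = c) :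
    ∃ c' : centerOf S, γ c' = c' ∧ (c' : Ω) = ((β ⟨c, hP.center_le c.2⟩ : P) : Ω) := by
  have hPS := hP.ess.1.1
  haveI := finite_of_le (S := S) hPS
  have hzp : z ^ p = 1 := Subtype.ext (by simpa [hzo] using pow_orderOf_eq_one (z : Ω))
  by_cases hg : ∀ u ∈ autInducedBy S P, β * u * β⁻¹ ∈ autInducedBy S P → u = 1
  · have hg' : ∀ u ∈ autInducedBy S P, β⁻¹ * u * β⁻¹⁻¹ ∈ autInducedBy S P → u = 1 := fun u hu hcu => by
      have := hg _ hcu (by rw [show β * (β⁻¹ * u * β⁻¹⁻¹) * β⁻¹ = u by group]; exact hu)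
      exact conj_eq_one_iff.1 this
    obtain ⟨γ₁, hγ₁, h₁, -, hiff₁⟩ := ab_torus hS hF hd hp2 hP hzo hW hβ hg
    obtain ⟨γ₂, hγ₂, h₂, -, hiff₂⟩ := ab_torus hS hF hd hp2 hP hzo hW (Subgroup.inv_mem _ hβ) hg'
    obtain rfl := centerInv_unique hS hF hγ₁ hγ hzp h₁ h
    obtain rfl := centerInv_unique hS hF hγ₂ hγ₁ hzp h₂ h₁
    have hm := (hiff₂ c).1 hc
    rw [inv_inv] at hm
    refine ⟨⟨_, hm⟩, (hiff₁ ⟨_, hm⟩).2 ?_, rfl⟩
    rw [show (⟨((β ⟨c, hP.center_le c.2⟩ : P) : Ω), hP.center_le hm⟩ : P) = β ⟨c, hP.center_le c.2⟩ from rfl,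
      show β⁻¹ (β ⟨(c : Ω), hP.center_le c.2⟩) = ⟨c, hP.center_le c.2⟩ from β.symm_apply_apply _]
    exact c.2
  · simp only [not_forall] at hg
    obtain ⟨u, hu, hcu, hu1⟩ := hg
    refine centerInv_preserve hS hF hγ hzp hW h hPS hP.center_le hβ (fun y hy => ?_) c hc
    refine ab_fix_center hd hS hP hcu (fun e => hu1 (conj_eq_one_iff.1 e)) ?_
    show β (u (β⁻¹ (β y))) = β y
    rw [show β⁻¹ (β y) = y from β.symm_apply_apply y, (ab_act hd hS hP hu).1 y hy]

end Cfsg.Agent.FusionSys
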