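import Cfsg.Agent.Lib.Fusion.TransferBasics
import Cfsg.Agent.Lib.Fusion.KNormalizer

/-!
# The subsystem of maps acting on a normal subgroup as elements of `S`
-/

set_option autoImplicit false

namespace Cfsg.Agent.FusionSys

open Cfsg Cfsg.FusionSystem

universe u

variable {Ω : Type u} [Group Ω] {S : Subgroup Ω}

/-- The maps extending to `P Q` with restriction to `Q` conjugation by an element of `S`. -/
def actSystem (F : FusionSystem S) {Q : Subgroup Ω} (hQS : Q ≤ S) (hQN : S ≤ Subgroup.normalizer (Q : Set Ω)) :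
    FusionSystem S where
  Hom P := {φ | φ ∈ F.Hom P ∧ ∃ ψ ∈ F.Hom (P ⊔ Q), (∀ x : P, ψ (Subgroup.inclusion le_sup_left x) = φ x) ∧
    ∃ s ∈ S, ∀ q : Q, ψ (Subgroup.inclusion le_sup_right q) = s * (q : Ω) * s⁻¹}
  le_of_mem h := F.le_of_mem h.1
  injective_of_mem h := F.injective_of_mem h.1
  conj_mem := by
    intro P g hP hg
    exact ⟨F.conj_mem hP hg, _, F.conj_mem (sup_le hP hQS) hg, fun x => rfl, g, hg, fun q => rfl⟩
  comp_mem := by
    rintro P R φ θ ⟨hφ, φ', hφ', e1, s, hs, q1⟩ ⟨hθ, θ', hθ', e2, t, ht, q2⟩ h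
    have hin : ∀ x, φ' x ∈ R ⊔ Q := apply_mem_of_sup φ'
      (fun x => by rw [e1 x]; exact Subgroup.mem_sup_left (h x))
      fun x => by rw [q1 x]; exact Subgroup.mem_sup_right ((Subgroup.mem_normalizer_iff.1 (hQN hs) _).1 x.2)
    refine ⟨F.comp_mem hφ hθ h, θ'.comp (φ'.codRestrict (R ⊔ Q) hin), F.comp_mem hφ' hθ' hin, fun x => ?_,
      t * s, S.mul_mem ht hs, fun x => ?_⟩
    · exact (apply_congr θ' (e1 x) _ (Subgroup.mem_sup_left (h x))).trans (e2 ⟨φ x, h x⟩)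
    · have hm : s * (x : Ω) * s⁻¹ ∈ Q := (Subgroup.mem_normalizer_iff.1 (hQN hs) _).1 x.2
      refine (apply_congr θ' (q1 x) _ (Subgroup.mem_sup_right hm)).trans ((q2 ⟨_, hm⟩).trans ?_)
      show t * (s * (x : Ω) * s⁻¹) * t⁻¹ = t * s * (x : Ω) * (t * s)⁻¹
      group
  inv_mem := by
    rintro P φ ⟨hφ, φ', hφ', e1, s, hs, q1⟩
    obtain ⟨ψ, hψ, hψr, h1, -⟩ := exists_inv F hφ
    obtain ⟨ψ', hψ', -, g1, -⟩ := exists_inv F hφ'
    have hback : ∀ y : Q, s⁻¹ * (y : Ω) * s ∈ Q := fun y => by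
      simpa using (Subgroup.mem_normalizer_iff.1 (hQN (S.inv_mem hs)) _).1 y.2
    have hqy : ∀ y : Q, φ' (Subgroup.inclusion le_sup_right ⟨_, hback y⟩) = y := fun y => by
      rw [q1]
      show s * (s⁻¹ * (y : Ω) * s) * s⁻¹ = y
      group
    have hle : φ.range ⊔ Q ≤ φ'.range := by
      refine sup_le ?_ fun y hy => ⟨_, hqy ⟨y, hy⟩⟩
      rintro _ ⟨x, rfl⟩; exact ⟨_, e1 x⟩
    refine ⟨ψ, ⟨hψ, ψ'.comp (Subgroup.inclusion hle), restrict_mem F hψ' hle, ?_, s⁻¹, S.inv_mem hs, ?_⟩,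
      fun x => h1 x _⟩
    · rintro ⟨_, x, rfl⟩
      exact ((apply_congr ψ' (e1 x).symm _ ⟨_, rfl⟩).trans (g1 _ ⟨_, rfl⟩)).trans (h1 x ⟨x, rfl⟩).symm
    · intro y
      refine ((apply_congr ψ' (hqy y).symm _ ⟨_, rfl⟩).trans (g1 _ ⟨_, rfl⟩)).trans ?_
      show s⁻¹ * (y : Ω) * s = s⁻¹ * (y : Ω) * s⁻¹⁻¹
      rw [inv_inv]

variable [Finite S] {p : ℕ} [hp : Fact p.Prime]

theorem actSystem_saturated (hS : IsPGroup p S) {F : FusionSystem S} (hF : F.IsSaturated p) {Q : Subgroup Ω}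
    (hQ : F.IsNormal Q) : (actSystem F hQ.1 (isNormal_le_normalizer hQ)).IsSaturated p := by
  have hQN := isNormal_le_normalizer hQ
  have hQS := hQ.1
  haveI := finite_of_le (S := S) hQS
  have hK : ∀ s ∈ S, ∃ a ∈ autInducedBy S Q, ∀ q : Q, ((a q : Q) : Ω) = s * (q : Ω) * s⁻¹ := fun s hs =>
    ⟨Q.normalizerMonoidHom ⟨s, hQN hs⟩, (mem_autInducedBy_iff _).2 ⟨s, hs, fun _ => rfl⟩, fun _ => rfl⟩
  have hT : S = kNorm S Q (autInducedBy S Q) := le_antisymm (fun g hg => ⟨hg, hK g hg⟩) fun g hg => hg.1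
  refine kSystem_saturated hS hF ⟨hQS, ?_⟩ hT _ fun P => ?_
  · intro Q' θ hθ
    have hθS := hom_le F hθ
    haveI := finite_of_le (S := S) hθS
    obtain rfl : Q = Q' := by
      obtain ⟨σ, hσ, hσr, -, -⟩ := exists_inv F hθ
      rw [← hσr]
      refine (Subgroup.eq_of_le_of_card_ge ?_ ?_).symm
      · rintro _ ⟨x, rfl⟩
        exact (isNormal_stronglyClosed hQ).2 _ (equivHom_range θ).le _ hσ x
      · rw [hσr]; exact (Nat.card_congr θ.toEquiv).ge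
    have hQn := fullyNormalized_of_normal (F := F) hQS hQN
    obtain ⟨c, hc, hce⟩ := (fullyNormalized_receptive hS hF hQn).2 Q _ hθ (equivHom_range θ)
    refine ⟨_, c, le_extender F hθ, hc, ?_, 1, Subgroup.one_mem _, fun x => hce x x.2 _⟩
    rintro g hgN ⟨hgS, a, ha, hag⟩
    obtain ⟨t, ht, hte⟩ := (mem_autInducedBy_iff a).1 ha
    refine Subgroup.subset_closure ⟨hgS, hgN, t, ht, fun x hx => ?_⟩
    have h := congrArg Subtype.val (hag x hx)
    rw [hte] at h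
    exact h.symm
  · ext φ
    constructor
    · rintro ⟨hφ, ψ, hψ, h1, s, hs, h2⟩
      obtain ⟨a, ha, hae⟩ := hK s hs
      exact ⟨hφ, (hom_le F hφ).trans hT.le, fun x => hT.le (hom_apply_mem F hφ x), ψ, hψ, h1, a, ha,
        fun q => (h2 q).trans (hae q).symm⟩
    · rintro ⟨hφ, -, -, ψ, hψ, h1, a, ha, h2⟩
      obtain ⟨s, hs, hse⟩ := (mem_autInducedBy_iff a).1 ha
      exact ⟨hφ, ψ, hψ, h1, s, hs, fun q => (h2 q).trans (hse q)⟩

end Cfsg.Agent.FusionSys
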