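import Cfsg.Agent.Lib.Fusion.InnerEngines
import Cfsg.Agent.S0659

/-!
# Thompson and Glauberman–Thompson criteria for inner fusion systems
-/

set_option autoImplicit false
set_option linter.style.haveILetI false

namespace Cfsg.Agent.FusionSys

open Cfsg Cfsg.FusionSystem

universe u

variable {Ω : Type u} [Group Ω] {S : Subgroup Ω} [Finite S] {p : ℕ} [hp : Fact p.Prime] {F : FusionSystem S}

/-- A group with `C(O_p) ≤ O_p` and a normal `p`-complement is a `p`-group. -/
theorem isPGroup_of_constrained_npc {L : Type u} [Group L] [Finite L]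
    (hc : Subgroup.centralizer ((pCore p L : Subgroup L) : Set L) ≤ pCore p L) (h : HasNormalPComplement p L) :
    IsPGroup p L := by
  obtain ⟨T, K, hKn, hKc⟩ := h
  haveI hcn := Cfsg.Agent.FiniteGroup.pCore_normal (G := L) p
  have hcp := Cfsg.Agent.FiniteGroup.pCore_isPGroup (G := L) p
  have hKco : (Nat.card K).Coprime p := by
    refine ((Nat.Prime.coprime_iff_not_dvd hp.out).2 ?_).symm
    rw [← hKc.index_eq_card]
    exact T.not_dvd_index
  have hK : ∀ k ∈ K, k = 1 := by
    intro k hk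
    have hko : (orderOf k).Coprime p := Nat.Coprime.coprime_dvd_left (Subgroup.orderOf_dvd_natCard _ hk) hKco
    have hkc : k ∈ pCore p L := hc (Subgroup.mem_centralizer_iff.2 fun q hq =>
      (Subgroup.commute_of_normal_of_disjoint K _ hKn hcn (by
        rw [disjoint_iff, eq_bot_iff]
        intro x hx
        obtain ⟨j, hj⟩ := hcp ⟨x, hx.2⟩
        exact Subgroup.mem_bot.2 (orderOf_eq_one_iff.1 (Nat.eq_one_of_dvd_coprimes
          (hKco.pow_right j) (Subgroup.orderOf_dvd_natCard _ hx.1)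
          (orderOf_dvd_of_pow_eq_one (congrArg Subtype.val hj))))) k q hk hq).eq.symm)
    obtain ⟨j, hj⟩ := hcp ⟨k, hkc⟩
    exact orderOf_eq_one_iff.1 (Nat.eq_one_of_dvd_coprimes (hko.pow_right j) dvd_rfl
      (orderOf_dvd_of_pow_eq_one (congrArg Subtype.val hj)))
  intro g
  obtain ⟨⟨k, t⟩, rfl⟩ := hKc.2 g
  obtain ⟨j, hj⟩ := T.isPGroup' t
  refine ⟨j, ?_⟩
  show ((k : L) * (t : L)) ^ p ^ j = 1
  rw [hK _ k.2, one_mul]
  exact congrArg Subtype.val hj

theorem thompsonAOf_range (hS : IsPGroup p S) {T : Subgroup Ω} (hT : T ≤ S) {L : Type u} [Group L] (ι : T →* L)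
    (hι : Function.Injective ι) :
    thompsonSubgroupAOf ι.range = ((thompsonSubgroupAOf T).subgroupOf T).map ι :=
  inducedFunctor_map hS (isCharPFunctor_thompsonA p) hT ι hι

theorem centerThompsonAOf_range (hS : IsPGroup p S) {T : Subgroup Ω} (hT : T ≤ S) {L : Type u} [Group L]
    (ι : T →* L) (hι : Function.Injective ι) :
    centerThompsonAOf ι.range = ((centerThompsonAOf T).subgroupOf T).map ι := by
  have hJ : thompsonSubgroupAOf T ≤ T := Subgroup.map_subtype_le _
  rw [centerThompsonAOf, centerThompsonAOf, thompsonAOf_range hS hT ι hι,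
    ← Cfsg.Agent.ZJ.inf_centralizer_map ι hι.injOn]
  congr 1
  ext x
  simp only [Subgroup.mem_inf, Subgroup.mem_subgroupOf, Subgroup.mem_centralizer_iff]
  refine and_congr_right fun _ => ⟨fun h y hy => congrArg Subtype.val (h ⟨y, hJ hy⟩ hy), fun h y hy => ?_⟩
  exact Subtype.ext (h y hy)

theorem centerThompsonAOf_le (T : Subgroup Ω) : centerThompsonAOf T ≤ T :=
  inf_le_left.trans (Subgroup.map_subtype_le _)

theorem le_normalizerIn_centerThompsonAOf (hS : IsPGroup p S) : S ≤ normalizerIn S (centerThompsonAOf S) := by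
  have key : ∀ g ∈ S, ∀ x ∈ centerThompsonAOf S, g * x * g⁻¹ ∈ centerThompsonAOf S := by
    intro g hg x hx
    have hgN : g ∈ Subgroup.normalizer (S : Set Ω) := Subgroup.le_normalizer hg
    refine ⟨inducedFunctor_conj_mem hS (isCharPFunctor_thompsonA p) le_rfl hgN hx.1,
      Subgroup.mem_centralizer_iff.2 fun y hy => ?_⟩
    have hy' : g⁻¹ * y * g⁻¹⁻¹ ∈ thompsonSubgroupAOf S :=
      inducedFunctor_conj_mem hS (isCharPFunctor_thompsonA p) le_rfl (Subgroup.inv_mem _ hgN) hy
    rw [inv_inv] at hy'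
    calc y * (g * x * g⁻¹) = g * (g⁻¹ * y * g * x) * g⁻¹ := by group
      _ = g * (x * (g⁻¹ * y * g)) * g⁻¹ := by rw [Subgroup.mem_centralizer_iff.1 hx.2 _ hy']
      _ = g * x * g⁻¹ * y := by group
  exact fun g hg => ⟨hg, mem_normalizer_of_conj_mem g (fun x hx => key g hg x hx) fun x hx => by
    simpa using key g⁻¹ (S.inv_mem hg) x hx⟩

/-- Restriction of innerness to a normalizer system. -/
theorem normalizerSystem_inner {Y : Subgroup Ω} (h : ∀ P : Subgroup Ω, F.Hom P = (innerFusionSystem S).Hom P)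
    (hY : S ≤ normalizerIn S Y) {N : FusionSystem (normalizerIn S Y)} (hN : F.IsNormalizerSystem Y N)
    (P : Subgroup Ω) : N.Hom P = (innerFusionSystem (normalizerIn S Y)).Hom P := by
  ext φ
  constructor
  · intro hφ
    rw [hN] at hφ
    obtain ⟨hφF, hP, -, -⟩ := hφ
    rw [h] at hφF
    obtain ⟨-, s, hs, hse⟩ := hφF
    exact ⟨hP, s, hY hs, hse⟩
  · rintro ⟨hP, s, hs, hse⟩
    exact hom_congr N (N.conj_mem hP hs) hse

end Cfsg.Agent.FusionSys
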