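import Cfsg.Agent.Lib.Fusion.CharLocal
import Cfsg.Agent.Lib.Fusion.ModelFacts

/-!
# Local models with trivial automizers are `p`-groups
-/

set_option autoImplicit false
set_option linter.style.haveILetI false

namespace Cfsg.Agent.FusionSys

open Cfsg Cfsg.FusionSystem

universe u

variable {Ω : Type u} [Group Ω] {S : Subgroup Ω} [Finite S] {p : ℕ} [hp : Fact p.Prime] {F : FusionSystem S}
  {U : Subgroup Ω} {L : Type u} [Group L] {W : ∀ (Q : Type u) [Group Q], Subgroup Q}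

theorem map_subgroupOf_subtype {T : Subgroup Ω} (A : Subgroup T) : (A.map T.subtype).subgroupOf T = A :=
  Subgroup.comap_map_eq_self_of_injective T.subtype_injective _

theorem char_conj_mem {T : Subgroup Ω} {A : Subgroup T} (hA : A.Characteristic) {g : Ω}
    (hg : g ∈ Subgroup.normalizer (T : Set Ω)) {x : Ω} (hx : x ∈ A.map T.subtype) :
    g * x * g⁻¹ ∈ A.map T.subtype := by
  obtain ⟨a, -, ha⟩ := exists_conjAut (K := (⊤ : Subgroup Ω)) (P := T) (Subgroup.mem_top g) hg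
  obtain ⟨y, hy, rfl⟩ := hx
  exact ⟨a y, (Subgroup.characteristic_iff_map_eq.1 hA a).le ⟨y, hy, rfl⟩, ha y⟩

theorem normalizerIn_le_char {T : Subgroup Ω} {A : Subgroup T} (hA : A.Characteristic) :
    normalizerIn S T ≤ normalizerIn S (A.map T.subtype) := fun g hg =>
  ⟨hg.1, mem_normalizer_of_conj_mem g (fun _ hx => char_conj_mem hA hg.2 hx) fun x hx => by
    simpa using char_conj_mem hA (Subgroup.inv_mem _ hg.2) hx⟩

theorem card_lt_normalizerIn_char (hS : IsPGroup p S) {T : Subgroup Ω} (hT : T < S) {A : Subgroup T}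
    (hA : A.Characteristic) : Nat.card T < Nat.card (normalizerIn S (A.map T.subtype)) := by
  haveI : Finite (normalizerIn S (A.map T.subtype)) := finite_of_le (normalizerIn_le _ _)
  haveI : Finite (normalizerIn S T) := finite_of_le (normalizerIn_le _ _)
  refine lt_of_lt_of_le ?_ (Subgroup.card_le_of_le (normalizerIn_le_char hA))
  have h := lt_normalizerIn hS hT
  exact lt_of_le_of_ne (Subgroup.card_le_of_le h.le) fun e => h.ne (Subgroup.eq_of_le_of_card_ge h.le e.ge)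

theorem LocalModel.finite_dom (_M : LocalModel F p U L) : Finite (normalizerIn S U) :=
  finite_of_le (normalizerIn_le S U)

/-- Coprime elements act trivially on subgroups with a `p`-group of automorphisms. -/
theorem LocalModel.mem_centralizer_of_autGroup (M : LocalModel F p U L) {Y : Subgroup Ω}
    (hY : Y ≤ normalizerIn S U) (hA : IsPGroup p (F.autGroup Y)) {g : L}
    (hg : g ∈ Subgroup.normalizer ((((Y.subgroupOf (normalizerIn S U)).map M.ι) : Subgroup L) : Set L))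
    (hgo : (orderOf g).Coprime p) :
    g ∈ Subgroup.centralizer (((Y.subgroupOf (normalizerIn S U)).map M.ι : Subgroup L) : Set L) := by
  obtain ⟨α, hα, hαe⟩ := M.exists_aut hY hg
  obtain ⟨k, hk⟩ := hA ⟨α, hα⟩
  have hiter : ∀ (i : ℕ) (y : Y), M.ι ⟨((α ^ i) y : Y), hY ((α ^ i) y).2⟩ =
      g ^ i * M.ι ⟨y, hY y.2⟩ * (g ^ i)⁻¹ := by
    intro i
    induction i with
    | zero => intro y; simp
    | succ i ih =>
      intro y
      have h1 := ih (α y)
      rw [hαe] at h1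
      simp only [pow_succ, MulAut.mul_apply]
      rw [h1]; group
  have hfix : g ^ p ^ k ∈ Subgroup.centralizer
      (((Y.subgroupOf (normalizerIn S U)).map M.ι : Subgroup L) : Set L) := by
    refine Subgroup.mem_centralizer_iff.2 ?_
    rintro _ ⟨⟨y, hyT⟩, hy, rfl⟩
    have h1 := hiter (p ^ k) ⟨y, hy⟩
    rw [show M.ι ⟨((α ^ p ^ k) ⟨y, hy⟩ : Y), hY ((α ^ p ^ k) ⟨y, hy⟩).2⟩ = M.ι ⟨y, hyT⟩ from
      congrArg M.ι (Subtype.ext (by rw [show α ^ p ^ k = 1 from congrArg Subtype.val hk]; rfl))] at h1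
    exact (mul_inv_eq_iff_eq_mul.1 h1.symm).symm
  haveI := M.finL
  obtain ⟨e, he⟩ := exists_pow_eq_self_of_coprime (hgo.symm.pow_left k)
  rw [← he]
  exact Subgroup.pow_mem _ hfix e

/-- A local model is a `p`-group if characteristic subgroups of its Sylow subgroup have `p`-group automizers. -/
theorem LocalModel.isPGroup_of_char (hS : IsPGroup p S) (M : LocalModel F p U L)
    (h4 : p ≠ 2 ∨ ¬ Involves (Equiv.Perm (Fin 4)) L)
    (h : ∀ A : Subgroup (normalizerIn S U), A.Characteristic → A ≠ ⊥ →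
      IsPGroup p (F.autGroup (A.map (normalizerIn S U).subtype))) : IsPGroup p L := by
  haveI := M.finL
  haveI := M.finite_dom
  refine Cfsg.Agent.FusionSys.isPGroup_of_char L _ M.ι M.inj M.sylow M.constrained h4 fun A hA hA1 g hg hgo => ?_
  rw [← map_subgroupOf_subtype (T := normalizerIn S U) A] at hg ⊢
  exact M.mem_centralizer_of_autGroup (Subgroup.map_subtype_le _) (h A hA hA1) hg hgo

/-- An element inducing an inner map on `O_p(L)` and `Y` lies in the Sylow subgroup. -/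
theorem LocalModel.mem_range_of_inner (M : LocalModel F p U L) {Y : Subgroup Ω} (hY : Y ≤ normalizerIn S U)
    {g : L} (hgY : ∀ y : Y, g * M.ι ⟨y, hY y.2⟩ * g⁻¹ ∈ M.ι.range)
    (hinner : ∀ (X : Subgroup Ω) (hX : X ≤ normalizerIn S U), Y ≤ X → ∀ φ ∈ F.Hom X,
      ∀ hφ : ∀ x, φ x ∈ normalizerIn S U, (∀ x : X, M.ι ⟨φ x, hφ x⟩ = g * M.ι ⟨x, hX x.2⟩ * g⁻¹) →
        ∃ s ∈ normalizerIn S U, ∀ x : X, φ x = s * (x : Ω) * s⁻¹) :
    g ∈ M.ι.range := by
  haveI := M.finL
  obtain ⟨P, hP⟩ := M.sylow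
  haveI hcn := Cfsg.Agent.FiniteGroup.pCore_normal (G := L) p
  have hcP : pCore p L ≤ M.ι.range := hP ▸ Cfsg.Agent.PBasic.pCore_le_sylow P
  set X := preim M.ι (pCore p L) ⊔ Y with hXdef
  have hX : X ≤ normalizerIn S U := sup_le (preim_le _) hY
  have hmem : ∀ x : X, g * M.ι ⟨x, hX x.2⟩ * g⁻¹ ∈ M.ι.range := by
    have h : X ≤ (M.ι.range.comap ((MulAut.conj g).toMonoidHom.comp M.ι)).map (normalizerIn S U).subtype := by
      refine sup_le ?_ fun y hy => ⟨⟨y, hY hy⟩, hgY ⟨y, hy⟩, rfl⟩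
      rintro _ ⟨x, hx, rfl⟩
      exact ⟨x, hcP (hcn.conj_mem _ hx g), rfl⟩
    intro x
    obtain ⟨y, hy, hye⟩ := h x.2
    rw [show (⟨(x : Ω), hX x.2⟩ : normalizerIn S U) = y from Subtype.ext hye.symm]
    exact hy
  obtain ⟨φ, hφ, hφm, hφe⟩ := M.hom X hX g hmem
  obtain ⟨s, hs, hse⟩ := hinner X hX le_sup_right φ hφ hφm hφe
  have hc : (M.ι ⟨s, hs⟩)⁻¹ * g ∈ Subgroup.centralizer ((pCore p L : Subgroup L) : Set L) := by
    refine Subgroup.mem_centralizer_iff.2 fun c hc => ?_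
    obtain ⟨x, rfl⟩ := hcP hc
    have hxX : (x : Ω) ∈ X := Subgroup.mem_sup_left (mem_preim.2 hc)
    have h1 : g * M.ι x * g⁻¹ = M.ι ⟨s, hs⟩ * M.ι x * (M.ι ⟨s, hs⟩)⁻¹ := by
      rw [← map_inv, ← map_mul, ← map_mul]
      exact (hφe ⟨x, hxX⟩).symm.trans (congrArg M.ι (Subtype.ext (hse ⟨x, hxX⟩)))
    calc M.ι x * ((M.ι ⟨s, hs⟩)⁻¹ * g) = (M.ι ⟨s, hs⟩)⁻¹ * (M.ι ⟨s, hs⟩ * M.ι x * (M.ι ⟨s, hs⟩)⁻¹) * g := by group
      _ = (M.ι ⟨s, hs⟩)⁻¹ * g * M.ι x := by rw [← h1]; group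
  have := Subgroup.mul_mem _ (show M.ι ⟨s, hs⟩ ∈ M.ι.range from ⟨_, rfl⟩) (hcP (M.constrained hc))
  rwa [mul_inv_cancel_left] at this

/-- If `N_F(Y)` is inner and `Y ≤ N_S(U) = S`, the normalizer of `Y` in the model is inside the Sylow subgroup. -/
theorem LocalModel.normalizer_le_of_inner (M : LocalModel F p U L) {Y : Subgroup Ω} (hY : Y ≤ normalizerIn S U)
    (hYn : normalizerIn S U ≤ normalizerIn S Y) (hYS : normalizerIn S Y ≤ normalizerIn S U)
    (hinner : ∀ N : FusionSystem (normalizerIn S Y), F.IsNormalizerSystem Y N →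
      ∀ P : Subgroup Ω, N.Hom P = (innerFusionSystem (normalizerIn S Y)).Hom P) :
    Subgroup.normalizer (((Y.subgroupOf (normalizerIn S U)).map M.ι : Subgroup L) : Set L) ≤ M.ι.range := by
  intro g hg
  have hgY : ∀ y : Y, g * M.ι ⟨y, hY y.2⟩ * g⁻¹ ∈ (Y.subgroupOf (normalizerIn S U)).map M.ι := fun y =>
    (Subgroup.mem_normalizer_iff.1 hg _).1 ⟨⟨y, hY y.2⟩, y.2, rfl⟩
  refine M.mem_range_of_inner hY (fun y => Subgroup.map_le_range _ _ (hgY y)) fun X hX hYX φ hφ hφm hφe => ?_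
  have hN := normSystem_spec F (hY.trans (normalizerIn_le S U))
  have hφN : φ ∈ (normSystem F (hY.trans (normalizerIn_le S U))).Hom X := by
    rw [hN]
    refine ⟨hφ, hX.trans hYn, fun x => hYn (hφm x), φ.comp (Subgroup.inclusion (sup_le le_rfl hYX)),
      restrict_mem F hφ _, fun x => rfl, ?_⟩
    rw [map_subgroupOf_eq_iff _ le_sup_right]
    have hin : ∀ y : Y, φ (Subgroup.inclusion hYX y) ∈ Y := fun y => by
      obtain ⟨w, hw, hwe⟩ := hgY y
      have h1 : M.ι ⟨_, hφm (Subgroup.inclusion hYX y)⟩ = M.ι w := (hφe _).trans hwe.symm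
      rw [show φ (Subgroup.inclusion hYX y) = (w : Ω) from congrArg Subtype.val (M.inj h1)]
      exact hw
    refine ⟨fun y => hin y, fun z hz => ?_⟩
    haveI := finite_of_le (S := S) (hY.trans (normalizerIn_le S U))
    have hsurj : Function.Surjective fun y : Y => (⟨_, hin y⟩ : Y) :=
      Finite.surjective_of_injective fun a b hab =>
        Subgroup.inclusion_injective hYX (F.injective_of_mem hφ (congrArg Subtype.val hab))
    obtain ⟨y, hy⟩ := hsurj ⟨z, hz⟩
    exact ⟨y, congrArg Subtype.val hy⟩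
  rw [hinner _ hN] at hφN
  obtain ⟨-, s, hs, hse⟩ := hφN
  exact ⟨s, hYS hs, hse⟩

/-- If `C_F(Y)` is inner and `Y` is central in `S`, the centralizer of `Y` in the model is inside the Sylow subgroup. -/
theorem LocalModel.centralizer_le_of_inner (hS : IsPGroup p S) (M : LocalModel F p U L) (hU : F.IsFullyNormalized U)
    (hUc : F.IsCentric U)
    (hinner : ∀ C : FusionSystem (centralizerIn S (S ⊓ Subgroup.centralizer (S : Set Ω))),
      F.IsCentralizerSystem (S ⊓ Subgroup.centralizer (S : Set Ω)) C →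
      ∀ P : Subgroup Ω, C.Hom P = (innerFusionSystem (centralizerIn S (S ⊓ Subgroup.centralizer (S : Set Ω)))).Hom P)
    (P : Sylow p L) (hP : (P : Subgroup L) = M.ι.range) :
    IsPGroup p (Subgroup.centralizer (((P : Subgroup L) ⊓ Subgroup.centralizer ((P : Subgroup L) : Set L)
      : Subgroup L) : Set L)) := by
  haveI := M.finL
  refine isPGroup_of_coprime_trivial fun g hgo => ?_
  rw [← Subgroup.orderOf_coe] at hgo
  have hgm : (g : L) ∈ Subgroup.centralizer (((P : Subgroup L) ⊓ Subgroup.centralizer ((P : Subgroup L) : Set L)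
      : Subgroup L) : Set L) := g.2
  have hZU : (S ⊓ Subgroup.centralizer (S : Set Ω)) ≤ normalizerIn S U := fun z hz => le_normalizerIn hU.1
    (centralizerIn_le_of_centric hUc ⟨hz.1, Subgroup.centralizer_le hU.1 hz.2⟩)
  have hTC : normalizerIn S U ≤ centralizerIn S (S ⊓ Subgroup.centralizer (S : Set Ω)) := fun x hx =>
    ⟨normalizerIn_le _ _ hx, Subgroup.mem_centralizer_iff.2 fun z hz =>
      (Subgroup.mem_centralizer_iff.1 (Subgroup.mem_inf.1 hz).2 x (normalizerIn_le _ _ hx)).symm⟩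
  have hgz : ∀ z : (S ⊓ Subgroup.centralizer (S : Set Ω) : Subgroup Ω),
      (g : L) * M.ι ⟨z, hZU z.2⟩ * (g : L)⁻¹ = M.ι ⟨z, hZU z.2⟩ := by
    intro z
    refine mul_inv_eq_iff_eq_mul.2 (Subgroup.mem_centralizer_iff.1 hgm _ ⟨hP ▸ ⟨_, rfl⟩, ?_⟩).symm
    refine Subgroup.mem_centralizer_iff.2 ?_
    rw [hP]
    rintro _ ⟨y, rfl⟩
    rw [← map_mul, ← map_mul]
    exact congrArg M.ι (Subtype.ext (Subgroup.mem_centralizer_iff.1 (Subgroup.mem_inf.1 z.2).2 y
      (normalizerIn_le _ _ y.2)))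
  -- the image in `N_S(U)` of conjugation
  have hr : (g : L) ∈ M.ι.range := by
    have hY : U ⊔ (S ⊓ Subgroup.centralizer (S : Set Ω)) ≤ normalizerIn S U := sup_le (le_normalizerIn hU.1) hZU
    refine M.mem_range_of_inner hY (fun y => ?_) fun X hX hYX φ hφ hφm hφe => ?_
    · have h : U ⊔ (S ⊓ Subgroup.centralizer (S : Set Ω)) ≤
          (M.ι.range.comap ((MulAut.conj (g : L)).toMonoidHom.comp M.ι)).map (normalizerIn S U).subtype := by
        refine sup_le (fun u hu => ⟨⟨u, le_normalizerIn hU.1 hu⟩, Subgroup.map_le_range _ _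
          (M.image_normal.conj_mem _ ⟨⟨u, le_normalizerIn hU.1 hu⟩, hu, rfl⟩ (g : L)), rfl⟩)
          fun z hz => ⟨⟨z, hZU hz⟩, ?_, rfl⟩
        show (g : L) * M.ι ⟨z, hZU hz⟩ * (g : L)⁻¹ ∈ M.ι.range
        rw [hgz ⟨z, hz⟩]; exact ⟨_, rfl⟩
      obtain ⟨w, hw, hwe⟩ := h y.2
      rw [show (⟨(y : Ω), hY y.2⟩ : normalizerIn S U) = w from Subtype.ext hwe.symm]
      exact hw
    have hZX : S ⊓ Subgroup.centralizer (S : Set Ω) ≤ X := le_sup_right.trans hYX
    have hC := centSystem_spec F (inf_le_left : S ⊓ Subgroup.centralizer (S : Set Ω) ≤ S)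
    have hφC : φ ∈ (centSystem F (inf_le_left : S ⊓ Subgroup.centralizer (S : Set Ω) ≤ S)).Hom X := by
      rw [hC]
      refine ⟨hφ, hX.trans hTC, fun x => hTC (hφm x), φ.comp (Subgroup.inclusion (sup_le le_rfl hZX)),
        restrict_mem F hφ _, fun x => rfl, fun z => ?_⟩
      show φ (Subgroup.inclusion hZX z) = (z : Ω)
      exact congrArg Subtype.val (M.inj ((hφe (Subgroup.inclusion hZX z)).trans (hgz z)) :
        (⟨_, hφm _⟩ : normalizerIn S U) = ⟨z, hZU z.2⟩)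
    rw [hinner _ hC] at hφC
    obtain ⟨-, s, hs, hse⟩ := hφC
    refine ⟨s, ⟨hs.1, ?_⟩, hse⟩
    haveI := finite_of_le (S := S) hU.1
    refine mem_normalizer_of_conj_mem_finite fun u hu => ?_
    have huX : u ∈ X := hYX (Subgroup.mem_sup_left hu)
    rw [← hse ⟨u, huX⟩]
    obtain ⟨w, hw, hwe⟩ := M.image_normal.conj_mem _ ⟨⟨u, hX huX⟩, hu, rfl⟩ (g : L)
    rw [show φ ⟨u, huX⟩ = (w : Ω) from congrArg Subtype.val (M.inj ((hφe ⟨u, huX⟩).trans hwe.symm))]
    exact hw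
  obtain ⟨j, hj⟩ := P.isPGroup' ⟨g, hP.ge hr⟩
  exact Subtype.ext (orderOf_eq_one_iff.1 (Nat.eq_one_of_dvd_coprimes (hgo.pow_right j) dvd_rfl
    (orderOf_dvd_of_pow_eq_one (congrArg Subtype.val hj))))

end Cfsg.Agent.FusionSys
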