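import Cfsg.Agent.Lib.Fusion.InvariantFrattini
import Cfsg.Agent.Lib.Fusion.Centric

/-!
# The automorphism class of a map relative to a normal subsystem
-/

set_option autoImplicit false
set_option linter.style.haveILetI false
set_option linter.unusedSectionVars false

namespace Cfsg.Agent.FusionSys.KerClass

open Cfsg Cfsg.FusionSystem Cfsg.Agent.FusionSys

variable {Ω : Type*} [Group Ω] {S T : Subgroup Ω} {F : FusionSystem S} {E : FusionSystem T}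

/-- `φ` is `β` after a map of `E`. -/
def Cls (F : FusionSystem S) (E : FusionSystem T) (P : Subgroup Ω) (φ : P →* Ω) (β : MulAut T) : Prop :=
  β ∈ F.autGroup T ∧ ∃ φ₀, ∃ h : φ₀ ∈ E.Hom P, ∀ x : P, φ x = ((β ⟨φ₀ x, hom_apply_mem E h x⟩ : T) : Ω)

theorem Cls.congr {P : Subgroup Ω} {φ ψ : P →* Ω} {β : MulAut T} (h : Cls F E P φ β) (he : ∀ x, ψ x = φ x) :
    Cls F E P ψ β := by
  obtain ⟨hβ, φ₀, h₀, e⟩ := h
  exact ⟨hβ, φ₀, h₀, fun x => (he x).trans (e x)⟩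

theorem Cls.restrict {P Q : Subgroup Ω} {φ : P →* Ω} {β : MulAut T} (h : Cls F E P φ β) (hQP : Q ≤ P) :
    Cls F E Q (φ.comp (Subgroup.inclusion hQP)) β := by
  obtain ⟨hβ, φ₀, h₀, e⟩ := h
  exact ⟨hβ, _, restrict_mem E h₀ hQP, fun x => e _⟩

theorem cls_of_mem {P : Subgroup Ω} {φ : P →* Ω} (h : φ ∈ E.Hom P) : Cls F E P φ 1 :=
  ⟨Subgroup.one_mem _, φ, h, fun _ => rfl⟩

theorem cls_of_aut {P : Subgroup Ω} {φ : P →* Ω} {β : MulAut T} (hβ : β ∈ F.autGroup T) (hPT : P ≤ T)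
    (he : ∀ x : P, φ x = ((β ⟨(x : Ω), hPT x.2⟩ : T) : Ω)) : Cls F E P φ β :=
  ⟨hβ, P.subtype, subtype_mem E hPT, fun x => he x⟩

theorem Cls.comp (hAI : AutInvariant F E) {P R : Subgroup Ω} {φ : P →* Ω} {φ' : R →* Ω} {β β' : MulAut T}
    (h : Cls F E P φ β) (h' : Cls F E R φ' β') (hR : ∀ x, φ x ∈ R) :
    Cls F E P (φ'.comp (φ.codRestrict R hR)) (β' * β) := by
  obtain ⟨hβ, φ₀, hφ₀, e⟩ := h
  obtain ⟨hβ', φ₀', hφ₀', e'⟩ := h'
  obtain ⟨χ, hχ, hχe⟩ := hAI R (hom_le E hφ₀') φ₀' hφ₀' β⁻¹ (Subgroup.inv_mem _ hβ)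
  have h0 : ∀ x : P, φ₀ x ∈ T := hom_apply_mem E hφ₀
  have hback : ∀ x : P, ((β⁻¹ ⟨φ x, hom_le E hφ₀' (hR x)⟩ : T) : Ω) = φ₀ x := fun x => by
    rw [show (⟨φ x, hom_le E hφ₀' (hR x)⟩ : T) = β ⟨φ₀ x, h0 x⟩ from Subtype.ext (e x)]
    exact congrArg Subtype.val (β.symm_apply_apply ⟨φ₀ x, h0 x⟩)
  have hmem : ∀ x : P, φ₀ x ∈ (R.subgroupOf T).map (T.subtype.comp (β⁻¹).toMonoidHom) := fun x =>
    ⟨⟨φ x, hom_le E hφ₀' (hR x)⟩, hR x, hback x⟩
  refine ⟨Subgroup.mul_mem _ hβ' hβ, _, E.comp_mem hφ₀ hχ hmem, fun x => ?_⟩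
  show φ' ⟨φ x, hR x⟩ = _
  have hy := hom_apply_mem E hφ₀' ⟨φ x, hR x⟩
  rw [e']
  show ((β' _ : T) : Ω) = ((β' (β _) : T) : Ω)
  refine congrArg (fun z : T => ((β' z : T) : Ω)) ?_
  refine Eq.trans (β.apply_symm_apply _).symm (congrArg β ?_)
  refine Subtype.ext (Eq.symm ?_)
  exact Eq.trans (apply_congr χ (hback x).symm _ _)
    (hχe ⟨φ x, hR x⟩ hy ((hback x).symm ▸ hmem x))

theorem Cls.symm (hAI : AutInvariant F E) {A B : Subgroup Ω} (e : A ≃* B) {β : MulAut T}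
    (h : Cls F E A (equivHom e) β) : Cls F E B (equivHom e.symm) β⁻¹ := by
  obtain ⟨hβ, φ₀, hφ₀, he⟩ := h
  obtain ⟨θ, hθ, -, hθ1, -⟩ := exists_inv E hφ₀
  have h0 : ∀ x : A, φ₀ x ∈ T := hom_apply_mem E hφ₀
  obtain ⟨χ, hχ, hχe⟩ := hAI φ₀.range (range_le E hφ₀) θ hθ β hβ
  have hB : ∀ b : B, ((β ⟨φ₀ (e.symm b), h0 _⟩ : T) : Ω) = b := fun b => by
    rw [← he (e.symm b)]
    show ((e (e.symm b) : B) : Ω) = b
    rw [e.apply_symm_apply]
  have hmem : B ≤ (φ₀.range.subgroupOf T).map (T.subtype.comp β.toMonoidHom) := fun b hb =>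
    ⟨⟨φ₀ (e.symm ⟨b, hb⟩), h0 _⟩, ⟨_, rfl⟩, hB ⟨b, hb⟩⟩
  refine ⟨Subgroup.inv_mem _ hβ, _, restrict_mem E hχ hmem, fun b => ?_⟩
  show ((e.symm b : A) : Ω) = _
  have hA : ((e.symm b : A) : Ω) ∈ T := hom_le E hφ₀ (e.symm b).2
  have hv : θ ⟨φ₀ (e.symm b), ⟨_, rfl⟩⟩ = e.symm b := hθ1 (e.symm b) ⟨_, rfl⟩
  have key : χ (Subgroup.inclusion hmem b) = ((β ⟨(e.symm b : A), hA⟩ : T) : Ω) := by
    refine Eq.trans (apply_congr χ (hB b).symm _ ((hB b).symm ▸ hmem b.2)) ?_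
    refine (hχe ⟨φ₀ (e.symm b), ⟨_, rfl⟩⟩ (hom_apply_mem E hθ _) _).trans ?_
    exact congrArg (fun z : T => ((β z : T) : Ω)) (Subtype.ext hv)
  rw [show (⟨_, hom_apply_mem E (restrict_mem E hχ hmem) b⟩ : T) = β ⟨(e.symm b : A), hA⟩ from Subtype.ext key]
  exact (congrArg Subtype.val (β.symm_apply_apply ⟨(e.symm b : A), hA⟩)).symm

/-- The class on the part inside `T` of a map on a subgroup of `S`. -/
def ClsS (F : FusionSystem S) (E : FusionSystem T) (P : Subgroup Ω) (φ : P →* Ω) (β : MulAut T) : Prop :=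
  Cls F E (P ⊓ T) (φ.comp (Subgroup.inclusion inf_le_left)) β

theorem ClsS.restrict {P Q : Subgroup Ω} {φ : P →* Ω} {β : MulAut T} (h : ClsS F E P φ β) (hQP : Q ≤ P) :
    ClsS F E Q (φ.comp (Subgroup.inclusion hQP)) β :=
  (Cls.restrict h (inf_le_inf_right T hQP)).congr fun _ => rfl

theorem ClsS.congr {P : Subgroup Ω} {φ ψ : P →* Ω} {β : MulAut T} (h : ClsS F E P φ β) (he : ∀ x, ψ x = φ x) :
    ClsS F E P ψ β :=
  Cls.congr h fun x => he (Subgroup.inclusion inf_le_left x)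

theorem ClsS.comp (hAI : AutInvariant F E) (hT : F.StronglyClosed T) {P R : Subgroup Ω} {φ : P →* Ω}
    {φ' : R →* Ω} {β β' : MulAut T} (hφ : φ ∈ F.Hom P)
    (h : ClsS F E P φ β) (h' : ClsS F E R φ' β') (hR : ∀ x, φ x ∈ R) :
    ClsS F E P (φ'.comp (φ.codRestrict R hR)) (β' * β) :=
  (Cls.comp hAI h h' fun x => ⟨hR _, stronglyClosed_apply_mem hT hφ _ x.2.2⟩).congr fun _ => rfl

theorem ClsS.symm (hAI : AutInvariant F E) (hT : F.StronglyClosed T) {A B : Subgroup Ω} (e : A ≃* B) {β : MulAut T}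
    (he : equivHom e ∈ F.Hom A) (he' : equivHom e.symm ∈ F.Hom B) (h : ClsS F E A (equivHom e) β) :
    ClsS F E B (equivHom e.symm) β⁻¹ := by
  let e' : ↥(A ⊓ T) ≃* ↥(B ⊓ T) :=
    { toFun := fun x => ⟨e ⟨x, x.2.1⟩, (e _).2, stronglyClosed_apply_mem hT he ⟨x, x.2.1⟩ x.2.2⟩
      invFun := fun y => ⟨e.symm ⟨y, y.2.1⟩, (e.symm _).2, stronglyClosed_apply_mem hT he' ⟨y, y.2.1⟩ y.2.2⟩
      left_inv := fun x => by
        have h0 := congrArg Subtype.val (e.symm_apply_apply ⟨x, x.2.1⟩)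
        exact Subtype.ext h0
      right_inv := fun y => by
        have h0 := congrArg Subtype.val (e.apply_symm_apply ⟨y, y.2.1⟩)
        exact Subtype.ext h0
      map_mul' := fun x y => by
        have h0 := congrArg Subtype.val (map_mul e ⟨x, x.2.1⟩ ⟨y, y.2.1⟩)
        exact Subtype.ext h0 }
  have h' : Cls F E (A ⊓ T) (equivHom e') β := Cls.congr h fun _ => rfl
  exact (h'.symm hAI).congr fun _ => rfl

theorem exists_clsS (hT : F.StronglyClosed T)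
    (hfr : ∀ P : Subgroup Ω, P ≤ T → ∀ φ : P →* Ω, φ ∈ F.Hom P → FrattiniMap F E P φ)
    {P : Subgroup Ω} {φ : P →* Ω} (hφ : φ ∈ F.Hom P) : ∃ β ∈ F.autGroup T, ClsS F E P φ β := by
  obtain ⟨β, hβ, φ₀, h₀, he⟩ := hfr (P ⊓ T) inf_le_right _ (restrict_mem F hφ inf_le_left)
  exact ⟨β, hβ, hβ, φ₀, h₀, fun x => he x _⟩

variable {p : ℕ} [hp : Fact p.Prime] [Finite S]

/-- Centric subgroups are fully centralized. -/
theorem centric_fullyCentralized {Q : Subgroup Ω} (hQ : F.IsCentric Q) : F.IsFullyCentralized Q := by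
  refine ⟨hQ.1, fun R hR => ?_⟩
  obtain ⟨φ, hφ, hr⟩ := isConj_symm hR
  have hCR : centralizerIn S R ≤ R := hQ.2 R hR
  refine card_le_of_hom F hφ hCR (centralizerIn_le _ _) fun x hx => ⟨hom_apply_mem F hφ _, ?_⟩
  refine Subgroup.mem_centralizer_iff.2 fun q hq => ?_
  obtain ⟨⟨r, hr'⟩, rfl⟩ := hr.ge hq
  rw [← map_mul, ← map_mul]
  exact congrArg φ (Subtype.ext (Subgroup.mem_centralizer_iff.1 hx.2 r hr'))

/-- The data of a kernel of index prime to `p` containing the automorphisms from `E`. -/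
structure Kern (F : FusionSystem S) (E : FusionSystem T) (p : ℕ) (K : Subgroup (MulAut T)) : Prop where
  satF : F.IsSaturated p
  satE : E.IsSaturated p
  sub : E.IsSubsystemOf F
  closed : F.StronglyClosed T
  inv : AutInvariant F E
  frat : ∀ P : Subgroup Ω, P ≤ T → ∀ φ : P →* Ω, φ ∈ F.Hom P → FrattiniMap F E P φ
  le : K ≤ F.autGroup T
  conj : ∀ a ∈ F.autGroup T, ∀ k ∈ K, a * k * a⁻¹ ∈ K
  auts : E.autGroup T ≤ K
  pel : ∀ a ∈ F.autGroup T, (∃ k : ℕ, a ^ p ^ k = 1) → a ∈ K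

variable {K : Subgroup (MulAut T)}

/-- Conjugation by an element of `S` has class in the kernel. -/
theorem Kern.conj_class (hS : IsPGroup p S) (h : Kern F E p K) {P : Subgroup Ω} {φ : P →* Ω} {g : Ω}
    (hg : g ∈ S) (he : ∀ x : P, φ x = g * (x : Ω) * g⁻¹) : ∃ β ∈ K, ClsS F E P φ β := by
  obtain ⟨c, hc, hce⟩ := exists_conjAut (K := S) (P := T) hg (stronglyClosed_le_normalizer h.closed hg)
  have hcF := autInducedBy_le_autGroup F h.closed.1 hc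
  obtain ⟨k, hk⟩ := autInducedBy_isPGroup (P := T) hS ⟨c, hc⟩
  refine ⟨c, h.pel c hcF ⟨k, congrArg Subtype.val hk⟩, cls_of_aut hcF inf_le_right fun x => ?_⟩
  exact (he (Subgroup.inclusion inf_le_left x)).trans (hce ⟨(x : Ω), x.2.2⟩).symm

/-- A `p`-automorphism of any subgroup has class in the kernel. -/
theorem Kern.pElement_class (hS : IsPGroup p S) (h : Kern F E p K) {P : Subgroup Ω} (hP : P ≤ S) {a : MulAut P}
    (ha : a ∈ F.autGroup P) (hk : ∃ k : ℕ, a ^ p ^ k = 1) : ∃ β ∈ K, ClsS F E P (equivHom a) β := by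
  obtain ⟨Q, ⟨θ, hθ, hθr⟩, hQ⟩ := exists_fullyNormalized F hP
  haveI := finite_of_le hQ.1
  set e := mapEquiv F hθ hθr with he
  have hem : equivHom e ∈ F.Hom P := equivHom_mapEquiv F hθ hθr
  have ha' : MulAut.congr e a ∈ F.autGroup Q :=
    congr_mem_autGroup F e hem (mapEquiv_symm_mem F hθ hθr) ha
  have hZ : IsPGroup p (Subgroup.zpowers (MulAut.congr e a)) := by
    rintro ⟨_, j, rfl⟩
    obtain ⟨k, hk⟩ := hk
    refine ⟨k, Subtype.ext ?_⟩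
    show ((MulAut.congr e a) ^ j) ^ p ^ k = 1
    rw [← zpow_natCast, ← _root_.zpow_mul, mul_comm, _root_.zpow_mul, zpow_natCast, ← map_pow,
      hk, map_one, _root_.one_zpow]
  obtain ⟨γ, hγ, hle⟩ := (isSyl_of_fullyAutomized (fullyNormalized_imp hS h.satF hQ).2).exists_conj hZ
    (Subgroup.zpowers_le.2 ha')
  obtain ⟨g, hg, hge⟩ := (mem_autInducedBy_iff _).1 (hle ⟨_, Subgroup.mem_zpowers _, rfl⟩)
  set f : P ≃* Q := e.trans γ with hf
  have hfm : equivHom f ∈ F.Hom P := equivHom_trans F hem ((mem_autGroup_iff F hQ.1 _).1 hγ)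
  have hfs : equivHom f.symm ∈ F.Hom Q :=
    equivHom_trans F ((mem_autGroup_iff F hQ.1 _).1 (Subgroup.inv_mem _ hγ)) (mapEquiv_symm_mem F hθ hθr)
  obtain ⟨β, hβ, hβc⟩ := exists_clsS h.closed h.frat hfm
  obtain ⟨k, hkK, hkc⟩ := h.conj_class hS (φ := conjHom Q g) hg fun _ => rfl
  have hcQ : ∀ y : Q, conjHom Q g y ∈ Q := fun y => by
    rw [conjHom_apply, ← hge y]; exact ((MulAut.conj γ (MulAut.congr e a)) y).2
  refine ⟨β⁻¹ * (k * β), ?_, ?_⟩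
  · have := h.conj _ (Subgroup.inv_mem _ hβ) k hkK
    rwa [inv_inv, mul_assoc] at this
  have h1 := ClsS.comp h.inv h.closed hfm hβc hkc fun x => (f x).2
  have hm1 := F.comp_mem hfm (F.conj_mem hQ.1 hg) fun x => (f x).2
  have h2 := ClsS.comp h.inv h.closed hm1 h1 (hβc.symm h.inv h.closed f hfm hfs) fun x => hcQ _
  refine h2.congr fun x => ?_
  show ((a x : P) : Ω) = ((f.symm ⟨conjHom Q g (f x), _⟩ : P) : Ω)
  have h3 : (⟨conjHom Q g (f x), hcQ _⟩ : Q) = f (a x) := Subtype.ext (by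
    show g * ((f x : Q) : Ω) * g⁻¹ = _
    rw [← hge (f x)]
    simp [hf, MulAut.mul_apply, congr_apply])
  rw [h3, f.symm_apply_apply]

/-- An automorphism of `T` inducing a map of `E` on a centric subgroup of `E` lies in the kernel. -/
theorem Kern.key (hS : IsPGroup p S) (h : Kern F E p K) :
    ∀ Q : Subgroup Ω, E.IsCentric Q → ∀ (hQT : Q ≤ T), ∀ γ ∈ F.autGroup T,
      (T.subtype.comp γ.toMonoidHom).comp (Subgroup.inclusion hQT) ∈ E.Hom Q → γ ∈ K := by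
  intro Q
  haveI := finite_of_le h.closed.1
  have hTp : IsPGroup p T := hS.to_le h.closed.1
  induction hk : Nat.card T - Nat.card Q using Nat.strong_induction_on generalizing Q with
  | _ n ih =>
  intro hQc hQT γ hγ hmem
  rcases eq_or_lt_of_le hQT with rfl | hlt
  · exact h.auts ((mem_autGroup_iff E le_rfl γ).2 (hom_congr E hmem fun _ => rfl))
  haveI := finite_of_le (hQT.trans h.closed.1)
  set N := normalizerIn T Q with hN
  have hNT : N ≤ T := normalizerIn_le T Q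
  haveI := finite_of_le (hNT.trans h.closed.1)
  have hQN : Q < N := lt_normalizerIn hTp hlt
  set φ := (T.subtype.comp γ.toMonoidHom).comp (Subgroup.inclusion hQT) with hφ
  have hQ'c : E.IsCentric φ.range := isCentric_isConj hQc ⟨φ, hmem, rfl⟩
  obtain ⟨ψ, hψ, hψe⟩ := (fullyCentralized_receptive hTp h.satE (centric_fullyCentralized hQ'c)).2 Q φ hmem rfl
  have hNext : N ≤ extender T Q φ := fun g hg => Subgroup.subset_closure
    ⟨hg.1, hg.2, (γ ⟨g, hg.1⟩ : T), (γ _).2, fun x hx => by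
      show ((γ ⟨g * (x : Ω) * g⁻¹, _⟩ : T) : Ω) = (γ ⟨g, hg.1⟩ : T) * (γ ⟨(x : Ω), hQT x.2⟩ : T) * ((γ ⟨g, hg.1⟩ : T) : Ω)⁻¹
      rw [← Subgroup.coe_inv, ← Subgroup.coe_mul, ← Subgroup.coe_mul, ← map_inv, ← map_mul, ← map_mul]
      rfl⟩
  set e' := ψ.comp (Subgroup.inclusion hNext) with he'
  have he'E : e' ∈ E.Hom N := restrict_mem E hψ hNext
  have he'Q : ∀ (x : Ω) (hxN : x ∈ N) (hx : x ∈ Q), e' ⟨x, hxN⟩ = ((γ ⟨x, hNT hxN⟩ : T) : Ω) :=
    fun x hxN hx => hψe x hx (hNext hxN)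
  have he'N : ∀ y : N, ((γ⁻¹ ⟨e' y, hom_apply_mem E he'E y⟩ : T) : Ω) ∈ N := by
    intro y
    refine ⟨(γ⁻¹ _).2, mem_normalizer_of_conj_mem_finite fun q hq => ?_⟩
    have hyq : (y : Ω) * q * (y : Ω)⁻¹ ∈ Q := (Subgroup.mem_normalizer_iff.1 y.2.2 q).1 hq
    set u : T := γ⁻¹ ⟨e' y, hom_apply_mem E he'E y⟩
    have h1 : γ (u * ⟨q, hQT hq⟩ * u⁻¹) = γ ⟨(y : Ω) * q * (y : Ω)⁻¹, hQT hyq⟩ := by
      refine Subtype.ext ?_
      rw [map_mul, map_mul, map_inv, show γ u = ⟨e' y, hom_apply_mem E he'E y⟩ from γ.apply_symm_apply _,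
        Subgroup.coe_mul, Subgroup.coe_mul, Subgroup.coe_inv, ← he'Q q (hQN.le hq) hq,
        ← he'Q _ (hQN.le hyq) hyq]
      show e' y * e' ⟨q, hQN.le hq⟩ * (e' y)⁻¹ = e' ⟨(y : Ω) * q * (y : Ω)⁻¹, hQN.le hyq⟩
      rw [← map_inv, ← map_mul, ← map_mul]
      rfl
    have h2 : (u : Ω) * q * (u : Ω)⁻¹ = (y : Ω) * q * (y : Ω)⁻¹ := congrArg Subtype.val (γ.injective h1)
    exact h2.symm ▸ hyq
  -- the discrepancy
  have hγN : (T.subtype.comp (γ⁻¹ : MulAut T).toMonoidHom).comp (Subgroup.inclusion (range_le E he'E)) ∈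
      F.Hom e'.range :=
    restrict_mem F ((mem_autGroup_iff F h.closed.1 _).1 (Subgroup.inv_mem _ hγ)) _
  have ha₀ := F.comp_mem (h.sub N he'E) hγN fun y => ⟨y, rfl⟩
  obtain ⟨a, haF, hae⟩ := exists_autGroup_of_range F ha₀ (Subgroup.eq_of_le_of_card_ge
    (by rintro _ ⟨y, rfl⟩; exact he'N y) (isConj_card ⟨_, ha₀, rfl⟩).le)
  have hav : ∀ y : N, ((a y : N) : Ω) = ((γ⁻¹ ⟨e' y, hom_apply_mem E he'E y⟩ : T) : Ω) := hae
  have hafix : ∀ x : N, (x : Ω) ∈ Q → a x = x := fun x hx => Subtype.ext (by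
    rw [hav]
    have : (⟨e' x, hom_apply_mem E he'E x⟩ : T) = γ ⟨(x : Ω), hNT x.2⟩ := Subtype.ext (he'Q x x.2 hx)
    rw [this]
    exact congrArg Subtype.val (γ.symm_apply_apply _))
  have hd : ∀ y : N, ((y⁻¹ * a y : N) : Ω) ∈ Q := fun y => by
    refine mem_of_centralizes hQc (hNT (y⁻¹ * a y).2) fun q hq => ?_
    have hq' : (y : Ω) * q * (y : Ω)⁻¹ ∈ Q := (Subgroup.mem_normalizer_iff.1 y.2.2 q).1 hq
    have h1 := hafix (y * ⟨q, hQN.le hq⟩ * y⁻¹) hq'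
    rw [map_mul, map_mul, map_inv, hafix ⟨q, hQN.le hq⟩ hq] at h1
    have h3 : (⟨q, hQN.le hq⟩ : N) * (y⁻¹ * a y) = (y⁻¹ * a y) * ⟨q, hQN.le hq⟩ := by
      calc (⟨q, hQN.le hq⟩ : N) * (y⁻¹ * a y) = y⁻¹ * (y * ⟨q, hQN.le hq⟩ * y⁻¹) * a y := by group
        _ = y⁻¹ * (a y * ⟨q, hQN.le hq⟩ * (a y)⁻¹) * a y := by rw [← h1]
        _ = (y⁻¹ * a y) * ⟨q, hQN.le hq⟩ := by group
    exact congrArg Subtype.val h3
  have hpow : ∀ (j : ℕ) (y : N), (a ^ j) y = y * (y⁻¹ * a y) ^ j := by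
    intro j
    induction j with
    | zero => simp
    | succ j ih =>
      intro y
      rw [pow_succ', MulAut.mul_apply, ih, map_mul, map_pow, hafix _ (hd y), pow_succ',
        ← mul_assoc y (y⁻¹ * a y), mul_inv_cancel_left]
  obtain ⟨m, hm⟩ := IsPGroup.iff_card.1 (hTp.to_le hNT)
  have hak : a ^ p ^ m = 1 := MulEquiv.ext fun y => by
    rw [hpow, ← hm, pow_card_eq_one', mul_one]; rfl
  obtain ⟨β, hβK, hβc⟩ := h.pElement_class hS (hNT.trans h.closed.1) haF ⟨m, hak⟩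
  obtain ⟨hβF, φ₁, hφ₁, hv⟩ := (ClsS.congr hβc (ψ := equivHom a) fun _ => rfl)
  have hφ₁' := restrict_mem E hφ₁ (le_inf le_rfl hNT)
  set ε := φ₁.comp (Subgroup.inclusion (le_inf le_rfl hNT : N ≤ N ⊓ T)) with hε
  -- the product class restricts into `E` on a larger subgroup
  obtain ⟨θ, hθ, -, hθ1, -⟩ := exists_inv E hφ₁'
  have hNc : E.IsCentric ε.range := isCentric_isConj (isCentric_mono hQc hQN.le hNT) ⟨ε, hφ₁', rfl⟩
  have hθN : ∀ y, θ y ∈ N := by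
    rintro ⟨_, x, rfl⟩
    rw [hθ1 x ⟨x, rfl⟩]; exact x.2
  have hεT : ε.range ≤ T := range_le E hφ₁'
  have hlt2 : Nat.card T - Nat.card ε.range < n := by
    rw [← hk, ← isConj_card (F := E) ⟨ε, hφ₁', rfl⟩]
    have h1 : Nat.card Q < Nat.card N := lt_of_le_of_ne (Subgroup.card_le_of_le hQN.le)
      fun he => hQN.ne (Subgroup.eq_of_le_of_card_ge hQN.le he.ge)
    have h2 : Nat.card N ≤ Nat.card T := Subgroup.card_le_of_le hNT
    omega
  have hres : (T.subtype.comp (γ * β : MulAut T).toMonoidHom).comp (Subgroup.inclusion hεT) ∈ E.Hom ε.range := by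
    refine hom_congr E (E.comp_mem hθ he'E hθN) ?_
    rintro ⟨_, x, rfl⟩
    show ((γ (β ⟨ε x, _⟩) : T) : Ω) = e' ⟨θ _, _⟩
    have h1 : β ⟨ε x, hom_apply_mem E hφ₁' x⟩ = γ⁻¹ ⟨e' x, hom_apply_mem E he'E x⟩ :=
      Subtype.ext (((hv (Subgroup.inclusion (le_inf le_rfl hNT) x)).symm).trans (hav x))
    rw [h1, MulAut.apply_inv_self]
    exact congrArg e' (Subtype.ext (hθ1 x ⟨x, rfl⟩).symm)
  have := ih _ hlt2 ε.range rfl hNc hεT (γ * β) (Subgroup.mul_mem _ hγ hβF) hres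
  simpa using K.mul_mem this (K.inv_mem hβK)

/-- On a centric subgroup of `E` the class is determined modulo the kernel. -/
theorem Kern.cls_unique (hS : IsPGroup p S) (h : Kern F E p K) {Q : Subgroup Ω} (hQ : E.IsCentric Q)
    {φ : Q →* Ω} {β β' : MulAut T} (hb : Cls F E Q φ β) (hb' : Cls F E Q φ β') (hK : β ∈ K) : β' ∈ K := by
  haveI := finite_of_le h.closed.1
  obtain ⟨hβ, φ₀, h₀, e⟩ := hb
  obtain ⟨hβ', φ₀', h₀', e'⟩ := hb'
  obtain ⟨θ, hθ, -, hθ1, -⟩ := exists_inv E h₀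
  have hθQ : ∀ y, θ y ∈ Q := by
    rintro ⟨_, x, rfl⟩
    rw [hθ1 x ⟨x, rfl⟩]; exact x.2
  have hres : (T.subtype.comp (β'⁻¹ * β : MulAut T).toMonoidHom).comp (Subgroup.inclusion (range_le E h₀)) ∈
      E.Hom φ₀.range := by
    refine hom_congr E (E.comp_mem hθ h₀' hθQ) ?_
    rintro ⟨_, x, rfl⟩
    show ((β'⁻¹ (β ⟨φ₀ x, _⟩) : T) : Ω) = φ₀' ⟨θ _, _⟩
    have h1 : β ⟨φ₀ x, hom_apply_mem E h₀ x⟩ = β' ⟨φ₀' x, hom_apply_mem E h₀' x⟩ :=
      Subtype.ext ((e x).symm.trans (e' x))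
    rw [h1, MulAut.inv_apply_self]
    exact congrArg φ₀' (Subtype.ext (hθ1 x ⟨x, rfl⟩).symm)
  have := h.key hS _ (isCentric_isConj hQ ⟨φ₀, h₀, rfl⟩) (range_le E h₀) _
    (Subgroup.mul_mem _ (Subgroup.inv_mem _ hβ') hβ) hres
  simpa using K.mul_mem hK (K.inv_mem this)

end Cfsg.Agent.FusionSys.KerClass
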