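import Cfsg.Agent.Lib.Fusion.KernelSeries
import Cfsg.Agent.Lib.Fusion.CentralizerGood

/-!
# The envelope fixes the cosets of `T` when the centralizer of the normal subsystem lies in `T`
-/

set_option autoImplicit false
set_option linter.style.haveILetI false
set_option linter.unusedSectionVars false

namespace Cfsg.Agent.FusionSys.KerStep

open Cfsg Cfsg.FusionSystem Cfsg.Agent.FusionSys Cfsg.Agent.FusionSys.KerClass

variable {Ω : Type*} [Group Ω] {S T U : Subgroup Ω} {F : FusionSystem S} {E : FusionSystem T}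
  {p : ℕ} [hp : Fact p.Prime] [Finite S]

/-- Displacements along `C_F(T)` lie in `C_S(E)`. -/
theorem disp_good (hS : IsPGroup p S) (hE : E.IsNormalIn F p) {P : Subgroup Ω} {γ : P →* Ω}
    (hγ : γ ∈ F.centralizerHom T P) (w : P) : (w : Ω)⁻¹ * γ w ∈ FocCent.goodSub F E :=
  Subgroup.subset_closure ⟨Subgroup.mul_mem _ (Subgroup.inv_mem _ (hγ.2.1 w.2)) (hγ.2.2.1 w),
    fun Q => FocCent.mem_centralizerHom_zpowers hS hE.1.2.1 hE hγ w Q⟩

/-- The maps moving every element inside its coset of `T`. -/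
noncomputable def cosetSys (G : FusionSystem U) (hTn : U ≤ Subgroup.normalizer (T : Set Ω))
    (hab : ∀ x ∈ U, ∀ g ∈ U, x⁻¹ * (g * x * g⁻¹) ∈ T) : FusionSystem U where
  Hom P := {φ | φ ∈ G.Hom P ∧ ∀ x : P, (x : Ω)⁻¹ * φ x ∈ T}
  le_of_mem h := G.le_of_mem h.1
  injective_of_mem h := G.injective_of_mem h.1
  conj_mem hP hg := ⟨G.conj_mem hP hg, fun x => hab _ (hP x.2) _ hg⟩
  comp_mem := by
    rintro P R φ ψ ⟨hφ, h1⟩ ⟨hψ, h2⟩ h
    refine ⟨G.comp_mem hφ hψ h, fun x => ?_⟩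
    have := T.mul_mem (h1 x) (h2 ⟨φ x, h x⟩)
    rwa [mul_assoc, mul_inv_cancel_left] at this
  inv_mem := by
    rintro P φ ⟨hφ, h1⟩
    obtain ⟨θ, hθ, hθe⟩ := G.inv_mem hφ
    refine ⟨θ, ⟨hθ, fun y => ?_⟩, hθe⟩
    obtain ⟨_, x, rfl⟩ := y
    rw [hθe]
    have := T.inv_mem (h1 x)
    rwa [mul_inv_rev, inv_inv] at this

/-- A system with `T` normal in its carrier is generated by the maps above `T` and the normal closures of the
automorphisms induced by `T`. -/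
theorem le_of_above (hUp : IsPGroup p U) [Finite U] {G X : FusionSystem U} (hGs : G.IsSaturated p)
    (hTU : T ≤ U) (hTn : U ≤ Subgroup.normalizer (T : Set Ω))
    (htop : ∀ R, T ≤ R → R ≤ U → G.autGroup R ≤ X.autGroup R)
    (hcl : ∀ R, R ≤ U → ∀ g ∈ G.autGroup R, ∀ a ∈ autInducedBy T R, g * a * g⁻¹ ∈ X.autGroup R) : G ≤ X := by
  refine alperin_ind hUp hGs fun R hR ih γ hγ => ?_
  have hRU : R ≤ U := hR.elim (fun e => e.le) fun e => e.1.1
  by_cases hTR : T ≤ R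
  · exact htop R hTR hRU hγ
  haveI := finite_of_le hRU
  have hess : G.IsEssential p R := hR.resolve_left fun e => hTR (e ▸ hTU)
  set N := R ⊔ normalizerIn T R with hN
  have hRN : R < N := by
    refine lt_of_le_of_ne le_sup_left fun he => ?_
    have hM : R ⊔ T ≤ U := sup_le hRU hTU
    haveI := finite_of_le hM
    have hlt : R < R ⊔ T := lt_of_le_of_ne le_sup_left fun e => hTR (e.ge.trans' le_sup_right)
    obtain ⟨g, hg, hgR⟩ := SetLike.exists_of_lt (lt_normalizerIn (hUp.to_le hM) hlt)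
    have hgM : g ∈ ((R ⊔ T : Subgroup Ω) : Set Ω) := hg.1
    rw [Subgroup.coe_mul_of_left_le_normalizer_right _ _ (hRU.trans hTn)] at hgM
    obtain ⟨u, hu, t, ht, rfl⟩ := hgM
    have htN : t ∈ Subgroup.normalizer (R : Set Ω) := by
      have := Subgroup.mul_mem _ (Subgroup.inv_mem _ (Subgroup.le_normalizer hu)) hg.2
      rwa [inv_mul_cancel_left] at this
    exact hgR (R.mul_mem hu (he.ge (Subgroup.mem_sup_right ⟨ht, htN⟩)))
  set Γ := G.autGroup R with hΓ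
  set L := X.autGroup R with hL
  set C : Subgroup Γ := Subgroup.normalClosure (((autInducedBy T R).subgroupOf Γ : Subgroup Γ) : Set Γ) with hC
  have hgen : ∀ c ∈ C, (c : MulAut R) ∈ L := by
    intro c hc
    induction hc using Subgroup.closure_induction with
    | mem x hx =>
      obtain ⟨a, ha, hax⟩ := Group.mem_conjugatesOfSet_iff.1 hx
      obtain ⟨g, rfl⟩ := isConj_iff.1 hax
      exact hcl R hRU g g.2 a (Subgroup.mem_subgroupOf.1 ha)
    | one => exact Subgroup.one_mem _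
    | mul a b _ _ ha hb => exact Subgroup.mul_mem _ ha hb
    | inv a _ ha => exact Subgroup.inv_mem _ ha
  set CM := C.map Γ.subtype with hCM
  have hCMle : CM ≤ Γ := Subgroup.map_subtype_le _
  have hCn : Γ ≤ Subgroup.normalizer (CM : Set (MulAut R)) := fun a ha =>
    mem_normalizer_of_conj_mem a (by
      rintro _ ⟨c, hc, rfl⟩
      exact ⟨⟨a, ha⟩ * c * (⟨a, ha⟩ : Γ)⁻¹, Subgroup.normalClosure_normal.conj_mem c hc _, rfl⟩) (by
      rintro _ ⟨c, hc, rfl⟩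
      exact ⟨(⟨a, ha⟩ : Γ)⁻¹ * c * ⟨a, ha⟩, by simpa using Subgroup.normalClosure_normal.conj_mem c hc (⟨a, ha⟩ : Γ)⁻¹, rfl⟩)
  have hA := isSyl_of_fullyAutomized (fullyNormalized_imp hUp hGs hess.2.1).2
  have hsyl := hA.inf_normal hCMle hCn
  set S₀ := autInducedBy U R ⊓ CM with hS₀
  haveI : (CM.subgroupOf Γ).Normal := by
    rw [hCM, Subgroup.subgroupOf, Subgroup.comap_map_eq_self_of_injective Γ.subtype_injective]
    exact Subgroup.normalClosure_normal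
  have hsyl' : IsSyl p (S₀.subgroupOf Γ) (CM.subgroupOf Γ) :=
    ⟨fun x hx => hsyl.1 hx, isPGroup_subgroupOf hsyl.2.1, by
      rw [Subgroup.relIndex_subgroupOf hCMle]; exact hsyl.2.2⟩
  obtain ⟨Q, hQ⟩ := hsyl'.toSylow
  have hQmap : (Q : Subgroup ↥(CM.subgroupOf Γ)).map (CM.subgroupOf Γ).subtype = S₀.subgroupOf Γ := by
    rw [hQ, Subgroup.subgroupOf_map_subtype, inf_eq_left.2 hsyl'.1]
  obtain ⟨n, hnn, b, hb, hnb⟩ := Subgroup.mem_sup_of_normal_right.1
    ((Sylow.normalizer_sup_eq_top Q).ge (Subgroup.mem_top (⟨γ, hγ⟩ : Γ)))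
  replace hnn : n ∈ Subgroup.normalizer ((S₀.subgroupOf Γ : Subgroup _) : Set Γ) := by
    rw [← hQmap]; exact hnn
  have hbL : (b : MulAut R) ∈ L := by
    have hb' : b ∈ C := by
      rw [hCM, Subgroup.subgroupOf, Subgroup.comap_map_eq_self_of_injective Γ.subtype_injective] at hb
      exact hb
    exact hgen b hb'
  have hne := (mem_autGroup_iff G hRU _).1 n.2
  obtain ⟨ψ, hψ, hψe⟩ := (fullyNormalized_receptive hUp hGs hess.2.1).2 R _ hne (equivHom_range (n : MulAut R))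
  have hRext : R ≤ extender U R (R.subtype.comp (n : MulAut R).toMonoidHom) := le_extender G hne
  have hText : normalizerIn T R ≤ extender U R (R.subtype.comp (n : MulAut R).toMonoidHom) := by
    intro g hg
    obtain ⟨c, hc, hce⟩ := exists_conjAut (K := T) (P := R) hg.1 hg.2
    have hcU : c ∈ autInducedBy U R := autInducedBy_mono hTU hc
    have hcΓ : c ∈ Γ := autInducedBy_le_autGroup G hRU hcU
    have hcC : c ∈ CM := ⟨⟨c, hcΓ⟩, Subgroup.subset_normalClosure (Subgroup.mem_subgroupOf.2 hc), rfl⟩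
    have h1 := (Subgroup.mem_normalizer_iff.1 hnn ⟨c, hcΓ⟩).1 (Subgroup.mem_subgroupOf.2 ⟨hcU, hcC⟩)
    obtain ⟨h, hh, hhe⟩ := (mem_autInducedBy_iff _).1 (Subgroup.mem_subgroupOf.1 h1).1
    refine Subgroup.subset_closure ⟨hTU hg.1, hg.2, h, hh, fun x hx => ?_⟩
    have h2 := hhe ((n : MulAut R) x)
    simp only [Subgroup.coe_mul, Subgroup.coe_inv, MulAut.mul_apply] at h2
    rw [show ((n : MulAut R))⁻¹ ((n : MulAut R) x) = x from (n : MulAut R).symm_apply_apply x] at h2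
    refine Eq.trans ?_ h2
    show (((n : MulAut R) ⟨_, hx⟩ : R) : Ω) = _
    rw [show (⟨g * (x : Ω) * g⁻¹, hx⟩ : R) = c x from Subtype.ext (hce x).symm]
  have hNext := sup_le hRext hText
  have hψ' := ih N hRN (restrict_mem G hψ hNext)
  have hnL : (n : MulAut R) ∈ L := (mem_autGroup_iff _ hRU _).2
    (hom_congr _ (restrict_mem _ hψ' hRN.le) fun x => (hψe x x.2 (hNext (hRN.le x.2))).symm)
  rw [show γ = ((n * b : Γ) : MulAut R) from (congrArg Subtype.val hnb).symm]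
  exact Subgroup.mul_mem _ hnL hbL

/-- Above a normal subsystem containing its centralizer, the maps of the envelope fix the cosets of `T`. -/
theorem coset_fixed (hS : IsPGroup p S) (hE : E.IsNormalIn F p) (hC : FocCent.goodSub F E ≤ T)
    {G : FusionSystem (T ⊔ centralizerIn S T)} (hst : Stage F E p hE.1.2.2.2.1 (E.autGroup T) G)
    {P : Subgroup Ω} {φ : P →* Ω} (hφ : φ ∈ G.Hom P) (x : P) : (x : Ω)⁻¹ * φ x ∈ T := by
  obtain ⟨⟨-, hF, hEF, hT, -, -⟩, hext⟩ := id hE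
  have hUS : (T ⊔ centralizerIn S T) ≤ S := sup_le hT.1 (centralizerIn_le _ _)
  haveI := finite_of_le hUS
  haveI := finite_of_le hT.1
  have hTn : (T ⊔ centralizerIn S T) ≤ Subgroup.normalizer (T : Set Ω) := hUS.trans (stronglyClosed_le_normalizer hT)
  have hdec : ∀ u ∈ (T ⊔ centralizerIn S T), ∃ t ∈ T, ∃ c ∈ centralizerIn S T, u = t * c := fun u hu => by
    have hu' : u ∈ ((T ⊔ centralizerIn S T : Subgroup Ω) : Set Ω) := hu
    rw [Subgroup.coe_mul_of_right_le_normalizer_left _ _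
      ((centralizerIn_le _ _).trans (stronglyClosed_le_normalizer hT))] at hu'
    obtain ⟨t, ht, c, hc, rfl⟩ := hu'
    exact ⟨t, ht, c, hc, rfl⟩
  have hcomm : ∀ {t c}, t ∈ T → c ∈ centralizerIn S T → c * t = t * c := fun ht hc =>
    (Subgroup.mem_centralizer_iff.1 hc.2 _ ht).symm
  have hcomm' : ∀ c ∈ centralizerIn S T, ∀ g ∈ centralizerIn S T, c⁻¹ * (g * c * g⁻¹) ∈ T := by
    intro c hc g hg
    have hCT : centralizerIn S T ⊔ T ≤ S := sup_le (centralizerIn_le _ _) hT.1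
    have hgT : ∀ t : T, g * (t : Ω) * g⁻¹ = t := fun t => by rw [hcomm t.2 hg, mul_inv_cancel_right]
    have hγ : conjHom (centralizerIn S T) g ∈ F.centralizerHom T (centralizerIn S T) :=
      ⟨F.conj_mem (centralizerIn_le _ _) hg.1, le_rfl,
        fun z => Subgroup.mul_mem _ (Subgroup.mul_mem _ hg z.2) (Subgroup.inv_mem _ hg),
        conjHom _ g, F.conj_mem hCT hg.1, fun _ => rfl, hgT⟩
    exact hC (disp_good hS hE hγ ⟨c, hc⟩)
  have hab : ∀ u ∈ (T ⊔ centralizerIn S T), ∀ g ∈ (T ⊔ centralizerIn S T), u⁻¹ * (g * u * g⁻¹) ∈ T := by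
    intro u hu g hg
    obtain ⟨t', ht', c', hc', rfl⟩ := hdec u hu
    obtain ⟨t, ht, c, hc, rfl⟩ := hdec g hg
    have h1 : t'⁻¹ * t * t' ∈ T := T.mul_mem (T.mul_mem (T.inv_mem ht') ht) ht'
    have e : (t' * c')⁻¹ * (t * c * (t' * c') * (t * c)⁻¹) = t'⁻¹ * t * t' * (c'⁻¹ * (c * c' * c⁻¹)) * t⁻¹ :=
      calc (t' * c')⁻¹ * (t * c * (t' * c') * (t * c)⁻¹)
          = c'⁻¹ * (t'⁻¹ * t * (c * t') * c' * c⁻¹) * t⁻¹ := by group
        _ = c'⁻¹ * (t'⁻¹ * t * (t' * c) * c' * c⁻¹) * t⁻¹ := by rw [hcomm ht' hc]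
        _ = c'⁻¹ * (t'⁻¹ * t * t') * (c * c' * c⁻¹) * t⁻¹ := by group
        _ = t'⁻¹ * t * t' * c'⁻¹ * (c * c' * c⁻¹) * t⁻¹ := by rw [hcomm h1 (Subgroup.inv_mem _ hc')]
        _ = _ := by group
    rw [e]
    exact T.mul_mem (T.mul_mem h1 (hcomm' _ hc' _ hc)) (T.inv_mem ht)
  suffices h : G ≤ cosetSys G hTn hab from (h P hφ).2 x
  refine le_of_above (hS.to_le hUS) hst.weak.1 le_sup_left hTn (fun R hTR hRU γ hγ => ?_) fun R hRU g hg a ha => ?_
  · haveI := finite_of_le (hRU.trans hUS)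
    have hγm := (mem_autGroup_iff G hRU γ).1 hγ
    refine (mem_autGroup_iff _ hRU γ).2 ⟨hγm, fun y => ?_⟩
    obtain ⟨b, hb, hbe⟩ := exists_autGroup_of_range G (restrict_mem G hγm hTR)
      ((stronglyClosed_weaklyClosed hT).2 _ (hst.weak.2.2.1 _ (restrict_mem G hγm hTR)))
    obtain ⟨β, hβ, hβ1, hβ2⟩ := hext b (hst.aut_le hb)
    obtain ⟨t, ht, c, hc, hy⟩ := hdec y (hRU y.2)
    have hcR : c ∈ R := by
      have := R.mul_mem (R.inv_mem (hTR ht)) y.2
      rwa [hy, inv_mul_cancel_left] at this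
    have hin : ∀ u : ↥(T ⊔ centralizerIn S T), (u : Ω) ∈ R → ((β u : ↥(T ⊔ centralizerIn S T)) : Ω) ∈ R := by
      rintro ⟨u, hu⟩ huR
      obtain ⟨t₁, ht₁, c₁, hc₁, rfl⟩ := hdec u hu
      rw [show (⟨t₁ * c₁, hu⟩ : ↥(T ⊔ centralizerIn S T)) = Subgroup.inclusion le_sup_left (⟨t₁, ht₁⟩ : T) *
        ⟨c₁, Subgroup.mem_sup_right hc₁⟩ from rfl, map_mul, Subgroup.coe_mul, hβ1]
      refine R.mul_mem (hTR (b _).2) ?_
      have hc₁R : c₁ ∈ R := by
        have := R.mul_mem (R.inv_mem (hTR ht₁)) huR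
        rwa [inv_mul_cancel_left] at this
      have := R.mul_mem hc₁R (hTR (hβ2 ⟨c₁, Subgroup.mem_sup_right hc₁⟩ hc₁).1)
      rwa [mul_inv_cancel_left] at this
    obtain ⟨h, hh, hhe⟩ := FocCent.exists_rel F hRU hUS hβ hin
    have hhT : ∀ t : T, ((h ⟨(t : Ω), hTR t.2⟩ : R) : Ω) = b t := fun t =>
      (hhe.apply _).symm.trans (hβ1 t)
    set δ := γ * h⁻¹ with hδ
    have hδF : δ ∈ F.autGroup R := Subgroup.mul_mem _ (autGroup_mono hst.weak.2.2.1 R hγ) (Subgroup.inv_mem _ hh)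
    have hδT : ∀ (u : Ω) (hu : u ∈ T), ((δ ⟨u, hTR hu⟩ : R) : Ω) = u := by
      intro u hu
      obtain ⟨v, hv⟩ := b.surjective ⟨u, hu⟩
      have e : (⟨u, hTR hu⟩ : R) = h ⟨(v : Ω), hTR v.2⟩ := Subtype.ext (by rw [hhT, hv])
      rw [e, hδ, MulAut.mul_apply, show h⁻¹ (h ⟨(v : Ω), hTR v.2⟩) = ⟨(v : Ω), hTR v.2⟩ from h.symm_apply_apply _]
      exact (hbe v).symm.trans (by rw [hv])
    set W := R ⊓ centralizerIn S T with hW
    have hWT : W ⊔ T ≤ R := sup_le inf_le_left hTR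
    have hδm := (mem_autGroup_iff F (hRU.trans hUS) δ).1 hδF
    have hδW : (R.subtype.comp δ.toMonoidHom).comp (Subgroup.inclusion inf_le_left) ∈ F.centralizerHom T W := by
      refine ⟨restrict_mem F hδm _, inf_le_right, fun z => ⟨hRU.trans hUS (δ _).2,
        Subgroup.mem_centralizer_iff.2 fun u hu => ?_⟩, _, restrict_mem F hδm hWT, fun _ => rfl, fun u => hδT u u.2⟩
      rw [show u = ((δ ⟨u, hTR hu⟩ : R) : Ω) from (hδT u hu).symm]
      show ((δ ⟨u, hTR hu⟩ : R) : Ω) * ((δ ⟨(z : Ω), z.2.1⟩ : R) : Ω) = (δ ⟨(z : Ω), z.2.1⟩ : R) * (δ ⟨u, hTR hu⟩ : R)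
      rw [← Subgroup.coe_mul, ← Subgroup.coe_mul, ← map_mul, ← map_mul]
      exact congrArg (fun v : R => ((δ v : R) : Ω)) (Subtype.ext (Subgroup.mem_centralizer_iff.1 z.2.2.2 u hu))
    have hd := hβ2 ⟨c, Subgroup.mem_sup_right hc⟩ hc
    set w := ((h ⟨c, hcR⟩ : R) : Ω) with hw
    have hwβ : w = ((β ⟨c, Subgroup.mem_sup_right hc⟩ : ↥(T ⊔ centralizerIn S T)) : Ω) := (hhe.apply ⟨c, hcR⟩).symm
    have hwC : w ∈ centralizerIn S T := by
      rw [hwβ]
      have := (centralizerIn S T).mul_mem hc ⟨hT.1 hd.1, hd.2⟩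
      rwa [mul_inv_cancel_left] at this
    have h3 := hC (disp_good hS hE hδW ⟨w, (h ⟨c, hcR⟩).2, hwC⟩)
    have h4 : w⁻¹ * ((γ ⟨c, hcR⟩ : R) : Ω) ∈ T := by
      have e : (⟨w, (h ⟨c, hcR⟩).2⟩ : R) = h ⟨c, hcR⟩ := rfl
      rw [← show δ (h ⟨c, hcR⟩) = γ ⟨c, hcR⟩ from by
        rw [hδ, MulAut.mul_apply]; exact congrArg γ (h.symm_apply_apply _)]
      exact h3
    have h5 : c⁻¹ * ((γ ⟨c, hcR⟩ : R) : Ω) ∈ T := by
      have h6 : c⁻¹ * w ∈ T := by rw [hwβ]; exact hd.1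
      have := T.mul_mem h6 h4
      rwa [mul_assoc, mul_inv_cancel_left] at this
    show (y : Ω)⁻¹ * ((γ y : R) : Ω) ∈ T
    rw [show y = ⟨t, hTR ht⟩ * ⟨c, hcR⟩ from Subtype.ext hy, map_mul, Subgroup.coe_mul, Subgroup.coe_mul,
      show ((γ ⟨t, hTR ht⟩ : R) : Ω) = b ⟨t, ht⟩ from (hbe ⟨t, ht⟩).symm]
    have h1 : t⁻¹ * (b ⟨t, ht⟩ : T) ∈ T := T.mul_mem (T.inv_mem ht) (b _).2
    rw [show ∀ u v : Ω, (t * c)⁻¹ * (u * v) = c⁻¹ * (t⁻¹ * u) * v from fun u v => by group,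
      hcomm h1 (Subgroup.inv_mem _ hc), mul_assoc]
    exact T.mul_mem h1 h5
  · haveI := finite_of_le (hRU.trans hUS)
    obtain ⟨y, hy, hye⟩ := (mem_autInducedBy_iff _).1 ha
    have haG : a ∈ G.autGroup R := autInducedBy_le_autGroup G hRU (autInducedBy_mono le_sup_left ha)
    have hm := (mem_autGroup_iff G hRU _).1 (Subgroup.mul_mem _ (Subgroup.mul_mem _ hg haG) (Subgroup.inv_mem _ hg))
    refine (mem_autGroup_iff _ hRU _).2 ⟨hm, fun z => ?_⟩
    set v : R := g⁻¹ z with hv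
    have e : (g * a * g⁻¹) z * z⁻¹ = g (a v * v⁻¹) := by
      rw [map_mul, map_inv, show g v = z from MulAut.apply_inv_self _ _ _]
      rfl
    have hq : ((g (a v * v⁻¹) : R) : Ω) ∈ T := by
      refine stronglyClosed_apply_mem hT (hst.weak.2.2.1 _ ((mem_autGroup_iff G hRU g).1 hg)) _ ?_
      rw [Subgroup.coe_mul, Subgroup.coe_inv, hye, show y * (v : Ω) * y⁻¹ * (v : Ω)⁻¹ =
        y * ((v : Ω) * y⁻¹ * (v : Ω)⁻¹) by group]
      exact T.mul_mem hy ((Subgroup.mem_normalizer_iff.1 (hTn (hRU v.2)) _).1 (T.inv_mem hy))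
    rw [← e, Subgroup.coe_mul, Subgroup.coe_inv] at hq
    have := (Subgroup.mem_normalizer_iff.1 (Subgroup.inv_mem _ (hTn (hRU z.2))) _).1 hq
    show (z : Ω)⁻¹ * (((g * a * g⁻¹) z : R) : Ω) ∈ T
    simpa [mul_assoc] using this

/-- With the centralizer inside `T`, every residual limit inside the envelope lies in `E`. -/
theorem limit_sub (hS : IsPGroup p S) (hE : E.IsNormalIn F p) (hC : FocCent.goodSub F E ≤ T)
    {G : FusionSystem (T ⊔ centralizerIn S T)} (hst : Stage F E p hE.1.2.2.2.1 (E.autGroup T) G)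
    {W : Subgroup Ω} {M : FusionSystem W} (hMG : M.IsSubsystemOf G) (hMs : StableLimit.Stable M p) :
    M.IsSubsystemOf E := by
  have hWT : W ≤ T := by
    have hU : T ⊔ centralizerIn S T ≤ S := sup_le hE.1.2.2.2.1.1 (centralizerIn_le _ _)
    haveI := finite_of_le ((hom_le G (hMG W (subtype_mem M le_rfl))).trans hU)
    have h := hyperfocal_sub_mono (p := p) hMG
    rw [hMs.1] at h
    refine h.trans ((Subgroup.closure_le _).2 ?_)
    rintro _ ⟨P, a, x, hP, -, rfl⟩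
    exact coset_fixed hS hE hC hst ((mem_autGroup_iff G hP _).1 a.2) x
  intro P φ hφ
  have hPT : P ≤ T := (hom_le M hφ).trans hWT
  obtain ⟨β, hβ, -, e, he, hev⟩ := hst.cls P φ (hMG P hφ)
  haveI := finite_of_le hE.1.2.2.2.1.1
  have hle : P ≤ P ⊓ T := le_inf le_rfl hPT
  refine hom_congr E (E.comp_mem (restrict_mem E he hle)
    ((mem_autGroup_iff E le_rfl β).1 hβ) fun x => hom_apply_mem E he _) fun x => ?_
  exact hev ⟨(x : Ω), hle x.2⟩

end Cfsg.Agent.FusionSys.KerStep
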