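import Cfsg.Agent.Lib.Fusion.KernelStep
import Cfsg.Agent.Lib.Fusion.SeriesIff

/-!
# The kernel of a normal subsystem along a `p`-solvable series of automizers
-/

set_option autoImplicit false
set_option linter.style.haveILetI false
set_option linter.unusedSectionVars false

namespace Cfsg.Agent.FusionSys.KerStep

open Cfsg Cfsg.FusionSystem Cfsg.Agent.FusionSys Cfsg.Agent.FusionSys.KerClass

variable {Ω : Type*} [Group Ω] {S T : Subgroup Ω} {F : FusionSystem S} {E : FusionSystem T}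
  {p : ℕ} [hp : Fact p.Prime] [Finite S]

theorem car_autGroup (hT : F.StronglyClosed T) : car hT (F.autGroup T) = S :=
  le_antisymm (fun _ hs => (mem_car.1 hs).1) fun _ hs => mem_car.2 ⟨hs, cbar_mem hT _⟩

/-- The top stage. -/
theorem stage_top (hE : E.IsNormalIn F p) : Stage F E p hE.1.2.2.2.1 (F.autGroup T) F where
  carrier := (car_autGroup _).symm
  le := le_rfl
  conj a ha k hk := Subgroup.mul_mem _ (Subgroup.mul_mem _ ha hk) (Subgroup.inv_mem _ ha)
  eaut := autGroup_mono hE.1.2.2.1 T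
  weak := weaklyNormal_self hE.1.2.1
  sub := hE.1.2.2.1
  auts := le_rfl
  cls P φ hφ := exists_clsS hE.1.2.2.2.1 hE.1.2.2.2.2.2 hφ
  contains M hM _ := hM.2.2.1

/-- The bottom stage, for a `p`-solvable quotient of automizers. -/
theorem stage_bot (hS : IsPGroup p S) (hE : E.IsNormalIn F p)
    [hn : ((E.autGroup T).subgroupOf (F.autGroup T)).Normal]
    (hsolv : Cfsg.IsPSolvable p (↥(F.autGroup T) ⧸ (E.autGroup T).subgroupOf (F.autGroup T))) :
    ∃ (W : Subgroup Ω) (D : FusionSystem W), Stage F E p hE.1.2.2.2.1 (E.autGroup T) D := by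
  have hEA : E.autGroup T ≤ F.autGroup T := autGroup_mono hE.1.2.2.1 T
  obtain ⟨n, H, h0, hlast, hmono, hnorm, hfac⟩ := hsolv
  set mk := QuotientGroup.mk' ((E.autGroup T).subgroupOf (F.autGroup T))
  let K : Fin (n + 1) → Subgroup (MulAut T) := fun i => ((H i).comap mk).map (F.autGroup T).subtype
  have hK0 : K 0 = E.autGroup T := by
    show ((H 0).comap mk).map _ = _
    rw [h0, MonoidHom.comap_bot, QuotientGroup.ker_mk', Subgroup.subgroupOf_map_subtype, inf_eq_left.2 hEA]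
  have hKlast : K (Fin.last n) = F.autGroup T := by
    show ((H (Fin.last n)).comap mk).map _ = _
    rw [hlast, Subgroup.comap_top, ← MonoidHom.range_eq_map, Subgroup.range_subtype]
  suffices h : ∀ i, ∃ (W : Subgroup Ω) (D : FusionSystem W), Stage F E p hE.1.2.2.2.1 (K i) D by
    have h1 := h 0; rwa [hK0] at h1
  intro i
  induction i using Fin.reverseInduction with
  | last => rw [hKlast]; exact ⟨S, F, stage_top hE⟩
  | cast i ih =>
    obtain ⟨W, D, hD⟩ := ih
    have hle : K i.castSucc ≤ K i.succ := Subgroup.map_mono (Subgroup.comap_mono (hmono i.castSucc_le_succ))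
    have hconj : ∀ a ∈ F.autGroup T, ∀ k ∈ K i.castSucc, a * k * a⁻¹ ∈ K i.castSucc := by
      rintro a ha _ ⟨k, hk, rfl⟩
      exact ⟨⟨a, ha⟩ * k * (⟨a, ha⟩ : F.autGroup T)⁻¹, ((hnorm _).comap mk).conj_mem k hk _, rfl⟩
    have hEK : E.autGroup T ≤ K i.castSucc := by
      rw [← hK0]; exact Subgroup.map_mono (Subgroup.comap_mono (hmono (Fin.zero_le _)))
    have key : ∀ β ∈ K i.succ, β ^ ((H i.castSucc).relIndex (H i.succ)) ∈ K i.castSucc := by
      rintro _ ⟨k, hk, rfl⟩
      haveI := hnorm i.castSucc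
      refine ⟨k ^ ((H i.castSucc).relIndex (H i.succ)), ?_, map_pow _ _ _⟩
      show mk (k ^ _) ∈ H i.castSucc
      rw [map_pow]
      exact Subgroup.mem_subgroupOf.1
        (Subgroup.pow_index_mem ((H i.castSucc).subgroupOf (H i.succ)) (⟨mk k, hk⟩ : H i.succ))
    rcases hfac i with ⟨m, hm⟩ | hc
    · exact step_p hS hE hD hle hconj hEK fun β hβ => ⟨m, hm ▸ key β hβ⟩
    · exact step_prime hS hE hD hle hconj hEK fun β hβ => ⟨_, hc, key β hβ⟩

/-- The carrier of the bottom stage is `T C_S(T)`. -/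
theorem car_bot (hS : IsPGroup p S) (hE : E.IsNormalIn F p) :
    car hE.1.2.2.2.1 (E.autGroup T) = T ⊔ centralizerIn S T := by
  have hT := hE.1.2.2.2.1
  haveI := finite_of_le hT.1
  refine le_antisymm (fun s hs => ?_) (sup_le (fun t ht => ?_) fun c hc => ?_)
  · obtain ⟨hsS, hk⟩ := mem_car.1 hs
    set J := E.autGroup T ⊓ (cbar hT).range with hJ
    have hsyl := inn_isSyl (hS.to_le hT.1) hE.1.1
    have hJp : IsPGroup p J := fun x => by
      obtain ⟨-, g, hg⟩ := x.2
      obtain ⟨k, hk⟩ := hS g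
      exact ⟨k, Subtype.ext (by rw [Subgroup.coe_pow, ← hg, ← map_pow, hk, map_one]; rfl)⟩
    have hIJ : Inn T ≤ J := le_inf hsyl.1 (by
      rw [inn_eq_autInducedBy_self]
      intro a ha
      obtain ⟨t, ht, hte⟩ := (mem_autInducedBy_iff _).1 ha
      exact ⟨⟨t, hT.1 ht⟩, MulEquiv.ext fun x => Subtype.ext (hte x).symm⟩)
    have hmem : cbar hT ⟨s, hsS⟩ ∈ Inn T := by
      rw [hsyl.eq_of_le hIJ inf_le_left hJp]
      exact ⟨hk, _, rfl⟩
    rw [inn_eq_autInducedBy_self] at hmem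
    obtain ⟨t, ht, hte⟩ := (mem_autInducedBy_iff _).1 hmem
    rw [show s = t * (t⁻¹ * s) by group]
    refine Subgroup.mul_mem_sup ht ⟨S.mul_mem (S.inv_mem (hT.1 ht)) hsS, Subgroup.mem_centralizer_iff.2 fun x hx => ?_⟩
    have h := hte ⟨x, hx⟩
    rw [cbar_apply] at h
    have h2 : s * x * s⁻¹ = t * x * t⁻¹ := h
    calc x * (t⁻¹ * s) = t⁻¹ * (t * x * t⁻¹) * s := by group
      _ = t⁻¹ * (s * x * s⁻¹) * s := by rw [h2]
      _ = t⁻¹ * s * x := by group
  · exact mem_car.2 ⟨hT.1 ht, autInducedBy_le_autGroup E le_rfl ((mem_autInducedBy_iff _).2 ⟨t, ht, fun _ => rfl⟩)⟩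
  · refine mem_car.2 ⟨hc.1, ?_⟩
    rw [show cbar hT ⟨c, hc.1⟩ = 1 from MulEquiv.ext fun t => Subtype.ext (by
      rw [cbar_apply, ← Subgroup.mem_centralizer_iff.1 hc.2 _ t.2, mul_inv_cancel_right]; rfl)]
    exact Subgroup.one_mem _

/-- A weakly normal subsystem over a subgroup containing its centralizer is normal. -/
theorem normal_of_centralizer_le {U : Subgroup Ω} {D : FusionSystem U} (hD : D.IsWeaklyNormalIn F p)
    (hC : centralizerIn S U ≤ U) : D.IsNormalIn F p := by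
  refine ⟨hD, fun α hα => ?_⟩
  have hUS := hD.2.2.2.1.1
  have e : U ⊔ centralizerIn S U = U := sup_eq_left.2 hC
  have hαm := (mem_autGroup_iff D le_rfl α).1 hα
  set q := MulEquiv.subgroupCongr e
  refine ⟨MulAut.congr q.symm α, (mem_autGroup_iff F (e.le.trans hUS) _).2 ?_, fun x => ?_, fun c hc => ⟨?_, ?_⟩⟩
  · exact hom_congr F (restrict_mem F (hD.2.2.1 _ hαm) e.le) fun x => rfl
  · rfl
  · exact U.mul_mem (U.inv_mem (e.le c.2)) (α (q c)).2
  · refine Subgroup.mul_mem _ (Subgroup.inv_mem _ hc.2) (Subgroup.mem_centralizer_iff.2 fun s hs => ?_)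
    have h1 : α (α⁻¹ ⟨s, hs⟩ * q c) = α (q c * α⁻¹ ⟨s, hs⟩) :=
      congrArg α (Subtype.ext (Subgroup.mem_centralizer_iff.1 hc.2 _ (α⁻¹ ⟨s, hs⟩).2))
    rw [map_mul, map_mul, MulAut.apply_inv_self] at h1
    exact congrArg Subtype.val h1

/-- The normal envelope of a normal subsystem with `p`-solvable quotient of automizers. -/
theorem exists_envelope (hS : IsPGroup p S) (hE : E.IsNormalIn F p)
    [hn : ((E.autGroup T).subgroupOf (F.autGroup T)).Normal]
    (hsolv : Cfsg.IsPSolvable p (↥(F.autGroup T) ⧸ (E.autGroup T).subgroupOf (F.autGroup T))) :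
    ∃ F₀ : FusionSystem (T ⊔ centralizerIn S T), F₀.IsNormalIn F p ∧ Stage F E p hE.1.2.2.2.1 (E.autGroup T) F₀ := by
  obtain ⟨W, D, hD⟩ := stage_bot hS hE hsolv
  have hW := hD.carrier.trans (car_bot hS hE)
  subst hW
  exact ⟨D, normal_of_centralizer_le hD.weak ((inf_le_inf_left S
    (Subgroup.centralizer_le (show (T : Set Ω) ⊆ _ from (le_sup_left : T ≤ T ⊔ centralizerIn S T)))).trans le_sup_right), hD⟩

end Cfsg.Agent.FusionSys.KerStep
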