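import Cfsg.Agent.Lib.Fusion.PPowerExist
import Cfsg.Agent.Lib.Fusion.WeaklyNormalResidual
import Cfsg.Agent.Lib.Fusion.ResidualNormalExt
import Cfsg.Agent.Lib.Fusion.CentralizerSubsystem
import Cfsg.Agent.Lib.Fusion.Hyperfocal

/-!
# Residual limits of weakly normal subsystems

Residual limits of weakly normal subsystems are weakly normal, and they contain every weakly normal subsystem
that is its own residual limit.
-/

set_option autoImplicit false
set_option linter.style.haveILetI false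
set_option linter.unusedSectionVars false

namespace Cfsg.Agent.FusionSys.StableLimit

open Cfsg Cfsg.FusionSystem Cfsg.Agent.FusionSys

variable {Ω : Type*} [Group Ω] {S U W : Subgroup Ω} {F : FusionSystem S} {p : ℕ} [hp : Fact p.Prime] [Finite S]

/-- A subsystem of `p`-power index of a weakly normal subsystem over a strongly closed subgroup is weakly normal. -/
theorem pStep (hS : IsPGroup p S) {H : FusionSystem U} (hH : H.IsWeaklyNormalIn F p) (hW : F.StronglyClosed W)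
    (hWU : W ≤ U) (hhyp : H.hyperfocalSubgroup p ≤ W) :
    ∃ D : FusionSystem W, D.IsWeaklyNormalIn F p ∧ D.HasPPowerIndexIn H p := by
  obtain ⟨hHs, hF, hsub, hU, hinv, hfr⟩ := id hH
  haveI := finite_of_le hU.1
  haveI := finite_of_le hW.1
  have hUp := hS.to_le hU.1
  have hWp := hS.to_le hW.1
  obtain ⟨D, hDs, hDi, hfrD⟩ := exists_pPower hUp hHs hWU hhyp
  have hWn : (W.subgroupOf U).Normal := ⟨fun n hn g =>
    (Subgroup.mem_normalizer_iff.1 (stronglyClosed_le_normalizer hW (hU.1 g.2)) n).1 hn⟩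
  replace hfrD := hfrD hWn
  refine ⟨D, ⟨hDs, hF, fun P φ hφ => hsub P (hDi.1 P hφ), hW, ?_, fun P hP φ hφ => ?_⟩, hDi⟩
  · intro P hPW δ hδ b hb
    have hbm := (mem_autGroup_iff F hW.1 b).1 hb
    refine (le_of_residual hWp hDs hDi.1 (X := CentSub.conjSys D b) (fun R hR => ?_) P hδ).2 hPW
    rintro _ ⟨c, hc, rfl⟩
    refine (mem_autGroup_iff _ hR _).2 ⟨(mem_autGroup_iff D hR _).1 (hDi.2.2 R hR ⟨c, hc, rfl⟩), fun hR' => ?_⟩
    set R' := (R.subgroupOf W).map (W.subtype.comp b.toMonoidHom)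
    have hR'W : R' ≤ W := by rintro _ ⟨y, -, rfl⟩; exact (b y).2
    have hbR := restrict_mem F hbm hR'
    set f := mapEquiv F hbR (range_restrict _ hR')
    have hfm : equivHom f ∈ F.Hom R := equivHom_mapEquiv F _ _
    have hfv : ∀ x : R, ((f x : R') : Ω) = ((b ⟨x, hR' x.2⟩ : W) : Ω) := fun x => rfl
    have hRU := hR.trans hWU
    haveI := finite_of_le (hR.trans hW.1)
    haveI := finite_of_le (hR'W.trans hW.1)
    have hconj : ∀ a ∈ H.autGroup R, MulAut.congr f a ∈ H.autGroup R' := fun a ha =>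
      congr_mem_of_frattini hinv (hR'W.trans hWU) f (hfr R hRU _ hfm) ha
    let g : H.autGroup R →* H.autGroup R' :=
      ((MulAut.congr f).toMonoidHom.comp (H.autGroup R).subtype).codRestrict _ fun a => hconj a a.2
    have h1 := hDi.2.2 R' hR'W ⟨g c, Cfsg.Agent.PBasic.map_pResidual_le (p := p) g ⟨c, hc, rfl⟩, rfl⟩
    refine ⟨equivHom (MulAut.congr f (c : MulAut R)), (mem_autGroup_iff D hR'W _).1 h1, fun x hφx hax => ?_⟩
    show ((MulAut.congr f (c : MulAut R) ⟨((b ⟨x, hR' x.2⟩ : W) : Ω), hax⟩ : R') : Ω) = _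
    rw [show (⟨((b ⟨x, hR' x.2⟩ : W) : Ω), hax⟩ : R') = f x from Subtype.ext (hfv x).symm, congr_apply,
      f.symm_apply_apply, hfv]
    rfl
  · -- the Frattini condition
    obtain ⟨α, hα, e, he, hev⟩ := hfr P (hP.trans hWU) φ hφ
    obtain ⟨g, hg, d, hd, hdv⟩ := hfrD P hP e he
    obtain ⟨c, hc, hce⟩ := exists_conjAut (hU.1 hg) (stronglyClosed_le_normalizer hW (hU.1 hg))
    have hαm := (mem_autGroup_iff F hU.1 α).1 hα
    obtain ⟨a, ha, hae⟩ := exists_autGroup_of_range F (restrict_mem F hαm hWU)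
      ((stronglyClosed_weaklyClosed hW).2 _ (restrict_mem F hαm hWU))
    refine ⟨a * c, Subgroup.mul_mem _ ha (autInducedBy_le_autGroup F hW.1 hc), d, hd, fun x hx => ?_⟩
    rw [hev x (hom_apply_mem H he x), MulAut.mul_apply, hae]
    refine congrArg (fun z : U => ((α z : U) : Ω)) (Subtype.ext ?_)
    exact (hdv x).trans (hce ⟨d x, hx⟩).symm

/-- The hyperfocal subgroup of a weakly normal subsystem is strongly closed. -/
theorem hyperfocal_closed (hS : IsPGroup p S) {H : FusionSystem U} (hH : H.IsWeaklyNormalIn F p) :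
    F.StronglyClosed (H.hyperfocalSubgroup p) := by
  obtain ⟨hHs, -, hsub, hU, hinv, hfr⟩ := id hH
  haveI := finite_of_le hU.1
  have hcl := hyperfocal_stronglyClosed (hS.to_le hU.1) hHs
  refine ⟨hcl.1.trans hU.1, fun R hR φ hφ x => ?_⟩
  obtain ⟨α, hα, e, he, hev⟩ := hfr R (hR.trans hcl.1) φ hφ
  rw [hev x (hom_apply_mem H he x)]
  have hαm := (mem_autGroup_iff F hU.1 α).1 hα
  set K : Subgroup U := ((H.hyperfocalSubgroup p).subgroupOf U)
  have hle : H.hyperfocalSubgroup p ≤ (K.comap α.toMonoidHom).map U.subtype := by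
    refine (Subgroup.closure_le _).2 ?_
    rintro _ ⟨P, a, y, hP, ha, rfl⟩
    refine ⟨(⟨y, hP y.2⟩ : U)⁻¹ * ⟨((a : MulAut P) y : P), hP ((a : MulAut P) y).2⟩, ?_, rfl⟩
    show α _ ∈ K
    rw [map_mul, map_inv]
    set P' := (P.subgroupOf U).map (U.subtype.comp α.toMonoidHom)
    have hP' : P' ≤ U := by rintro _ ⟨z, -, rfl⟩; exact (α z).2
    have hαP := restrict_mem F hαm hP
    set f := mapEquiv F hαP (range_restrict _ hP)
    haveI := finite_of_le (hP.trans hU.1)
    haveI := finite_of_le (hP'.trans hU.1)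
    have hconj : ∀ b ∈ H.autGroup P, MulAut.congr f b ∈ H.autGroup P' := fun b hb =>
      congr_mem_of_frattini hinv hP' f (hfr P hP _ (equivHom_mapEquiv F hαP _)) hb
    let g : H.autGroup P →* H.autGroup P' :=
      ((MulAut.congr f).toMonoidHom.comp (H.autGroup P).subtype).codRestrict _ fun b => hconj b b.2
    have h1 := hyperfocal_mem hP' (a := g a) (Cfsg.Agent.PBasic.map_pResidual_le (p := p) g ⟨a, ha, rfl⟩) (f y)
    have h2 : ((((g a : H.autGroup P') : MulAut P') (f y) : P') : Ω) = ((α ⟨((a : MulAut P) y : P), hP ((a : MulAut P) y).2⟩ : U) : Ω) := by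
      show ((f ((a : MulAut P) (f.symm (f y))) : P') : Ω) = _
      rw [f.symm_apply_apply]
      rfl
    rw [h2] at h1
    exact h1
  have he' : e x ∈ H.hyperfocalSubgroup p := hcl.2 R hR e he x
  obtain ⟨z, hz, hze⟩ := hle he'
  rw [show (⟨e x, hom_apply_mem H he x⟩ : U) = z from Subtype.ext hze.symm]
  exact hz

/-- A weakly normal subsystem that is its own `O^{p'}` lies in `O^{p'}` of every saturated subsystem containing it. -/
theorem le_pPrime (hS : IsPGroup p S) {M : FusionSystem W} (hM : M.IsWeaklyNormalIn F p)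
    (hMp : M.IsPPrimeResidual p M) {H : FusionSystem U} (hHs : H.IsSaturated p) (hHF : H.IsSubsystemOf F)
    (hMH : M.IsSubsystemOf H) : M.IsSubsystemOf (pPrimeSys H p) := by
  obtain ⟨hMs, -, hsub, hWc, hinv, hfr⟩ := id hM
  haveI := finite_of_le hWc.1
  have hWp := hS.to_le hWc.1
  have hWU : W ≤ U := hom_le H (hMH W (subtype_mem M le_rfl))
  have hUS : U ≤ S := hom_le F (hHF U (subtype_mem H le_rfl))
  haveI := finite_of_le hUS
  have hUp := hS.to_le hUS
  set O := pPrimeSys H p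
  have hOs : O.IsSaturated p := pPrimeSys_saturated hUp hHs
  have hOpel : ∀ {P : Subgroup Ω}, P ≤ U → ∀ a ∈ H.autGroup P, (∃ k : ℕ, a ^ p ^ k = 1) → a ∈ O.autGroup P := by
    rintro P hP a ha ⟨k, hk⟩
    haveI := finite_of_le (hP.trans hUS)
    obtain ⟨j, -, hj⟩ := (Nat.dvd_prime_pow hp.out).1 (orderOf_dvd_of_pow_eq_one hk)
    refine (pPrimeSys_index hUp hHs).2 P hP ⟨⟨a, ha⟩, Subgroup.subset_closure ⟨j, ?_⟩, rfl⟩
    rw [Subgroup.orderOf_mk, hj]
  let X : FusionSystem W :=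
    { Hom := fun P => {φ | φ ∈ M.Hom P ∧ φ ∈ O.Hom P}
      le_of_mem := fun h => M.le_of_mem h.1
      injective_of_mem := fun h => M.injective_of_mem h.1
      conj_mem := fun {P g} hP hg => ⟨M.conj_mem hP hg, O.conj_mem (hP.trans hWU) (hWU hg)⟩
      comp_mem := fun {P Q φ ψ} h1 h2 h => ⟨M.comp_mem h1.1 h2.1 h, O.comp_mem h1.2 h2.2 h⟩
      inv_mem := fun {P φ} h => by
        obtain ⟨θ, hθ, he⟩ := M.inv_mem h.1
        obtain ⟨θ', hθ', he'⟩ := O.inv_mem h.2
        refine ⟨θ, ⟨hθ, hom_congr O hθ' ?_⟩, he⟩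
        rintro ⟨_, x, rfl⟩
        exact (he x).trans (he' x).symm }
  have hclosed : PPrimeClosed M X p := by
    constructor
    · intro P hP a ha hk
      exact (mem_autGroup_iff X hP.1 a).2 ⟨(mem_autGroup_iff M hP.1 a).1 ha,
        (mem_autGroup_iff O (hP.1.trans hWU) a).1 (hOpel (hP.1.trans hWU) a (autGroup_mono hMH P ha) hk)⟩
    intro P R φ hPR hPc hφ hRN hres
    refine ⟨hφ, ?_⟩
    have hRW : R ≤ W := hom_le M hφ
    have hRU := hRW.trans hWU
    set P₁ := (φ.comp (Subgroup.inclusion hPR)).range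
    have hP₁U : P₁ ≤ U := range_le O hres.2
    obtain ⟨Q, hPQ, hQ⟩ := exists_fullyNormalized O hP₁U
    obtain ⟨μ, hμ, hμN, hμQ⟩ := exists_normalizer_map_fullyNormalized hUp hOs hQ hPQ
    haveI := finite_of_le (hP₁U.trans hUS)
    have hPeq : (φ.comp (Subgroup.inclusion hPR)).range = P₁ := rfl
    have hφN : ∀ y : R, φ y ∈ normalizerIn U P₁ := fun y => ⟨hWU (hom_apply_mem M hφ y),
      apply_mem_normalizer φ hPR hPeq y (hRN y.2).2⟩
    have hφ' := H.comp_mem (hMH R hφ) (pPrimeSys_le _ hμ) hφN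
    set φ' := μ.comp (φ.codRestrict _ hφN)
    have hφ'W : ∀ y, φ' y ∈ W := fun y =>
      stronglyClosed_apply_mem hWc (hHF _ (pPrimeSys_le _ hμ)) _ (hom_apply_mem M hφ y)
    have hφ'P : φ'.comp (Subgroup.inclusion hPR) ∈ O.Hom P :=
      hom_congr O (O.comp_mem hres.2 hμ fun y => hφN (Subgroup.inclusion hPR y)) fun _ => rfl
    have hrQ : (φ'.comp (Subgroup.inclusion hPR)).range = Q := by
      rw [← hμQ]
      ext z
      constructor
      · rintro ⟨y, rfl⟩
        exact ⟨⟨φ (Subgroup.inclusion hPR y), hφN _⟩, ⟨y, rfl⟩, rfl⟩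
      · rintro ⟨⟨u, hu⟩, ⟨y, hy⟩, rfl⟩
        exact ⟨y, congrArg μ (Subtype.ext hy)⟩
    have hQc : M.IsCentric Q := centric_of_conj hM.2.2 hPc
      ⟨_, hHF _ (pPrimeSys_le _ hφ'P), hrQ⟩
    obtain ⟨ψ, hψ, hψe⟩ := (fullyNormalized_receptive hUp hOs hQ).2 P _ hφ'P hrQ
    have hRext : R ≤ extender U P (φ'.comp (Subgroup.inclusion hPR)) := fun g hg => Subgroup.subset_closure
      ⟨hRU hg, (hRN hg).2, φ' ⟨g, hg⟩, hom_apply_mem H hφ' _, fun x hx => by
        show φ' ⟨g * (x : Ω) * g⁻¹, _⟩ = φ' ⟨g, hg⟩ * φ' ⟨(x : Ω), hPR x.2⟩ * (φ' ⟨g, hg⟩)⁻¹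
        rw [← map_inv, ← map_mul, ← map_mul]
        rfl⟩
    have hψR := restrict_mem O hψ hRext
    set ψ' := ψ.comp (Subgroup.inclusion hRext)
    have hψW : ∀ y, ψ' y ∈ W := fun y => hWc.2 R hRW _ (hHF _ (pPrimeSys_le _ hψR)) y
    have hagree : ∀ (x : Ω) (hx : x ∈ R), x ∈ P → ψ' ⟨x, hx⟩ = φ' ⟨x, hx⟩ := fun x hx hxP =>
      hψe x hxP (hRext hx)
    have hφ'F : φ' ∈ F.Hom R := hHF R hφ'
    haveI := finite_of_le (hRW.trans hWc.1)
    haveI := finite_of_le (hPc.1.trans hWc.1)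
    -- the values differ by the centre of `Q`
    have hval : ∀ y : R, (φ' y)⁻¹ * ψ' y ∈ Q := by
      intro y
      refine mem_of_centralizes hQc (W.mul_mem (W.inv_mem (hφ'W y)) (hψW y)) fun q hq => ?_
      obtain ⟨⟨x, hx⟩, rfl⟩ := hrQ.ge hq
      show φ' ⟨x, hPR hx⟩ * _ = _ * φ' ⟨x, hPR hx⟩
      have hxy : (y : Ω) * x * (y : Ω)⁻¹ ∈ P := (Subgroup.mem_normalizer_iff.1 (hRN y.2).2 x).1 hx
      have h1 := hagree _ (R.mul_mem (R.mul_mem y.2 (hPR hx)) (R.inv_mem y.2)) hxy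
      have h2 : (⟨(y : Ω) * x * (y : Ω)⁻¹, R.mul_mem (R.mul_mem y.2 (hPR hx)) (R.inv_mem y.2)⟩ : R) =
          y * ⟨x, hPR hx⟩ * y⁻¹ := Subtype.ext rfl
      rw [h2, map_mul, map_mul, map_inv, map_mul, map_mul, map_inv, hagree x (hPR hx) hx] at h1
      generalize φ' ⟨x, hPR hx⟩ = q at h1 ⊢
      calc q * ((φ' y)⁻¹ * ψ' y) = (φ' y)⁻¹ * (φ' y * q * (φ' y)⁻¹) * ψ' y := by group
        _ = (φ' y)⁻¹ * (ψ' y * q * (ψ' y)⁻¹) * ψ' y := by rw [h1]
        _ = (φ' y)⁻¹ * ψ' y * q := by group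
    have hrange : ψ'.range = φ'.range := by
      haveI := finite_of_le (range_le F hφ'F)
      refine Subgroup.eq_of_le_of_card_ge ?_
        ((isConj_card ⟨_, hφ'F, rfl⟩).symm.trans (isConj_card ⟨_, hψR, rfl⟩)).le
      rintro _ ⟨y, rfl⟩
      rw [← mul_inv_cancel_left (φ' y) (ψ' y)]
      exact Subgroup.mul_mem _ ⟨y, rfl⟩ (by obtain ⟨x, hx⟩ := hrQ.ge (hval y); exact ⟨_, hx⟩)
    set e := mapEquiv H hφ' rfl
    set e' := mapEquiv O hψR hrange
    set a : MulAut R := e'.trans e.symm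
    have haH : a ∈ H.autGroup R := (mem_autGroup_iff H hRU a).2
      (equivHom_trans H (hom_congr H (pPrimeSys_le _ (equivHom_mapEquiv O hψR hrange)) fun _ => rfl)
        (mapEquiv_symm_mem H hφ' rfl))
    have hav : ∀ y, φ' (a y) = ψ' y := fun y => congrArg Subtype.val (e.apply_symm_apply (e' y))
    have hd : ∀ y : R, ((y⁻¹ * a y : R) : Ω) ∈ P := by
      intro y
      obtain ⟨x, hx⟩ := hrQ.ge (hval y)
      have h3 : φ' (y⁻¹ * a y) = φ' (Subgroup.inclusion hPR x) := by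
        rw [map_mul, map_inv, hav]; exact hx.symm
      rw [H.injective_of_mem hφ' h3]
      exact x.2
    have hfix : ∀ y : R, (y : Ω) ∈ P → a y = y := fun y hy =>
      H.injective_of_mem hφ' ((hav y).trans (hagree y y.2 hy))
    have hpow : ∀ (j : ℕ) (y : R), (a ^ j) y = y * (y⁻¹ * a y) ^ j := by
      intro j
      induction j with
      | zero => simp
      | succ j ih =>
        intro y
        rw [pow_succ', MulAut.mul_apply, ih, map_mul, map_pow, hfix _ (hd y), pow_succ',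
          ← mul_assoc y (y⁻¹ * a y), mul_inv_cancel_left]
    obtain ⟨m, hm⟩ := IsPGroup.iff_card.1 (hWp.to_le hRW)
    have haO : a ∈ O.autGroup R := hOpel hRU a haH ⟨m, MulEquiv.ext fun y => by
      rw [hpow, ← hm, pow_card_eq_one', mul_one]; rfl⟩
    have hφ'O : φ' ∈ O.Hom R := hom_congr O
      (O.comp_mem ((mem_autGroup_iff O hRU _).1 (Subgroup.inv_mem _ haO)) hψR fun y => (a⁻¹ y).2) fun y => by
        show φ' y = ψ' ⟨(a⁻¹ y : R), _⟩
        exact ((hav (a⁻¹ y)).symm.trans (by rw [MulAut.apply_inv_self])).symm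
    obtain ⟨μi, hμi, -, hμi1, -⟩ := exists_inv O hμ
    refine hom_congr O (O.comp_mem hφ'O hμi fun y => ⟨⟨φ y, hφN y⟩, rfl⟩) fun y => ?_
    exact (hμi1 ⟨φ y, hφN y⟩ ⟨_, rfl⟩).symm
  have heq : pPrimeSys M p = M := pPrimeResidual_unique (exists_pPrimeResidual hWp hMs) hMp
  intro P φ hφ
  rw [← heq] at hφ
  exact (pPrimeSys_min hclosed P hφ).2

/-- A system that is its own residual limit. -/
def Stable (M : FusionSystem W) (p : ℕ) : Prop := M.hyperfocalSubgroup p = W ∧ M.IsPPrimeResidual p M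

omit hp [Finite S] in
theorem limit_stable {V : Subgroup Ω} {L : FusionSystem V} {H : FusionSystem U} (hL : L.IsResidualLimitOf H p) :
    Stable L p := by
  induction hL with
  | stable H p h1 h2 => exact ⟨h1, h2⟩
  | step _ _ _ _ _ _ _ ih => exact ih

omit hp [Finite S] in
/-- The residual limit of a weakly normal subsystem is weakly normal and contains every stable one. -/
theorem limit_spec {V : Subgroup Ω} {L : FusionSystem V} {H : FusionSystem U} (hL : L.IsResidualLimitOf H p) :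
    Fact p.Prime → Finite S → IsPGroup p S → H.IsWeaklyNormalIn F p →
    L.IsWeaklyNormalIn F p ∧ ∀ {W' : Subgroup Ω} (M : FusionSystem W'), M.IsWeaklyNormalIn F p → Stable M p →
      M.IsSubsystemOf H → M.IsSubsystemOf L := by
  induction hL with
  | stable H p _ _ => exact fun _ _ _ hH => ⟨hH, fun M _ _ h => h⟩
  | @step U' L H p D D' hD hD' _ ih =>
    intro hp hfin hS hH
    haveI := hp
    haveI := hfin
    have hU := hH.2.2.2.1
    haveI := finite_of_le hU.1
    have hW := hyperfocal_closed hS hH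
    haveI := finite_of_le hW.1
    obtain ⟨D₁, hD₁, hD₁i⟩ := pStep hS hH hW (hyperfocal_le H) le_rfl
    obtain rfl : D = D₁ := pPower_unique (hS.to_le hW.1) hD₁.1 hD₁i hD.1 hD.2
    obtain ⟨h1, h2⟩ := ih hp hfin hS (pPrimeResidual_isNormalIn hS hD₁ hD').1
    refine ⟨h1, fun {W'} M hM hMs hMH => h2 M hM hMs ?_⟩
    haveI := finite_of_le hM.2.2.2.1.1
    have hWle : W' ≤ H.hyperfocalSubgroup p := by
      have h := hyperfocal_sub_mono (p := p) hMH
      rwa [hMs.1] at h
    have hMD : M.IsSubsystemOf D := pPower_le (hS.to_le hM.2.2.2.1.1) hM.1 hMH hWle hD.2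
    rw [pPrimeResidual_unique hD' (exists_pPrimeResidual (hS.to_le hW.1) hD.1)]
    exact le_pPrime hS hM hMs.2 hD.1 hD₁.2.2.1 hMD

/-- Two weakly normal subsystems, each containing the limit of the other, have the same limit. -/
theorem limit_eq {U' V V' : Subgroup Ω} (hS : IsPGroup p S) {H : FusionSystem U} {H' : FusionSystem U'}
    (hH : H.IsWeaklyNormalIn F p) (hH' : H'.IsWeaklyNormalIn F p) {L : FusionSystem V} {L' : FusionSystem V'}
    (hL : L.IsResidualLimitOf H p) (hL' : L'.IsResidualLimitOf H' p) (h1 : L.IsSubsystemOf H')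
    (h2 : L'.IsSubsystemOf H) (P : Subgroup Ω) : L.Hom P = L'.Hom P := by
  obtain ⟨a1, b1⟩ := limit_spec hL hp inferInstance hS hH
  obtain ⟨a2, b2⟩ := limit_spec hL' hp inferInstance hS hH'
  exact Set.Subset.antisymm (b2 L a1 (limit_stable hL) h1 P) (b1 L' a2 (limit_stable hL') h2 P)

omit hp [Finite S] in
/-- A residual limit lies in the system. -/
theorem limit_le {V : Subgroup Ω} {L : FusionSystem V} {H : FusionSystem U} (hL : L.IsResidualLimitOf H p) :
    L.IsSubsystemOf H := by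
  induction hL with
  | stable H p _ _ => exact fun _ _ h => h
  | step H p D D' hD hD' _ ih => exact fun P φ hφ => hD.2.1 P (hD'.2.1.1 P (ih P hφ))

end Cfsg.Agent.FusionSys.StableLimit
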