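import Cfsg.Agent.Lib.Fusion.KernelSubsystem
import Cfsg.Agent.Lib.Fusion.StableLimit

/-!
# One step down a series of kernels on a normal subsystem
-/

set_option autoImplicit false
set_option linter.style.haveILetI false
set_option linter.unusedSectionVars false

namespace Cfsg.Agent.FusionSys.KerStep

open Cfsg Cfsg.FusionSystem Cfsg.Agent.FusionSys Cfsg.Agent.FusionSys.KerClass

variable {Ω : Type*} [Group Ω] {S T U : Subgroup Ω} {F : FusionSystem S} {E : FusionSystem T}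
  {p : ℕ} [hp : Fact p.Prime] [Finite S] {K K' : Subgroup (MulAut T)}

/-- Conjugation of `S` on a strongly closed subgroup. -/
noncomputable def cbar (hT : F.StronglyClosed T) : S →* MulAut T :=
  T.normalizerMonoidHom.comp (Subgroup.inclusion (stronglyClosed_le_normalizer hT))

theorem cbar_apply (hT : F.StronglyClosed T) (s : S) (t : T) :
    ((cbar hT s t : T) : Ω) = (s : Ω) * (t : Ω) * (s : Ω)⁻¹ := rfl

theorem cbar_mem (hT : F.StronglyClosed T) (s : S) : cbar hT s ∈ F.autGroup T :=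
  autInducedBy_le_autGroup F hT.1 ((mem_autInducedBy_iff _).2 ⟨s, s.2, fun _ => rfl⟩)

/-- The elements of `S` whose action on `T` lies in `K`. -/
noncomputable def car (hT : F.StronglyClosed T) (K : Subgroup (MulAut T)) : Subgroup Ω :=
  (K.comap (cbar hT)).map S.subtype

theorem mem_car {hT : F.StronglyClosed T} {s : Ω} : s ∈ car hT K ↔ ∃ hs : s ∈ S, cbar hT ⟨s, hs⟩ ∈ K := by
  constructor
  · rintro ⟨x, hx, rfl⟩; exact ⟨x.2, hx⟩
  · rintro ⟨hs, hk⟩; exact ⟨⟨s, hs⟩, hk, rfl⟩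

/-- A map on an overgroup of `T` intertwines the actions on `T`. -/
theorem cbar_equiv (hT : F.StronglyClosed T) {P : Subgroup Ω} {φ : P →* Ω} (hTP : T ≤ P) {β : MulAut T}
    (hb : ∀ t : T, ((β t : T) : Ω) = φ (Subgroup.inclusion hTP t)) (x : P) (hx : (x : Ω) ∈ S) (hφx : φ x ∈ S) :
    cbar hT ⟨φ x, hφx⟩ = β * cbar hT ⟨x, hx⟩ * β⁻¹ := by
  refine MulEquiv.ext fun t => Subtype.ext ?_
  obtain ⟨u, rfl⟩ := β.surjective t
  rw [MulAut.mul_apply, MulAut.mul_apply, MulAut.inv_apply_self, cbar_apply, hb, hb, ← map_inv, ← map_mul, ← map_mul]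
  exact congrArg φ (Subtype.ext rfl)

/-- The data carried down the series. -/
structure Stage (F : FusionSystem S) (E : FusionSystem T) (p : ℕ) (hT : F.StronglyClosed T) (K : Subgroup (MulAut T))
    (G : FusionSystem U) : Prop where
  carrier : U = car hT K
  le : K ≤ F.autGroup T
  conj : ∀ a ∈ F.autGroup T, ∀ k ∈ K, a * k * a⁻¹ ∈ K
  eaut : E.autGroup T ≤ K
  weak : G.IsWeaklyNormalIn F p
  sub : E.IsSubsystemOf G
  auts : K ≤ G.autGroup T
  cls : ∀ (P : Subgroup Ω), ∀ φ ∈ G.Hom P, ∃ β ∈ K, ClsS F E P φ β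
  contains : ∀ {W : Subgroup Ω} (M : FusionSystem W), M.IsWeaklyNormalIn F p → StableLimit.Stable M p →
    M.IsSubsystemOf G

section

variable {hT : F.StronglyClosed T} {G : FusionSystem U}

theorem Stage.le_U (hst : Stage F E p hT K G) : T ≤ U := by
  rw [hst.carrier]
  intro t ht
  refine mem_car.2 ⟨hT.1 ht, hst.eaut ?_⟩
  exact autInducedBy_le_autGroup E le_rfl ((mem_autInducedBy_iff _).2 ⟨t, ht, fun _ => rfl⟩)

theorem Stage.aut_le (hst : Stage F E p hT K G) : G.autGroup T ≤ K := by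
  intro γ hγ
  have hTU := hst.le_U
  obtain ⟨β, hβ, hβA, e, he, hv⟩ := hst.cls T _ ((mem_autGroup_iff G hTU γ).1 hγ)
  haveI := finite_of_le hT.1
  have he' := restrict_mem E he (le_inf le_rfl le_rfl : T ≤ T ⊓ T)
  obtain ⟨b, hb, hbe⟩ := exists_autGroup_of_range E he' (Subgroup.eq_of_le_of_card_ge
    (range_le E he') (isConj_card (F := E) ⟨_, he', rfl⟩).le)
  have : γ = β * b := MulEquiv.ext fun t => Subtype.ext (by
    refine (hv (Subgroup.inclusion (le_inf le_rfl le_rfl) t)).trans ?_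
    rw [MulAut.mul_apply]
    exact congrArg (fun z : T => ((β z : T) : Ω)) (Subtype.ext (hbe t).symm))
  rw [this]
  exact K.mul_mem hβ (hst.eaut hb)

/-- Class and compatibility with the actions on `T` modulo `K'`. -/
def Rel (F : FusionSystem S) (E : FusionSystem T) (hT : F.StronglyClosed T) (K' : Subgroup (MulAut T))
    (P : Subgroup Ω) (φ : P →* Ω) (β : MulAut T) : Prop :=
  ClsS F E P φ β ∧ ∀ (x : P) (hx : (x : Ω) ∈ S) (hφx : φ x ∈ S),
    (cbar hT ⟨φ x, hφx⟩)⁻¹ * (β * cbar hT ⟨x, hx⟩ * β⁻¹) ∈ K'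

theorem Rel.comp (hAI : AutInvariant F E) (hn : ∀ a ∈ F.autGroup T, ∀ k ∈ K', a * k * a⁻¹ ∈ K')
    {P R : Subgroup Ω} {φ : P →* Ω} {φ' : R →* Ω} {β β' : MulAut T} (hφ : φ ∈ F.Hom P)
    (h : Rel F E hT K' P φ β) (h' : Rel F E hT K' R φ' β') (hR : ∀ x, φ x ∈ R) :
    Rel F E hT K' P (φ'.comp (φ.codRestrict R hR)) (β' * β) := by
  refine ⟨h.1.comp hAI hT hφ h'.1 hR, fun x hx hφx => ?_⟩
  have hm := hom_apply_mem F hφ x
  have h1 := h.2 x hx hm
  have h2 := h'.2 ⟨φ x, hR x⟩ hm hφx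
  show (cbar hT ⟨φ' ⟨φ x, hR x⟩, hφx⟩)⁻¹ * (β' * β * cbar hT ⟨x, hx⟩ * (β' * β)⁻¹) ∈ K'
  have := K'.mul_mem h2 (hn β' h'.1.1 _ h1)
  simpa [mul_assoc] using this

theorem Rel.symm (hAI : AutInvariant F E) (hn : ∀ a ∈ F.autGroup T, ∀ k ∈ K', a * k * a⁻¹ ∈ K')
    {A B : Subgroup Ω} (e : A ≃* B) {β : MulAut T} (he : equivHom e ∈ F.Hom A) (he' : equivHom e.symm ∈ F.Hom B)
    (h : Rel F E hT K' A (equivHom e) β) : Rel F E hT K' B (equivHom e.symm) β⁻¹ := by
  refine ⟨h.1.symm hAI hT e he he', fun y hy hey => ?_⟩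
  obtain ⟨x, rfl⟩ := e.surjective y
  have h1 := hn β⁻¹ (Subgroup.inv_mem _ h.1.1) _ (K'.inv_mem (h.2 x (hom_le F he x.2) hy))
  have e1 : (⟨equivHom e.symm (e x), hey⟩ : S) = ⟨x, hom_le F he x.2⟩ :=
    (by
    have h0 := congrArg Subtype.val (e.symm_apply_apply x)
    exact Subtype.ext h0)
  rw [e1]
  simpa [mul_assoc] using h1

theorem rel_top (hn : ∀ a ∈ F.autGroup T, ∀ k ∈ K', a * k * a⁻¹ ∈ K') {P : Subgroup Ω} {φ : P →* Ω}
    (hTP : T ≤ P) {β : MulAut T} (hβ : β ∈ F.autGroup T)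
    (hb : ∀ t : T, ((β t : T) : Ω) = φ (Subgroup.inclusion hTP t)) : Rel F E hT K' P φ β := by
  refine ⟨cls_of_aut hβ inf_le_right fun x => (hb ⟨(x : Ω), x.2.2⟩).symm, fun x hx hφx => ?_⟩
  rw [cbar_equiv hT hTP hb x hx hφx, inv_mul_cancel]
  exact K'.one_mem

end

variable {hT : F.StronglyClosed T} {G : FusionSystem U}

/-- The maps with a compatible class. -/
noncomputable def relSys (hst : Stage F E p hT K G) (hAI : AutInvariant F E)
    (hn : ∀ a ∈ F.autGroup T, ∀ k ∈ K', a * k * a⁻¹ ∈ K') : FusionSystem U where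
  Hom P := {φ | φ ∈ G.Hom P ∧ ∃ β ∈ K, Rel F E hT K' P φ β}
  le_of_mem h := G.le_of_mem h.1
  injective_of_mem h := G.injective_of_mem h.1
  conj_mem {P g} hP hg := by
    obtain ⟨hgS, hgK⟩ := mem_car.1 (hst.carrier.le hg)
    refine ⟨G.conj_mem hP hg, cbar hT ⟨g, hgS⟩, hgK,
      cls_of_aut (cbar_mem hT _) inf_le_right fun x => rfl, fun x hx hφx => ?_⟩
    have e : (⟨conjHom P g x, hφx⟩ : S) = ⟨g, hgS⟩ * ⟨x, hx⟩ * (⟨g, hgS⟩ : S)⁻¹ := Subtype.ext rfl
    rw [e, map_mul, map_mul, map_inv, inv_mul_cancel]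
    exact K'.one_mem
  comp_mem {P R φ ψ} := by
    rintro ⟨hφ, β, hβ, hc⟩ ⟨hψ, β', hβ', hc'⟩ hR
    exact ⟨G.comp_mem hφ hψ hR, β' * β, K.mul_mem hβ' hβ, hc.comp hAI hn (hst.weak.2.2.1 _ hφ) hc' hR⟩
  inv_mem {P φ} := by
    rintro ⟨hφ, β, hβ, hc⟩
    refine ⟨equivHom (mapEquiv G hφ rfl).symm, ⟨mapEquiv_symm_mem G hφ rfl, β⁻¹, K.inv_mem hβ, ?_⟩,
      fun x => congrArg Subtype.val ((mapEquiv G hφ rfl).symm_apply_apply x)⟩
    exact Rel.symm hAI hn _ (hst.weak.2.2.1 _ (equivHom_mapEquiv G hφ rfl))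
      (hst.weak.2.2.1 _ (mapEquiv_symm_mem G hφ rfl)) hc

/-- Every map has a class compatible with the actions on `T`. -/
theorem exists_rel (hS : IsPGroup p S) (hst : Stage F E p hT K G) (hAI : AutInvariant F E)
    (hle : K' ≤ K) (hn : ∀ a ∈ F.autGroup T, ∀ k ∈ K', a * k * a⁻¹ ∈ K') (hE : E.autGroup T ≤ K')
    {P : Subgroup Ω} {φ : P →* Ω} (hφ : φ ∈ G.Hom P) : ∃ β ∈ K, Rel F E hT K' P φ β := by
  obtain ⟨hGs, hF, hGF, hU, -, -⟩ := id hst.weak
  haveI := finite_of_le hU.1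
  haveI := finite_of_le hT.1
  have hUp := hS.to_le hU.1
  have hTU := hst.le_U
  have hTn : S ≤ Subgroup.normalizer (T : Set Ω) := stronglyClosed_le_normalizer hT
  suffices h : G ≤ relSys hst hAI hn from (h P hφ).2
  refine alperin_ind hUp hGs fun R hR ih γ hγ => ?_
  have hRU : R ≤ U := hR.elim (fun e => e.le) fun e => e.1.1
  have hRS := hRU.trans hU.1
  haveI := finite_of_le hRS
  by_cases hTR : T ≤ R
  · have hγm := (mem_autGroup_iff G hRU γ).1 hγ
    obtain ⟨b, hb, hbe⟩ := exists_autGroup_of_range G (restrict_mem G hγm hTR)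
      ((stronglyClosed_weaklyClosed hT).2 _ (hGF T (restrict_mem G hγm hTR)))
    have hbA : b ∈ F.autGroup T := autGroup_mono hGF T hb
    exact (mem_autGroup_iff _ hRU γ).2 ⟨hγm, b, hst.aut_le hb,
      rel_top hn (P := R) (φ := R.subtype.comp γ.toMonoidHom) hTR hbA hbe⟩
  have hess : G.IsEssential p R := hR.resolve_left fun e => hTR (e ▸ hTU)
  -- a larger subgroup
  set N := R ⊔ normalizerIn T R with hN
  have hNU : N ≤ U := sup_le hRU ((normalizerIn_le T R).trans hTU)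
  have hRN : R < N := by
    refine lt_of_le_of_ne le_sup_left fun he => ?_
    have hM : R ⊔ T ≤ S := sup_le hRS hT.1
    haveI := finite_of_le hM
    have hlt : R < R ⊔ T := lt_of_le_of_ne le_sup_left fun e => hTR (e.ge.trans' le_sup_right)
    obtain ⟨g, hg, hgR⟩ := SetLike.exists_of_lt (lt_normalizerIn (hS.to_le hM) hlt)
    have hgM : g ∈ ((R ⊔ T : Subgroup Ω) : Set Ω) := hg.1
    rw [Subgroup.coe_mul_of_left_le_normalizer_right _ _ (hRS.trans hTn)] at hgM
    obtain ⟨u, hu, t, ht, rfl⟩ := hgM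
    have htN : t ∈ Subgroup.normalizer (R : Set Ω) := by
      have := Subgroup.mul_mem _ (Subgroup.inv_mem _ (Subgroup.le_normalizer hu)) hg.2
      rwa [inv_mul_cancel_left] at this
    exact hgR (R.mul_mem hu (he.ge (Subgroup.mem_sup_right ⟨ht, htN⟩)))
  -- the normal closure of the action of `T`
  set Γ := G.autGroup R with hΓ
  set L := (relSys hst hAI hn).autGroup R with hL
  set C : Subgroup Γ := Subgroup.normalClosure (((autInducedBy T R).subgroupOf Γ : Subgroup Γ) : Set Γ) with hC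
  have hgen : ∀ c ∈ C, (c : MulAut R) ∈ L := by
    intro c hc
    induction hc using Subgroup.closure_induction with
    | mem x hx =>
      obtain ⟨a, ha, hax⟩ := Group.mem_conjugatesOfSet_iff.1 hx
      obtain ⟨g, rfl⟩ := isConj_iff.1 hax
      obtain ⟨y, hy, hye⟩ := (mem_autInducedBy_iff _).1 (Subgroup.mem_subgroupOf.1 ha)
      have hgm := (mem_autGroup_iff G hRU _).1 g.2
      have hgi := (mem_autGroup_iff G hRU _).1 (Subgroup.inv_mem _ g.2)
      have ham := (mem_autGroup_iff G hRU _).1 a.2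
      obtain ⟨bg, hbg, hbgc⟩ := hst.cls R _ hgm
      have hbgA := hst.le hbg
      have hcy : cbar hT ⟨y, hT.1 hy⟩ ∈ E.autGroup T :=
        autInducedBy_le_autGroup E le_rfl ((mem_autInducedBy_iff _).2 ⟨y, hy, fun _ => rfl⟩)
      have hac : ClsS F E R (equivHom (a : MulAut R)) (cbar hT ⟨y, hT.1 hy⟩) :=
        cls_of_aut (cbar_mem hT _) inf_le_right fun z => hye _
      have hgic : ClsS F E R (equivHom ((g : MulAut R)⁻¹)) bg⁻¹ :=
        ClsS.symm hAI hT (g : MulAut R) (hGF _ hgm) (hGF _ hgi) (hbgc.congr fun _ => rfl)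
      have h1 := hgic.comp hAI hT (hGF _ hgi) hac fun z => ((g : MulAut R)⁻¹ z).2
      have h2 := h1.comp hAI hT (hGF _ (G.comp_mem hgi ham fun z => ((g : MulAut R)⁻¹ z).2)) hbgc
        fun z => ((a : MulAut R) ((g : MulAut R)⁻¹ z)).2
      set β := bg * (cbar hT ⟨y, hT.1 hy⟩ * bg⁻¹)
      have hβK' : β ∈ K' := by
        have := hn bg hbgA _ (hE hcy)
        rwa [mul_assoc] at this
      refine (mem_autGroup_iff _ hRU _).2 ⟨(mem_autGroup_iff G hRU _).1 (g * a * g⁻¹).2, β, hle hβK',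
        h2.congr fun z => rfl, fun x hx hφx => ?_⟩
      set z : R := (g : MulAut R)⁻¹ x
      have hq : ((((g * a * g⁻¹ : Γ) : MulAut R) x * x⁻¹ : R) : Ω) ∈ T := by
        have e : ((g * a * g⁻¹ : Γ) : MulAut R) x * x⁻¹ = (g : MulAut R) ((a : MulAut R) z * z⁻¹) := by
          rw [map_mul, map_inv, show (g : MulAut R) z = x from MulAut.apply_inv_self _ _ _]
          rfl
        rw [e]
        refine stronglyClosed_apply_mem hT (hGF _ hgm) _ ?_
        rw [Subgroup.coe_mul, Subgroup.coe_inv, hye, show y * (z : Ω) * y⁻¹ * (z : Ω)⁻¹ =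
          y * ((z : Ω) * y⁻¹ * (z : Ω)⁻¹) by group]
        exact T.mul_mem hy ((Subgroup.mem_normalizer_iff.1 (hTn (hRS z.2)) _).1 (T.inv_mem hy))
      set c' : Ω := ((((g * a * g⁻¹ : Γ) : MulAut R) x : R) : Ω) with hc'
      have hc'S : c' ∈ S := hRS (SetLike.coe_mem _)
      have hd : cbar hT ⟨c' * (x : Ω)⁻¹, S.mul_mem hc'S (S.inv_mem hx)⟩ ∈ K' :=
        hE (autInducedBy_le_autGroup E le_rfl ((mem_autInducedBy_iff _).2 ⟨_, hq, fun _ => rfl⟩))
      set c := cbar hT ⟨c', hc'S⟩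
      set cx := cbar hT ⟨x, hx⟩
      have hd' : c * cx⁻¹ ∈ K' := by
        rw [← map_inv, ← map_mul]; exact hd
      have hcA : c⁻¹ ∈ F.autGroup T := Subgroup.inv_mem _ (cbar_mem hT _)
      have hxA : cx⁻¹ ∈ F.autGroup T := Subgroup.inv_mem _ (cbar_mem hT _)
      have h3 : c⁻¹ * cx ∈ K' := by
        have := hn _ hcA _ (K'.inv_mem hd')
        simpa [mul_assoc] using this
      have h4 : cx⁻¹ * β * cx ∈ K' := by
        have := hn _ hxA _ hβK'
        simpa using this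
      have := K'.mul_mem h3 (K'.mul_mem h4 (K'.inv_mem hβK'))
      show c⁻¹ * (β * cx * β⁻¹) ∈ K'
      simpa [mul_assoc] using this
    | one => exact Subgroup.one_mem _
    | mul a b _ _ ha hb => exact Subgroup.mul_mem _ ha hb
    | inv a _ ha => exact Subgroup.inv_mem _ ha
  -- the Frattini argument
  set CM := C.map Γ.subtype with hCM
  have hCMle : CM ≤ Γ := Subgroup.map_subtype_le _
  have hCn : Γ ≤ Subgroup.normalizer (CM : Set (MulAut R)) := fun a ha =>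
    mem_normalizer_of_conj_mem a (by
      rintro _ ⟨c, hc, rfl⟩
      exact ⟨⟨a, ha⟩ * c * (⟨a, ha⟩ : Γ)⁻¹, Subgroup.normalClosure_normal.conj_mem c hc _, rfl⟩) (by
      rintro _ ⟨c, hc, rfl⟩
      exact ⟨(⟨a, ha⟩ : Γ)⁻¹ * c * ⟨a, ha⟩, by simpa using Subgroup.normalClosure_normal.conj_mem c hc (⟨a, ha⟩ : Γ)⁻¹, rfl⟩)
  have hA := isSyl_of_fullyAutomized (fullyNormalized_imp hUp hGs hess.2.1).2
  have hsyl := hA.inf_normal hCMle hCn
  set S₀ := autInducedBy U R ⊓ CM with hS₀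
  haveI : (CM.subgroupOf Γ).Normal := by
    rw [hCM, Subgroup.subgroupOf, Subgroup.comap_map_eq_self_of_injective Γ.subtype_injective]
    exact Subgroup.normalClosure_normal
  have hsyl' : IsSyl p (S₀.subgroupOf Γ) (CM.subgroupOf Γ) :=
    ⟨fun x hx => hsyl.1 hx, isPGroup_subgroupOf hsyl.2.1, by
      rw [Subgroup.relIndex_subgroupOf hCMle]; exact hsyl.2.2⟩
  obtain ⟨Q, hQ⟩ := hsyl'.toSylow
  have hQmap : (Q : Subgroup ↥(CM.subgroupOf Γ)).map (CM.subgroupOf Γ).subtype = S₀.subgroupOf Γ := by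
    rw [hQ, Subgroup.subgroupOf_map_subtype, inf_eq_left.2 hsyl'.1]
  obtain ⟨n, hnn, b, hb, hnb⟩ := Subgroup.mem_sup_of_normal_right.1
    ((Sylow.normalizer_sup_eq_top Q).ge (Subgroup.mem_top (⟨γ, hγ⟩ : Γ)))
  replace hnn : n ∈ Subgroup.normalizer ((S₀.subgroupOf Γ : Subgroup _) : Set Γ) := by
    rw [← hQmap]; exact hnn
  have hbL : (b : MulAut R) ∈ L := by
    have hb' : b ∈ C := by
      rw [hCM, Subgroup.subgroupOf, Subgroup.comap_map_eq_self_of_injective Γ.subtype_injective] at hb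
      exact hb
    exact hgen b hb'
  have hne := (mem_autGroup_iff G hRU _).1 n.2
  obtain ⟨ψ, hψ, hψe⟩ := (fullyNormalized_receptive hUp hGs hess.2.1).2 R _ hne (equivHom_range (n : MulAut R))
  have hRext : R ≤ extender U R (R.subtype.comp (n : MulAut R).toMonoidHom) := le_extender G hne
  have hText : normalizerIn T R ≤ extender U R (R.subtype.comp (n : MulAut R).toMonoidHom) := by
    intro g hg
    obtain ⟨c, hc, hce⟩ := exists_conjAut (K := T) (P := R) hg.1 hg.2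
    have hcU : c ∈ autInducedBy U R := autInducedBy_mono hTU hc
    have hcΓ : c ∈ Γ := autInducedBy_le_autGroup G hRU hcU
    have hcC : c ∈ CM := ⟨⟨c, hcΓ⟩, Subgroup.subset_normalClosure (Subgroup.mem_subgroupOf.2 hc), rfl⟩
    have h1 := (Subgroup.mem_normalizer_iff.1 hnn ⟨c, hcΓ⟩).1 (Subgroup.mem_subgroupOf.2 ⟨hcU, hcC⟩)
    obtain ⟨h, hh, hhe⟩ := (mem_autInducedBy_iff _).1 (Subgroup.mem_subgroupOf.1 h1).1
    refine Subgroup.subset_closure ⟨hTU hg.1, hg.2, h, hh, fun x hx => ?_⟩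
    have h2 := hhe ((n : MulAut R) x)
    simp only [Subgroup.coe_mul, Subgroup.coe_inv, MulAut.mul_apply] at h2
    rw [show ((n : MulAut R))⁻¹ ((n : MulAut R) x) = x from (n : MulAut R).symm_apply_apply x] at h2
    refine Eq.trans ?_ h2
    show (((n : MulAut R) ⟨_, hx⟩ : R) : Ω) = _
    rw [show (⟨g * (x : Ω) * g⁻¹, hx⟩ : R) = c x from Subtype.ext (hce x).symm]
  have hNext := sup_le hRext hText
  have hψ' := ih N hRN (restrict_mem G hψ hNext)
  have hnL : (n : MulAut R) ∈ L := (mem_autGroup_iff _ hRU _).2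
    (hom_congr _ (restrict_mem _ hψ' hRN.le) fun x => (hψe x x.2 (hNext (hRN.le x.2))).symm)
  rw [show γ = ((n * b : Γ) : MulAut R) from (congrArg Subtype.val hnb).symm]
  exact Subgroup.mul_mem _ hnL hbL

theorem rel_pow (hAI : AutInvariant F E) (hn : ∀ a ∈ F.autGroup T, ∀ k ∈ K', a * k * a⁻¹ ∈ K')
    {P : Subgroup Ω} {a : MulAut P} (ha : ∀ j : ℕ, equivHom (a ^ j) ∈ F.Hom P)
    {β : MulAut T} (h : Rel F E hT K' P (equivHom a) β) : ∀ j : ℕ, Rel F E hT K' P (equivHom (a ^ j)) (β ^ j) := by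
  intro j
  induction j with
  | zero =>
    rw [pow_zero, pow_zero]
    refine ⟨cls_of_aut (Subgroup.one_mem _) inf_le_right fun _ => rfl, fun x hx hφx => ?_⟩
    rw [one_mul, inv_one, mul_one, show (⟨equivHom (1 : MulAut P) x, hφx⟩ : S) = ⟨x, hx⟩ from Subtype.ext rfl,
      inv_mul_cancel]
    exact K'.one_mem
  | succ j ih =>
    have h1 := Rel.comp hAI hn (ha j) ih h fun x => ((a ^ j) x).2
    rw [← pow_succ'] at h1
    refine ⟨h1.1.congr fun x => ?_, fun x hx hφx => ?_⟩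
    · show (((a ^ (j + 1)) x : P) : Ω) = _
      rw [pow_succ']; rfl
    · have h3 := h1.2 x hx
      have e : equivHom (a ^ (j + 1)) x = equivHom a ⟨equivHom (a ^ j) x, ((a ^ j) x).2⟩ := by
        show (((a ^ (j + 1)) x : P) : Ω) = _
        rw [pow_succ']; rfl
      rw [show (⟨equivHom (a ^ (j + 1)) x, hφx⟩ : S) = ⟨_, e ▸ hφx⟩ from Subtype.ext e]
      exact h3 _

/-- A `p'`-automorphism has a compatible class in `K'` when `K'` has `p`-power index. -/
theorem rel_pprime (hS : IsPGroup p S) (hst : Stage F E p hT K G) (hAI : AutInvariant F E) (hle : K' ≤ K)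
    (hn : ∀ a ∈ F.autGroup T, ∀ k ∈ K', a * k * a⁻¹ ∈ K') (hE : E.autGroup T ≤ K')
    (hpow : ∀ β ∈ K, ∃ j : ℕ, β ^ p ^ j ∈ K') {P : Subgroup Ω} (hP : P ≤ U) {a : MulAut P} (ha : a ∈ G.autGroup P)
    (hco : (orderOf a).Coprime p) : ∃ β ∈ K', Rel F E hT K' P (equivHom a) β := by
  obtain ⟨β, hβ, hr⟩ := exists_rel hS hst hAI hle hn hE ((mem_autGroup_iff G hP a).1 ha)
  obtain ⟨j, hj⟩ := hpow β hβ
  obtain ⟨m, hm0, hm1⟩ := Nat.chineseRemainder (hco.pow_right j).symm 0 1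
  have hall := rel_pow hAI hn (a := a) (fun i => hst.weak.2.2.1 _ ((mem_autGroup_iff G hP _).1 (pow_mem ha i))) hr m
  rw [pow_eq_pow_of_modEq hm1 (pow_orderOf_eq_one a), pow_one] at hall
  refine ⟨β ^ m, ?_, hall⟩
  obtain ⟨d, rfl⟩ := Nat.modEq_zero_iff_dvd.1 hm0
  rw [pow_mul]
  exact pow_mem hj d

/-- The step of `p`-power index. -/
theorem step_p (hS : IsPGroup p S) (hE : E.IsNormalIn F p) (hst : Stage F E p hT K G) (hle : K' ≤ K)
    (hn : ∀ a ∈ F.autGroup T, ∀ k ∈ K', a * k * a⁻¹ ∈ K') (hEK : E.autGroup T ≤ K')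
    (hpow : ∀ β ∈ K, ∃ j : ℕ, β ^ p ^ j ∈ K') :
    ∃ (W : Subgroup Ω) (D : FusionSystem W), Stage F E p hT K' D := by
  obtain ⟨⟨hEs, hF, hEF, -, hAI, hfrE⟩, -⟩ := id hE
  obtain ⟨hGs, -, hGF, hU, -, hfrG⟩ := id hst.weak
  haveI := finite_of_le hU.1
  haveI := finite_of_le hT.1
  set W := car hT K' with hWdef
  have hWU : W ≤ U := fun s hs => by
    obtain ⟨hsS, hk⟩ := mem_car.1 hs
    exact hst.carrier.ge (mem_car.2 ⟨hsS, hle hk⟩)
  have hTW : T ≤ W := fun t ht => mem_car.2 ⟨hT.1 ht, hEK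
    (autInducedBy_le_autGroup E le_rfl ((mem_autInducedBy_iff _).2 ⟨t, ht, fun _ => rfl⟩))⟩
  have hW : F.StronglyClosed W := by
    refine ⟨hWU.trans hU.1, fun R hR φ hφ x => ?_⟩
    obtain ⟨α, hα, e, he, hev⟩ := hfrG R (hR.trans hWU) φ hφ
    obtain ⟨hxS, hxK⟩ := mem_car.1 (hR x.2)
    obtain ⟨β, hβ, hr⟩ := exists_rel hS hst hAI hle hn hEK he
    have heU := hom_apply_mem G he x
    have h1 : cbar hT ⟨e x, hU.1 heU⟩ ∈ K' := by
      have h2 := hr.2 x hxS (hU.1 heU)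
      have h3 := K'.mul_mem (hn β (hst.le hβ) _ hxK) (K'.inv_mem h2)
      simpa [mul_assoc] using h3
    have hαm := (mem_autGroup_iff F hU.1 α).1 hα
    obtain ⟨b, hb, hbe⟩ := exists_autGroup_of_range F (restrict_mem F hαm hst.le_U)
      ((stronglyClosed_weaklyClosed hT).2 _ (restrict_mem F hαm hst.le_U))
    rw [hev x heU]
    refine mem_car.2 ⟨hU.1 (α _).2, ?_⟩
    have h3 := cbar_equiv hT (φ := U.subtype.comp α.toMonoidHom) hst.le_U hbe ⟨e x, heU⟩ (hU.1 heU) (hU.1 (α _).2)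
    exact h3.symm ▸ hn b hb _ h1
  haveI := finite_of_le hW.1
  have hhyp : G.hyperfocalSubgroup p ≤ W := by
    refine (Subgroup.closure_le _).2 ?_
    rintro _ ⟨P, a, x, hP, ha, rfl⟩
    haveI := finite_of_le (hP.trans hU.1)
    have key : ∀ b ∈ pResidual p (G.autGroup P), ∀ y : P,
        (cbar hT ⟨(y : Ω), hU.1 (hP y.2)⟩)⁻¹ * cbar hT ⟨(((b : MulAut P) y : P) : Ω), hU.1 (hP (SetLike.coe_mem _))⟩ ∈ K' := by
      intro b hb
      induction hb using Subgroup.closure_induction with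
      | mem b hb =>
        intro y
        obtain ⟨β, hβ, hr⟩ := rel_pprime hS hst hAI hle hn hEK hpow hP b.2
          (by rw [Subgroup.orderOf_coe]; exact hb)
        have h1 := hr.2 y (hU.1 (hP y.2)) (hU.1 (hP (SetLike.coe_mem _)))
        set c := cbar hT ⟨(y : Ω), hU.1 (hP y.2)⟩
        set c' := cbar hT ⟨equivHom (b : MulAut P) y, hU.1 (hP (SetLike.coe_mem _))⟩
        have hc : c⁻¹ ∈ F.autGroup T := Subgroup.inv_mem _ (cbar_mem hT _)
        -- `c'` differs from `c` by an element of `K'`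
        have h2 := K'.mul_mem (K'.mul_mem (hn c⁻¹ hc β hβ) (K'.inv_mem hβ)) (K'.inv_mem h1)
        show c⁻¹ * c' ∈ K'
        simpa [mul_assoc] using h2
      | one => intro y; simp
      | mul b b' _ _ hb hb' =>
        intro y
        have := K'.mul_mem (hb' y) (hb ((b' : MulAut P) y))
        simpa [mul_assoc] using this
      | inv b _ hb =>
        intro y
        have := K'.inv_mem (hb ((b : MulAut P)⁻¹ y))
        simpa [mul_assoc] using this
    have h1 := key a ha x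
    refine mem_car.2 ⟨S.mul_mem (S.inv_mem (hU.1 (hP x.2))) (hU.1 (hP (SetLike.coe_mem _))), ?_⟩
    rw [← map_inv, ← map_mul] at h1
    exact h1
  obtain ⟨D, hD, hDi⟩ := StableLimit.pStep hS hst.weak hW hWU hhyp
  have hle' : K' ≤ F.autGroup T := hle.trans hst.le
  refine ⟨W, D, rfl, hle', hn, hEK, hD, pPower_le (hS.to_le hT.1) hEs hst.sub hTW hDi, ?_, fun P φ hφ => ?_, ?_⟩
  · -- automorphisms of `T`
    have hnA : F.autGroup T ≤ Subgroup.normalizer (K' : Set (MulAut T)) := fun a ha =>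
      mem_normalizer_of_conj_mem a (fun b hb => hn a ha b hb)
        (fun b hb => by simpa using hn a⁻¹ (Subgroup.inv_mem _ ha) b hb)
    have hsyl := (isSyl_of_fullyAutomized (fullyNormalized_imp hS hF
      (fullyNormalized_of_stronglyClosed hT)).2).inf_normal hle' hnA
    obtain ⟨Q, hQ⟩ := hsyl.toSylow
    haveI := Cfsg.Agent.PBasic.pResidual_normal_inst p K'
    intro k hk
    have hsup : (⟨k, hk⟩ : K') ∈ (Q : Subgroup K') ⊔ pResidual p K' := by
      rw [Cfsg.Agent.PBasic.sylow_sup_pResidual]; exact Subgroup.mem_top _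
    rw [← SetLike.mem_coe, Subgroup.mul_normal] at hsup
    obtain ⟨c, hc, r, hr, hcr⟩ := hsup
    rw [hQ] at hc
    rw [show k = (c : MulAut T) * r from (congrArg Subtype.val hcr).symm]
    refine Subgroup.mul_mem _ ?_ ?_
    · obtain ⟨s, hs, hse⟩ := (mem_autInducedBy_iff _).1 (Subgroup.mem_subgroupOf.1 hc).1
      have hcs : (c : MulAut T) = cbar hT ⟨s, hs⟩ := MulEquiv.ext fun t => Subtype.ext (hse t)
      exact autInducedBy_le_autGroup D hTW ((mem_autInducedBy_iff _).2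
        ⟨s, mem_car.2 ⟨hs, hcs ▸ c.2⟩, hse⟩)
    · exact hDi.2.2 T hTW ⟨Subgroup.inclusion (hle.trans hst.auts) r,
        Cfsg.Agent.PBasic.map_pResidual_le (p := p) _ ⟨r, hr, rfl⟩, rfl⟩
  · -- classes
    let X : FusionSystem W :=
      { Hom := fun P => {φ | φ ∈ D.Hom P ∧ ∃ β ∈ K', ClsS F E P φ β}
        le_of_mem := fun h => D.le_of_mem h.1
        injective_of_mem := fun h => D.injective_of_mem h.1
        conj_mem := fun {P g} hP hg => ⟨D.conj_mem hP hg, cbar hT ⟨g, (mem_car.1 hg).1⟩, (mem_car.1 hg).2,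
          cls_of_aut (cbar_mem hT _) inf_le_right fun _ => rfl⟩
        comp_mem := fun {P Q φ ψ} h1 h2 h => by
          obtain ⟨hφ, β, hβ, hc⟩ := h1
          obtain ⟨hψ, β', hβ', hc'⟩ := h2
          exact ⟨D.comp_mem hφ hψ h, β' * β, K'.mul_mem hβ' hβ, hc.comp hAI hT (hD.2.2.1 _ hφ) hc' h⟩
        inv_mem := fun {P φ} h => by
          obtain ⟨hφ, β, hβ, hc⟩ := h
          refine ⟨equivHom (mapEquiv D hφ rfl).symm, ⟨mapEquiv_symm_mem D hφ rfl, β⁻¹, K'.inv_mem hβ, ?_⟩,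
            fun x => congrArg Subtype.val ((mapEquiv D hφ rfl).symm_apply_apply x)⟩
          exact ClsS.symm hAI hT _ (hD.2.2.1 _ (equivHom_mapEquiv D hφ rfl))
            (hD.2.2.1 _ (mapEquiv_symm_mem D hφ rfl)) (hc.congr fun _ => rfl) }
    have hX : D ≤ X := by
      refine le_of_residual (hS.to_le hW.1) hD.1 hDi.1 fun R hR => ?_
      rw [Cfsg.pResidual, MonoidHom.map_closure, Subgroup.closure_le]
      rintro _ ⟨a, ha, rfl⟩
      obtain ⟨β, hβ, hr⟩ := rel_pprime hS hst hAI hle hn hEK hpow (hR.trans hWU) a.2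
        (by rw [Subgroup.orderOf_coe]; exact ha)
      exact (mem_autGroup_iff X hR _).2
        ⟨(mem_autGroup_iff D hR _).1 (hDi.2.2 R hR ⟨a, Subgroup.subset_closure ha, rfl⟩), β, hβ, hr.1⟩
    exact (hX P hφ).2
  · intro W' M hM hMs
    have hMG := hst.contains M hM hMs
    haveI := finite_of_le hM.2.2.2.1.1
    have hW' : W' ≤ W := by
      have h := (hyperfocal_sub_mono (p := p) hMG).trans hhyp
      rwa [hMs.1] at h
    exact pPower_le (hS.to_le hM.2.2.2.1.1) hM.1 hMG hW' hDi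

/-- The step of index prime to `p`. -/
theorem step_prime (hS : IsPGroup p S) (hE : E.IsNormalIn F p) (hst : Stage F E p hT K G) (hle : K' ≤ K)
    (hn : ∀ a ∈ F.autGroup T, ∀ k ∈ K', a * k * a⁻¹ ∈ K') (hEK : E.autGroup T ≤ K')
    (hpow : ∀ β ∈ K, ∃ n : ℕ, n.Coprime p ∧ β ^ n ∈ K') :
    ∃ (W : Subgroup Ω) (D : FusionSystem W), Stage F E p hT K' D := by
  obtain ⟨⟨hEs, hF, hEF, -, hAI, hfrE⟩, -⟩ := id hE
  obtain ⟨hGs, -, hGF, hU, hGinv, hfrG⟩ := id hst.weak
  haveI := finite_of_le hU.1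
  haveI := finite_of_le hT.1
  have hUp := hS.to_le hU.1
  have hTU := hst.le_U
  have hTG : G.StronglyClosed T := ⟨hTU, fun R hR φ hφ => hT.2 R hR φ (hGF R hφ)⟩
  have hauts : ∀ {β}, β ∈ K → β ∈ G.autGroup T := fun h => hst.auts h
  have hclsG : ∀ {P : Subgroup Ω} {φ : P →* Ω} {β}, β ∈ K → ClsS F E P φ β → ClsS G E P φ β :=
    fun hβ h => ⟨hauts hβ, h.2⟩
  have hclsF : ∀ {P : Subgroup Ω} {φ : P →* Ω} {β}, ClsS G E P φ β → ClsS F E P φ β :=
    fun h => ⟨autGroup_mono hGF T h.1, h.2⟩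
  have hpel : ∀ a ∈ K, (∃ k : ℕ, a ^ p ^ k = 1) → a ∈ K' := by
    rintro a ha ⟨k, hk⟩
    obtain ⟨n, hco, hm⟩ := hpow a ha
    obtain ⟨m, hm0, hm1⟩ := Nat.chineseRemainder (hco.pow_right k) 0 1
    have h1 : a ^ m = a := by rw [pow_eq_pow_of_modEq hm1 hk, pow_one]
    obtain ⟨d, rfl⟩ := Nat.modEq_zero_iff_dvd.1 hm0
    rw [← h1, pow_mul]
    exact pow_mem hm d
  have hkern : Kern G E p K' :=
    { satF := hGs
      satE := hEs
      sub := hst.sub
      closed := hTG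
      inv := fun P hP φ hφ α hα => hAI P hP φ hφ α (autGroup_mono hGF T hα)
      frat := fun P hP φ hφ => by
        obtain ⟨β, hβ, hc⟩ := hst.cls P φ hφ
        obtain ⟨-, φ₀, h₀, he⟩ := Cls.restrict hc (le_inf le_rfl hP)
        exact ⟨β, hauts hβ, φ₀, h₀, fun x _ => he x⟩
      le := fun k hk => hauts (hle hk)
      conj := fun a ha k hk => hn a (autGroup_mono hGF T ha) k hk
      auts := hEK
      pel := fun a ha hk => hpel a (hst.aut_le ha) hk }
  set D := genSys hUp hkern with hD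
  have hDG : D.IsSubsystemOf G := fun P => genSys_le hUp hkern P
  have hinv : AutInvariant F D := by
    intro P hP φ hφ α hα
    have hαm := (mem_autGroup_iff F hU.1 α).1 hα
    have hmap : ∀ Q, InH G E Q → (kerSys hUp hkern).Hom Q ⊆ (CentSub.conjSys D α).Hom Q := by
      intro Q hQ ψ hψ
      refine ⟨genSys_of_inH hUp hkern hQ hψ, fun hQU => ?_⟩
      obtain ⟨hψG, β, hβ, hβc⟩ := hψ
      set A := (Q.subgroupOf U).map (U.subtype.comp α.toMonoidHom)
      obtain ⟨χ, hχ, hχe⟩ := hGinv Q hQU ψ hψG α hα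
      have hαQ := restrict_mem F hαm hQU
      set e := mapEquiv F hαQ (range_restrict _ hQU) with he
      have he₁ : equivHom e ∈ F.Hom Q := equivHom_mapEquiv F _ _
      have he₂ : equivHom e.symm ∈ F.Hom A := mapEquiv_symm_mem F _ _
      obtain ⟨b, hb, hbc⟩ := exists_clsS hT hfrE hαm
      have hbQ : ClsS F E Q (equivHom e) b := (hbc.restrict hQU).congr fun _ => rfl
      have h1 := (hbQ.symm hAI hT e he₁ he₂).comp hAI hT he₂ (hclsF hβc) fun y => (e.symm y).2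
      have h2 := h1.comp hAI hT (F.comp_mem he₂ (hGF _ hψG) fun y => (e.symm y).2) hbc
        fun y => hom_apply_mem G hψG _
      have hconj : b * (β * b⁻¹) ∈ K' := by
        have := hn b hb β hβ; rwa [mul_assoc] at this
      have hcF : ClsS F E A χ (b * (β * b⁻¹)) := h2.congr fun y => by
        obtain ⟨_, x, hx, rfl⟩ := y
        refine (hχe ⟨x, hx⟩ (hom_apply_mem G hψG _) ⟨x, hx, rfl⟩).trans ?_
        refine congrArg (fun z : U => ((α z : U) : Ω)) (Subtype.ext (congrArg ψ ?_)).symm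
        exact e.injective ((e.apply_symm_apply _).trans (Subtype.ext rfl))
      have hAH : InH G E A := by
        refine ⟨by rintro _ ⟨y, -, rfl⟩; exact (α y).2,
          centric_of_conj hst.weak.2.2 hQ.2.1 ⟨_, hαQ, range_restrict _ hQU⟩, ?_⟩
        refine centric_of_conj hE.1.2.2 hQ.2.2 ⟨_, restrict_mem F hαQ inf_le_left, ?_⟩
        ext z
        constructor
        · rintro ⟨x, rfl⟩
          exact ⟨⟨⟨x, hQU x.2.1⟩, x.2.1, rfl⟩, stronglyClosed_apply_mem hT hαQ (Subgroup.inclusion inf_le_left x) x.2.2⟩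
        · rintro ⟨⟨x, hx, rfl⟩, hzT⟩
          have hxT : (x : Ω) ∈ T := by
            have hi := (mem_autGroup_iff F hU.1 _).1 (Subgroup.inv_mem _ hα)
            have h3 := stronglyClosed_apply_mem hT hi (α x) hzT
            rwa [show (U.subtype.comp (α⁻¹ : MulAut U).toMonoidHom) (α x) = x from
              congrArg Subtype.val (α.symm_apply_apply x)] at h3
          exact ⟨⟨x, hx, hxT⟩, rfl⟩
      exact ⟨χ, genSys_of_inH hUp hkern hAH ⟨hχ, _, hconj, hclsG (hle hconj) hcF⟩,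
        fun x hψx hαx => hχe x hψx hαx⟩
    exact (hφ.2 _ hmap).2 hP
  have hDw : D.IsWeaklyNormalIn F p := by
    refine ⟨genSys_saturated hUp hkern, hF, fun P φ hφ => hGF P (hDG P hφ), hU, hinv, fun P hP φ hφ => ?_⟩
    obtain ⟨α, hα, e, he, hev⟩ := hfrG P hP φ hφ
    obtain ⟨α', hα', d, hd, hdv⟩ := genSys_frattini hUp hkern he
    refine ⟨α * α', Subgroup.mul_mem _ hα (autGroup_mono hGF U hα'), d, hd, fun x hx => ?_⟩
    rw [hev x (hom_apply_mem G he x), MulAut.mul_apply]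
    exact congrArg (fun z : U => ((α z : U) : Ω)) (Subtype.ext (hdv x hx))
  refine ⟨U, D, hst.carrier.trans (le_antisymm (fun s hs => ?_) fun s hs => ?_), hle.trans hst.le, hn, hEK, hDw,
    sub_genSys hUp hkern, fun k hk => ?_, fun P φ hφ => ?_, fun M hM hMs => ?_⟩
  · obtain ⟨hsS, hk⟩ := mem_car.1 hs
    obtain ⟨j, hj⟩ := hS ⟨s, hsS⟩
    exact mem_car.2 ⟨hsS, hpel _ hk ⟨j, by rw [← map_pow, hj, map_one]⟩⟩
  · obtain ⟨hsS, hk⟩ := mem_car.1 hs
    exact mem_car.2 ⟨hsS, hle hk⟩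
  · have hkG := hauts (hle hk)
    have hm := (mem_autGroup_iff G hTU k).1 hkG
    refine (mem_autGroup_iff D hTU k).2 (genSys_of_centric hUp hkern ?_ ⟨hm, k, hk,
      cls_of_aut hkG inf_le_right fun x => rfl⟩)
    rw [inf_idem]
    have := (inH_top hkern).2.2
    rwa [inf_eq_right.2 hTU] at this
  · obtain ⟨-, β, hβ, hc⟩ := genSys_le_ker hUp hkern P hφ
    exact ⟨β, hβ, hclsF hc⟩
  · have hMG := hst.contains M hM hMs
    have h1 := StableLimit.le_pPrime hS hM hMs.2 hGs hGF hMG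
    exact fun P φ hφ => (exists_pPrimeResidual hUp hGs).2.2 D (genSys_saturated hUp hkern)
      (genSys_index hUp hkern) P (h1 P hφ)

end Cfsg.Agent.FusionSys.KerStep
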