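import Cfsg.Agent.Lib.Fusion.KernelClass
import Cfsg.Agent.Lib.Fusion.CentralizerClosed
import Cfsg.Agent.Lib.Fusion.PPrimeResidual
import Cfsg.Agent.Lib.Fusion.Normal

/-!
# The subsystem of index prime to `p` attached to a kernel on a normal subsystem
-/

set_option autoImplicit false
set_option linter.style.haveILetI false
set_option linter.unusedSectionVars false

namespace Cfsg.Agent.FusionSys.KerClass

open Cfsg Cfsg.FusionSystem Cfsg.Agent.FusionSys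

variable {Ω : Type*} [Group Ω] {S T : Subgroup Ω} {F : FusionSystem S} {E : FusionSystem T}
  {p : ℕ} [hp : Fact p.Prime] [Finite S] {K : Subgroup (MulAut T)}

/-- The maps whose class lies in the kernel. -/
noncomputable def kerSys (hS : IsPGroup p S) (h : Kern F E p K) : FusionSystem S where
  Hom P := {φ | φ ∈ F.Hom P ∧ ∃ β ∈ K, ClsS F E P φ β}
  le_of_mem hφ := F.le_of_mem hφ.1
  injective_of_mem hφ := F.injective_of_mem hφ.1
  conj_mem hP hg := ⟨F.conj_mem hP hg, h.conj_class hS hg fun _ => rfl⟩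
  comp_mem {P R φ ψ} := by
    rintro ⟨hφ, β, hβ, hc⟩ ⟨hψ, β', hβ', hc'⟩ hR
    exact ⟨F.comp_mem hφ hψ hR, β' * β, K.mul_mem hβ' hβ, hc.comp h.inv h.closed hφ hc' hR⟩
  inv_mem {P φ} := by
    rintro ⟨hφ, β, hβ, hc⟩
    refine ⟨equivHom (mapEquiv F hφ rfl).symm, ⟨mapEquiv_symm_mem F hφ rfl, β⁻¹, K.inv_mem hβ, ?_⟩,
      fun x => congrArg Subtype.val ((mapEquiv F hφ rfl).symm_apply_apply x)⟩
    exact ClsS.symm h.inv h.closed _ (equivHom_mapEquiv F hφ rfl) (mapEquiv_symm_mem F hφ rfl)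
      (hc.congr fun _ => rfl)

variable (hS : IsPGroup p S) (h : Kern F E p K)

theorem kerSys_le : kerSys hS h ≤ F := fun _ _ hφ => hφ.1

theorem kerSys_paut {P : Subgroup Ω} (hP : P ≤ S) {a : MulAut P} (ha : a ∈ F.autGroup P)
    (hk : ∃ k : ℕ, a ^ p ^ k = 1) : a ∈ (kerSys hS h).autGroup P :=
  (mem_autGroup_iff _ hP a).2 ⟨(mem_autGroup_iff F hP a).1 ha, h.pElement_class hS hP ha hk⟩

/-- A conjugate under an automorphism of `S` of a map with class in the kernel. -/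
theorem kerSys_twist {P : Subgroup Ω} {φ : P →* Ω} (hφ : φ ∈ (kerSys hS h).Hom P) {α : MulAut S}
    (hα : α ∈ F.autGroup S) :
    ∃ χ ∈ (kerSys hS h).Hom ((P.subgroupOf S).map (S.subtype.comp α.toMonoidHom)),
      ∀ (x : P) (hx : (x : Ω) ∈ S) (hφx : φ x ∈ S)
        (hαx : ((α ⟨x, hx⟩ : S) : Ω) ∈ (P.subgroupOf S).map (S.subtype.comp α.toMonoidHom)),
        χ ⟨(α ⟨x, hx⟩ : S), hαx⟩ = ((α ⟨φ x, hφx⟩ : S) : Ω) := by
  obtain ⟨hφF, β, hβ, hc⟩ := hφ
  have hαm := (mem_autGroup_iff F le_rfl α).1 hα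
  have hP := hom_le F hφF
  set A := (P.subgroupOf S).map (S.subtype.comp α.toMonoidHom) with hA
  set e := mapEquiv F (restrict_mem F hαm hP) (range_restrict _ hP) with he
  have he₁ : equivHom e ∈ F.Hom P := equivHom_mapEquiv F _ _
  have he₂ : equivHom e.symm ∈ F.Hom A := mapEquiv_symm_mem F _ _
  obtain ⟨b, hb, hbc⟩ := exists_clsS h.closed h.frat hαm
  have hbP : ClsS F E P (equivHom e) b := (hbc.restrict hP).congr fun _ => rfl
  have h1 := ClsS.comp h.inv h.closed he₂ (hbP.symm h.inv h.closed e he₁ he₂) hc fun y => (e.symm y).2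
  have hm1 := F.comp_mem he₂ hφF fun y => (e.symm y).2
  have h2 := ClsS.comp h.inv h.closed hm1 h1 hbc fun y => hom_apply_mem F hφF _
  refine ⟨_, ⟨F.comp_mem hm1 hαm fun y => hom_apply_mem F hφF _, b * (β * b⁻¹), ?_, h2⟩, ?_⟩
  · have := h.conj b hb β hβ
    rwa [mul_assoc] at this
  intro x hx hφx hαx
  show ((α ⟨φ (e.symm ⟨_, hαx⟩), _⟩ : S) : Ω) = _
  refine congrArg (fun z : S => ((α z : S) : Ω)) (Subtype.ext (congrArg φ ?_))
  exact e.injective ((e.apply_symm_apply _).trans (Subtype.ext rfl))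

theorem kerSys_autInvariant : AutInvariant F (kerSys hS h) := by
  intro P hP φ hφ α hα
  obtain ⟨χ, hχ, he⟩ := kerSys_twist hS h hφ hα
  exact ⟨χ, hχ, fun x hφx hαx => he x _ hφx hαx⟩

/-- The generating family. -/
def InH (F : FusionSystem S) (E : FusionSystem T) (P : Subgroup Ω) : Prop :=
  P ≤ S ∧ F.IsCentric P ∧ E.IsCentric (P ⊓ T)

/-- The subsystem generated by the maps with class in the kernel on the generating family. -/
noncomputable def genSys : FusionSystem S where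
  Hom P := {φ | φ ∈ F.Hom P ∧ ∀ D : FusionSystem S,
    (∀ Q, InH F E Q → (kerSys hS h).Hom Q ⊆ D.Hom Q) → φ ∈ D.Hom P}
  le_of_mem hφ := F.le_of_mem hφ.1
  injective_of_mem hφ := F.injective_of_mem hφ.1
  conj_mem hP hg := ⟨F.conj_mem hP hg, fun D _ => D.conj_mem hP hg⟩
  comp_mem hφ hψ hR := ⟨F.comp_mem hφ.1 hψ.1 hR, fun D hD => D.comp_mem (hφ.2 D hD) (hψ.2 D hD) hR⟩
  inv_mem {P φ} hφ := by
    obtain ⟨ψ, hψ, hψe⟩ := F.inv_mem hφ.1
    refine ⟨ψ, ⟨hψ, fun D hD => ?_⟩, hψe⟩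
    obtain ⟨ψ', hψ', hψe'⟩ := D.inv_mem (hφ.2 D hD)
    refine hom_congr D hψ' fun y => ?_
    obtain ⟨_, x, rfl⟩ := y
    exact (hψe x).trans (hψe' x).symm

theorem genSys_le : genSys hS h ≤ F := fun _ _ hφ => hφ.1

theorem genSys_le_ker : genSys hS h ≤ kerSys hS h := fun _ _ hφ => hφ.2 _ fun _ _ => subset_rfl

theorem genSys_of_inH {Q : Subgroup Ω} (hQ : InH F E Q) {φ : Q →* Ω} (hφ : φ ∈ (kerSys hS h).Hom Q) :
    φ ∈ (genSys hS h).Hom Q :=
  ⟨hφ.1, fun _ hD => hD Q hQ hφ⟩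

include h hS in
/-- Conjugates of centric subgroups of `E` are centric in `E`. -/
theorem centric_of_hom {Q : Subgroup Ω} (hQ : E.IsCentric Q) {φ : Q →* Ω} (hφ : φ ∈ F.Hom Q) :
    E.IsCentric φ.range := by
  have hr : φ.range ≤ T := by rintro _ ⟨x, rfl⟩; exact h.closed.2 Q hQ.1 φ hφ x
  have key : ∀ ψ : Q →* Ω, ψ ∈ F.Hom Q → centralizerIn T ψ.range ≤ ψ.range := by
    intro ψ hψ c hc
    obtain ⟨β, -, φ₀, hφ₀, he⟩ := h.frat Q hQ.1 ψ hψ
    have hv : ∀ x, ψ x = ((β ⟨φ₀ x, hom_apply_mem E hφ₀ x⟩ : T) : Ω) := fun x => he x _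
    set u : T := β⁻¹ ⟨c, hc.1⟩
    have hu : (u : Ω) ∈ φ₀.range := hQ.2 _ ⟨φ₀, hφ₀, rfl⟩ ⟨u.2, Subgroup.mem_centralizer_iff.2 (by
      rintro _ ⟨x, rfl⟩
      have h1 : β ⟨φ₀ x, hom_apply_mem E hφ₀ x⟩ * β u = β u * β ⟨φ₀ x, hom_apply_mem E hφ₀ x⟩ := by
        refine Subtype.ext ?_
        rw [show β u = ⟨c, hc.1⟩ from β.apply_symm_apply _, Subgroup.coe_mul, Subgroup.coe_mul, ← hv x]
        exact Subgroup.mem_centralizer_iff.1 hc.2 _ ⟨x, rfl⟩
      rw [← map_mul, ← map_mul] at h1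
      exact congrArg Subtype.val (β.injective h1))⟩
    obtain ⟨x, hx⟩ := hu
    refine ⟨x, ?_⟩
    rw [hv x, show (⟨φ₀ x, hom_apply_mem E hφ₀ x⟩ : T) = u from Subtype.ext hx]
    exact congrArg Subtype.val (β.apply_symm_apply _)
  refine ⟨hr, fun R hR => ?_⟩
  obtain ⟨e, he, rfl⟩ := hR
  have hm := F.comp_mem hφ (h.sub _ he) fun x => ⟨x, rfl⟩
  have hre : (e.comp (φ.codRestrict φ.range fun x => ⟨x, rfl⟩)).range = e.range := by
    ext y
    constructor
    · rintro ⟨x, rfl⟩; exact ⟨_, rfl⟩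
    · rintro ⟨⟨_, x, rfl⟩, rfl⟩; exact ⟨x, rfl⟩
  exact hre ▸ key _ hm

include h hS in
theorem inH_isConj {P R : Subgroup Ω} (hP : InH F E P) (hPR : F.IsConj P R) : InH F E R := by
  refine ⟨isConj_le_right hPR, isCentric_isConj hP.2.1 hPR, ?_⟩
  obtain ⟨φ, hφ, rfl⟩ := hPR
  have h1 := centric_of_hom hS h hP.2.2 (restrict_mem F hφ inf_le_left)
  obtain ⟨ψ, hψ, -, -, hψ1⟩ := exists_inv F hφ
  convert h1 using 1
  ext y
  constructor
  · rintro ⟨⟨x, rfl⟩, hyT⟩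
    obtain ⟨ψ', hψ', h1', -⟩ := F.inv_mem hφ |> fun ⟨ψ', a, b⟩ => (⟨ψ', a, b, trivial⟩ : ∃ ψ', ψ' ∈ F.Hom φ.range ∧
      (∀ x : P, ψ' ⟨φ x, ⟨x, rfl⟩⟩ = (x : Ω)) ∧ True)
    have hxT : (x : Ω) ∈ T := h1' x ▸ stronglyClosed_apply_mem h.closed hψ' ⟨φ x, x, rfl⟩ hyT
    exact ⟨⟨x, x.2, hxT⟩, rfl⟩
  · rintro ⟨x, rfl⟩
    exact ⟨⟨_, rfl⟩, stronglyClosed_apply_mem h.closed hφ (Subgroup.inclusion inf_le_left x) x.2.2⟩

include h in
theorem inH_top : InH F E S := by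
  haveI := finite_of_le h.closed.1
  refine ⟨le_rfl, ⟨le_rfl, fun Q hQ => ?_⟩, ?_⟩
  · rw [Subgroup.eq_of_le_of_card_ge (isConj_le_right hQ) (isConj_card hQ).le]
    exact centralizerIn_le S S
  · rw [inf_eq_right.2 h.closed.1]
    refine ⟨le_rfl, fun Q hQ => ?_⟩
    rw [Subgroup.eq_of_le_of_card_ge (isConj_le_right hQ) (isConj_card hQ).le]
    exact centralizerIn_le T T

include h hS in
/-- Outside the family some conjugate is properly stabilized by an element of `S`. -/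
theorem exists_stabilized {P : Subgroup Ω} (hc : F.IsCentric P) (hn : ¬ E.IsCentric (P ⊓ T)) :
    ∃ (P' : Subgroup Ω) (c : Ω), F.IsConj P P' ∧ c ∈ S ∧ c ∈ Subgroup.normalizer (P' : Set Ω) ∧ c ∉ P' ∧
      (∀ y ∈ P', y⁻¹ * (c * y * c⁻¹) ∈ P' ⊓ T) ∧ ∀ y ∈ P' ⊓ T, c * y = y * c := by
  have hTn := stronglyClosed_le_normalizer h.closed
  set P₀ := P ⊓ T with hP₀
  have hP₀S : P₀ ≤ S := inf_le_left.trans hc.1
  haveI := finite_of_le hP₀S
  obtain ⟨R, hR, c₀, hc₀, hc₀R⟩ : ∃ R, E.IsConj P₀ R ∧ ∃ c₀ ∈ centralizerIn T R, c₀ ∉ R := by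
    by_contra hne
    push Not at hne
    exact hn ⟨inf_le_right, fun R hR x hx => hne R hR x hx⟩
  obtain ⟨Q, hPQ, hQ⟩ := exists_fullyNormalized F hP₀S
  have hRP : F.IsConj P₀ R := hR.imp fun φ hφ => ⟨h.sub _ hφ.1, hφ.2⟩
  have hRS := isConj_le_right hRP
  obtain ⟨ψR, hψR, -, hψRQ⟩ := exists_normalizer_map_fullyNormalized hS h.satF hQ (isConj_trans (isConj_symm hRP) hPQ)
  have hc₀N : c₀ ∈ normalizerIn S R := centralizerIn_le_normalizerIn S R ⟨h.closed.1 hc₀.1, hc₀.2⟩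
  set c₁ := ψR ⟨c₀, hc₀N⟩ with hc₁
  have hc₁C : c₁ ∈ centralizerIn T Q := by
    refine ⟨stronglyClosed_apply_mem h.closed hψR _ hc₀.1, Subgroup.mem_centralizer_iff.2 fun q hq => ?_⟩
    obtain ⟨x, hxN, hxR, rfl⟩ := (mem_map_subgroupOf ψR q).1 (hψRQ.ge hq)
    rw [hc₁, ← map_mul, ← map_mul]
    exact congrArg ψR (Subtype.ext (Subgroup.mem_centralizer_iff.1 hc₀.2 x hxR))
  have hc₁Q : c₁ ∉ Q := fun hq => by
    obtain ⟨x, hxN, hxR, he⟩ := (mem_map_subgroupOf ψR c₁).1 (hψRQ.ge hq)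
    have := congrArg Subtype.val (F.injective_of_mem hψR he)
    exact hc₀R ((show x = c₀ from this) ▸ hxR)
  obtain ⟨ψ, hψ, hψN, hψQ⟩ := exists_normalizer_map_fullyNormalized hS h.satF hQ hPQ
  haveI := finite_of_le hc.1
  have hPN : P ≤ normalizerIn S P₀ := fun x hx => ⟨hc.1 hx,
    mem_normalizer_of_conj_mem_finite fun y hy => ⟨P.mul_mem (P.mul_mem hx hy.1) (P.inv_mem hx),
      (Subgroup.mem_normalizer_iff.1 (hTn (hc.1 hx)) y).1 hy.2⟩⟩
  have hψP := restrict_mem F hψ hPN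
  set P' := (ψ.comp (Subgroup.inclusion hPN)).range with hP'
  have hP'S : P' ≤ S := range_le F hψP
  obtain ⟨θ, hθ, -, hθ1, -⟩ := exists_inv F hψP
  have hinf : P' ⊓ T = Q := by
    ext y
    constructor
    · rintro ⟨⟨x, rfl⟩, hy⟩
      have hxT : (x : Ω) ∈ T := hθ1 x ⟨x, rfl⟩ ▸ stronglyClosed_apply_mem h.closed hθ ⟨_, x, rfl⟩ hy
      exact hψQ.le ((mem_map_subgroupOf ψ _).2 ⟨x, hPN x.2, ⟨x.2, hxT⟩, rfl⟩)
    · intro hy
      obtain ⟨x, hxN, hxP, rfl⟩ := (mem_map_subgroupOf ψ y).1 (hψQ.ge hy)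
      exact ⟨⟨⟨x, hxP.1⟩, rfl⟩, stronglyClosed_apply_mem h.closed hψ _ hxP.2⟩
  set C := centralizerIn T Q with hC
  have hP'nC : P' ≤ Subgroup.normalizer (C : Set Ω) := by
    intro x hx
    have hxS := hP'S hx
    have hxQ : x ∈ Subgroup.normalizer (Q : Set Ω) := by
      obtain ⟨u, rfl⟩ := hx; exact (hψN _).2
    haveI := finite_of_le ((centralizerIn_le T Q).trans h.closed.1)
    refine mem_normalizer_of_conj_mem_finite fun y hy =>
      ⟨(Subgroup.mem_normalizer_iff.1 (hTn hxS) y).1 hy.1, Subgroup.mem_centralizer_iff.2 fun q hq => ?_⟩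
    have h1 := (Subgroup.mem_normalizer_iff.1 (Subgroup.inv_mem _ hxQ) q).1 hq
    have h2 := Subgroup.mem_centralizer_iff.1 hy.2 _ h1
    calc q * (x * y * x⁻¹) = x * ((x⁻¹ * q * x⁻¹⁻¹) * y) * x⁻¹ := by group
      _ = x * (y * (x⁻¹ * q * x⁻¹⁻¹)) * x⁻¹ := by rw [h2]
      _ = x * y * x⁻¹ * q := by group
  have hM : P' ⊔ C ≤ S := sup_le hP'S ((centralizerIn_le T Q).trans h.closed.1)
  have hlt : P' < P' ⊔ C := lt_of_le_of_ne le_sup_left fun he =>
    hc₁Q (hinf.le ⟨he.ge (Subgroup.mem_sup_right hc₁C), hc₁C.1⟩)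
  haveI := finite_of_le hM
  have hlt' := lt_normalizerIn (hS.to_le hM) hlt
  obtain ⟨g, hg, hgP⟩ := SetLike.exists_of_lt hlt'
  have hgM : g ∈ ((P' ⊔ C : Subgroup Ω) : Set Ω) := hg.1
  rw [Subgroup.coe_mul_of_left_le_normalizer_right _ _ hP'nC] at hgM
  obtain ⟨u, hu, c, hcC, rfl⟩ := hgM
  have hcN : c ∈ Subgroup.normalizer (P' : Set Ω) := by
    have := Subgroup.mul_mem _ (Subgroup.inv_mem _ (Subgroup.le_normalizer hu)) hg.2
    rwa [inv_mul_cancel_left] at this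
  refine ⟨P', c, ⟨_, hψP, rfl⟩, h.closed.1 hcC.1, hcN, fun hc' => hgP (P'.mul_mem hu hc'), fun y hy => ⟨?_, ?_⟩,
    fun y hy => ?_⟩
  · exact P'.mul_mem (P'.inv_mem hy) ((Subgroup.mem_normalizer_iff.1 hcN y).1 hy)
  · rw [show y⁻¹ * (c * y * c⁻¹) = y⁻¹ * c * y⁻¹⁻¹ * c⁻¹ by group]
    exact T.mul_mem ((Subgroup.mem_normalizer_iff.1 (hTn (S.inv_mem (hP'S hy))) c).1 hcC.1) (T.inv_mem hcC.1)
  · exact (Subgroup.mem_centralizer_iff.1 hcC.2 y (hinf.le hy)).symm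

include h hS in
/-- Centric radical subgroups lie in the family. -/
theorem inH_of_radical {P : Subgroup Ω} (hc : F.IsCentric P) (hr : F.IsRadical p P) : InH F E P := by
  refine ⟨hc.1, hc, ?_⟩
  by_contra hn
  obtain ⟨P', c, hPP, hcS, hcN, hcP, h1, h2⟩ := exists_stabilized hS h hc hn
  obtain ⟨θ, hθ, hθr⟩ := id hPP
  have hr' := FocCent.radical_of_isConj hS (mapEquiv F hθ hθr) (equivHom_mapEquiv F hθ hθr) (mapEquiv_symm_mem F hθ hθr) hr
  haveI := finite_of_le (isConj_le_right hPP)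
  refine hcP (mem_of_stabilizer hS (isCentric_isConj hc hPP) hr' (ι := Bool)
    (fun b => cond b P' (P' ⊓ T)) (fun b => cond b (P' ⊓ T) ⊥) ?_ ?_ ?_ hcS hcN ?_)
  · rintro (_ | _) α hα y hy
    · exact ⟨(α y).2, stronglyClosed_apply_mem h.closed ((mem_autGroup_iff F (isConj_le_right hPP) α).1 hα) y hy.2⟩
    · exact (α y).2
  · rintro (_ | _) α hα y hy
    · rw [show y = 1 from Subtype.ext (Subgroup.mem_bot.1 hy), map_one]
      exact Subgroup.one_mem _
    · exact ⟨(α y).2, stronglyClosed_apply_mem h.closed ((mem_autGroup_iff F (isConj_le_right hPP) α).1 hα) y hy.2⟩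
  · intro α hα hco hall
    refine MulEquiv.ext fun y => fix_of_step (hS.to_le (isConj_le_right hPP)) hco (Subtype.ext ?_)
    exact (inv_mul_eq_one.1 (Subgroup.mem_bot.1 (hall false (y⁻¹ * α y) (hall true y y.2)))).symm
  · rintro (_ | _) y hyP hy
    · rw [Bool.cond_false, Subgroup.mem_bot, h2 y hy, mul_inv_cancel_right, inv_mul_cancel]
    · exact h1 y hyP

theorem genSys_autInvariant : AutInvariant F (genSys hS h) := by
  intro P hP φ hφ α hα
  obtain ⟨-, χ, hχ, he⟩ := hφ.2 (twistSys F (genSys hS h) α) fun Q hQ ψ hψ => by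
    obtain ⟨χ, hχ, he⟩ := kerSys_twist hS h hψ hα
    refine ⟨hψ.1, χ, genSys_of_inH hS h (inH_isConj hS h hQ ⟨_, restrict_mem F ((mem_autGroup_iff F le_rfl α).1 hα) hQ.1,
      range_restrict _ hQ.1⟩) hχ, he⟩
  exact ⟨χ, hχ, fun x hφx hαx => he x _ hφx hαx⟩

/-- Every map is an automorphism of `S` after a map of the generated system. -/
theorem genSys_frattini {P : Subgroup Ω} {φ : P →* Ω} (hφ : φ ∈ F.Hom P) : FrattiniMap F (genSys hS h) P φ := by
  refine (alperin_centric_radical hS h.satF (E := frattiniFrom F (genSys hS h) (genSys_autInvariant hS h) 0) ?_ P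
    hφ).2 (Nat.zero_le _)
  intro Q hQ γ hγ
  have hQH : InH F E Q := by
    rcases hQ with rfl | ⟨hc, hr, -⟩
    · exact inH_top h
    · exact inH_of_radical hS h hc hr
  have hm := (mem_autGroup_iff F hQH.1 γ).1 hγ
  obtain ⟨α, hα, φ₁, hφ₁, he⟩ := frattini_of_paut hS h.satF (kerSys_autInvariant hS h)
    (fun P hP a ha hk => kerSys_paut hS h hP.1 ha hk) hm
  exact (mem_autGroup_iff _ hQH.1 γ).2 ⟨hm, fun _ => ⟨α, hα, φ₁, genSys_of_inH hS h hQH hφ₁, he⟩⟩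

/-- A map with class in the kernel is in the generated system when the part of its source in `T` is centric in `E`. -/
theorem genSys_of_centric {P : Subgroup Ω} (hP : E.IsCentric (P ⊓ T)) {φ : P →* Ω}
    (hφ : φ ∈ (kerSys hS h).Hom P) : φ ∈ (genSys hS h).Hom P := by
  obtain ⟨α, hα, d, hd, he⟩ := genSys_frattini hS h hφ.1
  obtain ⟨hdF, k, hk, hdc⟩ := genSys_le_ker hS h P hd
  obtain ⟨-, k', hk', hφc⟩ := hφ
  have hαm := (mem_autGroup_iff F le_rfl α).1 hα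
  obtain ⟨b, hb, hbc⟩ := exists_clsS h.closed h.frat hαm
  have hc2 := (hdc.comp h.inv h.closed hdF hbc fun x => hom_apply_mem F hdF x).congr (ψ := φ) fun x => he x _
  have hbk : b * k ∈ K := h.cls_unique hS hP hφc hc2 hk'
  have hbK : b ∈ K := by simpa using K.mul_mem hbk (K.inv_mem hk)
  have hαg := genSys_of_inH hS h (inH_top h) (φ := S.subtype.comp α.toMonoidHom) ⟨hαm, b, hbK, hbc⟩
  exact hom_congr _ ((genSys hS h).comp_mem hd hαg fun x => hom_apply_mem F hdF x) fun x => he x _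

theorem genSys_saturated : (genSys hS h).IsSaturated p := by
  have hle := genSys_le hS h
  refine Cfsg.Agent.S5110.result p hS (genSys hS h) {P | InH F E P} (fun P hP => hP.1)
    (fun P hP Q hPQ => inH_isConj hS h hP (hPQ.imp fun φ hφ => ⟨hle _ hφ.1, hφ.2⟩)) (fun P hP => ?_)
    (fun D hD P φ hφ => hφ.2 D fun Q hQ ψ hψ => hD Q hQ (genSys_of_inH hS h hQ hψ)) fun P hP hPH => ?_
  · obtain ⟨Q, ⟨μ, hμ, hμr⟩, hQ⟩ := exists_fullyNormalized F hP.1
    obtain ⟨α, hα, d, hd, he⟩ := genSys_frattini hS h hμ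
    have hαm := (mem_autGroup_iff F le_rfl α).1 hα
    have hdS : d.range ≤ S := range_le F (hle _ hd)
    haveI := finite_of_le hdS
    have hd' : F.IsConj P d.range := ⟨d, hle _ hd, rfl⟩
    have himg : imgOf (S.subtype.comp α.toMonoidHom) d.range = Q := by
      rw [← hμr]
      ext y
      constructor
      · rintro ⟨⟨_, hs⟩, ⟨x, rfl⟩, rfl⟩
        exact ⟨x, he x hs⟩
      · rintro ⟨x, rfl⟩
        exact ⟨⟨d x, hom_apply_mem F (hle _ hd) x⟩, ⟨x, rfl⟩, (he x _).symm⟩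
    have hfn : F.IsFullyNormalized d.range := by
      refine ⟨hdS, fun R hR => (hQ.2 R (isConj_trans (isConj_symm ⟨μ, hμ, hμr⟩) (isConj_trans hd' hR))).trans ?_⟩
      obtain ⟨θ, hθ, hθ1, -, hθ2⟩ := exists_inv_imgOf F hαm
      have hQd : imgOf θ Q = d.range := himg ▸ hθ2 d.range hdS
      have hNS : normalizerIn S Q ≤ (S.subtype.comp α.toMonoidHom).range := fun y hy =>
        ⟨α⁻¹ ⟨y, hy.1⟩, congrArg Subtype.val (α.apply_symm_apply ⟨y, hy.1⟩)⟩
      refine card_le_of_hom F hθ hNS (normalizerIn_le _ _) fun x hx => ?_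
      exact hQd ▸ imgOf_mem_normalizer F hθ ((le_normalizerIn hQ.1).trans hNS) ⟨x, hNS hx⟩ hx.2
    have hdH : InH F E d.range := inH_isConj hS h hP hd'
    refine ⟨d.range, ⟨d, hd, rfl⟩, fullyAutomized_of_isSyl_aut hdS ?_, hdS, fun R φ hφ hr => ?_⟩
    · obtain ⟨h1, h2, h3⟩ := isSyl_of_fullyAutomized (fullyNormalized_imp hS h.satF hfn).2
      have hge : autInducedBy S d.range ≤ (genSys hS h).autGroup d.range := fun a ha => by
        obtain ⟨k, hk⟩ := autInducedBy_isPGroup (P := d.range) hS ⟨a, ha⟩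
        exact (mem_autGroup_iff _ hdS a).2 (genSys_of_inH hS h hdH
          ((mem_autGroup_iff _ hdS a).1 (kerSys_paut hS h hdS (h1 ha) ⟨k, congrArg Subtype.val hk⟩)))
      refine ⟨hge, h2, fun hdvd => h3 ?_⟩
      rw [← Subgroup.relIndex_mul_relIndex _ _ _ hge (autGroup_mono (fun _ => hle _) d.range)]
      exact dvd_mul_of_dvd_left hdvd _
    obtain ⟨ψ, hψ, hψe⟩ := (fullyNormalized_receptive hS h.satF hfn).2 R φ (hle _ hφ) hr
    have hRH : InH F E R := inH_isConj hS h hdH (isConj_symm ⟨φ, hle _ hφ, hr⟩)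
    have hRle : R ≤ extender S R φ := le_extender F (hle _ hφ)
    have hNS : extender S R φ ≤ S := hom_le F hψ
    haveI := finite_of_le h.closed.1
    have hcen : E.IsCentric (extender S R φ ⊓ T) := isCentric_mono hRH.2.2 (inf_le_inf_right _ hRle) inf_le_right
    obtain ⟨b, -, hbc⟩ := exists_clsS h.closed h.frat hψ
    obtain ⟨-, k, hk, hkc⟩ := genSys_le_ker hS h R hφ
    have hbK : b ∈ K := h.cls_unique hS hRH.2.2 hkc
      ((hbc.restrict hRle).congr fun x => (hψe x x.2 (hRle x.2)).symm) hk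
    exact ⟨ψ, genSys_of_inH hS h ⟨hNS, isCentric_mono hRH.2.1 hRle hNS, hcen⟩ ⟨hψ, b, hbK, hbc⟩, hψe⟩
  -- outside the family
  have hcF : F.IsCentric P := by
    refine ⟨hP.1, fun R hR => ?_⟩
    obtain ⟨μ, hμ, rfl⟩ := hR
    obtain ⟨α, hα, d, hd, he⟩ := genSys_frattini hS h hμ
    intro c hc
    set u : S := α⁻¹ ⟨c, hc.1⟩
    have hu : (u : Ω) ∈ d.range := hP.2 _ ⟨d, hd, rfl⟩ ⟨u.2, Subgroup.mem_centralizer_iff.2 (by
      rintro _ ⟨x, rfl⟩
      have h1 : α ⟨d x, hom_apply_mem F (hle _ hd) x⟩ * α u = α u * α ⟨d x, hom_apply_mem F (hle _ hd) x⟩ := by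
        refine Subtype.ext ?_
        rw [show α u = ⟨c, hc.1⟩ from α.apply_symm_apply _, Subgroup.coe_mul, Subgroup.coe_mul, ← he x]
        exact Subgroup.mem_centralizer_iff.1 hc.2 _ ⟨x, rfl⟩
      rw [← map_mul, ← map_mul] at h1
      exact congrArg Subtype.val (α.injective h1))⟩
    obtain ⟨x, hx⟩ := hu
    refine ⟨x, ?_⟩
    rw [he x (hom_apply_mem F (hle _ hd) x),
      show (⟨d x, hom_apply_mem F (hle _ hd) x⟩ : S) = u from Subtype.ext hx]
    exact congrArg Subtype.val (α.apply_symm_apply _)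
  have hPn : ¬ E.IsCentric (P ⊓ T) := fun h0 => hPH ⟨hP.1, hcF, h0⟩
  obtain ⟨P', c, ⟨μ, hμ, hμr⟩, hcS, hcN, hcP, h1, h2⟩ := exists_stabilized hS h hcF hPn
  obtain ⟨α, hα, d, hd, he⟩ := genSys_frattini hS h hμ
  have hαm := (mem_autGroup_iff F le_rfl α).1 hα
  have hdS : d.range ≤ S := range_le F (hle _ hd)
  haveI := finite_of_le hdS
  have hαmem : ∀ (y : Ω) (hy : y ∈ S), y ∈ d.range ↔ ((α ⟨y, hy⟩ : S) : Ω) ∈ P' := by
    intro y hy
    rw [← hμr]
    constructor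
    · rintro ⟨x, rfl⟩; exact ⟨x, he x hy⟩
    · rintro ⟨x, hx⟩
      rw [he x (hom_apply_mem F (hle _ hd) x)] at hx
      exact ⟨x, congrArg Subtype.val (α.injective (Subtype.ext hx))⟩
  have hαT : ∀ (y : Ω) (hy : y ∈ S), y ∈ T ↔ ((α ⟨y, hy⟩ : S) : Ω) ∈ T := by
    intro y hy
    refine ⟨fun hyT => stronglyClosed_apply_mem h.closed hαm ⟨y, hy⟩ hyT, fun hyT => ?_⟩
    have := stronglyClosed_apply_mem h.closed ((mem_autGroup_iff F le_rfl _).1 (Subgroup.inv_mem _ hα))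
      (α ⟨y, hy⟩) hyT
    rwa [show (S.subtype.comp (α⁻¹ : MulAut S).toMonoidHom) (α ⟨y, hy⟩) = y from
      congrArg Subtype.val (α.symm_apply_apply _)] at this
  set c' : S := α⁻¹ ⟨c, hcS⟩
  have hαc : α c' = ⟨c, hcS⟩ := α.apply_symm_apply _
  have hmap : ∀ (y : Ω) (hy : y ∈ S), (α (⟨y, hy⟩⁻¹ * (c' * ⟨y, hy⟩ * c'⁻¹)) : Ω) =
      (α ⟨y, hy⟩ : Ω)⁻¹ * (c * (α ⟨y, hy⟩ : Ω) * c⁻¹) := by
    intro y hy
    simp [hαc]
  have hmap2 : ∀ (y : Ω) (hy : y ∈ S), (α (c' * ⟨y, hy⟩ * c'⁻¹) : Ω) = c * (α ⟨y, hy⟩ : Ω) * c⁻¹ := by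
    intro y hy
    simp [hαc]
  have hcN' : (c' : Ω) ∈ Subgroup.normalizer (d.range : Set Ω) := mem_normalizer_of_conj_mem_finite fun y hy => by
    refine (hαmem _ (S.mul_mem (S.mul_mem c'.2 (hdS hy)) (S.inv_mem c'.2))).2 ?_
    have := (Subgroup.mem_normalizer_iff.1 hcN _).1 ((hαmem y (hdS hy)).1 hy)
    rw [← hmap2 y (hdS hy)] at this
    exact this
  refine ⟨d.range, ⟨d, hd, rfl⟩, fun hcon => hcP ?_⟩
  obtain ⟨a, haI, hae⟩ := exists_conjAut (K := S) (P := d.range) c'.2 hcN'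
  have haA : a ∈ (genSys hS h).autGroup d.range := autInducedBy_le_autGroup _ hdS haI
  let L : Subgroup ((genSys hS h).autGroup d.range) :=
    { carrier := {b | ∀ y : d.range, (y : Ω)⁻¹ * (((b : MulAut d.range) y : d.range) : Ω) ∈ T ∧
        ((y : Ω) ∈ T → (b : MulAut d.range) y = y)}
      one_mem' := fun y => ⟨by simp, fun _ => rfl⟩
      mul_mem' := fun {a b} ha hb y => by
        obtain ⟨hb1, hb2⟩ := hb y
        refine ⟨?_, fun hy => ?_⟩
        · have := T.mul_mem hb1 (ha ((b : MulAut d.range) y)).1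
          simpa [mul_assoc] using this
        · rw [Subgroup.coe_mul, MulAut.mul_apply, hb2 hy, (ha y).2 hy]
      inv_mem' := fun {a} ha y => by
        obtain ⟨ha1, ha2⟩ := ha ((a : MulAut d.range)⁻¹ y)
        rw [MulAut.apply_inv_self] at ha1
        refine ⟨?_, fun hy => ?_⟩
        · have := T.inv_mem ha1
          simpa using this
        · have := (ha y).2 hy
          exact ((a : MulAut d.range).injective ((MulAut.apply_inv_self _ (a : MulAut d.range) y).trans this.symm)) }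
  have hLn : L.Normal := ⟨fun b hb g y => by
    have hgm : ∀ z : d.range, (z : Ω) ∈ T → (((g : MulAut d.range) z : d.range) : Ω) ∈ T := fun z hz =>
      stronglyClosed_apply_mem h.closed (hle _ ((mem_autGroup_iff _ hdS _).1 g.2)) z hz
    obtain ⟨hb1, hb2⟩ := hb ((g : MulAut d.range)⁻¹ y)
    refine ⟨?_, fun hy => ?_⟩
    · have := hgm _ (show ((((g : MulAut d.range)⁻¹ y)⁻¹ * (b : MulAut d.range) ((g : MulAut d.range)⁻¹ y) :
        d.range) : Ω) ∈ T from by simpa using hb1)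
      simpa [MulAut.mul_apply] using this
    · have hy' : ((((g : MulAut d.range)⁻¹ y) : d.range) : Ω) ∈ T :=
        stronglyClosed_apply_mem h.closed (hle _ ((mem_autGroup_iff _ hdS _).1 (Subgroup.inv_mem _ g.2))) y hy
      rw [Subgroup.coe_mul, Subgroup.coe_mul, Subgroup.coe_inv, MulAut.mul_apply, MulAut.mul_apply, hb2 hy',
        MulAut.apply_inv_self]⟩
  have hLp : IsPGroup p L := by
    intro b
    obtain ⟨m, hm⟩ := IsPGroup.iff_card.1 (hS.to_le hdS)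
    refine ⟨m, Subtype.ext (Subtype.ext (MulEquiv.ext fun y => ?_))⟩
    set β : MulAut d.range := ((b : (genSys hS h).autGroup d.range) : MulAut d.range)
    have hfix : ∀ y, β (y⁻¹ * β y) = y⁻¹ * β y := fun y => (b.2 (y⁻¹ * β y)).2 (by simpa using (b.2 y).1)
    have hpow : ∀ (j : ℕ), (β ^ j) y = y * (y⁻¹ * β y) ^ j := by
      intro j
      induction j with
      | zero => simp
      | succ j ih =>
        rw [pow_succ', MulAut.mul_apply, ih, map_mul, map_pow, hfix, pow_succ', ← mul_assoc y (y⁻¹ * β y),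
          mul_inv_cancel_left]
    show (β ^ p ^ m) y = y
    rw [hpow, ← hm, pow_card_eq_one', mul_one]
  have hcore : (⟨a, haA⟩ : (genSys hS h).autGroup d.range) ∈ pCore p ((genSys hS h).autGroup d.range) := by
    refine Cfsg.Agent.PBasic.le_pCore hLn hLp fun y => ⟨?_, fun hy => Subtype.ext ?_⟩
    · show (y : Ω)⁻¹ * ((a y : d.range) : Ω) ∈ T
      rw [hae]
      have hy := hdS y.2
      refine (hαT _ (S.mul_mem (S.inv_mem hy) (S.mul_mem (S.mul_mem c'.2 hy) (S.inv_mem c'.2)))).2 ?_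
      exact (hmap y hy).symm ▸ (h1 _ ((hαmem y hy).1 y.2)).2
    · show ((a y : d.range) : Ω) = y
      rw [hae]
      have hyS := hdS y.2
      have h3 : α (c' * ⟨(y : Ω), hyS⟩ * c'⁻¹) = α ⟨(y : Ω), hyS⟩ := Subtype.ext (by
        rw [hmap2, h2 _ ⟨(hαmem y hyS).1 y.2, (hαT y hyS).1 hy⟩, mul_inv_cancel_right])
      exact congrArg Subtype.val (α.injective h3)
  have hin : a ∈ Inn d.range := hcon ⟨haI, ⟨a, haA⟩, hcore, rfl⟩
  have := mem_of_conj_mem_inn (F := genSys hS h) (hP.2 _ ⟨d, hd, rfl⟩) c'.2 hdS hae hin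
  have := (hαmem _ c'.2).1 this
  rwa [hαc] at this

theorem genSys_index : (genSys hS h).HasPrimeToPIndexIn F p := by
  refine ⟨genSys_le hS h, fun P hP => ?_⟩
  rw [MonoidHom.map_closure, Subgroup.closure_le]
  rintro _ ⟨a, ⟨k, hk⟩, rfl⟩
  obtain ⟨Q, ⟨θ, hθ, hθr⟩, hQ⟩ := exists_fullyNormalized F hP
  haveI := finite_of_le hQ.1
  set e := mapEquiv F hθ hθr
  have hem : equivHom e ∈ F.Hom P := equivHom_mapEquiv F hθ hθr
  have hZ : IsPGroup p (Subgroup.zpowers (MulAut.congr e (a : MulAut P))) := by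
    rintro ⟨_, j, rfl⟩
    refine ⟨k, Subtype.ext ?_⟩
    show ((MulAut.congr e (a : MulAut P)) ^ j) ^ p ^ k = 1
    rw [← zpow_natCast, ← _root_.zpow_mul, mul_comm, _root_.zpow_mul, zpow_natCast, ← map_pow,
      ← Subgroup.coe_pow, ← hk, pow_orderOf_eq_one, Subgroup.coe_one, map_one, _root_.one_zpow]
  obtain ⟨γ, hγ, hle⟩ := (isSyl_of_fullyAutomized (fullyNormalized_imp hS h.satF hQ).2).exists_conj hZ
    (Subgroup.zpowers_le.2 (congr_mem_autGroup F e hem (mapEquiv_symm_mem F hθ hθr) a.2))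
  obtain ⟨g, hg, hge⟩ := (mem_autInducedBy_iff _).1 (hle ⟨_, Subgroup.mem_zpowers _, rfl⟩)
  set f : P ≃* Q := e.trans γ with hf
  obtain ⟨α, hα, d, hd, he⟩ := genSys_frattini hS h (equivHom_trans F hem ((mem_autGroup_iff F hQ.1 _).1 hγ))
  set g' : S := α⁻¹ ⟨g, hg⟩
  have hdS := hom_apply_mem (genSys hS h) hd
  have hval : ∀ x : P, g' * d x * (g' : Ω)⁻¹ = d ((a : MulAut P) x) := by
    intro x
    have h1 : α (g' * ⟨d x, hdS x⟩ * g'⁻¹) = α ⟨d ((a : MulAut P) x), hdS _⟩ := by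
      refine Subtype.ext ?_
      rw [map_mul, map_mul, map_inv, show α g' = ⟨g, hg⟩ from α.apply_symm_apply _, Subgroup.coe_mul,
        Subgroup.coe_mul, Subgroup.coe_inv, ← he x (hdS x), ← he ((a : MulAut P) x) (hdS _)]
      show g * ((f x : Q) : Ω) * g⁻¹ = ((f ((a : MulAut P) x) : Q) : Ω)
      rw [← hge (f x)]
      simp [hf, MulAut.mul_apply, congr_apply]
    exact congrArg Subtype.val (α.injective h1)
  obtain ⟨ρ, hρ, hρe⟩ := (genSys hS h).inv_mem hd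
  have hc := (genSys hS h).comp_mem hd ((genSys hS h).conj_mem (range_le _ hd) g'.2) fun x => ⟨x, rfl⟩
  refine (mem_autGroup_iff _ hP _).2 (hom_congr _ ((genSys hS h).comp_mem hc hρ fun x =>
    ⟨(a : MulAut P) x, (hval x).symm⟩) fun x => ?_)
  exact ((hρe ((a : MulAut P) x)).symm.trans (apply_congr ρ (hval x).symm _ _))

theorem genSys_isNormalIn : (genSys hS h).IsNormalIn F p := by
  refine ⟨⟨genSys_saturated hS h, h.satF, genSys_le hS h, stronglyClosed_self F, genSys_autInvariant hS h,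
    fun P _ φ hφ => genSys_frattini hS h hφ⟩, fun α hα => ?_⟩
  have e : S ⊔ centralizerIn S S = S := sup_eq_left.2 (centralizerIn_le S S)
  have hαm := (mem_autGroup_iff _ le_rfl α).1 hα
  set q := MulEquiv.subgroupCongr e
  refine ⟨MulAut.congr q.symm α, (mem_autGroup_iff F e.le _).2 ?_, fun x => ?_, fun c hc => ⟨?_, ?_⟩⟩
  · exact hom_congr F (restrict_mem F (genSys_le hS h _ hαm) e.le) fun x => rfl
  · rfl
  · exact S.mul_mem (S.inv_mem (e.le c.2)) (α (q c)).2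
  · refine Subgroup.mul_mem _ (Subgroup.inv_mem _ hc.2) (Subgroup.mem_centralizer_iff.2 fun s hs => ?_)
    have h1 : α (α⁻¹ ⟨s, hs⟩ * q c) = α (q c * α⁻¹ ⟨s, hs⟩) :=
      congrArg α (Subtype.ext (Subgroup.mem_centralizer_iff.1 hc.2 _ (α⁻¹ ⟨s, hs⟩).2))
    rw [map_mul, map_mul, MulAut.apply_inv_self] at h1
    exact congrArg Subtype.val h1

theorem sub_genSys : E.IsSubsystemOf (genSys hS h) := by
  haveI := finite_of_le h.closed.1
  let X : FusionSystem T :=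
    { Hom := fun P => {φ | φ ∈ E.Hom P ∧ φ ∈ (genSys hS h).Hom P}
      le_of_mem := fun hφ => E.le_of_mem hφ.1
      injective_of_mem := fun hφ => E.injective_of_mem hφ.1
      conj_mem := fun hP hg => ⟨E.conj_mem hP hg, (genSys hS h).conj_mem (hP.trans h.closed.1) (h.closed.1 hg)⟩
      comp_mem := fun hφ hψ hR => ⟨E.comp_mem hφ.1 hψ.1 hR, (genSys hS h).comp_mem hφ.2 hψ.2 hR⟩
      inv_mem := fun {P φ} hφ => by
        obtain ⟨ψ, hψ, hψe⟩ := E.inv_mem hφ.1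
        obtain ⟨ψ', hψ', hψe'⟩ := (genSys hS h).inv_mem hφ.2
        refine ⟨ψ, ⟨hψ, hom_congr _ hψ' fun y => ?_⟩, hψe⟩
        obtain ⟨_, x, rfl⟩ := y
        exact (hψe x).trans (hψe' x).symm }
  have hX : E ≤ X := by
    refine alperin (hS.to_le h.closed.1) h.satE fun Q hQ γ hγ => ?_
    have hQc : E.IsCentric Q := by
      rcases hQ with rfl | he
      · exact ⟨le_rfl, fun R hR => by
          rw [Subgroup.eq_of_le_of_card_ge (isConj_le_right hR) (isConj_card hR).le]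
          exact centralizerIn_le _ _⟩
      · exact he.1
    have hm := (mem_autGroup_iff E hQc.1 γ).1 hγ
    refine (mem_autGroup_iff X hQc.1 γ).2 ⟨hm, genSys_of_centric hS h (by rwa [inf_eq_left.2 hQc.1])
      ⟨h.sub _ hm, 1, K.one_mem, (cls_of_mem (restrict_mem E hm inf_le_left))⟩⟩
  exact fun P φ hφ => (hX P hφ).2

theorem genSys_aut_iff (α : MulAut S) : α ∈ (genSys hS h).autGroup S ↔
    α ∈ F.autGroup S ∧ ∃ β ∈ K, ∀ t : T, ((β t : T) : Ω) = ((α ⟨(t : Ω), h.closed.1 t.2⟩ : S) : Ω) := by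
  have hTS := h.closed.1
  haveI := finite_of_le hTS
  constructor
  · intro hα
    have hm := genSys_le_ker hS h S ((mem_autGroup_iff _ le_rfl α).1 hα)
    obtain ⟨hαm, k, hk, hkc⟩ := hm
    have hr : ((S.subtype.comp α.toMonoidHom).comp (Subgroup.inclusion hTS)).range = T :=
      (stronglyClosed_weaklyClosed h.closed).2 _ (restrict_mem F hαm hTS)
    obtain ⟨β, hβ, hβe⟩ := exists_autGroup_of_range F (restrict_mem F hαm hTS) hr
    refine ⟨(mem_autGroup_iff F le_rfl α).2 hαm, β, ?_, fun t => hβe t⟩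
    refine h.cls_unique hS (inH_top h).2.2 hkc (cls_of_aut hβ inf_le_right fun x => ?_) hk
    exact (hβe ⟨(x : Ω), x.2.2⟩).symm
  · rintro ⟨hα, β, hβ, he⟩
    exact (mem_autGroup_iff _ le_rfl α).2 (genSys_of_inH hS h (inH_top h)
      ⟨(mem_autGroup_iff F le_rfl α).1 hα, β, hβ, cls_of_aut (h.le hβ) inf_le_right fun x => (he ⟨_, x.2.2⟩).symm⟩)

include hS in
theorem kern_eq_top (htop : ∀ P, (genSys hS h).Hom P = F.Hom P) : F.autGroup T ≤ K := by
  intro β hβ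
  haveI := finite_of_le h.closed.1
  have hm := (mem_autGroup_iff F h.closed.1 β).1 hβ
  rw [← htop] at hm
  obtain ⟨-, k, hk, hkc⟩ := genSys_le_ker hS h T hm
  refine h.cls_unique hS ?_ hkc (cls_of_aut hβ inf_le_right fun _ => rfl) hk
  rw [inf_idem]
  have := (inH_top h).2.2
  rwa [inf_eq_right.2 h.closed.1] at this

end Cfsg.Agent.FusionSys.KerClass
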