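import Cfsg.Agent.Lib.Fusion.LocalInduction

/-!
# Engines for local arguments
-/

set_option autoImplicit false

namespace Cfsg.Agent.FusionSys

open Cfsg Cfsg.FusionSystem

universe u

variable {Ω : Type u} [Group Ω] {S : Subgroup Ω} [Finite S] {p : ℕ} [hp : Fact p.Prime]

/-- Alperin's fusion theorem for maps on large subgroups. -/
theorem alperin_ge (hS : IsPGroup p S) {F : FusionSystem S} (hF : F.IsSaturated p) {E : FusionSystem S}
    {n : ℕ} (hE : ∀ P : Subgroup Ω, (P = S ∨ F.IsEssential p P) → n ≤ Nat.card P → F.autGroup P ≤ E.autGroup P)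
    {P : Subgroup Ω} (hn : n ≤ Nat.card P) {φ : P →* Ω} (hφ : φ ∈ F.Hom P) : φ ∈ E.Hom P := by
  induction hk : Nat.card S - Nat.card P using Nat.strong_induction_on generalizing P with
  | _ k ih =>
  have hPS := hom_le F hφ
  have := finite_of_le hPS
  rcases eq_or_lt_of_le hPS with rfl | hlt
  · have hr : φ.range = P := Subgroup.eq_of_le_of_card_ge (range_le F hφ) (isConj_card ⟨φ, hφ, rfl⟩).le
    obtain ⟨α, hα, hαe⟩ := exists_autGroup_of_range F hφ hr
    exact hom_congr E ((equivHom_autGroup E le_rfl).1 (hE P (Or.inl rfl) hn hα)) fun x => (hαe x).symm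
  obtain ⟨Q, hPQ, hQ⟩ := exists_fullyNormalized F hPS
  have hcard : ∀ (A N : Subgroup Ω), N ≤ S → A < N → Nat.card S - Nat.card N < Nat.card S - Nat.card A := by
    intro A N hN hAN
    have := finite_of_le hN
    have h1 : Nat.card A < Nat.card N := lt_of_le_of_ne (Subgroup.card_le_of_le hAN.le)
      fun he => hAN.ne (Subgroup.eq_of_le_of_card_ge hAN.le he.ge)
    have h2 : Nat.card N ≤ Nat.card S := Subgroup.card_le_of_le hN
    omega
  have step : ∀ (A : Subgroup Ω), F.IsConj A Q → Nat.card A = Nat.card P →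
      ∃ e : A ≃* Q, equivHom e ∈ E.Hom A ∧ equivHom e ∈ F.Hom A := by
    intro A hA hAc
    have hAS := isConj_le_left hA
    have := finite_of_le hAS
    haveI := finite_of_le (normalizerIn_le S A)
    have hAlt : A < S := lt_of_le_of_ne hAS fun he => hlt.ne
      (Subgroup.eq_of_le_of_card_ge hPS (by rw [← hAc, he]))
    obtain ⟨ψ, hψ, -, hψA⟩ := exists_normalizer_map_fullyNormalized hS hF hQ hA
    have h1 := ih _ (hk ▸ hAc ▸ hcard A _ (normalizerIn_le S A) (lt_normalizerIn hS hAlt)) (hn.trans (hAc ▸ Subgroup.card_le_of_le (le_normalizerIn hAS))) hψ rfl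
    exact ⟨mapEquiv F (restrict_mem F hψ (le_normalizerIn hAS)) (extend_restrict_range _ hψA),
      hom_congr E (restrict_mem E h1 (le_normalizerIn hAS)) (fun _ => rfl), equivHom_mapEquiv F _ _⟩
  obtain ⟨e₁, he₁E, he₁⟩ := step P hPQ rfl
  obtain ⟨e₂, he₂E, he₂⟩ := step φ.range (isConj_trans (isConj_symm ⟨φ, hφ, rfl⟩) hPQ)
    (isConj_card ⟨φ, hφ, rfl⟩).symm
  set f := mapEquiv F hφ rfl
  have hsymm : ∀ (D : FusionSystem S) {A B : Subgroup Ω} (e : A ≃* B), equivHom e ∈ D.Hom A →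
      equivHom e.symm ∈ D.Hom B := by
    intro D A B e he
    have := equivHom_mapEquiv_symm D he (equivHom_range e)
    have heq : mapEquiv D he (equivHom_range e) = e := MulEquiv.ext fun x => Subtype.ext rfl
    rwa [heq] at this
  set α : MulAut Q := e₁.symm.trans (f.trans e₂)
  have hα : α ∈ F.autGroup Q := (equivHom_autGroup F hQ.1).2
    (equivHom_trans F (hsymm F e₁ he₁) (equivHom_trans F (equivHom_mapEquiv F hφ rfl) he₂))
  have hαE : α ∈ E.autGroup Q := by
    by_cases hess : F.IsEssential p Q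
    · exact hE Q (Or.inr hess) (hn.trans (isConj_card hPQ).le) hα
    have hQlt : Q < S := lt_of_le_of_ne hQ.1 fun he => hlt.ne
      (Subgroup.eq_of_le_of_card_ge hPS (by rw [isConj_card hPQ, he]))
    have heq : extendableGroup F Q = F.autGroup Q := by
      rcases fullyNormalized_dichotomy hS hF hQlt hQ with h | h
      · exact h.2
      · exact absurd h.1 hess
    refine (Subgroup.closure_le _).2 ?_ (heq.ge hα)
    rintro β ⟨N, hQN, ψ, hψ, he⟩
    have h1 := ih _ (hk ▸ (isConj_card hPQ).symm ▸ hcard Q N (hom_le F hψ) hQN) ?_ hψ rfl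
    exact Subgroup.subset_closure (hom_congr E (restrict_mem E h1 hQN.le) fun x => (he x).symm)
    haveI := finite_of_le (S := S) (hom_le F hψ)
    exact hn.trans ((isConj_card hPQ).le.trans (Subgroup.card_le_of_le hQN.le))
  have := equivHom_trans E he₁E (equivHom_trans E ((equivHom_autGroup E hQ.1).1 hαE) (hsymm E e₂ he₂E))
  refine hom_congr E this fun x => ?_
  show φ x = ((e₂.symm (e₂ (f (e₁.symm (e₁ x)))) : _) : Ω)
  rw [e₂.symm_apply_apply, e₁.symm_apply_apply]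
  rfl


/-- Fully normalized conjugate, with the map of normalizers and the transported automorphisms. -/
theorem exists_transfer (hS : IsPGroup p S) {F : FusionSystem S} (hF : F.IsSaturated p) {Y : Subgroup Ω}
    (hY : Y ≤ S) :
    ∃ Y' : Subgroup Ω, F.IsFullyNormalized Y' ∧ F.IsConj Y Y' ∧ ∃ ψ ∈ F.Hom (normalizerIn S Y),
      (∀ x, ψ x ∈ normalizerIn S Y') ∧ ∃ e : Y ≃* Y',
        (∀ x : Y, ψ (Subgroup.inclusion (le_normalizerIn hY) x) = (e x : Ω)) ∧
        (F.autGroup Y).map (MulAut.congr e).toMonoidHom = F.autGroup Y' := by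
  obtain ⟨Y', hYY', hY'⟩ := exists_fullyNormalized F hY
  obtain ⟨ψ, hψ, hψm, hψY⟩ := exists_normalizer_map_fullyNormalized hS hF hY' hYY'
  have hres : ψ.comp (Subgroup.inclusion (le_normalizerIn hY)) ∈ F.Hom Y := restrict_mem F hψ _
  have hr : (ψ.comp (Subgroup.inclusion (le_normalizerIn hY))).range = Y' := extend_restrict_range _ hψY
  refine ⟨Y', hY', hYY', ψ, hψ, hψm, mapEquiv F hres hr, fun x => rfl, ?_⟩
  exact map_autGroup F _ (hom_congr F hres fun _ => rfl) (mapEquiv_symm_mem F hres hr)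

omit hp in
theorem card_le_normalizer_map {F : FusionSystem S} {Y Y' : Subgroup Ω} {ψ : normalizerIn S Y →* Ω}
    (hψ : ψ ∈ F.Hom (normalizerIn S Y)) (hm : ∀ x, ψ x ∈ normalizerIn S Y') :
    Nat.card (normalizerIn S Y) ≤ Nat.card (normalizerIn S Y') :=
  card_le_of_hom F hψ le_rfl (normalizerIn_le S Y') fun x hx => hm ⟨x, hx⟩

/-- The automorphism groups are `p`-groups if they are on the centric fully normalized subgroups. -/
theorem autGroup_isPGroup_of_centric (hS : IsPGroup p S) {F : FusionSystem S} (hF : F.IsSaturated p) {n : ℕ}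
    (h : ∀ U : Subgroup Ω, F.IsCentric U → F.IsFullyNormalized U → n < Nat.card (normalizerIn S U) →
      IsPGroup p (F.autGroup U)) {Y : Subgroup Ω} (hY : Y ≤ S) (hn : n < Nat.card (normalizerIn S Y)) :
    IsPGroup p (F.autGroup Y) := by
  haveI : ∀ X : Subgroup Ω, Finite (normalizerIn S X) := fun X => finite_of_le (normalizerIn_le S X)
  obtain ⟨Y', hY', -, ψ, hψ, hψm, e, -, hmap⟩ := exists_transfer hS hF hY
  have hn' : n < Nat.card (normalizerIn S Y') := hn.trans_le (card_le_normalizer_map hψ hψm)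
  suffices hY'p : IsPGroup p (F.autGroup Y') by
    rw [← hmap] at hY'p
    exact hY'p.of_equiv (Subgroup.equivMapOfInjective _ _ (MulAut.congr e).injective).symm
  obtain ⟨R, hYR, -, hRc, hNle, hext⟩ := exists_extend_centric hS hF hY'
  obtain ⟨R', hR', hRR', ψ', hψ', hψ'm, e', -, hmap'⟩ := exists_transfer hS hF hRc.1
  have hnR : n < Nat.card (normalizerIn S R') :=
    hn'.trans_le ((Subgroup.card_le_of_le hNle).trans (card_le_normalizer_map hψ' hψ'm))
  have hR'c : F.IsCentric R' := isCentric_isConj hRc hRR'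
  have hRp : IsPGroup p (F.autGroup R) := by
    have := h R' hR'c hR' hnR
    rw [← hmap'] at this
    exact this.of_equiv (Subgroup.equivMapOfInjective _ _ (MulAut.congr e').injective).symm
  rintro ⟨α, hα⟩
  obtain ⟨β, hβ, hβe⟩ := hext α hα
  obtain ⟨k, hk⟩ := hRp ⟨β, hβ⟩
  refine ⟨k, Subtype.ext (MulEquiv.ext fun y => Subtype.ext ?_)⟩
  have hiter : ∀ (i : ℕ) (y : Y'), (((β ^ i) (Subgroup.inclusion hYR y) : R) : Ω) = ((α ^ i) y : Y') := by
    intro i
    induction i with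
    | zero => intro y; rfl
    | succ i ih =>
      intro y
      rw [pow_succ, pow_succ, MulAut.mul_apply, MulAut.mul_apply, ← ih,
        show β (Subgroup.inclusion hYR y) = Subgroup.inclusion hYR (α y) from Subtype.ext (hβe y)]
  show (((α ^ (p ^ k) : MulAut Y') y : Y') : Ω) = y
  rw [← hiter, show β ^ p ^ k = 1 from congrArg Subtype.val hk]
  rfl

/-- A system is inner if each local model is a `p`-group, assuming the same for larger normalizers. -/
theorem eq_inner_of_local (hS : IsPGroup p S) {F : FusionSystem S} (hF : F.IsSaturated p)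
    (hloc : ∀ (U : Subgroup Ω) (L : Type u) [Group L], F.IsCentric U → F.IsFullyNormalized U →
      LocalModel F p U L →
      (∀ Y : Subgroup Ω, Y ≤ S → Nat.card (normalizerIn S U) < Nat.card (normalizerIn S Y) →
        IsPGroup p (F.autGroup Y)) →
      IsPGroup p L) :
    F = innerFusionSystem S := by
  have key : ∀ U : Subgroup Ω, F.IsCentric U → F.IsFullyNormalized U → IsPGroup p (F.autGroup U) := by
    intro U hUc hU
    induction hk : Nat.card S - Nat.card (normalizerIn S U) using Nat.strong_induction_on generalizing U with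
    | _ k ih =>
    obtain ⟨L, _, ⟨M⟩⟩ := exists_localModel hS hF hU hUc
    have hL := hloc U L hUc hU M fun Y hY hlt => by
      refine autGroup_isPGroup_of_centric hS hF (fun V hVc hV hn => ih _ ?_ V hVc hV rfl) hY hlt
      have h2 : Nat.card (normalizerIn S V) ≤ Nat.card S := Subgroup.card_le_of_le (normalizerIn_le S V)
      omega
    have hUN : U ≤ normalizerIn S U := le_normalizerIn hU.1
    rintro ⟨α, hα⟩
    obtain ⟨g, hg⟩ := M.realize α hα
    obtain ⟨j, hj⟩ := hL g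
    refine ⟨j, Subtype.ext (MulEquiv.ext fun x => ?_)⟩
    have hiter : ∀ (i : ℕ) (x : U), M.ι ⟨((α ^ i) x : U), hUN ((α ^ i) x).2⟩ =
        g ^ i * M.ι ⟨x, hUN x.2⟩ * (g ^ i)⁻¹ := by
      intro i
      induction i with
      | zero => intro x; simp
      | succ i ih' =>
        intro x
        have h1 := ih' (α x)
        have h2 : M.ι ⟨(α x : U), hUN (α x).2⟩ = g * M.ι ⟨x, hUN x.2⟩ * g⁻¹ := hg x _ _
        rw [h2] at h1
        simp only [pow_succ, MulAut.mul_apply]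
        rw [h1]; group
    show (α ^ (p ^ j) : MulAut U) x = x
    have h := hiter (p ^ j) x
    rw [hj, one_mul, inv_one, mul_one] at h
    have := congrArg Subtype.val (M.inj h)
    exact Subtype.ext this
  refine eq_inner_of_autGroup_isPGroup hS hF fun P hP => ?_
  haveI := finite_of_le (normalizerIn_le S P)
  exact autGroup_isPGroup_of_centric hS hF (n := 0) (fun V hVc hV _ => key V hVc hV) hP Nat.card_pos

/-- The maps that fix `z`, if their source has order at least `n`. -/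
noncomputable def fixSystem (F : FusionSystem S) (n : ℕ) {z : Ω} (hzS : z ∈ S)
    (hz : z ∈ Subgroup.centralizer (S : Set Ω)) : FusionSystem S where
  Hom P := {φ | φ ∈ F.Hom P ∧ (n ≤ Nat.card P → (z ∈ P ↔ z ∈ φ.range) ∧ ∀ h : z ∈ P, φ ⟨z, h⟩ = z)}
  le_of_mem h := F.le_of_mem h.1
  injective_of_mem h := F.injective_of_mem h.1
  conj_mem := by
    intro P g hP hg
    have e : g * z * g⁻¹ = z := mul_inv_eq_iff_eq_mul.2 (Subgroup.mem_centralizer_iff.1 hz g hg)
    refine ⟨F.conj_mem hP hg, fun _ => ⟨⟨fun h => ⟨⟨z, h⟩, e⟩, ?_⟩, fun h => e⟩⟩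
    rintro ⟨x, hx⟩
    have hx' : g * (x : Ω) * g⁻¹ = z := hx
    have : (x : Ω) = z := by
      rw [← e] at hx'
      exact mul_left_cancel (mul_right_cancel hx')
    exact this ▸ x.2
  comp_mem := by
    rintro P R φ θ ⟨hφ, hφz⟩ ⟨hθ, hθz⟩ h
    refine ⟨F.comp_mem hφ hθ h, fun hn => ?_⟩
    obtain ⟨h1, h2⟩ := hφz hn
    haveI := finite_of_le (S := S) (hom_le F hθ)
    have hnR : n ≤ Nat.card R := hn.trans (Nat.card_le_card_of_injective (φ.codRestrict R h) fun a b hab =>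
      F.injective_of_mem hφ (congrArg Subtype.val hab))
    obtain ⟨k1, k2⟩ := hθz hnR
    have hfix : ∀ hzP : z ∈ P, θ (φ.codRestrict R h ⟨z, hzP⟩) = z := fun hzP => by
      have hzR : z ∈ R := (h2 hzP) ▸ h ⟨z, hzP⟩
      rw [show φ.codRestrict R h ⟨z, hzP⟩ = ⟨z, hzR⟩ from Subtype.ext (h2 hzP)]
      exact k2 hzR
    refine ⟨⟨fun hzP => ⟨⟨z, hzP⟩, hfix hzP⟩, ?_⟩, hfix⟩
    rintro ⟨x, hx⟩
    have hx' : θ (φ.codRestrict R h x) = z := hx
    have hzR : z ∈ R := k1.2 ⟨_, hx'⟩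
    have he : φ.codRestrict R h x = ⟨z, hzR⟩ := F.injective_of_mem hθ (hx'.trans (k2 hzR).symm)
    exact h1.2 ⟨x, congrArg Subtype.val he⟩
  inv_mem := by
    rintro P φ ⟨hφ, hφz⟩
    obtain ⟨ψ, hψ, hψr, e1, e2⟩ := exists_inv F hφ
    refine ⟨ψ, ⟨hψ, fun hn => ?_⟩, fun x => e1 x _⟩
    have hn' : n ≤ Nat.card P := hn.trans_eq
      (Nat.card_congr (MonoidHom.ofInjective (F.injective_of_mem hφ)).toEquiv).symm
    obtain ⟨h1, h2⟩ := hφz hn'
    refine ⟨by rw [hψr]; exact h1.symm, fun h => ?_⟩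
    have hzP := h1.2 h
    have := e1 ⟨z, hzP⟩ ⟨_, rfl⟩
    exact (apply_congr ψ (h2 hzP).symm h ⟨_, rfl⟩).trans this

/-- An element of `Z(S)` is central if each local model centralizes it, assuming it is fixed by larger normalizers. -/
theorem mem_center_of_local (hS : IsPGroup p S) {F : FusionSystem S} (hF : F.IsSaturated p) {z : Ω} (hzS : z ∈ S)
    (hz : z ∈ Subgroup.centralizer (S : Set Ω))
    (hloc : ∀ (U : Subgroup Ω) (L : Type u) [Group L], F.IsCentric U → F.IsFullyNormalized U →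
      ∀ (M : LocalModel F p U L) (hzU : z ∈ U),
      (∀ Y : Subgroup Ω, Y ≤ S → Nat.card (normalizerIn S U) < Nat.card (normalizerIn S Y) →
        ∀ α ∈ F.autGroup Y, ∀ hzY : z ∈ Y, ((α ⟨z, hzY⟩ : Y) : Ω) = z) →
      ∀ (h : z ∈ normalizerIn S U) (g : L), g * M.ι ⟨z, h⟩ * g⁻¹ = M.ι ⟨z, h⟩) :
    z ∈ F.center := by
  haveI : ∀ X : Subgroup Ω, Finite (normalizerIn S X) := fun X => finite_of_le (normalizerIn_le S X)
  have hzc : ∀ {U : Subgroup Ω}, F.IsCentric U → z ∈ U := fun {U} hU =>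
    centralizerIn_le_of_centric hU ⟨hzS, Subgroup.centralizer_le hU.1 hz⟩
  have hconj : ∀ g ∈ S, g * z * g⁻¹ = z := fun g hg =>
    mul_inv_eq_iff_eq_mul.2 (Subgroup.mem_centralizer_iff.1 hz g hg)
  have hstep : ∀ U, F.IsCentric U → F.IsFullyNormalized U →
      (∀ Y : Subgroup Ω, Y ≤ S → Nat.card (normalizerIn S U) < Nat.card (normalizerIn S Y) →
        ∀ α ∈ F.autGroup Y, ∀ hzY : z ∈ Y, ((α ⟨z, hzY⟩ : Y) : Ω) = z) →
      ∀ α ∈ F.autGroup U, ∀ hzU : z ∈ U, ((α ⟨z, hzU⟩ : U) : Ω) = z := by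
    intro U hUc hU hIH α hα hzU
    obtain ⟨L, _, ⟨M⟩⟩ := exists_localModel hS hF hU hUc
    have hUN : U ≤ normalizerIn S U := le_normalizerIn hU.1
    obtain ⟨g, hg⟩ := M.realize α hα
    have h := (hg ⟨z, hzU⟩ (hUN (α _).2) (hUN hzU)).trans (hloc U L hUc hU M hzU hIH _ g)
    exact congrArg Subtype.val (M.inj h)
  have hSc : F.IsCentric S := ⟨le_rfl, fun Q hQ => by
    rw [show Q = S from Subgroup.eq_of_le_of_card_ge (isConj_le_right hQ) (by rw [isConj_card hQ])]
    exact inf_le_left⟩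
  have hSn : normalizerIn S S = S := le_antisymm (normalizerIn_le S S) (le_normalizerIn le_rfl)
  have htop : ∀ α ∈ F.autGroup S, ((α ⟨z, hzS⟩ : S) : Ω) = z := fun α hα =>
    hstep S hSc ⟨le_rfl, fun Q hQ => (Subgroup.card_le_of_le (normalizerIn_le S Q)).trans_eq (by rw [hSn])⟩
      (fun Y _ hlt => absurd ((Subgroup.card_le_of_le (normalizerIn_le S Y)).trans_eq (by rw [hSn])) hlt.not_ge)
      α hα hzS
  -- maps on large subgroups
  have hlarge : ∀ n, (∀ Q, F.IsEssential p Q → n ≤ Nat.card Q → ∀ α ∈ F.autGroup Q, ∀ hzQ : z ∈ Q,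
      ((α ⟨z, hzQ⟩ : Q) : Ω) = z) → ∀ (P : Subgroup Ω) (φ : P →* Ω), φ ∈ F.Hom P → n ≤ Nat.card P →
      ∀ h : z ∈ P, φ ⟨z, h⟩ = z := by
    intro n hn P φ hφ hnP h
    refine ((alperin_ge hS hF (E := fixSystem F n hzS hz) (n := n) ?_ hnP hφ).2 hnP).2 h
    intro Q hQ hnQ α hα
    have hQS : Q ≤ S := hQ.elim (fun e => e.le) fun e => e.1.1
    rw [mem_autGroup_iff _ hQS]
    refine ⟨(mem_autGroup_iff F hQS α).1 hα, fun _ => ?_⟩
    have hfix : ∀ hzQ : z ∈ Q, ((α ⟨z, hzQ⟩ : Q) : Ω) = z := by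
      rcases hQ with rfl | hQ
      · exact fun _ => htop α hα
      · exact hn Q hQ hnQ α hα
    exact ⟨⟨fun hzQ => ⟨⟨z, hzQ⟩, hfix hzQ⟩, fun ⟨x, hx⟩ => hx ▸ (α x).2⟩, hfix⟩
  have key : ∀ U, F.IsCentric U → F.IsFullyNormalized U → ∀ α ∈ F.autGroup U, ∀ hzU : z ∈ U,
      ((α ⟨z, hzU⟩ : U) : Ω) = z := by
    intro U hUc hU
    induction hk : Nat.card S - Nat.card (normalizerIn S U) using Nat.strong_induction_on generalizing U with
    | _ k ih =>
    set n := Nat.card (normalizerIn S U) with hndef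
    have hbig : ∀ V, F.IsCentric V → F.IsFullyNormalized V → n < Nat.card (normalizerIn S V) →
        ∀ α ∈ F.autGroup V, ∀ hzV : z ∈ V, ((α ⟨z, hzV⟩ : V) : Ω) = z := fun V hVc hV hlt => by
      refine ih _ ?_ V hVc hV rfl
      have h2 : Nat.card (normalizerIn S V) ≤ Nat.card S := Subgroup.card_le_of_le (normalizerIn_le S V)
      omega
    have hess : ∀ Q, F.IsEssential p Q → n ≤ Nat.card Q → ∀ α ∈ F.autGroup Q, ∀ hzQ : z ∈ Q,
        ((α ⟨z, hzQ⟩ : Q) : Ω) = z := fun Q hQ hnQ => by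
      refine hbig Q hQ.1 hQ.2.1 (hnQ.trans_lt ?_)
      have hlt := lt_normalizerIn hS (essential_lt hS hF hQ)
      exact lt_of_le_of_ne (Subgroup.card_le_of_le hlt.le) fun e => hlt.ne (Subgroup.eq_of_le_of_card_ge hlt.le e.ge)
    refine hstep U hUc hU fun Y hY hlt => ?_
    intro α hα hzY
    have hmap : ∀ (X : Subgroup Ω) (φ : X →* Ω), φ ∈ F.Hom X → n ≤ Nat.card X → ∀ h : z ∈ X, φ ⟨z, h⟩ = z :=
      hlarge n hess
    obtain ⟨Y', hY', -, ψ, hψ, hψm, e, he, hcongr⟩ := exists_transfer hS hF hY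
    have hez : (e ⟨z, hzY⟩ : Ω) = z := (he _).symm.trans (hmap _ ψ hψ hlt.le (le_normalizerIn hY hzY))
    have hzY' : z ∈ Y' := hez ▸ (e ⟨z, hzY⟩).2
    have hn' : n < Nat.card (normalizerIn S Y') := hlt.trans_le (card_le_normalizer_map hψ hψm)
    obtain ⟨R, hYR, -, hRc, hNle, hext⟩ := exists_extend_centric hS hF hY'
    obtain ⟨R', hR', hRR', ψ', hψ', hψ'm, e', he', hcongr'⟩ := exists_transfer hS hF hRc.1
    have hzR : z ∈ R := hYR hzY'
    have hnR0 : n < Nat.card (normalizerIn S R) := hn'.trans_le (Subgroup.card_le_of_le hNle)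
    have hnR : n < Nat.card (normalizerIn S R') := hnR0.trans_le (card_le_normalizer_map hψ' hψ'm)
    have hez' : (e' ⟨z, hzR⟩ : Ω) = z := (he' _).symm.trans (hmap _ ψ' hψ' hnR0.le (le_normalizerIn hRc.1 hzR))
    have hzR' : z ∈ R' := hez' ▸ (e' ⟨z, hzR⟩).2
    have hR'c : F.IsCentric R' := isCentric_isConj hRc hRR'
    have hfixR : ∀ β ∈ F.autGroup R, β ⟨z, hzR⟩ = ⟨z, hzR⟩ := by
      intro β hβ
      have hm : MulAut.congr e' β ∈ F.autGroup R' := hcongr' ▸ ⟨β, hβ, rfl⟩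
      have h1 := hbig R' hR'c hR' hnR _ hm hzR'
      rw [show (⟨z, hzR'⟩ : R') = e' ⟨z, hzR⟩ from Subtype.ext hez'.symm, congr_apply, e'.symm_apply_apply] at h1
      exact e'.injective (Subtype.ext (h1.trans hez'.symm))
    have hfixY' : ∀ γ ∈ F.autGroup Y', γ ⟨z, hzY'⟩ = ⟨z, hzY'⟩ := by
      intro γ hγ
      obtain ⟨β, hβ, hβe⟩ := hext γ hγ
      refine Subtype.ext ?_
      rw [← hβe ⟨z, hzY'⟩]
      exact congrArg Subtype.val (hfixR β hβ)
    have hm : MulAut.congr e α ∈ F.autGroup Y' := hcongr ▸ ⟨α, hα, rfl⟩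
    have h1 := hfixY' _ hm
    rw [show (⟨z, hzY'⟩ : Y') = e ⟨z, hzY⟩ from Subtype.ext hez.symm, congr_apply, e.symm_apply_apply] at h1
    exact congrArg Subtype.val (e.injective h1)
  refine isCentral_le_center ((isCentral_iff hS hF _).2
    ⟨Subgroup.zpowers_le.2 hzS, fun x hx y hy => ?_⟩) (Subgroup.mem_zpowers z)
  have hxS : x ∈ S := Subgroup.zpowers_le.2 hzS hx
  have hxC : x ∈ Subgroup.centralizer (S : Set Ω) := Subgroup.zpowers_le.2 hz hx
  obtain ⟨φ, hφ, rfl⟩ := hy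
  refine ((alperin_ge hS hF (E := fixSystem F 0 hxS hxC) (n := 0) ?_ (Nat.zero_le _) hφ).2
    (Nat.zero_le _)).2 (Subgroup.mem_zpowers x)
  intro Q hQ _ α hα
  have hQS : Q ≤ S := hQ.elim (fun e => e.le) fun e => e.1.1
  have hzQ : z ∈ Q := hQ.elim (fun e => e ▸ hzS) fun e => hzc e.1
  have hαz : α ⟨z, hzQ⟩ = ⟨z, hzQ⟩ := Subtype.ext (by
    rcases hQ with rfl | hQ
    · exact htop α hα
    · exact key Q hQ.1 hQ.2.1 α hα hzQ)
  rw [mem_autGroup_iff _ hQS]
  refine ⟨(mem_autGroup_iff F hQS α).1 hα, fun _ => ?_⟩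
  have hfix : ∀ hxQ : x ∈ Q, ((α ⟨x, hxQ⟩ : Q) : Ω) = x := by
    intro hxQ
    obtain ⟨k, rfl⟩ := Subgroup.mem_zpowers_iff.1 hx
    rw [show (⟨z ^ k, hxQ⟩ : Q) = (⟨z, hzQ⟩ : Q) ^ k from Subtype.ext (by simp), map_zpow, hαz]
    simp
  exact ⟨⟨fun hxQ => ⟨⟨x, hxQ⟩, hfix hxQ⟩, fun ⟨w, hw⟩ => hw ▸ (α w).2⟩, hfix⟩

end Cfsg.Agent.FusionSys
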