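import Mathlib.GroupTheory.GroupAction.Quotient
import Mathlib.GroupTheory.Sylow
import Mathlib.Data.Nat.ModEq

/-!
# Fixed-point counts of finite group sets

Equal counts for all subgroups give isomorphic sets; equal counts strictly above a normal subgroup give a
congruence at it.
-/

set_option autoImplicit false

namespace Cfsg.Agent.FusionSys

open MulAction
open scoped Pointwise

variable {N A B : Type*} [Group N] [MulAction N A] [MulAction N B]

/-- The number of fixed points of a subgroup. -/
noncomputable def fixCount (A : Type*) [MulAction N A] (D : Subgroup N) : ℕ :=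
  Nat.card {x : A // D ≤ stabilizer N x}

/-- The number of points with a given stabilizer. -/
noncomputable def exactCount (A : Type*) [MulAction N A] (D : Subgroup N) : ℕ :=
  Nat.card {x : A // stabilizer N x = D}

theorem fixCount_conj (D : Subgroup N) (g : N) :
    fixCount A (D.map (MulAut.conj g).toMonoidHom) = fixCount A D := by
  refine (Nat.card_congr (Equiv.subtypeEquiv (MulAction.toPerm g) fun x => ?_)).symm
  rw [MulAction.toPerm_apply, stabilizer_smul_eq_stabilizer_map_conj]
  exact (Subgroup.map_le_map_iff_of_injective (MulAut.conj g).injective).symm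

variable [Finite N] [Finite A] [Finite B]

open scoped Classical in
theorem fixCount_eq_sum [Fintype (Subgroup N)] (D : Subgroup N) :
    fixCount A D = ∑ E ∈ Finset.univ.filter (fun E : Subgroup N => D ≤ E), exactCount A E := by
  classical
  letI := Fintype.ofFinite A
  unfold fixCount exactCount
  simp only [Nat.card_eq_fintype_card, Fintype.card_subtype]
  rw [Finset.card_eq_sum_card_fiberwise (f := fun x : A => stabilizer N x)
    (t := Finset.univ.filter (fun E : Subgroup N => D ≤ E)) fun x hx => by simpa using hx]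
  refine Finset.sum_congr rfl fun E hE => ?_
  rw [Finset.filter_filter]
  congr 1
  ext x
  simp only [Finset.mem_filter, Finset.mem_univ, true_and, and_iff_right_iff_imp]
  rintro rfl
  simpa using hE

open scoped Classical in
theorem fixCount_eq_add [Fintype (Subgroup N)] (D : Subgroup N) :
    fixCount A D = exactCount A D + ∑ E ∈ Finset.univ.filter (fun E : Subgroup N => D < E), exactCount A E := by
  rw [fixCount_eq_sum]
  have : Finset.univ.filter (fun E : Subgroup N => D ≤ E) =
      insert D (Finset.univ.filter (fun E : Subgroup N => D < E)) := by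
    ext E
    simp only [Finset.mem_filter, Finset.mem_univ, true_and, Finset.mem_insert]
    constructor
    · intro h
      rcases eq_or_lt_of_le h with h | h
      · exact Or.inl h.symm
      · exact Or.inr h
    · rintro (rfl | h)
      · exact le_rfl
      · exact h.le
  rw [this, Finset.sum_insert (by simp)]

theorem exactCount_eq (D : Subgroup N) (h : ∀ E, D ≤ E → fixCount A E = fixCount B E) :
    exactCount A D = exactCount B D := by
  classical
  letI := Fintype.ofFinite (Subgroup N)
  induction D using WellFoundedGT.induction with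
  | _ D ih =>
    have h1 := fixCount_eq_add (A := A) D
    have h2 := fixCount_eq_add (A := B) D
    rw [h D le_rfl] at h1
    have hs : ∑ E ∈ Finset.univ.filter (fun E : Subgroup N => D < E), exactCount A E =
        ∑ E ∈ Finset.univ.filter (fun E : Subgroup N => D < E), exactCount B E :=
      Finset.sum_congr rfl fun E hE => ih E (Finset.mem_filter.1 hE).2
        fun E' hE' => h E' ((Finset.mem_filter.1 hE).2.le.trans hE')
    rw [hs] at h1
    omega

theorem index_dvd_exactCount (R : Subgroup N) [R.Normal] : R.index ∣ exactCount A R := by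
  classical
  let U : SubMulAction N A :=
    { carrier := {x | stabilizer N x = R}
      smul_mem' := fun g x hx => by
        show stabilizer N (g • x) = R
        rw [stabilizer_smul_eq_stabilizer_map_conj, show stabilizer N x = R from hx]
        ext y
        simp only [Subgroup.mem_map, MulEquiv.coe_toMonoidHom]
        constructor
        · rintro ⟨z, hz, rfl⟩
          exact ‹R.Normal›.conj_mem z hz g
        · intro hy
          refine ⟨g⁻¹ * y * g, ?_, by simp [mul_assoc]⟩
          simpa using ‹R.Normal›.conj_mem y hy g⁻¹ }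
  have hU : exactCount A R = Nat.card U := rfl
  letI := Fintype.ofFinite (orbitRel.Quotient N U)
  rw [hU, Nat.card_congr (selfEquivSigmaOrbitsQuotientStabilizer N U), Nat.card_sigma]
  refine Finset.dvd_sum fun ω _ => ?_
  have : stabilizer N ω.out = R := by
    rw [SubMulAction.stabilizer_of_subMul]
    exact ω.out.2
  rw [this]
  rfl

/-- Equal counts strictly above a normal subgroup give congruent counts at it. -/
theorem fixCount_modEq (R : Subgroup N) [R.Normal] (h : ∀ E, R < E → fixCount A E = fixCount B E) :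
    fixCount A R ≡ fixCount B R [MOD R.index] := by
  classical
  letI := Fintype.ofFinite (Subgroup N)
  rw [fixCount_eq_add, fixCount_eq_add (A := B)]
  rw [Finset.sum_congr rfl fun E hE => exactCount_eq (B := B) E fun E' hE' =>
    h E' ((Finset.mem_filter.1 hE).2.trans_le hE')]
  refine Nat.ModEq.add_right _ ?_
  exact (Nat.modEq_zero_iff_dvd.2 (index_dvd_exactCount R)).trans
    (Nat.modEq_zero_iff_dvd.2 (index_dvd_exactCount R)).symm

/-- Equal counts for all subgroups give an equivariant bijection. -/
theorem exists_equiv_of_fixCount (h : ∀ E : Subgroup N, fixCount A E = fixCount B E) :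
    ∃ e : A ≃ B, ∀ (g : N) (x : A), e (g • x) = g • e x := by
  classical
  have key : ∀ n, ∀ (U : Set A) (V : Set B), U.ncard = n → (∀ (g : N) x, x ∈ U → g • x ∈ U) →
      (∀ (g : N) y, y ∈ V → g • y ∈ V) →
      (∀ D : Subgroup N, {x ∈ U | stabilizer N x = D}.ncard = {y ∈ V | stabilizer N y = D}.ncard) →
      ∃ Γ : A → B → Prop, (∀ (g : N) x y, Γ x y → Γ (g • x) (g • y)) ∧ (∀ x y, Γ x y → x ∈ U ∧ y ∈ V) ∧
        (∀ x ∈ U, ∃! y, Γ x y) ∧ ∀ y ∈ V, ∃! x, Γ x y := by
    intro n
    induction n using Nat.strong_induction_on with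
    | _ n ih =>
      intro U V hn hU hV hcount
      rcases U.eq_empty_or_nonempty with hUe | ⟨x₀, hx₀⟩
      · refine ⟨fun _ _ => False, by simp, by simp, by simp [hUe], fun y hy => ?_⟩
        have h0 := hcount (stabilizer N y)
        simp only [hUe, Set.mem_empty_iff_false, false_and, Set.setOf_false, Set.ncard_empty] at h0
        exact absurd ⟨hy, rfl⟩ (Set.eq_empty_iff_forall_notMem.1
          ((Set.ncard_eq_zero (Set.toFinite _)).1 h0.symm) y)
      obtain ⟨y₀, hy₀, hy₀s⟩ : {y ∈ V | stabilizer N y = stabilizer N x₀}.Nonempty := by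
        refine Set.nonempty_of_ncard_ne_zero ?_
        rw [← hcount]
        exact Set.ncard_ne_zero_of_mem (a := x₀) ⟨hx₀, rfl⟩ (Set.toFinite _)
      have hst : ∀ g g' : N, g • x₀ = g' • x₀ ↔ g • y₀ = g' • y₀ := by
        intro g g'
        have e1 : g • x₀ = g' • x₀ ↔ g'⁻¹ * g ∈ stabilizer N x₀ := by
          rw [mem_stabilizer_iff, mul_smul, inv_smul_eq_iff]
        have e2 : g • y₀ = g' • y₀ ↔ g'⁻¹ * g ∈ stabilizer N y₀ := by
          rw [mem_stabilizer_iff, mul_smul, inv_smul_eq_iff]
        rw [e1, e2, hy₀s]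
      set U' := U \ orbit N x₀ with hU'
      set V' := V \ orbit N y₀ with hV'
      have hU'inv : ∀ (g : N) x, x ∈ U' → g • x ∈ U' := by
        intro g x hx
        refine ⟨hU g x hx.1, fun ho => hx.2 ?_⟩
        obtain ⟨k, hk : k • x₀ = g • x⟩ := ho
        exact ⟨g⁻¹ * k, show (g⁻¹ * k) • x₀ = x by rw [mul_smul, hk, inv_smul_smul]⟩
      have hV'inv : ∀ (g : N) y, y ∈ V' → g • y ∈ V' := by
        intro g y hy
        refine ⟨hV g y hy.1, fun ho => hy.2 ?_⟩
        obtain ⟨k, hk : k • y₀ = g • y⟩ := ho
        exact ⟨g⁻¹ * k, show (g⁻¹ * k) • y₀ = y by rw [mul_smul, hk, inv_smul_smul]⟩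
      have hstab : ∀ g : N, stabilizer N (g • x₀) = stabilizer N (g • y₀) := fun g => by
        rw [stabilizer_smul_eq_stabilizer_map_conj, stabilizer_smul_eq_stabilizer_map_conj, hy₀s]
      have horb : ∀ D, {x ∈ orbit N x₀ | stabilizer N x = D}.ncard =
          {y ∈ orbit N y₀ | stabilizer N y = D}.ncard := by
        intro D
        refine Set.ncard_congr (fun x hx => Classical.choose hx.1 • y₀) ?_ ?_ ?_
        · intro x hx
          have hk : Classical.choose hx.1 • x₀ = x := Classical.choose_spec hx.1
          refine ⟨⟨_, rfl⟩, ?_⟩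
          rw [← hstab, hk]
          exact hx.2
        · intro x x' hx hx' he
          have hk : Classical.choose hx.1 • x₀ = x := Classical.choose_spec hx.1
          have hk' : Classical.choose hx'.1 • x₀ = x' := Classical.choose_spec hx'.1
          rw [← hk, ← hk']
          exact (hst _ _).2 he
        · rintro y ⟨⟨k, rfl⟩, hyD⟩
          have hx : k • x₀ ∈ {x ∈ orbit N x₀ | stabilizer N x = D} := ⟨⟨k, rfl⟩, by rw [hstab]; exact hyD⟩
          exact ⟨k • x₀, hx, (hst _ _).1 (Classical.choose_spec hx.1)⟩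
      have hsub : ∀ (D : Subgroup N), {x ∈ U' | stabilizer N x = D}.ncard = {y ∈ V' | stabilizer N y = D}.ncard := by
        intro D
        have e1 : {x ∈ U' | stabilizer N x = D} =
            {x ∈ U | stabilizer N x = D} \ {x ∈ orbit N x₀ | stabilizer N x = D} := by
          ext x; simp only [hU', Set.mem_diff, Set.mem_setOf_eq]; tauto
        have e2 : {y ∈ V' | stabilizer N y = D} =
            {y ∈ V | stabilizer N y = D} \ {y ∈ orbit N y₀ | stabilizer N y = D} := by
          ext x; simp only [hV', Set.mem_diff, Set.mem_setOf_eq]; tauto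
        rw [e1, e2, Set.ncard_sdiff ?_ (Set.toFinite _), Set.ncard_sdiff ?_ (Set.toFinite _), hcount, horb]
        · rintro x ⟨⟨k, rfl⟩, hs⟩; exact ⟨hV k y₀ hy₀, hs⟩
        · rintro x ⟨⟨k, rfl⟩, hs⟩; exact ⟨hU k x₀ hx₀, hs⟩
      have hlt : U'.ncard < n := hn ▸ Set.ncard_lt_ncard (Set.ssubset_iff_subset_ne.2
        ⟨Set.sdiff_subset, fun he => (he.symm.le hx₀).2 (mem_orbit_self x₀)⟩) (Set.toFinite _)
      obtain ⟨Γ, hΓ, hΓmem, hΓ1, hΓ2⟩ := ih _ hlt U' V' rfl hU'inv hV'inv hsub
      refine ⟨fun x y => Γ x y ∨ ∃ k : N, x = k • x₀ ∧ y = k • y₀, ?_, ?_, fun x hx => ?_, fun y hy => ?_⟩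
      · rintro g x y (hxy | ⟨k, rfl, rfl⟩)
        · exact Or.inl (hΓ g x y hxy)
        · exact Or.inr ⟨g * k, (mul_smul _ _ _).symm, (mul_smul _ _ _).symm⟩
      · rintro x y (hxy | ⟨k, rfl, rfl⟩)
        · exact ⟨(hΓmem x y hxy).1.1, (hΓmem x y hxy).2.1⟩
        · exact ⟨hU k x₀ hx₀, hV k y₀ hy₀⟩
      · by_cases ho : x ∈ orbit N x₀
        · obtain ⟨k, rfl⟩ := ho
          refine ⟨k • y₀, Or.inr ⟨k, rfl, rfl⟩, ?_⟩
          rintro y (hxy | ⟨k', hk', rfl⟩)
          · exact absurd ⟨k, rfl⟩ (hΓmem _ _ hxy).1.2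
          · exact ((hst _ _).1 hk').symm
        · obtain ⟨y, hy, huniq⟩ := hΓ1 x ⟨hx, ho⟩
          refine ⟨y, Or.inl hy, ?_⟩
          rintro y' (hxy | ⟨k', rfl, -⟩)
          · exact huniq y' hxy
          · exact absurd ⟨k', rfl⟩ ho
      · by_cases ho : y ∈ orbit N y₀
        · obtain ⟨k, rfl⟩ := ho
          refine ⟨k • x₀, Or.inr ⟨k, rfl, rfl⟩, ?_⟩
          rintro x (hxy | ⟨k', rfl, hk'⟩)
          · exact absurd ⟨k, rfl⟩ (hΓmem _ _ hxy).2.2
          · exact ((hst _ _).2 hk').symm
        · obtain ⟨x, hx, huniq⟩ := hΓ2 y ⟨hy, ho⟩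
          refine ⟨x, Or.inl hx, ?_⟩
          rintro x' (hxy | ⟨k', -, rfl⟩)
          · exact huniq x' hxy
          · exact absurd ⟨k', rfl⟩ ho
  obtain ⟨Γ, hΓ, -, hΓ1, hΓ2⟩ := key _ (Set.univ : Set A) (Set.univ : Set B) rfl (by simp) (by simp) fun D => by
    simp only [Set.mem_univ, true_and]
    rw [← Nat.card_coe_set_eq, ← Nat.card_coe_set_eq]
    exact exactCount_eq D fun E _ => h E
  choose e he hu using fun x => hΓ1 x trivial
  choose i hi hv using fun y => hΓ2 y trivial
  exact ⟨⟨e, i, fun x => (hv (e x) x (he x)).symm, fun y => (hu (i y) y (hi y)).symm⟩,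
    fun g x => (hu (g • x) (g • e x) (hΓ g x _ (he x))).symm⟩

/-- An equivariant map exists as soon as every stabilizer fixes a point of the target. -/
theorem exists_equivariant {K X Y : Type*} [Group K] [MulAction K X] [MulAction K Y]
    (h : ∀ x : X, ∃ y : Y, stabilizer K x ≤ stabilizer K y) :
    ∃ f : X → Y, ∀ (k : K) (x : X), f (k • x) = k • f x := by
  classical
  let r : X → X := fun x => (Quotient.mk (orbitRel K X) x).out
  have hr : ∀ x, ∃ k : K, k • r x = x := fun x => by
    have h1 : (orbitRel K X).r (r x) x := Quotient.mk_out x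
    obtain ⟨k, hk : k • x = r x⟩ := h1
    exact ⟨k⁻¹, by rw [← hk, inv_smul_smul]⟩
  choose k hk using hr
  choose y hy using h
  refine ⟨fun x => k x • y (r x), fun g x => ?_⟩
  have hrg : r (g • x) = r x := congrArg Quotient.out (Quotient.sound (show (orbitRel K X).r (g • x) x from ⟨g, rfl⟩))
  show k (g • x) • y (r (g • x)) = g • k x • y (r x)
  rw [hrg, smul_smul]
  have h1 : ((g * k x)⁻¹ * k (g • x)) • r x = r x := by
    rw [mul_smul, inv_smul_eq_iff, mul_smul, hk]
    have := hk (g • x)
    rwa [hrg] at this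
  have h2 := hy (r x) h1
  rw [mem_stabilizer_iff, mul_smul, inv_smul_eq_iff] at h2
  exact h2

end Cfsg.Agent.FusionSys
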