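import Cfsg.Agent.Lib.Fusion.ClosedMetacyclicTwo
import Mathlib.FieldTheory.Finite.Basic
import Mathlib.GroupTheory.Abelianization.Defs

/-!
# Automorphisms of non-abelian metacyclic `p`-groups, `p` odd

Such a group has a characteristic maximal subgroup `V` with `V / Φ` cyclic, so an automorphism group of order prime
to `p` is abelian of exponent dividing `p - 1`.
-/

set_option autoImplicit false

namespace Cfsg.Agent.MetaOdd

open scoped commutatorElement

variable {G : Type*} [Group G] [Finite G] {p : ℕ} [hp : Fact p.Prime]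

omit hp in
/-- Powers of a product when the commutator is central. -/
theorem mul_pow_class_two {Q : Type*} [Group Q] {u w c : Q} (hc : ∀ g : Q, Commute c g) (he : w * u = c * (u * w)) :
    ∀ n : ℕ, (u * w) ^ n = u ^ n * w ^ n * c ^ n.choose 2 := by
  have hsw : ∀ n : ℕ, w ^ n * u = c ^ n * (u * w ^ n) := by
    intro n
    induction n with
    | zero => simp
    | succ n ih =>
      calc w ^ (n + 1) * u = w ^ n * (w * u) := by rw [pow_succ, mul_assoc]
        _ = w ^ n * c * (u * w) := by rw [he]; simp only [mul_assoc]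
        _ = c * (w ^ n * u) * w := by rw [← (hc (w ^ n)).eq]; simp only [mul_assoc]
        _ = _ := by rw [ih, pow_succ' c, pow_succ w]; simp only [mul_assoc]
  intro n
  induction n with
  | zero => simp
  | succ n ih =>
    have hC : ∀ g : Q, Commute (c ^ n.choose 2) g := fun g => (hc g).pow_left _
    calc (u * w) ^ (n + 1) = u ^ n * w ^ n * (c ^ n.choose 2 * (u * w)) := by
          rw [pow_succ, ih]; simp only [mul_assoc]
      _ = u ^ n * (w ^ n * u) * w * c ^ n.choose 2 := by rw [(hC (u * w)).eq]; simp only [mul_assoc]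
      _ = u ^ n * c ^ n * (u * w ^ n) * w * c ^ n.choose 2 := by rw [hsw]; simp only [mul_assoc]
      _ = u ^ n * u * c ^ n * w ^ n * w * c ^ n.choose 2 := by
          simp only [mul_assoc]; rw [← mul_assoc (c ^ n) u, ((hc u).pow_left n).eq, mul_assoc]
      _ = u ^ (n + 1) * (w ^ n * w) * (c ^ n * c ^ n.choose 2) := by
          rw [pow_succ]; simp only [mul_assoc]; rw [← mul_assoc (c ^ n) (w ^ n), ((hc (w ^ n)).pow_left n).eq,
            mul_assoc, ← mul_assoc (c ^ n) w, ((hc w).pow_left n).eq, mul_assoc]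
      _ = _ := by
          rw [← pow_succ, ← pow_add, Nat.choose_succ_succ' n 1, Nat.choose_one_right]

/-- An automorphism acts on a cyclic section of exponent `p` as a power map. -/
theorem step (U L : Subgroup G) [L.Normal] (hg : ∃ g ∈ U, ∀ u ∈ U, ∃ i : ℤ, (u : G ⧸ L) = (g : G ⧸ L) ^ i)
    (hexp : ∀ u ∈ U, u ^ p ∈ L) (H : Subgroup (MulAut G)) (hU : ∀ α ∈ H, ∀ u ∈ U, α u ∈ U)
    (hL : ∀ α ∈ H, ∀ u ∈ L, α u ∈ L) {α β : MulAut G} (hα : α ∈ H) (hβ : β ∈ H) {u : G} (hu : u ∈ U) :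
    (((α * β * α⁻¹ * β⁻¹) u : G) : G ⧸ L) = u ∧ (((α ^ (p - 1)) u : G) : G ⧸ L) = u := by
  obtain ⟨g, hgU, hgen⟩ := hg
  have hr : ∀ γ ∈ H, ∃ r : ℤ, ∀ v ∈ U, ((γ v : G) : G ⧸ L) = (v : G ⧸ L) ^ r := by
    intro γ hγ
    obtain ⟨r, hr⟩ := hgen _ (hU γ hγ g hgU)
    refine ⟨r, fun v hv => ?_⟩
    obtain ⟨i, hi⟩ := hgen v hv
    rw [← QuotientGroup.mk_zpow, QuotientGroup.eq] at hi
    have h1 := hL γ hγ _ hi
    rw [map_mul, map_inv, ← QuotientGroup.eq, map_zpow, QuotientGroup.mk_zpow, hr] at h1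
    rw [h1, QuotientGroup.eq.2 hi, QuotientGroup.mk_zpow, ← zpow_mul, ← zpow_mul, mul_comm]
  obtain ⟨r, hr'⟩ := hr α hα
  obtain ⟨s, hs⟩ := hr β hβ
  constructor
  · set w : G := α⁻¹ (β⁻¹ u)
    have hw : w ∈ U := hU _ (H.inv_mem hα) _ (hU _ (H.inv_mem hβ) _ hu)
    have hu' : u = β (α w) := by
      show u = β (α (α⁻¹ (β⁻¹ u)))
      rw [MulAut.apply_inv_self, MulAut.apply_inv_self]
    show ((α (β w) : G) : G ⧸ L) = _
    rw [hu', hr' _ (hU _ hβ _ hw), hs _ hw, hs _ (hU _ hα _ hw), hr' _ hw, ← zpow_mul, ← zpow_mul, mul_comm]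
  · have hit : ∀ n : ℕ, (((α ^ n) u : G) : G ⧸ L) = (u : G ⧸ L) ^ (r ^ n) := by
      intro n
      induction n with
      | zero => simp
      | succ n ih =>
        rw [pow_succ', MulAut.mul_apply, hr' _ (hU _ (H.pow_mem hα n) _ hu), ih, ← zpow_mul, pow_succ]
    rw [hit]
    by_cases hr0 : (p : ℤ) ∣ r
    · have h1 : ((u : G) : G ⧸ L) ^ r = 1 := by
        obtain ⟨l, rfl⟩ := hr0
        rw [zpow_mul, zpow_natCast, ← QuotientGroup.mk_pow, (QuotientGroup.eq_one_iff _).2 (hexp u hu), one_zpow]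
      have h2 : u ∈ L := by
        have h3 : α u ∈ L := (QuotientGroup.eq_one_iff _).1 ((hr' u hu).trans h1)
        simpa using hL _ (H.inv_mem hα) _ h3
      rw [(QuotientGroup.eq_one_iff u).2 h2, one_zpow]
    · have h := Int.ModEq.pow_card_sub_one_eq_one hp.out
        ((Nat.prime_iff_prime_int.1 hp.out).coprime_iff_not_dvd.2 hr0).symm
      obtain ⟨l, hl⟩ := Int.modEq_iff_dvd.1 h.symm
      rw [show r ^ (p - 1) = p * l + 1 by linarith, zpow_add, zpow_mul, zpow_natCast, ← QuotientGroup.mk_pow,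
        (QuotientGroup.eq_one_iff _).2 (hexp u hu), one_zpow, one_mul, zpow_one]

/-- An automorphism of order prime to `p` trivial modulo the Frattini subgroup is trivial. -/
theorem eq_one_of_frattini (hG : IsPGroup p G) {α : MulAut G}
    (ho : (orderOf α).Coprime p) (h : ∀ x : G, α x * x⁻¹ ∈ frattini G) : α = 1 := by
  obtain ⟨n, hn⟩ := IsPGroup.iff_card.1 hG
  obtain ⟨r, hr, hre⟩ := (Nat.dvd_prime_pow hp.out).1 (hn ▸ (frattini G).index_dvd_card)
  let A : Subgroup (MulAut G) :=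
    { carrier := {β | ∀ x : G, β x * x⁻¹ ∈ frattini G}
      one_mem' := fun x => by simp
      mul_mem' := fun {β γ} hβ hγ x => by
        have := mul_mem (hβ (γ x)) (hγ x)
        simpa [mul_assoc] using this
      inv_mem' := fun {β} hβ x => by
        have h1 := inv_mem (hβ (β⁻¹ x))
        rw [show β (β⁻¹ x) = x from β.apply_symm_apply x, mul_inv_rev, inv_inv] at h1
        exact h1 }
  have h1 := Cfsg.Agent.FrattiniAut.card_dvd_of_trivial hn hre A fun β hβ => hβ
  have h2 : orderOf α ∣ p ^ (r * (n - r)) := by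
    rw [← Subgroup.orderOf_mk α (show α ∈ A from h)]
    exact (orderOf_dvd_natCard _).trans h1
  exact orderOf_eq_one_iff.1 (Nat.eq_one_of_dvd_coprimes (ho.pow_right _) dvd_rfl h2)

/-- A coprime automorphism trivial on both sections is trivial. -/
theorem eq_one_of_sections (hG : IsPGroup p G) {V : Subgroup G} {γ : MulAut G} (ho : (orderOf γ).Coprime p)
    (h1 : ∀ y, y⁻¹ * γ y ∈ V) (h2 : ∀ y ∈ V, y⁻¹ * γ y ∈ frattini G) : γ = 1 := by
  haveI : (frattini G).Normal := inferInstance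
  refine eq_one_of_frattini hG ho fun y => ?_
  set Φ := frattini G
  have hΦγ : ∀ v ∈ Φ, γ v ∈ Φ := fun v hv =>
    (Subgroup.characteristic_iff_comap_eq.1 (frattini_characteristic (G := G)) γ).ge hv
  set w := y⁻¹ * γ y with hw
  have hwU : (QuotientGroup.mk (γ w) : G ⧸ Φ) = QuotientGroup.mk w := ((QuotientGroup.eq).2 (h2 w (h1 y))).symm
  have hiter : ∀ n : ℕ, (QuotientGroup.mk ((γ ^ n) y) : G ⧸ Φ) = QuotientGroup.mk (y * w ^ n) := by
    intro n
    induction n with
    | zero => simp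
    | succ n ih =>
      have he : (QuotientGroup.mk (γ ((γ ^ n) y)) : G ⧸ Φ) = QuotientGroup.mk (γ (y * w ^ n)) := QuotientGroup.eq.2 (by
        rw [← map_inv, ← map_mul]; exact hΦγ _ (QuotientGroup.eq.1 ih))
      rw [pow_succ', MulAut.mul_apply, he, map_mul, map_pow, show γ y = y * w by rw [hw]; group,
        QuotientGroup.mk_mul, QuotientGroup.mk_mul, QuotientGroup.mk_pow, hwU, QuotientGroup.mk_mul (N := Φ) y (w ^ (n + 1)),
        QuotientGroup.mk_pow, pow_succ', mul_assoc]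
  have h3 := hiter (orderOf γ)
  rw [pow_orderOf_eq_one, MulAut.one_apply, QuotientGroup.mk_mul, left_eq_mul, QuotientGroup.mk_pow] at h3
  obtain ⟨m, hm⟩ := IsPGroup.iff_orderOf.1 (hG.to_quotient Φ) (QuotientGroup.mk w : G ⧸ Φ)
  have hw1 : (QuotientGroup.mk w : G ⧸ Φ) = 1 := by
    refine orderOf_eq_one_iff.1 (Nat.eq_one_of_dvd_coprimes ?_ (orderOf_dvd_of_pow_eq_one h3) dvd_rfl)
    rw [hm]; exact ho.pow_right m
  rw [show γ y = y * w by rw [hw]; group, ← QuotientGroup.eq_one_iff, QuotientGroup.mk_mul, QuotientGroup.mk_mul,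
    hw1, mul_one, ← QuotientGroup.mk_mul, mul_inv_cancel, QuotientGroup.mk_one]

/-- A metacyclic `p`-group has a Frattini quotient of order at most `p ^ 2`. -/
theorem card_frattini_quotient_le (hG : IsPGroup p G) (hm : Cfsg.IsMetacyclic G) :
    Nat.card (G ⧸ frattini G) ≤ p ^ 2 := by
  obtain ⟨N, hNn, hNc, hQc⟩ := hm
  haveI := hNn
  haveI := hQc
  haveI : (frattini G).Normal := inferInstance
  obtain ⟨⟨a, haN⟩, hagen⟩ := IsCyclic.exists_generator (α := N)
  obtain ⟨bb, hbb⟩ := IsCyclic.exists_generator (α := G ⧸ N)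
  obtain ⟨b, rfl⟩ := QuotientGroup.mk_surjective bb
  have hpow : ∀ (u : G) (i : ℤ), ∃ k : Fin p, (u : G ⧸ frattini G) ^ i = (u : G ⧸ frattini G) ^ (k : ℕ) := by
    intro u i
    have hp0 : (0 : ℤ) < p := by exact_mod_cast hp.out.pos
    obtain ⟨k, hk⟩ := Int.eq_ofNat_of_zero_le (Int.emod_nonneg i hp0.ne')
    refine ⟨⟨k, by have := Int.emod_lt_of_pos i hp0; omega⟩, ?_⟩
    show (u : G ⧸ frattini G) ^ i = (u : G ⧸ frattini G) ^ k
    have he : i = (p : ℤ) * (i / p) + k := by
      have := Int.mul_ediv_add_emod i p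
      omega
    rw [he, zpow_add, zpow_mul, zpow_natCast, ← QuotientGroup.mk_pow,
      (QuotientGroup.eq_one_iff _).2 (Cfsg.Agent.PGroupBasics.pow_mem_frattini hG u), one_zpow, one_mul,
      zpow_natCast]
  let f : Fin p × Fin p → G ⧸ frattini G := fun k => (b : G ⧸ frattini G) ^ (k.1 : ℕ) * (a : G ⧸ frattini G) ^ (k.2 : ℕ)
  have hf : Function.Surjective f := fun u => by
    obtain ⟨g, rfl⟩ := QuotientGroup.mk_surjective u
    obtain ⟨j, hj⟩ := Subgroup.mem_zpowers_iff.1 (hbb (g : G ⧸ N))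
    obtain ⟨i, hi⟩ := Subgroup.mem_zpowers_iff.1 (hagen ⟨_, QuotientGroup.eq.1 ((QuotientGroup.mk_zpow N b j).trans hj)⟩)
    have hi' : a ^ i = (b ^ j)⁻¹ * g := congrArg Subtype.val hi
    obtain ⟨k, hk⟩ := hpow b j
    obtain ⟨l, hl⟩ := hpow a i
    refine ⟨(k, l), ?_⟩
    show (b : G ⧸ frattini G) ^ (k : ℕ) * (a : G ⧸ frattini G) ^ (l : ℕ) = _
    rw [← hk, ← hl, ← QuotientGroup.mk_zpow, ← QuotientGroup.mk_zpow, ← QuotientGroup.mk_mul, hi', mul_inv_cancel_left]
  have := Nat.card_le_card_of_surjective f hf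
  rwa [Nat.card_prod, Nat.card_fin, ← pow_two] at this

/-- A non-abelian metacyclic `p`-group, `p` odd, has a characteristic subgroup of index `p`. -/
theorem exists_char_index (hG : IsPGroup p G) (hp2 : p ≠ 2) (hm : Cfsg.IsMetacyclic G)
    (hna : ¬ ∀ u w : G, u * w = w * u) :
    ∃ V : Subgroup G, V.index = p ∧ V.Normal ∧ ∀ (α : MulAut G), ∀ y ∈ V, α y ∈ V := by
  classical
  obtain ⟨N, hNn, hNc, hQc⟩ := hm
  haveI := hNn
  haveI := hQc
  obtain ⟨⟨a, haN⟩, hagen⟩ := IsCyclic.exists_generator (α := N)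
  obtain ⟨bb, hbb⟩ := IsCyclic.exists_generator (α := G ⧸ N)
  obtain ⟨b, rfl⟩ := QuotientGroup.mk_surjective bb
  set T := commutator G with hT
  haveI : T.Normal := inferInstance
  have hTN : T ≤ N := by
    rw [hT, commutator_def, Subgroup.commutator_le]
    intro u _ w _
    rw [← QuotientGroup.eq_one_iff, ← QuotientGroup.mk'_apply, map_commutatorElement,
      commutatorElement_eq_one_iff_mul_comm]
    letI : CommGroup (G ⧸ N) := IsCyclic.commGroup
    exact mul_comm _ _
  have hNa : ∀ u ∈ N, ∃ i : ℤ, a ^ i = u := fun u hu => by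
    obtain ⟨i, hi⟩ := Subgroup.mem_zpowers_iff.1 (hagen ⟨u, hu⟩)
    exact ⟨i, congrArg Subtype.val hi⟩
  letI : CommGroup (G ⧸ T) := Abelianization.commGroup G
  let A : G →* G ⧸ T := QuotientGroup.mk' T
  have hAT : ∀ u, A u = 1 ↔ u ∈ T := fun u => QuotientGroup.eq_one_iff u
  obtain ⟨ea, hea⟩ := IsPGroup.iff_orderOf.1 (hG.to_quotient T) (A a)
  obtain ⟨eb, heb⟩ := IsPGroup.iff_orderOf.1 (hG.to_quotient T) (A b)
  have hdec : ∀ g : G, ∃ i j : ℤ, g = b ^ j * a ^ i := fun g => by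
    obtain ⟨j, hj⟩ := Subgroup.mem_zpowers_iff.1 (hbb (g : G ⧸ N))
    obtain ⟨i, hi⟩ := hNa _ (QuotientGroup.eq.1 ((QuotientGroup.mk_zpow N b j).trans hj))
    exact ⟨i, j, by rw [hi, mul_inv_cancel_left]⟩
  -- a homomorphism with image of order `p`
  have finish : ∀ {Q : Type _} [Group Q] (φ : G →* Q) (x : Q), orderOf x = p → x ∈ φ.range →
      (∀ g, φ g ∈ Subgroup.zpowers x) → (∀ (α : MulAut G) g, φ g = 1 → φ (α g) = 1) →
      ∃ V : Subgroup G, V.index = p ∧ V.Normal ∧ ∀ (α : MulAut G), ∀ y ∈ V, α y ∈ V := by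
    intro Q _ φ x hx hxr hr hinv
    refine ⟨φ.ker, ?_, inferInstance, hinv⟩
    rw [Subgroup.index_ker, show φ.range = Subgroup.zpowers x from
      le_antisymm (by rintro _ ⟨g, rfl⟩; exact hr g) (Subgroup.zpowers_le.2 hxr), Nat.card_zpowers, hx]
  rcases Nat.lt_or_ge ea eb with hlt | hge
  · -- the abelianization is not homocyclic
    refine finish ((powMonoidHom (p ^ (eb - 1))).comp A) (A b ^ p ^ (eb - 1)) ?_ ⟨b, rfl⟩ (fun g => ?_) fun α g h => ?_
    · rw [orderOf_pow' _ (pow_ne_zero _ hp.out.ne_zero), heb, Nat.gcd_eq_right (pow_dvd_pow p (Nat.sub_le eb 1)),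
        Nat.pow_div (Nat.sub_le eb 1) hp.out.pos, show eb - (eb - 1) = 1 by omega, pow_one]
    · obtain ⟨i, j, rfl⟩ := hdec g
      refine ⟨j, ?_⟩
      show (A b ^ p ^ (eb - 1)) ^ j = (A (b ^ j * a ^ i)) ^ p ^ (eb - 1)
      have h1 : A a ^ p ^ (eb - 1) = 1 := orderOf_dvd_iff_pow_eq_one.1 (hea ▸ pow_dvd_pow p (by omega))
      rw [map_mul, map_zpow, map_zpow, mul_pow, ← zpow_natCast (A a ^ i), ← zpow_mul, mul_comm i, zpow_mul,
        zpow_natCast, h1, one_zpow, mul_one, ← zpow_natCast, ← zpow_natCast, ← zpow_mul, ← zpow_mul, mul_comm]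
    · replace h : A g ^ p ^ (eb - 1) = 1 := h
      show A (α g) ^ p ^ (eb - 1) = 1
      rw [← map_pow, hAT] at h ⊢
      rw [← map_pow]
      exact (Subgroup.characteristic_iff_comap_eq.1 (inferInstance : T.Characteristic) α).ge h
  · -- a power of `a` generates the derived subgroup
    set x := a ^ p ^ ea with hx
    have hxT : x ∈ T := by rw [← hAT, hx, map_pow, ← hea, pow_orderOf_eq_one]
    have hTx : ∀ u ∈ T, ∃ l : ℤ, x ^ l = u := fun u hu => by
      obtain ⟨i, rfl⟩ := hNa u (hTN hu)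
      rw [← hAT, map_zpow, ← orderOf_dvd_iff_zpow_eq_one, hea] at hu
      obtain ⟨l, rfl⟩ := hu
      exact ⟨l, by rw [hx, ← zpow_natCast, ← zpow_mul]⟩
    have hTeq : T = Subgroup.zpowers x := le_antisymm hTx (Subgroup.zpowers_le.2 hxT)
    have hx1 : x ≠ 1 := fun h => hna fun u w => by
      have hu : ⁅u, w⁆ ∈ T := Subgroup.commutator_mem_commutator (Subgroup.mem_top u) (Subgroup.mem_top w)
      obtain ⟨l, hl⟩ := hTx _ hu
      rw [h, one_zpow] at hl
      exact commutatorElement_eq_one_iff_mul_comm.1 hl.symm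
    have hea1 : 1 ≤ ea := by
      by_contra h0
      have h0' : ea = 0 := by omega
      subst h0'
      have heb0 : eb = 0 := by omega
      subst heb0
      rw [pow_zero, orderOf_eq_one_iff] at hea heb
      have htop : T = ⊤ := eq_top_iff.2 fun g _ => (hAT g).1 (by
        obtain ⟨i, j, rfl⟩ := hdec g
        rw [map_mul, map_zpow, map_zpow, hea, heb, one_zpow, one_zpow, mul_one])
      haveI := hG.isNilpotent
      haveI : Nontrivial G := ⟨⟨x, 1, hx1⟩⟩
      exact (Group.IsSolvable.commutator_lt_top_of_nontrivial G).ne htop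
    haveI hTc : T.Characteristic := inferInstance
    set K := Subgroup.zpowers (x ^ p) with hK
    haveI hKc : K.Characteristic := Subgroup.characteristic_iff_map_le.2 fun α => by
      rw [hK, MonoidHom.map_zpowers, Subgroup.zpowers_le]
      obtain ⟨l, hl⟩ := hTx _ ((Subgroup.characteristic_iff_comap_eq.1 hTc α).ge hxT)
      refine ⟨l, ?_⟩
      show (x ^ p) ^ l = α (x ^ p)
      replace hl : x ^ l = α x := hl
      rw [map_pow, ← hl, ← zpow_natCast, ← zpow_natCast, ← zpow_mul, ← zpow_mul, mul_comm]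
    let B : G →* G ⧸ K := QuotientGroup.mk' K
    have hBp : B x ^ p = 1 := by
      rw [← map_pow]; exact (QuotientGroup.eq_one_iff _).2 (Subgroup.mem_zpowers _)
    have hBx : B x ≠ 1 := fun h => by
      obtain ⟨l, hl⟩ := Subgroup.mem_zpowers_iff.1 ((QuotientGroup.eq_one_iff x).1 h)
      rw [← zpow_natCast, ← zpow_mul] at hl
      have h1 : x ^ ((p : ℤ) * l - 1) = 1 := by rw [zpow_sub, hl, zpow_one, mul_inv_cancel]
      obtain ⟨m, hm⟩ := IsPGroup.iff_orderOf.1 hG x
      rw [← orderOf_dvd_iff_zpow_eq_one, hm] at h1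
      rcases m with _ | m
      · exact hx1 (orderOf_eq_one_iff.1 (by rw [hm, pow_zero]))
      have h2 : (p : ℤ) ∣ p * l - 1 := dvd_trans (by push_cast; exact dvd_pow_self _ (by omega)) h1
      have h4 : (p : ℤ) ∣ 1 := by
        have := dvd_sub (dvd_mul_right (p : ℤ) l) h2
        simpa using this
      exact hp.out.ne_one (by exact_mod_cast Int.eq_one_of_dvd_one (by positivity) h4)
    have hBT : ∀ u ∈ T, B u ∈ Subgroup.zpowers (B x) := fun u hu => by
      obtain ⟨l, rfl⟩ := hTx u hu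
      exact ⟨l, (map_zpow B x l).symm⟩
    -- `B x` is central
    have hcen : ∀ g : G ⧸ K, Commute (B x) g := by
      intro g
      obtain ⟨g, rfl⟩ := QuotientGroup.mk_surjective g
      have hstep : ∀ h : G, ∃ r : ℤ, B h * B x * (B h)⁻¹ = B x ^ r := fun h => by
        obtain ⟨r, hr⟩ := hTx _ ((inferInstance : T.Normal).conj_mem x hxT h)
        exact ⟨r, by rw [← map_zpow, hr, map_mul, map_mul, map_inv]⟩
      obtain ⟨r, hr⟩ := hstep g
      have hit : ∀ n : ℕ, B g ^ n * B x * (B g ^ n)⁻¹ = B x ^ (r ^ n) := by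
        intro n
        induction n with
        | zero => simp
        | succ n ih =>
          rw [pow_succ r n, zpow_mul, ← ih, conj_zpow, ← hr, pow_succ (B g) n]
          group
      obtain ⟨n, hn⟩ := IsPGroup.iff_orderOf.1 (hG.to_quotient K) (B g)
      have h1 := hit (p ^ n)
      rw [← hn, pow_orderOf_eq_one, one_mul, inv_one, mul_one, hn] at h1
      have h2 : (p : ℤ) ∣ r ^ (p ^ n) - r := by
        rw [← ZMod.intCast_zmod_eq_zero_iff_dvd]
        push_cast
        rw [ZMod.pow_card_pow, sub_self]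
      obtain ⟨l, hl⟩ := h2
      have h3 : B x ^ r = B x := by
        conv_rhs => rw [h1, show r ^ (p ^ n) = p * l + r by linarith, zpow_add, zpow_mul, zpow_natCast, hBp,
          one_zpow, one_mul]
      show B x * B g = B g * B x
      rw [h3, mul_inv_eq_iff_eq_mul] at hr
      exact hr.symm
    have hcT : ∀ u ∈ T, ∀ g, Commute (B u) g ∧ B u ^ p = 1 := fun u hu g => by
      obtain ⟨l, hl⟩ := Subgroup.mem_zpowers_iff.1 (hBT u hu)
      refine ⟨hl ▸ (hcen g).zpow_left l, ?_⟩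
      rw [← hl, ← zpow_natCast, ← zpow_mul, mul_comm, zpow_mul, zpow_natCast, hBp, one_zpow]
    have hcomm : ∀ u w : G, ∃ c, (∀ g, Commute c g) ∧ c ^ p = 1 ∧ B w * B u = c * (B u * B w) := fun u w => by
      have hu : ⁅w, u⁆ ∈ T := Subgroup.commutator_mem_commutator (Subgroup.mem_top w) (Subgroup.mem_top u)
      refine ⟨B ⁅w, u⁆, fun g => (hcT _ hu g).1, (hcT _ hu 1).2, ?_⟩
      rw [← map_mul, ← map_mul, ← map_mul, commutatorElement_def]; congr 1; group
    obtain ⟨q, hq⟩ : p ∣ p ^ ea := dvd_pow_self p (by omega)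
    have hhom : ∀ u w : G, (B u * B w) ^ p ^ ea = B u ^ p ^ ea * B w ^ p ^ ea := by
      intro u w
      obtain ⟨c, hc, hcp, he⟩ := hcomm u w
      have h1 : (B u * B w) ^ p = B u ^ p * B w ^ p := by
        rw [mul_pow_class_two hc he p, orderOf_dvd_iff_pow_eq_one.1 ((orderOf_dvd_of_pow_eq_one hcp).trans
          (hp.out.dvd_choose_self (by norm_num) (by have := hp.out.two_le; omega))), mul_one]
      have h2 : Commute (B u ^ p) (B w ^ p) := by
        have hsw : ∀ n : ℕ, B w ^ n * B u = c ^ n * (B u * B w ^ n) := by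
          intro n
          induction n with
          | zero => simp
          | succ n ih =>
            calc B w ^ (n + 1) * B u = B w ^ n * (B w * B u) := by rw [pow_succ, mul_assoc]
              _ = B w ^ n * c * (B u * B w) := by rw [he]; simp only [mul_assoc]
              _ = c * (B w ^ n * B u) * B w := by rw [← (hc (B w ^ n)).eq]; simp only [mul_assoc]
              _ = _ := by rw [ih, pow_succ' c, pow_succ (B w)]; simp only [mul_assoc]
        have h3 := hsw p
        rw [hcp, one_mul] at h3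
        exact (show Commute (B u) (B w ^ p) from h3.symm).pow_left p
      rw [hq, pow_mul, pow_mul, pow_mul, h1, h2.mul_pow]
    let φ : G →* G ⧸ K := MonoidHom.mk' (fun u => B u ^ p ^ ea) fun u w => by rw [map_mul, hhom]
    refine finish φ (B x) (orderOf_eq_prime hBp hBx) ⟨a, ?_⟩ (fun g => ?_) fun α g h => ?_
    · show B a ^ p ^ ea = B x
      rw [← map_pow]
    · show B g ^ p ^ ea ∈ _
      rw [← map_pow]
      refine hBT _ ((hAT _).1 ?_)
      obtain ⟨i, j, rfl⟩ := hdec g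
      rw [map_pow, map_mul, map_zpow, map_zpow, mul_pow, ← zpow_natCast, ← zpow_natCast (A a ^ i), ← zpow_mul,
        ← zpow_mul, mul_comm j, mul_comm i, zpow_mul, zpow_mul, zpow_natCast, zpow_natCast,
        orderOf_dvd_iff_pow_eq_one.1 (heb ▸ pow_dvd_pow p hge), orderOf_dvd_iff_pow_eq_one.1 hea.dvd, one_zpow,
        one_zpow, one_mul]
    · replace h : B g ^ p ^ ea = 1 := h
      show B (α g) ^ p ^ ea = 1
      rw [← map_pow] at h ⊢
      rw [← map_pow]
      exact (QuotientGroup.eq_one_iff _).2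
        ((Subgroup.characteristic_iff_comap_eq.1 hKc α).ge ((QuotientGroup.eq_one_iff _).1 h))

/-- Automorphism groups of order prime to `p` are abelian of exponent dividing `p - 1`. -/
theorem coprime_aut (hG : IsPGroup p G) (hp2 : p ≠ 2) (hm : Cfsg.IsMetacyclic G) (hna : ¬ ∀ u w : G, u * w = w * u)
    (H : Subgroup (MulAut G)) (hH : (Nat.card H).Coprime p) :
    IsMulCommutative H ∧ ∀ h ∈ H, h ^ (p - 1) = 1 := by
  haveI : (frattini G).Normal := inferInstance
  obtain ⟨V, hVi, hVn, hVinv⟩ := exists_char_index hG hp2 hm hna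
  haveI := hVn
  set Φ := frattini G with hΦ
  have hΦV : Φ ≤ V := frattini_le_coatom (⟨fun h => by rw [h, Subgroup.index_top] at hVi; exact hp.out.ne_one hVi.symm,
    fun W hW => by
      have h1 := Subgroup.index_dvd_of_le hW.le
      rw [hVi, Nat.dvd_prime hp.out] at h1
      rcases h1 with h1 | h1
      · exact Subgroup.index_eq_one.1 h1
      · exfalso
        have h2 := Subgroup.relIndex_mul_index hW.le
        rw [hVi, h1] at h2
        exact hW.not_ge (Subgroup.relIndex_eq_one.1 (mul_right_cancel₀ hp.out.ne_zero (h2.trans (one_mul p).symm)))⟩)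
  have hpV : ∀ u : G, u ^ p ∈ V := fun u => hΦV (Cfsg.Agent.PGroupBasics.pow_mem_frattini hG u)
  haveI : IsCyclic (G ⧸ V) := isCyclic_of_prime_card (p := p) hVi
  obtain ⟨gg, hgg⟩ := IsCyclic.exists_generator (α := G ⧸ V)
  obtain ⟨g0, rfl⟩ := QuotientGroup.mk_surjective gg
  have top : ∃ g ∈ (⊤ : Subgroup G), ∀ u ∈ (⊤ : Subgroup G), ∃ i : ℤ, (u : G ⧸ V) = (g : G ⧸ V) ^ i :=
    ⟨g0, trivial, fun u _ => (Subgroup.mem_zpowers_iff.1 (hgg u)).imp fun i hi => hi.symm⟩
  have bot : ∃ g ∈ V, ∀ u ∈ V, ∃ i : ℤ, (u : G ⧸ Φ) = (g : G ⧸ Φ) ^ i := by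
    set W := V.map (QuotientGroup.mk' Φ)
    haveI : IsCyclic W := by
      obtain ⟨j, hj⟩ := IsPGroup.iff_card.1 ((hG.to_quotient Φ).to_subgroup W)
      have hW : W.index * Nat.card W ≤ p ^ 2 := by
        rw [W.index_mul_card]; exact card_frattini_quotient_le hG hm
      rw [Subgroup.index_map_eq _ (QuotientGroup.mk'_surjective Φ) (by rwa [QuotientGroup.ker_mk']), hVi, hj,
        ← pow_succ'] at hW
      have hj1 : j ≤ 1 := by
        have := (Nat.pow_le_pow_iff_right hp.out.one_lt).1 hW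
        omega
      rcases (show j = 0 ∨ j = 1 by omega) with rfl | rfl
      · haveI : Subsingleton W := (Nat.card_eq_one_iff_unique.1 (by simpa using hj)).1
        infer_instance
      · exact isCyclic_of_prime_card (p := p) (by simpa using hj)
    obtain ⟨⟨_, g, hgV, rfl⟩, hgen⟩ := IsCyclic.exists_generator (α := W)
    refine ⟨g, hgV, fun u hu => ?_⟩
    obtain ⟨i, hi⟩ := Subgroup.mem_zpowers_iff.1 (hgen ⟨_, u, hu, rfl⟩)
    exact ⟨i, (congrArg Subtype.val hi).symm⟩
  have hΦinv : ∀ α ∈ H, ∀ u ∈ Φ, (α : MulAut G) u ∈ Φ := fun α _ u hu =>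
    (Subgroup.characteristic_iff_comap_eq.1 (frattini_characteristic (G := G)) α).ge hu
  have htriv : ∀ α ∈ H, ∀ β ∈ H, α * β * α⁻¹ * β⁻¹ = 1 ∧ (α : MulAut G) ^ (p - 1) = 1 := by
    intro α hα β hβ
    have hco : ∀ γ ∈ H, (orderOf (γ : MulAut G)).Coprime p := fun γ hγ =>
      Nat.Coprime.coprime_dvd_left (Subgroup.orderOf_mk γ hγ ▸ orderOf_dvd_natCard _) hH
    have s1 := fun u => step ⊤ V top (fun u _ => hpV u) H (fun _ _ _ _ => trivial) (fun α _ u hu => hVinv α u hu)
      hα hβ (u := u) trivial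
    have s2 := fun u hu => step V Φ bot (fun u _ => Cfsg.Agent.PGroupBasics.pow_mem_frattini hG u) H
      (fun α _ u hu => hVinv α u hu) hΦinv hα hβ (u := u) hu
    exact ⟨eq_one_of_sections hG (hco _ (mul_mem (mul_mem (mul_mem hα hβ) (inv_mem hα)) (inv_mem hβ)))
        (fun y => QuotientGroup.eq.1 (s1 y).1.symm) fun y hy => QuotientGroup.eq.1 (s2 y hy).1.symm,
      eq_one_of_sections hG (hco _ (pow_mem hα _))
        (fun y => QuotientGroup.eq.1 (s1 y).2.symm) fun y hy => QuotientGroup.eq.1 (s2 y hy).2.symm⟩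
  refine ⟨⟨⟨fun α β => Subtype.ext ?_⟩⟩, fun h hh => (htriv h hh h hh).2⟩
  have h := (htriv α α.2 β β.2).1
  show (α : MulAut G) * β = β * α
  rwa [mul_inv_eq_one, mul_inv_eq_iff_eq_mul] at h

end Cfsg.Agent.MetaOdd
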