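import Cfsg.Agent.Lib.Fusion.ClosedMetacyclicTwo
import Cfsg.Agent.Lib.Fusion.Simple

/-!
# Automorphisms of metacyclic 2-groups

A metacyclic 2-group that is neither homocyclic nor exceptional has an automorphism group that is a 2-group.
-/

set_option autoImplicit false

namespace Cfsg.Agent.MetaTwo

open scoped commutatorElement

variable {G : Type*} [Group G] [Finite G]

/-- An invariant subgroup strictly between the Frattini subgroup and the group forbids odd automorphisms. -/
theorem eq_one_of_invariant (hG : IsPGroup 2 G) {V : Subgroup G} {g g' : G} (hg : g ∈ V) (hg' : g' ∉ V)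
    (hΦ : frattini G ≤ V) (hgen : Subgroup.closure ({g, g'} : Set G) = ⊤)
    {α : MulAut G} (ho : (orderOf α).Coprime 2) (hV : ∀ y ∈ V, α y ∈ V) : α = 1 := by
  haveI : Fact (Nat.Prime 2) := ⟨Nat.prime_two⟩
  haveI : (frattini G).Normal := inferInstance
  set Φ := frattini G
  have hsq : ∀ y : G, y ^ 2 ∈ Φ := fun y => Cfsg.Agent.PGroupBasics.pow_mem_frattini hG y
  have hcomm : ∀ u v : G ⧸ Φ, u * v = v * u := by
    have h : ∀ u : G ⧸ Φ, u * u = 1 := fun u => by
      obtain ⟨w, rfl⟩ := QuotientGroup.mk_surjective u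
      rw [← QuotientGroup.mk_mul, QuotientGroup.eq_one_iff, ← pow_two]
      exact hsq w
    intro u v
    have hinv : ∀ u : G ⧸ Φ, u⁻¹ = u := fun u => inv_eq_of_mul_eq_one_right (h u)
    calc u * v = (u * v)⁻¹ := (hinv _).symm
      _ = v⁻¹ * u⁻¹ := mul_inv_rev _ _
      _ = _ := by rw [hinv, hinv]
  letI : CommGroup (G ⧸ Φ) := { (inferInstance : Group (G ⧸ Φ)) with mul_comm := hcomm }
  -- every element is one of four classes
  have hcl : ∀ y : G, ∃ i j : ℤ, (QuotientGroup.mk y : G ⧸ Φ) = QuotientGroup.mk g ^ i * QuotientGroup.mk g' ^ j := by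
    intro y
    have : y ∈ Subgroup.closure ({g, g'} : Set G) := hgen ▸ Subgroup.mem_top y
    induction this using Subgroup.closure_induction with
    | mem y hy =>
      rcases hy with rfl | rfl
      · exact ⟨1, 0, by simp⟩
      · exact ⟨0, 1, by simp⟩
    | one => exact ⟨0, 0, by simp⟩
    | mul u w _ _ hu hw =>
      obtain ⟨i, j, hu⟩ := hu
      obtain ⟨i', j', hw⟩ := hw
      exact ⟨i + i', j + j', by rw [QuotientGroup.mk_mul, hu, hw, zpow_add, zpow_add, mul_mul_mul_comm]⟩
    | inv u _ hu =>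
      obtain ⟨i, j, hu⟩ := hu
      exact ⟨-i, -j, by rw [QuotientGroup.mk_inv, hu, mul_inv, zpow_neg, zpow_neg]⟩
  have htwo : ∀ (u : G) (i : ℤ), (QuotientGroup.mk u : G ⧸ Φ) ^ i = if Even i then 1 else QuotientGroup.mk u := by
    intro u i
    have h2 : (QuotientGroup.mk u : G ⧸ Φ) ^ (2 : ℤ) = 1 := by
      rw [zpow_ofNat, ← QuotientGroup.mk_pow, QuotientGroup.eq_one_iff]; exact hsq u
    rcases Int.even_or_odd' i with ⟨l, rfl | rfl⟩
    · rw [if_pos (even_two_mul l), zpow_mul, h2, one_zpow]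
    · rw [if_neg (by simp [parity_simps]), zpow_add, zpow_mul, h2, one_zpow, one_mul, zpow_one]
  -- the classes modulo `V`
  have hV2 : ∀ y : G, y ∈ V ∨ g'⁻¹ * y ∈ V := by
    intro y
    obtain ⟨i, j, hy⟩ := hcl y
    rw [htwo g i, htwo g' j] at hy
    split_ifs at hy
    · exact Or.inl (hΦ ((QuotientGroup.eq_one_iff y).1 (by rw [hy, one_mul])))
    · refine Or.inr (hΦ (QuotientGroup.eq.1 ?_))
      rw [hy, one_mul]
    · refine Or.inl ?_
      rw [mul_one] at hy
      have := V.mul_mem hg (hΦ (QuotientGroup.eq.1 hy.symm))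
      rwa [mul_inv_cancel_left] at this
    · refine Or.inr ?_
      have h1 : g'⁻¹ * y * g⁻¹ ∈ Φ := by
        rw [← QuotientGroup.eq_one_iff, QuotientGroup.mk_mul, QuotientGroup.mk_mul, QuotientGroup.mk_inv,
          QuotientGroup.mk_inv, hy, mul_comm (QuotientGroup.mk g : G ⧸ Φ)]
        group
      have := V.mul_mem (hΦ h1) hg
      rwa [inv_mul_cancel_right] at this
  -- inside `V`
  have hVΦ : ∀ y ∈ V, y ∈ Φ ∨ g⁻¹ * y ∈ Φ := by
    intro y hyV
    obtain ⟨i, j, hy⟩ := hcl y
    rw [htwo g i, htwo g' j] at hy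
    split_ifs at hy
    · exact Or.inl ((QuotientGroup.eq_one_iff y).1 (by rw [hy, one_mul]))
    · exfalso
      rw [one_mul] at hy
      have := V.mul_mem hyV (V.inv_mem (hΦ (QuotientGroup.eq.1 hy.symm)))
      rw [mul_inv_rev, inv_inv, mul_inv_cancel_left] at this
      exact hg' this
    · rw [mul_one] at hy
      exact Or.inr (QuotientGroup.eq.1 hy.symm)
    · exfalso
      have h1 : (g * g')⁻¹ * y ∈ Φ := QuotientGroup.eq.1 (by rw [QuotientGroup.mk_mul, hy])
      have h2 := V.mul_mem hyV (V.inv_mem (hΦ h1))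
      rw [mul_inv_rev, inv_inv, mul_inv_cancel_left] at h2
      exact hg' ((V.mul_mem_cancel_left hg).1 h2)
  have hΦα : ∀ v ∈ Φ, α v ∈ Φ := fun v hv =>
    (Subgroup.characteristic_iff_comap_eq.1 (frattini_characteristic (G := G)) α).ge hv
  have hVα : ∀ y, α y ∈ V → y ∈ V := by
    intro y hy
    have hfin : ∀ n : ℕ, (α ^ n) (α y) ∈ V := by
      intro n
      induction n with
      | zero => simpa using hy
      | succ n ih => rw [pow_succ', MulAut.mul_apply]; exact hV _ ih
    have := hfin (orderOf α - 1)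
    rwa [← MulAut.mul_apply, ← pow_succ, Nat.sub_add_cancel (orderOf_pos α), pow_orderOf_eq_one,
      MulAut.one_apply] at this
  have h1 : ∀ y, y⁻¹ * α y ∈ V := by
    intro y
    rcases hV2 y with hy | hy
    · exact V.mul_mem (V.inv_mem hy) (hV y hy)
    · have h0 : g'⁻¹ * α g' ∈ V := by
        refine (hV2 (α g')).resolve_left fun h => hg' (hVα g' h)
      have hy' : g'⁻¹ * α y ∈ V := by
        have := V.mul_mem h0 (hV _ hy)
        rwa [map_mul, map_inv, mul_assoc, mul_inv_cancel_left] at this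
      have := V.mul_mem (V.inv_mem hy) hy'
      rwa [mul_inv_rev, inv_inv, mul_assoc, mul_inv_cancel_left] at this
  have h2 : ∀ y ∈ V, y⁻¹ * α y ∈ Φ := by
    intro y hy
    rcases hVΦ y hy with hy' | hy'
    · exact Φ.mul_mem (Φ.inv_mem hy') (hΦα y hy')
    · rcases hVΦ _ (hV y hy) with hαy | hαy
      · have hy2 : y ∈ Φ := by
          have := hΦα _ hαy
          have h3 : ∀ n : ℕ, (α ^ n) (α y) ∈ Φ := by
            intro n
            induction n with
            | zero => simpa using hαy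
            | succ n ih => rw [pow_succ', MulAut.mul_apply]; exact hΦα _ ih
          have h4 := h3 (orderOf α - 1)
          rwa [← MulAut.mul_apply, ← pow_succ, Nat.sub_add_cancel (orderOf_pos α), pow_orderOf_eq_one,
            MulAut.one_apply] at h4
        exact Φ.mul_mem (Φ.inv_mem hy2) hαy
      · have := Φ.mul_mem (Φ.inv_mem hy') hαy
        rwa [mul_inv_rev, inv_inv, mul_assoc, mul_inv_cancel_left] at this
  refine Cfsg.Agent.FusionSys.aut_eq_one_of_frattini hG ho fun y => ?_
  set w := y⁻¹ * α y with hw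
  have hwU : (QuotientGroup.mk (α w) : G ⧸ Φ) = QuotientGroup.mk w := ((QuotientGroup.eq).2 (h2 w (h1 y))).symm
  have hiter : ∀ n : ℕ, (QuotientGroup.mk ((α ^ n) y) : G ⧸ Φ) = QuotientGroup.mk (y * w ^ n) ∧
      (QuotientGroup.mk ((α ^ n) w) : G ⧸ Φ) = QuotientGroup.mk w := by
    intro n
    induction n with
    | zero => simp
    | succ n ih =>
      have hmap : ∀ u u' : G, (QuotientGroup.mk u : G ⧸ Φ) = QuotientGroup.mk u' →
          (QuotientGroup.mk (α u) : G ⧸ Φ) = QuotientGroup.mk (α u') := fun u u' he => QuotientGroup.eq.2 (by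
        rw [← map_inv, ← map_mul]; exact hΦα _ (QuotientGroup.eq.1 he))
      refine ⟨?_, by rw [pow_succ', MulAut.mul_apply, hmap _ _ ih.2, hwU]⟩
      rw [pow_succ', MulAut.mul_apply, hmap _ _ ih.1, map_mul, map_pow, show α y = y * w by rw [hw]; group,
        QuotientGroup.mk_mul, QuotientGroup.mk_mul, QuotientGroup.mk_pow, hwU, QuotientGroup.mk_mul (N := Φ) y (w ^ (n + 1)),
        QuotientGroup.mk_pow, pow_succ', mul_assoc]
  have h3 := (hiter (orderOf α)).1
  rw [pow_orderOf_eq_one, MulAut.one_apply, QuotientGroup.mk_mul, left_eq_mul, QuotientGroup.mk_pow] at h3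
  obtain ⟨m, hm⟩ := IsPGroup.iff_orderOf.1 (hG.to_quotient Φ) (QuotientGroup.mk w : G ⧸ Φ)
  have hw1 : (QuotientGroup.mk w : G ⧸ Φ) = 1 := by
    refine orderOf_eq_one_iff.1 (Nat.eq_one_of_dvd_coprimes ?_ (orderOf_dvd_of_pow_eq_one h3) dvd_rfl)
    rw [hm]; exact ho.pow_right m
  rw [show α y = y * w by rw [hw]; group, ← QuotientGroup.eq_one_iff, QuotientGroup.mk_mul, QuotientGroup.mk_mul,
    hw1, mul_one, ← QuotientGroup.mk_mul, mul_inv_cancel, QuotientGroup.mk_one]

/-- A set cut out by a power condition into a characteristic subgroup is invariant. -/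
theorem invariant_of_pow {K : Subgroup G} [K.Characteristic] (n : ℕ) (α : MulAut G) {y : G} (hy : y ^ n ∈ K) :
    (α y) ^ n ∈ K := by
  rw [← map_pow]
  exact (Subgroup.characteristic_iff_comap_eq.1 ‹K.Characteristic› α).ge hy

/-- Subgroups of a cyclic characteristic subgroup are characteristic. -/
theorem characteristic_zpowers_pow {x : G} [(Subgroup.zpowers x).Characteristic] (n : ℕ) :
    (Subgroup.zpowers (x ^ n)).Characteristic := by
  refine Subgroup.characteristic_iff_map_le.2 fun α => ?_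
  rw [MonoidHom.map_zpowers, Subgroup.zpowers_le]
  obtain ⟨i, hi⟩ := Subgroup.mem_zpowers_iff.1
    ((Subgroup.characteristic_iff_map_le.1 (inferInstance : (Subgroup.zpowers x).Characteristic) α)
      ⟨x, Subgroup.mem_zpowers x, rfl⟩)
  refine ⟨i, ?_⟩
  show (x ^ n) ^ i = α (x ^ n)
  rw [map_pow, ← zpow_natCast, ← zpow_natCast, ← zpow_mul, mul_comm, zpow_mul, hi]
  rfl

/-- Odd automorphisms of a metacyclic 2-group that is neither homocyclic nor exceptional are trivial. -/
theorem isPGroup_mulAut (hG : IsPGroup 2 G) (hm : Cfsg.IsMetacyclic G) (hex : ¬ Exceptional G)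
    (hh : ¬ ∃ n k : ℕ, Nonempty (G ≃* Multiplicative (Fin k → ZMod (2 ^ n)))) : IsPGroup 2 (MulAut G) := by
  classical
  haveI : Fact (Nat.Prime 2) := ⟨Nat.prime_two⟩
  suffices key : ∀ α : MulAut G, (orderOf α).Coprime 2 → α = 1 by
    intro α
    obtain ⟨k, m, hm, hkm⟩ := Nat.exists_eq_pow_mul_and_not_dvd (orderOf_pos α).ne' 2 (by norm_num)
    refine ⟨k, key _ ?_⟩
    rw [orderOf_pow, hkm, Nat.gcd_eq_right (Dvd.intro _ rfl), Nat.mul_div_cancel_left _ (pow_pos two_pos k)]
    exact ((Nat.Prime.coprime_iff_not_dvd Nat.prime_two).2 hm).symm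
  intro α hα
  obtain ⟨N, hNn, hNc, hQc⟩ := hm
  haveI := hNn
  haveI := hQc
  obtain ⟨⟨a, haN⟩, hagen⟩ := IsCyclic.exists_generator (α := N)
  have hNeq : N = Subgroup.zpowers a := le_antisymm (fun u hu => by
    obtain ⟨i, hi⟩ := hagen ⟨u, hu⟩
    exact ⟨i, congrArg Subtype.val hi⟩) (Subgroup.zpowers_le.2 haN)
  obtain ⟨bb, hbb⟩ := IsCyclic.exists_generator (α := G ⧸ N)
  obtain ⟨b₀, rfl⟩ := QuotientGroup.mk_surjective bb
  obtain ⟨k, hk⟩ := IsPGroup.iff_orderOf.1 (hG.to_quotient N) (QuotientGroup.mk b₀ : G ⧸ N)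
  obtain ⟨m, hmo⟩ := IsPGroup.iff_orderOf.1 hG a
  obtain ⟨R, hR⟩ := Subgroup.mem_zpowers_iff.1 (hNeq.le (hNn.conj_mem a haN b₀))
  -- the derived subgroup
  set T := commutator G with hT
  haveI : T.Normal := inferInstance
  have hTeq : T = Subgroup.zpowers (a ^ (R - 1)) := by
    set K := Subgroup.zpowers (a ^ (R - 1))
    have hmem : a ^ (R - 1) ∈ T := by
      rw [hT, commutator_def, zpow_sub, zpow_one, hR]
      exact Subgroup.commutator_mem_commutator (Subgroup.mem_top b₀) (Subgroup.mem_top a)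
    refine le_antisymm ?_ (Subgroup.zpowers_le.2 hmem)
    have hKN : K ≤ N := Subgroup.zpowers_le.2 (zpow_mem haN _)
    haveI : K.Normal := ⟨fun u hu g => by
      obtain ⟨s, hs⟩ := Subgroup.mem_zpowers_iff.1 (hNeq.le (hNn.conj_mem a haN g))
      obtain ⟨i, rfl⟩ := Subgroup.mem_zpowers_iff.1 hu
      refine ⟨s * i, ?_⟩
      show (a ^ (R - 1)) ^ (s * i) = _
      rw [← conj_zpow, ← conj_zpow, ← hs, ← zpow_mul, ← zpow_mul, ← zpow_mul]
      congr 1; ring⟩
    set P' := QuotientGroup.mk' K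
    have hab : P' b₀ * P' a = P' a * P' b₀ := by
      rw [← commutatorElement_eq_one_iff_mul_comm, ← map_commutatorElement, QuotientGroup.mk'_apply,
        QuotientGroup.eq_one_iff, commutatorElement_def, ← hR, ← zpow_neg_one, ← zpow_add, ← sub_eq_add_neg]
      exact Subgroup.mem_zpowers _
    have hsurj : ∀ g : G, ∃ i j : ℤ, P' g = P' b₀ ^ j * P' a ^ i := fun g => by
      obtain ⟨j, hj⟩ := Subgroup.mem_zpowers_iff.1 (hbb (QuotientGroup.mk g))
      obtain ⟨i, hi⟩ := Subgroup.mem_zpowers_iff.1 (hNeq.le (QuotientGroup.eq.1 ((QuotientGroup.mk_zpow N b₀ j).trans hj)))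
      exact ⟨i, j, by rw [← map_zpow, ← map_zpow, ← map_mul, hi, mul_inv_cancel_left]⟩
    rw [hT, commutator_def, Subgroup.commutator_le]
    intro u _ v _
    rw [← QuotientGroup.eq_one_iff, show (QuotientGroup.mk ⁅u, v⁆ : G ⧸ K) = P' ⁅u, v⁆ from rfl,
      map_commutatorElement, commutatorElement_eq_one_iff_mul_comm]
    obtain ⟨i, j, hu⟩ := hsurj u
    obtain ⟨i', j', hv⟩ := hsurj v
    have hc : Commute (P' b₀) (P' a) := hab
    rw [hu, hv]
    exact (Commute.mul_left ((Commute.zpow_zpow (Commute.refl _) j j').mul_right (hc.zpow_zpow j i'))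
      ((hc.symm.zpow_zpow i j').mul_right (Commute.zpow_zpow (Commute.refl _) i i'))).eq
  letI : CommGroup (G ⧸ T) := Abelianization.commGroup G
  let A : G →* G ⧸ T := QuotientGroup.mk' T
  have hTN : T ≤ N := hTeq ▸ Subgroup.zpowers_le.2 (zpow_mem haN _)
  obtain ⟨c, hc⟩ := IsPGroup.iff_orderOf.1 (hG.to_quotient T) (A a)
  -- choose the second generator
  obtain ⟨b, hbgen, hbd⟩ : ∃ b : G, (∀ g : G, (QuotientGroup.mk g : G ⧸ N) ∈ Subgroup.zpowers (QuotientGroup.mk b : G ⧸ N)) ∧
      (2 ^ c < orderOf (A b) ∨ (orderOf (A b) = 2 ^ k ∧ 2 ^ k ≤ 2 ^ c)) := by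
    rcases Nat.lt_or_ge (2 ^ c) (orderOf (A b₀)) with h | h
    · exact ⟨b₀, fun g => hbb _, Or.inl h⟩
    have hb₀N : b₀ ^ ((2 : ℤ) ^ k) ∈ N := (QuotientGroup.eq_one_iff _).1 (by
      rw [QuotientGroup.mk_zpow, ← orderOf_dvd_iff_zpow_eq_one, hk]; push_cast; exact dvd_rfl)
    obtain ⟨t, ht⟩ := Subgroup.mem_zpowers_iff.1 (hNeq.le hb₀N)
    obtain ⟨e, he⟩ := IsPGroup.iff_orderOf.1 (hG.to_quotient T) (A b₀)
    have hec : e ≤ c := by
      rw [he] at h
      exact (Nat.pow_le_pow_iff_right (by norm_num)).1 h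
    have hke : k ≤ e := by
      have hd : orderOf (QuotientGroup.mk b₀ : G ⧸ N) ∣ orderOf (A b₀) := by
        refine orderOf_dvd_of_pow_eq_one ?_
        rw [← QuotientGroup.mk_pow, QuotientGroup.eq_one_iff]
        refine hTN ((QuotientGroup.eq_one_iff _).1 ?_)
        show A (b₀ ^ orderOf (A b₀)) = 1
        rw [map_pow, pow_orderOf_eq_one]
      rw [hk, he] at hd
      exact (Nat.pow_dvd_pow_iff_le_right (by norm_num)).1 hd
    have hdiv : (2 : ℤ) ^ k ∣ t := by
      have h1 : A a ^ (t * 2 ^ (c - k)) = 1 := by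
        rw [← map_zpow, zpow_mul, ht, ← zpow_mul, map_zpow, ← pow_add, show k + (c - k) = c by omega,
          ← orderOf_dvd_iff_zpow_eq_one, he]
        exact_mod_cast pow_dvd_pow 2 hec
      rw [← orderOf_dvd_iff_zpow_eq_one, hc] at h1
      push_cast at h1
      rw [show (2 : ℤ) ^ c = 2 ^ k * 2 ^ (c - k) by rw [← pow_add]; congr 1; omega] at h1
      exact Int.dvd_of_mul_dvd_mul_right (pow_ne_zero _ two_ne_zero) h1
    obtain ⟨s, rfl⟩ := hdiv
    have hmkN : (QuotientGroup.mk (b₀ * a ^ (-s)) : G ⧸ N) = QuotientGroup.mk b₀ := by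
      rw [QuotientGroup.mk_mul, (QuotientGroup.eq_one_iff (a ^ (-s))).2 (zpow_mem haN _), mul_one]
    refine ⟨b₀ * a ^ (-s), fun g => by rw [hmkN]; exact hbb _, Or.inr ⟨?_, Nat.pow_le_pow_right two_pos (hke.trans hec)⟩⟩
    refine Nat.dvd_antisymm (orderOf_dvd_of_pow_eq_one ?_) ?_
    · rw [map_mul, map_zpow, mul_pow, ← zpow_natCast, ← zpow_natCast (A a ^ (-s)), ← zpow_mul]
      push_cast
      rw [← map_zpow, ← ht, ← map_zpow, ← map_mul, ← zpow_add, show (2 : ℤ) ^ k * s + -s * 2 ^ k = 0 by ring,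
        zpow_zero, map_one]
    · rw [← hk, ← hmkN]
      refine orderOf_dvd_of_pow_eq_one ?_
      rw [← QuotientGroup.mk_pow, QuotientGroup.eq_one_iff]
      refine hTN ((QuotientGroup.eq_one_iff _).1 ?_)
      show A ((b₀ * a ^ (-s)) ^ orderOf (A (b₀ * a ^ (-s)))) = 1
      rw [map_pow, pow_orderOf_eq_one]
  have hdec : ∀ g : G, ∃ i j : ℤ, g = b ^ j * a ^ i := fun g => by
    obtain ⟨j, hj⟩ := Subgroup.mem_zpowers_iff.1 (hbgen g)
    obtain ⟨i, hi⟩ := Subgroup.mem_zpowers_iff.1 (hNeq.le (QuotientGroup.eq.1 ((QuotientGroup.mk_zpow N b j).trans hj)))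
    exact ⟨i, j, by rw [hi, mul_inv_cancel_left]⟩
  have hgen : Subgroup.closure ({a, b} : Set G) = ⊤ := eq_top_iff.2 fun g _ => by
    obtain ⟨i, j, rfl⟩ := hdec g
    exact mul_mem (zpow_mem (Subgroup.subset_closure (k := {a, b}) (Or.inr rfl)) _)
      (zpow_mem (Subgroup.subset_closure (k := {a, b}) (Or.inl rfl)) _)
  have hΦle : ∀ V : Subgroup G, (∀ y : G, y * y ∈ V) → frattini G ≤ V := by
    intro V hsq
    have hcomm : ∀ u w : G, u * w * u⁻¹ * w⁻¹ ∈ V := fun u w => by
      rw [show u * w * u⁻¹ * w⁻¹ = (u * w) * (u * w) * ((w⁻¹ * u⁻¹ * w) * (w⁻¹ * u⁻¹ * w)) * (w⁻¹ * w⁻¹) by group]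
      exact mul_mem (mul_mem (hsq _) (hsq _)) (hsq _)
    by_contra hle
    -- a coatom avoiding nothing
    obtain ⟨y, hy, hyV⟩ := SetLike.not_le_iff_exists.1 hle
    let W : Subgroup G := V ⊔ (frattini G)
    obtain ⟨M, hM⟩ : ∃ M : Subgroup G, Maximal (fun M : Subgroup G => V ≤ M ∧ y ∉ M) M :=
      (Set.toFinite {M : Subgroup G | V ≤ M ∧ y ∉ M}).exists_maximal ⟨V, le_rfl, hyV⟩
    have hMc : IsCoatom M := by
      refine ⟨fun h => hM.prop.2 (h ▸ Subgroup.mem_top y), fun H hH => eq_top_iff.2 fun g _ => ?_⟩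
      have hyH : y ∈ H := by
        by_contra hyn
        exact absurd (hM.le_of_ge ⟨hM.prop.1.trans hH.le, hyn⟩ hH.le) (not_le_of_gt hH)
      by_contra hgH
      have hgM : g ∉ M := fun h => hgH (hH.le h)
      -- `M ∪ gM` is a subgroup
      haveI : M.Normal := ⟨fun u hu v => by
        have := mul_mem (hM.prop.1 (hcomm v u)) hu
        rwa [inv_mul_cancel_right] at this⟩
      let H' : Subgroup G := M ⊔ Subgroup.zpowers g
      have hy' : y ∈ H' := by
        by_contra hyn
        exact hgM ((hM.le_of_ge ⟨hM.prop.1.trans le_sup_left, hyn⟩ le_sup_left) (Subgroup.mem_sup_right (Subgroup.mem_zpowers g)))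
      have hy'' : y ∈ ((M ⊔ Subgroup.zpowers g : Subgroup G) : Set G) := hy'
      rw [Subgroup.normal_mul] at hy''
      obtain ⟨u, hu, _, ⟨l, rfl⟩, he⟩ := hy''
      simp only at he
      rcases Int.even_or_odd' l with ⟨l', rfl | rfl⟩
      · refine hM.prop.2 (he ▸ mul_mem hu ?_)
        rw [zpow_mul, zpow_two]
        exact zpow_mem (hM.prop.1 (hsq g)) _
      · apply hgH
        have h1 : g ^ (2 * l') ∈ H := by
          rw [zpow_mul, zpow_two]; exact zpow_mem (hH.le (hM.prop.1 (hsq g))) _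
        have h2 : g ^ (2 * l' + 1) ∈ H := by
          have := H.mul_mem (H.inv_mem (hH.le hu)) hyH
          rwa [← he, inv_mul_cancel_left] at this
        rw [zpow_add, zpow_one] at h2
        exact (H.mul_mem_cancel_left h1).1 h2
    exact hM.prop.2 (frattini_le_coatom hMc hy)
  -- the three cases
  have twoEasy : ∀ (g g' : G) (e : ℕ), orderOf (A g) ∣ 2 ^ e → orderOf (A g') = 2 ^ (e + 1) →
      Subgroup.closure ({g, g'} : Set G) = ⊤ → α = 1 := by
    intro g g' e hg hg' hgen'
    let φ : G →* G ⧸ T := (powMonoidHom (2 ^ e)).comp A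
    have hφ : ∀ u, φ u = (A u) ^ 2 ^ e := fun u => rfl
    have hexp : ∀ u : G, (A u) ^ 2 ^ (e + 1) = 1 := by
      intro u
      have : u ∈ Subgroup.closure ({g, g'} : Set G) := hgen' ▸ Subgroup.mem_top u
      induction this using Subgroup.closure_induction with
      | mem u hu =>
        rcases hu with rfl | rfl
        · exact orderOf_dvd_iff_pow_eq_one.1 (hg.trans (pow_dvd_pow 2 (Nat.le_succ e)))
        · exact orderOf_dvd_iff_pow_eq_one.1 hg'.dvd
      | one => simp
      | mul u w _ _ hu hw => rw [map_mul, mul_pow, hu, hw, one_mul]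
      | inv u _ hu => rw [map_inv, inv_pow, hu, inv_one]
    refine eq_one_of_invariant hG (V := φ.ker) (g := g) (g' := g') ?_ ?_ (hΦle _ fun y => ?_) hgen' hα fun y hy => ?_
    · rw [MonoidHom.mem_ker, hφ]; exact orderOf_dvd_iff_pow_eq_one.1 hg
    · rw [MonoidHom.mem_ker, hφ, ← orderOf_dvd_iff_pow_eq_one, hg']
      intro h
      have := (Nat.pow_dvd_pow_iff_le_right (by norm_num : 1 < 2)).1 h
      omega
    · rw [MonoidHom.mem_ker, hφ, map_mul, ← pow_two, ← pow_mul, ← pow_succ']
      exact hexp y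
    · rw [MonoidHom.mem_ker, hφ, ← map_pow] at hy ⊢
      exact (QuotientGroup.eq_one_iff _).2 (invariant_of_pow (K := T) _ α ((QuotientGroup.eq_one_iff _).1 hy))
  obtain ⟨e, he⟩ := IsPGroup.iff_orderOf.1 (hG.to_quotient T) (A b)
  rcases Nat.lt_trichotomy c e with hce | hce | hce
  · refine twoEasy a b (e - 1) ?_ (by rw [he]; congr 1; omega) hgen
    rw [hc]; exact pow_dvd_pow 2 (by omega)
  swap
  · refine twoEasy b a (c - 1) ?_ (by rw [hc]; congr 1; omega) (by rw [Set.pair_comm, hgen])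
    rw [he]; exact pow_dvd_pow 2 (by omega)
  -- equal orders
  subst hce
  obtain ⟨hbk, -⟩ := hbd.resolve_left (by rw [he]; exact lt_irrefl _)
  rw [he] at hbk
  have hkc : k = c := (Nat.pow_right_injective (le_refl 2) hbk).symm
  subst hkc
  have hmkb : orderOf (QuotientGroup.mk b : G ⧸ N) = 2 ^ k := by
    rw [← hk]
    exact Nat.dvd_antisymm (orderOf_dvd_of_mem_zpowers (hbb _)) (orderOf_dvd_of_mem_zpowers (hbgen _))
  have hbkT : b ^ (2 ^ k) ∈ T := (QuotientGroup.eq_one_iff _).1 (by
    show A (b ^ 2 ^ k) = 1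
    rw [map_pow, ← he, pow_orderOf_eq_one])
  by_cases hT1 : a ^ (R - 1) = 1
  · -- abelian, hence homocyclic
    exfalso
    have hTbot : T = ⊥ := by rw [hTeq, hT1, Subgroup.zpowers_one_eq_bot]
    have hAinj : Function.Injective A := by
      rw [injective_iff_map_eq_one]
      intro u hu
      have : u ∈ T := (QuotientGroup.eq_one_iff u).1 hu
      rwa [hTbot, Subgroup.mem_bot] at this
    rw [orderOf_injective A hAinj] at hc
    rw [hTbot, Subgroup.mem_bot] at hbkT
    have hcomm : Commute a b := hAinj (by rw [map_mul, map_mul, mul_comm])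
    apply hh
    refine ⟨k, 2, ?_⟩
    let pa : ZMod (2 ^ k) →+ Additive G := TwoLift.pw (2 ^ k) (a := a) (by rw [← hc, pow_orderOf_eq_one])
    let pb : ZMod (2 ^ k) →+ Additive G := TwoLift.pw (2 ^ k) (a := b) hbkT
    let ψ : Multiplicative (Fin 2 → ZMod (2 ^ k)) →* G := MonoidHom.mk'
      (fun x => Additive.toMul (pa (Multiplicative.toAdd x 0)) * Additive.toMul (pb (Multiplicative.toAdd x 1)))
      (fun x y => by
        obtain ⟨i, hi⟩ := ZMod.intCast_surjective (Multiplicative.toAdd y 0)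
        obtain ⟨j, hj⟩ := ZMod.intCast_surjective (Multiplicative.toAdd x 1)
        rw [toAdd_mul, Pi.add_apply, Pi.add_apply, map_add pa, map_add pb, toMul_add, toMul_add]
        refine Commute.mul_mul_mul_comm ?_ _ _
        rw [← hi, ← hj, TwoLift.pw_intCast, TwoLift.pw_intCast]
        exact hcomm.zpow_zpow i j)
    refine ⟨(MulEquiv.ofBijective ψ ⟨?_, ?_⟩).symm⟩
    · rw [injective_iff_map_eq_one]
      intro x hx
      obtain ⟨i, hi⟩ := ZMod.intCast_surjective (Multiplicative.toAdd x 0)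
      obtain ⟨j, hj⟩ := ZMod.intCast_surjective (Multiplicative.toAdd x 1)
      have h1 : a ^ i * b ^ j = 1 := by
        rw [← hx]
        show _ = Additive.toMul (pa _) * Additive.toMul (pb _)
        rw [← hi, ← hj, TwoLift.pw_intCast, TwoLift.pw_intCast]
      have h2 : (2 ^ k : ℤ) ∣ j := by
        have h3 := congrArg (QuotientGroup.mk' N) h1
        rw [map_mul, map_zpow, map_zpow, map_one, QuotientGroup.mk'_apply, QuotientGroup.mk'_apply,
          (QuotientGroup.eq_one_iff a).2 haN, one_zpow, one_mul, ← orderOf_dvd_iff_zpow_eq_one, hmkb] at h3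
        exact_mod_cast h3
      have hj0 : b ^ j = 1 := by
        obtain ⟨l, rfl⟩ := h2
        rw [zpow_mul, show ((2 : ℤ) ^ k) = ((2 ^ k : ℕ) : ℤ) by push_cast; rfl, zpow_natCast, hbkT, one_zpow]
      rw [hj0, mul_one, ← orderOf_dvd_iff_zpow_eq_one, hc] at h1
      refine Multiplicative.toAdd.injective (funext fun l => ?_)
      fin_cases l
      · show Multiplicative.toAdd x 0 = 0
        rw [← hi, ZMod.intCast_zmod_eq_zero_iff_dvd]; exact h1
      · show Multiplicative.toAdd x 1 = 0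
        rw [← hj, ZMod.intCast_zmod_eq_zero_iff_dvd]; exact_mod_cast h2
    · intro g
      obtain ⟨i, j, rfl⟩ := hdec g
      refine ⟨Multiplicative.ofAdd ![(i : ZMod (2 ^ k)), (j : ZMod (2 ^ k))], ?_⟩
      show Additive.toMul (pa (i : ZMod (2 ^ k))) * Additive.toMul (pb (j : ZMod (2 ^ k))) = _
      rw [TwoLift.pw_intCast, TwoLift.pw_intCast]
      exact (hcomm.zpow_zpow i j).eq
  · -- the derived subgroup is not trivial
    have hm1 : m ≠ 0 := fun h => hT1 (by
      rw [h, pow_zero, orderOf_eq_one_iff] at hmo; rw [hmo, one_zpow])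
    -- `R` is odd
    have hRodd : ∃ r, R = 2 * r + 1 := by
      rcases Int.even_or_odd' R with ⟨r, h | h⟩
      · exfalso
        have ho : orderOf (b₀ * a * b₀⁻¹) = orderOf a := MulEquiv.orderOf_eq (MulAut.conj b₀) a
        have h1 : (b₀ * a * b₀⁻¹) ^ (2 ^ (m - 1) : ℕ) = 1 := by
          rw [← hR, ← zpow_natCast, ← zpow_mul, ← orderOf_dvd_iff_zpow_eq_one, hmo, h]
          refine ⟨r, ?_⟩
          rw [show m = m - 1 + 1 by omega, pow_succ]; push_cast; ring
        have h2 := orderOf_dvd_of_pow_eq_one h1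
        rw [ho, hmo, Nat.pow_dvd_pow_iff_le_right (by norm_num)] at h2
        omega
      · exact ⟨r, h⟩
    obtain ⟨r, hr⟩ := hRodd
    -- the order of `a` modulo the derived subgroup
    have hTmem : ∀ i : ℤ, a ^ i ∈ T → ∃ l : ℤ, (2 : ℤ) ^ m ∣ (R - 1) * l - i := fun i hi => by
      rw [hTeq] at hi
      obtain ⟨l, hl⟩ := Subgroup.mem_zpowers_iff.1 hi
      rw [← zpow_mul, zpow_eq_zpow_iff_modEq, Int.modEq_iff_dvd, hmo] at hl
      obtain ⟨u, hu⟩ := hl
      exact ⟨l, -u, by push_cast at hu; linear_combination -hu⟩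
    have hcm : k ≤ m := by
      have h1 : orderOf (A a) ∣ orderOf a := orderOf_map_dvd A a
      rw [hc, hmo] at h1
      exact (Nat.pow_dvd_pow_iff_le_right (by norm_num)).1 h1
    have hk1 : 1 ≤ k := by
      by_contra h0
      have hk0 : k = 0 := by omega
      subst hk0
      rw [pow_zero, orderOf_eq_one_iff] at hc
      obtain ⟨l, hl⟩ := hTmem 1 (by rw [zpow_one]; exact (QuotientGroup.eq_one_iff a).1 hc)
      have : (2 : ℤ) ∣ (R - 1) * l - 1 := (dvd_pow_self 2 hm1).trans hl
      rw [show (R - 1) * l = 2 * (r * l) by rw [hr]; ring] at this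
      omega
    have haT : a ^ ((2 : ℤ) ^ k) ∈ T := (QuotientGroup.eq_one_iff _).1 (by
      show A (a ^ _) = 1
      rw [map_zpow, ← orderOf_dvd_iff_zpow_eq_one, hc]; push_cast; exact dvd_rfl)
    -- `2^k` divides `R - 1` exactly
    have hkR : (2 : ℤ) ^ k ∣ R - 1 := by
      have h1 : A a ^ (R - 1) = 1 := by
        rw [← map_zpow]; exact (QuotientGroup.eq_one_iff _).2 (hTeq ▸ Subgroup.mem_zpowers _)
      rw [← orderOf_dvd_iff_zpow_eq_one, hc] at h1
      exact_mod_cast h1
    rcases Nat.lt_or_ge k 2 with hk2 | hk2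
    · -- exceptional
      exfalso
      have hk' : k = 1 := by omega
      subst hk'
      refine hex (exceptional_of_index_two (a := a) (f := b) (fun g => ?_) ?_ hmo ?_ (R := R) ?_ ?_ ?_)
      · obtain ⟨i, j, rfl⟩ := hdec g
        have hbN : b ^ (2 : ℤ) ∈ Subgroup.zpowers a := by
          rw [zpow_ofNat]; exact hNeq.le (hTN (by simpa using hbkT))
        rcases Int.even_or_odd' j with ⟨l, rfl | rfl⟩
        · exact Or.inl (mul_mem (by rw [zpow_mul]; exact zpow_mem hbN _) (zpow_mem (Subgroup.mem_zpowers _) _))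
        · refine Or.inr ?_
          rw [← mul_assoc, ← zpow_neg_one, ← zpow_add, show -1 + (2 * l + 1) = 2 * l by ring]
          exact mul_mem (by rw [zpow_mul]; exact zpow_mem hbN _) (zpow_mem (Subgroup.mem_zpowers _) _)
      · intro h'
        rw [(QuotientGroup.eq_one_iff b).2 (hNeq.ge h'), orderOf_one] at hmkb
        norm_num at hmkb
      · by_contra h2
        apply hT1
        rw [← orderOf_dvd_iff_zpow_eq_one, hmo, show m = 1 by omega]
        exact ⟨r, by rw [hr]; push_cast; ring⟩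
      · obtain ⟨j, hj⟩ := Subgroup.mem_zpowers_iff.1 (hbgen b₀)
        obtain ⟨i, hi⟩ := Subgroup.mem_zpowers_iff.1 (hNeq.le (QuotientGroup.eq.1 ((QuotientGroup.mk_zpow N b j).trans hj)))
        have hb0eq : b₀ = b ^ j * a ^ i := by rw [hi, mul_inv_cancel_left]
        obtain ⟨s, hs⟩ := Subgroup.mem_zpowers_iff.1 (hNeq.le (hNn.conj_mem a haN b))
        rcases Int.even_or_odd' j with ⟨l, rfl | rfl⟩
        · exfalso
          apply hT1
          have hbN : b ^ (2 : ℤ) ∈ N := by rw [zpow_ofNat]; exact hTN (by simpa using hbkT)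
          have hb0N : b₀ ∈ N := hb0eq ▸ mul_mem (by rw [zpow_mul]; exact zpow_mem hbN _) (zpow_mem haN _)
          obtain ⟨u, hu⟩ := Subgroup.mem_zpowers_iff.1 (hNeq.le hb0N)
          rw [zpow_sub, zpow_one, hR, ← hu]; group
        · have hbN : b ^ (2 * l) * a * (b ^ (2 * l))⁻¹ = a := by
            have : b ^ (2 : ℤ) ∈ N := by rw [zpow_ofNat]; exact hTN (by simpa using hbkT)
            obtain ⟨u, hu⟩ := Subgroup.mem_zpowers_iff.1 (hNeq.le (zpow_mem this l))
            rw [zpow_mul, ← hu]; group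
          rw [hR, hb0eq]
          calc b * a * b⁻¹ = b * (b ^ (2 * l) * a * (b ^ (2 * l))⁻¹) * b⁻¹ := by rw [hbN]
            _ = _ := by group
      · -- `R` is `3` modulo `4`
        obtain ⟨u, hu⟩ := hTmem _ (hTN.trans le_rfl |> fun _ => haT)
        by_contra h4
        have h41 : (4 : ℤ) ∣ R - 1 := by omega
        have hm2 : 2 ≤ m := by
          by_contra h2
          apply hT1
          rw [← orderOf_dvd_iff_zpow_eq_one, hmo, show m = 1 by omega]
          exact ⟨r, by rw [hr]; push_cast; ring⟩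
        have h5 : (4 : ℤ) ∣ (R - 1) * u - 2 := by
          refine dvd_trans ⟨2 ^ (m - 2), ?_⟩ (by simpa using hu)
          rw [show m = 2 + (m - 2) by omega, pow_add]; norm_num
        obtain ⟨v, hv⟩ := h41
        rw [hv, mul_assoc] at h5
        omega
      · exact hNeq.le (hTN (by simpa [pow_two] using hbkT))
    · -- `R` is `1` modulo `4`: the power map onto the involution of the derived subgroup
      set x := a ^ (R - 1) with hx
      haveI hxc : (Subgroup.zpowers x).Characteristic := hTeq ▸ (inferInstance : T.Characteristic)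
      haveI := characteristic_zpowers_pow (x := x) 2
      set K := Subgroup.zpowers (x ^ 2) with hK
      set B : G →* G ⧸ K := QuotientGroup.mk' K
      have hKle : K ≤ T := by rw [hTeq, hK, Subgroup.zpowers_le]; exact pow_mem (Subgroup.mem_zpowers _) 2
      -- commutators are central of order at most two
      have hBT : ∀ u ∈ T, B u = 1 ∨ B u = B x := by
        intro u hu
        rw [hTeq] at hu
        obtain ⟨i, rfl⟩ := Subgroup.mem_zpowers_iff.1 hu
        have h2 : B x ^ (2 : ℤ) = 1 := by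
          rw [zpow_ofNat, ← map_pow]; exact (QuotientGroup.eq_one_iff _).2 (Subgroup.mem_zpowers _)
        rcases Int.even_or_odd' i with ⟨l, rfl | rfl⟩
        · left; rw [map_zpow, zpow_mul, h2, one_zpow]
        · right; rw [map_zpow, zpow_add, zpow_mul, h2, one_zpow, one_mul, zpow_one]
      have hBc : ∀ u ∈ T, ∀ g : G, Commute (B u) (B g) := by
        intro u hu g
        have hconjT : g * u * g⁻¹ ∈ T := (inferInstance : T.Normal).conj_mem u hu g
        have hone : ∀ v : G, B (g * v * g⁻¹) = 1 → B v = 1 := fun v hv => by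
          rwa [map_mul, map_mul, map_inv, conj_eq_one_iff] at hv
        have h1 : B (g * u * g⁻¹) = B u := by
          rcases hBT _ hu with h | h
          · rw [h, map_mul, map_mul, map_inv, h]; group
          · rcases hBT _ hconjT with h' | h'
            · rw [hone u h', h']
            · rw [h, h']
        rw [map_mul, map_mul, map_inv, mul_inv_eq_iff_eq_mul] at h1
        exact h1.symm
      have hsq : ∀ u w : G, Commute (B u * B u) (B w) := by
        intro u w
        have hC : ⁅u, w⁆ ∈ T := Subgroup.commutator_mem_commutator (Subgroup.mem_top u) (Subgroup.mem_top w)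
        have hB2 : B ⁅u, w⁆ * B ⁅u, w⁆ = 1 := by
          rcases hBT _ hC with h | h <;> rw [h]
          · exact one_mul 1
          · rw [← map_mul, ← pow_two]; exact (QuotientGroup.eq_one_iff _).2 (Subgroup.mem_zpowers _)
        have e : B u * B w = B ⁅u, w⁆ * (B w * B u) := by
          rw [← map_mul, ← map_mul, ← map_mul, commutatorElement_def]; congr 1; group
        show B u * B u * B w = B w * (B u * B u)
        calc B u * B u * B w = B u * (B ⁅u, w⁆ * (B w * B u)) := by rw [mul_assoc, e]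
          _ = B ⁅u, w⁆ * (B u * B w) * B u := by rw [← mul_assoc, ← (hBc _ hC u).eq]; simp only [mul_assoc]
          _ = B w * (B u * B u) := by rw [e, ← mul_assoc, hB2, one_mul, mul_assoc]
      have hfour : ∀ u w : G, (B u * B w) ^ 4 = B u ^ 4 * B w ^ 4 := by
        intro u w
        have hC : ⁅w, u⁆ ∈ T := Subgroup.commutator_mem_commutator (Subgroup.mem_top w) (Subgroup.mem_top u)
        have hz2 : B ⁅w, u⁆ * B ⁅w, u⁆ = 1 := by
          rcases hBT _ hC with h | h <;> rw [h]
          · exact one_mul 1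
          · rw [← map_mul, ← pow_two]; exact (QuotientGroup.eq_one_iff _).2 (Subgroup.mem_zpowers _)
        have e : B w * B u = B ⁅w, u⁆ * (B u * B w) := by
          rw [← map_mul, ← map_mul, ← map_mul, commutatorElement_def]; congr 1; group
        have h2 : (B u * B w) * (B u * B w) = B ⁅w, u⁆ * ((B u * B u) * (B w * B w)) := by
          calc (B u * B w) * (B u * B w) = B u * (B w * B u) * B w := by simp only [mul_assoc]
            _ = B u * B ⁅w, u⁆ * (B u * B w * B w) := by rw [e]; simp only [mul_assoc]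
            _ = _ := by rw [← (hBc _ hC u).eq]; simp only [mul_assoc]
        have hc4 : Commute (B u * B u) (B w * B w) := (hsq u w).mul_right (hsq u w)
        have hz4 : Commute (B u * B u * (B w * B w)) (B ⁅w, u⁆) :=
          (((hBc _ hC u).symm.mul_left (hBc _ hC u).symm)).mul_left ((hBc _ hC w).symm.mul_left (hBc _ hC w).symm)
        rw [show (4 : ℕ) = 2 * 2 from rfl, pow_mul, pow_mul, pow_mul, pow_two (B u * B w), h2, pow_two,
          hz4.mul_mul_mul_comm, hz2, one_mul, hc4.symm.mul_mul_mul_comm, ← pow_two, ← pow_two, ← pow_two, ← pow_two]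
      have hn : ∃ q, 2 ^ k = 4 * q := ⟨2 ^ (k - 2), by rw [show k = 2 + (k - 2) by omega, pow_add]; norm_num⟩
      obtain ⟨q, hq⟩ := hn
      have hhom : ∀ u w : G, (B u * B w) ^ 2 ^ k = B u ^ 2 ^ k * B w ^ 2 ^ k := by
        intro u w
        rw [hq, pow_mul, pow_mul, pow_mul, hfour, Commute.mul_pow]
        show Commute (B u ^ 4) (B w ^ 4)
        rw [show (4 : ℕ) = 2 * 2 from rfl, pow_mul, pow_two (B u)]
        exact ((hsq u w).pow_left 2).pow_right _
      let φ : G →* G ⧸ K := MonoidHom.mk' (fun u => B u ^ 2 ^ k) fun u w => by rw [map_mul, hhom]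
      have hφ : ∀ u, φ u = B u ^ 2 ^ k := fun u => rfl
      have hφa : φ a = B x ∧ B x ≠ 1 := by
        obtain ⟨u, hu⟩ := hkR
        obtain ⟨l, hl⟩ := hTmem _ haT
        -- `u` is odd
        have hmk : k < m := by
          by_contra hle
          apply hT1
          rw [← orderOf_dvd_iff_zpow_eq_one, hmo, hu]
          push_cast
          exact dvd_mul_of_dvd_left (pow_dvd_pow 2 (by omega)) u
        have hu2 : ∃ v, u = 2 * v + 1 := by
          rcases Int.even_or_odd' u with ⟨v, h | h⟩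
          · exfalso
            rw [hu, h] at hl
            have h2 : (2 : ℤ) ^ (k + 1) ∣ 2 ^ k * (2 * v) * l - 2 ^ k := dvd_trans (pow_dvd_pow 2 hmk) hl
            rw [pow_succ, show (2 : ℤ) ^ k * (2 * v) * l - 2 ^ k = 2 ^ k * (2 * (v * l) - 1) by ring] at h2
            have := Int.dvd_of_mul_dvd_mul_left (pow_ne_zero _ two_ne_zero) h2
            omega
          · exact ⟨v, h⟩
        obtain ⟨v, rfl⟩ := hu2
        have hx1 : B x ≠ 1 := by
          intro h
          obtain ⟨i, hi⟩ := Subgroup.mem_zpowers_iff.1 ((QuotientGroup.eq_one_iff x).1 h)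
          rw [← zpow_natCast, ← zpow_mul, hx, ← zpow_mul, zpow_eq_zpow_iff_modEq, Int.modEq_iff_dvd, hmo] at hi
          apply hT1
          rw [← orderOf_dvd_iff_zpow_eq_one, hmo]
          push_cast at hi ⊢
          rw [show R - 1 - (R - 1) * (2 * i) = (R - 1) * (2 * (-i) + 1) by ring] at hi
          exact (IsCoprime.pow_left ⟨i, 1, by ring⟩ : IsCoprime ((2 : ℤ) ^ m) (2 * (-i) + 1)).dvd_of_dvd_mul_right hi
        refine ⟨?_, hx1⟩
        have hB2 : B x ^ (2 : ℤ) = 1 := by
          rw [zpow_ofNat, ← map_pow]; exact (QuotientGroup.eq_one_iff _).2 (Subgroup.mem_zpowers _)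
        rw [hφ, ← map_pow]
        have e2 : a ^ ((2 : ℤ) ^ k) = a ^ (2 ^ k : ℕ) := by rw [← zpow_natCast]; norm_num
        rcases hBT _ (e2 ▸ haT : a ^ (2 ^ k : ℕ) ∈ T) with h | h
        · exfalso
          apply hx1
          rw [hx, hu, zpow_mul, map_zpow, e2, h,
            one_zpow]
        · exact h
      have hsqker : ∀ y : G, y * y ∈ φ.ker := fun y => by
        rw [MonoidHom.mem_ker, map_mul]
        have hyT : y ^ (2 ^ k) ∈ T := by
          obtain ⟨i, j, rfl⟩ := hdec y
          refine (QuotientGroup.eq_one_iff _).1 ?_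
          show A ((b ^ j * a ^ i) ^ 2 ^ k) = 1
          rw [map_pow, map_mul, map_zpow, map_zpow, mul_pow, ← zpow_natCast, ← zpow_natCast (A a ^ i), ← zpow_mul,
            ← zpow_mul, mul_comm j, mul_comm i, zpow_mul, zpow_mul, zpow_natCast, zpow_natCast,
            orderOf_dvd_iff_pow_eq_one.1 he.dvd, orderOf_dvd_iff_pow_eq_one.1 hc.dvd, one_zpow, one_zpow, one_mul]
        rw [hφ, ← map_pow]
        rcases hBT _ hyT with h | h <;> rw [h]
        · exact one_mul 1
        · rw [← map_mul, ← pow_two]; exact (QuotientGroup.eq_one_iff _).2 (Subgroup.mem_zpowers _)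
      have hinv : ∀ y ∈ φ.ker, α y ∈ φ.ker := fun y hy => by
        rw [MonoidHom.mem_ker, hφ, ← map_pow] at hy ⊢
        exact (QuotientGroup.eq_one_iff _).2 (invariant_of_pow (K := K) _ α ((QuotientGroup.eq_one_iff _).1 hy))
      have haker : a ∉ φ.ker := fun h => hφa.2 (hφa.1.symm.trans h)
      have hbval : φ b = 1 ∨ φ b = B x := by
        rw [hφ, ← map_pow]; exact hBT _ hbkT
      rcases hbval with h | h
      · exact eq_one_of_invariant hG (g := b) (g' := a) h haker (hΦle _ hsqker) (by rw [Set.pair_comm, hgen]) hα hinv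
      · refine eq_one_of_invariant hG (g := b * a) (g' := a) ?_ haker (hΦle _ hsqker) ?_ hα hinv
        · rw [MonoidHom.mem_ker, map_mul, h, hφa.1, ← map_mul, ← pow_two]
          exact (QuotientGroup.eq_one_iff _).2 (Subgroup.mem_zpowers _)
        · refine eq_top_iff.2 (hgen ▸ (Subgroup.closure_le _).2 ?_)
          rintro y (hy | hy) <;> subst y
          · exact Subgroup.subset_closure (Or.inr rfl)
          · have := mul_mem (Subgroup.subset_closure (k := {b * a, a}) (Or.inl rfl))
              (inv_mem (Subgroup.subset_closure (k := {b * a, a}) (Or.inr rfl)))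
            rwa [mul_inv_cancel_right] at this

end Cfsg.Agent.MetaTwo
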