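import Cfsg.Agent.Lib.Fusion.ModelExtension
import Cfsg.Agent.Lib.Fusion.Normal
import Cfsg.Agent.Lib.Fusion.InnerCriterion

/-!
# The data for the model of a constrained system
-/

set_option autoImplicit false

namespace Cfsg.Agent.FusionSys

open Cfsg Cfsg.FusionSystem

variable {Ω : Type*} [Group Ω] {S : Subgroup Ω} {F : FusionSystem S} {Q : Subgroup Ω}

/-- A normal centric subgroup. -/
structure CentricNormal (F : FusionSystem S) (Q : Subgroup Ω) : Prop where
  normal : F.IsNormal Q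
  centric : F.IsCentric Q

theorem CentricNormal.le (hQ : CentricNormal F Q) : Q ≤ S := hQ.normal.1

theorem CentricNormal.normalizer (hQ : CentricNormal F Q) : S ≤ Subgroup.normalizer (Q : Set Ω) :=
  isNormal_le_normalizer hQ.normal

/-- The action of `S` on `Q` inside `Aut_F(Q)`. -/
def actQ (hQ : CentricNormal F Q) : S →* F.autGroup Q :=
  MonoidHom.codRestrict (Q.normalizerMonoidHom.comp (Subgroup.inclusion hQ.normalizer)) (F.autGroup Q)
    fun s => autInducedBy_le_autGroup F hQ.le ((mem_autInducedBy_iff _).2 ⟨s, s.2, fun _ => rfl⟩)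

theorem actQ_apply (hQ : CentricNormal F Q) (s : S) (q : Q) :
    (((actQ hQ s : MulAut Q) q : Q) : Ω) = (s : Ω) * q * (s : Ω)⁻¹ := rfl

/-- The centre of `Q`. -/
def zQ (Q : Subgroup Ω) : Subgroup Ω := Q ⊓ Subgroup.centralizer (Q : Set Ω)

instance zQ.commGroup (Q : Subgroup Ω) : CommGroup (zQ Q) :=
  { (inferInstance : Group (zQ Q)) with
    mul_comm := fun a b => Subtype.ext (Subgroup.mem_centralizer_iff.1 b.2.2 a a.2.1) }

/-- Restriction of automorphisms to the centre of `Q`. -/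
def zQRestrict (Q : Subgroup Ω) : MulAut Q →* MulAut (zQ Q) where
  toFun h :=
    { toFun := fun z => ⟨(h ⟨z, z.2.1⟩ : Q), (h _).2, Subgroup.mem_centralizer_iff.2 fun q hq => by
        have e : h (h⁻¹ ⟨q, hq⟩ * ⟨(z : Ω), z.2.1⟩) = h (⟨(z : Ω), z.2.1⟩ * h⁻¹ ⟨q, hq⟩) :=
          congrArg h (Subtype.ext (Subgroup.mem_centralizer_iff.1 z.2.2 _ (h⁻¹ ⟨q, hq⟩).2))
        rw [map_mul, map_mul, show h (h⁻¹ ⟨q, hq⟩) = ⟨q, hq⟩ from h.apply_symm_apply _] at e
        exact congrArg Subtype.val e⟩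
      invFun := fun z => ⟨(h⁻¹ ⟨z, z.2.1⟩ : Q), (h⁻¹ _).2, Subgroup.mem_centralizer_iff.2 fun q hq => by
        have e : h⁻¹ (h ⟨q, hq⟩ * ⟨(z : Ω), z.2.1⟩) = h⁻¹ (⟨(z : Ω), z.2.1⟩ * h ⟨q, hq⟩) :=
          congrArg _ (Subtype.ext (Subgroup.mem_centralizer_iff.1 z.2.2 _ (h ⟨q, hq⟩).2))
        rw [map_mul, map_mul, show h⁻¹ (h ⟨q, hq⟩) = ⟨q, hq⟩ from h.symm_apply_apply _] at e
        exact congrArg Subtype.val e⟩
      left_inv := fun z => Subtype.ext (congrArg (fun u : Q => (u : Ω)) (h.symm_apply_apply ⟨(z : Ω), z.2.1⟩))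
      right_inv := fun z => Subtype.ext (congrArg (fun u : Q => (u : Ω)) (h.apply_symm_apply ⟨(z : Ω), z.2.1⟩))
      map_mul' := fun a b => Subtype.ext (congrArg (fun u : Q => (u : Ω)) (map_mul h ⟨(a : Ω), a.2.1⟩ ⟨(b : Ω), b.2.1⟩)) }
  map_one' := rfl
  map_mul' _ _ := rfl

/-- The centre of `Q` inside `S`. -/
def zQInc (hQ : CentricNormal F Q) : zQ Q →* S := Subgroup.inclusion (inf_le_left.trans hQ.le)

variable [Finite S] {p : ℕ} [hp : Fact p.Prime] (hS : IsPGroup p S) (hF : F.IsSaturated p)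

omit [Finite S] in
theorem actQ_range (hQ : CentricNormal F Q) :
    (actQ hQ).range = (autInducedBy S Q).subgroupOf (F.autGroup Q) := by
  ext a
  constructor
  · rintro ⟨s, rfl⟩
    exact (mem_autInducedBy_iff _).2 ⟨s, s.2, fun _ => rfl⟩
  · intro ha
    obtain ⟨g, hg, hge⟩ := (mem_autInducedBy_iff _).1 ha
    exact ⟨⟨g, hg⟩, Subtype.ext (MulEquiv.ext fun q => Subtype.ext (hge q).symm)⟩

omit [Finite S] in
theorem zQInc_range (hQ : CentricNormal F Q) : (zQInc hQ).range = (actQ hQ).ker := by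
  ext s
  constructor
  · rintro ⟨z, rfl⟩
    refine MonoidHom.mem_ker.2 (Subtype.ext (MulEquiv.ext fun q => Subtype.ext ?_))
    rw [actQ_apply]
    show (z : Ω) * q * (z : Ω)⁻¹ = q
    rw [← Subgroup.mem_centralizer_iff.1 z.2.2 q q.2, mul_inv_cancel_right]
  · intro hs
    have hc : ∀ q ∈ Q, q * (s : Ω) = s * q := fun q hq => by
      have h := congrArg (fun a : F.autGroup Q => (((a : MulAut Q) ⟨q, hq⟩ : Q) : Ω)) (MonoidHom.mem_ker.1 hs)
      simp only [actQ_apply] at h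
      exact (mul_inv_eq_iff_eq_mul.1 h).symm
    exact ⟨⟨s, mem_of_centralizes hQ.centric s.2 hc, Subgroup.mem_centralizer_iff.2 hc⟩, rfl⟩

/-- The data together with the properties needed to realize the system. -/
structure ModelData (hQ : CentricNormal F Q) where
  data : ModelExt.Data (actQ hQ) (zQInc hQ)
  c_Q : ∀ (q : Q) (y : F.autGroup Q ⧸ (actQ hQ).range),
    (data.c ⟨q, hQ.le q.2⟩ y : Ω) = (((data.t y : MulAut Q)⁻¹ q : Q) : Ω)
  c_stab : ∀ (y : F.autGroup Q ⧸ (actQ hQ).range) (N : Subgroup Ω) (hN : N ≤ S),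
    (∀ s : N, actQ hQ ⟨s, hN s.2⟩ • y = y) → ∃ φ ∈ F.Hom N, ∀ s : N, φ s = data.c ⟨s, hN s.2⟩ y

include hS hF in
theorem exists_modelData (hQ : CentricNormal F Q) : Nonempty (ModelData hQ) := by
  classical
  set act := actQ hQ with hact
  letI : MulAction S (F.autGroup Q ⧸ act.range) := MulAction.compHom _ act
  let rep : F.autGroup Q ⧸ act.range → F.autGroup Q ⧸ act.range := fun y =>
    (Quotient.mk (MulAction.orbitRel S (F.autGroup Q ⧸ act.range)) y).out
  have hrep : ∀ y, ∃ s : S, act s • rep y = y := fun y => by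
    have h : (MulAction.orbitRel S (F.autGroup Q ⧸ act.range)).r (rep y) y := Quotient.mk_out y
    obtain ⟨s, hs⟩ := MulAction.orbitRel_apply.1 h
    exact ⟨s⁻¹, by show s⁻¹ • rep y = y; rw [← hs, inv_smul_smul]⟩
  have hrep' : ∀ (s : S) y, rep (act s • y) = rep y := fun s y =>
    congrArg Quotient.out (Quotient.sound (MulAction.orbitRel_apply.2 ⟨s, rfl⟩))
  choose sy hsy using hrep
  -- elements fixing a coset, and their images
  let stab : (F.autGroup Q ⧸ act.range) → Subgroup Ω := fun x => (MulAction.stabilizer S x).map S.subtype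
  have hstabS : ∀ x, stab x ≤ S := fun x => Subgroup.map_subtype_le _
  have hQfix : ∀ (q : Q) (x : F.autGroup Q ⧸ act.range), act ⟨q, hQ.le q.2⟩ • x = x := fun q x => by
    rw [← QuotientGroup.out_eq' x, MulAction.Quotient.smul_mk, smul_eq_mul, QuotientGroup.eq]
    set t := x.out
    refine ⟨⟨((t : MulAut Q)⁻¹ q : Q), hQ.le ((t : MulAut Q)⁻¹ q).2⟩⁻¹, ?_⟩
    have key : act ⟨q, hQ.le q.2⟩ * t = t * act ⟨((t : MulAut Q)⁻¹ q : Q), hQ.le ((t : MulAut Q)⁻¹ q).2⟩ := by
      refine Subtype.ext (MulEquiv.ext fun r => ?_)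
      rw [Subgroup.coe_mul, Subgroup.coe_mul, MulAut.mul_apply, MulAut.mul_apply,
        show (act ⟨((t : MulAut Q)⁻¹ q : Q), hQ.le ((t : MulAut Q)⁻¹ q).2⟩ : MulAut Q) r =
          (t : MulAut Q)⁻¹ q * r * ((t : MulAut Q)⁻¹ q)⁻¹ from Subtype.ext (actQ_apply hQ _ r), map_mul, map_mul,
        map_inv, show (t : MulAut Q) ((t : MulAut Q)⁻¹ q) = q from (t : MulAut Q).apply_symm_apply q]
      exact Subtype.ext (actQ_apply hQ _ _)
    rw [map_inv, key, mul_inv_rev, mul_assoc, inv_mul_cancel, mul_one]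
  have hQstab : ∀ x, Q ≤ stab x := fun x q hq => ⟨⟨q, hQ.le hq⟩, hQfix ⟨q, hq⟩ x, rfl⟩
  have hext : ∀ x, ∃ ψ ∈ F.Hom (stab x), ∀ q : Q,
      ψ ⟨q, hQstab x q.2⟩ = (((x.out : MulAut Q)⁻¹ q : Q) : Ω) := by
    intro x
    set t := x.out with ht
    set h : MulAut Q := (t : MulAut Q)⁻¹ with hh
    have hhF : h ∈ F.autGroup Q := Subgroup.inv_mem _ t.2
    obtain ⟨ψ, hψ, hψe⟩ := (fullyNormalized_receptive hS hF
      (fullyNormalized_of_normal (F := F) hQ.le hQ.normalizer)).2 Q (equivHom h)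
        ((equivHom_autGroup F hQ.le).1 hhF) (equivHom_range h)
    have hle : stab x ≤ extender S Q (equivHom h) := by
      rintro _ ⟨s, hs, rfl⟩
      have hs' : act s • (QuotientGroup.mk t : F.autGroup Q ⧸ act.range) = QuotientGroup.mk t := by
        rw [ht, QuotientGroup.out_eq']; exact hs
      rw [MulAction.Quotient.smul_mk, eq_comm, QuotientGroup.eq] at hs'
      obtain ⟨u, hu⟩ := hs'
      refine Subgroup.subset_closure ⟨s.2, hQ.normalizer s.2, u, u.2, fun q hq => ?_⟩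
      have e := congrArg (fun a : F.autGroup Q => (((a : MulAut Q) (h q) : Q) : Ω)) hu
      simp only [smul_eq_mul, Subgroup.coe_mul, Subgroup.coe_inv, MulAut.mul_apply, actQ_apply, hh] at e
      rw [show (t : MulAut Q) ((t : MulAut Q)⁻¹ q) = q from (t : MulAut Q).apply_symm_apply q] at e
      refine Eq.trans ?_ e.symm
      rfl
    exact ⟨ψ.comp (Subgroup.inclusion hle), restrict_mem F hψ hle, fun q => hψe q q.2 (hle (hQstab x q.2))⟩
  choose ψ hψ hψQ using hext
  let val : (F.autGroup Q ⧸ act.range) → S → S := fun x s =>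
    if h : (s : Ω) ∈ stab x then ⟨ψ x ⟨s, h⟩, hom_apply_mem F (hψ x) _⟩ else 1
  have hval : ∀ x (s : S) (h : (s : Ω) ∈ stab x), (val x s : Ω) = ψ x ⟨s, h⟩ := fun x s h => by simp [val, h]
  have hval_mul : ∀ x (a b : S), (a : Ω) ∈ stab x → (b : Ω) ∈ stab x → val x (a * b) = val x a * val x b := by
    intro x a b ha hb
    refine Subtype.ext ?_
    rw [Subgroup.coe_mul, hval x _ ((stab x).mul_mem ha hb), hval x a ha, hval x b hb, ← map_mul]
    rfl
  have hval_act : ∀ x (s : S), (s : Ω) ∈ stab x → act (val x s) = x.out⁻¹ * act s * x.out := by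
    intro x s hs
    refine Subtype.ext (MulEquiv.ext fun r => Subtype.ext ?_)
    obtain ⟨q, rfl⟩ := ((x.out : MulAut Q)⁻¹).surjective r
    rw [actQ_apply, hval x s hs, ← hψQ x q, ← map_inv, ← map_mul, ← map_mul]
    have hm : (s : Ω) * q * (s : Ω)⁻¹ ∈ Q := (Subgroup.mem_normalizer_iff.1 (hQ.normalizer s.2) _).1 q.2
    refine Eq.trans (apply_congr (ψ x) rfl _ (hQstab x hm)) ((hψQ x ⟨_, hm⟩).trans ?_)
    simp only [Subgroup.coe_mul, Subgroup.coe_inv, MulAut.mul_apply]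
    rw [show (x.out : MulAut Q) ((x.out : MulAut Q)⁻¹ q) = q from (x.out : MulAut Q).apply_symm_apply q]
    rfl
  have hmem : ∀ (s : S) y, (((sy (act s • y))⁻¹ * s * sy y : S) : Ω) ∈ stab (rep y) := fun s y => by
    refine ⟨(sy (act s • y))⁻¹ * s * sy y, ?_, rfl⟩
    show act ((sy (act s • y))⁻¹ * s * sy y) • rep y = rep y
    rw [map_mul, map_mul, map_inv, mul_smul, mul_smul, hsy, inv_smul_eq_iff]
    conv_rhs => rw [← hrep' s y, hsy]
  have hqn : ∀ (q : Q) (g : S), ∃ q' : Q, (q' : Ω) = (g : Ω)⁻¹ * q * g ∧ q' = (act g : MulAut Q)⁻¹ q :=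
    fun q g => by
      refine ⟨(act g : MulAut Q)⁻¹ q, ?_, rfl⟩
      have e := actQ_apply hQ g ((act g : MulAut Q)⁻¹ q)
      rw [show (act g : MulAut Q) ((act g : MulAut Q)⁻¹ q) = q from MulEquiv.apply_symm_apply _ q] at e
      rw [e]; group
  let t : (F.autGroup Q ⧸ act.range) → F.autGroup Q := fun y => act (sy y) * (rep y).out
  let c : S → (F.autGroup Q ⧸ act.range) → S := fun s y => val (rep y) ((sy (act s • y))⁻¹ * s * sy y)
  have hcQ : ∀ (q : Q) y, (c ⟨q, hQ.le q.2⟩ y : Ω) = (((t y : MulAut Q)⁻¹ q : Q) : Ω) := fun q y => by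
    obtain ⟨q', hq', hqe⟩ := hqn q (sy y)
    have he : (((sy (act ⟨q, hQ.le q.2⟩ • y))⁻¹ * ⟨q, hQ.le q.2⟩ * sy y : S) : Ω) = q' := by
      rw [hQfix q y, hq']; rfl
    show (val (rep y) _ : Ω) = _
    rw [hval _ _ (hmem _ y)]
    refine (apply_congr (ψ (rep y)) he _ (hQstab _ q'.2)).trans ((hψQ (rep y) q').trans ?_)
    show _ = ((((act (sy y) : MulAut Q) * ((rep y).out : MulAut Q))⁻¹ q : Q) : Ω)
    rw [mul_inv_rev, MulAut.mul_apply, hqe]
  refine ⟨{ data := { rho := (zQRestrict Q).comp (F.autGroup Q).subtype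
                      j_inj := Subgroup.inclusion_injective _
                      j_range := zQInc_range hQ
                      j_rho := fun s z => Subtype.ext (actQ_apply hQ s ⟨z, z.2.1⟩)
                      t := t
                      mk_t := fun y => ?_
                      c := c
                      act_c := fun s y => ?_
                      c_mul := fun a b y => ?_
                      c_ker := fun z y => Subtype.ext ((hcQ ⟨z, z.2.1⟩ y).trans rfl) }
            c_Q := hcQ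
            c_stab := fun y N hN hfix => ?_ }⟩
  · show (QuotientGroup.mk (act (sy y) * (rep y).out) : F.autGroup Q ⧸ act.range) = y
    rw [← smul_eq_mul, ← MulAction.Quotient.smul_mk, QuotientGroup.out_eq', hsy]
  · show act (val (rep y) _) = (act (sy (act s • y)) * (rep (act s • y)).out)⁻¹ * act s * (act (sy y) * (rep y).out)
    rw [hval_act _ _ (hmem s y), hrep', map_mul, map_mul, map_inv]
    group
  · show val (rep y) _ = val (rep (act b • y)) _ * val (rep y) _
    rw [hrep', ← hval_mul _ _ _ (hrep' b y ▸ hmem a (act b • y)) (hmem b y)]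
    congr 1
    simp only [hact, map_mul, mul_smul]
    group
  · set s₀ := sy y with hs₀
    have hle : ∀ s : N, (s₀ : Ω)⁻¹ * s * s₀ ∈ stab (rep y) := fun s => by
      have := hmem ⟨s, hN s.2⟩ y
      rwa [hfix s] at this
    have h1 : conjHom N (s₀ : Ω)⁻¹ ∈ F.Hom N := F.conj_mem hN (S.inv_mem s₀.2)
    refine ⟨_, F.comp_mem h1 (hψ (rep y)) (fun s => ?_), fun s => ?_⟩
    · show (s₀ : Ω)⁻¹ * s * (s₀ : Ω)⁻¹⁻¹ ∈ stab (rep y)
      rw [inv_inv]; exact hle s
    · show _ = (val (rep y) ((sy (act ⟨s, hN s.2⟩ • y))⁻¹ * ⟨s, hN s.2⟩ * sy y) : Ω)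
      rw [hval _ _ (hmem _ y)]
      refine apply_congr (ψ (rep y)) ?_ _ _
      rw [hfix s]
      show (s₀ : Ω)⁻¹ * s * (s₀ : Ω)⁻¹⁻¹ = (s₀ : Ω)⁻¹ * s * s₀
      rw [inv_inv]

end Cfsg.Agent.FusionSys
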