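import Mathlib.GroupTheory.QuotientGroup.Basic
import Mathlib.GroupTheory.GroupAction.Quotient
import Mathlib.GroupTheory.OrderOfElement
import Mathlib.Algebra.BigOperators.GroupWithZero.Action
import Mathlib.Tactic.Group

/-!
# Extending a group extension from a subgroup of index prime to the order of the kernel

Given `act : S →* H` with abelian kernel `Z`, an action of `H` on `Z` extending conjugation by `S`, a transversal
`t` of the image `P` and a compatible family `c`, the coinduced extension of `H` by `H/P → Z` receives `S`;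
dividing by the kernel of the trace `∏ t_y(z_y)` gives an extension of `H` by `Z` containing `S`.
-/

set_option autoImplicit false

namespace Cfsg.Agent.FusionSys.ModelExt

variable {S H Z : Type*} [Group S] [Group H] [CommGroup Z]

/-- The data for the extension. -/
structure Data (act : S →* H) (j : Z →* S) where
  rho : H →* MulAut Z
  j_inj : Function.Injective j
  j_range : j.range = act.ker
  j_rho : ∀ (s : S) (z : Z), j (rho (act s) z) = s * j z * s⁻¹
  t : H ⧸ act.range → H
  mk_t : ∀ y, (QuotientGroup.mk (t y) : H ⧸ act.range) = y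
  c : S → H ⧸ act.range → S
  act_c : ∀ s y, act (c s y) = (t (act s • y))⁻¹ * act s * t y
  c_mul : ∀ a b y, c (a * b) y = c a (act b • y) * c b y
  c_ker : ∀ (z : Z) y, c (j z) y = j ((rho (t y))⁻¹ z)

variable {act : S →* H} {j : Z →* S}

/-- The coinduced extension. -/
@[ext]
structure Hat (D : Data act j) where
  h : H
  u : H ⧸ act.range → S
  cond : ∀ y, act (u y) = (D.t (h • y))⁻¹ * h * D.t y

namespace Hat

variable {D : Data act j}

instance : Mul (Hat D) :=
  ⟨fun a b => ⟨a.h * b.h, fun y => a.u (b.h • y) * b.u y, fun y => by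
    rw [map_mul, a.cond, b.cond, mul_smul]; group⟩⟩

instance : One (Hat D) := ⟨⟨1, fun _ => 1, fun y => by simp⟩⟩

instance : Inv (Hat D) :=
  ⟨fun a => ⟨a.h⁻¹, fun y => (a.u (a.h⁻¹ • y))⁻¹, fun y => by
    rw [map_inv, a.cond, smul_inv_smul]; group⟩⟩

theorem mul_h (a b : Hat D) : (a * b).h = a.h * b.h := rfl
theorem mul_u (a b : Hat D) (y : H ⧸ act.range) : (a * b).u y = a.u (b.h • y) * b.u y := rfl
theorem one_h : (1 : Hat D).h = 1 := rfl
theorem one_u (y : H ⧸ act.range) : (1 : Hat D).u y = 1 := rfl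
theorem inv_h (a : Hat D) : a⁻¹.h = a.h⁻¹ := rfl
theorem inv_u (a : Hat D) (y : H ⧸ act.range) : a⁻¹.u y = (a.u (a.h⁻¹ • y))⁻¹ := rfl

instance : Group (Hat D) where
  mul_assoc a b c := Hat.ext (mul_assoc _ _ _) (funext fun y => by simp [mul_u, mul_h, mul_smul, mul_assoc])
  one_mul a := Hat.ext (one_mul _) (funext fun y => by simp [mul_u, one_u])
  mul_one a := Hat.ext (mul_one _) (funext fun y => by simp [mul_u, one_u, one_h])
  inv_mul_cancel a := Hat.ext (inv_mul_cancel _) (funext fun y => by simp [mul_u, inv_u, one_u])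

instance [Finite S] [Finite H] : Finite (Hat D) :=
  Finite.of_injective (fun a : Hat D => (a.h, a.u)) fun _ _ h =>
    Hat.ext (congrArg Prod.fst h) (congrArg Prod.snd h)

end Hat

variable (D : Data act j)

/-- Projection onto `H`. -/
def hatProj : Hat D →* H where
  toFun := Hat.h
  map_one' := rfl
  map_mul' _ _ := rfl

theorem c_one (y : H ⧸ act.range) : D.c 1 y = 1 := by
  have h := D.c_mul 1 1 y
  rw [map_one, one_smul, mul_one] at h
  exact left_eq_mul.1 h

/-- The embedding of `S`. -/
def hatInc : S →* Hat D :=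
  MonoidHom.mk' (fun s => ⟨act s, D.c s, D.act_c s⟩) fun a b => Hat.ext (map_mul act a b) (funext (D.c_mul a b))

theorem hatInc_h (s : S) : (hatInc D s).h = act s := rfl
theorem hatInc_u (s : S) (y : H ⧸ act.range) : (hatInc D s).u y = D.c s y := rfl

/-- The coordinate in `Z` of an element of the kernel. -/
noncomputable def coord (k : (hatProj D).ker) (y : H ⧸ act.range) : Z :=
  (show (k : Hat D).u y ∈ j.range by
    rw [D.j_range, MonoidHom.mem_ker, (k : Hat D).cond, show (k : Hat D).h = 1 from k.2, one_smul, mul_one,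
      inv_mul_cancel]).choose

theorem j_coord (k : (hatProj D).ker) (y : H ⧸ act.range) : j (coord D k y) = (k : Hat D).u y :=
  (show (k : Hat D).u y ∈ j.range by
    rw [D.j_range, MonoidHom.mem_ker, (k : Hat D).cond, show (k : Hat D).h = 1 from k.2, one_smul, mul_one,
      inv_mul_cancel]).choose_spec

variable [Fintype (H ⧸ act.range)]

/-- The trace on the kernel. -/
noncomputable def trace : (hatProj D).ker →* Z :=
  MonoidHom.mk' (fun k => ∏ y, D.rho (D.t y) (coord D k y)) fun a b => by
    rw [← Finset.prod_mul_distrib]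
    refine Finset.prod_congr rfl fun y _ => ?_
    rw [← map_mul]
    congr 1
    apply D.j_inj
    rw [map_mul, j_coord, j_coord, j_coord, Subgroup.coe_mul, Hat.mul_u, show (b : Hat D).h = 1 from b.2, one_smul]

theorem trace_apply (k : (hatProj D).ker) : trace D k = ∏ y, D.rho (D.t y) (coord D k y) := rfl

theorem trace_conj (g : Hat D) (k : (hatProj D).ker) (h : g * k * g⁻¹ ∈ (hatProj D).ker) :
    trace D ⟨g * k * g⁻¹, h⟩ = D.rho g.h (trace D k) := by
  rw [trace_apply, trace_apply, map_prod, ← Equiv.prod_comp (MulAction.toPerm g.h)]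
  refine Finset.prod_congr rfl fun y _ => ?_
  have e : coord D ⟨g * k * g⁻¹, h⟩ (g.h • y) = D.rho (act (g.u y)) (coord D k y) := by
    apply D.j_inj
    rw [j_coord, D.j_rho, j_coord]
    simp only [Hat.mul_u, Hat.mul_h, Hat.inv_u, Hat.inv_h, inv_smul_smul, show (k : Hat D).h = 1 from k.2, one_smul,
      one_mul, inv_smul_smul, mul_assoc]
  show D.rho (D.t (g.h • y)) (coord D ⟨g * k * g⁻¹, h⟩ (g.h • y)) = _
  rw [e, ← MulAut.mul_apply, ← map_mul, g.cond, ← MulAut.mul_apply, ← map_mul]
  congr 2
  group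

/-- The kernel of the trace. -/
noncomputable def traceKer : Subgroup (Hat D) := (trace D).ker.map (hatProj D).ker.subtype

instance : (traceKer D).Normal where
  conj_mem := by
    rintro _ ⟨k, hk, rfl⟩ g
    have h : g * k * g⁻¹ ∈ (hatProj D).ker := (inferInstance : (hatProj D).ker.Normal).conj_mem _ k.2 g
    refine ⟨⟨_, h⟩, ?_, rfl⟩
    rw [SetLike.mem_coe, MonoidHom.mem_ker, trace_conj, show trace D k = 1 from hk, map_one]

/-- The extension of `H` by `Z`. -/
abbrev Ext := Hat D ⧸ traceKer D

/-- Projection of the extension onto `H`. -/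
noncomputable def proj : Ext D →* H :=
  QuotientGroup.lift (traceKer D) (hatProj D) (Subgroup.map_subtype_le _)

/-- The map of `S` into the extension. -/
noncomputable def inc : S →* Ext D := (QuotientGroup.mk' (traceKer D)).comp (hatInc D)

theorem proj_mk (a : Hat D) : proj D (a : Ext D) = a.h := rfl

theorem proj_inc (s : S) : proj D (inc D s) = act s := rfl

theorem proj_surjective : Function.Surjective (proj D) := fun h => by
  have hy : ∀ y, ∃ s : S, act s = (D.t (h • y))⁻¹ * h * D.t y := fun y => by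
    have h1 : (QuotientGroup.mk (D.t (h • y)) : H ⧸ act.range) = QuotientGroup.mk (h * D.t y) := by
      rw [D.mk_t, ← smul_eq_mul, ← MulAction.Quotient.smul_mk, D.mk_t]
    obtain ⟨s, hs⟩ := QuotientGroup.eq.1 h1
    exact ⟨s, by rw [hs, mul_assoc]⟩
  choose u hu using hy
  exact ⟨((⟨h, u, hu⟩ : Hat D) : Ext D), rfl⟩

theorem trace_inc (z : Z) (h : hatInc D (j z) ∈ (hatProj D).ker) :
    trace D ⟨hatInc D (j z), h⟩ = z ^ Nat.card (H ⧸ act.range) := by
  rw [trace_apply, Finset.prod_congr rfl (g := fun _ => z) fun y _ => ?_, Finset.prod_const, Finset.card_univ,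
    Nat.card_eq_fintype_card]
  have e : coord D ⟨hatInc D (j z), h⟩ y = (D.rho (D.t y))⁻¹ z := by
    apply D.j_inj; rw [j_coord, hatInc_u, D.c_ker]
  rw [e]
  exact MulEquiv.apply_symm_apply _ z

theorem inc_j_mem_ker (z : Z) : hatInc D (j z) ∈ (hatProj D).ker := by
  have : j z ∈ act.ker := D.j_range ▸ ⟨z, rfl⟩
  exact this

variable (hco : (Nat.card Z).Coprime (Nat.card (H ⧸ act.range)))
include hco

theorem inc_injective : Function.Injective (inc D) := by
  rw [injective_iff_map_eq_one]
  intro s hs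
  obtain ⟨k, hk, hke⟩ := (QuotientGroup.eq_one_iff _).1 hs
  have hact : act s = 1 := by
    have := k.2
    rwa [MonoidHom.mem_ker, show (k : Hat D) = hatInc D s from hke] at this
  obtain ⟨z, rfl⟩ : s ∈ j.range := by rw [D.j_range]; exact hact
  have hk' : k = ⟨hatInc D (j z), inc_j_mem_ker D z⟩ := Subtype.ext hke
  have hz : z ^ Nat.card (H ⧸ act.range) = 1 := by
    rw [← trace_inc D z (inc_j_mem_ker D z), ← hk']; exact hk
  rw [(powCoprime hco).injective (hz.trans (one_pow _).symm), map_one]

theorem ker_proj_le : (proj D).ker ≤ (j.range).map (inc D) := by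
  intro g hg
  obtain ⟨a, rfl⟩ := QuotientGroup.mk_surjective g
  have ha : a ∈ (hatProj D).ker := hg
  obtain ⟨z, hz⟩ := (powCoprime hco).surjective (trace D ⟨a, ha⟩)
  refine ⟨j z, ⟨z, rfl⟩, ?_⟩
  show ((hatInc D (j z) : Hat D) : Ext D) = (a : Ext D)
  rw [QuotientGroup.eq]
  refine ⟨⟨hatInc D (j z), inc_j_mem_ker D z⟩⁻¹ * ⟨a, ha⟩, ?_, rfl⟩
  rw [SetLike.mem_coe, MonoidHom.mem_ker, map_mul, map_inv, trace_inc,
    show z ^ Nat.card (H ⧸ act.range) = trace D ⟨a, ha⟩ from hz, inv_mul_cancel]

theorem range_inc : (inc D).range = act.range.comap (proj D) := by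
  refine le_antisymm ?_ fun g hg => ?_
  · rintro _ ⟨s, rfl⟩; exact ⟨s, (proj_inc D s).symm⟩
  · obtain ⟨s, hs⟩ := hg
    obtain ⟨w, -, hw⟩ := ker_proj_le D hco (show g * (inc D s)⁻¹ ∈ (proj D).ker by
      rw [MonoidHom.mem_ker, map_mul, map_inv, proj_inc, hs, mul_inv_cancel])
    exact ⟨w * s, by rw [map_mul, hw, inv_mul_cancel_right]⟩

end Cfsg.Agent.FusionSys.ModelExt
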