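import Cfsg.Agent.Lib.Fusion.NormalConstrained
import Cfsg.Agent.Lib.Fusion.AlperinStep
import Cfsg.Agent.Lib.Fusion.Subsystem
import Cfsg.Agent.Lib.Transfer.Fusion

/-!
# Normal subsystems of the system of a model come from normal subgroups
-/

set_option autoImplicit false

namespace Cfsg.Agent.FusionSys.ModelNormal

open Cfsg Cfsg.FusionSystem
open scoped Pointwise commutatorElement

section basics

variable {G : Type*} [Group G] [Finite G] {p : ℕ} [hp : Fact p.Prime]

/-- A power of a torsion element of order prime to `p` in the same class as far as coprime parts go. -/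
theorem exists_pPart_exponent (n m : ℕ) (hn : 0 < n) (hmn : m ∣ n) (hm : m.Coprime p) :
    ∃ a e n' : ℕ, n = p ^ a * n' ∧ n'.Coprime p ∧ m ∣ n' ∧ p ^ a ∣ e ∧ e ≡ 1 [MOD n'] := by
  obtain ⟨a, n', hn', hnn⟩ := Nat.exists_eq_pow_mul_and_not_dvd hn.ne' p hp.out.ne_one
  have hco : n'.Coprime p := ((Nat.Prime.coprime_iff_not_dvd hp.out).2 hn').symm
  have hmn' : m ∣ n' := (hm.pow_right a).dvd_of_dvd_mul_left (hnn ▸ hmn)
  obtain ⟨e, he1, he2⟩ := Nat.chineseRemainder (hco.pow_right a).symm 0 1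
  exact ⟨a, e, n', hnn, hco, hmn', (Nat.modEq_zero_iff_dvd.1 he1), he2⟩

theorem eq_one_of_coprime_mem {g : G} {H : Subgroup G} (hH : IsPGroup p H) (hg : g ∈ H)
    (hco : (orderOf g).Coprime p) : g = 1 := by
  obtain ⟨k, hk⟩ := hH ⟨g, hg⟩
  exact orderOf_eq_one_iff.1 (Nat.eq_one_of_dvd_coprimes (hco.pow_right k) dvd_rfl
    (orderOf_dvd_of_pow_eq_one (congrArg Subtype.val hk)))

variable (R Q : Subgroup G) [R.Normal]

/-- The elements centralizing `Q` modulo `R`. -/
def modCent : Subgroup G :=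
  (Subgroup.centralizer ((Q.map (QuotientGroup.mk' R) : Subgroup (G ⧸ R)) : Set (G ⧸ R))).comap
    (QuotientGroup.mk' R)

omit [Finite G] in
theorem mem_modCent {g : G} : g ∈ modCent R Q ↔ ∀ q ∈ Q, q⁻¹ * (g * q * g⁻¹) ∈ R := by
  have key : ∀ q : G, (QuotientGroup.mk' R q * QuotientGroup.mk' R g = QuotientGroup.mk' R g * QuotientGroup.mk' R q ↔
      q⁻¹ * (g * q * g⁻¹) ∈ R) := fun q => by
    rw [← map_mul, ← map_mul, QuotientGroup.mk'_apply, QuotientGroup.mk'_apply, QuotientGroup.eq]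
    constructor
    · intro h
      have := ‹R.Normal›.conj_mem _ h g
      simpa [mul_assoc] using this
    · intro h
      have := ‹R.Normal›.conj_mem _ h g⁻¹
      simpa [mul_assoc] using this
  show QuotientGroup.mk' R g ∈ Subgroup.centralizer _ ↔ _
  rw [Subgroup.mem_centralizer_iff]
  constructor
  · exact fun h q hq => (key q).1 (h _ (Subgroup.mem_map_of_mem _ hq))
  · rintro h _ ⟨q, hq, rfl⟩
    exact (key q).2 (h q hq)

instance modCent_normal [Q.Normal] : (modCent R Q).Normal := by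
  haveI : (Q.map (QuotientGroup.mk' R)).Normal := Subgroup.Normal.map inferInstance _ (QuotientGroup.mk'_surjective R)
  unfold modCent
  infer_instance

end basics

variable {G : Type*} [Group G] [Finite G] {p : ℕ} [hp : Fact p.Prime] (S : Sylow p G)
  {T : Subgroup G} {E : FusionSystem T}

/-- Conjugation by an element inducing an automorphism of `T` preserves `Aut_E(T)`. -/
theorem conj_autGroup {F : FusionSystem (S : Subgroup G)} (hE : E.IsInvariantIn F) {P : Subgroup G} (hPT : P ≤ T)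
    {α : MulAut T} (hα : α ∈ F.autGroup T) (hαP : ∀ x : T, (x : G) ∈ P → ((α x : T) : G) ∈ P)
    {a : MulAut P} (ha : a ∈ E.autGroup P) :
    ∃ b ∈ E.autGroup P, ∀ x : P, ((b ⟨_, hαP ⟨x, hPT x.2⟩ x.2⟩ : P) : G) =
      ((α ⟨(a x : P), hPT (a x).2⟩ : T) : G) := by
  haveI : Finite P := inferInstance
  have himg : (P.subgroupOf T).map (T.subtype.comp α.toMonoidHom) = P := by
    refine Subgroup.eq_of_le_of_card_ge (by rintro _ ⟨x, hx, rfl⟩; exact hαP x hx) (le_of_eq ?_)
    have hi : Function.Injective (T.subtype.comp α.toMonoidHom) := T.subtype_injective.comp α.injective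
    rw [Subgroup.card_map_of_injective hi, Nat.card_congr (Subgroup.subgroupOfEquivOfLe hPT).toEquiv]
  obtain ⟨χ, hχ, hχe⟩ := hE.2.2.1 P hPT _ ((mem_autGroup_iff E hPT a).1 ha) α hα
  have hle : P ≤ (P.subgroupOf T).map (T.subtype.comp α.toMonoidHom) := himg.ge
  have hχ' := restrict_mem E hχ hle
  have hval : ∀ x : P, χ (Subgroup.inclusion hle ⟨_, hαP ⟨x, hPT x.2⟩ x.2⟩) =
      ((α ⟨(a x : P), hPT (a x).2⟩ : T) : G) := fun x => hχe x (hPT (a x).2) (hle (hαP _ x.2))
  have hr : (χ.comp (Subgroup.inclusion hle)).range = P := by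
    refine Subgroup.eq_of_le_of_card_ge ?_ (isConj_card ⟨_, hχ', rfl⟩).le
    rintro _ ⟨y, rfl⟩
    obtain ⟨z, hz, hze⟩ := himg.ge y.2
    have : y = ⟨_, hαP z hz⟩ := Subtype.ext hze.symm
    rw [this]
    exact (hval ⟨z, hz⟩).symm ▸ hαP ⟨(a ⟨z, hz⟩ : P), hPT (a _).2⟩ (a ⟨z, hz⟩).2
  obtain ⟨b, hb, hbe⟩ := exists_autGroup_of_range E hχ' hr
  exact ⟨b, hb, fun x => (hbe _).trans (hval x)⟩

variable (hG : Subgroup.centralizer ((Cfsg.pCore p G : Subgroup G) : Set G) ≤ Cfsg.pCore p G)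
  (hE : E.IsNormalIn (Cfsg.groupFusionSystem (S : Subgroup G)) p)

/-- The subgroup `T ∩ O_p(G)`. -/
def inter (p : ℕ) (T : Subgroup G) : Subgroup G := T ⊓ Cfsg.pCore p G

include S hE in
theorem inter_normal : (inter p T).Normal := by
  haveI := Cfsg.Agent.FiniteGroup.pCore_normal (G := G) p
  have hT := (group_stronglyClosed_iff S).1 hE.1.2.2.2.1
  refine ⟨fun x hx g => ?_⟩
  have h1 := ‹(Cfsg.pCore p G).Normal›.conj_mem x hx.2 g
  exact ⟨hT.2 g x hx.1 (Cfsg.Agent.PBasic.pCore_le_sylow S h1), h1⟩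

include S hG hE in
/-- The main construction. -/
theorem exists_unique_normal : ∃ H : Subgroup G, (∃ hTH : T ≤ H, H.Normal ∧
      (∃ R : Sylow p H, (R : Subgroup H) = T.subgroupOf H) ∧
      ∀ P : Subgroup G, E.Hom P = (Cfsg.fusionSystemOfSubgroup H T hTH).Hom P) ∧
    ∀ H' : Subgroup G, (∃ hTH' : T ≤ H', H'.Normal ∧
      (∃ R : Sylow p H', (R : Subgroup H') = T.subgroupOf H') ∧
      ∀ P : Subgroup G, E.Hom P = (Cfsg.fusionSystemOfSubgroup H' T hTH').Hom P) → H' = H := by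
  classical
  obtain ⟨hEs, hFs, hEinv⟩ := hE.1
  have hT := (group_stronglyClosed_iff S).1 hEinv.2.1
  have hTS : T ≤ (S : Subgroup G) := hT.1
  have hTn : (S : Subgroup G) ≤ Subgroup.normalizer (T : Set G) := stronglyClosed_le_normalizer hEinv.2.1
  have hTp : IsPGroup p T := S.2.to_le hTS
  set Q := Cfsg.pCore p G with hQdef
  haveI hQn : Q.Normal := Cfsg.Agent.FiniteGroup.pCore_normal (G := G) p
  have hQS : Q ≤ (S : Subgroup G) := Cfsg.Agent.PBasic.pCore_le_sylow S
  have hQp : IsPGroup p Q := Cfsg.Agent.FiniteGroup.pCore_isPGroup (G := G) p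
  set R := inter p T with hRdef
  haveI hRn : R.Normal := inter_normal S hE
  have hRT : R ≤ T := inf_le_left
  have hRQ : R ≤ Q := inf_le_right
  set W := modCent R Q with hWdef
  set C := Subgroup.centralizer (R : Set G) with hCdef
  haveI hCn : C.Normal := by rw [hCdef]; infer_instance
  set K := W ⊓ C with hKdef
  haveI hKn : K.Normal := Subgroup.normal_inf_normal W C
  -- the stabilizer of the chain lies in `Q`
  have hKQ : K ≤ Q := by
    refine le_sSup ⟨hKn, fun ⟨k, hk⟩ => ?_⟩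
    obtain ⟨a, m, hm, hkm⟩ := Nat.exists_eq_pow_mul_and_not_dvd (orderOf_pos k).ne' p hp.out.ne_one
    refine ⟨a, Subtype.ext ?_⟩
    set u := k ^ p ^ a
    have hu : u ∈ K := K.pow_mem hk _
    have hco : (orderOf u).Coprime p := by
      rw [orderOf_pow, hkm, Nat.gcd_mul_right_left, Nat.mul_div_cancel_left _ (pow_pos hp.out.pos a)]
      exact ((Nat.Prime.coprime_iff_not_dvd hp.out).2 hm).symm
    refine eq_one_of_coprime_mem hQp (hG (Subgroup.mem_centralizer_iff.2 fun q hq => ?_)) hco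
    set w := q⁻¹ * (u * q * u⁻¹)
    have hwR : w ∈ R := (mem_modCent R Q).1 hu.1 q hq
    have hwu : u * w * u⁻¹ = w := by rw [← Subgroup.mem_centralizer_iff.1 hu.2 w hwR, mul_inv_cancel_right]
    have hn : ∀ n : ℕ, u ^ n * q * (u ^ n)⁻¹ = q * w ^ n := fun n => by
      induction n with
      | zero => simp
      | succ n ih =>
        rw [pow_succ' u, pow_succ']
        calc u * u ^ n * q * (u * u ^ n)⁻¹ = u * (u ^ n * q * (u ^ n)⁻¹) * u⁻¹ := by group
          _ = u * q * u⁻¹ * (u * w * u⁻¹) ^ n := by rw [ih, conj_pow]; group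
          _ = q * (w * w ^ n) := by rw [hwu, ← mul_assoc q, show q * w = u * q * u⁻¹ from mul_inv_cancel_left _ _]
    have h1 := hn (orderOf u)
    rw [pow_orderOf_eq_one, one_mul, inv_one, mul_one, left_eq_mul] at h1
    have hw1 : w = 1 := eq_one_of_coprime_mem hQp (hRQ hwR)
      (Nat.Coprime.coprime_dvd_left (orderOf_dvd_of_pow_eq_one h1) hco)
    have h2 : u * q * u⁻¹ = q := (inv_mul_eq_one.1 hw1).symm
    exact (mul_inv_eq_iff_eq_mul.1 h2).symm
  have hTW : T ≤ W := fun t ht => (mem_modCent R Q).2 fun q hq => by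
    refine ⟨?_, Q.mul_mem (Q.inv_mem hq) (hQn.conj_mem q hq t)⟩
    have h1 := (Subgroup.mem_normalizer_iff.1 (hTn ((S : Subgroup G).inv_mem (hQS hq))) t).1 ht
    simpa [mul_assoc] using T.mul_mem h1 (T.inv_mem ht)
  -- the elements acting on `R` as the subsystem
  set H0 := (E.autGroup R).comap (MulAut.conjNormal : G →* MulAut R) with hH0def
  have hmemH0 : ∀ g : G, g ∈ H0 ↔ ∃ a ∈ E.autGroup R, ∀ r : R, ((a r : R) : G) = g * r * g⁻¹ := fun g => by
    constructor
    · exact fun h => ⟨_, h, fun r => MulAut.conjNormal_apply g r⟩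
    · rintro ⟨a, ha, hae⟩
      rw [hH0def, Subgroup.mem_comap]
      rwa [show MulAut.conjNormal g = a from MulEquiv.ext fun r => Subtype.ext
        ((MulAut.conjNormal_apply g r).trans (hae r).symm)]
  haveI hH0n : H0.Normal := ⟨fun h hh g => by
    have hRS : R ≤ (S : Subgroup G) := hRT.trans hTS
    obtain ⟨α, hα, φ₀, hφ₀, hdec⟩ := hEinv.2.2.2 R hRT (conjHom R g)
      ⟨hRS, fun x => hRS (hRn.conj_mem x x.2 g), g, fun _ => rfl⟩
    have hrange : φ₀.range = R := by
      refine Subgroup.eq_of_le_of_card_ge ?_ (isConj_card ⟨φ₀, hφ₀, rfl⟩).le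
      rintro _ ⟨x, rfl⟩
      obtain ⟨-, -, u, hu⟩ := hEinv.1 R hφ₀
      rw [hu]; exact hRn.conj_mem x x.2 u
    obtain ⟨b₀, hb₀, hb₀e⟩ := exists_autGroup_of_range E hφ₀ hrange
    have hαR : ∀ x : T, (x : G) ∈ R → ((α x : T) : G) ∈ R := by
      intro x hx
      obtain ⟨-, -, u, hu⟩ := (mem_autGroup_iff _ hTS α).1 hα
      rw [show ((α x : T) : G) = u * x * u⁻¹ from hu x]
      exact hRn.conj_mem _ hx u
    obtain ⟨b, hb, hbe⟩ := conj_autGroup S hEinv hRT hα hαR
      (Subgroup.mul_mem _ (Subgroup.mul_mem _ hb₀ hh) (Subgroup.inv_mem _ hb₀))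
    refine (hmemH0 _).2 ⟨b, hb, fun r => ?_⟩
    have hα' : ∀ y : R, ((α ⟨(b₀ y : R), hRT (b₀ y).2⟩ : T) : G) = g * y * g⁻¹ := fun y => by
      rw [← conjHom_apply R g y, hdec y (hom_apply_mem E hφ₀ y)]
      congr 2
      exact Subtype.ext (hb₀e y)
    set y : R := ⟨g⁻¹ * r * g, by simpa using hRn.conj_mem r r.2 g⁻¹⟩ with hy
    have hr : r = ⟨_, hαR ⟨(b₀ y : R), hRT (b₀ y).2⟩ (b₀ y).2⟩ := Subtype.ext (by rw [hα']; simp [hy, mul_assoc])
    conv_lhs => rw [hr, hbe]
    refine Eq.trans ?_ ((hα' ((MulAut.conjNormal h : MulAut R) y)).trans ?_)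
    · congr 2
      refine Subtype.ext ?_
      show (((b₀ * (MulAut.conjNormal h : MulAut R) * b₀⁻¹ : MulAut R) (b₀ y) : R) : G) = _
      simp [MulAut.mul_apply]
    · rw [MulAut.conjNormal_apply, hy]
      group⟩
  have hTH0 : T ≤ H0 := fun t ht => (hmemH0 t).2 (by
    obtain ⟨a, ha, hae⟩ := exists_conjAut (K := T) (P := R) ht (by
      rw [Subgroup.normalizer_eq_top]; exact Subgroup.mem_top _)
    exact ⟨a, autInducedBy_le_autGroup E hRT ha, hae⟩)
  set H1 := H0 ⊓ W with hH1def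
  haveI hH1n : H1.Normal := Subgroup.normal_inf_normal H0 W
  have hTH1 : T ≤ H1 := le_inf hTH0 hTW
  set L := (Cfsg.pResidual p H1).map H1.subtype with hLdef
  have hLle : L ≤ H1 := Subgroup.map_subtype_le _
  have hLmem : ∀ g ∈ H1, (orderOf g).Coprime p → g ∈ L := fun g hg hco =>
    ⟨⟨g, hg⟩, Subgroup.subset_closure (show Nat.Coprime (orderOf (⟨g, hg⟩ : H1)) p by
      rwa [← Subgroup.orderOf_coe]), rfl⟩
  haveI hLn : L.Normal := by
    haveI := Cfsg.Agent.PBasic.pResidual_characteristic p H1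
    rw [hLdef]
    infer_instance
  set H := T ⊔ L with hHdef
  have hTH : T ≤ H := le_sup_left
  have hHH1 : H ≤ H1 := sup_le hTH1 hLle
  have hEautR : IsSyl p (autInducedBy T R) (E.autGroup R) :=
    isSyl_of_fullyAutomized (fullyNormalized_imp hTp hEs (fullyNormalized_of_normal hRT fun t _ => by
      rw [Subgroup.normalizer_eq_top]; exact Subgroup.mem_top _)).2
  -- `S ∩ H1 = T (S ∩ K)`
  have hdec : ∀ x ∈ (S : Subgroup G), x ∈ H1 → ∃ t ∈ T, t⁻¹ * x ∈ K := by
    intro x hxS hx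
    set X : Subgroup (MulAut R) := autInducedBy ((S : Subgroup G) ⊓ H0) R with hX
    have hXE : X ≤ E.autGroup R := fun a ha => by
      obtain ⟨g, hg, hge⟩ := (mem_autInducedBy_iff a).1 ha
      obtain ⟨b, hb, hbe⟩ := (hmemH0 g).1 hg.2
      rwa [show a = b from MulEquiv.ext fun r => Subtype.ext ((hge r).trans (hbe r).symm)]
    obtain ⟨a, ha, hae⟩ := exists_conjAut (K := (S : Subgroup G) ⊓ H0) (P := R) ⟨hxS, hx.1⟩
      (by rw [Subgroup.normalizer_eq_top]; exact Subgroup.mem_top _)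
    rw [← hEautR.eq_of_le (autInducedBy_mono (le_inf hTS hTH0)) hXE
      (autInducedBy_isPGroup (S.2.to_le inf_le_left)), mem_autInducedBy_iff] at ha
    obtain ⟨t, ht, hte⟩ := ha
    refine ⟨t, ht, W.mul_mem (W.inv_mem (hTW ht)) hx.2, Subgroup.mem_centralizer_iff.2 fun r hr => ?_⟩
    have h := (hte ⟨r, hr⟩).symm.trans (hae ⟨r, hr⟩)
    calc r * (t⁻¹ * x) = t⁻¹ * (t * r * t⁻¹) * x := by group
      _ = t⁻¹ * (x * r * x⁻¹) * x := by rw [h]
      _ = t⁻¹ * x * r := by group
  -- `H` is normal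
  have hH1syl : IsSyl p ((S : Subgroup G) ⊓ H1) H1 := isSyl_inf_normal S H1
  have hHnH1 : H1 ≤ Subgroup.normalizer (H : Set G) := by
    have hSn : (S : Subgroup G) ≤ Subgroup.normalizer (H : Set G) := fun s hs => by
      refine mem_normalizer_of_conj_mem_finite fun y hy => ?_
      have h1 : H.map (MulAut.conj s).toMonoidHom ≤ H := by
        rw [hHdef, Subgroup.map_sup]
        refine sup_le_sup ?_ ?_
        · rintro _ ⟨z, hz, rfl⟩
          exact (Subgroup.mem_normalizer_iff.1 (hTn hs) z).1 hz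
        · rintro _ ⟨z, hz, rfl⟩
          exact hLn.conj_mem z hz s
      exact h1 (map_conj_apply_mem hy)
    obtain ⟨P1, hP1⟩ := hH1syl.toSylow
    have htop : (⊤ : Subgroup H1).map H1.subtype ≤ Subgroup.normalizer (H : Set G) := by
      rw [← Cfsg.Agent.PBasic.sylow_sup_pResidual P1, hP1, Subgroup.map_sup]
      refine sup_le ?_ (show L ≤ _ from le_trans le_sup_right Subgroup.le_normalizer)
      rintro _ ⟨z, hz, rfl⟩
      exact hSn hz.1
    intro g hg
    exact htop ⟨⟨g, hg⟩, Subgroup.mem_top _, rfl⟩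
  haveI hHn : H.Normal := by
    refine ⟨fun y hy g => ?_⟩
    have h1 : H.map (MulAut.conj g).toMonoidHom ≤ H := by
      rw [hHdef, Subgroup.map_sup]
      refine sup_le ?_ ?_
      · have hX1 : T.map (MulAut.conj g).toMonoidHom ≤ H1 := by
          rintro _ ⟨z, hz, rfl⟩
          exact hH1n.conj_mem z (hTH1 hz) g
        obtain ⟨b, hb, hbS⟩ := hH1syl.exists_conj (hTp.map _) hX1
        rintro _ ⟨z, hz, rfl⟩
        show g * z * g⁻¹ ∈ H
        have h2 := (hbS (map_conj_apply_mem (map_conj_apply_mem hz))).1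
        have h3 : b * (g * z * g⁻¹) * b⁻¹ ∈ T := by
          have := hT.2 (b * g) z hz (by show b * g * z * (b * g)⁻¹ ∈ (S : Subgroup G); rw [show b * g * z * (b * g)⁻¹ = b * (g * z * g⁻¹) * b⁻¹ by group]; exact h2)
          simpa [mul_assoc] using this
        exact (Subgroup.mem_normalizer_iff.1 (hHnH1 hb) _).2 (hTH h3)
      · rintro _ ⟨z, hz, rfl⟩
        exact Subgroup.mem_sup_right (hLn.conj_mem z hz g)
    exact h1 (map_conj_apply_mem hy)
  -- `S ∩ H = T`
  have hSL : (S : Subgroup G) ⊓ L ≤ T := by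
    obtain ⟨PL, hPL⟩ := (isSyl_inf_normal S L).toSylow
    have hLtop : Cfsg.pResidual p L = ⊤ := by
      refine eq_top_iff.2 ((Subgroup.map_le_map_iff_of_injective L.subtype_injective).1 ?_)
      rw [← MonoidHom.range_eq_map, Subgroup.range_subtype]
      conv_lhs => rw [hLdef, Cfsg.pResidual, MonoidHom.map_closure]
      refine (Subgroup.closure_le _).2 ?_
      rintro _ ⟨g, hg, rfl⟩
      have hgL : (g : G) ∈ L := ⟨g, Subgroup.subset_closure hg, rfl⟩
      exact ⟨⟨g, hgL⟩, Subgroup.subset_closure (show Nat.Coprime (orderOf (⟨(g : G), hgL⟩ : L)) p by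
        rw [← Subgroup.orderOf_coe]; show Nat.Coprime (orderOf (g : G)) p; rw [Subgroup.orderOf_coe]; exact hg), rfl⟩
    intro x hx
    have hxPL : (⟨x, hx.2⟩ : L) ∈ (PL : Subgroup L) := by rw [hPL]; exact hx
    have hfoc : (⟨x, hx.2⟩ : L) ∈ commutator L ⊓ (PL : Subgroup L) :=
      ⟨Cfsg.Agent.Fusion.sylow_le_commutator hLtop PL hxPL, hxPL⟩
    rw [Subgroup.commutator_inf_eq_focalSubgroup, Subgroup.focalSubgroup_def] at hfoc
    refine (Subgroup.closure_le (T.comap L.subtype)).2 ?_ hfoc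
    rintro z ⟨hz, y, hy, v, rfl⟩
    show ((⁅y, v⁆ : L) : G) ∈ T
    rw [hPL] at hy hz
    have hyS : (y : G) ∈ (S : Subgroup G) := hy.1
    have hzS : ((⁅y, v⁆ : L) : G) ∈ (S : Subgroup G) := hz.1
    set u : G := (v : G) with hudef
    set x' : G := (y : G)⁻¹ with hx'
    have hzu : ((⁅y, v⁆ : L) : G) = x'⁻¹ * (u * x' * u⁻¹) := by
      simp [hx', hudef, commutatorElement_def, mul_assoc]
    rw [hzu] at hzS ⊢
    have hx'S : x' ∈ (S : Subgroup G) := (S : Subgroup G).inv_mem hyS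
    obtain ⟨t, ht, hk⟩ := hdec x' hx'S (H1.inv_mem (hLle y.2))
    set k := t⁻¹ * x' with hkdef
    have hkQ := hKQ hk
    have huH1 : u ∈ H1 := hLle v.2
    have h1 : k⁻¹ * (u * k * u⁻¹) ∈ T := hRT ((mem_modCent R Q).1 huH1.2 k hkQ)
    have h2 : u * t * u⁻¹ ∈ T := hT.2 u t ht (by
      have h3 := (S : Subgroup G).mul_mem ((S : Subgroup G).mul_mem hx'S hzS)
        ((S : Subgroup G).inv_mem (hQS (hQn.conj_mem k hkQ u)))
      convert h3 using 1
      rw [hkdef]; group)
    have h4 : k⁻¹ * (t⁻¹ * (u * t * u⁻¹)) * k ∈ T := by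
      simpa using (Subgroup.mem_normalizer_iff.1 (hTn ((S : Subgroup G).inv_mem (hQS hkQ))) _).1
        (T.mul_mem (T.inv_mem ht) h2)
    convert T.mul_mem h4 h1 using 1
    rw [hkdef]; group
  have hSH : (S : Subgroup G) ⊓ H = T := by
    refine le_antisymm (fun x hx => ?_) (le_inf hTS hTH)
    have hx2 : x ∈ ((T : Set G) * (L : Set G)) := by
      rw [← Subgroup.mul_normal T L]
      exact hx.2
    obtain ⟨t, ht, l, hl, rfl⟩ := hx2
    exact T.mul_mem ht (hSL ⟨by have h1 := (S : Subgroup G).mul_mem ((S : Subgroup G).inv_mem (hTS ht)) hx.1; rwa [inv_mul_cancel_left] at h1, hl⟩)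
  have hsylH : IsSyl p T H := hSH ▸ isSyl_inf_normal S H
  -- automorphisms of `T`
  have hautT : ∀ α ∈ E.autGroup T, ∃ h ∈ H, ∀ x : T, ((α x : T) : G) = h * x * h⁻¹ := by
    have hsylT : IsSyl p (autInducedBy T T) (E.autGroup T) :=
      isSyl_of_fullyAutomized (fullyNormalized_imp hTp hEs (fullyNormalized_top E)).2
    have hInn : ∀ a ∈ E.autGroup T, ∀ n : ℕ, a ^ p ^ n = 1 → a ∈ autInducedBy T T := by
      intro a ha n hn
      have hn' : IsPGroup p (Subgroup.zpowers a) := fun ⟨z, hz⟩ => by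
        obtain ⟨i, rfl⟩ := hz
        refine ⟨n, Subtype.ext ?_⟩
        show (a ^ i) ^ p ^ n = 1
        rw [← zpow_natCast, ← zpow_mul, mul_comm, zpow_mul, zpow_natCast, hn, one_zpow]
      obtain ⟨b, hb, hle⟩ := hsylT.exists_conj hn' (Subgroup.zpowers_le.2 ha)
      have h1 := hle (map_conj_apply_mem (Subgroup.mem_zpowers a))
      rw [← inn_eq_autInducedBy_self] at h1 ⊢
      simpa [mul_assoc] using (innNormal T).conj_mem _ h1 b⁻¹
    -- automorphisms of order prime to `p`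
    have hcop : ∀ a ∈ E.autGroup T, (orderOf a).Coprime p → ∃ h ∈ H, ∀ x : T, ((a x : T) : G) = h * x * h⁻¹ := by
      intro a ha hco
      obtain ⟨β, hβ, hβT, hβC⟩ := hE.2 a ha
      set V := T ⊔ centralizerIn (S : Subgroup G) T with hV
      rw [group_autGroup S (sup_le hTS (centralizerIn_le _ _)), mem_autInducedBy_iff] at hβ
      obtain ⟨g', -, hg'⟩ := hβ
      have hg'T : ∀ x : T, ((a x : T) : G) = g' * x * g'⁻¹ := fun x => (hβT x).symm.trans (hg' _)
      have hpow : ∀ (n : ℕ) (x : T), (((a ^ n) x : T) : G) = g' ^ n * x * (g' ^ n)⁻¹ := fun n => by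
        induction n with
        | zero => intro x; simp
        | succ n ih =>
          intro x
          rw [pow_succ', MulAut.mul_apply, hg'T, ih, pow_succ']
          group
      have hdvd : orderOf a ∣ orderOf g' := orderOf_dvd_of_pow_eq_one (MulEquiv.ext fun x => Subtype.ext (by
        rw [hpow, pow_orderOf_eq_one]; simp))
      obtain ⟨i, e, n', hn, hn', hmn, hie, he⟩ := exists_pPart_exponent (p := p) _ _ (orderOf_pos g') hdvd hco
      set g := g' ^ e with hgdef
      have hgco : (orderOf g).Coprime p := by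
        refine Nat.Coprime.coprime_dvd_left (orderOf_dvd_of_pow_eq_one (n := n') ?_) hn'
        rw [hgdef, ← pow_mul]
        obtain ⟨c, rfl⟩ := hie
        rw [show p ^ i * c * n' = p ^ i * n' * c by ring, ← hn, pow_mul, pow_orderOf_eq_one, one_pow]
      have hae : a ^ e = a := by
        conv_rhs => rw [← pow_one a]
        exact pow_eq_pow_iff_modEq.2 (he.of_dvd hmn)
      have hgT : ∀ x : T, ((a x : T) : G) = g * x * g⁻¹ := fun x => by
        conv_lhs => rw [← hae]
        exact hpow e x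
      have hgC : ∀ c ∈ centralizerIn (S : Subgroup G) T, c⁻¹ * (g * c * g⁻¹) ∈ T := by
        intro c hc
        have h0 : ∀ n : ℕ, c⁻¹ * (g' ^ n * c * (g' ^ n)⁻¹) ∈ T := fun n => by
          induction n with
          | zero => simp
          | succ n ih =>
            have h1 := hβC ⟨c, Subgroup.mem_sup_right hc⟩ hc
            rw [hg'] at h1
            have h2 : g' * (c⁻¹ * (g' ^ n * c * (g' ^ n)⁻¹)) * g'⁻¹ ∈ T := by
              rw [← hg'T ⟨_, ih⟩]; exact Subtype.prop _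
            convert T.mul_mem h1.1 h2 using 1
            rw [pow_succ']; group
        exact h0 e
      have hgH0 : g ∈ H0 := (hmemH0 g).2 (by
        have hr : ∀ r : R, ((a ⟨r, hRT r.2⟩ : T) : G) ∈ R := fun r => by
          rw [hgT]; exact hRn.conj_mem r r.2 g
        let φ : R →* G := (T.subtype.comp a.toMonoidHom).comp (Subgroup.inclusion hRT)
        have hφ : φ ∈ E.Hom R := restrict_mem E ((mem_autGroup_iff E le_rfl a).1 ha) hRT
        have hφr : φ.range = R := Subgroup.eq_of_le_of_card_ge (by rintro _ ⟨r, rfl⟩; exact hr r)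
          (isConj_card ⟨φ, hφ, rfl⟩).le
        obtain ⟨b, hb, hbe⟩ := exists_autGroup_of_range E hφ hφr
        exact ⟨b, hb, fun r => (hbe r).trans (hgT ⟨r, hRT r.2⟩)⟩)
      have hgW : g ∈ W := (mem_modCent R Q).2 fun q hq => by
        have hstepB : ∀ x ∈ Q, x ∈ V → x⁻¹ * (g * x * g⁻¹) ∈ R := fun x hx hxV => by
          refine ⟨?_, Q.mul_mem (Q.inv_mem hx) (hQn.conj_mem x hx g)⟩
          have hCn' : T ≤ Subgroup.normalizer (centralizerIn (S : Subgroup G) T : Set G) :=
            (le_inf hTS (Subgroup.le_normalizer : T ≤ _)).trans (centralizerIn_normal _ T)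
          rw [hV, ← SetLike.mem_coe, Subgroup.coe_mul_of_left_le_normalizer_right T _ hCn'] at hxV
          obtain ⟨t, ht, c, hc, rfl⟩ := hxV
          have h1 : t⁻¹ * (g * t * g⁻¹) ∈ T := T.mul_mem (T.inv_mem ht) (by
            have := (a ⟨t, ht⟩).2; rwa [hgT] at this)
          have h2 := (Subgroup.mem_normalizer_iff.1 (hTn ((S : Subgroup G).inv_mem hc.1)) _).1 h1
          show _ ∈ T
          convert T.mul_mem h2 (hgC c hc) using 1
          group
        set d := q⁻¹ * (g * q * g⁻¹) with hd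
        have hdQ : d ∈ Q := Q.mul_mem (Q.inv_mem hq) (hQn.conj_mem q hq g)
        have hdV : d ∈ V := by
          have hqn := hTn (hQS hq)
          obtain ⟨aq, haq, haqe⟩ := exists_conjAut (K := (⊤ : Subgroup G)) (P := T) (Subgroup.mem_top q⁻¹)
            (Subgroup.inv_mem _ hqn)
          have haqF : aq ∈ (groupFusionSystem (S : Subgroup G)).autGroup T := by rw [group_autGroup S hTS]; exact haq
          obtain ⟨b, hb, hbe⟩ := conj_autGroup S hEinv le_rfl haqF (fun x _ => (aq x).2) ha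
          obtain ⟨dA, hdA, hdAe⟩ := exists_conjAut (K := (S : Subgroup G)) (P := T) (hQS hdQ) (hTn (hQS hdQ))
          have hdE : dA ∈ E.autGroup T := by
            have heq : dA = b * a⁻¹ := MulEquiv.ext fun x => Subtype.ext (by
              obtain ⟨z, rfl⟩ := a.surjective x
              rw [MulAut.mul_apply, show a⁻¹ (a z) = z from a.symm_apply_apply z, hdAe, hgT]
              obtain ⟨w, rfl⟩ := aq.surjective z
              refine Eq.trans ?_ ((hbe w).trans (haqe _)).symm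
              rw [hgT, haqe, hd]
              group)
            rw [heq]; exact Subgroup.mul_mem _ hb (Subgroup.inv_mem _ ha)
          obtain ⟨n, hn⟩ := (autInducedBy_isPGroup (P := T) S.2) ⟨dA, hdA⟩
          obtain ⟨t, ht, hte⟩ := (mem_autInducedBy_iff dA).1 (hInn dA hdE n (congrArg Subtype.val hn))
          have hc : t⁻¹ * d ∈ centralizerIn (S : Subgroup G) T :=
            ⟨(S : Subgroup G).mul_mem ((S : Subgroup G).inv_mem (hTS ht)) (hQS hdQ),
              Subgroup.mem_centralizer_iff.2 fun x hx => by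
                have h := (hte ⟨x, hx⟩).symm.trans (hdAe ⟨x, hx⟩)
                calc x * (t⁻¹ * d) = t⁻¹ * (t * x * t⁻¹) * d := by group
                  _ = t⁻¹ * (d * x * d⁻¹) * d := by rw [h]
                  _ = t⁻¹ * d * x := by group⟩
          have := V.mul_mem (Subgroup.mem_sup_left (T := centralizerIn (S : Subgroup G) T) ht) (Subgroup.mem_sup_right hc)
          rwa [mul_inv_cancel_left] at this
        -- in the quotient by `R`
        set f := QuotientGroup.mk' R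
        have hfix : f g * f d * (f g)⁻¹ = f d := by
          rw [← map_inv, ← map_mul, ← map_mul, QuotientGroup.mk'_apply, QuotientGroup.mk'_apply, eq_comm,
            QuotientGroup.eq]
          exact hstepB d hdQ hdV
        have hn : ∀ n : ℕ, f g ^ n * f q * (f g ^ n)⁻¹ = f q * f d ^ n := fun n => by
          induction n with
          | zero => simp
          | succ n ih =>
            rw [pow_succ' (f g), pow_succ' (f d)]
            calc f g * f g ^ n * f q * (f g * f g ^ n)⁻¹ = f g * (f g ^ n * f q * (f g ^ n)⁻¹) * (f g)⁻¹ := by group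
              _ = f g * f q * (f g)⁻¹ * (f g * f d * (f g)⁻¹) ^ n := by rw [ih, conj_pow]; group
              _ = f q * (f d * f d ^ n) := by rw [hfix, hd]; simp [mul_assoc]
        have h1 := hn (orderOf g)
        rw [← map_pow f g, pow_orderOf_eq_one, map_one, one_mul, inv_one, mul_one, left_eq_mul] at h1
        have hd1 : f d = 1 := eq_one_of_coprime_mem (hQp.map f) (Subgroup.mem_map_of_mem f hdQ)
          (Nat.Coprime.coprime_dvd_left (orderOf_dvd_of_pow_eq_one h1) hgco)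
        exact (QuotientGroup.eq_one_iff _).1 hd1
      exact ⟨g, Subgroup.mem_sup_right (hLmem g ⟨hgH0, hgW⟩ hgco), hgT⟩
    intro α hα
    obtain ⟨i, m, hm, him⟩ := Nat.exists_eq_pow_mul_and_not_dvd (orderOf_pos α).ne' p hp.out.ne_one
    have hco : m.Coprime p := ((Nat.Prime.coprime_iff_not_dvd hp.out).2 hm).symm
    obtain ⟨e, he1, he2⟩ := Nat.chineseRemainder (hco.pow_right i).symm 0 1
    obtain ⟨c, hc⟩ := Nat.modEq_zero_iff_dvd.1 he1
    have hα1 : (orderOf (α ^ e)).Coprime p :=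
      Nat.Coprime.coprime_dvd_left (orderOf_dvd_of_pow_eq_one (n := m) (by
        rw [← pow_mul, hc, show p ^ i * c * m = p ^ i * m * c by ring, ← him, pow_mul, pow_orderOf_eq_one,
          one_pow])) hco
    obtain ⟨h, hh, hhe⟩ := hcop _ (Subgroup.pow_mem _ hα _) hα1
    have hpp : ((α ^ e)⁻¹ * α) ^ p ^ i = 1 := by
      rw [(((Commute.refl α).pow_left e).inv_left).mul_pow, inv_pow, ← pow_mul, inv_mul_eq_one,
        pow_eq_pow_iff_modEq, him]
      have := Nat.ModEq.mul_right' (p ^ i) he2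
      rwa [one_mul, mul_comm m] at this
    obtain ⟨t, ht, hte⟩ := (mem_autInducedBy_iff _).1 (hInn _
      (Subgroup.mul_mem _ (Subgroup.inv_mem _ (Subgroup.pow_mem _ hα _)) hα) i hpp)
    refine ⟨h * t, H.mul_mem hh (hTH ht), fun x => ?_⟩
    have h1 : α x = (α ^ e) (((α ^ e)⁻¹ * α) x) := by rw [← MulAut.mul_apply, mul_inv_cancel_left]
    rw [h1, hhe, hte]
    group
  -- the subsystem is contained in that of `H`
  set EH := Cfsg.fusionSystemOfSubgroup H T hTH with hEH
  have hle : E ≤ EH := by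
    refine alperin_step hTp hEs fun P hP hbig α hα => ?_
    rcases hP with rfl | hess
    · obtain ⟨h, hh, hhe⟩ := hautT α hα
      rw [hEH, ofSubgroup_autGroup _ le_rfl, mem_autInducedBy_iff]
      exact ⟨h, hh, hhe⟩
    have hPT : P ≤ T := hess.1.1
    rw [hEH, ofSubgroup_autGroup _ hPT]
    have hA := isSyl_of_fullyAutomized (fullyNormalized_imp hTp hEs hess.2.1).2
    have hTP : autInducedBy T P ≤ E.autGroup P := hA.1
    set M := autInducedBy H P ⊓ E.autGroup P
    have hMn : E.autGroup P ≤ Subgroup.normalizer (M : Set (MulAut P)) := fun b hb => by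
      obtain ⟨-, -, u, hu⟩ := hEinv.1 P ((mem_autGroup_iff E hPT b).1 hb)
      refine mem_normalizer_of_conj_mem_finite fun c hc => ⟨?_, Subgroup.mul_mem _ (Subgroup.mul_mem _ hb hc.2) (Subgroup.inv_mem _ hb)⟩
      obtain ⟨n, hn, hne⟩ := (mem_autInducedBy_iff c).1 hc.1
      refine (mem_autInducedBy_iff _).2 ⟨u * n * u⁻¹, hHn.conj_mem n hn u, fun y => ?_⟩
      obtain ⟨z, rfl⟩ := b.surjective y
      show ((b (c (b⁻¹ (b z))) : P) : G) = _
      rw [show b⁻¹ (b z) = z from b.symm_apply_apply z,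
        show ((b (c z) : P) : G) = u * (c z : P) * u⁻¹ from hu _, show ((b z : P) : G) = u * z * u⁻¹ from hu z, hne]
      group
    have hAM : autInducedBy T P ≤ M := le_inf (autInducedBy_mono hTH) hTP
    have hsylM : IsSyl p (autInducedBy T P) M := by
      have := hA.inf_normal inf_le_right hMn
      rwa [inf_eq_left.2 hAM] at this
    obtain ⟨c, hc, hcT⟩ := hsylM.exists_conj (hA.2.1.map (MulAut.conj α).toMonoidHom) (by
      rintro _ ⟨d, hd, rfl⟩
      exact (Subgroup.mem_normalizer_iff.1 (hMn hα) d).1 (hAM hd))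
    set β := c * α with hβdef
    have hβE : β ∈ E.autGroup P := Subgroup.mul_mem _ hc.2 hα
    have hφ := (mem_autGroup_iff E hPT β).1 hβE
    have hNle : normalizerIn T P ≤ extender T P (P.subtype.comp β.toMonoidHom) := fun t ht => by
      refine Subgroup.subset_closure ⟨ht.1, ht.2, ?_⟩
      obtain ⟨tA, htA, htAe⟩ := exists_conjAut (K := T) (P := P) ht.1 ht.2
      have h1 := hcT (map_conj_apply_mem (map_conj_apply_mem htA))
      obtain ⟨s, hs, hse⟩ := (mem_autInducedBy_iff _).1 h1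
      refine ⟨s, hs, fun x hx => ?_⟩
      have h2 := hse (β x)
      rw [show c * (α * tA * α⁻¹) * c⁻¹ = β * tA * β⁻¹ by rw [hβdef]; group] at h2
      simp only [MulAut.mul_apply, show β⁻¹ (β x) = x from β.symm_apply_apply x] at h2
      refine Eq.trans ?_ h2
      show ((β ⟨_, hx⟩ : P) : G) = _
      congr 2
      exact Subtype.ext (htAe x).symm
    obtain ⟨ψ, hψ, hψe⟩ := (fullyNormalized_receptive hTp hEs hess.2.1).2 P _ hφ (by
      ext y
      constructor
      · rintro ⟨x, rfl⟩; exact (β x).2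
      · intro hy
        exact ⟨β⁻¹ ⟨y, hy⟩, congrArg Subtype.val (β.apply_symm_apply ⟨y, hy⟩)⟩)
    have hPlt : P < T := essential_lt hTp hEs hess
    obtain ⟨-, -, h, hh, hhe⟩ := hbig _ _ (restrict_mem E hψ hNle) (Set.Finite.card_lt_card (Set.toFinite _) (SetLike.coe_ssubset_coe.2 (lt_normalizerIn hTp hPlt)))
    have hβH : β ∈ autInducedBy H P := (mem_autInducedBy_iff _).2 ⟨h, hh, fun x =>
      ((hψe x x.2 (hNle (le_normalizerIn hPT x.2))).symm.trans
        (hhe ⟨x, le_normalizerIn hPT x.2⟩))⟩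
    have := Subgroup.mul_mem _ (Subgroup.inv_mem _ hc.1) hβH
    rwa [hβdef, inv_mul_cancel_left] at this
  -- and contains it
  have hge : ∀ (P : Subgroup G), EH.Hom P ⊆ E.Hom P := by
    rintro P φ ⟨hPT, hφT, h, hh, hhe⟩
    obtain ⟨a, ha, hae⟩ := (hmemH0 h).1 (hHH1 hh).1
    have hRfn : E.IsFullyNormalized R := fullyNormalized_of_normal hRT fun t _ => by
      rw [Subgroup.normalizer_eq_top]; exact Subgroup.mem_top _
    obtain ⟨ψ, hψ, hψe⟩ := (fullyNormalized_receptive hTp hEs hRfn).2 R _ ((mem_autGroup_iff E hRT a).1 ha) (by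
      ext y
      constructor
      · rintro ⟨x, rfl⟩; exact (a x).2
      · intro hy
        exact ⟨a⁻¹ ⟨y, hy⟩, congrArg Subtype.val (a.apply_symm_apply ⟨y, hy⟩)⟩)
    set N := extender T R (R.subtype.comp a.toMonoidHom)
    have hext : ∀ x ∈ T, h * x * h⁻¹ ∈ T → x ∈ N := fun x hx hhx => Subgroup.subset_closure ⟨hx,
      by rw [Subgroup.normalizer_eq_top]; exact Subgroup.mem_top _, h * x * h⁻¹, hhx, fun r hr => by
        show ((a ⟨_, hr⟩ : R) : G) = h * x * h⁻¹ * ((a r : R) : G) * (h * x * h⁻¹)⁻¹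
        rw [hae, hae]; group⟩
    obtain ⟨-, hψT, m, hm, hme⟩ := hle N hψ
    set z := m⁻¹ * h with hz
    have hzK : z ∈ K := ⟨W.mul_mem (W.inv_mem (hHH1 hm).2) (hHH1 hh).2, Subgroup.mem_centralizer_iff.2 fun r hr => by
      have hrN : r ∈ N := hext r (hRT hr) (hRT (hRn.conj_mem r hr h))
      have h1 : m * r * m⁻¹ = h * r * h⁻¹ :=
        ((hme ⟨r, hrN⟩).symm.trans (hψe r hr hrN)).trans (hae ⟨r, hr⟩)
      calc r * (m⁻¹ * h) = m⁻¹ * (m * r * m⁻¹) * h := by group
        _ = m⁻¹ * (h * r * h⁻¹) * h := by rw [h1]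
        _ = m⁻¹ * h * r := by group⟩
    have hzT : z ∈ T := hSH.le ⟨hQS (hKQ hzK), H.mul_mem (H.inv_mem hm) hh⟩
    have hzN : ∀ x : P, z * (x : G) * z⁻¹ ∈ N := fun x => by
      have hxT : z * (x : G) * z⁻¹ ∈ T := T.mul_mem (T.mul_mem hzT (hPT x.2)) (T.inv_mem hzT)
      have hzx : h * z * h⁻¹ ∈ T := by
        refine hT.2 h z hzT (hQS ?_)
        exact hQn.conj_mem z (hKQ hzK) h
      refine hext _ hxT ?_
      have h1 := hφT x
      rw [hhe] at h1
      convert T.mul_mem (T.mul_mem hzx h1) (T.inv_mem hzx) using 1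
      group
    obtain ⟨χ, hχ, hχe⟩ := comp_hom_mem E (E.conj_mem hPT hzT) hψ hzN
    refine hom_congr E hχ fun x => ?_
    rw [hχe, hme, hhe]
    show h * (x : G) * h⁻¹ = m * (z * (x : G) * z⁻¹) * m⁻¹
    rw [hz]; group
  have hEeq : ∀ P : Subgroup G, E.Hom P = EH.Hom P := fun P => Set.Subset.antisymm (hle P) (hge P)
  refine ⟨H, ⟨hTH, hHn, hsylH.toSylow, hEeq⟩, ?_⟩
  -- uniqueness
  rintro H' ⟨hTH', hH'n, ⟨R', hR'⟩, hH'eq⟩
  have hsylH' := isSyl_of_sylow hTH' R' hR'
  have hSH' : (S : Subgroup G) ⊓ H' = T :=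
    (hsylH'.eq_of_le (le_inf hTS hTH') inf_le_right (S.2.to_le inf_le_left)).symm
  have hact : ∀ a ∈ E.autGroup R, ∃ h ∈ H', ∀ r : R, ((a r : R) : G) = h * r * h⁻¹ := fun a ha => by
    have h1 := (mem_autGroup_iff E hRT a).1 ha
    rw [hH'eq] at h1
    obtain ⟨-, -, h, hh, hhe⟩ := h1
    exact ⟨h, hh, hhe⟩
  have hH'H1 : H' ≤ H1 := fun h hh => ⟨(hmemH0 h).2 (by
      let φ : R →* G := conjHom R h
      have hφ : φ ∈ E.Hom R := by
        rw [hH'eq]
        exact ⟨hRT, fun r => hRT (hRn.conj_mem r r.2 h), h, hh, fun _ => rfl⟩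
      obtain ⟨b, hb, hbe⟩ := exists_autGroup_of_range E hφ (Subgroup.eq_of_le_of_card_ge
        (by rintro _ ⟨r, rfl⟩; exact hRn.conj_mem r r.2 h) (isConj_card ⟨φ, hφ, rfl⟩).le)
      exact ⟨b, hb, hbe⟩),
    (mem_modCent R Q).2 fun q hq => by
      refine ⟨hSH'.le ⟨hQS (Q.mul_mem (Q.inv_mem hq) (hQn.conj_mem q hq h)), ?_⟩, Q.mul_mem (Q.inv_mem hq) (hQn.conj_mem q hq h)⟩
      show _ ∈ H'
      convert H'.mul_mem (hH'n.conj_mem h hh q⁻¹) (H'.inv_mem hh) using 1
      group⟩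
  have hsplit : ∀ x ∈ H1, ∃ h ∈ H', h⁻¹ * x ∈ K := fun x hx => by
    obtain ⟨a, ha, hae⟩ := (hmemH0 x).1 hx.1
    obtain ⟨h, hh, hhe⟩ := hact a ha
    refine ⟨h, hh, W.mul_mem (W.inv_mem (hH'H1 hh).2) hx.2, Subgroup.mem_centralizer_iff.2 fun r hr => ?_⟩
    have h1 := (hhe ⟨r, hr⟩).symm.trans (hae ⟨r, hr⟩)
    calc r * (h⁻¹ * x) = h⁻¹ * (h * r * h⁻¹) * x := by group
      _ = h⁻¹ * (x * r * x⁻¹) * x := by rw [h1]
      _ = h⁻¹ * x * r := by group
  have hLH' : L ≤ H' := by
    haveI := hH'n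
    rw [hLdef, Cfsg.pResidual, MonoidHom.map_closure]
    refine (Subgroup.closure_le _).2 ?_
    rintro _ ⟨x, hx, rfl⟩
    obtain ⟨h, hh, hk⟩ := hsplit x x.2
    refine (QuotientGroup.eq_one_iff (x : G)).1 (eq_one_of_coprime_mem ((hQp.to_le hKQ).map (QuotientGroup.mk' H'))
      ⟨_, hk, ?_⟩ (Nat.Coprime.coprime_dvd_left ((orderOf_map_dvd (QuotientGroup.mk' H') (x : G)).trans
        (dvd_of_eq (Subgroup.orderOf_coe x))) hx))
    show QuotientGroup.mk' H' (h⁻¹ * x) = QuotientGroup.mk' H' x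
    rw [map_mul, map_inv, (QuotientGroup.eq_one_iff h).2 hh |> fun e => (show QuotientGroup.mk' H' h = 1 from e),
      inv_one, one_mul]
  refine le_antisymm (fun y hy => ?_) (sup_le hTH' hLH')
  obtain ⟨h, hh, hk⟩ : ∃ h ∈ H, h⁻¹ * y ∈ K := by
    obtain ⟨a, ha, hae⟩ := (hmemH0 y).1 (hH'H1 hy).1
    have h1 := hle R ((mem_autGroup_iff E hRT a).1 ha)
    obtain ⟨-, -, h, hh, hhe⟩ := h1
    refine ⟨h, hh, W.mul_mem (W.inv_mem (hHH1 hh).2) (hH'H1 hy).2, Subgroup.mem_centralizer_iff.2 fun r hr => ?_⟩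
    have h2 := (hhe ⟨r, hr⟩).symm.trans (hae ⟨r, hr⟩)
    calc r * (h⁻¹ * y) = h⁻¹ * (h * r * h⁻¹) * y := by group
      _ = h⁻¹ * (y * r * y⁻¹) * y := by rw [h2]
      _ = h⁻¹ * y * r := by group
  have hHH' : H ≤ H' := sup_le hTH' hLH'
  have hT' : h⁻¹ * y ∈ T := hSH'.le ⟨hQS (hKQ hk), H'.mul_mem (H'.inv_mem (hHH' hh)) hy⟩
  simpa using H.mul_mem hh (hTH hT')

end Cfsg.Agent.FusionSys.ModelNormal
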