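import Cfsg.Agent.Lib.Fusion.ModelFacts
import Mathlib.GroupTheory.Sylow

/-!
# Saturated systems without a chain of strongly closed subgroups with cyclic steps

If a group with Sylow 2-subgroup isomorphic to `S` has 2-elements `i`, `j` generating a four-group or quaternion
group, cyclically permuted with `i * j` by an element, then some saturated system over `S` has no such chain.
-/

set_option autoImplicit false

namespace Cfsg.Agent.NonSS

open Cfsg Cfsg.FusionSystem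

variable {Ω : Type*} [Group Ω] {S : Subgroup Ω} {G : Type*} [Group G]

/-- The system induced on `S` by an injective map to a group. -/
def realized (κ : S →* G) (hκ : Function.Injective κ) : FusionSystem S where
  Hom P := {φ | ∃ hP : P ≤ S, ∃ hφ : ∀ x : P, φ x ∈ S, ∃ g : G,
    ∀ x : P, κ ⟨φ x, hφ x⟩ = g * κ ⟨x, hP x.2⟩ * g⁻¹}
  le_of_mem := fun ⟨hP, hφ, _⟩ => ⟨hP, hφ⟩
  injective_of_mem := by
    rintro P φ ⟨hP, hφ, g, hg⟩ a b hab
    have h1 : κ ⟨φ a, hφ a⟩ = κ ⟨φ b, hφ b⟩ := congrArg κ (Subtype.ext hab)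
    rw [hg, hg] at h1
    have h3 : (⟨a, hP a.2⟩ : S) = ⟨b, hP b.2⟩ := hκ (mul_left_cancel (mul_right_cancel h1))
    have h2 : (a : Ω) = b := congrArg (fun z : S => (z : Ω)) h3
    exact Subtype.ext h2
  conj_mem := by
    intro P g hP hg
    refine ⟨hP, fun x => S.mul_mem (S.mul_mem hg (hP x.2)) (S.inv_mem hg), κ ⟨g, hg⟩, fun x => ?_⟩
    rw [← map_inv, ← map_mul, ← map_mul]
    rfl
  comp_mem := by
    rintro P Q φ ψ ⟨hP, hφ, g, hg⟩ ⟨hQ, hψ, k, hk⟩ h
    refine ⟨hP, fun x => hψ _, k * g, fun x => ?_⟩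
    rw [mul_inv_rev, show k * g * κ ⟨x, hP x.2⟩ * (g⁻¹ * k⁻¹) = k * (g * κ ⟨x, hP x.2⟩ * g⁻¹) * k⁻¹ by group, ← hg]
    exact hk _
  inv_mem := by
    rintro P φ ⟨hP, hφ, g, hg⟩
    have hinj : Function.Injective φ := fun a b hab => by
      have h1 : κ ⟨φ a, hφ a⟩ = κ ⟨φ b, hφ b⟩ := congrArg κ (Subtype.ext hab)
      rw [hg, hg] at h1
      have h3 : (⟨a, hP a.2⟩ : S) = ⟨b, hP b.2⟩ := hκ (mul_left_cancel (mul_right_cancel h1))
      have h2 : (a : Ω) = b := congrArg (fun z : S => (z : Ω)) h3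
      exact Subtype.ext h2
    have hψe : ∀ x : P, (MonoidHom.ofInjective hinj).symm ⟨φ x, x, rfl⟩ = x :=
      fun x => (MonoidHom.ofInjective hinj).symm_apply_apply x
    refine ⟨P.subtype.comp (MonoidHom.ofInjective hinj).symm.toMonoidHom, ⟨?_, fun y => hP (Subtype.coe_prop _),
      g⁻¹, ?_⟩, fun x => congrArg Subtype.val (hψe x)⟩
    · rintro _ ⟨x, rfl⟩; exact hφ x
    · rintro ⟨_, x, rfl⟩
      rw [inv_inv]
      have hsx := congrArg Subtype.val (hψe x)
      calc κ _ = κ ⟨(x : Ω), hP x.2⟩ := congrArg κ (Subtype.ext hsx)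
        _ = g⁻¹ * (g * κ ⟨x, hP x.2⟩ * g⁻¹) * g := by group
        _ = _ := by rw [← hg]

theorem realized_spec (κ : S →* G) (hκ : Function.Injective κ) : (realized κ hκ).IsRealizedBy κ :=
  ⟨hκ, fun _ hP _ hφ => ⟨fun ⟨_, _, h⟩ => h, fun h => ⟨hP, hφ, h⟩⟩⟩

/-- Elements related by conjugation lie in the same strongly closed subgroups. -/
theorem mem_of_conj {κ : S →* G} {hκ : Function.Injective κ} {c : Subgroup Ω}
    (hc : (realized κ hκ).StronglyClosed c) {x y : S} {g : G} (he : κ y = g * κ x * g⁻¹) (hx : (x : Ω) ∈ c) :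
    (y : Ω) ∈ c := by
  let P : Subgroup Ω := Subgroup.zpowers (x : Ω)
  have hP : P ≤ S := Subgroup.zpowers_le.2 x.2
  have hr : ∀ u : P, g * κ (Subgroup.inclusion hP u) * g⁻¹ ∈ κ.range := fun u => by
    obtain ⟨u, hu⟩ := u
    obtain ⟨n, rfl⟩ := Subgroup.mem_zpowers_iff.1 hu
    refine ⟨y ^ n, ?_⟩
    rw [map_zpow, he, conj_zpow, ← map_zpow]
    rfl
  let θ : P →* κ.range :=
    (((MulAut.conj g).toMonoidHom.comp κ).comp (Subgroup.inclusion hP)).codRestrict κ.range hr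
  let ψ : P →* S := (MonoidHom.ofInjective hκ).symm.toMonoidHom.comp θ
  have hψ : ∀ u, κ (ψ u) = g * κ (Subgroup.inclusion hP u) * g⁻¹ := fun u =>
    congrArg Subtype.val ((MonoidHom.ofInjective hκ).apply_symm_apply (θ u))
  have hmem : S.subtype.comp ψ ∈ (realized κ hκ).Hom P := ⟨hP, fun u => (ψ u).2, g, fun u => hψ u⟩
  have h := hc.2 P (Subgroup.zpowers_le.2 hx) _ hmem ⟨x, Subgroup.mem_zpowers _⟩
  have h2 : ψ ⟨x, Subgroup.mem_zpowers _⟩ = y := hκ ((hψ _).trans he.symm)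
  rw [← h2]
  exact h

theorem exists_not_supersoluble [Finite G] [Finite S] (T : Sylow 2 G) (e : S ≃* (T : Subgroup G)) {i j h : G}
    (hi4 : i ^ 4 = 1) (hj4 : j ^ 4 = 1) (hji : j * i * j⁻¹ = i⁻¹) (hjij : j * i * j = i) (hiji : i * j * i = j)
    (h1 : h * i * h⁻¹ = j) (h2 : h * j * h⁻¹ = i * j) (h3 : h * (i * j) * h⁻¹ = i) (hi : i ≠ 1) :
    ∃ F : FusionSystem S, F.IsSaturated 2 ∧ ¬ ∃ (m : ℕ) (c : Fin (m + 1) → Subgroup Ω), c 0 = ⊥ ∧
      c (Fin.last m) = S ∧ (∀ k : Fin (m + 1), F.StronglyClosed (c k)) ∧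
      ∀ k : Fin m, c k.castSucc ≤ c k.succ ∧ ∃ x ∈ S, c k.succ = c k.castSucc ⊔ Subgroup.zpowers x := by
  haveI : Fact (Nat.Prime 2) := ⟨Nat.prime_two⟩
  have hp : ∀ u : G, u ^ 4 = 1 → IsPGroup 2 (Subgroup.zpowers u) := fun u hu => by
    obtain ⟨k, -, hk⟩ := (Nat.dvd_prime_pow Nat.prime_two (m := 2)).1 (orderOf_dvd_of_pow_eq_one hu)
    exact IsPGroup.of_card (n := k) (by rw [Nat.card_zpowers, hk])
  have hnorm : Subgroup.zpowers j ≤ Subgroup.normalizer (Subgroup.zpowers i : Set G) := by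
    have hji' : j⁻¹ * i * j = i⁻¹ := by
      rw [← inv_inj, inv_inv, mul_inv_rev, mul_inv_rev, inv_inv, ← mul_assoc, ← hji]; group
    rw [Subgroup.zpowers_le, Subgroup.mem_normalizer_iff]
    intro u
    constructor
    · intro hu
      obtain ⟨n, rfl⟩ := Subgroup.mem_zpowers_iff.1 hu
      exact ⟨-n, by show i ^ (-n) = _; rw [← conj_zpow, hji, inv_zpow, zpow_neg]⟩
    · intro hu
      obtain ⟨n, hn⟩ := Subgroup.mem_zpowers_iff.1 hu
      refine ⟨-n, ?_⟩
      show i ^ (-n) = u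
      rw [zpow_neg, ← inv_zpow, ← hji', show j⁻¹ * i * j = j⁻¹ * i * j⁻¹⁻¹ by rw [inv_inv], conj_zpow, hn]
      group
  obtain ⟨T', hT'⟩ := ((hp i hi4).to_sup_of_normal_left' (hp j hj4) hnorm).exists_le_sylow
  have hiT : i ∈ (T' : Subgroup G) := hT' (Subgroup.mem_sup_left (Subgroup.mem_zpowers i))
  have hjT : j ∈ (T' : Subgroup G) := hT' (Subgroup.mem_sup_right (Subgroup.mem_zpowers j))
  let e' : S ≃* (T' : Subgroup G) := e.trans (Sylow.equiv T T')
  let κ : S →* G := (T' : Subgroup G).subtype.comp e'.toMonoidHom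
  have hκ : Function.Injective κ := fun a b hab => e'.injective (Subtype.ext hab)
  have hrange : (T' : Subgroup G) = κ.range := by
    ext u
    exact ⟨fun hu => ⟨e'.symm ⟨u, hu⟩, congrArg Subtype.val (e'.apply_symm_apply _)⟩,
      fun ⟨x, hx⟩ => hx ▸ (e' x).2⟩
  refine ⟨realized κ hκ, FusionSys.saturated_of_realized (realized_spec κ hκ) ⟨T', hrange⟩, ?_⟩
  rintro ⟨m, c, hc0, hcm, hcl, hstep⟩
  obtain ⟨I, hI⟩ : ∃ I : S, κ I = i := hrange.le hiT
  obtain ⟨J, hJ⟩ : ∃ J : S, κ J = j := hrange.le hjT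
  have hIJ : κ (I * J) = i * j := by rw [map_mul, hI, hJ]
  have a1 : ∀ k, (I : Ω) ∈ c k → (J : Ω) ∈ c k := fun k =>
    mem_of_conj (hcl k) (g := h) (by rw [hJ, hI, h1])
  have a2 : ∀ k, (J : Ω) ∈ c k → ((I * J : S) : Ω) ∈ c k := fun k =>
    mem_of_conj (hcl k) (g := h) (by rw [hJ, hIJ, h2])
  have a3 : ∀ k, ((I * J : S) : Ω) ∈ c k → (I : Ω) ∈ c k := fun k =>
    mem_of_conj (hcl k) (g := h) (by rw [hI, hIJ, h3])
  have key : ∀ k, (I : Ω) ∉ c k := by
    intro k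
    induction k using Fin.induction with
    | zero =>
      rw [hc0, Subgroup.mem_bot]
      intro h0
      rw [← hI, show I = 1 from Subtype.ext h0, map_one] at hi
      exact hi rfl
    | succ k ih =>
      intro hk
      obtain ⟨hle, x, hxS, hx⟩ := hstep k
      set L := (c k.castSucc).subgroupOf S with hL
      haveI : L.Normal := ⟨fun u hu v => by
        rw [Subgroup.mem_subgroupOf] at hu ⊢
        refine mem_of_conj (hcl k.castSucc) (x := u) (g := κ v) ?_ hu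
        rw [← map_inv, ← map_mul, ← map_mul]⟩
      have hnI : I ∉ L := ih
      have hnJ : J ∉ L := fun hJL => ih (a3 _ (a2 _ hJL))
      have hnIJ : I * J ∉ L := fun hIJL => ih (a3 _ hIJL)
      let q : S →* S ⧸ L := QuotientGroup.mk' L
      have hgen : ∀ u : S, (u : Ω) ∈ c k.succ → ∃ n : ℤ, q u = q ⟨x, hxS⟩ ^ n := by
        intro u hu
        have h1 : (L ⊔ Subgroup.zpowers (⟨x, hxS⟩ : S)).map S.subtype = c k.succ := by
          rw [Subgroup.map_sup, hL, Subgroup.map_subgroupOf_eq_of_le (hcl _).1, MonoidHom.map_zpowers, hx]; rfl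
        obtain ⟨u', hu', hue⟩ := h1.ge hu
        rw [show u = u' from Subtype.ext hue.symm]
        rw [SetLike.mem_coe, ← SetLike.mem_coe, Subgroup.normal_mul] at hu'
        obtain ⟨a, ha, b, hb, rfl⟩ := hu'
        obtain ⟨n, rfl⟩ := Subgroup.mem_zpowers_iff.1 hb
        exact ⟨n, by rw [map_mul, map_zpow, show q a = 1 from (QuotientGroup.eq_one_iff a).2 ha, one_mul]⟩
      obtain ⟨a, ha⟩ := hgen I hk
      obtain ⟨b, hb⟩ := hgen J (a1 _ hk)
      have hcom : q I * q J = q J * q I := by rw [ha, hb, ← zpow_add, ← zpow_add, add_comm]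
      have e1 : q J * q I * q J = q I := by
        rw [← map_mul, ← map_mul]; congr 1; exact hκ (by rw [map_mul, map_mul, hI, hJ, hjij])
      have e2 : q I * q J * q I = q J := by
        rw [← map_mul, ← map_mul]; congr 1; exact hκ (by rw [map_mul, map_mul, hI, hJ, hiji])
      have sJ : q J * q J = 1 := by rwa [← hcom, mul_assoc, mul_eq_left] at e1
      have sI : q I * q I = 1 := by rwa [hcom, mul_assoc, mul_eq_left] at e2
      have hne : ∀ u : S, u ∉ L → q u ≠ 1 := fun u hu hq => hu ((QuotientGroup.eq_one_iff u).1 hq)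
      have uniq : q I = q J := by
        set y := q ⟨x, hxS⟩
        have par : ∀ (n : ℤ), y ^ n * y ^ n = 1 → y ^ n ≠ 1 → (orderOf y : ℤ) ∣ 2 * n ∧ ¬ (orderOf y : ℤ) ∣ n :=
          fun n hn hn' => ⟨orderOf_dvd_iff_zpow_eq_one.2 (by rw [two_mul, zpow_add, hn]),
            fun hd => hn' (orderOf_dvd_iff_zpow_eq_one.1 hd)⟩
        obtain ⟨⟨u, hu⟩, hu'⟩ := par a (ha ▸ sI) (ha ▸ hne I hnI)
        obtain ⟨⟨v, hv⟩, hv'⟩ := par b (hb ▸ sJ) (hb ▸ hne J hnJ)
        have ho : ∀ (n w : ℤ), 2 * n = (orderOf y : ℤ) * w → ¬ (orderOf y : ℤ) ∣ n → Odd w := fun n w hnw hn => by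
          rcases Int.even_or_odd w with ⟨w', rfl⟩ | hw
          · exact absurd ⟨w', by linarith⟩ hn
          · exact hw
        obtain ⟨u', rfl⟩ := ho a u hu hu'
        obtain ⟨v', rfl⟩ := ho b v hv hv'
        rw [ha, hb, zpow_eq_zpow_iff_modEq, Int.modEq_iff_dvd]
        exact ⟨v' - u', by linarith⟩
      exact hne _ hnIJ (by rw [map_mul, uniq, sJ])
  exact key (Fin.last m) (hcm ▸ I.2)

end Cfsg.Agent.NonSS
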