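import Cfsg.Agent.Lib.Fusion.AlperinStep
import Cfsg.Agent.Lib.Fusion.KNormalizer
import Cfsg.Agent.Lib.Fusion.Normal
import Cfsg.Agent.Lib.Fusion.InnerCriterion
import Cfsg.Agent.Lib.Solvable.Structure
import Cfsg.Agent.Lib.Fusion.CardLt

/-!
# Climbing normalizers

The induction used for functor-controlled fusion: a map of the normalizer system of a fully normalized subgroup
is moved to normalizer systems with larger carrier, until the carrier is the whole group.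
-/

set_option autoImplicit false

namespace Cfsg.Agent.FusionSys

open Cfsg Cfsg.FusionSystem

variable {Ω : Type*} [Group Ω] {S : Subgroup Ω} [Finite S] {p : ℕ} [hp : Fact p.Prime] {F : FusionSystem S}

/-- The measure of a system for inductions: the order of the carrier, then the index of the core. -/
noncomputable def sysRank (F : FusionSystem S) : ℕ :=
  Nat.card S * (Nat.card S + 1) + (Nat.card S - Nat.card F.core)

omit hp in
theorem sysRank_lt_of_card_lt {Ω' : Type*} [Group Ω'] {T : Subgroup Ω'} [Finite T] (M : FusionSystem T)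
    (h : Nat.card T < Nat.card S) : sysRank M < sysRank F := by
  have h1 : Nat.card T * (Nat.card T + 1) + Nat.card T < Nat.card S * (Nat.card S + 1) := by
    have := Nat.mul_le_mul (Nat.succ_le_of_lt h) (Nat.succ_le_succ (Nat.succ_le_of_lt h))
    simp only [Nat.succ_eq_add_one] at this
    nlinarith
  unfold sysRank
  omega

omit hp in
/-- A normal subgroup is normal in a normalizer system containing it. -/
theorem isNormal_normalizerSystem {X Q : Subgroup Ω} (hX : X ≤ S) (hQ : F.IsNormal Q)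
    (hQX : Q ≤ normalizerIn S X) {M : FusionSystem (normalizerIn S X)} (hM : F.IsNormalizerSystem X M) :
    M.IsNormal Q := by
  refine ⟨hQX, fun Y φ hφ => ?_⟩
  rw [hM] at hφ
  obtain ⟨-, hY, hφY, ψ, hψ, e1, e2⟩ := hφ
  obtain ⟨ψ', hψ', f1, f2⟩ := hQ.2 _ ψ hψ
  have hle : Y ⊔ Q ≤ Y ⊔ X ⊔ Q := sup_le_sup_right le_sup_left Q
  have f2' := (map_subgroupOf_eq_iff ψ' le_sup_right).1 f2
  refine ⟨ψ'.comp (Subgroup.inclusion hle), ?_,
    fun y => (f1 (Subgroup.inclusion le_sup_left y)).trans (e1 y), ?_⟩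
  · rw [hM]
    refine ⟨restrict_mem F hψ' hle, sup_le hY hQX, apply_mem_of_sup _
      (fun y => ?_) (fun q => hQX (f2'.1 q)), ψ'.comp (Subgroup.inclusion
        (sup_le hle (le_sup_right.trans le_sup_left) : Y ⊔ Q ⊔ X ≤ Y ⊔ X ⊔ Q)), restrict_mem F hψ' _,
      fun y => rfl, ?_⟩
    · show ψ' (Subgroup.inclusion le_sup_left (Subgroup.inclusion le_sup_left y)) ∈ _
      rw [f1, e1]; exact hφY y
    · have e2' := (map_subgroupOf_eq_iff ψ le_sup_right).1 e2
      rw [map_subgroupOf_eq_iff _ le_sup_right]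
      refine ⟨fun x => ?_, fun y hy => ?_⟩
      · show ψ' (Subgroup.inclusion le_sup_left (Subgroup.inclusion le_sup_right x)) ∈ X
        rw [f1]; exact e2'.1 x
      · obtain ⟨x, hx⟩ := e2'.2 y hy
        exact ⟨x, (f1 (Subgroup.inclusion le_sup_right x)).trans hx⟩
  · rw [map_subgroupOf_eq_iff _ le_sup_right]
    exact ⟨fun q => f2'.1 q, fun y hy => f2'.2 y hy⟩

omit hp in
/-- Normalizer systems over the whole group of subgroups outside the core have a larger core. -/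
theorem sysRank_normalizer_lt {X : Subgroup Ω} (hX : X ≤ S) (hXQ : ¬ X ≤ F.core)
    {M : FusionSystem (normalizerIn S X)} (hM : F.IsNormalizerSystem X M) (hMX : M.IsNormal X) :
    sysRank M < sysRank F := by
  rcases eq_or_lt_of_le (normalizerIn_le S X) with he | hlt
  · have hQ := core_isNormal F
    have h1 : F.core ≤ M.core :=
      isNormal_le_core (isNormal_normalizerSystem hX hQ (hQ.1.trans he.ge) hM)
    haveI : Finite (normalizerIn S X) := finite_of_le (normalizerIn_le S X)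
    have hlt : F.core < M.core :=
      lt_of_le_of_ne h1 fun e => hXQ (e ▸ isNormal_le_core hMX)
    haveI := finite_of_le (S := normalizerIn S X) (core_isNormal M).1
    have h2 := card_lt_of_lt hlt
    have h3 : Nat.card M.core ≤ Nat.card (normalizerIn S X) := Subgroup.card_le_of_le (core_isNormal M).1
    have h4 : Nat.card (normalizerIn S X) = Nat.card S := congrArg (fun T : Subgroup Ω => Nat.card T) he
    unfold sysRank
    rw [h4] at h3 ⊢
    omega
  · haveI : Finite (normalizerIn S X) := finite_of_le (normalizerIn_le S X)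
    exact sysRank_lt_of_card_lt M (card_lt_of_lt hlt)

omit [Finite S] hp in
/-- A map read through two maps of a subsystem is in the subsystem. -/
theorem mem_of_conj_eq (E : FusionSystem S) {Y N : Subgroup Ω} {φ : Y →* Ω} {β : N →* Ω} (hβ : β ∈ E.Hom N)
    (hY : Y ≤ N) (hφN : ∀ y, φ y ∈ N) {ψ : (β.comp (Subgroup.inclusion hY)).range →* Ω}
    (hψ : ψ ∈ E.Hom (β.comp (Subgroup.inclusion hY)).range)
    (he : ∀ y : Y, ψ ⟨β (Subgroup.inclusion hY y), y, rfl⟩ = β ⟨φ y, hφN y⟩) : φ ∈ E.Hom Y := by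
  obtain ⟨σ, hσ, -, h1, -⟩ := exists_inv E hβ
  obtain ⟨a, ha, hae⟩ := comp_hom_mem E (restrict_mem E hβ hY) hψ fun y => ⟨y, rfl⟩
  have hval : ∀ y, a y = β ⟨φ y, hφN y⟩ := fun y => (hae y).trans (he y)
  obtain ⟨c, hc, hce⟩ := comp_hom_mem E ha hσ fun y => ⟨⟨φ y, hφN y⟩, (hval y).symm⟩
  refine hom_congr E hc fun y => ?_
  rw [hce]
  refine ((apply_congr σ (hval y) _ ⟨⟨φ y, hφN y⟩, rfl⟩).trans ?_).symm
  exact h1 ⟨φ y, hφN y⟩ _

/-- Climbing normalizers. -/
theorem tower_climb (hS : IsPGroup p S) (hF : F.IsSaturated p) (E : FusionSystem S) (Ok : Subgroup Ω → Prop)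
    (hOk : ∀ X X', Ok X → F.IsConj X X' → Ok X') {m : ℕ}
    (hbig : ∀ (N : Subgroup Ω) (ψ : N →* Ω), ψ ∈ F.Hom N → m < Nat.card N → ψ ∈ E.Hom N)
    (step : ∀ X, F.IsFullyNormalized X → Ok X → normalizerIn S X ≠ S →
      ∃ V, V ≤ S ∧ Ok V ∧ normalizerIn S X < normalizerIn S V ∧
        ((∀ Y, F.normalizerHom V Y ⊆ E.Hom Y) → ∀ Y, F.normalizerHom X Y ⊆ E.Hom Y))
    (top : ∀ X, F.IsFullyNormalized X → Ok X → normalizerIn S X = S → ∀ Y, F.normalizerHom X Y ⊆ E.Hom Y) :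
    ∀ X, F.IsFullyNormalized X → Ok X → m < Nat.card (normalizerIn S X) →
      ∀ Y, F.normalizerHom X Y ⊆ E.Hom Y := by
  intro X
  induction hk : Nat.card S - Nat.card (normalizerIn S X) using Nat.strong_induction_on generalizing X with
  | _ k ih =>
  intro hXn hXok hm
  by_cases hXS : normalizerIn S X = S
  · exact top X hXn hXok hXS
  obtain ⟨V, hVS, hVok, hlt, hstep⟩ := step X hXn hXok hXS
  refine hstep ?_
  obtain ⟨V', hVV', hV'⟩ := exists_fullyNormalized F hVS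
  obtain ⟨β, hβ, hβN, hβV⟩ := exists_normalizer_map_fullyNormalized hS hF hV' hVV'
  haveI := finite_of_le (S := S) (normalizerIn_le S V)
  have h1 := card_lt_of_lt hlt
  have h2 : Nat.card (normalizerIn S V) ≤ Nat.card (normalizerIn S V') := hV'.2 V (isConj_symm hVV')
  have h3 : Nat.card (normalizerIn S V') ≤ Nat.card S := Subgroup.card_le_of_le (normalizerIn_le S V')
  have hall := ih _ (by omega) V' rfl hV' (hOk _ _ hVok hVV') (by omega)
  have hβE := hbig _ β hβ (by omega)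
  intro Y φ hφ
  obtain ⟨hφF, hY, hφN, ψ, hψ, e1, e2⟩ := hφ
  have e2' := (map_subgroupOf_eq_iff ψ le_sup_right).1 e2
  have hV := le_normalizerIn hVS
  have hle : Y ⊔ V ≤ normalizerIn S V := sup_le hY hV
  have hψN : ∀ x, ψ x ∈ normalizerIn S V := apply_mem_of_sup ψ (fun y => by rw [e1]; exact hφN y)
    fun v => hV (e2'.1 v)
  obtain ⟨σ, hσ, -, s1, -⟩ := exists_inv F (restrict_mem F hβ hle)
  obtain ⟨b, hb, hbe⟩ := comp_hom_mem F hσ hψ fun z => by
    obtain ⟨w, hw⟩ := z.2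
    have e := (apply_congr σ hw.symm z.2 ⟨w, rfl⟩).trans (s1 w ⟨w, rfl⟩)
    show σ ⟨z, z.2⟩ ∈ _
    rw [e]
    exact w.2
  obtain ⟨χ, hχ, hχe⟩ := comp_hom_mem F hb hβ fun z => by rw [hbe]; exact hψN _
  have hχval : ∀ w : ↥(Y ⊔ V), χ ⟨β (Subgroup.inclusion hle w), w, rfl⟩ = β ⟨ψ w, hψN w⟩ := fun w => by
    rw [hχe]
    refine apply_congr β ?_ _ _
    rw [hbe]
    exact apply_congr ψ (s1 w ⟨w, rfl⟩) _ w.2
  set A := (β.comp (Subgroup.inclusion hY)).range
  have hV'range : ∀ z ∈ V', ∃ w : V, β (Subgroup.inclusion hV w) = z := fun z hz => by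
    obtain ⟨⟨w, hw⟩, hwV, rfl⟩ := hβV.ge hz
    exact ⟨⟨w, hwV⟩, rfl⟩
  have hAle : A ⊔ V' ≤ (β.comp (Subgroup.inclusion hle)).range := by
    refine sup_le ?_ fun z hz => ?_
    · rintro _ ⟨y, rfl⟩; exact ⟨Subgroup.inclusion le_sup_left y, rfl⟩
    · obtain ⟨w, rfl⟩ := hV'range z hz
      exact ⟨Subgroup.inclusion le_sup_right w, rfl⟩
  have hmem : χ.comp (Subgroup.inclusion (le_sup_left.trans hAle)) ∈ F.normalizerHom V' A := by
    have hYA : ∀ y : Y, χ ⟨β (Subgroup.inclusion hY y), (le_sup_left.trans hAle) ⟨y, rfl⟩⟩ = β ⟨φ y, hφN y⟩ :=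
      fun y => (hχval (Subgroup.inclusion le_sup_left y)).trans (apply_congr β (e1 y) _ _)
    refine ⟨restrict_mem F hχ _, by rintro _ ⟨y, rfl⟩; exact hβN _, ?_, χ.comp (Subgroup.inclusion hAle),
      restrict_mem F hχ _, fun z => rfl, ?_⟩
    · rintro ⟨_, y, rfl⟩
      exact (hYA y).symm ▸ hβN _
    · rw [map_subgroupOf_eq_iff _ le_sup_right]
      refine ⟨fun z => ?_, fun z hz => ?_⟩
      · obtain ⟨z, hz⟩ := z
        obtain ⟨w, rfl⟩ := hV'range z hz
        exact (hχval (Subgroup.inclusion le_sup_right w)).symm ▸ hβV.le ⟨⟨_, hψN _⟩, e2'.1 w, rfl⟩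
      · obtain ⟨w, rfl⟩ := hV'range z hz
        obtain ⟨v, hv⟩ := e2'.2 w w.2
        refine ⟨⟨β (Subgroup.inclusion hV v), hβV.le ⟨_, v.2, rfl⟩⟩, (hχval (Subgroup.inclusion le_sup_right v)).trans ?_⟩
        exact apply_congr β hv _ _
  refine mem_of_conj_eq E hβE hY hφN (hall A hmem) fun y => ?_
  exact (hχval (Subgroup.inclusion le_sup_left y)).trans (apply_congr β (e1 y) _ _)

omit hp in
/-- Elements central modulo `Q` in `C_S(Q)Q` give a nontrivial part in every normalizer of a subgroup over `Q`. -/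
theorem exists_centralizer_not_le (hS : ∀ X : Subgroup Ω, X ≤ S → IsPGroup p X) [Fact p.Prime] {Q : Subgroup Ω}
    (hQS : Q ≤ S) (hQn : S ≤ Subgroup.normalizer (Q : Set Ω)) (hnc : ¬ centralizerIn S Q ≤ Q) :
    ∃ c ∈ centralizerIn S Q, c ∉ Q ∧ ∀ x ∈ S, x⁻¹ * (c * x * c⁻¹) ∈ Q := by
  haveI hn : (Q.subgroupOf S).Normal := ⟨fun q hq s => (Subgroup.mem_normalizer_iff.1 (hQn s.2) q).1 hq⟩
  haveI hcn : (centralizerIn S Q |>.subgroupOf S).Normal := ⟨fun c hc s => by
    refine Subgroup.mem_subgroupOf.2 ⟨(s * c * s⁻¹).2, Subgroup.mem_centralizer_iff.2 fun q hq => ?_⟩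
    have h := Subgroup.mem_centralizer_iff.1 (Subgroup.mem_subgroupOf.1 hc).2 ((s : Ω)⁻¹ * q * s)
      (by simpa using (Subgroup.mem_normalizer_iff.1 (hQn (S.inv_mem s.2)) q).1 hq)
    show q * ((s : Ω) * c * (s : Ω)⁻¹) = (s : Ω) * c * (s : Ω)⁻¹ * q
    calc q * ((s : Ω) * c * (s : Ω)⁻¹) = s * ((s : Ω)⁻¹ * q * s * c) * (s : Ω)⁻¹ := by group
      _ = s * (c * ((s : Ω)⁻¹ * q * s)) * (s : Ω)⁻¹ := by rw [h]
      _ = _ := by group⟩
  set f := QuotientGroup.mk' (Q.subgroupOf S)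
  set R := ((centralizerIn S Q).subgroupOf S).map f
  haveI : R.Normal := Subgroup.Normal.map hcn _ (QuotientGroup.mk'_surjective _)
  have hRne : R ≠ ⊥ := fun he => hnc fun c hc => by
    have : f ⟨c, hc.1⟩ ∈ R := Subgroup.mem_map_of_mem _ hc
    rw [he, Subgroup.mem_bot] at this
    exact Subgroup.mem_subgroupOf.1 ((QuotientGroup.eq_one_iff (⟨c, hc.1⟩ : S)).1 this)
  have hP : IsPGroup p (S ⧸ Q.subgroupOf S) := (hS S le_rfl).to_quotient _
  haveI : Nontrivial R := (Subgroup.nontrivial_iff_ne_bot R).2 hRne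
  obtain ⟨z, hz, hz1⟩ : ∃ z ∈ R ⊓ Subgroup.center (S ⧸ Q.subgroupOf S), z ≠ 1 := by
    haveI := hP.isNilpotent
    have h := Cfsg.Agent.SolvStruct.inf_center_ne_bot (N := R) hRne
    obtain ⟨z, hz, hz1⟩ := (Subgroup.ne_bot_iff_exists_ne_one.1 h : ∃ a : ↥(R ⊓ Subgroup.center _), a ≠ 1) |>
      fun ⟨a, ha⟩ => (⟨a, a.2, fun e => ha (Subtype.ext e)⟩ : ∃ z, z ∈ R ⊓ Subgroup.center _ ∧ z ≠ 1)
    exact ⟨z, hz, hz1⟩
  obtain ⟨⟨c, hcS, rfl⟩, hzc⟩ := hz
  refine ⟨c, hcS, fun h => hz1 ((QuotientGroup.eq_one_iff _).2 h), fun x hx => ?_⟩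
  have h := Subgroup.mem_center_iff.1 hzc (f ⟨x, hx⟩)
  rw [← map_mul, ← map_mul] at h
  have h2 : (⟨x, hx⟩ * c : S)⁻¹ * (c * ⟨x, hx⟩) ∈ Q.subgroupOf S := QuotientGroup.eq.1 h
  have h3 := (Subgroup.mem_normalizer_iff.1 (hQn hcS.1) _).1 (Subgroup.mem_subgroupOf.1 h2)
  simpa [mul_assoc] using h3

end Cfsg.Agent.FusionSys
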