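import Cfsg.Agent.S5194
import Cfsg.Agent.Lib.Fusion.FactorSectionFree
import Cfsg.Agent.Lib.Fusion.SurjectiveSaturated
import Cfsg.Agent.Lib.Fusion.FactorMorphism
import Cfsg.Agent.Lib.Fusion.NormalizerTower

/-!
# A non-inner system has a non-inner normalizer outside the core, or is constrained
-/

set_option autoImplicit false

namespace Cfsg.Agent.FusionSys

open Cfsg Cfsg.FusionSystem

variable {Ω : Type*} [Group Ω] {S : Subgroup Ω} [Finite S] {p : ℕ} [hp : Fact p.Prime] {F : FusionSystem S}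
  {Ω' : Type*} [Group Ω'] {S' : Subgroup Ω'} {θ : S →* Ω'} {E : FusionSystem S'} {Q : Subgroup Ω}

omit [Finite S] hp in
/-- The system is inner, as a predicate that moves along equalities of carriers. -/
theorem inner_iff {T : Subgroup Ω} (M : FusionSystem T) :
    (∀ P : Subgroup Ω, M.Hom P = (innerFusionSystem T).Hom P) ↔
      ∀ (P : Subgroup Ω) (φ : P →* Ω), φ ∈ M.Hom P → ∃ t ∈ T, ∀ x : P, φ x = t * (x : Ω) * t⁻¹ := by
  constructor
  · intro h P φ hφ
    rw [h P] at hφ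
    exact hφ.2
  · intro h P
    ext φ
    refine ⟨fun hφ => ⟨hom_le M hφ, h P φ hφ⟩, ?_⟩
    rintro ⟨hP, t, ht, hte⟩
    exact hom_congr M (M.conj_mem hP ht) hte

/-- `F` is inner if the automizer of a normal subgroup is a `p`-group and the factor system is inner. -/
theorem inner_of_factor_inner (hS : IsPGroup p S) (hF : F.IsSaturated p) (hQ : F.IsNormal Q)
    (hAut : IsPGroup p (F.autGroup Q)) (hE : F.IsFactorSystem Q θ E)
    (hin : ∀ P : Subgroup Ω', E.Hom P = (innerFusionSystem S').Hom P) :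
    ∀ P : Subgroup Ω, F.Hom P = (innerFusionSystem S).Hom P := by
  have hQc := isNormal_stronglyClosed hQ
  have hQS := hQ.1
  haveI := finite_of_le (S := S) hQS
  obtain ⟨-, hker, hran, -⟩ := id hE
  have key : ∀ P : Subgroup Ω, P ≤ S → Q ≤ P → IsPGroup p (F.autGroup P) := by
    intro P hP hQP
    haveI := finite_of_le (S := S) hP
    haveI : Finite (F.autGroup P) := inferInstance
    refine isPGroup_of_coprime_trivial fun α hα => ?_
    obtain ⟨α, hαm⟩ := α
    rw [Subgroup.orderOf_mk] at hα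
    have hφ := (mem_autGroup_iff F hP α).1 hαm
    refine Subtype.ext ?_
    have hfix : ∀ q : P, (q : Ω) ∈ Q → α q = q := by
      have hres := restrict_mem F hφ hQP
      have hr : ((P.subtype.comp α.toMonoidHom).comp (Subgroup.inclusion hQP)).range = Q := by
        refine Subgroup.eq_of_le_of_card_ge ?_ (isConj_card ⟨_, hres, rfl⟩).le
        rintro _ ⟨x, rfl⟩
        exact hQc.2 Q le_rfl _ hres x
      obtain ⟨β, hβ, hβe⟩ := exists_autGroup_of_range F hres hr
      have hiter : ∀ (i : ℕ) (x : Q), (((β ^ i) x : Q) : Ω) = ((α ^ i) ⟨x, hQP x.2⟩ : P) := by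
        intro i
        induction i with
        | zero => intro x; rfl
        | succ i ih =>
          intro x
          rw [pow_succ, pow_succ, MulAut.mul_apply, MulAut.mul_apply, ih]
          exact congrArg (fun z : P => (((α ^ i) z : P) : Ω)) (Subtype.ext (hβe x))
      have h1 : β ^ orderOf α = 1 := MulEquiv.ext fun x => Subtype.ext (by
        rw [hiter, pow_orderOf_eq_one]; rfl)
      obtain ⟨j, hj⟩ := hAut ⟨β, hβ⟩
      have h2 : β = 1 := orderOf_eq_one_iff.1 (Nat.eq_one_of_dvd_coprimes (hα.pow_right j)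
        (orderOf_dvd_of_pow_eq_one h1) (orderOf_dvd_of_pow_eq_one (congrArg Subtype.val hj)))
      intro q hq
      apply Subtype.ext
      have h3 := hiter 1 ⟨q, hq⟩
      rw [pow_one, pow_one, h2] at h3
      exact h3.symm
    obtain ⟨φ', hφ', hPS, hφS, hPm, hind⟩ := exists_induced hS hF hQc hE hφ
    rw [hin] at hφ'
    obtain ⟨-, g, hg, hge⟩ := hφ'
    obtain ⟨t, rfl⟩ := hran.ge hg
    have hstep : ∀ x : P, θ ⟨(α x : P), hφS x⟩ = θ t * θ ⟨x, hPS x.2⟩ * (θ t)⁻¹ := fun x => by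
      have h := hge ⟨θ ⟨x, hPS x.2⟩, hPm x⟩
      rw [hind x] at h
      exact h
    have hpow : ∀ (i : ℕ) (x : P),
        θ ⟨((α ^ i) x : P), hPS ((α ^ i) x).2⟩ = (θ t) ^ i * θ ⟨x, hPS x.2⟩ * ((θ t) ^ i)⁻¹ := by
      intro i
      induction i with
      | zero => intro x; simp
      | succ i ih =>
        intro x
        have h := ih (α x)
        rw [hstep x] at h
        simp only [pow_succ, MulAut.mul_apply]
        rw [h]; group
    obtain ⟨a, ha⟩ := hS t
    have hmod : ∀ x : P, (x : Ω)⁻¹ * (α x : P) ∈ Q := by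
      intro x
      obtain ⟨m, hm⟩ : ∃ m : ℕ, (α ^ p ^ a) ^ m = α := exists_pow_eq_self_of_coprime (hα.pow_right a).symm
      have h := hpow (p ^ a * m) x
      rw [pow_mul, pow_mul, hm, ← map_pow, ha, map_one, one_pow, one_mul, inv_one, mul_one] at h
      have h1 : θ ((⟨x, hPS x.2⟩ : S)⁻¹ * ⟨(α x : P), hPS (α x).2⟩) = 1 := by
        rw [map_mul, map_inv, h, inv_mul_cancel]
      exact (hker _).1 h1
    obtain ⟨b, hb⟩ : ∃ b : ℕ, ∀ y ∈ Q, y ^ p ^ b = 1 := by
      obtain ⟨b, hb⟩ := IsPGroup.iff_card.1 (hS.to_le hQS)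
      refine ⟨b, fun y hy => ?_⟩
      have h : (⟨y, hy⟩ : Q) ^ p ^ b = 1 := by rw [← hb]; exact pow_card_eq_one'
      exact congrArg Subtype.val h
    refine orderOf_eq_one_iff.1 (Nat.eq_one_of_dvd_coprimes (hα.pow_right b) dvd_rfl
      (orderOf_dvd_of_pow_eq_one (MulEquiv.ext fun x => ?_)))
    set q : P := x⁻¹ * α x with hq
    have hiter : ∀ i : ℕ, (α ^ i) x = x * q ^ i := by
      intro i
      induction i with
      | zero => simp
      | succ i ih =>
        rw [pow_succ', MulAut.mul_apply, ih, map_mul, map_pow,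
          hfix q (hmod x), show α x = x * q by rw [hq, mul_inv_cancel_left], mul_assoc, ← pow_succ']
    rw [hiter]
    have : q ^ p ^ b = 1 := Subtype.ext (hb _ (hmod x))
    rw [this, mul_one]
    rfl
  intro P
  rw [eq_inner_of_autGroup_isPGroup hS hF fun P hP => ?_]
  rintro ⟨α, hα⟩
  obtain ⟨ψ, hψ, h1, h2⟩ := hQ.2 P _ ((mem_autGroup_iff F hP α).1 hα)
  have hPQ : P ⊔ Q ≤ S := sup_le hP hQS
  haveI := finite_of_le (S := S) hPQ
  have hr : ψ.range = P ⊔ Q := by
    refine Subgroup.eq_of_le_of_card_ge ?_ (isConj_card ⟨ψ, hψ, rfl⟩).le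
    rintro _ ⟨x, rfl⟩
    refine apply_mem_of_sup ψ (fun y => ?_) (fun y => ?_) x
    · rw [h1]; exact Subgroup.mem_sup_left (α y).2
    · exact Subgroup.mem_sup_right (((map_subgroupOf_eq_iff ψ le_sup_right).1 h2).1 y)
  obtain ⟨β, hβ, hβe⟩ := exists_autGroup_of_range F hψ hr
  obtain ⟨k, hk⟩ := key _ hPQ le_sup_right ⟨β, hβ⟩
  have hiter : ∀ (i : ℕ) (y : P),
      (((β ^ i) (Subgroup.inclusion le_sup_left y) : ↥(P ⊔ Q)) : Ω) = ((α ^ i) y : P) := by
    intro i
    induction i with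
    | zero => intro y; rfl
    | succ i ih =>
      intro y
      rw [pow_succ, pow_succ, MulAut.mul_apply, MulAut.mul_apply, ← ih]
      exact congrArg (fun z : ↥(P ⊔ Q) => (((β ^ i) z : ↥(P ⊔ Q)) : Ω))
        (Subtype.ext ((hβe _).trans (h1 y)))
  refine ⟨k, Subtype.ext (MulEquiv.ext fun y => Subtype.ext ?_)⟩
  show (((α ^ p ^ k : MulAut P) y : P) : Ω) = y
  rw [← hiter, show β ^ p ^ k = 1 from congrArg Subtype.val hk]
  rfl

/-- A non-inner saturated system has a non-inner normalizer of `Z(S)` or of `J(S)`. -/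
theorem exists_crit (hS : IsPGroup p S) (hF : F.IsSaturated p)
    (h4 : p ≠ 2 ∨ F.IsSectionFree p (Equiv.Perm (Fin 4)))
    (hne : ¬ ∀ P : Subgroup Ω, F.Hom P = (innerFusionSystem S).Hom P) :
    ∃ U : Subgroup Ω, ∃ hU : U ≤ S, U ≠ ⊥ ∧ S ≤ normalizerIn S U ∧
      ¬ ∀ P : Subgroup Ω, (normSystem F hU).Hom P = (innerFusionSystem (normalizerIn S U)).Hom P := by
  haveI : Nontrivial S := by
    rw [Subgroup.nontrivial_iff_ne_bot]
    intro h
    refine hne ((inner_iff F).2 fun P φ hφ => ⟨1, S.one_mem, fun x => ?_⟩)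
    have hx : (x : Ω) = 1 := Subgroup.mem_bot.1 (h ▸ hom_le F hφ x.2)
    rw [show x = (1 : P) from Subtype.ext hx, map_one]
    simp
  set Z := S ⊓ Subgroup.centralizer (S : Set Ω) with hZ
  set J := thompsonSubgroupAOf S with hJdef
  have hJ : J ≤ S := Subgroup.map_subtype_le _
  have hJN : S ≤ normalizerIn S J :=
    (le_normalizerIn le_rfl).trans (normalizerIn_le_inducedFunctor hS (isCharPFunctor_thompsonA p) le_rfl)
  have hZN : S ≤ normalizerIn S Z := fun g hg => ⟨hg, mem_normalizer_of_conj_mem g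
    (fun x hx => by
      rw [show g * x = x * g from Subgroup.mem_centralizer_iff.1 hx.2 g hg, mul_inv_cancel_right]
      exact hx)
    fun x hx => by
      rw [mul_assoc, ← show g * x = x * g from Subgroup.mem_centralizer_iff.1 hx.2 g hg, inv_mul_cancel_left]
      exact hx⟩
  have hZne : Z ≠ ⊥ := by
    haveI := hS.center_nontrivial
    intro h
    obtain ⟨z, hz⟩ := exists_ne (1 : Subgroup.center S)
    refine hz (Subtype.ext (Subtype.ext (Subgroup.mem_bot.1 (h ▸ ⟨(z : S).2,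
      Subgroup.mem_centralizer_iff.2 fun s hs => ?_⟩))))
    exact congrArg Subtype.val (Subgroup.mem_center_iff.1 z.2 ⟨s, hs⟩)
  have hJne : J ≠ ⊥ := by
    intro h
    haveI := hS.center_nontrivial
    obtain ⟨z, hz⟩ := exists_ne (1 : Subgroup.center S)
    exact hz (Subtype.ext (Subtype.ext (Subgroup.mem_bot.1 (h ▸ ⟨_, center_le_thompsonA z.2, rfl⟩))))
  by_contra hcon
  push_neg at hcon
  refine hne (Cfsg.Agent.S5194.result p hS F hF h4 (fun C hC P => ?_) fun N hN P => ?_)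
  · have hin := (inner_iff _).1 (hcon Z inf_le_left hZne hZN)
    refine (inner_iff C).2 (fun P φ hφ => ?_) P
    rw [hC] at hφ
    obtain ⟨hφF, hP, hφC, ψ, hψ, h1, h2⟩ := hφ
    have hCN : centralizerIn S Z ≤ normalizerIn S Z := fun x hx => hZN hx.1
    obtain ⟨t, ht, hte⟩ := hin P φ (show φ ∈ F.normalizerHom Z P from
      ⟨hφF, hP.trans hCN, fun x => hCN (hφC x), ψ, hψ, h1, (map_subgroupOf_eq_iff _ le_sup_right).2
        ⟨fun x => by rw [h2]; exact x.2, fun z hz => ⟨⟨z, hz⟩, h2 _⟩⟩⟩)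
    refine ⟨t, ⟨ht.1, Subgroup.mem_centralizer_iff.2 fun z hz => ?_⟩, hte⟩
    exact (Subgroup.mem_centralizer_iff.1 hz.2 t ht.1).symm
  · rw [show N = normSystem F hJ from hom_ext _ _ fun R => hN R]
    exact hcon J hJ hJne hJN P

/-- The normalizer of a preimage is not inner when that in the factor system is not. -/
theorem normalizer_noninner_of_factor (hQ : F.IsNormal Q) (hE : F.IsFactorSystem Q θ E) {U' : Subgroup Ω'}
    (hU' : U' ≤ S') (hN' : S' ≤ normalizerIn S' U')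
    (hne : ¬ ∀ P : Subgroup Ω', (normSystem E hU').Hom P = (innerFusionSystem (normalizerIn S' U')).Hom P) :
    ∃ hU : preimageAlong θ U' ≤ S, S ≤ normalizerIn S (preimageAlong θ U') ∧
      ¬ ∀ P : Subgroup Ω, (normSystem F hU).Hom P =
        (innerFusionSystem (normalizerIn S (preimageAlong θ U'))).Hom P := by
  obtain ⟨-, hker, hran, hspec⟩ := id hE
  set U := preimageAlong θ U' with hUdef
  have hU : U ≤ S := Subgroup.map_subtype_le _
  haveI := finite_of_le (S := S) hU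
  have hθN : ∀ s : S, θ s ∈ Subgroup.normalizer (U' : Set Ω') := fun s => (hN' (hran ▸ ⟨s, rfl⟩)).2
  have hUN : S ≤ normalizerIn S U := fun g hg => by
    refine ⟨hg, mem_normalizer_of_conj_mem g (fun x hx => ?_) fun x hx => ?_⟩
    · obtain ⟨hxS, hxm⟩ := (mem_preimageAlong _ _ _).1 hx
      refine (mem_preimageAlong _ _ _).2 ⟨S.mul_mem (S.mul_mem hg hxS) (S.inv_mem hg), ?_⟩
      rw [show (⟨g * x * g⁻¹, S.mul_mem (S.mul_mem hg hxS) (S.inv_mem hg)⟩ : S) =
        ⟨g, hg⟩ * ⟨x, hxS⟩ * ⟨g, hg⟩⁻¹ from Subtype.ext rfl, map_mul, map_mul, map_inv]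
      exact (Subgroup.mem_normalizer_iff.1 (hθN ⟨g, hg⟩) _).1 hxm
    · obtain ⟨hxS, hxm⟩ := (mem_preimageAlong _ _ _).1 hx
      refine (mem_preimageAlong _ _ _).2 ⟨S.mul_mem (S.mul_mem (S.inv_mem hg) hxS) hg, ?_⟩
      rw [show (⟨g⁻¹ * x * g, S.mul_mem (S.mul_mem (S.inv_mem hg) hxS) hg⟩ : S) =
        ⟨g, hg⟩⁻¹ * ⟨x, hxS⟩ * ⟨g, hg⟩ from Subtype.ext rfl, map_mul, map_mul, map_inv]
      simpa using (Subgroup.mem_normalizer_iff.1 (Subgroup.inv_mem _ (hθN ⟨g, hg⟩)) _).1 hxm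
  refine ⟨hU, hUN, fun hin => hne ((inner_iff _).2 fun P' φ' hφ' => ?_)⟩
  obtain ⟨hφE, hP', hφN, ψ', hψ', e1, e2⟩ := hφ'
  rw [hspec] at hψ'
  set W := preimageAlong θ (P' ⊔ U') with hWdef
  obtain ⟨hW', ψ, hψ, hWS, hψS, hWm, hind⟩ := hψ'
  have hUW : U ≤ W := by
    intro x hx
    obtain ⟨hxS, hxm⟩ := (mem_preimageAlong _ _ _).1 hx
    exact (mem_preimageAlong _ _ _).2 ⟨hxS, Subgroup.mem_sup_right hxm⟩
  have e2' := (map_subgroupOf_eq_iff ψ' le_sup_right).1 e2
  have hUmap : (U.subgroupOf (W ⊔ U)).map (ψ.comp (Subgroup.inclusion (sup_le le_rfl hUW))) = U := by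
    have hcard : Nat.card ((U.subgroupOf (W ⊔ U)).map (ψ.comp (Subgroup.inclusion (sup_le le_rfl hUW)))) =
        Nat.card U := by
      rw [Subgroup.card_map_of_injective (f := ψ.comp (Subgroup.inclusion (sup_le le_rfl hUW)))
        ((F.injective_of_mem hψ).comp (Subgroup.inclusion_injective _))]
      exact Nat.card_congr (Subgroup.subgroupOfEquivOfLe le_sup_right).toEquiv
    refine Subgroup.eq_of_le_of_card_ge ?_ hcard.ge
    rintro _ ⟨x, hx, rfl⟩
    obtain ⟨hxS, hxm⟩ := (mem_preimageAlong _ _ _).1 hx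
    set w : W := Subgroup.inclusion (sup_le le_rfl hUW) x
    refine (mem_preimageAlong _ _ _).2 ⟨hψS w, ?_⟩
    show θ ⟨ψ w, hψS w⟩ ∈ U'
    rw [← hind w]
    exact e2'.1 ⟨θ ⟨x, hxS⟩, hxm⟩
  obtain ⟨s, hs, hse⟩ := (inner_iff _).1 hin W ψ (show ψ ∈ F.normalizerHom U W from
    ⟨hψ, hWS.trans hUN, fun x => hUN (hψS x), ψ.comp (Subgroup.inclusion (sup_le le_rfl hUW)),
      restrict_mem F hψ _, fun x => rfl, hUmap⟩)
  refine ⟨θ ⟨s, hs.1⟩, ⟨hran ▸ ⟨_, rfl⟩, hθN _⟩, fun y => ?_⟩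
  obtain ⟨x, hx⟩ := hran.ge ((hP'.trans (normalizerIn_le _ _)) y.2)
  have hxW : (x : Ω) ∈ W := (mem_preimageAlong _ _ _).2 ⟨x.2, hx ▸ Subgroup.mem_sup_left y.2⟩
  rw [← e1 y]
  have h := hind ⟨x, hxW⟩
  rw [show (⟨θ ⟨(x : Ω), hWS hxW⟩, hWm ⟨x, hxW⟩⟩ : ↥(P' ⊔ U')) = Subgroup.inclusion le_sup_left y from
    Subtype.ext hx] at h
  rw [h, ← hx, ← map_inv, ← map_mul, ← map_mul]
  exact congrArg θ (Subtype.ext (hse ⟨x, hxW⟩))

/-- A non-inner system that is not constrained has a non-inner normalizer of a subgroup outside the core,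
normalized by `S`. -/
theorem exists_noninner_normalizer (hS : IsPGroup p S) (hF : F.IsSaturated p)
    (h4 : p ≠ 2 ∨ F.IsSectionFree p (Equiv.Perm (Fin 4)))
    (hne : ¬ ∀ P : Subgroup Ω, F.Hom P = (innerFusionSystem S).Hom P) (hnc : ¬ F.IsConstrained p) :
    ∃ U : Subgroup Ω, ∃ hU : U ≤ S, S ≤ normalizerIn S U ∧ ¬ U ≤ F.core ∧
      ¬ ∀ P : Subgroup Ω, (normSystem F hU).Hom P = (innerFusionSystem (normalizerIn S U)).Hom P := by
  set Q := F.core with hQdef
  have hQ : F.IsNormal Q := core_isNormal F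
  have hQS := hQ.1
  by_cases hQ0 : Q = ⊥
  · obtain ⟨U, hU, hUne, hUN, hUi⟩ := exists_crit hS hF h4 hne
    exact ⟨U, hU, hUN, fun h => hUne (le_bot_iff.1 (hQ0 ▸ h)), hUi⟩
  have hQc := isNormal_stronglyClosed hQ
  haveI := finite_of_le (S := S) hQS
  have hQconj : ∀ {g : Ω}, g ∈ S → ∀ x ∈ Q, g * x * g⁻¹ ∈ Q := fun {g} hg x hx =>
    hQc.2 Q le_rfl _ (F.conj_mem hQS hg) ⟨x, hx⟩
  set R := Q ⊔ centralizerIn S Q with hR
  have hRS : R ≤ S := sup_le hQS (centralizerIn_le S Q)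
  have hRN : S ≤ normalizerIn S R := by
    have key : ∀ g ∈ S, ∀ x ∈ R, g * x * g⁻¹ ∈ R := by
      intro g hg x hx
      refine apply_mem_of_sup (conjHom R g) (R := R) (fun y => Subgroup.mem_sup_left (hQconj hg y y.2))
        (fun c => Subgroup.mem_sup_right ⟨S.mul_mem (S.mul_mem hg c.2.1) (S.inv_mem hg),
          Subgroup.mem_centralizer_iff.2 fun y hy => ?_⟩) ⟨x, hx⟩
      have hy' : g⁻¹ * y * g ∈ Q := by simpa using hQconj (S.inv_mem hg) y hy
      show y * (g * (c : Ω) * g⁻¹) = g * (c : Ω) * g⁻¹ * y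
      calc y * (g * (c : Ω) * g⁻¹) = g * (g⁻¹ * y * g * c) * g⁻¹ := by group
        _ = g * (c * (g⁻¹ * y * g)) * g⁻¹ := by rw [Subgroup.mem_centralizer_iff.1 c.2.2 _ hy']
        _ = g * (c : Ω) * g⁻¹ * y := by group
    exact fun g hg => ⟨hg, mem_normalizer_of_conj_mem g (key g hg) fun x hx => by
      simpa using key g⁻¹ (S.inv_mem hg) x hx⟩
  by_cases hRi : ∀ P : Subgroup Ω, (normSystem F hRS).Hom P = (innerFusionSystem (normalizerIn S R)).Hom P
  swap
  · refine ⟨R, hRS, hRN, fun hle => hnc ⟨hF, Q, hQ, hQS, fun Q' hQ' => ?_⟩, hRi⟩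
    obtain ⟨φ, hφ, rfl⟩ := hQ'
    have hr : φ.range = Q := Subgroup.eq_of_le_of_card_ge
      (by rintro _ ⟨x, rfl⟩; exact hQc.2 Q le_rfl φ hφ x) (isConj_card ⟨φ, hφ, rfl⟩).le
    rw [hr]
    exact le_sup_right.trans hle
  -- the automizer of the core is a `p`-group
  have hQn : F.IsFullyNormalized Q := fullyNormalized_of_normal hQS fun g hg =>
    mem_normalizer_of_conj_mem g (fun x hx => hQconj hg x hx) fun x hx => by
      simpa using hQconj (S.inv_mem hg) x hx
  have hAut : IsPGroup p (F.autGroup Q) := by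
    rintro ⟨α, hα⟩
    have hφ := (mem_autGroup_iff F hQS α).1 hα
    obtain ⟨χ, hχ, hχe⟩ := (fullyNormalized_receptive hS hF hQn).2 Q _ hφ (equivHom_range α)
    have hRE : R ≤ extender S Q (Q.subtype.comp α.toMonoidHom) := centralizerIn_sup_le_extender F hφ
    set ψ := χ.comp (Subgroup.inclusion hRE) with hψdef
    have hψ : ψ ∈ F.Hom R := restrict_mem F hχ hRE
    have hψQ : ∀ y : Q, ψ (Subgroup.inclusion le_sup_left y) = α y := fun y => hχe y y.2 _
    have hψR : ∀ x, ψ x ∈ R := fun x => by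
      refine apply_mem_of_sup ψ (R := R) (fun y => ?_) (fun c => ?_) x
      · rw [hψQ]; exact Subgroup.mem_sup_left (α y).2
      · refine Subgroup.mem_sup_right ⟨hom_apply_mem F hψ _, Subgroup.mem_centralizer_iff.2 fun y hy => ?_⟩
        have hy' : ψ (Subgroup.inclusion le_sup_left (α⁻¹ ⟨y, hy⟩)) = y :=
          (hψQ _).trans (congrArg Subtype.val (α.apply_symm_apply ⟨y, hy⟩))
        rw [← hy', ← map_mul, ← map_mul]
        exact congrArg ψ (Subtype.ext (Subgroup.mem_centralizer_iff.1 c.2.2 _ (α⁻¹ ⟨y, hy⟩).2))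
    haveI := finite_of_le (S := S) hRS
    have hr : ψ.range = R := Subgroup.eq_of_le_of_card_ge (by rintro _ ⟨x, rfl⟩; exact hψR x)
      (isConj_card ⟨ψ, hψ, rfl⟩).le
    obtain ⟨s, hs, hse⟩ := (inner_iff _).1 hRi R ψ (show ψ ∈ F.normalizerHom R R from
      ⟨hψ, hRS.trans hRN, fun x => hRN (hRS (hψR x)), ψ.comp (Subgroup.inclusion (sup_le le_rfl le_rfl)),
        restrict_mem F hψ _, fun x => rfl, (map_subgroupOf_eq_iff _ le_sup_right).2
          ⟨fun x => hψR _, fun z hz => by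
            obtain ⟨x, hx⟩ := hr.ge hz
            exact ⟨x, hx⟩⟩⟩)
    obtain ⟨k, hk⟩ := hS ⟨s, hs.1⟩
    have hk' : s ^ p ^ k = 1 := congrArg Subtype.val hk
    refine ⟨k, Subtype.ext (MulEquiv.ext fun x => Subtype.ext ?_)⟩
    have hiter : ∀ (i : ℕ) (y : Q), (((α ^ i) y : Q) : Ω) = s ^ i * (y : Ω) * (s ^ i)⁻¹ := by
      intro i
      induction i with
      | zero => intro y; simp
      | succ i ih =>
        intro y
        rw [pow_succ, MulAut.mul_apply, ih, ← hψQ y, hse, Subgroup.coe_inclusion, pow_succ]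
        group
    show (((α ^ p ^ k : MulAut Q) x : Q) : Ω) = x
    rw [hiter, hk']
    simp
  -- pass to the factor system by the core
  haveI hn : (Q.subgroupOf S).Normal := ⟨fun x hx g => hQconj g.2 _ hx⟩
  set θ := QuotientGroup.mk' (Q.subgroupOf S) with hθ
  have hker : ∀ s : S, θ s = 1 ↔ (s : Ω) ∈ Q := fun s => QuotientGroup.eq_one_iff s
  have hran : θ.range = (⊤ : Subgroup (S ⧸ Q.subgroupOf S)) :=
    MonoidHom.range_eq_top.2 (QuotientGroup.mk'_surjective _)
  set E := factorSystem F hQc θ hker hran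
  have hE : F.IsFactorSystem Q θ E := ⟨hQS, hker, hran, fun _ _ => Iff.rfl⟩
  have hEs := saturated_of_surjectiveMorphism hS hF (factor_surjectiveMorphism hS hF hQc hE)
  have hTp : IsPGroup p (⊤ : Subgroup (S ⧸ Q.subgroupOf S)) := (hS.to_quotient _).to_subgroup _
  have hEne : ¬ ∀ P, E.Hom P = (innerFusionSystem _).Hom P := fun h =>
    hne (inner_of_factor_inner hS hF hQ hAut hE h)
  obtain ⟨U', hU', hU'ne, hU'N, hU'i⟩ :=
    exists_crit hTp hEs (h4.imp_right fun h => sectionFree_factor hS hF h hQ hE) hEne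
  obtain ⟨hU, hUN, hUi⟩ := normalizer_noninner_of_factor hQ hE hU' hU'N hU'i
  refine ⟨_, hU, hUN, fun hle => hU'ne (eq_bot_iff.2 fun y hy => ?_), hUi⟩
  obtain ⟨s, rfl⟩ := QuotientGroup.mk'_surjective (Q.subgroupOf S) y
  exact Subgroup.mem_bot.2 ((hker s).2 (hle ((mem_preimageAlong θ U' _).2 ⟨s.2, hy⟩)))

end Cfsg.Agent.FusionSys
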