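import Cfsg.Agent.Lib.Fusion.BisetTransfer
import Cfsg.Agent.Lib.Fusion.GeneratedStab

/-!
# Subsystems of `p`-power index

Uniqueness from Alperin's theorem. Existence in index `p`: the lifts of the maps to permutations of a stable
biset carry a value in `S/T`; the maps with a lift of trivial value form a saturated system.
-/

set_option autoImplicit false

namespace Cfsg.Agent.FusionSys

open Cfsg Cfsg.FusionSystem MulAction

variable {Ω : Type*} [Group Ω] {S T : Subgroup Ω} {p : ℕ} [hp : Fact p.Prime]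

/-- A saturated subsystem lies in any system on its carrier containing the `p`-residuals of the automizers. -/
theorem le_of_residual [Finite T] (hT : IsPGroup p T) {F : FusionSystem S} {E : FusionSystem T} (hE : E.IsSaturated p)
    (hsub : E.IsSubsystemOf F) {X : FusionSystem T}
    (hX : ∀ P ≤ T, (pResidual p (F.autGroup P)).map (F.autGroup P).subtype ≤ X.autGroup P) : E ≤ X := by
  refine alperin hT hE fun P hP α hα => ?_
  have hn : E.IsFullyNormalized P := hP.elim (fun e => e ▸ fullyNormalized_top E) fun e => e.2.1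
  have hPT := hn.1
  have := finite_of_le hPT
  obtain ⟨R, hR⟩ := (fullyNormalized_imp hT hE hn).2.2
  haveI := Cfsg.Agent.PBasic.pResidual_normal_inst p (E.autGroup P)
  have hsup : (⟨α, hα⟩ : E.autGroup P) ∈ (R : Subgroup (E.autGroup P)) ⊔ pResidual p (E.autGroup P) := by
    rw [Cfsg.Agent.PBasic.sylow_sup_pResidual]; exact Subgroup.mem_top _
  rw [← SetLike.mem_coe, Subgroup.mul_normal] at hsup
  obtain ⟨c, hc, r, hr, hcr⟩ := hsup
  rw [hR] at hc
  rw [show α = (c : MulAut P) * r from (congrArg Subtype.val hcr).symm]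
  refine Subgroup.mul_mem _ (autInducedBy_le_autGroup X hPT hc) (hX P hPT ⟨Subgroup.inclusion (autGroup_mono hsub P) r, ?_, rfl⟩)
  exact Cfsg.Agent.PBasic.map_pResidual_le (p := p) (Subgroup.inclusion (autGroup_mono hsub P)) ⟨r, hr, rfl⟩

/-- There is at most one saturated subsystem of `p`-power index over a subgroup. -/
theorem pPower_unique [Finite T] (hT : IsPGroup p T) {F : FusionSystem S} {E E' : FusionSystem T}
    (hE : E.IsSaturated p) (hi : E.HasPPowerIndexIn F p) (hE' : E'.IsSaturated p)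
    (hi' : E'.HasPPowerIndexIn F p) : E' = E :=
  le_antisymm_fusion (le_of_residual hT hE' hi'.1 hi.2.2) (le_of_residual hT hE hi.1 hi'.2.2)

/-! ### Lifts to the stable biset -/

/-- A permutation intertwines the left action through `φ` and commutes with the right action. -/
def Intertwines (S : Subgroup Ω) {X : Type*} [MulAction (S × S) X] {P : Subgroup Ω} (φ : P →* Ω) (e : X ≃ X) : Prop :=
  (∀ (s : S) (y : X), e (((1, s) : S × S) • y) = ((1, s) : S × S) • e y) ∧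
    ∀ (a a' : S) (ha : (a : Ω) ∈ P), φ ⟨a, ha⟩ = (a' : Ω) →
      ∀ y : X, e (((a, 1) : S × S) • y) = ((a', 1) : S × S) • e y

theorem intertwines_pair {X : Type*} [MulAction (S × S) X] {P : Subgroup Ω} {φ : P →* Ω} {e : X ≃ X}
    (h : Intertwines S φ e) (a a' s : S) (ha : (a : Ω) ∈ P) (he : φ ⟨a, ha⟩ = (a' : Ω)) (y : X) :
    e (((a, s) : S × S) • y) = ((a', s) : S × S) • e y := by
  rw [show ((a, s) : S × S) = (a, 1) * (1, s) by simp, mul_smul, h.2 a a' ha he, h.1, smul_smul]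
  simp

/-- The data of an invariant character and a normalized biset. -/
structure LiftData (F : FusionSystem S) (X : Type*) [MulAction (S × S) X] (A : Type*) [CommGroup A] (n : ℕ) where
  f : S →* A
  r : Fin n → X
  μ : X → A
  coord : IsCoord S r
  inv : ∀ {P : Subgroup Ω} {φ : P →* Ω}, φ ∈ F.Hom P → ∀ a a' : S, ∀ ha : (a : Ω) ∈ P,
    φ ⟨a, ha⟩ = (a' : Ω) → f a' = f a
  smul : ∀ (a s : S) (y : X), μ (((a, s) : S × S) • y) = (f a)⁻¹ * f s * μ y
  base : ∀ j, μ (r j) = 1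
  diag : ∀ x : X, FDiag F (stabilizer (S × S) x)

namespace LiftData

variable {F : FusionSystem S} {X : Type*} [MulAction (S × S) X] {A : Type*} [CommGroup A] {n : ℕ}
variable (L : LiftData F X A n)

/-- The value of a permutation. -/
def val (e : X ≃ X) : A := ∏ j, L.μ (e (L.r j))

/-- `φ` has a lift of value `v`. -/
def HasLift {P : Subgroup Ω} (φ : P →* Ω) (v : A) : Prop := ∃ e : X ≃ X, Intertwines S φ e ∧ L.val e = v

theorem exists_perm {e : X ≃ X} (he : ∀ (s : S) (y : X), e (((1, s) : S × S) • y) = ((1, s) : S × S) • e y) :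
    ∃ (π : Fin n → Fin n) (u : Fin n → S), Function.Bijective π ∧
      ∀ j, e (L.r j) = ((1, u j) : S × S) • L.r (π j) := by
  have hex : ∀ j, ∃ (i : Fin n) (u : S), ((1, u) : S × S) • L.r i = e (L.r j) := fun j => by
    obtain ⟨⟨i, u⟩, h⟩ := L.coord.2 (e (L.r j))
    exact ⟨i, u, h⟩
  choose π u hu using hex
  refine ⟨π, u, (Finite.injective_iff_bijective).1 fun i j h => ?_, fun j => (hu j).symm⟩
  have h1 : e (((1, 1) : S × S) • L.r i) = e (((1, u i * (u j)⁻¹) : S × S) • L.r j) := by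
    rw [he, he, ← hu, ← hu, h, smul_smul, smul_smul]
    simp
  exact congrArg Prod.fst (L.coord.1 (a₁ := (i, 1)) (a₂ := (j, u i * (u j)⁻¹)) (e.injective h1))

theorem val_trans {e e' : X ≃ X} (he : ∀ (s : S) (y : X), e (((1, s) : S × S) • y) = ((1, s) : S × S) • e y)
    (he' : ∀ (s : S) (y : X), e' (((1, s) : S × S) • y) = ((1, s) : S × S) • e' y) :
    L.val (e.trans e') = L.val e * L.val e' := by
  obtain ⟨π, u, hπ, hu⟩ := L.exists_perm he
  have h1 : ∀ j, L.μ (e' (e (L.r j))) = L.μ (e (L.r j)) * L.μ (e' (L.r (π j))) := fun j => by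
    rw [hu, he', L.smul, L.smul, L.base, mul_one, map_one, inv_one, one_mul]
  show ∏ j, L.μ (e' (e (L.r j))) = _
  rw [Finset.prod_congr rfl fun j _ => h1 j, Finset.prod_mul_distrib]
  exact congrArg (L.val e * ·) (Fintype.prod_bijective π hπ _ _ fun _ => rfl)

theorem val_refl : L.val (Equiv.refl X) = 1 := Finset.prod_eq_one fun j _ => L.base j

theorem lift_subtype (P : Subgroup Ω) : L.HasLift P.subtype 1 :=
  ⟨Equiv.refl X, ⟨fun _ _ => rfl, fun a a' ha h y => by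
    rw [show a' = a from Subtype.ext h.symm]; rfl⟩, L.val_refl⟩

theorem lift_comp {P R : Subgroup Ω} {φ : P →* Ω} {ψ : R →* Ω} {v w : A} (hφ : φ ∈ F.Hom P) (h : L.HasLift φ v)
    (h' : L.HasLift ψ w) (hR : ∀ x, φ x ∈ R) : L.HasLift (ψ.comp (φ.codRestrict R hR)) (v * w) := by
  obtain ⟨e, he, hv⟩ := h
  obtain ⟨e', he', hw⟩ := h'
  refine ⟨e.trans e', ⟨fun s y => ?_, fun a a'' ha hc y => ?_⟩, by rw [L.val_trans he.1 he'.1, hv, hw]⟩
  · show e' (e _) = _
    rw [he.1, he'.1]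
    rfl
  · show e' (e _) = _
    rw [he.2 a ⟨φ ⟨a, ha⟩, hom_apply_mem F hφ _⟩ ha rfl, he'.2 _ a'' (hR ⟨a, ha⟩) hc]
    rfl

theorem lift_inv {P : Subgroup Ω} {φ : P →* Ω} {v : A} (hφ : φ ∈ F.Hom P) (h : L.HasLift φ v) {θ : φ.range →* Ω}
    (hθ : ∀ x, θ ⟨φ x, x, rfl⟩ = x) : L.HasLift θ v⁻¹ := by
  obtain ⟨e, he, hv⟩ := h
  have h1 : ∀ (s : S) (y : X), e.symm (((1, s) : S × S) • y) = ((1, s) : S × S) • e.symm y := fun s y => by
    apply e.injective
    rw [he.1, Equiv.apply_symm_apply, Equiv.apply_symm_apply]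
  refine ⟨e.symm, ⟨h1, ?_⟩, ?_⟩
  · rintro a a' ⟨x, hx⟩ hc y
    have hx' : (x : Ω) = a' := ((hθ x).symm.trans (apply_congr θ hx ⟨x, rfl⟩ _)).trans hc
    apply e.injective
    have hm : (a' : Ω) ∈ P := hx' ▸ x.2
    rw [Equiv.apply_symm_apply, he.2 a' a hm ((apply_congr φ hx'.symm hm x.2).trans hx), Equiv.apply_symm_apply]
  · have := L.val_trans he.1 h1
    rw [Equiv.self_trans_symm, L.val_refl, hv] at this
    exact eq_inv_of_mul_eq_one_right this.symm

theorem lift_restrict {P Q : Subgroup Ω} {φ : P →* Ω} {v : A} (h : L.HasLift φ v) (hQ : Q ≤ P) :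
    L.HasLift (φ.comp (Subgroup.inclusion hQ)) v := by
  obtain ⟨e, he, hv⟩ := h
  exact ⟨e, ⟨he.1, fun a a' ha hc y => he.2 a a' (hQ ha) hc y⟩, hv⟩

theorem lift_congr {P : Subgroup Ω} {φ φ' : P →* Ω} {v : A} (h : L.HasLift φ v) (he : ∀ x, φ' x = φ x) :
    L.HasLift φ' v :=
  (MonoidHom.ext he : φ' = φ) ▸ h

theorem lift_conj (P : Subgroup Ω) (g : S) : L.HasLift (conjHom P (g : Ω)) (((L.f g)⁻¹) ^ n) := by
  refine ⟨MulAction.toPerm ((g, 1) : S × S), ⟨fun s y => ?_, fun a a' ha hc y => ?_⟩, ?_⟩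
  · show ((g, 1) : S × S) • ((1, s) : S × S) • y = ((1, s) : S × S) • ((g, 1) : S × S) • y
    rw [smul_smul, smul_smul]
    simp
  · show ((g, 1) : S × S) • ((a, 1) : S × S) • y = ((a', 1) : S × S) • ((g, 1) : S × S) • y
    rw [smul_smul, smul_smul, Prod.mk_mul_mk, Prod.mk_mul_mk]
    congr 1
    refine Prod.ext (Subtype.ext ?_) rfl
    have hc' : (g : Ω) * (a : Ω) * (g : Ω)⁻¹ = a' := hc
    show (g : Ω) * (a : Ω) = (a' : Ω) * g
    rw [← hc', inv_mul_cancel_right]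
  · show ∏ j, L.μ (((g, 1) : S × S) • L.r j) = _
    rw [Finset.prod_congr rfl fun j _ => show L.μ (((g, 1) : S × S) • L.r j) = (L.f g)⁻¹ by
      rw [L.smul, L.base, map_one, mul_one, mul_one], Finset.prod_const, Finset.card_univ, Fintype.card_fin]

theorem coef_f (t : S) (j : Fin n) : L.f (coef L.coord t j) = L.f t := by
  have h := congrArg L.μ (coef_spec L.coord t j)
  rw [L.smul, L.base, L.base, mul_one, inv_mul_eq_one] at h
  exact h.symm

/-- The subgroups whose conjugates have centralizers killed by the character. -/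
def CentTriv (P : Subgroup Ω) : Prop :=
  ∀ Q, F.IsConj P Q → ∀ u : S, (u : Ω) ∈ Subgroup.centralizer (Q : Set Ω) → L.f u = 1

/-- A lift of the identity of such a subgroup has trivial value. -/
theorem val_eq_one (hS : IsPGroup p S) [Finite S] [Finite A] (hA : Nat.card A = p) {P : Subgroup Ω} (hP : P ≤ S)
    (hc : L.CentTriv P) {e : X ≃ X} (he : Intertwines S P.subtype e) : L.val e = 1 := by
  classical
  obtain ⟨π, u, hπ, hu⟩ := L.exists_perm he.1
  let w : Fin n → A := fun j => L.μ (e (L.r j))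
  have hw : ∀ j, w j = L.f (u j) := fun j => by
    show L.μ (e (L.r j)) = _
    rw [hu, L.smul, L.base, mul_one, map_one, inv_one, one_mul]
  let i : P → S := fun t => ⟨t, hP t.2⟩
  have hi : ∀ a b, i (a * b) = i a * i b := fun a b => rfl
  have hnxt : ∀ (a b : S) (j : Fin n), nxt L.coord (a * b) j = nxt L.coord a (nxt L.coord b j) := fun a b j => by
    refine (step_unique L.coord (coef_spec L.coord (a * b) j)
      (s' := coef L.coord a (nxt L.coord b j) * coef L.coord b j) ?_).1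
    rw [← coef_spec L.coord a, ← coef_spec L.coord b, smul_smul, Prod.mk_mul_mk]
  letI act : MulAction P (Fin n) :=
    { smul := fun t j => nxt L.coord (i t) j
      one_smul := fun j => by
        show nxt L.coord (1 : S) j = j
        refine (step_unique L.coord (coef_spec L.coord (1 : S) j) (k' := j) (s' := 1) ?_).1
        rw [← Prod.one_eq_mk, one_smul]
      mul_smul := fun a b j => hnxt (i a) (i b) j }
  have hsm : ∀ (t : P) (j : Fin n), t • j = nxt L.coord (i t) j := fun _ _ => rfl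
  have hstep : ∀ (t : P) (j : Fin n), ((i t, coef L.coord (i t) j) : S × S) • e (L.r j) = e (L.r (t • j)) := by
    intro t j
    rw [← intertwines_pair he (i t) (i t) _ t.2 rfl, coef_spec]
    rfl
  have hwt : ∀ (t : P) (j : Fin n), w (t • j) = w j := fun t j => by
    show L.μ (e (L.r (t • j))) = _
    rw [← hstep, L.smul, L.coef_f, inv_mul_cancel, one_mul]
  -- reduce to the fixed points
  set Fx : Finset (Fin n) := Finset.univ.filter fun j => ∀ t : P, t • j = j with hFx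
  have hred : ∏ j, w j = ∏ j ∈ Fx, w j := by
    letI := Fintype.ofFinite A
    rw [← Finset.prod_fiberwise Finset.univ w w, ← Finset.prod_fiberwise Fx w w]
    refine Finset.prod_congr rfl fun a _ => ?_
    rw [Finset.prod_congr rfl fun j hj => (Finset.mem_filter.1 hj).2, Finset.prod_const,
      Finset.prod_congr (s₁ := Fx.filter fun j => w j = a) rfl fun j hj => (Finset.mem_filter.1 hj).2,
      Finset.prod_const]
    have hap : a ^ p = 1 := hA ▸ pow_card_eq_one'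
    refine pow_eq_pow_of_modEq ?_ hap
    let B : SubMulAction P (Fin n) := ⟨{j | w j = a}, fun t j hj => (hwt t j).trans hj⟩
    haveI : Finite P := finite_of_le hP
    have h := (hS.to_le hP).card_modEq_card_fixedPoints B
    have e1 : Nat.card B = (Finset.univ.filter fun j => w j = a).card := by
      rw [← Fintype.card_subtype, ← Nat.card_eq_fintype_card]
      rfl
    have e2 : Nat.card (fixedPoints P B) = (Fx.filter fun j => w j = a).card := by
      rw [hFx, Finset.filter_filter, ← Fintype.card_subtype, ← Nat.card_eq_fintype_card]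
      exact Nat.card_congr
        { toFun := fun x => ⟨(x.1 : Fin n), fun t => congrArg Subtype.val (x.2 t), x.1.2⟩
          invFun := fun j => ⟨⟨j.1, j.2.2⟩, fun t => Subtype.ext (j.2.1 t)⟩
          left_inv := fun _ => rfl
          right_inv := fun _ => rfl }
    rwa [e1, e2] at h
  -- the fixed points
  let Φ : Fin n → P → S := fun j t => coef L.coord (i t) j
  have hfix : ∀ j ∈ Fx, π j ∈ Fx ∧ ∀ t : P, Φ (π j) t = (u j)⁻¹ * Φ j t * u j := by
    intro j hj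
    have hjf := (Finset.mem_filter.1 hj).2
    have key : ∀ t : P, ((i t, (u j)⁻¹ * Φ j t * u j) : S × S) • L.r (π j) = L.r (π j) := fun t => by
      have h := hstep t j
      rw [hjf t, hu, smul_smul] at h
      have h2 := congrArg (fun y => ((1, u j) : S × S)⁻¹ • y) h
      simp only [smul_smul, inv_mul_cancel, one_smul] at h2
      convert h2 using 2
      simp [Φ, mul_assoc]
    refine ⟨Finset.mem_filter.2 ⟨Finset.mem_univ _, fun t => ?_⟩, fun t => ?_⟩
    · exact (step_unique L.coord (coef_spec L.coord (i t) (π j)) (key t)).1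
    · exact (step_unique L.coord (coef_spec L.coord (i t) (π j)) (key t)).2
  let st : Setoid (P → S) :=
    { r := fun g h => ∃ s : S, ∀ t, h t = s * g t * s⁻¹
      iseqv := ⟨fun g => ⟨1, fun t => by simp⟩, fun {g h} ⟨s, hs⟩ => ⟨s⁻¹, fun t => by rw [hs]; group⟩,
        fun {g h k} ⟨s, hs⟩ ⟨s', hs'⟩ => ⟨s' * s, fun t => by rw [hs', hs]; group⟩⟩ }
  have hτ : ∀ j, ∃ s : S, ∀ t, Φ j t = s * (Quotient.mk st (Φ j)).out t * s⁻¹ := fun j => Quotient.mk_out (s := st) (Φ j)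
  choose τ hτe using hτ
  have hcen : ∀ j ∈ Fx, w j = L.f (τ j) * (L.f (τ (π j)))⁻¹ := by
    intro j hj
    have hjf := (Finset.mem_filter.1 hj).2
    obtain ⟨-, hrel⟩ := hfix j hj
    have hcls : Quotient.mk st (Φ (π j)) = Quotient.mk st (Φ j) :=
      Quotient.sound ⟨u j, fun t => by rw [hrel]; group⟩
    obtain ⟨Q, ψ, hψ, hD⟩ := L.diag (L.r j)
    have hstab : ∀ t : P, ∃ h : (t : Ω) ∈ Q, ψ ⟨t, h⟩ = ((Φ j t : S) : Ω) := fun t =>
      (hD (i t, Φ j t)).1 ((coef_spec L.coord (i t) j).trans (congrArg L.r (hjf t)))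
    have hPQ : P ≤ Q := fun x hx => (hstab ⟨x, hx⟩).1
    have hconj : F.IsConj P (ψ.comp (Subgroup.inclusion hPQ)).range := ⟨_, restrict_mem F hψ hPQ, rfl⟩
    have h1 : L.f (u j * τ (π j) * (τ j)⁻¹) = 1 := by
      refine hc _ hconj _ (Subgroup.mem_centralizer_iff.2 ?_)
      rintro _ ⟨t, rfl⟩
      obtain ⟨hh, hht⟩ := hstab t
      show ψ ⟨t, _⟩ * _ = _ * ψ ⟨t, _⟩
      rw [apply_congr ψ rfl _ hh, hht, ← Subgroup.coe_mul, ← Subgroup.coe_mul]
      refine congrArg Subtype.val ?_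
      have e1 := hτe (π j) t
      rw [hcls, hrel] at e1
      have e2 := hτe j t
      set c : S := (Quotient.mk st (Φ j)).out t
      have e3 : Φ j t = (u j * τ (π j)) * c * (u j * τ (π j))⁻¹ := by
        rw [show Φ j t = u j * ((u j)⁻¹ * Φ j t * u j) * (u j)⁻¹ by group, e1]
        group
      have e4 : c = (τ j)⁻¹ * Φ j t * τ j := by rw [e2]; group
      rw [e4] at e3
      calc Φ j t * (u j * τ (π j) * (τ j)⁻¹)
          = (u j * τ (π j) * ((τ j)⁻¹ * Φ j t * τ j) * (u j * τ (π j))⁻¹) * (u j * τ (π j) * (τ j)⁻¹) := by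
            rw [← e3]
        _ = u j * τ (π j) * (τ j)⁻¹ * Φ j t := by group
    rw [map_mul, map_mul, map_inv, mul_inv_eq_one] at h1
    rw [hw, ← h1, mul_inv_cancel_right]
  show ∏ j, w j = 1
  rw [hred, Finset.prod_congr rfl hcen, Finset.prod_mul_distrib, Finset.prod_inv_distrib]
  have himg : Fx.image π = Fx := Finset.eq_of_subset_of_card_le
    (Finset.image_subset_iff.2 fun j hj => (hfix j hj).1) (Finset.card_image_of_injective _ hπ.1).ge
  have : ∏ j ∈ Fx, L.f (τ (π j)) = ∏ j ∈ Fx, L.f (τ j) := by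
    conv_rhs => rw [← himg, Finset.prod_image fun a _ b _ h => hπ.1 h]
  rw [this, mul_inv_cancel]

/-- The maps with a lift of trivial value. -/
def sys (hinvT : ∀ g : S, (g : Ω) ∈ T ↔ L.f g = 1) (hTS : T ≤ S) : FusionSystem T where
  Hom P := {φ | φ ∈ F.Hom P ∧ P ≤ T ∧ (∀ x, φ x ∈ T) ∧ L.HasLift φ 1}
  le_of_mem h := ⟨h.2.1, h.2.2.1⟩
  injective_of_mem h := F.injective_of_mem h.1
  conj_mem {P g} hP hg := ⟨F.conj_mem (hP.trans hTS) (hTS hg), hP,
    fun x => T.mul_mem (T.mul_mem hg (hP x.2)) (T.inv_mem hg), by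
    have h := L.lift_conj P ⟨g, hTS hg⟩
    rwa [(hinvT ⟨g, hTS hg⟩).1 hg, inv_one, one_pow] at h⟩
  comp_mem {P R φ ψ} hφ hψ h := ⟨F.comp_mem hφ.1 hψ.1 h, hφ.2.1, fun x => hψ.2.2.1 _, by
    simpa using L.lift_comp hφ.1 hφ.2.2.2 hψ.2.2.2 h⟩
  inv_mem {P φ} hφ := by
    obtain ⟨θ, hθ, hθe⟩ := F.inv_mem hφ.1
    refine ⟨θ, ⟨hθ, ?_, ?_, by simpa using L.lift_inv hφ.1 hφ.2.2.2 hθe⟩, hθe⟩
    · rintro _ ⟨x, rfl⟩
      exact hφ.2.2.1 x
    · rintro ⟨_, x, rfl⟩
      rw [hθe]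
      exact hφ.2.1 x.2

end LiftData

variable [Finite S]

/-- A lift datum for a surjective invariant character. -/
theorem exists_liftData.{v, w} {Ω : Type v} [Group Ω] {S : Subgroup Ω} [Finite S] {F : FusionSystem S}
    (hS : IsPGroup p S) (hF : F.IsSaturated p) {A : Type w} [CommGroup A] (f : S →* A)
    (hf : Function.Surjective f)
    (hinv : ∀ {P : Subgroup Ω} {φ : P →* Ω}, φ ∈ F.Hom P → ∀ a a' : S, ∀ ha : (a : Ω) ∈ P,
      φ ⟨a, ha⟩ = (a' : Ω) → f a' = f a) :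
    ∃ (X : Type v) (_ : MulAction (S × S) X) (n : ℕ) (L : LiftData F X A n), ¬ p ∣ n ∧ L.f = f ∧
      ∀ {P : Subgroup Ω} {φ : P →* Ω}, φ ∈ F.Hom P → ∃ v, L.HasLift φ v := by
  obtain ⟨X, _, _, n, hcard, hn, hX, hst⟩ := exists_biset hS hF
  let l : (S × S) →* A := (f.comp (MonoidHom.fst S S))⁻¹ * f.comp (MonoidHom.snd S S)
  letI actA : MulAction (S × S) A := MulAction.compHom _ l
  obtain ⟨μ, hμ⟩ := exists_equivariant (K := S × S) (X := X) (Y := A) fun x => ⟨(1 : A), fun g hg => by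
    obtain ⟨P, φ, hφ, h⟩ := hX x
    obtain ⟨h1, h2⟩ := (h g).1 hg
    show l g • (1 : A) = 1
    show (f g.1)⁻¹ * f g.2 * 1 = 1
    rw [hinv hφ g.1 g.2 h1 h2, inv_mul_cancel, one_mul]⟩
  have hsmul : ∀ (a s : S) (y : X), μ (((a, s) : S × S) • y) = (f a)⁻¹ * f s * μ y := fun a s y => hμ (a, s) y
  obtain ⟨m, r, hr, hm, hC⟩ := exists_coord (G := S) (free_of_fdiag hX) (fun x => μ x = 1) fun x => by
    obtain ⟨u, hu⟩ := hf (μ x)⁻¹
    exact ⟨u, by rw [hsmul, map_one, inv_one, one_mul, hu, inv_mul_cancel]⟩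
  obtain rfl : n = m := Nat.eq_of_mul_eq_mul_right (Nat.card_pos (α := S)) (hcard.symm.trans hm)
  let L : LiftData F X A n := ⟨f, r, μ, hr, hinv, hsmul, hC, hX⟩
  refine ⟨X, _, n, L, hn, rfl, fun {P φ} hφ => ?_⟩
  obtain ⟨e, he⟩ := exists_equiv_of_hom hX hst hφ
  refine ⟨_, e, ⟨fun s y => ?_, fun a a' ha hc y => ?_⟩, rfl⟩
  · rw [he 1 P.one_mem s y]
    congr 1
    exact Prod.ext (Subtype.ext (map_one φ)) rfl
  · rw [he a ha 1 y]
    congr 1
    exact Prod.ext (Subtype.ext hc) rfl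

/-- Saturated subsystems of `p`-power index exist in index `p`. -/
theorem exists_index_p (hS : IsPGroup p S) {F : FusionSystem S} (hF : F.IsSaturated p) (hTS : T ≤ S)
    (hfoc : F.focalSubgroup ≤ T) (hidx : (T.subgroupOf S).index = p) :
    ∃ E : FusionSystem T, E.IsSaturated p ∧ E.HasPPowerIndexIn F p ∧
      ∀ P ≤ T, ∀ φ ∈ F.Hom P, ∃ g ∈ S, ∃ φ₀ ∈ E.Hom P, ∀ x, φ x = g * φ₀ x * g⁻¹ := by
  haveI hn : (T.subgroupOf S).Normal := ⟨fun x hx g => by
    rw [Subgroup.mem_subgroupOf] at hx ⊢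
    have h := hfoc (commutator_le_focal F (Subgroup.commutator_mem_commutator g.2 x.2) :)
    have h2 := T.mul_mem h hx
    rwa [commutatorElement_def, inv_mul_cancel_right] at h2⟩
  let A := S ⧸ T.subgroupOf S
  have hcardA : Nat.card A = p := hidx
  haveI : IsCyclic A := isCyclic_of_prime_card hcardA
  letI : CommGroup A := IsCyclic.commGroup
  let f : S →* A := QuotientGroup.mk' (T.subgroupOf S)
  have hker : ∀ g : S, (g : Ω) ∈ T ↔ f g = 1 := fun g =>
    ((QuotientGroup.eq_one_iff g).trans Subgroup.mem_subgroupOf).symm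
  have hinv : ∀ {P : Subgroup Ω} {φ : P →* Ω}, φ ∈ F.Hom P → ∀ a a' : S, ∀ ha : (a : Ω) ∈ P,
      φ ⟨a, ha⟩ = (a' : Ω) → f a' = f a := by
    intro P φ hφ a a' ha hc
    refine (QuotientGroup.eq.2 ?_).symm
    rw [Subgroup.mem_subgroupOf]
    have h : (a : Ω)⁻¹ * φ ⟨a, ha⟩ ∈ T := hfoc (Subgroup.subset_closure ⟨P, φ, ⟨a, ha⟩, hφ, rfl⟩)
    rwa [hc] at h
  obtain ⟨X, _, n, L, hn', hLf, hlift⟩ := exists_liftData hS hF f (QuotientGroup.mk'_surjective _) hinv
  rw [← hLf] at hker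
  have hTcl : F.StronglyClosed T := ⟨hTS, fun P hP φ hφ x => by
    have := L.inv hφ ⟨x, hom_le F hφ x.2⟩ ⟨φ x, hom_apply_mem F hφ x⟩ x.2 rfl
    exact (hker ⟨φ x, hom_apply_mem F hφ x⟩).2 (this.trans ((hker ⟨x, _⟩).1 (hP x.2)))⟩
  set E := L.sys hker hTS
  have hap : ∀ a : A, a ^ p = 1 := fun a => hcardA ▸ pow_card_eq_one'
  have hval : ∀ c : S, L.f c ≠ 1 → ∀ v : A, ∃ i : ℤ, ((L.f (c ^ i))⁻¹) ^ n = v := by
    intro c hc v
    have hne : ((L.f c)⁻¹) ^ n ≠ 1 := fun h => hc (inv_eq_one.1 (orderOf_eq_one_iff.1 (Nat.dvd_one.1 (by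
      have := Nat.dvd_gcd (orderOf_dvd_of_pow_eq_one (hap (L.f c)⁻¹)) (orderOf_dvd_of_pow_eq_one h)
      rwa [(hp.out.coprime_iff_not_dvd.2 hn').gcd_eq_one] at this))))
    haveI : Fact (Nat.card A).Prime := ⟨hcardA ▸ hp.out⟩
    obtain ⟨i, hi⟩ := Subgroup.mem_zpowers_iff.1
      ((zpowers_eq_top_of_prime_card hcardA hne).ge (Subgroup.mem_top v))
    refine ⟨i, ?_⟩
    rw [← hi, map_zpow, ← inv_zpow, ← zpow_natCast, ← _root_.zpow_mul, mul_comm, _root_.zpow_mul, zpow_natCast]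
  obtain ⟨g₀, hg₀⟩ : ∃ g : S, L.f g ≠ 1 := by
    haveI : Nontrivial A := Finite.one_lt_card_iff_nontrivial.1 (hcardA ▸ hp.out.one_lt)
    obtain ⟨a, ha⟩ := exists_ne (1 : A)
    obtain ⟨g, rfl⟩ := QuotientGroup.mk'_surjective _ a
    exact ⟨g, by rw [hLf]; exact ha⟩
  -- correct a map into the subsystem
  have hfix : ∀ P ≤ T, ∀ φ ∈ F.Hom P, ∃ g : S, ∃ φ₀ ∈ E.Hom P, ∀ x, φ x = (g : Ω) * φ₀ x * (g : Ω)⁻¹ := by
    intro P hP φ hφ
    obtain ⟨v, hv⟩ := hlift hφ
    obtain ⟨i, hi⟩ := hval g₀ hg₀ v⁻¹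
    have hR : ∀ x, φ x ∈ T := fun x => hTcl.2 P hP φ hφ x
    refine ⟨(g₀ ^ i)⁻¹, (conjHom T ((g₀ ^ i : S) : Ω)).comp (φ.codRestrict T hR), ⟨?_, hP, fun x => ?_, ?_⟩, fun x => ?_⟩
    · exact F.comp_mem hφ (F.conj_mem hTS (g₀ ^ i).2) hR
    · exact hTcl.2 T le_rfl _ (F.conj_mem hTS (g₀ ^ i).2) _
    · have := L.lift_comp hφ hv (L.lift_conj T (g₀ ^ i)) hR
      rwa [hi, mul_inv_cancel] at this
    · show φ x = ((g₀ ^ i : S) : Ω)⁻¹ * (((g₀ ^ i : S) : Ω) * φ x * ((g₀ ^ i : S) : Ω)⁻¹) * ((g₀ ^ i : S) : Ω)⁻¹⁻¹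
      group
  have hsub : E.IsSubsystemOf F := fun P φ h => h.1
  have hwd : ∀ {P : Subgroup Ω}, P ≤ S → L.CentTriv P → ∀ {φ : P →* Ω}, φ ∈ F.Hom P → ∀ {v w : A},
      L.HasLift φ v → L.HasLift φ w → v = w := by
    intro P hPS hc φ hφ v w hv hw
    obtain ⟨θ, hθ, hθe⟩ := F.inv_mem hφ
    have h3 := L.lift_comp hφ hv (L.lift_inv hφ hw hθe) fun x => ⟨x, rfl⟩
    obtain ⟨e, he, hval⟩ := L.lift_congr (φ' := P.subtype) h3 fun x => (hθe x).symm
    rw [L.val_eq_one hS hcardA hPS hc he] at hval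
    exact mul_inv_eq_one.1 hval.symm
  have hnc : ∀ {Q : Subgroup Ω}, F.IsFullyNormalized Q → ¬ L.CentTriv Q →
      ∃ c : S, (c : Ω) ∈ Subgroup.centralizer (Q : Set Ω) ∧ L.f c ≠ 1 := by
    intro Q hQ hc
    simp only [LiftData.CentTriv, not_forall] at hc
    obtain ⟨R, hR, u, hu, hfu⟩ := hc
    obtain ⟨ψ, hψ, -, hψR⟩ := exists_normalizer_map_fullyNormalized hS hF hQ (isConj_symm hR)
    have hRN := le_normalizerIn (isConj_le_right hR)
    have huN : (u : Ω) ∈ normalizerIn S R := ⟨u.2, Subgroup.centralizer_le_normalizer _ hu⟩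
    refine ⟨⟨ψ ⟨u, huN⟩, hom_apply_mem F hψ _⟩,
      apply_mem_centralizer ψ hRN (extend_restrict_range _ hψR) _ hu, ?_⟩
    rwa [L.inv hψ u ⟨ψ ⟨u, huN⟩, hom_apply_mem F hψ _⟩ huN rfl]
  refine ⟨E, ?_, ⟨hsub, (hyperfocal_le_focal F).trans hfoc, ?_⟩, fun P hP φ hφ => ?_⟩
  rotate_left
  · -- index
    intro P hP
    rw [Cfsg.pResidual, MonoidHom.map_closure, Subgroup.closure_le]
    rintro _ ⟨α, hα, rfl⟩
    have hPS := hP.trans hTS
    haveI := finite_of_le hPS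
    have hαm := (mem_autGroup_iff F hPS _).1 α.2
    obtain ⟨v, hv⟩ := hlift hαm
    have hcop : Nat.Coprime p (orderOf α) := Nat.Coprime.symm hα
    obtain ⟨k, hk0, hk1⟩ := Nat.chineseRemainder hcop 0 1
    have hpow : ∀ j : ℕ, L.HasLift (P.subtype.comp (((α ^ j : F.autGroup P) : MulAut P)).toMonoidHom) (v ^ j) := by
      intro j
      induction j with
      | zero =>
        rw [pow_zero v]
        exact L.lift_congr (L.lift_subtype P) fun x => by simp
      | succ j ih =>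
        rw [pow_succ v]
        have h := L.lift_comp ((mem_autGroup_iff F hPS _).1 (α ^ j).2) ih hv fun x => (((α ^ j : F.autGroup P) : MulAut P) x).2
        exact L.lift_congr h fun x => by rw [pow_succ' α]; rfl
    refine (mem_autGroup_iff E hP _).2 ⟨hαm, hP, fun x => hP ((α : MulAut P) x).2, ?_⟩
    have h := hpow k
    rw [pow_eq_pow_of_modEq hk1 (pow_orderOf_eq_one α), pow_one] at h
    rwa [pow_eq_pow_of_modEq hk0 (hap v), pow_zero] at h
  · obtain ⟨g, φ₀, h0, he⟩ := hfix P hP φ hφ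
    exact ⟨g, g.2, φ₀, h0, he⟩
  -- saturation
  haveI := finite_of_le hTS
  intro P hP
  obtain ⟨Q₀, ⟨φ, hφ, hφr⟩, hQ₀⟩ := exists_fullyNormalized F (hP.trans hTS)
  obtain ⟨g, φ₀, hφ₀, he⟩ := hfix P hP φ hφ
  set Q := φ₀.range
  have hQT : Q ≤ T := by rintro _ ⟨x, rfl⟩; exact hφ₀.2.2.1 x
  have hQS := hQT.trans hTS
  have hQ : F.IsFullyNormalized Q := by
    refine ⟨hQS, fun R hR => le_trans (hQ₀.2 R (isConj_trans (isConj_symm ⟨φ, hφ, hφr⟩)
      (isConj_trans ⟨φ₀, hφ₀.1, rfl⟩ hR))) ?_⟩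
    haveI := finite_of_le hQS
    have hNm := F.conj_mem (normalizerIn_le S Q₀) (S.inv_mem g.2)
    refine card_le_of_hom F hNm le_rfl (normalizerIn_le S Q) fun x hx => ⟨hom_apply_mem F hNm _, ?_⟩
    refine mem_normalizer_of_conj_mem_finite ?_
    rintro _ ⟨y, rfl⟩
    have h1 : φ y ∈ Q₀ := hφr ▸ ⟨y, rfl⟩
    obtain ⟨z, hz⟩ := hφr.ge ((Subgroup.mem_normalizer_iff.1 hx.2 _).1 h1)
    refine ⟨z, ?_⟩
    rw [he] at hz
    show φ₀ z = (g : Ω)⁻¹ * x * (g : Ω)⁻¹⁻¹ * φ₀ y * ((g : Ω)⁻¹ * x * (g : Ω)⁻¹⁻¹)⁻¹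
    rw [he] at hz
    calc φ₀ z = (g : Ω)⁻¹ * ((g : Ω) * φ₀ z * (g : Ω)⁻¹) * g := by group
      _ = (g : Ω)⁻¹ * (x * ((g : Ω) * φ₀ y * (g : Ω)⁻¹) * x⁻¹) * g := by rw [hz]
      _ = _ := by group
  haveI := finite_of_le hQS
  have hsyl := isSyl_of_fullyAutomized (fullyNormalized_imp hS hF hQ).2
  have hmemE : ∀ α : MulAut Q, α ∈ F.autGroup Q → L.HasLift (Q.subtype.comp α.toMonoidHom) 1 → α ∈ E.autGroup Q :=
    fun α hα h => (mem_autGroup_iff E hQT α).2 ⟨(mem_autGroup_iff F hQS α).1 hα, hQT, fun x => hQT (α x).2, h⟩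
  refine ⟨Q, ⟨φ₀, hφ₀, rfl⟩, ?_, hQT, ?_⟩
  · refine fullyAutomized_of_isSyl_aut hQT ?_
    by_cases hc : L.CentTriv Q
    · have hn : F.autGroup Q ≤ Subgroup.normalizer (E.autGroup Q : Set (MulAut Q)) := by
        have key : ∀ γ ∈ F.autGroup Q, ∀ c ∈ E.autGroup Q, γ * c * γ⁻¹ ∈ E.autGroup Q := by
          intro γ hγ c hc'
          have hγm := (mem_autGroup_iff F hQS γ).1 hγ
          obtain ⟨v, hv⟩ := hlift hγm
          obtain ⟨w, hw⟩ := hlift ((mem_autGroup_iff F hQS γ⁻¹).1 (Subgroup.inv_mem _ hγ))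
          have hcm := (mem_autGroup_iff E hQT c).1 hc'
          have hi : w * v = 1 := hwd hQS hc (subtype_mem F hQS)
            (L.lift_congr (φ' := Q.subtype) (L.lift_comp ((mem_autGroup_iff F hQS γ⁻¹).1 (Subgroup.inv_mem _ hγ)) hw hv
              fun x => (γ⁻¹ x).2) fun x => (congrArg Subtype.val (γ.apply_symm_apply x)).symm) (L.lift_subtype Q)
          refine hmemE _ (Subgroup.mul_mem _ (Subgroup.mul_mem _ hγ (autGroup_mono hsub Q hc')) (Subgroup.inv_mem _ hγ)) ?_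
          have h1 := L.lift_comp ((mem_autGroup_iff F hQS γ⁻¹).1 (Subgroup.inv_mem _ hγ)) hw hcm.2.2.2 fun x => (γ⁻¹ x).2
          have h2 := L.lift_comp (F.comp_mem ((mem_autGroup_iff F hQS γ⁻¹).1 (Subgroup.inv_mem _ hγ)) hcm.1
            fun x => (γ⁻¹ x).2) h1 hv fun x => (c (γ⁻¹ x)).2
          rw [mul_one, hi] at h2
          exact L.lift_congr h2 fun x => rfl
        intro γ hγ
        rw [Subgroup.mem_normalizer_iff]
        refine fun c => ⟨key γ hγ c, fun h => ?_⟩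
        have := key γ⁻¹ (Subgroup.inv_mem _ hγ) _ h
        simpa [mul_assoc] using this
      have h1 := hsyl.inf_normal (autGroup_mono hsub Q) hn
      have heq : autInducedBy S Q ⊓ E.autGroup Q = autInducedBy T Q := by
        refine le_antisymm ?_ (le_inf (autInducedBy_mono hTS) (autInducedBy_le_autGroup E hQT))
        rintro c ⟨hcS, hcE⟩
        obtain ⟨s, hs, hse⟩ := (mem_autInducedBy_iff c).1 hcS
        have hcm := (mem_autGroup_iff E hQT c).1 hcE
        have h2 := hwd hQS hc hcm.1 (L.lift_congr (φ' := Q.subtype.comp c.toMonoidHom) (L.lift_conj Q ⟨s, hs⟩)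
          fun x => hse x) hcm.2.2.2
        refine (mem_autInducedBy_iff c).2 ⟨s, (hker ⟨s, hs⟩).2 ?_, hse⟩
        by_contra hne
        have h3 := Nat.dvd_gcd (orderOf_dvd_of_pow_eq_one (hap (L.f ⟨s, hs⟩)⁻¹)) (orderOf_dvd_of_pow_eq_one h2)
        rw [(hp.out.coprime_iff_not_dvd.2 hn').gcd_eq_one] at h3
        exact hne (inv_eq_one.1 (orderOf_eq_one_iff.1 (Nat.dvd_one.1 h3)))
      rwa [heq] at h1
    · obtain ⟨c, hcQ, hcf⟩ := hnc hQ hc
      have hciQ : ∀ (i : ℤ), ((c ^ i : S) : Ω) ∈ Subgroup.centralizer (Q : Set Ω) := fun i => by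
        rw [Subgroup.coe_zpow]; exact Subgroup.zpow_mem _ hcQ i
      have hconjQ : ∀ (i : ℤ) (x : Q), ((c ^ i : S) : Ω) * (x : Ω) * ((c ^ i : S) : Ω)⁻¹ = x := fun i x => by
        rw [← Subgroup.mem_centralizer_iff.1 (hciQ i) x x.2, mul_inv_cancel_right]
      have hA : E.autGroup Q = F.autGroup Q := by
        refine le_antisymm (autGroup_mono hsub Q) fun α hα => ?_
        have hαm := (mem_autGroup_iff F hQS α).1 hα
        obtain ⟨v, hv⟩ := hlift hαm
        obtain ⟨i, hi⟩ := hval c hcf v⁻¹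
        refine hmemE α hα ?_
        have h := L.lift_comp hαm hv (L.lift_conj Q (c ^ i)) fun x => (α x).2
        rw [hi, mul_inv_cancel] at h
        exact L.lift_congr h fun x => (hconjQ i (α x)).symm
      have heq : autInducedBy S Q = autInducedBy T Q := by
        refine le_antisymm ?_ (autInducedBy_mono hTS)
        intro a ha
        obtain ⟨s, hs, hse⟩ := (mem_autInducedBy_iff a).1 ha
        obtain ⟨i, hi⟩ := hval c hcf (((L.f ⟨s, hs⟩)⁻¹) ^ n)⁻¹
        refine (mem_autInducedBy_iff a).2 ⟨s * ((c ^ i : S) : Ω), (hker (⟨s, hs⟩ * c ^ i)).2 ?_, fun x => ?_⟩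
        · have h3 : ((L.f (⟨s, hs⟩ * c ^ i))⁻¹) ^ n = 1 := by
            rw [map_mul, mul_inv, mul_pow, hi, mul_inv_cancel]
          by_contra hne
          have h4 := Nat.dvd_gcd (orderOf_dvd_of_pow_eq_one (hap (L.f (⟨s, hs⟩ * c ^ i))⁻¹)) (orderOf_dvd_of_pow_eq_one h3)
          rw [(hp.out.coprime_iff_not_dvd.2 hn').gcd_eq_one] at h4
          exact hne (inv_eq_one.1 (orderOf_eq_one_iff.1 (Nat.dvd_one.1 h4)))
        · rw [hse, show s * ((c ^ i : S) : Ω) * (x : Ω) * (s * ((c ^ i : S) : Ω))⁻¹ =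
            s * (((c ^ i : S) : Ω) * (x : Ω) * ((c ^ i : S) : Ω)⁻¹) * s⁻¹ by group, hconjQ]
      rwa [hA, ← heq]
  · intro P' χ hχ hr
    obtain ⟨ψ, hψ, hψe⟩ := (fullyNormalized_receptive hS hF hQ).2 P' χ hχ.1 hr
    have hle : extender T P' χ ≤ extender S P' χ := Subgroup.closure_mono
      fun g hg => ⟨hTS hg.1, hg.2.1, hg.2.2.choose, hTS hg.2.2.choose_spec.1, hg.2.2.choose_spec.2⟩
    have hψ' := restrict_mem F hψ hle
    have hRT : extender T P' χ ≤ T := (extender_le_normalizerIn χ).trans (normalizerIn_le T P')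
    set ν := ψ.comp (Subgroup.inclusion hle)
    have hPe : P' ≤ extender T P' χ := le_extender E hχ
    have hνe : ∀ x : P', ν (Subgroup.inclusion hPe x) = χ x := fun x => hψe x x.2 _
    obtain ⟨v, hv⟩ := hlift hψ'
    by_cases hc : L.CentTriv Q
    · have hcP : L.CentTriv P' := fun R hR => hc R (isConj_trans (isConj_symm ⟨χ, hχ.1, hr⟩) hR)
      have h1 : v = 1 := hwd (hχ.2.1.trans hTS) hcP hχ.1
        (L.lift_congr (L.lift_restrict hv hPe) fun x => (hνe x).symm) hχ.2.2.2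
      subst h1
      exact ⟨ν, ⟨hψ', hRT, fun x => hTcl.2 _ hRT ν hψ' x, hv⟩, fun x hx hN => hνe ⟨x, hx⟩⟩
    · obtain ⟨c, hcQ, hcf⟩ := hnc hQ hc
      obtain ⟨i, hi⟩ := hval c hcf v⁻¹
      have hS' : ∀ x, ν x ∈ S := hom_apply_mem F hψ'
      refine ⟨(conjHom S ((c ^ i : S) : Ω)).comp (ν.codRestrict S hS'),
        ⟨F.comp_mem hψ' (F.conj_mem le_rfl (c ^ i).2) hS', hRT, fun x => ?_, ?_⟩, fun x hx hN => ?_⟩
      · exact hTcl.2 _ hRT _ (F.comp_mem hψ' (F.conj_mem le_rfl (c ^ i).2) hS') x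
      · have h := L.lift_comp hψ' hv (L.lift_conj S (c ^ i)) hS'
        rwa [hi, mul_inv_cancel] at h
      · show ((c ^ i : S) : Ω) * ν ⟨x, hN⟩ * ((c ^ i : S) : Ω)⁻¹ = _
        rw [show ν ⟨x, hN⟩ = χ ⟨x, hx⟩ from hνe ⟨x, hx⟩]
        have hq : χ ⟨x, hx⟩ ∈ Q := hr.le ⟨_, rfl⟩
        have hci : ((c ^ i : S) : Ω) ∈ Subgroup.centralizer (Q : Set Ω) := by
          rw [Subgroup.coe_zpow]; exact Subgroup.zpow_mem _ hcQ i
        rw [← Subgroup.mem_centralizer_iff.1 hci _ hq, mul_inv_cancel_right]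

end Cfsg.Agent.FusionSys
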