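import Cfsg.Agent.Lib.Fusion.Simple
import Cfsg.Agent.Lib.Classical.SL
import Cfsg.Agent.Lib.LinearBlock.SylowTwoRankOne
import Cfsg.Agent.Lib.FiniteGroup.FrattiniAut
import Cfsg.Agent.Lib.TwoGroups.WreathedSubgroups
import Cfsg.Agent.S3116

/-!
# The 2-fusion system of `PSL(3, F)`, `F` of odd order, is simple

A strongly closed subgroup contains the involutions, hence every element of the Sylow subgroup inverted by an
involution; these generate; and `Aut(S)` is a 2-group.
-/

set_option autoImplicit false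

namespace Cfsg.Agent.FusionPSL3Two

open Cfsg Cfsg.FusionSystem Cfsg.Agent.FusionSys
open scoped Matrix
open scoped commutatorElement

/-- The automorphism group of a wreathed group is a 2-group. -/
theorem aut_wreathed {S : Type*} [Group S] [Finite S] (hS : Cfsg.IsWreathed S) : IsPGroup 2 (MulAut S) := by
  obtain ⟨d, -⟩ := Wreath.exists_pres hS
  have hp : IsPGroup 2 S := IsPGroup.of_card d.hcard
  haveI : Group.IsNilpotent S := hp.isNilpotent
  set Φ := frattini S with hΦ
  let π := QuotientGroup.mk' Φ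
  have hπ : ∀ a b : S, π a = π b ↔ a * b⁻¹ ∈ Φ := by
    intro a b
    rw [← mul_inv_eq_one, ← map_inv, ← map_mul]
    exact QuotientGroup.eq_one_iff _
  have hcomm : ∀ a b : S, π a * π b = π b * π a := by
    intro a b
    rw [← map_mul, ← map_mul, hπ]
    refine SolvStruct.commutator_le_frattini S ?_
    rw [show a * b * (b * a)⁻¹ = ⁅a, b⁆ by rw [commutatorElement_def]; group]
    exact Subgroup.commutator_mem_commutator (Subgroup.mem_top _) (Subgroup.mem_top _)
  have hsq : ∀ a : S, π a * π a = 1 := fun a => by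
    rw [← map_mul, ← pow_two]; exact (QuotientGroup.eq_one_iff _).2 (PGroupBasics.pow_mem_frattini hp a)
  have hzp : ∀ (a : S) (k : ℤ), π a ^ k = 1 ∨ π a ^ k = π a := by
    intro a k
    rcases Int.even_or_odd' k with ⟨j, rfl | rfl⟩
    · left; rw [zpow_mul, zpow_two, hsq, one_zpow]
    · right; rw [zpow_add, zpow_mul, zpow_two, hsq, one_zpow, one_mul, zpow_one]
  have hy : π d.y = π d.x := by
    rw [← d.hsx, map_mul, map_mul, hcomm d.s d.x, mul_assoc, map_inv, mul_inv_cancel, mul_one]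
  have hU : ∀ g ∈ d.U, π g = 1 ∨ π g = π d.x := by
    intro g hg
    obtain ⟨a, b, rfl⟩ := d.mem_U.1 hg
    rw [Wreath.Pres.u, map_mul, map_zpow, map_zpow, hy, ← zpow_add]
    exact hzp _ _
  have hαU : ∀ α : MulAut S, ∀ g ∈ d.U, α g ∈ d.U := by
    intro α g hg
    have : (d.U).map α.toMonoidHom = d.U := by
      refine d.unique_abelian ?_ ?_
      · haveI := d.U_comm
        exact Subgroup.map_isMulCommutative _ _
      · rw [Subgroup.card_map_of_injective α.injective, d.card_U]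
    exact this ▸ ⟨g, hg, rfl⟩
  have hαΦ : ∀ (α : MulAut S) (g : S), π g = 1 → π (α g) = 1 := by
    intro α g hg
    have hg' := (QuotientGroup.eq_one_iff g).1 hg
    refine (QuotientGroup.eq_one_iff _).2 ?_
    have h1 := (inferInstance : Φ.Characteristic).fixed α
    rw [← h1] at hg'
    exact hg'
  have hfixU : ∀ (α : MulAut S), ∀ g ∈ d.U, π (α g) = π g := by
    intro α g hg
    rcases hU g hg with h | h
    · rw [h, hαΦ α g h]
    rcases hU (α g) (hαU α g hg) with h' | h'
    · have h2 := hαΦ α⁻¹ (α g) h'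
      rw [show α⁻¹ (α g) = g from α.symm_apply_apply g] at h2
      rw [h2, h']
    · rw [h, h']
  have hsquare : ∀ (α : MulAut S) (g : S), π ((α ^ 2) g) = π g := by
    intro α g
    rw [pow_two, MulAut.mul_apply]
    by_cases hg : g ∈ d.U
    · rw [hfixU α _ (hαU α g hg), hfixU α g hg]
    have hαg : α g ∉ d.U := fun h => hg (by
      have := hαU α⁻¹ _ h
      rwa [show α⁻¹ (α g) = g from α.symm_apply_apply g] at this)
    have hu : α g * g⁻¹ ∈ d.U := by
      rw [Subgroup.mul_mem_iff_of_index_two d.index_U, inv_mem_iff]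
      exact iff_of_false hαg hg
    have hαg' : π (α g) = π (α g * g⁻¹) * π g := by rw [← map_mul, inv_mul_cancel_right]
    calc π (α (α g)) = π (α (α g * g⁻¹) * α g) := by rw [← map_mul α, inv_mul_cancel_right]
      _ = π (α g * g⁻¹) * (π (α g * g⁻¹) * π g) := by rw [map_mul, hfixU α _ hu, ← hαg']
      _ = π g := by rw [← mul_assoc, hsq, one_mul]
  obtain ⟨n, hn⟩ := IsPGroup.iff_card.1 hp
  obtain ⟨r, -, hr⟩ := (Nat.dvd_prime_pow Nat.prime_two).1 (hn ▸ Φ.index_dvd_card)
  intro α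
  have hA := FrattiniAut.card_dvd_of_trivial (p := 2) hn hr (Subgroup.zpowers (α ^ 2)) (by
    rintro β ⟨k, rfl⟩ g
    refine (hπ _ _).1 ?_
    show π (((α ^ 2) ^ k) g) = π g
    rw [← zpow_natCast α 2, ← _root_.zpow_mul, mul_comm, _root_.zpow_mul, zpow_natCast]
    exact hsquare _ g)
  obtain ⟨k, -, hk⟩ := (Nat.dvd_prime_pow Nat.prime_two).1 hA
  rw [Nat.card_zpowers] at hk
  refine ⟨k + 1, ?_⟩
  rw [pow_succ', pow_mul, ← hk, pow_orderOf_eq_one]

variable {F : Type*} [Field F] [Fintype F]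

/-- `g ↦ diag (g, det g⁻¹)`. -/
def jj (g : GL (Fin 2) F) : Matrix (Fin 3) (Fin 3) F :=
  !![(g : Matrix (Fin 2) (Fin 2) F) 0 0, (g : Matrix (Fin 2) (Fin 2) F) 0 1, 0;
     (g : Matrix (Fin 2) (Fin 2) F) 1 0, (g : Matrix (Fin 2) (Fin 2) F) 1 1, 0;
     0, 0, ((Matrix.GeneralLinearGroup.det g)⁻¹ : Fˣ)]

theorem det_jj (g : GL (Fin 2) F) : (jj g).det = 1 := by
  have h : (g : Matrix (Fin 2) (Fin 2) F).det * ((Matrix.GeneralLinearGroup.det g)⁻¹ : Fˣ) = 1 :=
    Units.mul_inv (Matrix.GeneralLinearGroup.det g)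
  rw [Matrix.det_fin_two] at h
  rw [jj, Matrix.det_fin_three]
  generalize (((Matrix.GeneralLinearGroup.det g)⁻¹ : Fˣ) : F) = D at h ⊢
  simp
  linear_combination h

/-- The embedding of `GL₂` in `SL₃`. -/
def jHom : GL (Fin 2) F →* Matrix.SpecialLinearGroup (Fin 3) F :=
  MonoidHom.mk' (fun g => ⟨jj g, det_jj g⟩) fun g h => by
    refine Subtype.ext ?_
    show jj (g * h) = jj g * jj h
    rw [jj, jj, jj, map_mul, mul_inv, Units.val_mul]
    ext i k
    fin_cases i <;> fin_cases k <;>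
      simp [Matrix.mul_apply, Fin.sum_univ_three, Fin.sum_univ_two, -Units.val_inv_eq_inv_val]

theorem jHom_injective : Function.Injective (jHom (F := F)) := by
  intro g h he
  have h1 := congrArg (fun x : Matrix.SpecialLinearGroup (Fin 3) F => (x : Matrix (Fin 3) (Fin 3) F)) he
  refine Units.ext (Matrix.ext fun i k => ?_)
  have e := congrFun (congrFun h1 (Fin.castSucc i)) (Fin.castSucc k)
  revert e
  fin_cases i <;> fin_cases k <;> exact fun e => e

/-- A diagonal matrix. -/
def diag2 : Fˣ × Fˣ →* GL (Fin 2) F :=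
  (Units.map (Matrix.diagonalRingHom (Fin 2) F).toMonoidHom).comp
    (MonoidHom.mk' (fun z => MulEquiv.piUnits.symm ![z.1, z.2]) fun a b => by
      rw [← map_mul]; congr 1; funext i; fin_cases i <;> rfl)

theorem diag2_coe (a c : Fˣ) : ((diag2 (a, c) : GL (Fin 2) F) : Matrix (Fin 2) (Fin 2) F) = !![(a : F), 0; 0, (c : F)] := by
  ext i k
  fin_cases i <;> fin_cases k <;> simp [diag2]

theorem det_diag2 (a c : Fˣ) : Matrix.GeneralLinearGroup.det (diag2 (a, c) : GL (Fin 2) F) = a * c := by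
  refine Units.ext ?_
  show ((diag2 (a, c) : GL (Fin 2) F) : Matrix (Fin 2) (Fin 2) F).det = (a : F) * c
  rw [diag2_coe, Matrix.det_fin_two]; simp

variable [Fact (ringChar F ≠ 2)]

theorem two_ne : (2 : F) ≠ 0 := Ring.two_ne_zero Fact.out

/-- An involution of `GL₂` other than `-1` is conjugate to `diag (1, -1)`. -/
theorem involution_gl {w : GL (Fin 2) F} (h2 : w * w = 1) (h1 : w ≠ 1) (hm : w ≠ -1) :
    ∃ g : GL (Fin 2) F, g⁻¹ * w * g = diag2 (1, -1) := by
  set a := (w : Matrix (Fin 2) (Fin 2) F) 0 0 with ha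
  set c := (w : Matrix (Fin 2) (Fin 2) F) 0 1 with hc
  set c' := (w : Matrix (Fin 2) (Fin 2) F) 1 0 with hc'
  set e := (w : Matrix (Fin 2) (Fin 2) F) 1 1 with he
  have hw : (w : Matrix (Fin 2) (Fin 2) F) = !![a, c; c', e] := Matrix.eta_fin_two _
  have hsq : !![a, c; c', e] * !![a, c; c', e] = (1 : Matrix (Fin 2) (Fin 2) F) := by
    rw [← hw, ← Matrix.GeneralLinearGroup.coe_mul, h2, Matrix.GeneralLinearGroup.coe_one]
  have e00 : a * a + c * c' = 1 := by simpa using congrFun (congrFun hsq 0) 0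
  have e01 : a * c + c * e = 0 := by simpa using congrFun (congrFun hsq 0) 1
  have e10 : c' * a + e * c' = 0 := by simpa using congrFun (congrFun hsq 1) 0
  have e11 : c' * c + e * e = 1 := by simpa using congrFun (congrFun hsq 1) 1
  have hea : e = -a := by
    by_contra hne
    have hs : a + e ≠ 0 := fun h => hne (by linear_combination h)
    have hc0 : c = 0 := (mul_eq_zero.1 (show c * (a + e) = 0 by linear_combination e01)).resolve_right hs
    have hc0' : c' = 0 := (mul_eq_zero.1 (show c' * (a + e) = 0 by linear_combination e10)).resolve_right hs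
    rw [hc0, zero_mul, add_zero] at e00
    rw [hc0', zero_mul, zero_add] at e11
    rcases mul_self_eq_one_iff.1 e00 with ha1 | ha1 <;> rcases mul_self_eq_one_iff.1 e11 with he1 | he1
    · refine h1 (Units.ext ?_)
      rw [hw, hc0, hc0', ha1, he1, Matrix.GeneralLinearGroup.coe_one, Matrix.one_fin_two]
    · exact hs (by rw [ha1, he1]; ring)
    · exact hs (by rw [ha1, he1]; ring)
    · refine hm (Units.ext ?_)
      rw [hw, hc0, hc0', ha1, he1, Units.val_neg, Matrix.GeneralLinearGroup.coe_one, Matrix.one_fin_two]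
      simp
  suffices h : ∃ M : Matrix (Fin 2) (Fin 2) F, M.det ≠ 0 ∧ !![a, c; c', e] * M = M * !![1, 0; 0, -1] by
    obtain ⟨M, hM, hMe⟩ := h
    refine ⟨Matrix.GeneralLinearGroup.mkOfDetNeZero M hM, ?_⟩
    rw [mul_assoc, inv_mul_eq_iff_eq_mul]
    refine Units.ext ?_
    rw [Matrix.GeneralLinearGroup.coe_mul, Matrix.GeneralLinearGroup.coe_mul, hw, diag2_coe]
    simpa using hMe
  rw [hea]
  by_cases hc0 : c = 0
  · rw [hc0, zero_mul, add_zero] at e00
    rw [hc0]
    rcases mul_self_eq_one_iff.1 e00 with ha1 | ha1 <;> rw [ha1]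
    · refine ⟨!![2, 0; c', 1], by simp [Matrix.det_fin_two, two_ne], ?_⟩
      ext i k; fin_cases i <;> fin_cases k <;> simp [Matrix.mul_apply, Fin.sum_univ_two]
      ring
    · refine ⟨!![0, 2; 1, -c'], by simp [Matrix.det_fin_two, two_ne], ?_⟩
      ext i k; fin_cases i <;> fin_cases k <;> simp [Matrix.mul_apply, Fin.sum_univ_two]
      ring
  · refine ⟨!![c, c; 1 - a, -1 - a], ?_, ?_⟩
    · rw [Matrix.det_fin_two]
      intro h
      simp at h
      exact mul_ne_zero two_ne hc0 (by linear_combination -h)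
    · ext i k; fin_cases i <;> fin_cases k <;> simp [Matrix.mul_apply, Fin.sum_univ_two]
      · ring
      · ring
      · linear_combination e00
      · linear_combination e00

/-- An element of determinant 1 is inverted by an involution. -/
theorem exists_inverting (h : GL (Fin 2) F) (hd : Matrix.GeneralLinearGroup.det h = 1) :
    ∃ u : GL (Fin 2) F, u * u = 1 ∧ u * h * (u * h) = 1 := by
  set a := (h : Matrix (Fin 2) (Fin 2) F) 0 0
  set c := (h : Matrix (Fin 2) (Fin 2) F) 0 1
  set c' := (h : Matrix (Fin 2) (Fin 2) F) 1 0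
  set e := (h : Matrix (Fin 2) (Fin 2) F) 1 1
  have hh : (h : Matrix (Fin 2) (Fin 2) F) = !![a, c; c', e] := Matrix.eta_fin_two _
  have hdet : a * e - c * c' = 1 := by
    rw [← Matrix.det_fin_two, show (h : Matrix (Fin 2) (Fin 2) F).det = ((Matrix.GeneralLinearGroup.det h : Fˣ) : F) from rfl,
      hd, Units.val_one]
  suffices key : ∃ k l m : F, k * k + l * m = 1 ∧ k * a + l * c' + m * c - k * e = 0 by
    obtain ⟨k, l, m, hkl, htr⟩ := key
    have hu2 : !![k, l; m, -k] * !![k, l; m, -k] = (1 : Matrix (Fin 2) (Fin 2) F) := by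
      ext i j; fin_cases i <;> fin_cases j <;> simp [Matrix.mul_apply, Fin.sum_univ_two]
      · linear_combination hkl
      · ring
      · ring
      · linear_combination hkl
    let u : GL (Fin 2) F := ⟨!![k, l; m, -k], !![k, l; m, -k], hu2, hu2⟩
    refine ⟨u, Units.ext hu2, Units.ext ?_⟩
    rw [Matrix.GeneralLinearGroup.coe_mul, Matrix.GeneralLinearGroup.coe_mul, hh, Matrix.GeneralLinearGroup.coe_one]
    show !![k, l; m, -k] * _ * (!![k, l; m, -k] * _) = 1
    ext i j; fin_cases i <;> fin_cases j <;> simp [Matrix.mul_apply, Fin.sum_univ_two]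
    · linear_combination (k * a + l * c') * htr + (a * e - c * c') * hkl + hdet
    · linear_combination (k * c + l * e) * htr
    · linear_combination (m * a - k * c') * htr
    · linear_combination (m * c - k * e) * htr + (a * e - c * c') * hkl + hdet
  by_cases hc : c = 0
  · by_cases hc' : c' = 0
    · exact ⟨0, 1, 1, by ring, by rw [hc, hc']; ring⟩
    · exact ⟨1, (e - a) / c', 0, by ring, by field_simp; ring⟩
  · exact ⟨1, 0, (e - a) / c, by ring, by field_simp; ring⟩

/-- The antidiagonal involution. -/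
def anti : Matrix.SpecialLinearGroup (Fin 3) F :=
  ⟨!![0, 0, 1; 0, -1, 0; 1, 0, 0], by simp [Matrix.det_fin_three]⟩

/-- A cyclic permutation. -/
def cyc : Matrix.SpecialLinearGroup (Fin 3) F :=
  ⟨!![0, 1, 0; 0, 0, 1; 1, 0, 0], by simp [Matrix.det_fin_three]⟩

theorem anti_sq : (anti : Matrix.SpecialLinearGroup (Fin 3) F) * anti = 1 := by
  refine Subtype.ext ?_
  show (anti (F := F)).1 * (anti (F := F)).1 = 1
  ext i k
  fin_cases i <;> fin_cases k <;> simp [anti, Matrix.mul_apply, Fin.sum_univ_three]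

theorem anti_inverts (δ : Fˣ) :
    anti * jHom (diag2 (δ, 1)) * (anti * jHom (diag2 (δ, 1))) = (1 : Matrix.SpecialLinearGroup (Fin 3) F) := by
  refine Subtype.ext ?_
  show (anti (F := F)).1 * jj _ * ((anti (F := F)).1 * jj _) = 1
  rw [jj, det_diag2, diag2_coe]
  ext i k
  fin_cases i <;> fin_cases k <;> simp [anti, Matrix.mul_apply, Fin.sum_univ_three]

theorem neg_conj :
    (jHom (F := F) (-1) : Matrix.SpecialLinearGroup (Fin 3) F) = cyc * jHom (diag2 (1, -1)) * cyc⁻¹ := by
  have hn : Matrix.GeneralLinearGroup.det (-1 : GL (Fin 2) F) = 1 := by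
    refine Units.ext ?_
    show ((-1 : GL (Fin 2) F) : Matrix (Fin 2) (Fin 2) F).det = 1
    simp [Matrix.det_fin_two]
  rw [eq_mul_inv_iff_mul_eq]
  refine Subtype.ext ?_
  show jj _ * (cyc (F := F)).1 = (cyc (F := F)).1 * jj _
  rw [jj, jj, det_diag2, diag2_coe, hn]
  ext i k
  fin_cases i <;> fin_cases k <;> simp [cyc, Matrix.mul_apply, Fin.sum_univ_three]

/-- In a group, a strongly closed subgroup containing all involutions of `S` contains the elements of `S`
inverted by involutions. -/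
theorem real_mem {G : Type*} [Group G] [Finite G] (S : Sylow 2 G) (T : Subgroup G)
    (hinv : ∀ y ∈ (S : Subgroup G), y * y = 1 → y ∈ T)
    (hcl : ∀ g : G, ∀ x ∈ T, g * x * g⁻¹ ∈ (S : Subgroup G) → g * x * g⁻¹ ∈ T)
    {x u : G} (hx : x ∈ (S : Subgroup G)) (hu : u * u = 1) (hux : u * x * (u * x) = 1) : x ∈ T := by
  have hui : u⁻¹ = u := inv_eq_of_mul_eq_one_right hu
  have hconj : u * x * u⁻¹ = x⁻¹ := by
    rw [hui, eq_inv_iff_mul_eq_one, mul_assoc (u * x) u x]; exact hux
  have hn : u ∈ Subgroup.normalizer (Subgroup.zpowers x : Set G) := by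
    rw [Subgroup.mem_normalizer_iff_map_conj_eq, MonoidHom.map_zpowers]
    show Subgroup.zpowers (u * x * u⁻¹) = _
    rw [hconj, Subgroup.zpowers_inv]
  have hp : IsPGroup 2 (Subgroup.zpowers x ⊔ Subgroup.zpowers u : Subgroup G) := by
    refine IsPGroup.to_sup_of_normal_left' ?_ ?_ (Subgroup.zpowers_le.2 hn)
    · exact S.2.to_le (Subgroup.zpowers_le.2 hx)
    · intro ⟨y, k, hk⟩
      refine ⟨1, Subtype.ext ?_⟩
      show y ^ 2 ^ 1 = 1
      rw [pow_one, ← hk, ← zpow_natCast, ← _root_.zpow_mul, mul_comm, _root_.zpow_mul, zpow_natCast,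
        pow_two, hu, one_zpow]
  obtain ⟨R, hR⟩ := hp.exists_le_sylow
  obtain ⟨g, hg⟩ := MulAction.exists_smul_eq G R S
  have hmem : ∀ y ∈ (R : Subgroup G), g * y * g⁻¹ ∈ (S : Subgroup G) := fun y hy => by
    rw [← hg, Sylow.coe_subgroup_smul]; exact ⟨y, hy, rfl⟩
  have huR : u ∈ (R : Subgroup G) := hR (Subgroup.mem_sup_right (Subgroup.mem_zpowers u))
  have hxR : x ∈ (R : Subgroup G) := hR (Subgroup.mem_sup_left (Subgroup.mem_zpowers x))
  have h1 := hinv _ (hmem u huR) (by rw [conj_mul, hu, mul_one, mul_inv_cancel])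
  have h2 := hinv _ (hmem _ (mul_mem huR hxR)) (by rw [conj_mul, hux, mul_one, mul_inv_cancel])
  have h3 := T.mul_mem h1 h2
  rw [conj_mul, ← mul_assoc u, hu, one_mul] at h3
  have h4 := hcl g⁻¹ _ h3
  rw [show g⁻¹ * (g * x * g⁻¹) * g⁻¹⁻¹ = x by group] at h4
  exact h4 hx

theorem psl3_isSimple (S : Sylow 2 (Matrix.ProjectiveSpecialLinearGroup (Fin 3) F)) :
    (groupFusionSystem (S : Subgroup (Matrix.ProjectiveSpecialLinearGroup (Fin 3) F))).IsSimple 2 := by
  classical
  set π := QuotientGroup.mk' (Subgroup.center (Matrix.SpecialLinearGroup (Fin 3) F))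
  set f := π.comp jHom with hf
  let μ : Sylow 2 Fˣ := default
  have hμ : ∀ (a : Fˣ) (k : ℕ), a ^ 2 ^ k = 1 → a ∈ (μ : Subgroup Fˣ) := by
    intro a k hk
    have hp : IsPGroup 2 (Subgroup.zpowers a) := by
      intro ⟨y, i, hi⟩
      refine ⟨k, Subtype.ext ?_⟩
      show y ^ 2 ^ k = 1
      rw [← hi]
      show (a ^ i) ^ (2 ^ k) = 1
      rw [← zpow_natCast, zpow_comm, zpow_natCast, hk, one_zpow]
    obtain ⟨Q, hQ⟩ := hp.exists_le_sylow
    haveI := Sylow.unique_of_normal μ (Subgroup.normal_of_comm _)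
    rw [Subsingleton.elim μ Q]
    exact hQ (Subgroup.mem_zpowers a)
  let μμ : Subgroup (Fˣ × Fˣ) := (μ : Subgroup Fˣ).prod (μ : Subgroup Fˣ)
  have hμμ : IsPGroup 2 μμ := by
    rintro ⟨⟨a, c⟩, ha, hc⟩
    obtain ⟨i, hi⟩ := μ.2 ⟨a, ha⟩
    obtain ⟨k, hk⟩ := μ.2 ⟨c, hc⟩
    refine ⟨i + k, Subtype.ext (Prod.ext ?_ ?_)⟩
    · show a ^ 2 ^ (i + k) = 1
      rw [pow_add, pow_mul, show a ^ 2 ^ i = 1 from congrArg Subtype.val hi, one_pow]
    · show c ^ 2 ^ (i + k) = 1
      rw [pow_add, mul_comm, pow_mul, show c ^ 2 ^ k = 1 from congrArg Subtype.val hk, one_pow]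
  obtain ⟨W, hW⟩ := (hμμ.map diag2).exists_le_sylow
  have hinjW : Set.InjOn f (W : Subgroup (GL (Fin 2) F)) := by
    intro a ha c hc hac
    have h1 : jHom (a⁻¹ * c) ∈ Subgroup.center (Matrix.SpecialLinearGroup (Fin 3) F) := by
      rw [map_mul, map_inv]; exact QuotientGroup.eq.1 hac
    obtain ⟨k, hk⟩ := W.2 ⟨_, mul_mem (inv_mem ha) hc⟩
    have hk' : (a⁻¹ * c) ^ 2 ^ k = 1 := congrArg Subtype.val hk
    obtain ⟨r, hr3, hr⟩ := Matrix.SpecialLinearGroup.mem_center_iff.1 h1
    have h3 : jHom (a⁻¹ * c) ^ 3 = 1 := by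
      refine Subtype.ext ?_
      rw [Matrix.SpecialLinearGroup.coe_pow, ← hr, ← map_pow, Matrix.SpecialLinearGroup.coe_one, ← map_one (Matrix.scalar (Fin 3))]
      exact congrArg _ (by simpa using hr3)
    have h4 : orderOf (a⁻¹ * c) ∣ Nat.gcd (2 ^ k) 3 :=
      Nat.dvd_gcd (orderOf_dvd_of_pow_eq_one hk') (orderOf_dvd_of_pow_eq_one (jHom_injective (by
        rw [map_pow, h3, map_one])))
    rw [(Nat.Coprime.pow_left k (by norm_num : Nat.Coprime 2 3)).gcd_eq_one, Nat.dvd_one, orderOf_eq_one_iff,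
      inv_mul_eq_one] at h4
    exact h4
  let fW := f.comp (W : Subgroup (GL (Fin 2) F)).subtype
  have hfW : Function.Injective fW := fun a c h => Subtype.ext (hinjW a.2 c.2 h)
  have hcardW : Nat.card fW.range = 2 ^ (Nat.card (Matrix.ProjectiveSpecialLinearGroup (Fin 3) F)).factorization 2 := by
    rw [← Nat.card_congr (MonoidHom.ofInjective hfW).toEquiv, W.card_eq_multiplicity]
    congr 1
    set q := Nat.card F with hq
    have hq1 : 1 < q := Finite.one_lt_card
    have hqodd : Odd q := by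
      rw [hq, Nat.card_eq_fintype_card]
      exact Nat.odd_iff.2 ((FiniteField.even_card_iff_char_two (F := F)).not.1 Fact.out |> fun h =>
        (Nat.mod_two_ne_zero.1 h))
    set z := Nat.card (Subgroup.center (Matrix.SpecialLinearGroup (Fin 3) F)) with hz
    have hzodd : ¬ 2 ∣ z := by
      intro h
      obtain ⟨⟨x, hx⟩, hxo⟩ := exists_prime_orderOf_dvd_card' 2 h
      obtain ⟨r, hr3, hr⟩ := Matrix.SpecialLinearGroup.mem_center_iff.1 hx
      have h3 : x ^ 3 = 1 := by
        refine Subtype.ext ?_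
        rw [Matrix.SpecialLinearGroup.coe_pow, ← hr, ← map_pow, Matrix.SpecialLinearGroup.coe_one, ← map_one (Matrix.scalar (Fin 3))]
        exact congrArg _ (by simpa using hr3)
      have h5 : (2 : ℕ) ∣ 3 := by
        rw [← hxo, Subgroup.orderOf_mk]
        exact orderOf_dvd_of_pow_eq_one h3
      norm_num at h5
    have hmain : z * Nat.card (Matrix.ProjectiveSpecialLinearGroup (Fin 3) F) =
        Nat.card (GL (Fin 2) F) * (q ^ 2 * (q ^ 2 + q + 1)) := by
      have h1 : Nat.card (Matrix.SpecialLinearGroup (Fin 3) F) =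
          z * Nat.card (Matrix.ProjectiveSpecialLinearGroup (Fin 3) F) := by
        rw [Subgroup.card_eq_card_quotient_mul_card_subgroup (Subgroup.center (Matrix.SpecialLinearGroup (Fin 3) F)),
          mul_comm]
      have h2 := ClassicalSL.card_sl_mul (ι := Fin 3) (F := F)
      rw [h1, Matrix.card_GL_field, ← Nat.card_eq_fintype_card, ← hq, Fin.prod_univ_three] at h2
      rw [Matrix.card_GL_field, ← Nat.card_eq_fintype_card, ← hq, Fin.prod_univ_two]
      refine Nat.eq_of_mul_eq_mul_left (Nat.sub_pos_of_lt hq1) (h2.trans ?_)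
      simp only [Fin.val_zero, Fin.val_one, Fin.val_two, pow_zero, pow_one]
      have e1 : 1 ≤ q ^ 2 := Nat.one_le_pow _ _ (by omega)
      have e2 : 1 ≤ q ^ 3 := Nat.one_le_pow _ _ (by omega)
      have e3 : q ≤ q ^ 2 := Nat.le_self_pow (by omega) _
      have e4 : q ≤ q ^ 3 := Nat.le_self_pow (by omega) _
      have e5 : q ^ 2 ≤ q ^ 3 := Nat.pow_le_pow_right (by omega) (by omega)
      zify [e1, e2, e3, e4, e5, hq1.le]
      ring
    have hodd : ¬ 2 ∣ q ^ 2 * (q ^ 2 + q + 1) := by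
      rw [← even_iff_two_dvd, Nat.not_even_iff_odd]
      refine (hqodd.pow).mul ?_
      obtain ⟨m, hm⟩ := hqodd
      exact ⟨2 * m * m + 3 * m + 1, by rw [hm]; ring⟩
    have e := congrArg (fun m => Nat.factorization m 2) hmain
    rw [Nat.factorization_mul (a := z) (fun h => hzodd (by rw [h]; exact dvd_zero 2)) Nat.card_pos.ne',
      Nat.factorization_mul Nat.card_pos.ne' (b := q ^ 2 * (q ^ 2 + q + 1)) (fun h => hodd (by rw [h]; exact dvd_zero 2)), Finsupp.add_apply, Finsupp.add_apply,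
      Nat.factorization_eq_zero_of_not_dvd hzodd, Nat.factorization_eq_zero_of_not_dvd hodd, zero_add, add_zero] at e
    exact e.symm
  let S₀ : Sylow 2 (Matrix.ProjectiveSpecialLinearGroup (Fin 3) F) := Sylow.ofCard fW.range hcardW
  obtain ⟨g, hg⟩ := MulAction.exists_smul_eq (Matrix.ProjectiveSpecialLinearGroup (Fin 3) F) S₀ S
  have hin : ∀ y ∈ (S₀ : Subgroup _), g * y * g⁻¹ ∈ (S : Subgroup _) := fun y hy => by
    rw [← hg, Sylow.coe_subgroup_smul]; exact ⟨y, hy, rfl⟩
  have hS1 : (S : Subgroup (Matrix.ProjectiveSpecialLinearGroup (Fin 3) F)) ≠ ⊥ := by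
    intro h0
    have hm : (-1 : GL (Fin 2) F) ∈ (W : Subgroup (GL (Fin 2) F)) := by
      refine hW ⟨(-1, -1), ⟨?_, ?_⟩, Units.ext ?_⟩
      · exact hμ (-1) 1 (by simp)
      · exact hμ (-1) 1 (by simp)
      · rw [diag2_coe]; ext i k; fin_cases i <;> fin_cases k <;> simp
    have h1 := hin (f (-1)) ⟨⟨-1, hm⟩, rfl⟩
    rw [h0, Subgroup.mem_bot, mul_inv_eq_one, mul_eq_left] at h1
    have h2 := hinjW hm (one_mem (W : Subgroup (GL (Fin 2) F))) (h1.trans (map_one f).symm)
    have h3 := congrArg (fun w : GL (Fin 2) F => (w : Matrix (Fin 2) (Fin 2) F) 0 0) h2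
    simp at h3
    exact two_ne (F := F) (by linear_combination -h3)
  refine group_isSimple_of_isPGroup S hS1 (fun T hT => ?_) ?_
  · obtain ⟨hTS, hcl⟩ := (group_stronglyClosed_iff S).1 hT
    rcases eq_or_ne T ⊥ with h | hne
    · exact Or.inl h
    refine Or.inr (le_antisymm hTS ?_)
    -- one class of involutions
    have hclass : ∀ y ∈ (S : Subgroup (Matrix.ProjectiveSpecialLinearGroup (Fin 3) F)), y * y = 1 → y ≠ 1 →
        ∃ k, k * f (diag2 (1, -1)) * k⁻¹ = y := by
      intro y hy hy2 hy1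
      have hy' : g⁻¹ * y * g ∈ (S₀ : Subgroup _) := by
        rw [← hg, Sylow.coe_subgroup_smul] at hy
        obtain ⟨z, hz, rfl⟩ := hy
        show g⁻¹ * (g * z * g⁻¹) * g ∈ _
        rwa [show g⁻¹ * (g * z * g⁻¹) * g = z by group]
      obtain ⟨⟨w, hw⟩, hwy⟩ := hy'
      have hwy' : f w = g⁻¹ * y * g := hwy
      have hw2 : w * w = 1 := hinjW (mul_mem hw hw) (one_mem (W : Subgroup (GL (Fin 2) F))) (by
        rw [map_mul, map_one, hwy', show g⁻¹ * y * g * (g⁻¹ * y * g) = g⁻¹ * (y * y) * g by group, hy2]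
        group)
      have hw1 : w ≠ 1 := fun h => hy1 (by
        rw [h, map_one] at hwy'
        calc y = g * (g⁻¹ * y * g) * g⁻¹ := by group
          _ = 1 := by rw [← hwy']; group)
      have : ∃ k, k * f (diag2 (1, -1)) * k⁻¹ = f w := by
        by_cases hwm : w = -1
        · subst hwm
          refine ⟨π cyc, ?_⟩
          rw [← map_inv, hf, MonoidHom.comp_apply, MonoidHom.comp_apply, ← map_mul, ← map_mul, neg_conj]
        · obtain ⟨k, hk⟩ := involution_gl hw2 hw1 hwm
          refine ⟨f k, ?_⟩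
          rw [← hk, ← map_inv, ← map_mul, ← map_mul]
          congr 1; group
      obtain ⟨k, hk⟩ := this
      refine ⟨g * k, ?_⟩
      calc g * k * f (diag2 (1, -1)) * (g * k)⁻¹ = g * (k * f (diag2 (1, -1)) * k⁻¹) * g⁻¹ := by group
        _ = y := by rw [hk, hwy']; group
    have hinv : ∀ y ∈ (S : Subgroup (Matrix.ProjectiveSpecialLinearGroup (Fin 3) F)), y * y = 1 → y ∈ T := by
      intro y hy hy2
      rcases eq_or_ne y 1 with rfl | hy1
      · exact T.one_mem
      have hTp : IsPGroup 2 T := S.2.to_le hTS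
      have hnt : Nontrivial T := T.nontrivial_iff_ne_bot.2 hne
      obtain ⟨k, hk0, hk⟩ := hTp.nontrivial_iff_card.1 hnt
      obtain ⟨z, hz⟩ := exists_prime_orderOf_dvd_card' 2 (hk ▸ dvd_pow_self 2 hk0.ne')
      have hz2 : (z : Matrix.ProjectiveSpecialLinearGroup (Fin 3) F) * z = 1 := by
        have := pow_orderOf_eq_one z
        rw [hz, pow_two] at this
        exact congrArg Subtype.val this
      have hz1 : (z : Matrix.ProjectiveSpecialLinearGroup (Fin 3) F) ≠ 1 := fun h => by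
        rw [show z = 1 from Subtype.ext h, orderOf_one] at hz; exact absurd hz (by norm_num)
      obtain ⟨a, ha⟩ := hclass _ (hTS z.2) hz2 hz1
      obtain ⟨c, hc⟩ := hclass y hy hy2 hy1
      have := hcl (c * a⁻¹) _ z.2
      rw [show c * a⁻¹ * (z : Matrix.ProjectiveSpecialLinearGroup (Fin 3) F) * (c * a⁻¹)⁻¹ = y by
        rw [← ha, ← hc]; group] at this
      exact this hy
    intro y hy
    rw [← hg, Sylow.coe_subgroup_smul] at hy
    obtain ⟨_, ⟨⟨w, hw⟩, rfl⟩, rfl⟩ := hy
    show g * f w * g⁻¹ ∈ T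
    set δ := Matrix.GeneralLinearGroup.det w with hδ
    have hδμ : δ ∈ (μ : Subgroup Fˣ) := by
      obtain ⟨k, hk⟩ := W.2 ⟨w, hw⟩
      refine hμ δ k ?_
      rw [hδ, ← map_pow, show w ^ 2 ^ k = 1 from congrArg Subtype.val hk, map_one]
    have hD : diag2 (δ, 1) ∈ (W : Subgroup (GL (Fin 2) F)) := hW ⟨(δ, 1), ⟨hδμ, one_mem _⟩, rfl⟩
    have hh : Matrix.GeneralLinearGroup.det (w * (diag2 (δ, 1))⁻¹) = 1 := by
      rw [map_mul, map_inv, det_diag2, mul_one, ← hδ, mul_inv_cancel]
    have h1 : g * f (diag2 (δ, 1)) * g⁻¹ ∈ T := by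
      refine real_mem S T hinv hcl (hin _ ⟨⟨_, hD⟩, rfl⟩) (u := g * π anti * g⁻¹) ?_ ?_
      · rw [conj_mul, ← map_mul, anti_sq, map_one, mul_one, mul_inv_cancel]
      · rw [conj_mul, conj_mul, hf, MonoidHom.comp_apply, ← map_mul, ← map_mul, anti_inverts, map_one, mul_one,
          mul_inv_cancel]
    obtain ⟨u, hu, hux⟩ := exists_inverting _ hh
    have h2 : g * f (w * (diag2 (δ, 1))⁻¹) * g⁻¹ ∈ T := by
      refine real_mem S T hinv hcl (hin _ ⟨⟨_, mul_mem hw (inv_mem hD)⟩, rfl⟩) (u := g * f u * g⁻¹) ?_ ?_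
      · rw [conj_mul, ← map_mul, hu, map_one, mul_one, mul_inv_cancel]
      · rw [conj_mul, conj_mul, ← map_mul, ← map_mul, hux, map_one, mul_one, mul_inv_cancel]
    have := T.mul_mem h2 h1
    rwa [conj_mul, ← map_mul, inv_mul_cancel_right] at this
  · refine IsPGroup.to_subgroup ?_ _
    have e : (W : Subgroup (GL (Fin 2) F)) ≃* (S : Subgroup (Matrix.ProjectiveSpecialLinearGroup (Fin 3) F)) :=
      (MonoidHom.ofInjective hfW).trans (Sylow.equiv S₀ S)
    refine IsPGroup.of_equiv ?_ (MulAut.congr e)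
    have hmod : Fintype.card F % 2 = 1 := by
      have := (FiniteField.even_card_iff_char_two (F := F)).not.1 Fact.out
      omega
    rcases (show Fintype.card F % 4 = 3 ∨ Fintype.card F % 4 = 1 by omega) with h | h
    · exact S3116.result W.2 (Or.inr (SylTwoRO.gl_quasiDihedral W h))
    · exact aut_wreathed (SylTwoRO.gl_wreathed W h)

end Cfsg.Agent.FusionPSL3Two
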