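import Cfsg.Agent.Lib.Fusion.Simple
import Cfsg.Agent.Lib.Classical.SL
import Cfsg.Agent.Lib.Solvable.Structure
import Mathlib.LinearAlgebra.Matrix.Block
import Mathlib.LinearAlgebra.Matrix.ProjectiveSpecialLinearGroup
import Mathlib.LinearAlgebra.Matrix.Permutation
import Mathlib.Algebra.CharP.Reduced
import Mathlib.Algebra.CharP.Lemmas

/-!
# The fusion system of `PSL(n, K)` in defining characteristic is simple, `n ≥ 3`

The unitriangular group `uni`, its image a Sylow subgroup with normalizer the image of the triangular group,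
and the minimal radicals `radSub k l` with their local elements.
-/

set_option autoImplicit false

namespace Cfsg.Agent.FusionPSLn

open Cfsg Cfsg.FusionSystem Cfsg.Agent.FusionSys Matrix

variable {K : Type*} [Field K] {n : ℕ}

local notation "SLn" => Matrix.SpecialLinearGroup (Fin n) K
local notation "PSLn" => Matrix.ProjectiveSpecialLinearGroup (Fin n) K
local notation "Mn" => Matrix (Fin n) (Fin n) K

/-- Vanishing below the diagonal. -/
def IsUpper (M : Mn) : Prop := ∀ i j : Fin n, j < i → M i j = 0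

/-- Upper unitriangular matrices. -/
def IsUni (M : Mn) : Prop := IsUpper M ∧ ∀ i, M i i = 1

theorem isUpper_mul {M N : Mn} (hM : IsUpper M) (hN : IsUpper N) : IsUpper (M * N) := by
  intro i j hji
  rw [Matrix.mul_apply]
  refine Finset.sum_eq_zero fun k _ => ?_
  rcases lt_or_ge k i with h | h
  · rw [hM i k h, zero_mul]
  · rw [hN k j (lt_of_lt_of_le hji h), mul_zero]

theorem upper_mul_diag {M N : Mn} (hM : IsUpper M) (hN : IsUpper N) (i : Fin n) :
    (M * N) i i = M i i * N i i := by
  rw [Matrix.mul_apply]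
  refine Finset.sum_eq_single i (fun k _ hk => ?_) (fun h => absurd (Finset.mem_univ i) h)
  rcases lt_or_gt_of_ne hk with h | h
  · rw [hM i k h, zero_mul]
  · rw [hN k i h, mul_zero]

theorem isUpper_one : IsUpper (1 : Mn) := fun _ _ h => Matrix.one_apply_ne (ne_of_gt h)

theorem isUni_one : IsUni (1 : Mn) := ⟨isUpper_one, fun i => Matrix.one_apply_eq i⟩

theorem isUni_mul {M N : Mn} (hM : IsUni M) (hN : IsUni N) : IsUni (M * N) :=
  ⟨isUpper_mul hM.1 hN.1, fun i => by rw [upper_mul_diag hM.1 hN.1, hM.2, hN.2, mul_one]⟩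

theorem isUni_pow {M : Mn} (hM : IsUni M) (k : ℕ) : IsUni (M ^ k) := by
  induction k with
  | zero => simpa using isUni_one
  | succ k ih => rw [pow_succ]; exact isUni_mul ih hM

theorem isUni_inv (x : SLn) (h : IsUni (x : Mn)) : IsUni ((x⁻¹ : SLn) : Mn) := by
  have hd : ((x⁻¹ : SLn) : Mn) * (x : Mn) = 1 := by
    rw [← Matrix.SpecialLinearGroup.coe_mul, inv_mul_cancel, Matrix.SpecialLinearGroup.coe_one]
  haveI : Invertible (x : Mn) := invertibleOfLeftInverse _ _ hd
  have hinv : (x : Mn)⁻¹ = ((x⁻¹ : SLn) : Mn) := Matrix.inv_eq_left_inv hd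
  have hup : IsUpper ((x⁻¹ : SLn) : Mn) := by
    rw [← hinv]
    exact Matrix.blockTriangular_inv_of_blockTriangular (b := id) h.1
  refine ⟨hup, fun i => ?_⟩
  have := upper_mul_diag hup h.1 i
  rw [hd, Matrix.one_apply_eq, h.2, mul_one] at this
  exact this.symm

variable (K n) in
/-- The unitriangular subgroup. -/
def uni : Subgroup SLn where
  carrier := {x | IsUni (x : Mn)}
  one_mem' := by simpa using isUni_one
  mul_mem' := fun {x y} hx hy => by
    show IsUni ((x * y : SLn) : Mn)
    rw [Matrix.SpecialLinearGroup.coe_mul]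
    exact isUni_mul hx hy
  inv_mem' := fun {x} hx => isUni_inv x hx

theorem mem_uni {x : SLn} : x ∈ uni K n ↔ IsUni (x : Mn) := Iff.rfl

theorem coe_transvection {i j : Fin n} (h : i ≠ j) (c : K) :
    ((Matrix.SpecialLinearGroup.transvection h c : SLn) : Mn) = 1 + Matrix.single i j c := rfl

theorem transvection_mem_uni {i j : Fin n} (hij : i < j) (c : K) :
    Matrix.SpecialLinearGroup.transvection hij.ne c ∈ uni K n := by
  refine ⟨fun a b hba => ?_, fun a => ?_⟩ <;>
    rw [coe_transvection, Matrix.add_apply, Matrix.single_apply]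
  · rw [Matrix.one_apply_ne (ne_of_gt hba), if_neg, add_zero]
    rintro ⟨rfl, rfl⟩
    exact absurd hba (not_lt.2 hij.le)
  · rw [Matrix.one_apply_eq, if_neg, add_zero]
    rintro ⟨rfl, rfl⟩
    exact absurd hij (lt_irrefl _)

/-- A diagonal-free upper matrix is nilpotent: powers move entries away from the diagonal. -/
theorem pow_strict_apply {N : Mn} (hN : ∀ i j : Fin n, j ≤ i → N i j = 0) (m : ℕ) :
    ∀ i j : Fin n, (j : ℕ) < (i : ℕ) + m → (N ^ m) i j = 0 := by
  induction m with
  | zero => intro i j h; rw [pow_zero, Matrix.one_apply_ne]; omega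
  | succ m ih =>
    intro i j h
    rw [pow_succ, Matrix.mul_apply]
    refine Finset.sum_eq_zero fun k _ => ?_
    rcases le_or_gt j k with hjk | hjk
    · rw [hN k j hjk, mul_zero]
    · rw [ih i k (by have : (k : ℕ) < j := hjk; omega), zero_mul]

section charP

variable (p : ℕ) [hp : Fact p.Prime] [CharP K p]

include hp in
theorem uni_pow_char (x : SLn) (hx : x ∈ uni K n) : x ^ p ^ n = 1 := by
  rcases n.eq_zero_or_pos with h0 | h0
  · subst h0; exact Subsingleton.elim _ _
  haveI : Nonempty (Fin n) := ⟨⟨0, h0⟩⟩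
  have hN : ∀ i j : Fin n, j ≤ i → ((x : Mn) - 1) i j = 0 := fun i j h => by
    rw [Matrix.sub_apply]
    rcases eq_or_lt_of_le h with rfl | h
    · rw [hx.2, Matrix.one_apply_eq, sub_self]
    · rw [hx.1 i j h, Matrix.one_apply_ne (ne_of_gt h), sub_self]
  apply Subtype.ext
  show ((x ^ p ^ n : SLn) : Mn) = ((1 : SLn) : Mn)
  rw [Matrix.SpecialLinearGroup.coe_pow, Matrix.SpecialLinearGroup.coe_one,
    ← sub_add_cancel (x : Mn) 1, add_pow_char_pow_of_commute p n (Commute.one_right _), one_pow, add_eq_right]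
  ext i j
  exact pow_strict_apply hN _ i j (by
    have : n < p ^ n := Nat.lt_pow_self hp.out.one_lt
    omega)

include hp in
theorem scalar_pow_eq_one {c : K} {k : ℕ} (h : c ^ p ^ k = 1) : c = 1 := by
  haveI : ExpChar K p := ExpChar.prime hp.out
  refine iterateFrobenius_inj K p k ?_
  rw [iterateFrobenius_def, iterateFrobenius_def, one_pow, h]

include hp in
theorem center_pow_eq_one {z : SLn} (hz : z ∈ Subgroup.center SLn) {k : ℕ} (h : z ^ p ^ k = 1) : z = 1 := by
  obtain ⟨c, -, hc⟩ := Matrix.SpecialLinearGroup.mem_center_iff.1 hz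
  rcases isEmpty_or_nonempty (Fin n) with hn | ⟨⟨i⟩⟩
  · exact Subsingleton.elim _ _
  have h' := congrArg (fun y : SLn => (y : Mn) i i) h
  simp only [Matrix.SpecialLinearGroup.coe_pow, Matrix.SpecialLinearGroup.coe_one, ← hc] at h'
  rw [← map_pow, Matrix.scalar_apply, Matrix.diagonal_apply_eq, Matrix.one_apply_eq] at h'
  have hc1 := scalar_pow_eq_one p h'
  apply Subtype.ext
  show (z : Mn) = ((1 : SLn) : Mn)
  rw [← hc, hc1, map_one, Matrix.SpecialLinearGroup.coe_one]

include hp in
/-- Equal images of elements of `p`-power order come from equal elements. -/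
theorem eq_of_mk_eq {x y : SLn} (h : (QuotientGroup.mk x : PSLn) = QuotientGroup.mk y) {k m : ℕ}
    (hx : x ^ p ^ k = 1) (hy : y ^ p ^ m = 1) : x = y := by
  rw [QuotientGroup.eq] at h
  have hc : Commute x⁻¹ y := by
    have h' := Subgroup.mem_center_iff.1 h x
    show x⁻¹ * y = y * x⁻¹
    calc x⁻¹ * y = (x⁻¹ * y * x) * x⁻¹ := by group
      _ = (x * (x⁻¹ * y)) * x⁻¹ := by rw [h']
      _ = y * x⁻¹ := by group
  have : (x⁻¹ * y) ^ p ^ (k + m) = 1 := by
    rw [hc.mul_pow, inv_pow, pow_add, pow_mul, hx, one_pow, inv_one, one_mul, mul_comm, pow_mul, hy, one_pow]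
  have := center_pow_eq_one p h this
  rwa [inv_mul_eq_one] at this

end charP

section structure'

variable {p : ℕ} [hp : Fact p.Prime] [CharP K p]

theorem conj_pow_char {y x : SLn} (hx : x ∈ uni K n) : (y * x * y⁻¹) ^ p ^ n = 1 := by
  rw [conj_pow, uni_pow_char p x hx, mul_one, mul_inv_cancel]

omit hp [CharP K p] in
theorem upper_of_conj {M : SLn}
    (h : ∀ (k l : Fin n) (hkl : k < l),
      IsUpper ((M * Matrix.SpecialLinearGroup.transvection hkl.ne 1 * M⁻¹ : SLn) : Mn)) :
    IsUpper (M : Mn) := by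
  intro a k hka
  by_contra hne
  set N := ((M⁻¹ : SLn) : Mn) with hN
  have hMN : (M : Mn) * N = 1 := by
    rw [hN, ← Matrix.SpecialLinearGroup.coe_mul, mul_inv_cancel, Matrix.SpecialLinearGroup.coe_one]
  have hNM : N * (M : Mn) = 1 := mul_eq_one_comm.1 hMN
  have hzero : ∀ l, k < l → ∀ b, b < a → N l b = 0 := by
    intro l hl b hb
    have h1 := h k l hl a b hb
    rw [Matrix.SpecialLinearGroup.coe_mul, Matrix.SpecialLinearGroup.coe_mul, coe_transvection, ← hN,
      mul_add, mul_one, add_mul, hMN, Matrix.add_apply, Matrix.one_apply_ne (ne_of_gt hb), zero_add,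
      Matrix.mul_apply, Finset.sum_eq_single l] at h1
    · simp at h1
      exact h1.resolve_left hne
    · intro m _ hm
      rw [Matrix.mul_single_apply_of_ne _ _ _ _ _ hm, zero_mul]
    · simp
  have hzero' : ∀ l, k < l → N l a = 0 := by
    intro l hl
    have hd : ((M * Matrix.SpecialLinearGroup.transvection hl.ne 1 * M⁻¹ : SLn) : Mn) a a =
        1 + (M : Mn) a k * N l a := by
      rw [Matrix.SpecialLinearGroup.coe_mul, Matrix.SpecialLinearGroup.coe_mul, coe_transvection, ← hN,
        mul_add, mul_one, add_mul, hMN, Matrix.add_apply, Matrix.one_apply_eq, Matrix.mul_apply,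
        Finset.sum_eq_single l] <;> simp +contextual [eq_comm]
    -- the diagonal entries of a triangular matrix conjugate to a transvection
    by_contra hla
    exact hla (by
      have hpow : ∀ m : ℕ, IsUpper (((M * Matrix.SpecialLinearGroup.transvection hl.ne 1 * M⁻¹ : SLn) : Mn)) :=
        fun _ => h k l hl
      have hsq : ((M * Matrix.SpecialLinearGroup.transvection hl.ne 1 * M⁻¹ : SLn) : Mn) - 1 =
          (M : Mn) * Matrix.single k l 1 * N := by
        rw [Matrix.SpecialLinearGroup.coe_mul, Matrix.SpecialLinearGroup.coe_mul, coe_transvection, ← hN,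
          mul_add, mul_one, add_mul, hMN, add_sub_cancel_left]
      have hup : IsUpper ((M : Mn) * Matrix.single k l 1 * N) := by
        rw [← hsq]
        intro i j hij
        rw [Matrix.sub_apply, h k l hl i j hij, Matrix.one_apply_ne (ne_of_gt hij), sub_zero]
      have hnil : ((M : Mn) * Matrix.single k l 1 * N) * ((M : Mn) * Matrix.single k l 1 * N) = 0 := by
        rw [show (M : Mn) * Matrix.single k l 1 * N * ((M : Mn) * Matrix.single k l 1 * N) =
          (M : Mn) * Matrix.single k l 1 * (N * (M : Mn)) * Matrix.single k l 1 * N by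
            simp only [mul_assoc], hNM, mul_one, mul_assoc (M : Mn) _ (Matrix.single k l 1),
          Matrix.single_mul_single_of_ne 1 k l k hl.ne' 1]
        simp
      have := upper_mul_diag hup hup a
      rw [hnil, Matrix.zero_apply] at this
      have hz := mul_self_eq_zero.1 this.symm
      rw [← hsq, Matrix.sub_apply, hd, Matrix.one_apply_eq, add_sub_cancel_left] at hz
      exact (mul_eq_zero.1 hz).resolve_left hne)
  -- too many independent rows
  have hle : ∀ l, k < l → ∀ b, b ≤ a → N l b = 0 := fun l hl b hb =>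
    (eq_or_lt_of_le hb).elim (fun e => e ▸ hzero' l hl) (hzero l hl b)
  let f : {l : Fin n // k < l} → ({b : Fin n // a < b} → K) := fun l b => N l b
  have hind : LinearIndependent K f := by
    rw [Fintype.linearIndependent_iff]
    intro g hg l₀
    have hrow : ∀ b : Fin n, ∑ l : {l : Fin n // k < l}, g l * N l b = 0 := by
      intro b
      rcases le_or_gt b a with hb | hb
      · exact Finset.sum_eq_zero fun l _ => by rw [hle l l.2 b hb, mul_zero]
      · have := congrFun hg ⟨b, hb⟩
        simpa [f, Finset.sum_apply] using this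
    have h2 : ∑ b, (∑ l : {l : Fin n // k < l}, g l * N l b) * (M : Mn) b l₀ = 0 :=
      Finset.sum_eq_zero fun b _ => by rw [hrow b, zero_mul]
    simp only [Finset.sum_mul, mul_assoc] at h2
    rw [Finset.sum_comm] at h2
    simp only [← Finset.mul_sum] at h2
    have hid : ∀ l : {l : Fin n // k < l}, ∑ b, N l b * (M : Mn) b l₀ = (1 : Mn) l l₀ := fun l => by
      rw [← Matrix.mul_apply, hNM]
    simp only [hid, Matrix.one_apply] at h2
    rw [Finset.sum_eq_single l₀ (fun l _ hl => by rw [if_neg (fun e => hl (Subtype.ext e)), mul_zero])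
      (by simp)] at h2
    simpa using h2
  have hc := hind.fintype_card_le_finrank
  rw [Module.finrank_fintype_fun_eq_card] at hc
  simp only [Fintype.card_subtype] at hc
  rw [Finset.filter_lt_eq_Ioi, Finset.filter_lt_eq_Ioi, Fin.card_Ioi, Fin.card_Ioi] at hc
  have := a.isLt
  have : (k : ℕ) < a := hka
  omega

include hp in
/-- An element normalizing the image of `uni` is upper triangular. -/
theorem upper_of_normalizer {M : SLn}
    (h : (QuotientGroup.mk M : PSLn) ∈
      Subgroup.normalizer (((uni K n).map (QuotientGroup.mk' (Subgroup.center SLn)) : Subgroup PSLn) : Set PSLn)) :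
    IsUpper (M : Mn) := by
  refine upper_of_conj fun k l hkl => ?_
  obtain ⟨u, hu, he⟩ := (Subgroup.mem_normalizer_iff.1 h _).1 ⟨_, transvection_mem_uni hkl (1 : K), rfl⟩
  have : u = M * Matrix.SpecialLinearGroup.transvection hkl.ne 1 * M⁻¹ :=
    eq_of_mk_eq p he (uni_pow_char p u hu) (conj_pow_char (transvection_mem_uni hkl (1 : K)))
  rw [← this]
  exact hu.1

theorem normalizer_of_upper {M : SLn} (h : IsUpper (M : Mn)) :
    M ∈ Subgroup.normalizer ((uni K n : Subgroup SLn) : Set SLn) := by
  have hd : ((M⁻¹ : SLn) : Mn) * (M : Mn) = 1 := by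
    rw [← Matrix.SpecialLinearGroup.coe_mul, inv_mul_cancel, Matrix.SpecialLinearGroup.coe_one]
  haveI : Invertible (M : Mn) := invertibleOfLeftInverse _ _ hd
  have hup : IsUpper ((M⁻¹ : SLn) : Mn) := by
    rw [← Matrix.inv_eq_left_inv hd]
    exact Matrix.blockTriangular_inv_of_blockTriangular (b := id) h
  have hdiag : ∀ i, ((M⁻¹ : SLn) : Mn) i i * (M : Mn) i i = 1 := fun i => by
    rw [← upper_mul_diag hup h i, hd, Matrix.one_apply_eq]
  refine mem_normalizer_of_conj_mem M (fun x hx => ?_) fun x hx => ?_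
  · refine ⟨?_, fun i => ?_⟩ <;> rw [Matrix.SpecialLinearGroup.coe_mul, Matrix.SpecialLinearGroup.coe_mul]
    · exact isUpper_mul (isUpper_mul h hx.1) hup
    · rw [upper_mul_diag (isUpper_mul h hx.1) hup, upper_mul_diag h hx.1, hx.2, mul_one, mul_comm, hdiag]
  · refine ⟨?_, fun i => ?_⟩ <;> rw [Matrix.SpecialLinearGroup.coe_mul, Matrix.SpecialLinearGroup.coe_mul]
    · exact isUpper_mul (isUpper_mul hup hx.1) h
    · rw [upper_mul_diag (isUpper_mul hup hx.1) h, upper_mul_diag hup hx.1, hx.2, mul_one, hdiag]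

theorem isPGroup_uniImage :
    IsPGroup p ((uni K n).map (QuotientGroup.mk' (Subgroup.center SLn)) : Subgroup PSLn) := by
  rintro ⟨_, x, hx, rfl⟩
  refine ⟨n, Subtype.ext ?_⟩
  show (QuotientGroup.mk' (Subgroup.center SLn) x) ^ p ^ n = 1
  rw [← map_pow, uni_pow_char p x hx, map_one]

variable (p) in
/-- The image of the unitriangular group as a Sylow subgroup. -/
theorem exists_sylow_uniImage [Fintype K] :
    ∃ S : Sylow p PSLn, (S : Subgroup PSLn) = (uni K n).map (QuotientGroup.mk' (Subgroup.center SLn)) := by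
  classical
  haveI : Finite PSLn := inferInstance
  set A : Subgroup PSLn := (uni K n).map (QuotientGroup.mk' (Subgroup.center SLn))
  obtain ⟨S, hS⟩ := (isPGroup_uniImage (K := K) (n := n) (p := p)).exists_le_sylow
  refine ⟨S, ?_⟩
  by_contra hne
  have hlt : A < (S : Subgroup PSLn) := lt_of_le_of_ne hS fun e => hne e.symm
  obtain ⟨g, hg, hgA⟩ := SetLike.exists_of_lt (Cfsg.Agent.Fusion.lt_inf_normalizer S.2.isNilpotent hlt)
  obtain ⟨M, rfl⟩ := QuotientGroup.mk_surjective g
  have hup := upper_of_normalizer hg.2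
  obtain ⟨k, hk⟩ := S.2 ⟨_, hg.1⟩
  have hk' : (QuotientGroup.mk (M ^ p ^ k) : PSLn) = 1 := congrArg Subtype.val hk
  rw [QuotientGroup.eq_one_iff] at hk'
  obtain ⟨c, -, hc⟩ := Matrix.SpecialLinearGroup.mem_center_iff.1 hk'
  rw [Matrix.SpecialLinearGroup.coe_pow] at hc
  have hdiag : ∀ (m : ℕ) (i : Fin n), ((M : Mn) ^ m) i i = (M : Mn) i i ^ m ∧ IsUpper ((M : Mn) ^ m) := by
    intro m i
    induction m with
    | zero => exact ⟨by simp, by simpa using isUpper_one⟩
    | succ m ih => rw [pow_succ, pow_succ]; exact ⟨by rw [upper_mul_diag ih.2 hup, ih.1], isUpper_mul ih.2 hup⟩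
  rcases n.eq_zero_or_pos with h0 | h0
  · haveI : IsEmpty (Fin n) := ⟨fun i => absurd i.isLt (by omega)⟩
    exact hgA ((show (1 : SLn) = M from Subtype.ext (Matrix.ext fun i => isEmptyElim i)) ▸ A.one_mem)
  haveI : ExpChar K p := ExpChar.prime hp.out
  have heq : ∀ i, (M : Mn) i i = (M : Mn) ⟨0, h0⟩ ⟨0, h0⟩ := fun i => by
    refine iterateFrobenius_inj K p k ?_
    rw [iterateFrobenius_def, iterateFrobenius_def, ← (hdiag _ i).1, ← (hdiag _ ⟨0, h0⟩).1, ← hc,
      Matrix.scalar_apply, Matrix.diagonal_apply_eq, Matrix.diagonal_apply_eq]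
  set d := (M : Mn) ⟨0, h0⟩ ⟨0, h0⟩
  have hdet : d ^ n = 1 := by
    have := M.2
    rw [Matrix.det_of_upperTriangular (hup : Matrix.BlockTriangular _ id)] at this
    simpa [heq] using this
  have hd0 : d ≠ 0 := fun h => by rw [h, zero_pow h0.ne'] at hdet; exact zero_ne_one hdet
  let z : SLn := ⟨Matrix.scalar (Fin n) d, by simp [Matrix.scalar_apply, hdet]⟩
  have hz : z ∈ Subgroup.center SLn :=
    Matrix.SpecialLinearGroup.mem_center_iff.2 ⟨d, by simpa using hdet, rfl⟩
  refine hgA ⟨z⁻¹ * M, ?_, ?_⟩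
  · have hzinv : ((z⁻¹ : SLn) : Mn) = Matrix.scalar (Fin n) d⁻¹ := by
      have h1 : ((z⁻¹ : SLn) : Mn) * (z : Mn) = 1 := by
        rw [← Matrix.SpecialLinearGroup.coe_mul, inv_mul_cancel, Matrix.SpecialLinearGroup.coe_one]
      have h2 : (z : Mn) * Matrix.scalar (Fin n) d⁻¹ = 1 := by
        show Matrix.scalar (Fin n) d * _ = 1
        rw [← map_mul, mul_inv_cancel₀ hd0, map_one]
      exact left_inv_eq_right_inv h1 h2
    refine ⟨fun i j hij => ?_, fun i => ?_⟩ <;>
      rw [Matrix.SpecialLinearGroup.coe_mul, hzinv, Matrix.scalar_apply, Matrix.diagonal_mul]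
    · rw [hup i j hij, mul_zero]
    · rw [heq, inv_mul_cancel₀ hd0]
  · show (QuotientGroup.mk (z⁻¹ * M) : PSLn) = _
    rw [QuotientGroup.mk_mul, (QuotientGroup.eq_one_iff _).2 (Subgroup.inv_mem _ hz), one_mul]

end structure'

/-! ### Generation -/

/-- Upper elementary transvections generate the unitriangular group. -/
theorem uni_le {A : Subgroup SLn}
    (h : ∀ (i j : Fin n) (hij : i < j) (c : K), Matrix.SpecialLinearGroup.transvection hij.ne c ∈ A) :
    uni K n ≤ A := by
  classical
  intro x hx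
  induction hk : (Finset.univ.filter fun q : Fin n × Fin n => q.1 < q.2 ∧ (x : Mn) q.1 q.2 ≠ 0).card
    using Nat.strong_induction_on generalizing x with
  | _ m ih =>
  set s := Finset.univ.filter fun q : Fin n × Fin n => q.1 < q.2 ∧ (x : Mn) q.1 q.2 ≠ 0 with hs
  rcases s.eq_empty_or_nonempty with he | hne
  · have : x = 1 := by
      apply Subtype.ext
      ext i j
      show (x : Mn) i j = ((1 : SLn) : Mn) i j
      rw [Matrix.SpecialLinearGroup.coe_one]
      rcases lt_trichotomy i j with hij | rfl | hij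
      · rw [Matrix.one_apply_ne hij.ne]
        by_contra hx0
        have : (i, j) ∈ s := by simp [hs, hij, hx0]
        rw [he] at this; simp at this
      · rw [hx.2, Matrix.one_apply_eq]
      · rw [hx.1 i j hij, Matrix.one_apply_ne (ne_of_gt hij)]
    exact this ▸ A.one_mem
  obtain ⟨⟨i, j⟩, hmem, hmax⟩ := s.exists_max_image (fun q => q.2) hne
  simp only [hs, Finset.mem_filter, Finset.mem_univ, true_and] at hmem
  set y := Matrix.SpecialLinearGroup.transvection hmem.1.ne (-(x : Mn) i j) * x with hy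
  have hyU : y ∈ uni K n := (uni K n).mul_mem (transvection_mem_uni hmem.1 _) hx
  have hent : ∀ a b, (y : Mn) a b = if a = i ∧ b = j then 0 else (x : Mn) a b := by
    intro a b
    rw [hy, Matrix.SpecialLinearGroup.coe_mul, coe_transvection, add_mul, one_mul, Matrix.add_apply]
    rcases eq_or_ne a i with rfl | ha
    · rw [Matrix.single_mul_apply_same]
      rcases eq_or_ne b j with rfl | hb
      · simp [hx.2]
      · rw [if_neg (by simp [hb])]
        have : (x : Mn) j b = 0 := by
          rcases lt_or_gt_of_ne hb with hbj | hbj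
          · exact hx.1 j b hbj
          · by_contra hne0
            exact absurd (hmax (j, b) (by simp [hs, hbj, hne0])) (not_le.2 hbj)
        simp [this]
    · rw [Matrix.single_mul_apply_of_ne _ _ _ _ _ ha, add_zero, if_neg (by simp [ha])]
  have hlt : (Finset.univ.filter fun q : Fin n × Fin n => q.1 < q.2 ∧ (y : Mn) q.1 q.2 ≠ 0).card < m := by
    rw [← hk]
    refine Finset.card_lt_card (Finset.ssubset_iff_of_subset ?_ |>.2 ⟨(i, j), ?_, ?_⟩)
    · intro q hq
      simp only [Finset.mem_filter, Finset.mem_univ, true_and, hs, hent] at hq ⊢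
      refine ⟨hq.1, fun h0 => hq.2 ?_⟩
      split <;> simp [h0]
    · simp [hs, hmem]
    · simp [hent]
  have hyA := ih _ hlt hyU rfl
  have : x = Matrix.SpecialLinearGroup.transvection hmem.1.ne ((x : Mn) i j) * y := by
    rw [hy, ← mul_assoc, Matrix.SpecialLinearGroup.transvection_mul_neg, one_mul]
  rw [this]
  exact A.mul_mem (h i j hmem.1 _) hyA

/-- Diagonal elements lie in any subgroup containing the adjacent ones. -/
theorem diag_mem {A : Subgroup SLn}
    (h : ∀ (k l : Fin n) (hlk : l ≠ k), (k : ℕ) + 1 = l → ∀ (a : K) (ha : a ≠ 0),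
      Matrix.SpecialLinearGroup.diag2n hlk a ha ∈ A)
    {M : SLn} (hM : ∀ i j : Fin n, i ≠ j → (M : Mn) i j = 0) : M ∈ A := by
  classical
  rcases n.eq_zero_or_pos with h0 | h0
  · haveI : IsEmpty (Fin n) := ⟨fun i => absurd i.isLt (by omega)⟩
    exact (show (1 : SLn) = M from Subtype.ext (Matrix.ext fun i => isEmptyElim i)) ▸ A.one_mem
  set z : Fin n := ⟨0, h0⟩
  have step : ∀ m : ℕ, ∀ (i : Fin n) (hi : i ≠ z) (a : K) (ha : a ≠ 0), (i : ℕ) = m + 1 →
      Matrix.SpecialLinearGroup.diag2n hi a ha ∈ A := by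
    intro m
    induction m with
    | zero => exact fun i hi a ha he => h z i hi (by simp [z, he]) a ha
    | succ m ih =>
      intro i hi a ha he
      set k : Fin n := ⟨m + 1, by omega⟩
      have hik : i ≠ k := fun e => by rw [e] at he; simp [k] at he
      have hkz : k ≠ z := fun e => by simpa [k, z] using congrArg Fin.val e
      have : Matrix.SpecialLinearGroup.diag2n hi a ha =
          Matrix.SpecialLinearGroup.diag2n hik a ha * Matrix.SpecialLinearGroup.diag2n hkz a ha := by
        apply Subtype.ext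
        show _ = ((_ * _ : SLn) : Mn)
        rw [Matrix.SpecialLinearGroup.coe_mul, Matrix.SpecialLinearGroup.diag2n_coe,
          Matrix.SpecialLinearGroup.diag2n_coe, Matrix.SpecialLinearGroup.diag2n_coe, Matrix.diagonal_mul_diagonal]
        congr 1
        funext q
        split_ifs <;> simp_all
      rw [this]
      exact A.mul_mem (h k i hik (by simp [k, he]) a ha) (ih k hkz a ha (by simp [k]))
  have hdiag : (M : Mn) = Matrix.diagonal fun i => (M : Mn) i i := by
    ext i j
    rcases eq_or_ne i j with rfl | hij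
    · rw [Matrix.diagonal_apply_eq]
    · rw [hM i j hij, Matrix.diagonal_apply_ne _ hij]
  have hne : ∀ i, (M : Mn) i i ≠ 0 := by
    intro i hi
    have := M.2
    rw [hdiag, Matrix.det_diagonal, Finset.prod_eq_zero (f := fun q => (M : Mn) q q) (Finset.mem_univ i) hi] at this
    exact zero_ne_one this
  -- clear the entries one at a time
  suffices key : ∀ (s : Finset (Fin n)) (x : SLn), (∀ i j : Fin n, i ≠ j → (x : Mn) i j = 0) →
      (∀ i, i ∉ s → i ≠ z → (x : Mn) i i = 1) → x ∈ A from key Finset.univ M hM (by simp)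
  intro s
  induction s using Finset.induction with
  | empty =>
    intro x hx h1
    have hd : (x : Mn) z z = 1 := by
      have := x.2
      rw [show (x : Mn) = Matrix.diagonal (fun i => (x : Mn) i i) from by
        ext i j
        rcases eq_or_ne i j with rfl | hij
        · rw [Matrix.diagonal_apply_eq]
        · rw [hx i j hij, Matrix.diagonal_apply_ne _ hij], Matrix.det_diagonal,
        Finset.prod_eq_single z (fun b _ hb => h1 b (by simp) hb) (by simp)] at this
      exact this
    have : x = 1 := by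
      apply Subtype.ext
      ext i j
      show (x : Mn) i j = ((1 : SLn) : Mn) i j
      rw [Matrix.SpecialLinearGroup.coe_one]
      rcases eq_or_ne i j with rfl | hij
      · rw [Matrix.one_apply_eq]
        rcases eq_or_ne i z with rfl | hiz
        · exact hd
        · exact h1 i (by simp) hiz
      · rw [hx i j hij, Matrix.one_apply_ne hij]
    exact this ▸ A.one_mem
  | insert i s his ih =>
    intro x hx h1
    rcases eq_or_ne i z with rfl | hiz
    · exact ih x hx fun j hj hjz => h1 j (by simp [hjz, hj]) hjz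
    have ha : (x : Mn) i i ≠ 0 := by
      intro hi
      have := x.2
      rw [show (x : Mn) = Matrix.diagonal (fun j => (x : Mn) j j) from by
        ext a b
        rcases eq_or_ne a b with rfl | hab
        · rw [Matrix.diagonal_apply_eq]
        · rw [hx a b hab, Matrix.diagonal_apply_ne _ hab], Matrix.det_diagonal,
        Finset.prod_eq_zero (f := fun q => (x : Mn) q q) (Finset.mem_univ i) hi] at this
      exact zero_ne_one this
    set d := Matrix.SpecialLinearGroup.diag2n hiz _ (inv_ne_zero ha) with hd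
    have hdA : d ∈ A := step ((i : ℕ) - 1) i hiz _ (inv_ne_zero ha) (by
      have : (i : ℕ) ≠ 0 := fun e => hiz (Fin.ext e)
      omega)
    have hy : ∀ a b, ((d * x : SLn) : Mn) a b =
        (if a = i then ((x : Mn) i i)⁻¹ else if a = z then ((x : Mn) i i) else 1) * (x : Mn) a b := by
      intro a b
      rw [Matrix.SpecialLinearGroup.coe_mul, hd, Matrix.SpecialLinearGroup.diag2n_coe, Matrix.diagonal_mul, inv_inv]
    have := ih (d * x) (fun a b hab => by rw [hy, hx a b hab, mul_zero]) fun a has haz => by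
      rw [hy]
      rcases eq_or_ne a i with rfl | hai
      · rw [if_pos rfl, inv_mul_cancel₀ ha]
      · rw [if_neg hai, if_neg haz, one_mul, h1 a (by simp [hai, has]) haz]
    simpa using A.mul_mem (A.inv_mem hdA) this

theorem exists_move {a b : K} (ha : a ≠ 0) (hb : b ≠ 0) {f l i j : Fin n} (hfl : f ≠ l) (hij : i ≠ j)
    (h3 : 3 ≤ n) :
    ∃ g : SLn, g * Matrix.SpecialLinearGroup.transvection hfl a =
      Matrix.SpecialLinearGroup.transvection hij b * g := by
  classical
  set σ : Equiv.Perm (Fin n) := Equiv.swap (Equiv.swap f i l) j * Equiv.swap f i with hσ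
  have hσf : σ f = i := by
    rw [hσ, Equiv.Perm.mul_apply, Equiv.swap_apply_left, Equiv.swap_apply_of_ne_of_ne _ hij]
    intro e
    have := congrArg (Equiv.swap f i) e
    rw [Equiv.swap_apply_right, Equiv.swap_apply_self] at this
    exact hfl this
  have hσl : σ l = j := by rw [hσ, Equiv.Perm.mul_apply, Equiv.swap_apply_left]
  obtain ⟨m, hmf, hml⟩ : ∃ m : Fin n, m ≠ f ∧ m ≠ l := by
    by_contra hc
    push Not at hc
    have : (Finset.univ : Finset (Fin n)) ⊆ {f, l} := fun m _ => by
      rcases eq_or_ne m f with rfl | hm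
      · simp
      · simp [hc m hm]
    have h2 : ({f, l} : Finset (Fin n)).card ≤ 2 := Finset.card_le_two
    have := Finset.card_le_card this
    simp at this
    omega
  set t := b / a with ht
  have ht0 : t ≠ 0 := div_ne_zero hb ha
  set d : Fin n → K := fun q => if q = f then t else if q = m then ((Equiv.Perm.sign σ : ℤ) : K) * t⁻¹ else 1
  let P : Mn := Matrix.of fun x y => if x = σ y then d y else 0
  have hP : P.det = 1 := by
    have : P = (Matrix.diagonal fun x => d (σ⁻¹ x)) * σ⁻¹.permMatrix K := by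
      ext x y
      rw [Matrix.diagonal_mul]
      by_cases hxy : x = σ y
      · subst hxy; simp [P, Equiv.Perm.permMatrix, PEquiv.toMatrix_apply]
      · have hne : σ⁻¹ x ≠ y := fun e => hxy (by rw [← e]; simp)
        simp [P, hxy, Equiv.Perm.permMatrix, PEquiv.toMatrix_apply]
        exact fun e => absurd e hne
    rw [this, Matrix.det_mul, Matrix.det_diagonal, Matrix.det_permutation, Equiv.Perm.sign_inv,
      Equiv.prod_comp σ⁻¹ d,
      Finset.prod_eq_mul f m hmf.symm (fun c _ hc => by simp [d, hc.1, hc.2]) (by simp) (by simp)]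
    simp only [d, if_pos, if_neg hmf]
    rcases Int.units_eq_one_or (Equiv.Perm.sign σ) with h | h <;> simp [h, ht0]
  obtain ⟨g, hg⟩ : ∃ g : SLn, (g : Mn) = P := ⟨⟨P, hP⟩, rfl⟩
  refine ⟨g, ?_⟩
  apply Subtype.ext
  show ((_ * _ : SLn) : Mn) = ((_ * _ : SLn) : Mn)
  rw [Matrix.SpecialLinearGroup.coe_mul, Matrix.SpecialLinearGroup.coe_mul, coe_transvection, coe_transvection, hg,
    mul_add, add_mul, mul_one, one_mul]
  congr 1
  ext x y
  show (P * Matrix.single f l a : Mn) x y = (Matrix.single i j b * P : Mn) x y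
  simp only [Matrix.mul_apply, Matrix.single_apply, P, Matrix.of_apply]
  rw [Finset.sum_eq_single f
      (fun c _ hc => by rw [if_neg (show ¬(f = c ∧ l = y) from fun h => hc h.1.symm), mul_zero]) (by simp),
    Finset.sum_eq_single j
      (fun c _ hc => by rw [if_neg (show ¬(i = x ∧ j = c) from fun h => hc h.2.symm), zero_mul]) (by simp)]
  have hdl : d l = 1 := by simp [d, hfl.symm, hml.symm]
  have hdf : d f = t := by simp [d]
  rw [hσf, hdf]
  by_cases hx : x = i
  · by_cases hy : y = l
    · subst hx hy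
      simp [hσl, hdl, ht]
      field_simp
    · have hy2 : j ≠ σ y := fun h => hy (σ.injective (hσl.trans h)).symm
      subst hx
      simp [Ne.symm hy, hy2]
  · simp [hx, Ne.symm hx]

/-! ### The minimal radicals -/

/-- Entries of a conjugate by an elementary transvection. -/
theorem conj_transvection_apply {k l : Fin n} (hkl : k ≠ l) (c : K) (u : SLn) (i j : Fin n) :
    ((Matrix.SpecialLinearGroup.transvection hkl c * u * (Matrix.SpecialLinearGroup.transvection hkl c)⁻¹ : SLn) : Mn) i j =
      ((u : Mn) i j + if i = k then c * (u : Mn) l j else 0) -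
        if j = l then c * ((u : Mn) i k + if i = k then c * (u : Mn) l k else 0) else 0 := by
  rw [Matrix.SpecialLinearGroup.transvection_inv, Matrix.SpecialLinearGroup.coe_mul,
    Matrix.SpecialLinearGroup.coe_mul, coe_transvection, coe_transvection, mul_add, mul_one, Matrix.add_apply]
  have e1 : ∀ b, ((1 + Matrix.single k l c) * (u : Mn)) i b = (u : Mn) i b + if i = k then c * (u : Mn) l b else 0 := by
    intro b
    rw [add_mul, one_mul, Matrix.add_apply]
    rcases eq_or_ne i k with rfl | h
    · rw [Matrix.single_mul_apply_same, if_pos rfl]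
    · rw [Matrix.single_mul_apply_of_ne _ _ _ _ _ h, if_neg h]
  rcases eq_or_ne j l with rfl | h
  · rw [Matrix.mul_single_apply_same, e1, e1, if_pos rfl]
    ring
  · rw [Matrix.mul_single_apply_of_ne _ _ _ _ _ h, e1, if_neg h, add_zero, sub_zero]

variable (K) in
/-- Unitriangular matrices with a vanishing entry next to the diagonal. -/
def radSub (k l : Fin n) (hkl : (k : ℕ) + 1 = l) : Subgroup SLn where
  carrier := {x | x ∈ uni K n ∧ (x : Mn) k l = 0}
  one_mem' := ⟨(uni K n).one_mem, by
    rw [Matrix.SpecialLinearGroup.coe_one, Matrix.one_apply_ne]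
    intro e; rw [e] at hkl; omega⟩
  mul_mem' := fun {x y} hx hy => ⟨(uni K n).mul_mem hx.1 hy.1, by
    rw [Matrix.SpecialLinearGroup.coe_mul, Matrix.mul_apply]
    refine Finset.sum_eq_zero fun q _ => ?_
    rcases lt_trichotomy (q : ℕ) k with h | h | h
    · rw [hx.1.1 k q h, zero_mul]
    · rw [Fin.ext h, hy.2, mul_zero]
    · rcases lt_or_eq_of_le (show (l : ℕ) ≤ q by omega) with h' | h'
      · rw [hy.1.1 q l h', mul_zero]
      · rw [← Fin.ext h', hx.2, zero_mul]⟩
  inv_mem' := fun {x} hx => ⟨(uni K n).inv_mem hx.1, by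
    have h := congrFun (congrFun (show (x : Mn) * ((x⁻¹ : SLn) : Mn) = 1 by
      rw [← Matrix.SpecialLinearGroup.coe_mul, mul_inv_cancel, Matrix.SpecialLinearGroup.coe_one]) k) l
    have hne : k ≠ l := fun e => by rw [e] at hkl; omega
    rw [Matrix.mul_apply, Matrix.one_apply_ne hne, Finset.sum_eq_single k] at h
    · rwa [hx.1.2, one_mul] at h
    · intro q _ hq
      rcases lt_trichotomy (q : ℕ) k with h | h | h
      · rw [hx.1.1 k q h, zero_mul]
      · exact absurd (Fin.ext h) hq
      · rcases lt_or_eq_of_le (show (l : ℕ) ≤ q by omega) with h' | h'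
        · rw [(isUni_inv x hx.1).1 q l h', mul_zero]
        · rw [← Fin.ext h', hx.2, zero_mul]
    · simp⟩

theorem mem_radSub {k l : Fin n} {hkl : (k : ℕ) + 1 = l} {x : SLn} :
    x ∈ radSub K k l hkl ↔ x ∈ uni K n ∧ (x : Mn) k l = 0 := Iff.rfl

theorem root_mem_normalizer {k l : Fin n} (hkl : (k : ℕ) + 1 = l) (hne : k ≠ l) (c : K) :
    Matrix.SpecialLinearGroup.transvection hne c ∈ Subgroup.normalizer ((radSub K k l hkl : Subgroup SLn) : Set SLn) ∧
    Matrix.SpecialLinearGroup.transvection hne.symm c ∈ Subgroup.normalizer ((radSub K k l hkl : Subgroup SLn) : Set SLn) := by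
  have hkl' : k < l := by rw [Fin.lt_def]; omega
  have h1 : ∀ (c : K) (u : SLn), u ∈ radSub K k l hkl →
      Matrix.SpecialLinearGroup.transvection hne c * u * (Matrix.SpecialLinearGroup.transvection hne c)⁻¹ ∈
        radSub K k l hkl := by
    rintro c u ⟨⟨hup, hd⟩, hz⟩
    refine ⟨⟨fun i j hji => ?_, fun i => ?_⟩, ?_⟩ <;> rw [conj_transvection_apply]
    · rcases eq_or_ne i k with rfl | hi
      · rw [hup _ _ hji, hup l j (lt_trans hji hkl'), if_pos rfl, if_neg (ne_of_lt (lt_trans hji hkl'))]
        simp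
      · rcases eq_or_ne j l with rfl | hj
        · simp [hi, hup i _ hji, hup i k (lt_trans hkl' hji)]
        · simp [hi, hj, hup i j hji]
    · rcases eq_or_ne i k with rfl | hi
      · simp [hne, hd, hup l _ hkl']
      · rcases eq_or_ne i l with rfl | hj
        · simp [hi, hd, hup _ k hkl']
        · simp [hi, hj, hd]
    · simp [hd, hz, hup l k hkl']
  have h2 : ∀ (c : K) (u : SLn), u ∈ radSub K k l hkl →
      Matrix.SpecialLinearGroup.transvection hne.symm c * u * (Matrix.SpecialLinearGroup.transvection hne.symm c)⁻¹ ∈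
        radSub K k l hkl := by
    rintro c u ⟨⟨hup, hd⟩, hz⟩
    refine ⟨⟨fun i j hji => ?_, fun i => ?_⟩, ?_⟩ <;> rw [conj_transvection_apply]
    · rcases eq_or_ne i l with rfl | hi
      · rcases eq_or_ne j k with rfl | hj
        · simp [hd, hz, hup _ _ hkl']
        · have : j < k := by
            rw [Fin.lt_def] at hji ⊢
            have : (j : ℕ) ≠ k := fun e => hj (Fin.ext e)
            omega
          simp [hup _ _ hji, hup _ _ this, hj]
      · rcases eq_or_ne j k with rfl | hj
        · have : l < i := by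
            rw [Fin.lt_def] at hji ⊢
            have : (i : ℕ) ≠ l := fun e => hi (Fin.ext e)
            omega
          simp [hi, hup _ _ hji, hup _ _ this]
        · simp [hi, hj, hup _ _ hji]
    · rcases eq_or_ne i l with rfl | hi
      · simp [hne.symm, hd, hz]
      · rcases eq_or_ne i k with rfl | hj
        · simp [hi, hd, hz]
        · simp [hi, hj, hd]
    · simp [hne, hne.symm, hz]
  refine ⟨mem_normalizer_of_conj_mem _ (h1 c) fun u hu => ?_, mem_normalizer_of_conj_mem _ (h2 c) fun u hu => ?_⟩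
  · have := h1 (-c) u hu
    rwa [← Matrix.SpecialLinearGroup.transvection_inv, inv_inv] at this
  · have := h2 (-c) u hu
    rwa [← Matrix.SpecialLinearGroup.transvection_inv, inv_inv] at this

theorem normalizer_radSub_le (k l : Fin n) (hkl : (k : ℕ) + 1 = l) :
    (uni K n : Subgroup SLn) ≤ Subgroup.normalizer ((radSub K k l hkl : Subgroup SLn) : Set SLn) :=
  uni_le fun i j hij c => by
    have hkl' : k < l := by rw [Fin.lt_def]; omega
    by_cases h : i = k ∧ j = l
    · obtain ⟨rfl, rfl⟩ := h
      exact (root_mem_normalizer hkl hij.ne c).1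
    · refine Subgroup.le_normalizer ⟨transvection_mem_uni hij c, ?_⟩
      rw [coe_transvection, Matrix.add_apply, Matrix.single_apply, if_neg h, Matrix.one_apply_ne hkl'.ne, add_zero]

/-- The centralizer of a minimal radical consists of scalar multiples of its elements. -/
theorem centralizer_radSub (h3 : 3 ≤ n) {k l : Fin n} (hkl : (k : ℕ) + 1 = l) {M : SLn}
    (hM : ∀ x ∈ radSub K k l hkl, M * x = x * M) :
    ∃ y ∈ radSub K k l hkl, (QuotientGroup.mk M : PSLn) = QuotientGroup.mk y := by
  have hk' : k < l := by rw [Fin.lt_def]; omega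
  have key : ∀ (i j : Fin n), i < j → ¬ (i = k ∧ j = l) →
      (∀ a, a ≠ i → (M : Mn) a i = 0) ∧ (∀ b, b ≠ j → (M : Mn) j b = 0) ∧ (M : Mn) i i = (M : Mn) j j := by
    intro i j hij hne
    have hmem : Matrix.SpecialLinearGroup.transvection hij.ne (1 : K) ∈ radSub K k l hkl := by
      refine ⟨transvection_mem_uni hij _, ?_⟩
      rw [coe_transvection, Matrix.add_apply, Matrix.single_apply, if_neg hne, Matrix.one_apply_ne hk'.ne, add_zero]
    have h : (M : Mn) * Matrix.single i j 1 = Matrix.single i j 1 * (M : Mn) := by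
      have h0 := congrArg (fun y : SLn => (y : Mn)) (hM _ hmem)
      simp only [Matrix.SpecialLinearGroup.coe_mul, coe_transvection, mul_add, add_mul, mul_one, one_mul] at h0
      exact add_left_cancel h0
    have hc : Commute (Matrix.single i j (1 : K)) (M : Mn) := h.symm
    exact ⟨fun a ha => Matrix.col_eq_zero_of_commute_single hc ha,
      fun b hb => Matrix.row_eq_zero_of_commute_single hc hb, Matrix.diag_eq_of_commute_single hc⟩
  set z : Fin n := ⟨0, by omega⟩
  set w : Fin n := ⟨n - 1, by omega⟩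
  have hzw : z < w := by rw [Fin.lt_def]; show 0 < n - 1; omega
  have hzwne : ¬ (z = k ∧ w = l) := fun ⟨h1, h2⟩ => by
    have e1 : (k : ℕ) = 0 := by rw [← h1]
    have e2 : (l : ℕ) = n - 1 := by rw [← h2]
    omega
  -- the diagonal is constant
  have hdiag : ∀ i, (M : Mn) i i = (M : Mn) z z := by
    intro i
    rcases eq_or_ne i z with rfl | hiz
    · rfl
    by_cases hi : z = k ∧ i = l
    · obtain ⟨hzk, rfl⟩ := hi
      have hlt : i < w := by
        rw [Fin.lt_def]; show (i : ℕ) < n - 1
        have : (k : ℕ) = 0 := by rw [← hzk]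
        omega
      exact ((key i w hlt (fun h => hk'.ne h.1.symm)).2.2).trans (key z w hzw hzwne).2.2.symm
    · exact ((key z i (lt_of_le_of_ne (Fin.le_def.2 (Nat.zero_le _)) (Ne.symm hiz)) hi).2.2).symm
  -- entries below the diagonal and at `(k, l)` vanish
  have hlow : ∀ a b : Fin n, a ≠ b → (b < a ∨ (a = k ∧ b = l)) → (M : Mn) a b = 0 := by
    intro a b hab h
    by_cases hb : ∃ j, b < j ∧ ¬ (b = k ∧ j = l)
    · obtain ⟨j, hj, hj'⟩ := hb
      exact (key b j hj hj').1 a hab
    by_cases ha : ∃ i, i < a ∧ ¬ (i = k ∧ a = l)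
    · obtain ⟨i, hi, hi'⟩ := ha
      exact (key i a hi hi').2.1 b (Ne.symm hab)
    push Not at hb ha
    exfalso
    have hbw : (b : ℕ) = n - 1 ∨ (b = k ∧ w = l) := by
      rcases lt_or_eq_of_le (show (b : ℕ) ≤ n - 1 by omega) with hlt | he
      · exact Or.inr (hb w hlt)
      · exact Or.inl he
    have haz : (a : ℕ) = 0 ∨ (z = k ∧ a = l) := by
      rcases Nat.eq_zero_or_pos (a : ℕ) with he | hlt
      · exact Or.inl he
      · exact Or.inr (ha z hlt)
    rcases h with h | ⟨rfl, rfl⟩
    · rw [Fin.lt_def] at h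
      rcases hbw with e | ⟨e1, e2⟩
      · omega
      · rcases haz with e' | ⟨e3, e4⟩
        · omega
        · exact hzwne ⟨e3, e2⟩
    · rcases hbw with e | ⟨e1, e2⟩
      · rcases haz with e' | ⟨e3, e4⟩
        · exact hzwne ⟨Fin.ext e'.symm, Fin.ext e.symm⟩
        · exact hab e4
      · exact hab e1.symm
  set d := (M : Mn) z z
  have hupM : IsUpper (M : Mn) := fun a b hba => hlow a b (ne_of_gt hba) (Or.inl hba)
  have hdet : d ^ n = 1 := by
    have := M.2
    rw [Matrix.det_of_upperTriangular (hupM : Matrix.BlockTriangular _ id)] at this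
    simpa [hdiag] using this
  have hd0 : d ≠ 0 := fun h => by rw [h, zero_pow (by omega)] at hdet; exact zero_ne_one hdet
  let s : SLn := ⟨Matrix.scalar (Fin n) d⁻¹, by simp [Matrix.scalar_apply, inv_pow, hdet]⟩
  have hs : s ∈ Subgroup.center SLn :=
    Matrix.SpecialLinearGroup.mem_center_iff.2 ⟨d⁻¹, by simp [inv_pow, hdet], rfl⟩
  have hy : ∀ a b, ((s * M : SLn) : Mn) a b = d⁻¹ * (M : Mn) a b := fun a b => by
    rw [Matrix.SpecialLinearGroup.coe_mul]
    show (Matrix.scalar (Fin n) d⁻¹ * (M : Mn)) a b = _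
    rw [Matrix.scalar_apply, Matrix.diagonal_mul]
  refine ⟨s * M, ⟨⟨fun a b hba => ?_, fun a => ?_⟩, ?_⟩, ?_⟩
  · rw [hy, hupM a b hba, mul_zero]
  · rw [hy, hdiag, inv_mul_cancel₀ hd0]
  · rw [hy, hlow k l hk'.ne (Or.inr ⟨rfl, rfl⟩), mul_zero]
  · rw [QuotientGroup.mk_mul, (QuotientGroup.eq_one_iff _).2 hs, one_mul]

/-- The centre of the unitriangular group is the corner root group. -/
theorem uni_center (h3 : 3 ≤ n) {x : SLn} (hx : x ∈ uni K n) (hc : ∀ y ∈ uni K n, x * y = y * x) :
    ∀ hzw : (⟨0, by omega⟩ : Fin n) ≠ ⟨n - 1, by omega⟩,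
      x = Matrix.SpecialLinearGroup.transvection hzw ((x : Mn) ⟨0, by omega⟩ ⟨n - 1, by omega⟩) := by
  intro hzw
  set z : Fin n := ⟨0, by omega⟩
  set w : Fin n := ⟨n - 1, by omega⟩
  have key : ∀ (i j : Fin n), i < j →
      (∀ a, a ≠ i → (x : Mn) a i = 0) ∧ (∀ b, b ≠ j → (x : Mn) j b = 0) := by
    intro i j hij
    have h0 := congrArg (fun y : SLn => (y : Mn)) (hc _ (transvection_mem_uni hij (1 : K)))
    simp only [Matrix.SpecialLinearGroup.coe_mul, coe_transvection, mul_add, add_mul, mul_one, one_mul] at h0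
    have hcm : Commute (Matrix.single i j (1 : K)) (x : Mn) := (add_left_cancel h0).symm
    exact ⟨fun a ha => Matrix.col_eq_zero_of_commute_single hcm ha,
      fun b hb => Matrix.row_eq_zero_of_commute_single hcm hb⟩
  apply Subtype.ext
  ext a b
  show (x : Mn) a b = ((Matrix.SpecialLinearGroup.transvection hzw _ : SLn) : Mn) a b
  rw [coe_transvection, Matrix.add_apply, Matrix.single_apply]
  rcases lt_trichotomy a b with h | rfl | h
  · rw [Matrix.one_apply_ne h.ne, zero_add]
    split
    · rename_i hh; rw [← hh.1, ← hh.2]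
    · rename_i hh
      by_cases hb : b = w
      · subst hb
        have ha : z < a := lt_of_le_of_ne (Fin.le_def.2 (Nat.zero_le _)) fun e => hh ⟨e, rfl⟩
        exact (key z a ha).2 w (ne_of_gt h)
      · have hbw : b < w := lt_of_le_of_ne (Fin.le_def.2 (show (b : ℕ) ≤ n - 1 by omega)) hb
        exact (key b w hbw).1 a h.ne
  · rw [hx.2, Matrix.one_apply_eq, if_neg (fun hh => hzw (hh.1.trans hh.2.symm)), add_zero]
  · rw [hx.1 a b h, Matrix.one_apply_ne (ne_of_gt h), zero_add, if_neg]
    rintro ⟨rfl, rfl⟩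
    exact absurd h (not_lt.2 (Fin.le_def.2 (Nat.zero_le _)))

/-! ### Simplicity -/

section simple

variable {p : ℕ} [hp : Fact p.Prime] [CharP K p] [Fintype K]

theorem psln_isSimple (hn : 3 ≤ n) (S : Sylow p PSLn) :
    (groupFusionSystem (S : Subgroup PSLn)).IsSimple p := by
  classical
  haveI : Finite PSLn := inferInstance
  obtain ⟨S₀, hS₀⟩ := exists_sylow_uniImage (K := K) (n := n) p
  obtain ⟨c, hc⟩ := MulAction.exists_smul_eq PSLn S₀ S
  set π : SLn →* PSLn := (MulAut.conj c).toMonoidHom.comp (QuotientGroup.mk' (Subgroup.center SLn)) with hπ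
  have hS : (S : Subgroup PSLn) = (uni K n).map π := by
    rw [← hc, hπ, ← Subgroup.map_map, ← hS₀]; rfl
  have hπs : Function.Surjective π := fun g => by
    obtain ⟨x, hx⟩ := QuotientGroup.mk_surjective (c⁻¹ * g * c)
    refine ⟨x, ?_⟩
    show c * QuotientGroup.mk x * c⁻¹ = g
    rw [hx]; group
  have hker : ∀ {x y : SLn}, π x = π y → (QuotientGroup.mk x : PSLn) = QuotientGroup.mk y :=
    fun h => (MulAut.conj c).injective h
  have hinj : ∀ {x y : SLn}, π x = π y → x ^ p ^ n = 1 → y ^ p ^ n = 1 → x = y :=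
    fun h hx hy => eq_of_mk_eq p (hker h) hx hy
  have hmemS : ∀ {x : SLn}, x ∈ uni K n → π x ∈ (S : Subgroup PSLn) := fun hx => by
    rw [hS]; exact ⟨_, hx, rfl⟩
  have hS' : ∀ {g : PSLn}, g ∈ (S : Subgroup PSLn) → ∃ x ∈ uni K n, π x = g := fun hg => by
    rw [hS] at hg; exact hg
  have hmapN : ∀ {A : Subgroup SLn} {x : SLn}, x ∈ Subgroup.normalizer (A : Set SLn) →
      π x ∈ Subgroup.normalizer (A.map π : Set PSLn) := fun {A x} hx =>
    Subgroup.le_normalizer_map π ⟨x, hx, rfl⟩
  set z : Fin n := ⟨0, by omega⟩ with hz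
  set w : Fin n := ⟨n - 1, by omega⟩ with hw
  have hzw : z ≠ w := fun e => by
    have := congrArg Fin.val e
    simp [hz, hw] at this
    omega
  -- no proper strongly closed subgroups
  have hsc : ∀ T : Subgroup PSLn, (groupFusionSystem (S : Subgroup PSLn)).StronglyClosed T →
      T = ⊥ ∨ T = (S : Subgroup PSLn) := by
    intro T hT
    by_cases hT1 : T = ⊥
    · exact Or.inl hT1
    refine Or.inr (le_antisymm hT.1 ?_)
    haveI : Group.IsNilpotent (S : Subgroup PSLn) := S.2.isNilpotent
    have hTn : (T.subgroupOf (S : Subgroup PSLn)).Normal := ⟨fun t ht s =>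
      ((group_stronglyClosed_iff S).1 hT).2 s t ht
        ((S : Subgroup PSLn).mul_mem ((S : Subgroup PSLn).mul_mem s.2 t.2) ((S : Subgroup PSLn).inv_mem s.2))⟩
    have hTne : T.subgroupOf (S : Subgroup PSLn) ≠ ⊥ := by
      intro h
      refine hT1 (eq_bot_iff.2 fun t ht => ?_)
      have : (⟨t, hT.1 ht⟩ : (S : Subgroup PSLn)) ∈ T.subgroupOf (S : Subgroup PSLn) := ht
      rw [h, Subgroup.mem_bot] at this
      exact Subgroup.mem_bot.2 (congrArg Subtype.val this)
    obtain ⟨⟨⟨t, htS⟩, htmem⟩, htne⟩ :=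
      Subgroup.ne_bot_iff_exists_ne_one.1 (Cfsg.Agent.SolvStruct.inf_center_ne_bot hTne)
    obtain ⟨htT, htC⟩ := Subgroup.mem_inf.1 htmem
    obtain ⟨x, hx, rfl⟩ := hS' htS
    have hxc : ∀ y ∈ uni K n, x * y = y * x := by
      intro y hy
      have h := congrArg Subtype.val (Subgroup.mem_center_iff.1 htC ⟨π y, hmemS hy⟩)
      refine hinj ?_ (uni_pow_char p _ ((uni K n).mul_mem hx hy)) (uni_pow_char p _ ((uni K n).mul_mem hy hx))
      rw [map_mul, map_mul]
      exact h.symm
    have hxt := uni_center hn hx hxc hzw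
    set a := (x : Mn) z w
    have ha : a ≠ 0 := by
      intro ha
      rw [ha, Matrix.SpecialLinearGroup.transvection_coeff_zero] at hxt
      refine htne (Subtype.ext (Subtype.ext ?_))
      show π x = 1
      rw [hxt, map_one]
    rw [hS, Subgroup.map_le_iff_le_comap]
    refine uni_le fun i j hij b => ?_
    show π (Matrix.SpecialLinearGroup.transvection hij.ne b) ∈ T
    by_cases hb : b = 0
    · rw [hb, Matrix.SpecialLinearGroup.transvection_coeff_zero, map_one]; exact T.one_mem
    obtain ⟨g, hg⟩ := exists_move ha hb hzw hij.ne hn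
    have heq : π g * π x * (π g)⁻¹ = π (Matrix.SpecialLinearGroup.transvection hij.ne b) := by
      rw [← map_inv, ← map_mul, ← map_mul, hxt, hg, mul_inv_cancel_right]
    rw [← heq]
    exact ((group_stronglyClosed_iff S).1 hT).2 (π g) (π x) htT
      (heq ▸ hmemS (transvection_mem_uni hij b))
  refine group_isSimple_of_generated S (fun h => ?_) hsc ?_
  · have h1 : π (Matrix.SpecialLinearGroup.transvection hzw (1 : K)) ∈ (S : Subgroup PSLn) :=
      hmemS (transvection_mem_uni (lt_of_le_of_ne (Fin.le_def.2 (Nat.zero_le _)) hzw) 1)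
    rw [h, Subgroup.mem_bot] at h1
    have h2 := hinj (x := Matrix.SpecialLinearGroup.transvection hzw (1 : K)) (y := 1) (by rw [h1, map_one])
      (uni_pow_char p _ (transvection_mem_uni (lt_of_le_of_ne (Fin.le_def.2 (Nat.zero_le _)) hzw) 1)) (one_pow _)
    have h3 := Matrix.SpecialLinearGroup.transvection_mem_center_iff hzw (1 : K)
    rw [h2] at h3
    exact one_ne_zero (h3.1 (Subgroup.one_mem _))
  -- the normalizer of `S`
  intro g hg
  obtain ⟨M, rfl⟩ := hπs g
  set A := Subgroup.closure {g : PSLn | g ∈ Subgroup.normalizer ((S : Subgroup PSLn) : Set PSLn) ∧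
    ((∀ x ∈ (S : Subgroup PSLn), g * x * g⁻¹ = x) ∨ g ∈ (S : Subgroup PSLn) ∨
      ∃ R : Subgroup PSLn, (groupFusionSystem (S : Subgroup PSLn)).IsFullyNormalized R ∧
        (groupFusionSystem (S : Subgroup PSLn)).IsCentric R ∧
        g ∈ Subgroup.closure {g : PSLn | g ∈ Subgroup.normalizer (R : Set PSLn) ∧ ∃ k : ℕ, orderOf g = p ^ k})}
  have hMup : IsUpper (M : Mn) := by
    refine upper_of_conj fun k l hkl => ?_
    obtain ⟨u, hu, he⟩ := hS' ((Subgroup.mem_normalizer_iff.1 hg _).1 (hmemS (transvection_mem_uni hkl (1 : K))))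
    rw [← map_inv, ← map_mul, ← map_mul] at he
    rw [← hinj he (uni_pow_char p u hu) (conj_pow_char (transvection_mem_uni hkl (1 : K)))]
    exact hu.1
  have hdet : ∏ i, (M : Mn) i i = 1 := by
    rw [← Matrix.det_of_upperTriangular (hMup : Matrix.BlockTriangular _ id)]; exact M.2
  have hne : ∀ i, (M : Mn) i i ≠ 0 := fun i hi => by
    rw [Finset.prod_eq_zero (f := fun q => (M : Mn) q q) (Finset.mem_univ i) hi] at hdet
    exact zero_ne_one hdet
  let D : SLn := ⟨Matrix.diagonal fun i => (M : Mn) i i, by rw [Matrix.det_diagonal]; exact hdet⟩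
  have hDu : D⁻¹ * M ∈ uni K n := by
    have hD : ((D⁻¹ : SLn) : Mn) = Matrix.diagonal fun i => ((M : Mn) i i)⁻¹ := by
      have h1 : ((D⁻¹ : SLn) : Mn) * (D : Mn) = 1 := by
        rw [← Matrix.SpecialLinearGroup.coe_mul, inv_mul_cancel, Matrix.SpecialLinearGroup.coe_one]
      refine left_inv_eq_right_inv h1 ?_
      show Matrix.diagonal (fun i => (M : Mn) i i) * _ = 1
      rw [Matrix.diagonal_mul_diagonal]
      simp [hne]
    refine ⟨fun i j hji => ?_, fun i => ?_⟩ <;> rw [Matrix.SpecialLinearGroup.coe_mul, hD, Matrix.diagonal_mul]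
    · rw [hMup i j hji, mul_zero]
    · rw [inv_mul_cancel₀ (hne i)]
  have hUA : π (D⁻¹ * M) ∈ A :=
    Subgroup.subset_closure ⟨Subgroup.le_normalizer (hmemS hDu), Or.inr (Or.inl (hmemS hDu))⟩
  suffices hDA : π D ∈ A by
    have := A.mul_mem hDA hUA
    rwa [← map_mul, mul_inv_cancel_left] at this
  show D ∈ A.comap π
  refine diag_mem (fun k l hlk hkl a ha => ?_) fun i j hij => Matrix.diagonal_apply_ne _ hij
  show π (Matrix.SpecialLinearGroup.diag2n hlk a ha) ∈ A
  set R : Subgroup PSLn := (radSub K k l hkl).map π with hR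
  have hRS : R ≤ (S : Subgroup PSLn) := by rw [hS]; exact Subgroup.map_mono fun x hx => hx.1
  refine Subgroup.subset_closure ⟨?_, Or.inr (Or.inr ⟨R, ?_, ?_, ?_⟩)⟩
  · have hdn : Matrix.SpecialLinearGroup.diag2n hlk a ha ∈ Subgroup.normalizer ((uni K n : Subgroup SLn) : Set SLn) := by
      refine normalizer_of_upper fun i j hji => ?_
      rw [Matrix.SpecialLinearGroup.diag2n_coe, Matrix.diagonal_apply_ne _ (ne_of_gt hji)]
    have := hmapN hdn
    rwa [← hS] at this
  · refine group_fullyNormalized_of_le_normalizer S hRS ?_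
    intro g hg
    obtain ⟨x, hx, rfl⟩ := hS' hg
    exact hmapN (normalizer_radSub_le k l hkl hx)
  · refine ⟨hRS, fun Q hQ => ?_⟩
    obtain ⟨-, -, g, rfl⟩ := (group_isConj_iff S).1 hQ
    intro y hy
    refine ⟨g⁻¹ * y * g, ?_, by simp [mul_assoc]⟩
    obtain ⟨M', hM'⟩ := hπs (g⁻¹ * y * g)
    have hcent : ∀ x ∈ radSub K k l hkl, M' * x = x * M' := by
      intro x hx
      have h1 := Subgroup.mem_centralizer_iff.1 hy.2 _ ⟨π x, ⟨x, hx, rfl⟩, rfl⟩
      have h2 : π M' * π x * (π M')⁻¹ = π x := by
        change g * π x * g⁻¹ * y = y * (g * π x * g⁻¹) at h1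
        rw [hM']
        calc g⁻¹ * y * g * π x * (g⁻¹ * y * g)⁻¹ = g⁻¹ * (y * (g * π x * g⁻¹)) * (y⁻¹ * g) := by group
          _ = g⁻¹ * (g * π x * g⁻¹ * y) * (y⁻¹ * g) := by rw [h1]
          _ = π x := by group
      rw [← map_inv, ← map_mul, ← map_mul] at h2
      exact mul_inv_eq_iff_eq_mul.1 (hinj h2 (conj_pow_char hx.1) (uni_pow_char p x hx.1))
    obtain ⟨y', hy', he⟩ := centralizer_radSub hn hkl hcent
    refine ⟨y', hy', ?_⟩
    rw [← hM']
    exact congrArg (MulAut.conj c) he.symm
  · have hroot : ∀ (i j : Fin n) (hij : i ≠ j) (b : K), (i = k ∧ j = l) ∨ (i = l ∧ j = k) →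
        π (Matrix.SpecialLinearGroup.transvection hij b) ∈
          Subgroup.closure {g : PSLn | g ∈ Subgroup.normalizer (R : Set PSLn) ∧ ∃ m : ℕ, orderOf g = p ^ m} := by
      intro i j hij b hc'
      refine Subgroup.subset_closure ⟨hmapN ?_, ?_⟩
      · rcases hc' with ⟨rfl, rfl⟩ | ⟨rfl, rfl⟩
        · exact (root_mem_normalizer hkl hij b).1
        · exact (root_mem_normalizer hkl hij.symm b).2
      · have hpow : ∀ m : ℕ, (Matrix.SpecialLinearGroup.transvection hij b : SLn) ^ m =
            Matrix.SpecialLinearGroup.transvection hij ((m : K) * b) := by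
          intro m
          induction m with
          | zero => simp [Matrix.SpecialLinearGroup.transvection_coeff_zero]
          | succ m ih => rw [pow_succ, ih, ← Matrix.SpecialLinearGroup.transvection_add]; congr 1; push_cast; ring
        have hd : orderOf (π (Matrix.SpecialLinearGroup.transvection hij b)) ∣ p ^ 1 :=
          orderOf_dvd_of_pow_eq_one (by
            rw [pow_one, ← map_pow, hpow, CharP.cast_eq_zero, zero_mul,
              Matrix.SpecialLinearGroup.transvection_coeff_zero, map_one])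
        obtain ⟨m, -, hm⟩ := (Nat.dvd_prime_pow hp.out).1 hd
        exact ⟨m, hm⟩
    rw [Cfsg.Agent.ClassicalSL.diag2n_eq_weyl]
    simp only [Cfsg.Agent.ClassicalSL.weylElt, map_mul]
    exact mul_mem (mul_mem (mul_mem (hroot _ _ _ _ (Or.inr ⟨rfl, rfl⟩)) (hroot _ _ _ _ (Or.inl ⟨rfl, rfl⟩)))
      (hroot _ _ _ _ (Or.inr ⟨rfl, rfl⟩)))
      (mul_mem (mul_mem (hroot _ _ _ _ (Or.inr ⟨rfl, rfl⟩)) (hroot _ _ _ _ (Or.inl ⟨rfl, rfl⟩)))
        (hroot _ _ _ _ (Or.inr ⟨rfl, rfl⟩)))

end simple

end Cfsg.Agent.FusionPSLn
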