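import Cfsg.Agent.Lib.Fusion.PSL3Two
import Cfsg.Agent.Lib.LinearBlock.SU3Involutions

/-!
# The 2-fusion system of `PSU(3, q)`, `q` odd, is simple
-/

set_option autoImplicit false

namespace Cfsg.Agent.FusionPSU3Two

open Cfsg Cfsg.FusionSystem Cfsg.Agent.FusionSys Cfsg.Agent.FusionPSL3Two Cfsg.Agent.Hermitian
open scoped Matrix

variable {F : Type*} [Field F] [Fintype F] {q : ℕ}

theorem jj_mem (g : Cfsg.GU 2 F q) (D : SU3Inv.Data F q) :
    (jHom (g : GL (Fin 2) F)) ∈ Cfsg.SU 3 F q := by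
  intro u v
  have h := g.2 ![u 0, u 1] ![v 0, v 1]
  have hd : (((Matrix.GeneralLinearGroup.det (g : GL (Fin 2) F))⁻¹ : Fˣ) : F) *
      (((Matrix.GeneralLinearGroup.det (g : GL (Fin 2) F))⁻¹ : Fˣ) : F) ^ q = 1 := by
    have h1 : ((Matrix.GeneralLinearGroup.det (g : GL (Fin 2) F))⁻¹ : Fˣ) ∈ HermSU.normOne D.σ :=
      Subgroup.inv_mem _ (HermSU.det_mem_normOne D.hσ g.2)
    rw [← D.hσ]
    exact h1
  show Cfsg.hermForm 3 F q (jj (g : GL (Fin 2) F) *ᵥ u) (jj (g : GL (Fin 2) F) *ᵥ v) = _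
  simp only [Units.coeHom_apply] at h
  unfold jj
  generalize ((g : GL (Fin 2) F) : Matrix (Fin 2) (Fin 2) F) = M at h ⊢
  generalize (((Matrix.GeneralLinearGroup.det (g : GL (Fin 2) F))⁻¹ : Fˣ) : F) = d at hd ⊢
  simp [Cfsg.hermForm, Matrix.mulVec, dotProduct, Fin.sum_univ_two, Fin.sum_univ_three, mul_pow] at h ⊢
  linear_combination h + (u 2 * v 2 ^ q) * hd

/-- `GU₂` in `SU₃`. -/
def jU (D : SU3Inv.Data F q) : Cfsg.GU 2 F q →* Cfsg.SU 3 F q :=
  (jHom.comp (Cfsg.GU 2 F q).subtype).codRestrict (Cfsg.SU 3 F q) fun g => jj_mem g D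

theorem anti_mem (hq : Odd q) : (anti : Matrix.SpecialLinearGroup (Fin 3) F) ∈ Cfsg.SU 3 F q := by
  intro u v
  show Cfsg.hermForm 3 F q ((anti (F := F)).1 *ᵥ u) ((anti (F := F)).1 *ᵥ v) = _
  simp [anti, Cfsg.hermForm, Matrix.mulVec, dotProduct, Fin.sum_univ_three, hq.neg_pow]
  ring

theorem pow_of_sq_zero {R : Type*} [Ring R] {P : R} (hP : P * P = 0) : ∀ n : ℕ, (1 + P) ^ n = 1 + n • P
  | 0 => by simp
  | n + 1 => by
    rw [pow_succ, pow_of_sq_zero hP n, mul_add, mul_one, add_mul, one_mul, smul_mul_assoc, hP, smul_zero,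
      succ_nsmul, add_zero, add_assoc]

/-- A 2-element of `SU₂` is inverted by an involution of `GU₂`. -/
theorem exists_inverting_gu (D : SU3Inv.Data F q) (hq : Odd q) (h : Cfsg.GU 2 F q)
    (hd : Matrix.GeneralLinearGroup.det (h : GL (Fin 2) F) = 1) (hp : ∃ k : ℕ, h ^ 2 ^ k = 1) :
    ∃ u : Cfsg.GU 2 F q, u * u = 1 ∧ u * h * (u * h) = 1 := by
  have hG := (HermSU.mem_GU_iff D.hσ _).1 h.2
  set a := ((h : GL (Fin 2) F) : Matrix (Fin 2) (Fin 2) F) 0 0 with ha
  set c := ((h : GL (Fin 2) F) : Matrix (Fin 2) (Fin 2) F) 0 1 with hc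
  set c' := ((h : GL (Fin 2) F) : Matrix (Fin 2) (Fin 2) F) 1 0 with hc'
  set e := ((h : GL (Fin 2) F) : Matrix (Fin 2) (Fin 2) F) 1 1 with he
  have hh : ((h : GL (Fin 2) F) : Matrix (Fin 2) (Fin 2) F) = !![a, c; c', e] := Matrix.eta_fin_two _
  have hdet : a * e - c * c' = 1 := by
    rw [← Matrix.det_fin_two, show ((h : GL (Fin 2) F) : Matrix (Fin 2) (Fin 2) F).det =
      ((Matrix.GeneralLinearGroup.det (h : GL (Fin 2) F) : Fˣ) : F) from rfl, hd, Units.val_one]
  rw [hh] at hG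
  have g00 : a * D.σ a + c' * D.σ c' = 1 := by
    simpa [Matrix.mul_apply, Fin.sum_univ_two] using congrFun (congrFun hG 0) 0
  have g01 : a * D.σ c + c' * D.σ e = 0 := by
    simpa [Matrix.mul_apply, Fin.sum_univ_two] using congrFun (congrFun hG 0) 1
  have g10 : c * D.σ a + e * D.σ c' = 0 := by
    simpa [Matrix.mul_apply, Fin.sum_univ_two] using congrFun (congrFun hG 1) 0
  have g11 : c * D.σ c + e * D.σ e = 1 := by
    simpa [Matrix.mul_apply, Fin.sum_univ_two] using congrFun (congrFun hG 1) 1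
  have hea : D.σ a = e := by linear_combination e * g00 - c' * g10 - D.σ a * hdet
  have hcc : D.σ c = -c' := by linear_combination e * g01 - c' * g11 - D.σ c * hdet
  suffices key : ∃ k l : F, D.σ k = k ∧ k * k + l * D.σ l = 1 ∧ k * a + l * c' + D.σ l * c - k * e = 0 by
    obtain ⟨k, l, hk, hkl, htr⟩ := key
    have hu2 : !![k, l; D.σ l, -k] * !![k, l; D.σ l, -k] = (1 : Matrix (Fin 2) (Fin 2) F) := by
      ext i j; fin_cases i <;> fin_cases j <;> simp [Matrix.mul_apply, Fin.sum_univ_two]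
      · linear_combination hkl
      · ring
      · ring
      · linear_combination hkl
    let u : GL (Fin 2) F := ⟨!![k, l; D.σ l, -k], !![k, l; D.σ l, -k], hu2, hu2⟩
    have hu : u ∈ Cfsg.GU 2 F q := by
      refine (HermSU.mem_GU_iff D.hσ _).2 ?_
      show (!![k, l; D.σ l, -k])ᵀ * (!![k, l; D.σ l, -k]).map D.σ = 1
      ext i j; fin_cases i <;> fin_cases j <;> simp [Matrix.mul_apply, Fin.sum_univ_two, hk, D.hinv]
      · linear_combination hkl
      · ring
      · ring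
      · linear_combination hkl
    refine ⟨⟨u, hu⟩, Subtype.ext (Units.ext hu2), Subtype.ext (Units.ext ?_)⟩
    show !![k, l; D.σ l, -k] * ((h : GL (Fin 2) F) : Matrix (Fin 2) (Fin 2) F) *
      (!![k, l; D.σ l, -k] * ((h : GL (Fin 2) F) : Matrix (Fin 2) (Fin 2) F)) = 1
    rw [hh]
    ext i j; fin_cases i <;> fin_cases j <;> simp [Matrix.mul_apply, Fin.sum_univ_two]
    · linear_combination (k * a + l * c') * htr + (a * e - c * c') * hkl + hdet
    · linear_combination (k * c + l * e) * htr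
    · linear_combination (D.σ l * a - k * c') * htr
    · linear_combination (D.σ l * c - k * e) * htr + (a * e - c * c') * hkl + hdet
  by_cases hx : a - e = 0
  · exact ⟨1, 0, map_one _, by simp, by rw [map_zero]; linear_combination hx⟩
  by_cases hc0 : c = 0
  · have hc0' : c' = 0 := by
      have h1 := hcc
      rw [hc0, map_zero] at h1
      linear_combination h1
    exact ⟨0, 1, map_zero _, by simp, by rw [map_one, hc0, hc0']; ring⟩
  -- the trace is not `±2`
  have hC : (4 : F) - (a + e) * (a + e) ≠ 0 := by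
    intro h0
    set s : F := (a + e) / 2 with hs
    have hs2 : s * s = 1 := by
      have := D.h2
      rw [hs]
      field_simp
      linear_combination -h0
    have hae : a + e = 2 * s := by
      have := D.h2
      rw [hs]
      field_simp
    let M : Matrix (Fin 2) (Fin 2) F := !![a, c; c', e]
    let P : Matrix (Fin 2) (Fin 2) F := s • M - 1
    have hP : P * P = 0 := by
      ext i j; fin_cases i <;> fin_cases j <;> simp [P, M, Matrix.mul_apply, Fin.sum_univ_two]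
      · linear_combination (a * a + c * c') * hs2 + a * hae - hdet
      · linear_combination c * (a + e) * hs2 + c * hae
      · linear_combination c' * (a + e) * hs2 + c' * hae
      · linear_combination (e * e + c * c') * hs2 + e * hae - hdet
    obtain ⟨k, hk⟩ := hp
    have hM : M ^ (2 * 2 ^ k) = 1 := by
      rw [mul_comm, pow_mul, show M ^ 2 ^ k = 1 from ?_, one_pow]
      have h1 := congrArg (fun g : Cfsg.GU 2 F q => ((g : GL (Fin 2) F) : Matrix (Fin 2) (Fin 2) F)) hk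
      simp only [SubmonoidClass.coe_pow, Units.val_pow_eq_pow_val, hh] at h1
      exact h1
    have h1 : (1 + P) ^ (2 * 2 ^ k) = 1 := by
      rw [show 1 + P = s • M by simp [P], smul_pow, pow_mul, pow_two, hs2, one_pow, one_smul, hM]
    rw [pow_of_sq_zero hP] at h1
    have h2 : ((2 * 2 ^ k : ℕ) : F) * (s * c) = 0 := by
      have h3 := congrFun (congrFun ((add_eq_left (a := (1 : Matrix (Fin 2) (Fin 2) F))).1 h1) 0) 1
      simpa [P, M, Matrix.smul_apply, nsmul_eq_mul] using h3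
    push_cast at h2
    rcases mul_eq_zero.1 h2 with h3 | h3
    · rcases mul_eq_zero.1 h3 with h4 | h4
      · exact D.h2 h4
      · exact D.h2 (pow_eq_zero_iff'.1 h4).1
    · rcases mul_eq_zero.1 h3 with h4 | h4
      · rw [h4, zero_mul] at hs2; exact zero_ne_one hs2
      · exact hc0 h4
  set x := a - e with hxdef
  set N := c * D.σ c with hN
  have hNne : N ≠ 0 := mul_ne_zero hc0 (by simpa using hc0)
  have hσe : D.σ e = a := by rw [← hea, D.hinv]
  have hσx : D.σ x = -x := by rw [hxdef, map_sub, hea, hσe]; ring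
  have hσN : D.σ N = N := by rw [hN, map_mul, D.hinv, mul_comm]
  haveI : Fintype (fixed D.σ) := Fintype.ofFinite _
  have hKodd : Fintype.card (fixed D.σ) % 2 = 1 := by
    rw [← Nat.card_eq_fintype_card, D.hfix]; exact Nat.odd_iff.1 hq
  let C : fixed D.σ := ⟨4 - (a + e) * (a + e), by
    show D.σ _ = _
    rw [map_sub, map_ofNat, map_mul, map_add, hea, hσe]; ring⟩
  let R : fixed D.σ := ⟨N⁻¹, by show D.σ _ = _; rw [map_inv₀, hσN]⟩
  obtain ⟨v, w, hvw⟩ := FiniteField.exists_root_sum_quadratic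
    (f := Polynomial.C C * (Polynomial.X : Polynomial (fixed D.σ)) ^ 2) (g := Polynomial.X ^ 2 - Polynomial.C R)
    (Polynomial.degree_C_mul_X_pow 2 (fun h0 => hC (congrArg Subtype.val h0)))
    (Polynomial.degree_X_pow_sub_C (by norm_num) _) hKodd
  have hvw' : (4 - (a + e) * (a + e)) * (v : F) ^ 2 + ((w : F) ^ 2 - N⁻¹) = 0 := by
    have := congrArg Subtype.val hvw
    simpa [C, R] using this
  have hv : D.σ v = v := v.2
  have hw : D.σ w = w := w.2
  refine ⟨2 * N * v, c * (w + v * x), ?_, ?_, ?_⟩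
  · rw [map_mul, map_mul, map_ofNat, hσN, hv]
  · rw [map_mul, map_add, map_mul, hv, hw, hσx]
    have hN1 : N * N⁻¹ = 1 := mul_inv_cancel₀ hNne
    have hN4 : 4 * N - x * x = 4 - (a + e) * (a + e) := by
      rw [hN, hcc, hxdef]; linear_combination 4 * hdet
    rw [hN] at *
    linear_combination (c * D.σ c) * hvw' + hN1 + (c * D.σ c * (v : F) ^ 2) * hN4
  · rw [map_mul, map_add, map_mul, hv, hw, hσx]
    rw [hN, hcc, hxdef]
    ring

theorem psu3_isSimple (D : SU3Inv.Data F q) (hF : Fintype.card F = q ^ 2) (hq : Odd q)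
    (S : Sylow 2 (Cfsg.PSU 3 F q)) : (groupFusionSystem (S : Subgroup (Cfsg.PSU 3 F q))).IsSimple 2 := by
  classical
  haveI : Fact (ringChar F ≠ 2) := ⟨fun h => D.h2 (by
    have h1 := ringChar.Nat.cast_ringChar (R := F)
    rw [h] at h1
    exact_mod_cast h1)⟩
  set π := QuotientGroup.mk' (Subgroup.center (Cfsg.SU 3 F q))
  set f := π.comp (jU D) with hf
  let N1 := HermSU.normOne D.σ
  let μ : Sylow 2 N1 := default
  have hμ : ∀ (a : N1) (k : ℕ), a ^ 2 ^ k = 1 → a ∈ (μ : Subgroup N1) := by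
    intro a k hk
    have hp : IsPGroup 2 (Subgroup.zpowers a) := by
      intro ⟨y, i, hi⟩
      refine ⟨k, Subtype.ext ?_⟩
      show y ^ 2 ^ k = 1
      rw [← hi]
      show (a ^ i) ^ (2 ^ k) = 1
      rw [← zpow_natCast, zpow_comm, zpow_natCast, hk, one_zpow]
    obtain ⟨Q, hQ⟩ := hp.exists_le_sylow
    haveI := Sylow.unique_of_normal μ (Subgroup.normal_of_comm _)
    rw [Subsingleton.elim μ Q]
    exact hQ (Subgroup.mem_zpowers a)
  have hdiag : ∀ a c : N1, diag2 ((a : Fˣ), (c : Fˣ)) ∈ Cfsg.GU 2 F q := by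
    intro a c
    refine HermSU.diag_mem_GU D.hσ (d := ![(a : Fˣ), (c : Fˣ)]) fun i => ?_
    fin_cases i
    · exact a.2
    · exact c.2
  let dU : N1 × N1 →* Cfsg.GU 2 F q :=
    (diag2.comp (N1.subtype.prodMap N1.subtype)).codRestrict (Cfsg.GU 2 F q) fun z => hdiag z.1 z.2
  let μμ : Subgroup (N1 × N1) := (μ : Subgroup N1).prod (μ : Subgroup N1)
  have hμμ : IsPGroup 2 μμ := by
    rintro ⟨⟨a, c⟩, ha, hc⟩
    obtain ⟨i, hi⟩ := μ.2 ⟨a, ha⟩
    obtain ⟨k, hk⟩ := μ.2 ⟨c, hc⟩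
    refine ⟨i + k, Subtype.ext (Prod.ext ?_ ?_)⟩
    · show a ^ 2 ^ (i + k) = 1
      rw [pow_add, pow_mul, show a ^ 2 ^ i = 1 from congrArg Subtype.val hi, one_pow]
    · show c ^ 2 ^ (i + k) = 1
      rw [pow_add, mul_comm, pow_mul, show c ^ 2 ^ k = 1 from congrArg Subtype.val hk, one_pow]
  obtain ⟨W, hW⟩ := (hμμ.map dU).exists_le_sylow
  have hz3 : Nat.card (Subgroup.center (Cfsg.SU 3 F q)) = Nat.gcd 3 (q + 1) :=
    HermSU.card_center_SU D.hne D.hinv D.hσ (by norm_num) D.hfix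
  have hinj : Function.Injective (jU D) := fun a c h => Subtype.ext (jHom_injective (congrArg Subtype.val h))
  have hinjW : Set.InjOn f (W : Subgroup (Cfsg.GU 2 F q)) := by
    intro a ha c hc hac
    have h1 : jU D (a⁻¹ * c) ∈ Subgroup.center (Cfsg.SU 3 F q) := by
      rw [map_mul, map_inv]; exact QuotientGroup.eq.1 hac
    obtain ⟨k, hk⟩ := W.2 ⟨_, mul_mem (inv_mem ha) hc⟩
    have hk' : (a⁻¹ * c) ^ 2 ^ k = 1 := congrArg Subtype.val hk
    have h3 : orderOf (a⁻¹ * c) ∣ 3 := by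
      rw [← orderOf_injective (jU D) hinj]
      have h5 := orderOf_dvd_natCard (⟨_, h1⟩ : Subgroup.center (Cfsg.SU 3 F q))
      rw [Subgroup.orderOf_mk, hz3] at h5
      exact h5.trans (Nat.gcd_dvd_left _ _)
    have h4 : orderOf (a⁻¹ * c) ∣ Nat.gcd (2 ^ k) 3 := Nat.dvd_gcd (orderOf_dvd_of_pow_eq_one hk') h3
    rw [(Nat.Coprime.pow_left k (by norm_num : Nat.Coprime 2 3)).gcd_eq_one, Nat.dvd_one, orderOf_eq_one_iff,
      inv_mul_eq_one] at h4
    exact h4
  let fW := f.comp (W : Subgroup (Cfsg.GU 2 F q)).subtype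
  have hfW : Function.Injective fW := fun a c h => Subtype.ext (hinjW a.2 c.2 h)
  have hcardW : Nat.card fW.range = 2 ^ (Nat.card (Cfsg.PSU 3 F q)).factorization 2 := by
    rw [← Nat.card_congr (MonoidHom.ofInjective hfW).toEquiv, W.card_eq_multiplicity]
    congr 1
    have hq1 : 1 < q := by have := SU3Inv.two_le D; omega
    have hg : ¬ 2 ∣ Nat.gcd 3 (q + 1) := fun h => by
      have := h.trans (Nat.gcd_dvd_left _ _); norm_num at this
    have hmain : Nat.gcd 3 (q + 1) * Nat.card (Cfsg.PSU 3 F q) =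
        Nat.card (Cfsg.GU 2 F q) * (q ^ 2 * (q ^ 2 - q + 1)) := by
      have h2 := HermSU.card_PSU_mul (n := 3) D.hne D.hinv D.hσ (by norm_num) D.hfix
      rw [HermStd.card_GU D.hne D.hinv D.hσ 3 D.hfix] at h2
      rw [HermStd.card_GU D.hne D.hinv D.hσ 2 D.hfix]
      simp only [Finset.prod_range_succ, Finset.prod_range_zero, one_mul, show Even 0 from ⟨0, rfl⟩,
        show ¬ Even 1 from by decide, show Even 2 from ⟨1, rfl⟩, if_true, if_false] at h2 ⊢
      norm_num at h2 ⊢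
      refine Nat.eq_of_mul_eq_mul_left (show 0 < q + 1 by omega) ?_
      rw [mul_left_comm, h2]
      have e1 : 1 ≤ q ^ 2 := Nat.one_le_pow _ _ (by omega)
      have e3 : q ≤ q ^ 2 := Nat.le_self_pow (by omega) _
      zify [e1, e3]
      ring
    have hodd : ¬ 2 ∣ q ^ 2 * (q ^ 2 - q + 1) := by
      rw [← even_iff_two_dvd, Nat.not_even_iff_odd]
      refine (hq.pow).mul ?_
      obtain ⟨m, hm⟩ := hq
      refine ⟨2 * m * m + m, ?_⟩
      rw [hm, show (2 * m + 1) ^ 2 = 4 * m * m + 2 * m + (2 * m + 1) by ring, Nat.add_sub_cancel]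
      ring
    have e := congrArg (fun m => Nat.factorization m 2) hmain
    rw [Nat.factorization_mul (a := Nat.gcd 3 (q + 1)) (fun h => hg (by rw [h]; exact dvd_zero 2)) Nat.card_pos.ne',
      Nat.factorization_mul Nat.card_pos.ne' (b := q ^ 2 * (q ^ 2 - q + 1))
        (fun h => hodd (by rw [h]; exact dvd_zero 2)), Finsupp.add_apply, Finsupp.add_apply,
      Nat.factorization_eq_zero_of_not_dvd hg, Nat.factorization_eq_zero_of_not_dvd hodd, zero_add, add_zero] at e
    exact e.symm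
  let S₀ : Sylow 2 (Cfsg.PSU 3 F q) := Sylow.ofCard fW.range hcardW
  obtain ⟨g, hg⟩ := MulAction.exists_smul_eq (Cfsg.PSU 3 F q) S₀ S
  have hin : ∀ y ∈ (S₀ : Subgroup _), g * y * g⁻¹ ∈ (S : Subgroup _) := fun y hy => by
    rw [← hg, Sylow.coe_subgroup_smul]; exact ⟨y, hy, rfl⟩
  -- an involution of the model
  let m1 : N1 := ⟨-1, show ((-1 : Fˣ) : F) * D.σ ((-1 : Fˣ) : F) = 1 by simp⟩
  have hm1 : dU (m1, 1) ∈ (W : Subgroup (Cfsg.GU 2 F q)) :=
    hW ⟨(m1, 1), ⟨hμ _ 1 (Subtype.ext (by simp [m1])), one_mem _⟩, rfl⟩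
  have hm1' : dU (m1, 1) ≠ 1 := by
    intro h
    have h3 := congrArg (fun w : Cfsg.GU 2 F q => ((w : GL (Fin 2) F) : Matrix (Fin 2) (Fin 2) F) 0 0) h
    simp [dU, m1, diag2] at h3
    exact D.h2 (by linear_combination -h3)
  have hS1 : (S : Subgroup (Cfsg.PSU 3 F q)) ≠ ⊥ := by
    intro h0
    have h1 := hin (f (dU (m1, 1))) ⟨⟨_, hm1⟩, rfl⟩
    rw [h0, Subgroup.mem_bot, mul_inv_eq_one, mul_eq_left] at h1
    exact hm1' (hinjW hm1 (one_mem (W : Subgroup (Cfsg.GU 2 F q))) (h1.trans (map_one f).symm))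
  refine group_isSimple_of_isPGroup S hS1 (fun T hT => ?_) ?_
  · obtain ⟨hTS, hcl⟩ := (group_stronglyClosed_iff S).1 hT
    rcases eq_or_ne T ⊥ with h | hne
    · exact Or.inl h
    refine Or.inr (le_antisymm hTS ?_)
    -- one class of involutions
    have hclass : ∀ y ∈ (S : Subgroup (Cfsg.PSU 3 F q)), y * y = 1 → y ≠ 1 →
        ∃ k, k * f (dU (m1, 1)) * k⁻¹ = y := by
      intro y hy hy2 hy1
      have hy' : g⁻¹ * y * g ∈ (S₀ : Subgroup _) := by
        rw [← hg, Sylow.coe_subgroup_smul] at hy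
        obtain ⟨z, hz, rfl⟩ := hy
        show g⁻¹ * (g * z * g⁻¹) * g ∈ _
        rwa [show g⁻¹ * (g * z * g⁻¹) * g = z by group]
      obtain ⟨⟨w, hw⟩, hwy⟩ := hy'
      have hwy' : f w = g⁻¹ * y * g := hwy
      have hw2 : w * w = 1 := hinjW (mul_mem hw hw) (one_mem (W : Subgroup (Cfsg.GU 2 F q))) (by
        rw [map_mul, map_one, hwy', show g⁻¹ * y * g * (g⁻¹ * y * g) = g⁻¹ * (y * y) * g by group, hy2]
        group)
      have hw1 : w ≠ 1 := fun h => hy1 (by
        rw [h, map_one] at hwy'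
        calc y = g * (g⁻¹ * y * g) * g⁻¹ := by group
          _ = 1 := by rw [← hwy']; group)
      obtain ⟨k, hk⟩ := SU3Inv.conj_all D (t := jU D (dU (m1, 1))) (x := jU D w)
        (fun h => hm1' (hinj (h.trans (map_one _).symm)))
        (by rw [← map_mul, ← map_mul, show ((m1, 1) : N1 × N1) * (m1, 1) = 1 from
          Prod.ext (Subtype.ext (by simp [m1])) (mul_one _), map_one, map_one])
        (fun h => hw1 (hinj (h.trans (map_one _).symm))) (by rw [← map_mul, hw2, map_one])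
      refine ⟨g * π k, ?_⟩
      calc g * π k * f (dU (m1, 1)) * (g * π k)⁻¹ = g * π (k * jU D (dU (m1, 1)) * k⁻¹) * g⁻¹ := by
            rw [map_mul, map_mul, map_inv, hf, MonoidHom.comp_apply]; group
        _ = y := by rw [hk, ← MonoidHom.comp_apply, ← hf, hwy']; group
    have hinv : ∀ y ∈ (S : Subgroup (Cfsg.PSU 3 F q)), y * y = 1 → y ∈ T := by
      intro y hy hy2
      rcases eq_or_ne y 1 with rfl | hy1
      · exact T.one_mem
      have hTp : IsPGroup 2 T := S.2.to_le hTS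
      have hnt : Nontrivial T := T.nontrivial_iff_ne_bot.2 hne
      obtain ⟨k, hk0, hk⟩ := hTp.nontrivial_iff_card.1 hnt
      obtain ⟨z, hz⟩ := exists_prime_orderOf_dvd_card' 2 (hk ▸ dvd_pow_self 2 hk0.ne')
      have hz2 : (z : Cfsg.PSU 3 F q) * z = 1 := by
        have := pow_orderOf_eq_one z
        rw [hz, pow_two] at this
        exact congrArg Subtype.val this
      have hz1 : (z : Cfsg.PSU 3 F q) ≠ 1 := fun h => by
        rw [show z = 1 from Subtype.ext h, orderOf_one] at hz; exact absurd hz (by norm_num)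
      obtain ⟨a, ha⟩ := hclass _ (hTS z.2) hz2 hz1
      obtain ⟨c, hc⟩ := hclass y hy hy2 hy1
      have := hcl (c * a⁻¹) _ z.2
      rw [show c * a⁻¹ * (z : Cfsg.PSU 3 F q) * (c * a⁻¹)⁻¹ = y by rw [← ha, ← hc]; group] at this
      exact this hy
    intro y hy
    rw [← hg, Sylow.coe_subgroup_smul] at hy
    obtain ⟨_, ⟨⟨w, hw⟩, rfl⟩, rfl⟩ := hy
    show g * f w * g⁻¹ ∈ T
    let δ : N1 := HermSU.detHom (n := 2) D.hσ w
    have hδμ : δ ∈ (μ : Subgroup N1) := by
      obtain ⟨k, hk⟩ := W.2 ⟨w, hw⟩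
      refine hμ δ k ?_
      show HermSU.detHom (n := 2) D.hσ w ^ 2 ^ k = 1
      rw [← map_pow, show w ^ 2 ^ k = 1 from congrArg Subtype.val hk, map_one]
    have hD : dU (δ, 1) ∈ (W : Subgroup (Cfsg.GU 2 F q)) := hW ⟨(δ, 1), ⟨hδμ, one_mem _⟩, rfl⟩
    have hh : Matrix.GeneralLinearGroup.det ((w * (dU (δ, 1))⁻¹ : Cfsg.GU 2 F q) : GL (Fin 2) F) = 1 := by
      rw [Subgroup.coe_mul, Subgroup.coe_inv, map_mul, map_inv]
      show Matrix.GeneralLinearGroup.det (w : GL (Fin 2) F) *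
        (Matrix.GeneralLinearGroup.det (diag2 ((δ : Fˣ), ((1 : N1) : Fˣ))))⁻¹ = 1
      rw [det_diag2, show ((1 : N1) : Fˣ) = 1 from rfl, mul_one]
      exact mul_inv_cancel _
    let aS : Cfsg.SU 3 F q := ⟨anti, anti_mem hq⟩
    have h1 : g * f (dU (δ, 1)) * g⁻¹ ∈ T := by
      refine real_mem S T hinv hcl (hin _ ⟨⟨_, hD⟩, rfl⟩) (u := g * π aS * g⁻¹) ?_ ?_
      · rw [conj_mul, ← map_mul, show aS * aS = 1 from Subtype.ext anti_sq, map_one, mul_one, mul_inv_cancel]
      · rw [conj_mul, conj_mul, hf, MonoidHom.comp_apply, ← map_mul, ← map_mul,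
          show aS * jU D (dU (δ, 1)) * (aS * jU D (dU (δ, 1))) = 1 from Subtype.ext (anti_inverts (δ : Fˣ)),
          map_one, mul_one, mul_inv_cancel]
    obtain ⟨u, hu, hux⟩ := exists_inverting_gu D hq _ hh (by
      obtain ⟨k, hk⟩ := W.2 ⟨_, mul_mem hw (inv_mem hD)⟩
      exact ⟨k, congrArg Subtype.val hk⟩)
    have h2 : g * f (w * (dU (δ, 1))⁻¹) * g⁻¹ ∈ T := by
      refine real_mem S T hinv hcl (hin _ ⟨⟨_, mul_mem hw (inv_mem hD)⟩, rfl⟩) (u := g * f u * g⁻¹) ?_ ?_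
      · rw [conj_mul, ← map_mul, hu, map_one, mul_one, mul_inv_cancel]
      · rw [conj_mul, conj_mul, ← map_mul, ← map_mul, hux, map_one, mul_one, mul_inv_cancel]
    have := T.mul_mem h2 h1
    rwa [conj_mul, ← map_mul, inv_mul_cancel_right] at this
  · refine IsPGroup.to_subgroup ?_ _
    have e : (W : Subgroup (Cfsg.GU 2 F q)) ≃* (S : Subgroup (Cfsg.PSU 3 F q)) :=
      (MonoidHom.ofInjective hfW).trans (Sylow.equiv S₀ S)
    refine IsPGroup.of_equiv ?_ (MulAut.congr e)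
    have := Nat.odd_iff.1 hq
    rcases (show q % 4 = 1 ∨ q % 4 = 3 by omega) with h | h
    · exact S3116.result W.2 (Or.inr (SylTwoRO.gu_quasiDihedral hF hq W h))
    · exact aut_wreathed (SylTwoRO.gu_wreathed hF hq W h)

end Cfsg.Agent.FusionPSU3Two
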