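import Cfsg.Agent.Lib.Fusion.UnitLocal
import Cfsg.Agent.Lib.Fusion.PSpSimple
import Cfsg.Agent.Lib.Classical.Hermitian
import Cfsg.Agent.Lib.Transvec.HermStd
import Cfsg.Agent.Lib.Fusion.Simple

/-!
# The fusion system of `PSU_n(q)` in defining characteristic is simple
-/

set_option autoImplicit false
set_option linter.unusedSectionVars false

namespace Cfsg.Agent.FusionPSU

open Cfsg Cfsg.FusionSystem Cfsg.Agent.FusionSys Matrix

variable {K : Type*} [Field K] {n : ℕ}

local notation "Mn" => Matrix (Fin n) (Fin n) K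
local notation "SLn" => Matrix.SpecialLinearGroup (Fin n) K

/-! ### The change of form -/

section model

variable [Fintype K] {p q : ℕ}

theorem exists_model (hp : p.Prime) (hchar : CharP K p) (hK : Fintype.card K = q ^ 2) (hn : 0 < n) :
    ∃ (σ : K ≃+* K) (π₀ : gj (n := n) σ →* Cfsg.PSU n K q), Setup σ p ∧ Function.Surjective π₀ ∧
      ∀ x, π₀ x = 1 ↔ x ∈ Subgroup.center (gj (n := n) σ) := by
  classical
  obtain ⟨σ, hσ, -, hf⟩ := Cfsg.Agent.Transvec.Herm.exists_unitary_std (F := K) hK hn
  have hinv := hf.involutive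
  let h : (Fin n → K) → (Fin n → K) → K := fun u v => ∑ a, u a * σ (v (Fin.rev a))
  have hh : Cfsg.Agent.Hermitian.IsHerm (σ : K →+* K) h := by
    refine ⟨fun e => hf.ne_refl (RingEquiv.ext fun x => DFunLike.congr_fun e x), hinv, fun x y v => ?_,
      fun c x v => ?_, fun v w => ?_, fun v hv => ?_⟩
    · simp only [h, Pi.add_apply, add_mul, Finset.sum_add_distrib]
    · simp only [h, Pi.smul_apply, smul_eq_mul, mul_assoc, Finset.mul_sum]
    · show h w v = σ (h v w)
      simp only [h, map_sum, map_mul, hinv]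
      exact Fintype.sum_equiv Fin.revPerm _ _ fun a => by simp [mul_comm]
    · funext a
      have := hv (Pi.single (Fin.rev a) 1)
      simp only [h, Pi.single_apply] at this
      rw [Finset.sum_eq_single a (fun b _ hb => by simp [hb]) (by simp)] at this
      simpa using this
  obtain ⟨b, hb⟩ := Cfsg.Agent.Hermitian.exists_orthonormal (n := n) hh (Module.finrank_fin_fun K)
  let L : Mn := Matrix.of fun a i => b i a
  let M : Mn := Matrix.of fun i a => σ (b i (Fin.rev a))
  have hML : M * L = 1 := by
    ext i j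
    have := hb j i
    simp only [h] at this
    rw [Matrix.mul_apply, Matrix.one_apply]
    simp only [M, L, Matrix.of_apply]
    simp only [eq_comm (a := j)] at this
    exact (Finset.sum_congr rfl fun a _ => mul_comm _ _).trans this
  have hLM : L * M = 1 := mul_eq_one_comm.1 hML
  let st : Mn → Mn := fun N => (N.map σ)ᵀ
  have hst : ∀ A B : Mn, st (A * B) = st B * st A := fun A B => by
    show ((A * B).map σ)ᵀ = (B.map σ)ᵀ * (A.map σ)ᵀ
    rw [← transpose_mul, Matrix.map_mul]
  have hQ : ∀ a c, (st M * M) a c = if Fin.rev a = c then 1 else 0 := fun a c => by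
    have := congrFun (congrFun hLM (Fin.rev a)) c
    rw [Matrix.mul_apply, Matrix.one_apply] at this
    rw [Matrix.mul_apply]
    simpa [st, M, L, hinv] using this
  have hadm : ∀ (P : Mn) (a c), (st P * (st M * M) * P) a c = (adm σ P * P) (Fin.rev a) c := by
    intro P a c
    rw [mul_assoc, Matrix.mul_apply, Matrix.mul_apply]
    refine Fintype.sum_equiv Fin.revPerm _ _ fun x => ?_
    rw [Matrix.mul_apply, Finset.sum_eq_single (Fin.rev x) (fun y _ hy => by
      rw [hQ, if_neg fun e => hy e.symm, zero_mul]) (by simp), hQ, if_pos rfl, one_mul]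
    simp [st, adm_apply]
  have hsu : ∀ g : SLn, g ∈ Cfsg.SU n K q ↔ st (g : Mn) * (g : Mn) = 1 := by
    intro g
    have hform : ∀ u v : Fin n → K, Cfsg.hermForm n K q u v = u ⬝ᵥ (σ ∘ v) := fun u v => by
      simp [Cfsg.hermForm, dotProduct, hσ]
    have hmul : ∀ u v : Fin n → K, Cfsg.hermForm n K q ((g : Mn) *ᵥ u) ((g : Mn) *ᵥ v) =
        u ⬝ᵥ (((g : Mn)ᵀ * (g : Mn).map σ) *ᵥ (σ ∘ v)) := fun u v => by
      rw [hform, show σ ∘ ((g : Mn) *ᵥ v) = (g : Mn).map σ *ᵥ (σ ∘ v) from
        funext fun a => (RingHom.map_mulVec (σ : K →+* K) _ _ a), ← Matrix.mulVec_mulVec,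
        Matrix.dotProduct_mulVec u (g : Mn)ᵀ, Matrix.vecMul_transpose]
    have htr : st (g : Mn) * (g : Mn) = 1 ↔ (g : Mn)ᵀ * (g : Mn).map σ = 1 := by
      rw [← Matrix.transpose_inj, transpose_mul, transpose_one]
      rfl
    rw [htr]
    constructor
    · intro hg
      ext i j
      have := hg (Pi.single i 1) (Pi.single j 1)
      change Cfsg.hermForm n K q ((g : Mn) *ᵥ Pi.single i 1) ((g : Mn) *ᵥ Pi.single j 1) = _ at this
      rw [hmul, hform, show σ ∘ (Pi.single j (1 : K)) = Pi.single j 1 from funext fun a => by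
        rw [Function.comp_apply, Pi.single_apply, apply_ite σ, map_one, map_zero]] at this
      rw [Matrix.one_apply]
      simpa [Matrix.mulVec_single, Pi.single_apply, eq_comm] using this
    · intro hg u v
      show Cfsg.hermForm n K q ((g : Mn) *ᵥ u) ((g : Mn) *ᵥ v) = _
      rw [hmul, hg, Matrix.one_mulVec, hform]
  have hdet : ∀ P : Mn, (M * P * L).det = P.det := fun P => by
    rw [Matrix.det_mul, Matrix.det_mul, mul_right_comm, ← Matrix.det_mul, hML, Matrix.det_one, one_mul]
  let e₁ : gj (n := n) σ →* SLn :=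
    { toFun := fun x => ⟨M * mat x * L, by rw [hdet, det_mat]⟩
      map_one' := Subtype.ext (by simp [mat_one, hML])
      map_mul' := fun x y => Subtype.ext (by
        show M * mat (x * y) * L = M * mat x * L * (M * mat y * L)
        rw [mat_mul, show M * mat x * L * (M * mat y * L) = M * mat x * (L * M) * mat y * L by
          simp only [mul_assoc], hLM, mul_one]; simp only [mul_assoc]) }
  have hmemsu : ∀ x : gj (n := n) σ, e₁ x ∈ Cfsg.SU n K q := fun x => by
    rw [hsu]
    show st (M * mat x * L) * (M * mat x * L) = 1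
    rw [hst, hst, show st L * (st (mat x) * st M) * (M * mat x * L) =
      st L * (st (mat x) * (st M * M) * mat x) * L by simp only [mul_assoc]]
    have : st (mat x) * (st M * M) * mat x = st M * M := by
      ext a c
      rw [hadm, adm_mat_mul, hQ, Matrix.one_apply]
    rw [this, show st L * (st M * M) * L = (st L * st M) * (M * L) by simp only [mul_assoc], ← hst, hML, mul_one]
    ext i j
    simp [st, Matrix.one_apply, apply_ite σ, eq_comm]
  let e₂ : gj (n := n) σ →* Cfsg.SU n K q := e₁.codRestrict _ hmemsu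
  have he₂ : Function.Bijective e₂ := by
    refine ⟨fun x y hxy => mat_injective ?_, fun g => ?_⟩
    · have h1 : M * mat x * L = M * mat y * L := congrArg (fun g : Cfsg.SU n K q => ((g : SLn) : Mn)) hxy
      have h2 := congrArg (fun A => L * A * M) h1
      simp only [← mul_assoc, hLM, one_mul] at h2
      simpa [mul_assoc, hLM] using h2
    · have hg := (hsu g.1).1 g.2
      have hd : (L * ((g : SLn) : Mn) * M).det = 1 := by
        rw [Matrix.det_mul, Matrix.det_mul, mul_right_comm, ← Matrix.det_mul, hLM, Matrix.det_one, one_mul]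
        exact (g : SLn).2
      let x : SLn := ⟨L * ((g : SLn) : Mn) * M, hd⟩
      have hx : x ∈ gj σ := by
        show adm σ (L * ((g : SLn) : Mn) * M) * (L * ((g : SLn) : Mn) * M) = 1
        ext a c
        have h1 := hadm (L * ((g : SLn) : Mn) * M) (Fin.rev a) c
        rw [Fin.rev_rev] at h1
        rw [← h1, show st (L * ((g : SLn) : Mn) * M) * (st M * M) * (L * ((g : SLn) : Mn) * M) =
          st M * (st ((g : SLn) : Mn) * ((st L * st M) * (M * L)) * ((g : SLn) : Mn)) * M by
            rw [hst, hst]; simp only [mul_assoc], ← hst, hML]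
        rw [show st (1 : Mn) = 1 from by ext i j; simp [st, Matrix.one_apply, apply_ite σ, eq_comm], mul_one,
          mul_one, hg, mul_one, hQ, Fin.rev_rev, Matrix.one_apply]
      refine ⟨⟨x, hx⟩, Subtype.ext (Subtype.ext ?_)⟩
      show M * (L * ((g : SLn) : Mn) * M) * L = _
      rw [← mul_assoc, ← mul_assoc, hML, one_mul, mul_assoc, hML, mul_one]
  let e : gj (n := n) σ ≃* Cfsg.SU n K q := MulEquiv.ofBijective e₂ he₂
  refine ⟨σ, (QuotientGroup.mk' (Subgroup.center (Cfsg.SU n K q))).comp e.toMonoidHom,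
    ⟨hp, hchar, hinv, hf.ne_refl⟩, (QuotientGroup.mk'_surjective _).comp e.surjective, fun x => ?_⟩
  show (QuotientGroup.mk (e x) : Cfsg.PSU n K q) = 1 ↔ _
  rw [QuotientGroup.eq_one_iff, Subgroup.mem_center_iff, Subgroup.mem_center_iff]
  constructor
  · intro hx g
    exact e.injective (by simpa using hx (e g))
  · intro hx g
    obtain ⟨g, rfl⟩ := e.surjective g
    rw [← map_mul, hx, map_mul]

end model

variable {σ : K ≃+* K}

local notation "E" => Matrix.single (α := K)
local notation "GJ" => gj (K := K) (n := n) σ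

/-! ### Simplicity -/

section simple

variable {p : ℕ} [Fintype K] {G : Type*} [Group G] [Finite G] {π₀ : gj (K := K) (n := n) σ →* G}

theorem exists_sylow_uni [hp : Fact p.Prime] (D : Setup σ p) (hn : 4 ≤ n) (hs : Function.Surjective π₀)
    (hk : ∀ x, π₀ x = 1 ↔ x ∈ Subgroup.center GJ) :
    ∃ S : Sylow p G, (S : Subgroup G) = (uni (σ := σ) (n := n)).map π₀ := by
  haveI := D.char
  have hU : IsPGroup p ((uni (σ := σ) (n := n)).map π₀ : Subgroup G) := by
    rintro ⟨_, x, hx, rfl⟩
    refine ⟨n, Subtype.ext ?_⟩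
    show π₀ x ^ p ^ n = 1
    rw [← map_pow, uni_pow (p := p) hx, map_one]
  obtain ⟨S, hS⟩ := hU.exists_le_sylow
  refine ⟨S, ?_⟩
  by_contra hne
  have hlt := lt_of_le_of_ne hS fun e => hne e.symm
  obtain ⟨g, hg, hgU⟩ := SetLike.exists_of_lt (Cfsg.Agent.Fusion.lt_inf_normalizer S.2.isNilpotent hlt)
  obtain ⟨x, rfl⟩ := hs g
  have hx : x ∈ borel := normalizer_uni_le D hn (mem_normalizer_of_conj_mem_finite fun u hu => by
    obtain ⟨v, hv, he⟩ := (Subgroup.mem_normalizer_iff.1 hg.2 _).1 ⟨u, hu, rfl⟩
    rw [← map_inv, ← map_mul, ← map_mul] at he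
    have hc : v⁻¹ * (x * u * x⁻¹) ∈ Subgroup.center GJ := by rw [← hk, map_mul, map_inv, he, inv_mul_cancel]
    rw [← eq_of_central D hn hc (uni_pow (p := p) hv) (show (x * u * x⁻¹) ^ p ^ n = 1 by
      rw [conj_pow, uni_pow (p := p) hu, mul_one, mul_inv_cancel])]
    exact hv)
  obtain ⟨k, hk'⟩ := S.2 ⟨_, hg.1⟩
  have h1 : π₀ (x ^ p ^ k) = 1 := by rw [map_pow]; exact congrArg Subtype.val hk'
  obtain ⟨c, hc⟩ := center_mat D hn ((hk _).1 h1)
  have hup : Cfsg.Agent.FusionPSLn.IsUpper (mat x) := fun i j hij => mem_par_iff.1 hx i j hij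
  have hdiag : ∀ (m : ℕ) (i : Fin n), (mat x ^ m) i i = mat x i i ^ m ∧
      Cfsg.Agent.FusionPSLn.IsUpper (mat x ^ m) := by
    intro m i
    induction m with
    | zero => exact ⟨by simp, by simpa using Cfsg.Agent.FusionPSLn.isUpper_one⟩
    | succ m ih =>
      rw [pow_succ, pow_succ]
      exact ⟨by rw [Cfsg.Agent.FusionPSLn.upper_mul_diag ih.2 hup, ih.1],
        Cfsg.Agent.FusionPSLn.isUpper_mul ih.2 hup⟩
  haveI : ExpChar K p := ExpChar.prime hp.out
  let z : Fin n := ⟨0, by omega⟩
  have hconst : ∀ i, mat x i i = mat x z z := fun i => by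
    refine iterateFrobenius_inj K p k ?_
    rw [iterateFrobenius_def, iterateFrobenius_def, ← (hdiag _ i).1, ← (hdiag _ z).1, ← mat_pow, hc]
    simp
  obtain ⟨w, hw, hwx⟩ := exists_central_mul D.invol hn (f := fun a : Fin n => (a : ℕ)) (fun _ _ h => h)
    (x := x) (c := mat x z z) fun a b hab => by
      rcases eq_or_ne a b with rfl | hne'
      · rw [if_pos rfl, hconst]
      · rw [if_neg hne', hup a b (lt_of_le_of_ne hab (Ne.symm hne'))]
  exact hgU ⟨w * x, hwx, by rw [map_mul, (hk w).2 hw, one_mul]⟩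

set_option maxHeartbeats 1000000 in
theorem isSimple_of_model [hp : Fact p.Prime] (D : Setup σ p) (hn : 4 ≤ n) (hs : Function.Surjective π₀)
    (hk : ∀ x, π₀ x = 1 ↔ x ∈ Subgroup.center GJ) (S : Sylow p G) :
    (groupFusionSystem (S : Subgroup G)).IsSimple p := by
  classical
  haveI := D.char
  obtain ⟨S₀, hS₀⟩ := exists_sylow_uni (σ := σ) D hn hs hk
  obtain ⟨c, hc⟩ := MulAction.exists_smul_eq G S₀ S
  set π : GJ →* G := (MulAut.conj c).toMonoidHom.comp π₀ with hπ
  have hS : (S : Subgroup G) = (uni (σ := σ) (n := n)).map π := by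
    rw [← hc, hπ, ← Subgroup.map_map, ← hS₀]; rfl
  have hπs : Function.Surjective π := (MulAut.conj c).surjective.comp hs
  have hπz : ∀ {z : GJ}, z ∈ Subgroup.center GJ → π z = 1 := fun {z} hz => by
    show MulAut.conj c (π₀ z) = 1
    rw [(hk z).2 hz, map_one]
  have hinj : ∀ {x y : GJ} {a b : ℕ}, π x = π y → x ^ p ^ a = 1 → y ^ p ^ b = 1 → x = y :=
    fun {x y a b} h hx hy => eq_of_central D hn ((hk _).1 (by
      rw [map_mul, map_inv, (MulAut.conj c).injective h, inv_mul_cancel])) hx hy
  have hcomm : ∀ {M x : GJ} {a : ℕ}, π x * π M = π M * π x → x ^ p ^ a = 1 → M * x = x * M := by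
    intro M x a h hx
    refine mul_inv_eq_iff_eq_mul.1 (hinj ?_ (show (M * x * M⁻¹) ^ p ^ a = 1 by
      rw [conj_pow, hx, mul_one, mul_inv_cancel]) hx)
    rw [map_mul, map_mul, map_inv, ← h, mul_inv_cancel_right]
  have hmemS : ∀ {x : GJ}, x ∈ uni → π x ∈ (S : Subgroup G) := fun hx => by
    rw [hS]; exact ⟨_, hx, rfl⟩
  have hS' : ∀ {g : G}, g ∈ (S : Subgroup G) → ∃ x ∈ uni (σ := σ) (n := n), π x = g := fun hg => by
    rw [hS] at hg; exact hg
  have hparN : ∀ {f : Fin n → ℕ} {g : GJ}, g ∈ par f → g ∈ Subgroup.normalizer ((rad f : Subgroup GJ) : Set GJ) :=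
    fun hg => mem_normalizer_of_conj_mem_finite fun u hu => par_normalizes hg hu
  have hmapN : ∀ {H : Subgroup GJ} {x : GJ}, x ∈ Subgroup.normalizer (H : Set GJ) →
      π x ∈ Subgroup.normalizer (H.map π : Set G) := fun {H x} hx => Subgroup.le_normalizer_map π ⟨x, hx, rfl⟩
  obtain ⟨z, hz⟩ : ∃ z : Fin n, (z : ℕ) = 0 := ⟨⟨0, by omega⟩, rfl⟩
  obtain ⟨o, ho⟩ : ∃ o : Fin n, (o : ℕ) = 1 := ⟨⟨1, by omega⟩, rfl⟩
  have hzr : (Fin.rev z : ℕ) = n - 1 := by rw [Fin.val_rev, hz]
  have hor : (Fin.rev o : ℕ) = n - 2 := by rw [Fin.val_rev, ho]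
  have hzne : z ≠ Fin.rev z := nerev_iff.2 (by omega)
  have hone : ∀ {x : GJ}, x ∈ uni → ∀ a, mat x a a = 1 := fun hx a => (mem_uni_iff.1 hx).2 a
  have hmono : Monotone fun a : Fin n => (a : ℕ) := fun _ _ h => h
  -- no proper strongly closed subgroups
  have hsc : ∀ T : Subgroup G, (groupFusionSystem (S : Subgroup G)).StronglyClosed T →
      T = ⊥ ∨ T = (S : Subgroup G) := by
    intro T hT
    by_cases hT1 : T = ⊥
    · exact Or.inl hT1
    refine Or.inr (le_antisymm hT.1 ?_)
    have hcl := ((group_stronglyClosed_iff S).1 hT).2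
    haveI : Group.IsNilpotent (S : Subgroup G) := S.2.isNilpotent
    have hTn : (T.subgroupOf (S : Subgroup G)).Normal := ⟨fun t ht s =>
      hcl s t ht ((S : Subgroup G).mul_mem ((S : Subgroup G).mul_mem s.2 t.2) ((S : Subgroup G).inv_mem s.2))⟩
    have hTne : T.subgroupOf (S : Subgroup G) ≠ ⊥ := by
      rw [Ne, Subgroup.subgroupOf_eq_bot]
      exact fun h => hT1 (disjoint_self.1 (h.mono_right hT.1))
    obtain ⟨⟨⟨t, htS⟩, htmem⟩, htne⟩ :=
      Subgroup.ne_bot_iff_exists_ne_one.1 (Cfsg.Agent.SolvStruct.inf_center_ne_bot hTne)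
    obtain ⟨htT, htC⟩ := Subgroup.mem_inf.1 htmem
    obtain ⟨x, hx, rfl⟩ := hS' htS
    have hxc : ∀ y ∈ uni (σ := σ) (n := n), x * y = y * x := fun y hy => by
      refine hcomm ?_ (uni_pow (p := p) hy)
      exact congrArg Subtype.val (Subgroup.mem_center_iff.1 htC ⟨π y, hmemS hy⟩)
    have hlow : ∀ a b : Fin n, b ≤ a → mat x a b = if a = b then 1 else 0 := fun a b hab =>
      mem_rad_iff.1 hx a b hab
    -- the element is a long root element
    set l := Fin.rev z with hl
    have hcx : ∀ {u : GJ}, u ∈ uni → mat x * mat u = mat u * mat x := fun hu => by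
      rw [← mat_mul, ← mat_mul, hxc _ hu]
    have hcol : ∀ b : Fin n, b ≠ z → b ≠ l → 2 * (b : ℕ) + 1 ≠ n → ∀ a, a ≠ b → mat x a b = 0 := by
      intro b hb hb' hmid
      have hb0 : (b : ℕ) ≠ 0 := fun e => hb (Fin.ext (by omega))
      have hb1 : (b : ℕ) ≠ n - 1 := fun e => hb' (Fin.ext (by omega))
      have hg : Good b l := good_iff.2 ⟨by omega, by omega, hmid, by omega⟩
      exact (comm_xel D hg fun t => hcx (xel_mem_uni D hg (by rw [Fin.lt_def]; omega) t)).1
    have hrow : ∀ a : Fin n, a ≠ z → a ≠ l → 2 * (a : ℕ) + 1 ≠ n → ∀ b, b ≠ a → mat x a b = 0 := by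
      intro a ha ha' hmid
      have ha0 : (a : ℕ) ≠ 0 := fun e => ha (Fin.ext (by omega))
      have ha1 : (a : ℕ) ≠ n - 1 := fun e => ha' (Fin.ext (by omega))
      have hg : Good z a := good_iff.2 ⟨by omega, by omega, by omega, hmid⟩
      exact (comm_xel D hg fun t => hcx (xel_mem_uni D hg (by rw [Fin.lt_def]; omega) t)).2.1
    have hform : mat x = 1 + E z l (mat x z l) := by
      ext a b
      rw [Matrix.add_apply, Matrix.one_apply, Matrix.single_apply]
      rcases le_or_gt b a with hab | hab
      · have hne : ¬(z = a ∧ l = b) := by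
          rintro ⟨rfl, rfl⟩
          rw [Fin.le_def] at hab; omega
        rw [hlow a b hab, if_neg hne, add_zero]
      rw [if_neg hab.ne, zero_add]
      split_ifs with h
      · rw [h.1, h.2]
      rw [Fin.lt_def] at hab
      have hbl := b.isLt
      have habs : ¬((a : ℕ) = 0 ∧ (b : ℕ) = n - 1) := fun e =>
        h ⟨Fin.ext (by omega), Fin.ext (by omega)⟩
      by_cases ham : 2 * (a : ℕ) + 1 = n
      · by_cases hb1 : (b : ℕ) = n - 1
        · have hbl' : b = l := Fin.ext (by omega)
          have hm : Mid o a := mid_iff.2 ⟨ham, by omega⟩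
          obtain ⟨s, hs⟩ := exists_mel_param D (1 : K)
          have h2 := (comm_mel D hm hs (hcx (mel_mem_uni D hm hs (by rw [Fin.lt_def]; omega)))).1 b
            (fun e => by have := congrArg Fin.val e; omega) (fun e => by have := congrArg Fin.val e; omega)
          rwa [hrow (Fin.rev o) (fun e => by have := congrArg Fin.val e; omega)
            (fun e => by have := congrArg Fin.val e; omega) (by omega) b
            (fun e => by have := congrArg Fin.val e; omega), mul_zero, add_zero, one_mul] at h2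
        · exact hcol b (fun e => by have := congrArg Fin.val e; omega)
            (fun e => by have := congrArg Fin.val e; omega) (by omega) a (fun e => by subst e; omega)
      by_cases ha0 : (a : ℕ) = 0
      · by_cases hbm : 2 * (b : ℕ) + 1 = n
        · have hm : Mid o b := mid_iff.2 ⟨hbm, by omega⟩
          obtain ⟨s, hs⟩ := exists_mel_param D (1 : K)
          have h2 := (comm_mel D hm hs (hcx (mel_mem_uni D hm hs (by rw [Fin.lt_def]; omega)))).2.1 a
            (fun e => by have := congrArg Fin.val e; omega) (fun e => by have := congrArg Fin.val e; omega)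
          rwa [hcol o (fun e => by have := congrArg Fin.val e; omega)
            (fun e => by have := congrArg Fin.val e; omega) (by omega) a
            (fun e => by have := congrArg Fin.val e; omega), zero_mul, zero_sub, map_one, mul_one,
            neg_eq_zero] at h2
        · exact hcol b (fun e => by have := congrArg Fin.val e; omega)
            (fun e => by have := congrArg Fin.val e; omega) hbm a (fun e => by subst e; omega)
      exact hrow a (fun e => by have := congrArg Fin.val e; omega)
        (fun e => by have := congrArg Fin.val e; omega) ham b (fun e => by subst e; omega)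
    set c₀ := mat x z l
    have hzl : z ≠ l := hzne
    have hc₀ : σ c₀ = -c₀ := by
      have := congrFun (congrFun (adm_mat_mul x) z) l
      rw [hform, adm_add, adm_one, adm_single, hl, Fin.rev_rev, ← hl, one_add_mul, mul_add, mul_one] at this
      simp only [Matrix.add_apply, Matrix.one_apply_ne hzl, Matrix.single_apply, and_self, if_true,
        Matrix.single_mul_single_of_ne _ _ _ _ hzl.symm, Matrix.zero_apply, add_zero, zero_add] at this
      linear_combination this
    have hc₀0 : c₀ ≠ 0 := fun e => htne (Subtype.ext (Subtype.ext (by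
      show π x = 1
      rw [show x = 1 from mat_injective (by rw [hform, e, Matrix.single_zero, add_zero, mat_one]), map_one])))
    have hxe : zel D hzne hc₀ = x := mat_injective (by rw [zel_coe]; exact hform.symm)
    let H : Subgroup GJ := uni ⊓ T.comap π
    have hH0 : zel D hzne hc₀ ∈ H := by rw [hxe]; exact ⟨hx, htT⟩
    have hconj : ∀ (g : GJ) {u : GJ}, u ∈ H → g * u * g⁻¹ ∈ uni → g * u * g⁻¹ ∈ H := by
      intro g u hu hu'
      refine ⟨hu', ?_⟩
      show π (g * u * g⁻¹) ∈ T
      have e : π (g * u * g⁻¹) = π g * π u * (π g)⁻¹ := by rw [map_mul, map_mul, map_inv]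
      rw [e]
      exact hcl (π g) (π u) hu.2 (e ▸ hmemS hu')
    -- long root elements
    have hZz : ∀ (c : K) (hc : σ c = -c), zel D hzne hc ∈ H := by
      intro c hc
      rcases eq_or_ne c 0 with rfl | hc0
      · rw [show zel D hzne hc = 1 from mat_injective (by rw [zel_coe, Matrix.single_zero, add_zero, mat_one])]
        exact H.one_mem
      obtain ⟨d, hd⟩ := Cfsg.Agent.Transvec.Herm.exists_norm D.ne_refl D.invol (c / c₀)
        (by rw [map_div₀, hc, hc₀, neg_div_neg_eq])
      have hd0 : d ≠ 0 := fun e => by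
        rw [e, zero_mul] at hd
        exact div_ne_zero hc0 hc₀0 hd.symm
      have hgood : Good z o := good_iff.2 ⟨by omega, by omega, by omega, by omega⟩
      have hcol' := tD_col D hgood hd0 z
      rw [if_pos rfl] at hcol'
      have hval : d * c₀ * σ d = c := by
        rw [mul_right_comm, hd, div_mul_cancel₀ _ hc₀0]
      have e := conj_zel D hzne hzne hc₀ (by rw [hval, hc]) hcol'
      have e2 : tD D hgood d * zel D hzne hc₀ * (tD D hgood d)⁻¹ = zel D hzne hc :=
        e.trans (mat_injective (by rw [zel_coe, zel_coe, hval]))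
      exact e2 ▸ hconj _ hH0 (by rw [e2]; exact zel_mem_uni D hzne hc (by rw [Fin.lt_def]; omega))
    have hZ : ∀ (i : Fin n) (h : i ≠ Fin.rev i) (c : K) (hc : σ c = -c), i < Fin.rev i → zel D h hc ∈ H := by
      intro i h c hc hi
      rcases eq_or_ne i z with rfl | hiz
      · exact hZz c hc
      have hiv : (i : ℕ) ≠ 0 := fun e => hiz (Fin.ext (by omega))
      rw [Fin.lt_def, Fin.val_rev] at hi
      have hgood : Good z i := good_iff.2 ⟨by omega, by omega, by omega, by omega⟩
      have hval : -(1 : K)⁻¹ * c * σ (-(1 : K)⁻¹) = c := by simp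
      have e := conj_zel D hzne h hc (by rw [hval, hc]) (sW_col_left D hgood one_ne_zero)
      have e2 : sW D hgood 1 * zel D hzne hc * (sW D hgood 1)⁻¹ = zel D h hc :=
        e.trans (mat_injective (by rw [zel_coe, zel_coe, hval]))
      exact e2 ▸ hconj _ (hZz c hc) (by
        rw [e2]; exact zel_mem_uni D h hc (by rw [Fin.lt_def, Fin.val_rev]; omega))
    -- short root elements of the Siegel radical
    have hSh : ∀ (i j : Fin n) (h : Good i (Fin.rev j)) (c : K), i < Fin.rev i → j < Fin.rev j →
        xel D h c ∈ H := by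
      intro i j h c hi hj
      obtain ⟨c', hc'0, hc'⟩ := Cfsg.Agent.Transvec.Herm.exists_anti D.ne_refl D.invol
      set t := c / c'
      have hjne : j ≠ Fin.rev j := hj.ne
      have hine : i ≠ Fin.rev i := hi.ne
      have hgood : Good i j := by
        refine ⟨fun e => h.2.1 (by rw [e]), fun e => h.1 (by rw [e, Fin.rev_rev]), hine, hjne⟩
      have hc'' : σ (t * c' * σ t) = -(t * c' * σ t) := by
        rw [map_mul, map_mul, D.invol, hc']; ring
      have e : xel D hgood t * zel D hjne hc' = zel D hjne hc' * zel D hine hc'' * xel D h (t * c') *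
          xel D hgood t := by
        refine mat_injective ?_
        simp only [mat_mul, xel_coe, zel_coe, xN, Fin.rev_rev, map_mul, hc']
        have n1 : Fin.rev j ≠ j := hjne.symm
        have n2 : Fin.rev i ≠ i := hine.symm
        have n3 : Fin.rev j ≠ i := h.1.symm
        have n4 : Fin.rev i ≠ j := hgood.2.1.symm
        have n5 : i ≠ j := hgood.1
        have n6 : Fin.rev i ≠ Fin.rev j := fun e => n5 (Fin.rev_injective e)
        simp [mul_add, add_mul, mul_sub, sub_mul, n1, n2, n3, n4, n5, n5.symm, n6, n6.symm, ← Matrix.single_neg]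
        rw [show σ t * c' = c' * σ t by ring]
        abel
      have hu1 := hZ j hjne _ hc' hj
      have hu2 := hZ i hine _ hc'' hi
      have hij' : i < Fin.rev j := by
        rw [Fin.lt_def, Fin.val_rev] at hi hj ⊢
        omega
      have e2 : xel D hgood t * zel D hjne hc' * (xel D hgood t)⁻¹ =
          zel D hjne hc' * zel D hine hc'' * xel D h (t * c') := by
        rw [e, mul_inv_cancel_right]
      have h3 := hconj _ hu1 (by
        rw [e2]
        exact Subgroup.mul_mem _ (Subgroup.mul_mem _ hu1.1 hu2.1) (xel_mem_uni D h hij' _))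
      rw [e2] at h3
      have h4 := H.mul_mem (H.inv_mem (H.mul_mem hu1 hu2)) h3
      rwa [inv_mul_cancel_left, show t * c' = c from div_mul_cancel₀ _ hc'0] at h4
    -- Levi root elements
    have hLevi : ∀ (i j : Fin n) (h : Good i j) (c : K), i < j → j < Fin.rev j → xel D h c ∈ H := by
      intro i j h c hij hj
      obtain ⟨c', hc'0, hc'⟩ := Cfsg.Agent.Transvec.Herm.exists_anti D.ne_refl D.invol
      have hi : i < Fin.rev i := by
        rw [Fin.lt_def, Fin.val_rev] at hj ⊢
        rw [Fin.lt_def] at hij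
        omega
      have h' : Good i (Fin.rev j) := ⟨fun e => h.2.1 (by rw [e, Fin.rev_rev]),
        fun e => h.1 (Fin.rev_injective e).symm, hi.ne, rev_ne_rev hj.ne⟩
      have hcol1 := zW_col_fix D hj.ne hc' (b := i) h.1 (fun e => h.2.1 (by rw [e, Fin.rev_rev]))
      have hcol2 : Col (zW D hj.ne hc') (Fin.rev (Fin.rev j)) (Fin.rev j) c' := by
        rw [Fin.rev_rev]; exact zW_col_left D hj.ne hc' hc'0
      have h'' : Good i (Fin.rev (Fin.rev j)) := by rw [Fin.rev_rev]; exact h
      have e := conj_xel D h' h'' hcol1 hcol2 (c / σ c')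
      rw [one_mul, div_mul_cancel₀ _ ((map_ne_zero σ).2 hc'0)] at e
      have e2 : zW D hj.ne hc' * xel D h' (c / σ c') * (zW D hj.ne hc')⁻¹ = xel D h c :=
        e.trans (mat_injective (by rw [xel_coe, xel_coe, Fin.rev_rev]))
      exact e2 ▸ hconj _ (hSh i j h' _ hi hj) (by rw [e2]; exact xel_mem_uni D h hij c)
    have hX : ∀ (i j : Fin n) (h : Good i j) (c : K), i < j → xel D h c ∈ H := by
      intro i j h c hij
      rcases lt_or_gt_of_ne h.2.2.1 with hi | hi
      · rcases lt_or_gt_of_ne h.2.2.2 with hj | hj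
        · exact hLevi i j h c hij hj
        · have := hSh i (Fin.rev j) (by rw [Fin.rev_rev]; exact h) c hi (by rw [Fin.rev_rev]; exact hj)
          have e : xel D (show Good i (Fin.rev (Fin.rev j)) by rw [Fin.rev_rev]; exact h) c = xel D h c :=
            mat_injective (by rw [xel_coe, xel_coe, Fin.rev_rev])
          exact e ▸ this
      · rw [xel_rev]
        exact hLevi _ _ h.rev _ (Fin.rev_lt_rev.2 hij) (by rw [Fin.rev_rev]; exact hi)
    -- middle root elements
    have hMk : ∀ (i k w : Fin n) (hm : Mid i w) (hmk : Mid k w) (a b : K) (hab : b + σ b + a * σ a = 0),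
        i < k → k < w → mel D hm hab ∈ H := by
      intro i k w hm hmk a b hab hik hkw
      have hiw : i < w := hik.trans hkw
      have hw := mid_iff.1 hmk
      rw [Fin.lt_def] at hik hkw
      have hgood : Good i k := good_iff.2 ⟨by omega, by omega, by omega, by omega⟩
      have hgood' : Good i (Fin.rev k) :=
        good_iff.2 ⟨by rw [Fin.val_rev]; omega, by rw [Fin.val_rev]; omega, by omega, by rw [Fin.val_rev]; omega⟩
      have hMu := mel_mem_uni D hmk hab (by rw [Fin.lt_def]; omega)
      have hXH := hX i k hgood 1 (by rw [Fin.lt_def]; omega)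
      have hX'H := hX i (Fin.rev k) hgood' b (by rw [Fin.lt_def, Fin.val_rev]; omega)
      have e : xel D hgood 1 * mel D hmk hab = mel D hmk hab * (mel D hm hab * xel D hgood' b) * xel D hgood 1 := by
        refine mat_injective ?_
        simp only [mat_mul, xel_coe, mel_coe, xN, mN, Fin.rev_rev, map_one]
        have n1 : Fin.rev k ≠ k := hmk.nerev.symm
        have n2 : Fin.rev i ≠ i := hm.nerev.symm
        have n3 : Fin.rev k ≠ i := hgood'.1.symm
        have n4 : Fin.rev i ≠ k := hgood.2.1.symm
        have n5 : i ≠ k := hgood.1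
        have n6 : Fin.rev i ≠ Fin.rev k := fun e => n5 (Fin.rev_injective e)
        have n7 : w ≠ i := hm.ne.symm
        have n8 : w ≠ k := hmk.ne.symm
        have n9 : Fin.rev k ≠ w := hmk.ne'
        have n10 : Fin.rev i ≠ w := hm.ne'
        simp [mul_add, add_mul, mul_sub, sub_mul, n1, n2, n3, n4, n5, n5.symm, n6, n6.symm, n7, n8, n8.symm, n9, n9.symm, n10, n10.symm,
          ← Matrix.single_neg]
        have e' : Matrix.single k (Fin.rev i) (a * σ a) + Matrix.single k (Fin.rev i) b +
            Matrix.single k (Fin.rev i) (σ b) = (0 : Mn) := by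
          rw [← Matrix.single_add, ← Matrix.single_add, show a * σ a + b + σ b = 0 by linear_combination hab,
            Matrix.single_zero]
        linear_combination (norm := abel) e'
      have h1 := hconj (mel D hmk hab) (H.inv_mem hXH)
        (Subgroup.mul_mem _ (Subgroup.mul_mem _ hMu (Subgroup.inv_mem _ hXH.1)) (Subgroup.inv_mem _ hMu))
      have h2 := H.mul_mem hXH h1
      rw [show xel D hgood 1 * (mel D hmk hab * (xel D hgood 1)⁻¹ * (mel D hmk hab)⁻¹) =
        mel D hmk hab * (mel D hm hab * xel D hgood' b) * (mel D hmk hab)⁻¹ by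
          rw [← mul_assoc, ← mul_assoc, e]; group] at h2
      have h3 := hconj (mel D hmk hab)⁻¹ h2 (by
        rw [inv_inv]
        exact Subgroup.mul_mem _ (Subgroup.mul_mem _ (Subgroup.inv_mem _ hMu) h2.1) hMu)
      rw [inv_inv] at h3
      rw [show (mel D hmk hab)⁻¹ * (mel D hmk hab * (mel D hm hab * xel D hgood' b) * (mel D hmk hab)⁻¹) *
        mel D hmk hab = mel D hm hab * xel D hgood' b by group] at h3
      have h4 := H.mul_mem h3 (H.inv_mem hX'H)
      rwa [mul_inv_cancel_right] at h4
    have hM : ∀ (i w : Fin n) (h : Mid i w) (a b : K) (hab : b + σ b + a * σ a = 0), i < w →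
        mel D h hab ∈ H := by
      intro i w h a b hab hiw
      have hw := mid_iff.1 h
      rw [Fin.lt_def] at hiw
      by_cases hlast : (i : ℕ) + 1 = w
      · have hmz : Mid z w := mid_iff.2 ⟨hw.1, by omega⟩
        have hgood : Good z i := good_iff.2 ⟨by omega, by omega, by omega, by omega⟩
        have hab' : b + σ b + -a * σ (-a) = 0 := by rw [map_neg]; linear_combination hab
        have h0 := hMk z i w hmz h (-a) b hab' (by rw [Fin.lt_def]; omega) (by rw [Fin.lt_def]; omega)
        have hwfix : Col (sW D hgood 1) w w 1 := sW_col_fix D hgood 1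
          (fun e => by have := congrArg Fin.val e; omega) (fun e => by have := congrArg Fin.val e; omega)
          (fun e => by have := congrArg Fin.val e; rw [Fin.val_rev] at this; omega)
          (fun e => by have := congrArg Fin.val e; rw [Fin.val_rev] at this; omega)
        have e := conj_mel D hmz h hab' (by simp; linear_combination hab) (sW_col_left D hgood one_ne_zero) hwfix
        have e2 : sW D hgood 1 * mel D hmz hab' * (sW D hgood 1)⁻¹ = mel D h hab :=
          e.trans (mat_injective (by rw [mel_coe, mel_coe]; simp))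
        exact e2 ▸ hconj _ h0 (by rw [e2]; exact mel_mem_uni D h hab (by rw [Fin.lt_def]; omega))
      · exact hMk i ⟨i + 1, by omega⟩ w h (mid_iff.2 ⟨hw.1, by simp only; omega⟩) a b hab
          (by rw [Fin.lt_def]; simp only; omega) (by rw [Fin.lt_def]; simp only; omega)
    rw [hS, Subgroup.map_le_iff_le_comap]
    exact (uni_le_of_roots D hX hZ hM).trans inf_le_right
  refine group_isSimple_of_generated S (fun h => ?_) hsc ?_
  · obtain ⟨t, ht0, ht⟩ := Cfsg.Agent.Transvec.Herm.exists_anti D.ne_refl D.invol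
    have h1 := hmemS (zel_mem_uni D hzne ht (by rw [Fin.lt_def]; omega))
    rw [h, Subgroup.mem_bot] at h1
    have h2 := hinj (y := 1) (a := 1) (b := 0) (by rw [h1, map_one]) (zel_pow D hzne ht) (one_pow _)
    have h3 := congrArg (fun y : GJ => mat y z (Fin.rev z)) h2
    simp [zel_coe, mat_one, hzne] at h3
    exact ht0 h3
  -- the normalizer of the Sylow subgroup
  intro g hg
  obtain ⟨x, rfl⟩ := hπs g
  set N := Subgroup.closure {g : G | g ∈ Subgroup.normalizer ((S : Subgroup G) : Set G) ∧
    ((∀ x ∈ (S : Subgroup G), g * x * g⁻¹ = x) ∨ g ∈ (S : Subgroup G) ∨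
      ∃ R : Subgroup G, (groupFusionSystem (S : Subgroup G)).IsFullyNormalized R ∧
        (groupFusionSystem (S : Subgroup G)).IsCentric R ∧
        g ∈ Subgroup.closure {g : G | g ∈ Subgroup.normalizer (R : Set G) ∧ ∃ k : ℕ, orderOf g = p ^ k})}
  have hx : x ∈ borel := normalizer_uni_le D hn (mem_normalizer_of_conj_mem_finite fun u hu => by
    obtain ⟨v, hv, he⟩ := hS' ((Subgroup.mem_normalizer_iff.1 hg _).1 (hmemS hu))
    rw [← map_inv, ← map_mul, ← map_mul] at he
    exact hinj he (uni_pow (p := p) hv) (show (x * u * x⁻¹) ^ p ^ n = 1 by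
      rw [conj_pow, uni_pow (p := p) hu, mul_one, mul_inv_cancel]) ▸ hv)
  have hup : ∀ a b : Fin n, b < a → mat x a b = 0 := fun a b h => mem_par_iff.1 hx a b h
  have hSN : ∀ {u : GJ}, u ∈ uni → π u ∈ N := fun hu =>
    Subgroup.subset_closure ⟨Subgroup.le_normalizer (hmemS hu), Or.inr (Or.inl (hmemS hu))⟩
  have hDn : ∀ {d : GJ}, IsDiag d → π d ∈ Subgroup.normalizer ((S : Subgroup G) : Set G) := fun hd => by
    rw [hS]; exact hmapN (hparN hd.mem_borel)
  have hgen : ∀ (f : Fin n → ℕ), Monotone f → Symm f →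
      (∀ a b : Fin n, (a : ℕ) = 0 → 2 ≤ (b : ℕ) → f a < f b) → ∀ {d : GJ}, IsDiag d →
      d ∈ Subgroup.closure {y : GJ | y ∈ par f ∧ ∃ k, y ^ p ^ k = 1} → d ∈ N.comap π := by
    intro f hf hsym h02 d hd hmem
    refine Subgroup.subset_closure ⟨hDn hd, Or.inr (Or.inr ⟨(rad f).map π, ?_, ?_, ?_⟩)⟩
    · refine group_fullyNormalized_of_le_normalizer S ?_ ?_
      · rw [hS]; exact Subgroup.map_mono (rad_le_uni hf)
      · intro g hg
        obtain ⟨u, hu, rfl⟩ := hS' hg
        exact hmapN (hparN (uni_le_par hf hu))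
    · refine Cfsg.Agent.FusionPSp.centric_of_centralizer S (by rw [hS]; exact Subgroup.map_mono (rad_le_uni hf))
        fun y hy => ?_
      obtain ⟨M', rfl⟩ := hπs y
      obtain ⟨c', hc'⟩ := centralizer_rad D hn hf hsym h02 (x := M') fun u hu =>
        hcomm (Subgroup.mem_centralizer_iff.1 hy _ ⟨u, hu, rfl⟩) (uni_pow (p := p) (rad_le_uni hf hu))
      obtain ⟨w, hw, hwx⟩ := exists_central_mul D.invol hn hf hc'
      exact ⟨_, hwx, by rw [map_mul, hπz hw, one_mul]⟩
    · have h1 := Subgroup.mem_map_of_mem π hmem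
      rw [MonoidHom.map_closure] at h1
      refine Subgroup.closure_mono ?_ h1
      rintro _ ⟨y, ⟨hy, k, hyp⟩, rfl⟩
      refine ⟨hmapN (hparN hy), ?_⟩
      obtain ⟨k', -, hk'⟩ := (Nat.dvd_prime_pow hp.out).1
        (orderOf_dvd_of_pow_eq_one (show π y ^ p ^ k = 1 by rw [← map_pow, hyp, map_one]))
      exact ⟨k', hk'⟩
  -- the torus part
  have hrel : ∀ a, σ (mat x (Fin.rev a) (Fin.rev a)) * mat x a a = 1 := by
    intro a
    have := congrFun (congrFun (adm_mat_mul x) a) a
    rw [Matrix.mul_apply, Matrix.one_apply_eq, Finset.sum_eq_single a ?_ (by simp), adm_apply] at this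
    · exact this
    · intro b _ hb
      rcases lt_or_gt_of_ne hb with hb | hb
      · rw [adm_apply, hup _ _ (Fin.rev_lt_rev.2 hb), map_zero, zero_mul]
      · rw [hup b a hb, mul_zero]
  have hdet : (Matrix.diagonal fun a => mat x a a).det = 1 := by
    rw [Matrix.det_diagonal, ← Matrix.det_of_upperTriangular (M := mat x) (fun a b h => hup a b h), det_mat]
  let d : GJ := ⟨⟨Matrix.diagonal fun a => mat x a a, hdet⟩, by
    show adm σ (Matrix.diagonal fun a => mat x a a) * Matrix.diagonal (fun a => mat x a a) = 1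
    have : adm σ (Matrix.diagonal fun a => mat x a a) =
        Matrix.diagonal fun a => σ (mat x (Fin.rev a) (Fin.rev a)) := by
      ext a b
      rw [adm_apply, Matrix.diagonal_apply, Matrix.diagonal_apply]
      rcases eq_or_ne a b with rfl | hab
      · simp
      · rw [if_neg hab, if_neg fun e => hab (Fin.rev_injective e).symm, map_zero]
    rw [this, Matrix.diagonal_mul_diagonal]
    simp [hrel]⟩
  have hd : IsDiag d := fun a b hab => Matrix.diagonal_apply_ne _ hab
  have hdd : ∀ a, mat d a a = mat x a a := fun a => Matrix.diagonal_apply_eq _ a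
  have hu : d⁻¹ * x ∈ uni := by
    refine mem_uni_iff.2 ⟨fun a b hab => ?_, fun a => ?_⟩ <;> rw [mat_mul, Matrix.mul_apply,
      Finset.sum_eq_single a (fun c _ hc => by rw [hd.inv.1 a c hc.symm, zero_mul]) (by simp), hd.inv.2, hdd]
    · rw [hup a b hab, mul_zero]
    · exact inv_mul_cancel₀ fun e => by
        have := hrel a
        rw [e, mul_zero] at this
        exact zero_ne_one this
  suffices hdN : d ∈ N.comap π by
    have := N.mul_mem hdN (hSN hu)
    rwa [← map_mul, mul_inv_cancel_left] at this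
  refine diag_le D hn ?_ ?_ ?_ hd
  · intro i j h a ha hji hj
    refine hgen (fun b => if b = j ∨ b = Fin.rev i then (b : ℕ) - 1 else b) ?_ ?_ ?_
      (isDiag_of_col fun b => tD_col D h ha b).1 ?_
    · intro b b' hbb'
      rw [Fin.le_def] at hbb'
      simp only [Fin.ext_iff, Fin.val_rev]
      split_ifs <;> omega
    · intro b b' hbb'
      have := b.isLt
      have := b'.isLt
      simp only [Fin.ext_iff, Fin.val_rev] at hbb' ⊢
      split_ifs at hbb' ⊢ <;> omega
    · intro b b' hb hb'
      have := b'.isLt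
      simp only [Fin.ext_iff, Fin.val_rev]
      split_ifs <;> omega
    · have hroot : ∀ (c : K), xel D h c ∈ Subgroup.closure
          {y : GJ | y ∈ par (fun b => if b = j ∨ b = Fin.rev i then (b : ℕ) - 1 else b) ∧ ∃ k, y ^ p ^ k = 1} ∧
          xel D h.swap c ∈ Subgroup.closure
          {y : GJ | y ∈ par (fun b => if b = j ∨ b = Fin.rev i then (b : ℕ) - 1 else b) ∧ ∃ k, y ^ p ^ k = 1} :=
        fun c => ⟨Subgroup.subset_closure ⟨xel_mem_par D h
            (by simp only [Fin.ext_iff, Fin.val_rev, true_or, or_true, if_true]; split_ifs <;> omega)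
            (by simp only [Fin.ext_iff, Fin.val_rev, true_or, or_true, if_true]; split_ifs <;> omega) c, 1, xel_pow D h c⟩,
          Subgroup.subset_closure ⟨xel_mem_par D h.swap
            (by simp only [Fin.ext_iff, Fin.val_rev, true_or, or_true, if_true]; split_ifs <;> omega)
            (by simp only [Fin.ext_iff, Fin.val_rev, true_or, or_true, if_true]; split_ifs <;> omega) c, 1, xel_pow D h.swap c⟩⟩
      have hW : ∀ c : K, sW D h c ∈ Subgroup.closure
          {y : GJ | y ∈ par (fun b => if b = j ∨ b = Fin.rev i then (b : ℕ) - 1 else b) ∧ ∃ k, y ^ p ^ k = 1} :=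
        fun c => mul_mem (mul_mem (hroot _).1 (hroot _).2) (hroot _).1
      exact mul_mem (hW a) (inv_mem (hW 1))
  · intro i h c c' hc hc' hc0 hc'0 hi
    have hdiag : IsDiag (zW D h hc * (zW D h hc')⁻¹) := fun a b hab => by
      obtain ⟨t, ht⟩ : ∃ t, Col (zW D h hc * (zW D h hc')⁻¹) b b t := by
        by_cases hbi : b = i
        · subst hbi
          exact ⟨_, ((zW_col_right D h hc' hc'0).inv (by simp [hc'0])).mul (zW_col_right D h hc hc0)⟩
        by_cases hbi' : b = Fin.rev i
        · subst hbi'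
          exact ⟨_, ((zW_col_left D h hc' hc'0).inv hc'0).mul (zW_col_left D h hc hc0)⟩
        exact ⟨_, ((zW_col_fix D h hc' hbi hbi').inv one_ne_zero).mul (zW_col_fix D h hc hbi hbi')⟩
      rw [ht.entry, if_neg hab]
    refine hgen (fun b => if b = Fin.rev i then (i : ℕ) else b) ?_ ?_ ?_ hdiag ?_
    · intro b b' hbb'
      rw [Fin.le_def] at hbb'
      simp only [Fin.ext_iff]
      split_ifs <;> omega
    · intro b b' hbb'
      have := b.isLt
      have := b'.isLt
      simp only [Fin.ext_iff, Fin.val_rev] at hbb' hi ⊢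
      split_ifs at hbb' ⊢ <;> omega
    · intro b b' hb hb'
      have := b'.isLt
      simp only [Fin.ext_iff, Fin.val_rev] at hi ⊢
      split_ifs <;> omega
    · have hW : ∀ {t : K} (ht : σ t = -t), zW D h ht ∈ Subgroup.closure
          {y : GJ | y ∈ par (fun b => if b = Fin.rev i then (i : ℕ) else b) ∧ ∃ k, y ^ p ^ k = 1} := by
        intro t ht
        have hr : ∀ {s : K} (hs : σ s = -s), zel D (rev_ne_rev h) hs ∈ Subgroup.closure
            {y : GJ | y ∈ par (fun b => if b = Fin.rev i then (i : ℕ) else b) ∧ ∃ k, y ^ p ^ k = 1} := fun hs =>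
          Subgroup.subset_closure ⟨zel_mem_par D _ hs (by simp [h]), 1, zel_pow D _ hs⟩
        exact mul_mem (mul_mem (hr ht) (Subgroup.subset_closure
          ⟨zel_mem_par D h _ (by simp [h]), 1, zel_pow D h _⟩)) (hr ht)
      exact mul_mem (hW hc) (inv_mem (hW hc'))
  · intro i w h a a' a'' c c' c'' b b' b'' e e' e'' h1 h2 h3 k1 k2 k3 hw hdiag
    have hmid := (mid_iff.1 h).1
    refine hgen (fun r => if r = w ∨ r = Fin.rev i then (i : ℕ) else r) ?_ ?_ ?_ hdiag ?_
    · intro r r' hrr'
      rw [Fin.le_def] at hrr'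
      simp only [Fin.ext_iff, Fin.val_rev]
      split_ifs <;> omega
    · intro r r' hrr'
      have := r.isLt
      have := r'.isLt
      simp only [Fin.ext_iff, Fin.val_rev] at hrr' ⊢
      split_ifs at hrr' ⊢ <;> omega
    · intro r r' hr hr'
      have := r'.isLt
      simp only [Fin.ext_iff, Fin.val_rev]
      split_ifs <;> omega
    · have hroot : ∀ {s t : K} (hst : t + σ t + s * σ s = 0),
          mel D h hst ∈ Subgroup.closure
            {y : GJ | y ∈ par (fun r => if r = w ∨ r = Fin.rev i then (i : ℕ) else r) ∧ ∃ k, y ^ p ^ k = 1} ∧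
          mel D h.rev hst ∈ Subgroup.closure
            {y : GJ | y ∈ par (fun r => if r = w ∨ r = Fin.rev i then (i : ℕ) else r) ∧ ∃ k, y ^ p ^ k = 1} :=
        fun hst => ⟨Subgroup.subset_closure ⟨mel_mem_par D h hst (by simp [h.ne, h.nerev])
            (by simp), 2, mel_pow D h hst⟩,
          Subgroup.subset_closure ⟨mel_mem_par D h.rev hst (by simp)
            (by simp [h.ne, h.nerev]), 2, mel_pow D h.rev hst⟩⟩
      exact mul_mem (mul_mem (mul_mem (hroot h1).1 (hroot h2).2) (hroot h3).1)
        (inv_mem (mul_mem (mul_mem (hroot k1).1 (hroot k2).2) (hroot k3).1))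

end simple

theorem psu_isSimple [Fintype K] {p q : ℕ} [hp : Fact p.Prime] (hchar : CharP K p)
    (hK : Fintype.card K = q ^ 2) (hn : 4 ≤ n) (S : Sylow p (Cfsg.PSU n K q)) :
    (groupFusionSystem (S : Subgroup (Cfsg.PSU n K q))).IsSimple p := by
  obtain ⟨σ, π₀, D, hs, hk⟩ := exists_model hp.out hchar hK (by omega : 0 < n)
  exact isSimple_of_model D hn hs hk S

end Cfsg.Agent.FusionPSU
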