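import Cfsg.Agent.Lib.Fusion.Simple
import Cfsg.Agent.Lib.Fusion.Saturated
import Cfsg.Agent.Lib.LinearBlock.SympWreath
import Cfsg.Agent.Lib.Classical.SL2SylowNormalizer

/-!
# The 2-fusion system of `PSp(4, F)`, `F` of odd order, is simple

A Sylow 2-subgroup `S` is the image of `Q ≀ C₂`, `Q` Sylow in `SL(2, F)`. A strongly closed subgroup contains the
central involution, hence the involution swapping the two blocks, hence everything. An automorphism of `S` of odd
order is induced by `(ω, ω)`, `ω` normalizing a quaternion group `Q` of order 8, and `(ω, ω)` is a product of two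
elements of order 4 normalizing the elementary abelian subgroup of order 16.
-/

set_option autoImplicit false

namespace Cfsg.Agent.FusionPSp4Two

open Cfsg Cfsg.FusionSystem Cfsg.Agent.FusionSys
open Matrix SpWreath SL2Inv PSL2Inv SL2SylowNormalizer

variable {F : Type*} [Field F]

local notation "SL2" => Matrix.SpecialLinearGroup (Fin 2) F
local notation "Sp4" => Matrix.symplecticGroup (Fin 2) F
local notation "M4" => Matrix (Fin 2 ⊕ Fin 2) (Fin 2 ⊕ Fin 2) F

/-! ### Elements of `Sp(4, F)` -/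

theorem perm_two (e : Equiv.Perm (Fin 2)) : e = 1 ∨ e = Equiv.swap 0 1 := by
  revert e; decide

theorem perm_swap_swap : Equiv.swap (0 : Fin 2) 1 * Equiv.swap 0 1 = 1 := by decide

/-- The block diagonal elements. -/
def dg : SL2 × SL2 →* Sp4 :=
  MonoidHom.mk' (fun a => emb (![a.1, a.2], 1)) fun a b => by
    rw [emb_mul]
    congr 1
    refine Prod.ext (funext fun i => ?_) (one_mul _).symm
    fin_cases i <;> simp [dmul, Equiv.Perm.one_def]

theorem dg_apply (a b : SL2) : dg (a, b) = emb (![a, b], 1) := rfl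

/-- The swap of the blocks. -/
def sg : Sp4 := emb (1, Equiv.swap 0 1)

theorem sg_mul_sg : (sg : Sp4) * sg = 1 := by
  rw [sg, emb_mul, ← emb_one]
  congr 1
  exact Prod.ext (funext fun i => by simp [dmul]) perm_swap_swap

theorem emb_eq (x : Dom F 2) : emb x = dg (x.1 0, x.1 1) * emb (1, x.2) := by
  rw [dg_apply, emb_mul]
  congr 1
  refine Prod.ext (funext fun i => ?_) (one_mul _).symm
  fin_cases i <;> simp [dmul]

theorem sg_dg (a b : SL2) : sg * dg (a, b) = dg (b, a) * sg := by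
  rw [sg, dg_apply, dg_apply, emb_mul, emb_mul]
  congr 1
  refine Prod.ext (funext fun i => ?_) ((mul_one _).trans (one_mul _).symm)
  fin_cases i <;> simp [dmul]

theorem sg_conj_dg (a b : SL2) : sg * dg (a, b) * sg⁻¹ = dg (b, a) := by
  rw [sg_dg, mul_inv_cancel_right]

theorem emb_one_left (e : Equiv.Perm (Fin 2)) : emb (F := F) (1, e) = 1 ∨ emb (F := F) (1, e) = sg := by
  rcases perm_two e with rfl | rfl
  · exact Or.inl emb_one
  · exact Or.inr rfl

/-- `-1`. -/
def neg4 : Sp4 := dg (negOne, negOne)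

/-- The diagonal involution. -/
def dd : Sp4 := dg (1, negOne)

theorem toMat_diag (a : SL2) :
    toMat (F := F) (n := 2) (![a, a], 1) = fromBlocks (a.1 0 0 • 1) (a.1 0 1 • 1) (a.1 1 0 • 1) (a.1 1 1 • 1) := by
  rw [toMat]
  congr 1 <;>
  · ext i j
    rw [mono_apply]
    fin_cases i <;> fin_cases j <;> simp [ent]

theorem neg4_coe : (neg4 : Sp4).1 = -1 := by
  show toMat _ = -1
  rw [toMat_diag, coe_negOne]
  simp [← fromBlocks_one, fromBlocks_neg]

theorem dd_coe : (dd : Sp4).1 = fromBlocks (diagonal ![1, -1]) 0 0 (diagonal ![1, -1]) := by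
  show toMat _ = _
  rw [toMat]
  congr 1 <;>
  · ext i j
    rw [mono_apply]
    fin_cases i <;> fin_cases j <;> simp [ent, negOne]

theorem neg4_comm (g : Sp4) : neg4 * g = g * neg4 := by
  refine Subtype.ext ?_
  show (neg4 : Sp4).1 * g.1 = g.1 * (neg4 : Sp4).1
  rw [neg4_coe]
  simp

theorem neg4_mem_center : (neg4 : Sp4) ∈ Subgroup.center Sp4 :=
  Subgroup.mem_center_iff.2 fun g => (neg4_comm g).symm

/-- An element given by four monomial blocks with one permutation is in the wreath product. -/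
theorem exists_emb (g : Sp4) (σ : Equiv.Perm (Fin 2)) (a b c d : Fin 2 → F)
    (hg : g.1 = fromBlocks (mono a σ) (mono b σ) (mono c σ) (mono d σ)) : ∃ x, emb x = g := by
  have h := g.2
  rw [hg, SymplecticGroup.fromBlocks_mem_iff] at h
  simp only [transpose_mono_mul] at h
  have hdet : ∀ i, (!![a i, b i; c i, d i] : Matrix (Fin 2) (Fin 2) F).det = 1 := by
    intro i
    obtain ⟨j, rfl⟩ := σ.surjective i
    have e := congrFun (congrFun h.2.2 j) j
    simp at e
    rw [Matrix.det_fin_two_of]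
    linear_combination e
  refine ⟨(fun i => ⟨_, hdet i⟩, σ), Subtype.ext ?_⟩
  rw [hg]
  rfl

/-- Elements commuting or anticommuting with the diagonal involution. -/
theorem exists_emb_of_dd (h2 : (2 : F) ≠ 0) (g : Sp4) (h : g * dd = dd * g ∨ g * dd = neg4 * (dd * g)) :
    ∃ x, emb x = g := by
  obtain ⟨A, B, C', D', hg⟩ : ∃ A B C' D', g.1 = fromBlocks A B C' D' := ⟨_, _, _, _, (fromBlocks_toBlocks g.1).symm⟩
  rcases h with h | h
  · have hm : g.1 * (dd : Sp4).1 = (dd : Sp4).1 * g.1 := congrArg Subtype.val h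
    rw [hg, dd_coe, fromBlocks_multiply, fromBlocks_multiply, fromBlocks_inj] at hm
    simp only [Matrix.mul_zero, Matrix.zero_mul, add_zero, zero_add] at hm
    have key : ∀ M : Matrix (Fin 2) (Fin 2) F, M * diagonal ![1, -1] = diagonal ![1, -1] * M →
        M = mono (fun i => M i i) 1 := by
      intro M hM
      ext i j
      have e := congrFun (congrFun hM i) j
      rw [mul_diagonal, diagonal_mul] at e
      rw [mono_apply]
      fin_cases i <;> fin_cases j <;> simp at e ⊢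
      · exact (mul_eq_zero.1 (show (2 : F) * M 0 1 = 0 by linear_combination -e)).resolve_left h2
      · exact (mul_eq_zero.1 (show (2 : F) * M 1 0 = 0 by linear_combination e)).resolve_left h2
    refine exists_emb g 1 (fun i => A i i) (fun i => B i i) (fun i => C' i i) (fun i => D' i i) ?_
    rw [hg, ← key A hm.1, ← key B hm.2.1, ← key C' hm.2.2.1, ← key D' hm.2.2.2]
  · have hm : g.1 * (dd : Sp4).1 = (neg4 : Sp4).1 * ((dd : Sp4).1 * g.1) := congrArg Subtype.val h
    rw [neg4_coe, hg, dd_coe, fromBlocks_multiply, fromBlocks_multiply, neg_one_mul, fromBlocks_neg,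
      fromBlocks_inj] at hm
    simp only [Matrix.mul_zero, Matrix.zero_mul, add_zero, zero_add] at hm
    have key : ∀ M : Matrix (Fin 2) (Fin 2) F, M * diagonal ![1, -1] = -(diagonal ![1, -1] * M) →
        M = mono (fun i => M i (Equiv.swap 0 1 i)) (Equiv.swap 0 1) := by
      intro M hM
      ext i j
      have e := congrFun (congrFun hM i) j
      rw [mul_diagonal, Matrix.neg_apply, diagonal_mul] at e
      rw [mono_apply]
      fin_cases i <;> fin_cases j <;> simp at e ⊢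
      · exact (mul_eq_zero.1 (show (2 : F) * M 0 0 = 0 by linear_combination e)).resolve_left h2
      · exact (mul_eq_zero.1 (show (2 : F) * M 1 1 = 0 by linear_combination -e)).resolve_left h2
    refine exists_emb g (Equiv.swap 0 1) (fun i => A i (Equiv.swap 0 1 i)) (fun i => B i (Equiv.swap 0 1 i))
      (fun i => C' i (Equiv.swap 0 1 i)) (fun i => D' i (Equiv.swap 0 1 i)) ?_
    rw [hg, ← key A hm.1, ← key B hm.2.1, ← key C' hm.2.2.1, ← key D' hm.2.2.2]

theorem negOne_mul_ne (h2 : (2 : F) ≠ 0) (a : SL2) : negOne * a ≠ a := fun h =>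
  negOne_ne_one h2 (mul_eq_right.1 h)

theorem dg_injective : Function.Injective (dg (F := F)) := fun a b h => by
  have h1 := congrArg Prod.fst (emb_injective (show emb _ = emb _ from h))
  exact Prod.ext (congrFun h1 0) (congrFun h1 1)

/-- An element of the wreath product with swap does not commute, up to sign, with a block element. -/
theorem not_swap (h2 : (2 : F) ≠ 0) {a b w' : SL2} {k : SL2} (hk : k = 1 ∨ k = negOne)
    (hw : w' ≠ 1 ∧ w' ≠ negOne)
    (h : dg (a, b) * sg * dg (w', 1) = dg (k, k) * (dg (w', 1) * (dg (a, b) * sg))) : False := by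
  rw [mul_assoc, sg_dg, ← mul_assoc, ← mul_assoc, ← mul_assoc, mul_left_inj, ← map_mul, ← map_mul, ← map_mul] at h
  have e := congrArg Prod.snd (dg_injective h)
  simp only [Prod.snd_mul, mul_one] at e
  rcases hk with rfl | rfl
  · exact hw.1 (mul_eq_left.1 (e.trans (one_mul b)))
  · exact hw.2 (mul_left_cancel (e.trans (negOne_comm b)))

/-- The centre is `±1`. -/
theorem center_eq (h2 : (2 : F) ≠ 0) {z : Sp4} (hz : z ∈ Subgroup.center Sp4) : z = 1 ∨ z = neg4 := by
  have hc := Subgroup.mem_center_iff.1 hz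
  obtain ⟨x, rfl⟩ := exists_emb_of_dd h2 z (Or.inl (hc _).symm)
  have hx2 : emb x = dg (x.1 0, x.1 1) := by
    rcases emb_one_left (F := F) x.2 with h | h
    · rw [emb_eq, h, mul_one]
    · exfalso
      refine not_swap h2 (k := 1) (w' := w) (Or.inl rfl) (ne_of_trace_zero h2 trace_w) (a := x.1 0) (b := x.1 1) ?_
      rw [← h, ← emb_eq, show ((1 : SL2), (1 : SL2)) = 1 from rfl, map_one, one_mul]
      exact (hc _).symm
  rw [hx2] at hc ⊢
  have hcen : ∀ s : SL2, x.1 0 * s = s * x.1 0 := fun s => by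
    have e := hc (dg (s, 1))
    rw [← map_mul, ← map_mul] at e
    exact (congrArg Prod.fst (dg_injective e)).symm
  have hab : x.1 1 = x.1 0 := by
    have e := hc sg
    rw [sg_dg, mul_left_inj] at e
    exact congrArg Prod.fst (dg_injective e)
  rw [hab]
  rcases SL2Inv.mem_center_iff.1 (Subgroup.mem_center_iff.2 fun s => (hcen s).symm) with h | h
  · exact Or.inl (by rw [h]; exact map_one dg)
  · exact Or.inr (by rw [h]; rfl)

/-- The basis change exchanging the two involutions. -/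
theorem exists_dd_conj_sg (h2 : (2 : F) ≠ 0) : ∃ k : Sp4, k * dd * k⁻¹ = sg := by
  have hmem : fromBlocks !![(1 : F), 1; 1, -1] 0 0 !![(2 : F)⁻¹, 2⁻¹; 2⁻¹, -2⁻¹] ∈ Matrix.symplecticGroup (Fin 2) F := by
    rw [SymplecticGroup.fromBlocks_mem_iff]
    refine ⟨by simp, by simp, ?_⟩
    ext i j
    fin_cases i <;> fin_cases j <;> simp [Matrix.mul_apply, Fin.sum_univ_two] <;> field_simp <;> ring
  refine ⟨⟨_, hmem⟩, ?_⟩
  rw [mul_inv_eq_iff_eq_mul]
  refine Subtype.ext ?_
  show fromBlocks _ _ _ _ * (dd : Sp4).1 = toMat (1, Equiv.swap 0 1) * fromBlocks _ _ _ _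
  rw [dd_coe, toMat, fromBlocks_multiply, fromBlocks_multiply]
  congr 1 <;>
  · ext i j
    fin_cases i <;> fin_cases j <;> simp [Matrix.mul_apply, Matrix.vecMul_diagonal, Fin.sum_univ_two, mono_apply, ent]

/-! ### The elements of order four mixing the blocks -/

/-- `ρ = dσ`. -/
def rho : Sp4 := dd * sg

theorem rho_sq : (rho : Sp4) * rho = neg4 := by
  rw [rho, dd, mul_assoc, ← mul_assoc sg, sg_dg, mul_assoc, sg_mul_sg, mul_one, ← map_mul]
  simp [neg4]

theorem rho_comm_diag (a : SL2) : rho * dg (a, a) = dg (a, a) * rho := by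
  rw [rho, mul_assoc, sg_dg, ← mul_assoc, ← mul_assoc, dd, ← map_mul, ← map_mul]
  simp [negOne_comm]

theorem one_add_symp {X : Sp4} (hX : X.1 * X.1 = -1) :
    (1 + X.1) * Matrix.J (Fin 2) F * (1 + X.1)ᵀ = (2 : F) • Matrix.J (Fin 2) F := by
  have h := SymplecticGroup.mem_iff.1 X.2
  have h' : Matrix.J (Fin 2) F * X.1ᵀ = -(X.1 * Matrix.J (Fin 2) F) := by
    have e := congrArg (fun M => X.1 * M) h
    simp only [← Matrix.mul_assoc, hX] at e
    rw [Matrix.neg_mul, Matrix.neg_mul, Matrix.one_mul] at e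
    rw [← e, neg_neg]
  rw [Matrix.transpose_add, Matrix.transpose_one, Matrix.mul_add, Matrix.mul_one, Matrix.add_mul, Matrix.one_mul,
    Matrix.add_mul, h, h', two_smul]
  abel

theorem half_mem (h2 : (2 : F) ≠ 0) {X Y : Sp4} (hX : X.1 * X.1 = -1) (hY : Y.1 * Y.1 = -1) :
    (2⁻¹ : F) • ((1 + X.1) * (1 + Y.1)) ∈ Matrix.symplecticGroup (Fin 2) F := by
  rw [SymplecticGroup.mem_iff, Matrix.transpose_smul, Matrix.transpose_mul, Matrix.smul_mul, Matrix.smul_mul,
    Matrix.mul_smul, smul_smul, Matrix.mul_assoc (1 + X.1), Matrix.mul_assoc, ← Matrix.mul_assoc _ (1 + Y.1)ᵀ,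
    one_add_symp hY, Matrix.smul_mul, Matrix.mul_smul, ← Matrix.mul_assoc, one_add_symp hX, smul_smul, smul_smul,
    show (2⁻¹ : F) * 2⁻¹ * 2 * 2 = 1 by field_simp, one_smul]

/-- `(1 + X)(1 + Y)/2`. -/
def half (h2 : (2 : F) ≠ 0) (X Y : Sp4) (hX : X.1 * X.1 = -1) (hY : Y.1 * Y.1 = -1) : Sp4 :=
  ⟨_, half_mem h2 hX hY⟩

theorem half_pow_four (h2 : (2 : F) ≠ 0) {X Y : Sp4} (hX : X.1 * X.1 = -1) (hY : Y.1 * Y.1 = -1)
    (hc : Commute X.1 Y.1) : half h2 X Y hX hY ^ 4 = 1 := by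
  have hs : ∀ M : M4, M * M = -1 → (1 + M) * (1 + M) = (2 : F) • M := fun M hM => by
    rw [Matrix.mul_add, Matrix.mul_one, Matrix.add_mul, Matrix.one_mul, hM, two_smul]; abel
  have hsq : (half h2 X Y hX hY).1 * (half h2 X Y hX hY).1 = X.1 * Y.1 := by
    show ((2⁻¹ : F) • ((1 + X.1) * (1 + Y.1))) * ((2⁻¹ : F) • ((1 + X.1) * (1 + Y.1))) = _
    have hc' : Commute (1 + Y.1) (1 + X.1) :=
      ((Commute.one_right _).add_right ((Commute.one_left _).add_left hc.symm))
    rw [Matrix.smul_mul, Matrix.mul_smul, smul_smul, hc'.mul_mul_mul_comm, hs _ hX, hs _ hY, Matrix.smul_mul,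
      Matrix.mul_smul, smul_smul, smul_smul, show (2⁻¹ : F) * 2⁻¹ * 2 * 2 = 1 by field_simp, one_smul]
  refine Subtype.ext ?_
  show ((half h2 X Y hX hY) ^ 4 : Sp4).1 = 1
  rw [show (4 : ℕ) = 2 + 2 from rfl, pow_add, pow_two]
  show (half h2 X Y hX hY).1 * (half h2 X Y hX hY).1 * ((half h2 X Y hX hY).1 * (half h2 X Y hX hY).1) = 1
  rw [hsq, hc.symm.mul_mul_mul_comm, hX, hY]
  simp

/-- Moving an element across `(1+X)(1+Y)/2`. -/
theorem half_mul (h2 : (2 : F) ≠ 0) {X Y A A' B' : Sp4} (hX : X.1 * X.1 = -1) (hY : Y.1 * Y.1 = -1)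
    (h1 : (1 + Y.1) * A.1 = A'.1 * (1 + Y.1)) (h3 : (1 + X.1) * A'.1 = B'.1 * (1 + X.1)) :
    half h2 X Y hX hY * A = B' * half h2 X Y hX hY := by
  refine Subtype.ext ?_
  show ((2⁻¹ : F) • ((1 + X.1) * (1 + Y.1))) * A.1 = B'.1 * ((2⁻¹ : F) • ((1 + X.1) * (1 + Y.1)))
  rw [Matrix.smul_mul, Matrix.mul_smul, Matrix.mul_assoc, h1, ← Matrix.mul_assoc, h3, Matrix.mul_assoc]

theorem cross_comm {X A : Sp4} (h : X * A = A * X) : (1 + X.1) * A.1 = A.1 * (1 + X.1) := by
  have e : X.1 * A.1 = A.1 * X.1 := congrArg Subtype.val h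
  rw [Matrix.add_mul, Matrix.mul_add, Matrix.one_mul, Matrix.mul_one, e]

theorem cross_anti {X A : Sp4} (hX : X.1 * X.1 = -1) (h : X * A = neg4 * (A * X)) :
    (1 + X.1) * A.1 = (neg4 * (A * X)).1 * (1 + X.1) := by
  have e : X.1 * A.1 = (neg4 : Sp4).1 * (A.1 * X.1) := congrArg Subtype.val h
  show _ = (neg4 : Sp4).1 * (A.1 * X.1) * (1 + X.1)
  rw [neg4_coe, neg_one_mul] at e ⊢
  rw [Matrix.add_mul, Matrix.mul_add, Matrix.one_mul, Matrix.mul_one, e, Matrix.neg_mul, Matrix.mul_assoc, hX,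
    Matrix.mul_neg, Matrix.mul_one, neg_neg]
  abel

/-! ### The local data of `SL(2, F)` -/

/-- What is used about a Sylow 2-subgroup of `SL(2, F)`. -/
structure Data (F : Type*) [Field F] where
  Q : Sylow 2 (Matrix.SpecialLinearGroup (Fin 2) F)
  w_mem : (w : Matrix.SpecialLinearGroup (Fin 2) F) ∈ (Q : Subgroup (Matrix.SpecialLinearGroup (Fin 2) F))
  y : Matrix.SpecialLinearGroup (Fin 2) F
  y_mem : y ∈ (Q : Subgroup (Matrix.SpecialLinearGroup (Fin 2) F))
  y_anti : Anti y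
  dich : ∀ x ∈ (Q : Subgroup (Matrix.SpecialLinearGroup (Fin 2) F)),
    x ∈ (C : Subgroup (Matrix.SpecialLinearGroup (Fin 2) F)) ∨ Anti x
  norm : Subgroup.normalizer ((Q : Subgroup (Matrix.SpecialLinearGroup (Fin 2) F)) : Set (Matrix.SpecialLinearGroup (Fin 2) F)) =
      (Q : Subgroup (Matrix.SpecialLinearGroup (Fin 2) F)) ∨
    (Nat.card (Q : Subgroup (Matrix.SpecialLinearGroup (Fin 2) F)) = 8 ∧
      Nat.card (Subgroup.normalizer ((Q : Subgroup (Matrix.SpecialLinearGroup (Fin 2) F)) : Set (Matrix.SpecialLinearGroup (Fin 2) F))) = 24 ∧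
      ∀ x ∈ (Q : Subgroup (Matrix.SpecialLinearGroup (Fin 2) F)),
        x ∈ (C : Subgroup (Matrix.SpecialLinearGroup (Fin 2) F)) → x ∈ Subgroup.zpowers w)
  cent : Subgroup.centralizer ((Q : Subgroup (Matrix.SpecialLinearGroup (Fin 2) F)) : Set (Matrix.SpecialLinearGroup (Fin 2) F)) =
    Subgroup.center (Matrix.SpecialLinearGroup (Fin 2) F)

theorem exists_data [Fintype F] (hodd : Odd (Fintype.card F)) : Nonempty (Data F) := by
  classical
  have h2 := SL2BorelTorus.two_ne_zero_of_odd_card hodd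
  obtain ⟨j, hj⟩ := exists_anti (F := F) h2
  obtain ⟨Q, hle, hnle, a, ha, hcard, hinf, hbig, hsmall⟩ := exists_sylow_le_D (F := F) hodd
  obtain ⟨y, hyS, hyC⟩ := SetLike.not_le_iff_exists.1 hnle
  have hya : Anti y := (mem_D_iff_C_or_anti hj (hle hyS)).resolve_left hyC
  have hneg : (negOne : SL2) ∈ (Q : Subgroup SL2) := (mul_self_eq_negOne_iff y).2 hya.1 ▸ mul_mem hyS hyS
  have hw : (w : SL2) ∈ (Q : Subgroup SL2) := by
    haveI := isCyclic_C (F := F) h2
    haveI : IsCyclic ((Q : Subgroup SL2) ⊓ (C : Subgroup SL2) : Subgroup SL2) :=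
      isCyclic_of_injective (Subgroup.inclusion inf_le_right) (Subgroup.inclusion_injective inf_le_right)
    obtain ⟨z, hz⟩ := IsCyclic.exists_ofOrder_eq_natCard (α := ((Q : Subgroup SL2) ⊓ (C : Subgroup SL2) : Subgroup SL2))
    rw [hinf] at hz
    have h4 : orderOf ((z : SL2) ^ (2 ^ (a - 2))) = 4 := by
      rw [orderOf_pow, Subgroup.orderOf_coe, hz, Nat.gcd_eq_right (pow_dvd_pow 2 (by omega)),
        Nat.pow_div (by omega) two_pos, show a - (a - 2) = 2 by omega]
      norm_num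
    set t := (z : SL2) ^ (2 ^ (a - 2)) with ht
    have ht4 : t * t * (t * t) = 1 := by
      have h := pow_orderOf_eq_one t
      rw [h4] at h
      rw [← h]; simp [pow_succ, mul_assoc]
    rcases eq_or_eq_negOne_of_mul_self h2 ht4 with h | h
    · have := orderOf_dvd_of_pow_eq_one (show t ^ 2 = 1 by rw [pow_two, h])
      rw [h4] at this
      norm_num at this
    have htC : t ∈ ((Q : Subgroup SL2) ⊓ (C : Subgroup SL2) : Subgroup SL2) := pow_mem z.2 _
    rcases eq_pm_of_sq_negOne h2 htC.2 ((mul_self_eq_negOne_iff t).1 h) with e | e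
    · exact e ▸ htC.1
    · rw [show (w : SL2) = negOne * t by rw [e, ← mul_assoc, negOne_mul_self, one_mul]]
      exact mul_mem hneg htC.1
  refine ⟨⟨Q, hw, y, hyS, hya, fun x hx => mem_D_iff_C_or_anti hj (hle hx), ?_, (two_sylow hodd Q).1⟩⟩
  rcases (show (Fintype.card F % 8 = 1 ∨ Fintype.card F % 8 = 7) ∨ (Fintype.card F % 8 = 3 ∨ Fintype.card F % 8 = 5) by
    have := Nat.odd_iff.1 hodd; omega) with h | h
  · exact Or.inl (normalizer_two_large hodd Q hle hnle (hbig h) hinf)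
  · have ha2 := hsmall h
    subst ha2
    refine Or.inr ⟨hcard, (normalizer_two_small hodd Q hle hnle hcard hinf).trans (by rw [hcard]; norm_num), fun x hx hxC => ?_⟩
    have heq : Subgroup.zpowers (w : SL2) = (Q : Subgroup SL2) ⊓ (C : Subgroup SL2) := by
      refine Subgroup.eq_of_le_of_card_ge (Subgroup.zpowers_le.2 ⟨hw, w_mem_C⟩) ?_
      rw [hinf, Nat.card_zpowers]
      refine (orderOf_eq_prime_pow (p := 2) (n := 1) ?_ ?_).ge
      · rw [pow_one, pow_two, w_mul_self]; exact negOne_ne_one h2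
      · rw [show 2 ^ (1 + 1) = 2 * 2 from rfl, pow_mul, pow_two (w : SL2), w_mul_self, pow_two, negOne_mul_self]
    rw [heq]; exact ⟨hx, hxC⟩

namespace Data

variable (δ : Data F)

local notation "QQ" => ((δ.Q : Sylow 2 SL2) : Subgroup SL2)

theorem negOne_mem : (negOne : SL2) ∈ QQ := w_mul_self (F := F) ▸ mul_mem δ.w_mem δ.w_mem

/-- Every element of `Q` is a product of two elements of trace zero in `Q`. -/
theorem exists_mul_trace_zero (x : SL2) (hx : x ∈ QQ) :
    ∃ a ∈ QQ, ∃ b ∈ QQ, a.1.trace = 0 ∧ b.1.trace = 0 ∧ x = a * b := by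
  rcases δ.dich x hx with h | h
  · refine ⟨negOne * δ.y, mul_mem δ.negOne_mem δ.y_mem, δ.y * x, mul_mem δ.y_mem hx, ?_, (δ.y_anti.mul_C h).1, ?_⟩
    · rw [trace_negOne_mul, δ.y_anti.1, neg_zero]
    · rw [mul_assoc, ← mul_assoc δ.y, (mul_self_eq_negOne_iff _).2 δ.y_anti.1, ← mul_assoc, negOne_mul_self, one_mul]
  · refine ⟨x * w, mul_mem hx δ.w_mem, negOne * w, mul_mem δ.negOne_mem δ.w_mem, (h.mul_C w_mem_C).1, ?_, ?_⟩
    · rw [trace_negOne_mul, trace_w, neg_zero]
    · rw [mul_assoc, ← mul_assoc w negOne, ← negOne_comm w, mul_assoc negOne, w_mul_self, negOne_mul_self, mul_one]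

/-- The preimage of the Sylow 2-subgroup. -/
def W : Subgroup Sp4 where
  carrier := {g | ∃ x : Dom F 2, (∀ i, x.1 i ∈ QQ) ∧ emb x = g}
  one_mem' := ⟨(1, 1), fun _ => one_mem _, emb_one⟩
  mul_mem' := by
    rintro _ _ ⟨x, hx, rfl⟩ ⟨y, hy, rfl⟩
    exact ⟨dmul x y, fun i => mul_mem (hx i) (hy _), (emb_mul x y).symm⟩
  inv_mem' := by
    rintro _ ⟨x, hx, rfl⟩
    refine ⟨(fun i => (x.1 (x.2 i))⁻¹, x.2⁻¹), fun i => inv_mem (hx _), (inv_eq_of_mul_eq_one_right ?_).symm⟩
    rw [emb_mul, ← emb_one]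
    congr 1
    exact Prod.ext (funext fun i => by simp [dmul]) (mul_inv_cancel x.2)

theorem emb_mem_iff (x : Dom F 2) : emb x ∈ δ.W ↔ ∀ i, x.1 i ∈ QQ :=
  ⟨fun ⟨y, hy, he⟩ => emb_injective he ▸ hy, fun h => ⟨x, h, rfl⟩⟩

theorem dg_mem_iff (a b : SL2) : dg (a, b) ∈ δ.W ↔ a ∈ QQ ∧ b ∈ QQ := by
  rw [dg_apply, emb_mem_iff, Fin.forall_fin_two]
  rfl

theorem sg_mem : (sg : Sp4) ∈ δ.W := (δ.emb_mem_iff _).2 fun _ => one_mem _

theorem emb_perm_mem (e : Equiv.Perm (Fin 2)) : emb (F := F) (1, e) ∈ δ.W := (δ.emb_mem_iff _).2 fun _ => one_mem _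

theorem neg4_mem : (neg4 : Sp4) ∈ δ.W := (δ.dg_mem_iff _ _).2 ⟨δ.negOne_mem, δ.negOne_mem⟩

theorem dd_mem : (dd : Sp4) ∈ δ.W := (δ.dg_mem_iff _ _).2 ⟨one_mem _, δ.negOne_mem⟩

theorem center_le (h2 : (2 : F) ≠ 0) : Subgroup.center Sp4 ≤ δ.W := fun z hz => by
  rcases center_eq h2 hz with rfl | rfl
  · exact one_mem _
  · exact δ.neg4_mem

theorem dd_sign {g : Sp4} (hg : g ∈ δ.W) : g * dd = dd * g ∨ g * dd = neg4 * (dd * g) := by
  obtain ⟨x, -, rfl⟩ := hg
  rcases emb_one_left (F := F) x.2 with h | h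
  · refine Or.inl ?_
    rw [emb_eq, h, mul_one, dd, ← map_mul, ← map_mul]
    exact congrArg dg (Prod.ext (by simp) (negOne_comm _).symm)
  · refine Or.inr ?_
    rw [emb_eq, h, mul_assoc, dd, sg_dg, ← mul_assoc, ← mul_assoc, ← mul_assoc, neg4, ← map_mul, ← map_mul, ← map_mul]
    refine congrArg (fun k => dg k * sg) (Prod.ext ?_ ?_)
    · simp [negOne_comm]
    · simp [negOne_mul_self]

theorem card_W [Finite F] : Nat.card δ.W = Nat.card QQ ^ 2 * 2 := by
  let e : (Fin 2 → QQ) × Equiv.Perm (Fin 2) → δ.W := fun x =>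
    ⟨emb (fun i => (x.1 i : SL2), x.2), (δ.emb_mem_iff _).2 fun i => (x.1 i).2⟩
  have he : Function.Bijective e := by
    refine ⟨fun x y h => ?_, ?_⟩
    · have h' := emb_injective (congrArg Subtype.val h : emb _ = emb _)
      simp only [Prod.mk.injEq] at h'
      exact Prod.ext (funext fun i => Subtype.ext (congrFun h'.1 i)) h'.2
    · rintro ⟨_, x, hx, rfl⟩
      exact ⟨(fun i => ⟨x.1 i, hx i⟩, x.2), rfl⟩
  rw [← Nat.card_eq_of_bijective e he, Nat.card_prod, Nat.card_fun, Nat.card_perm, Nat.card_fin]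
  rfl

theorem card_W_eq [Fintype F] (hodd : Odd (Fintype.card F)) :
    Nat.card δ.W = 2 ^ (Nat.card Sp4).factorization 2 := by
  rw [Nat.factorization_def _ Nat.prime_two, ← val_eq (F := F) (n := 2) hodd, card_W, card_wreath,
    ← TwoByTwo.card_sl_two, δ.Q.card_eq_multiplicity, Nat.factorization_def _ Nat.prime_two,
    padicValNat.mul (pow_ne_zero _ Nat.card_pos.ne') (Nat.factorial_ne_zero _), padicValNat.pow _ _]
  simp [pow_mul', pow_add]

/-! #### The quaternion case -/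

/-- Commuting or anticommuting. -/
def Sgn (i a : SL2) : Prop := i * a = a * i ∨ i * a = negOne * (a * i)

/-- `Q ∩ C = ⟨w⟩`. -/
def IsSmall : Prop := ∀ x ∈ QQ, x ∈ (C : Subgroup SL2) → x ∈ Subgroup.zpowers (w : SL2)

variable (hq : δ.IsSmall)

include hq

theorem inv_eq (c : SL2) (hc : c ∈ QQ) (hcC : c ∈ (C : Subgroup SL2)) : c⁻¹ = c ∨ c⁻¹ = negOne * c := by
  obtain ⟨n, rfl⟩ := Subgroup.mem_zpowers_iff.1 (hq c hc hcC)
  rcases Int.even_or_odd n with ⟨m, rfl⟩ | ⟨m, rfl⟩
  · left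
    refine inv_eq_of_mul_eq_one_right ?_
    rw [← _root_.zpow_add, show m + m + (m + m) = 4 * m by ring, _root_.zpow_mul, zpow_ofNat,
      show (4 : ℕ) = 2 * 2 from rfl, pow_mul, pow_two (w : SL2), w_mul_self, pow_two, negOne_mul_self, _root_.one_zpow]
  · right
    refine inv_eq_of_mul_eq_one_right ?_
    rw [← mul_assoc, ← negOne_comm, mul_assoc, ← _root_.zpow_add, show 2 * m + 1 + (2 * m + 1) = 4 * m + 2 by ring,
      _root_.zpow_add, _root_.zpow_mul, zpow_ofNat, zpow_ofNat, show (4 : ℕ) = 2 * 2 from rfl, pow_mul, pow_two (w : SL2),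
      w_mul_self, pow_two, negOne_mul_self, _root_.one_zpow, one_mul, negOne_mul_self]

omit hq in
theorem sgn_w (a : SL2) (ha : a ∈ QQ) : Sgn w a := by
  rcases δ.dich a ha with h | h
  · exact Or.inl (mem_C.1 h).symm
  · refine Or.inr ?_
    rw [h.2, ← mul_assoc, negOne_mul_self, one_mul]

theorem sgn_y (a : SL2) (ha : a ∈ QQ) : Sgn δ.y a := by
  have key : ∀ c ∈ QQ, c ∈ (C : Subgroup SL2) → δ.y * c = c * δ.y ∨ δ.y * c = negOne * (c * δ.y) := by
    intro c hc hcC
    have e := mul_inv_eq_iff_eq_mul.1 (δ.y_anti.conj_C hcC)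
    rcases δ.inv_eq hq c hc hcC with h | h
    · exact Or.inl (by rw [e, h])
    · exact Or.inr (by rw [e, h, mul_assoc])
  rcases δ.dich a ha with h | h
  · exact key a ha h
  · obtain ⟨c, hc, hcC, rfl⟩ : ∃ c ∈ QQ, c ∈ (C : Subgroup SL2) ∧ a = δ.y * c :=
      ⟨δ.y⁻¹ * a, mul_mem (inv_mem δ.y_mem) ha, δ.y_anti.mem_C_of h, (mul_inv_cancel_left _ _).symm⟩
    rcases key c hc hcC with e | e
    · exact Or.inl (by rw [mul_assoc, ← e])
    · refine Or.inr ?_
      calc δ.y * (δ.y * c) = δ.y * (negOne * (c * δ.y)) := by rw [e]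
        _ = negOne * (δ.y * c * δ.y) := by rw [← mul_assoc, ← negOne_comm, mul_assoc, mul_assoc]

theorem inv_eq' (a : SL2) (ha : a ∈ QQ) : a⁻¹ = a ∨ a⁻¹ = negOne * a := by
  rcases δ.dich a ha with h | h
  · exact δ.inv_eq hq a ha h
  · exact Or.inr (inv_eq_of_trace a h.1)

omit hq in
theorem gen : ∀ a ∈ QQ, δ.IsSmall →
    a ∈ Subgroup.closure {(w : SL2), δ.y} := by
  intro a ha hq
  have hzle : Subgroup.zpowers (w : SL2) ≤ Subgroup.closure {(w : SL2), δ.y} :=
    Subgroup.zpowers_le.2 (Subgroup.subset_closure (Or.inl rfl))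
  rcases δ.dich a ha with h | h
  · exact hzle (hq a ha h)
  · have h1 := hzle (hq _ (mul_mem (inv_mem δ.y_mem) ha) (δ.y_anti.mem_C_of h))
    have := mul_mem (Subgroup.subset_closure (k := {(w : SL2), δ.y}) (Or.inr rfl)) h1
    rwa [mul_inv_cancel_left] at this

omit hq in
/-- The elementary abelian subgroup of order 16, as a subgroup of `Sp(4, F)`. -/
def E : Subgroup Sp4 := Subgroup.closure ((fun a => dg (a, a)) '' (QQ : Set SL2) ∪ {rho, sg})

omit hq in
theorem diag_mem_E {a : SL2} (ha : a ∈ QQ) : dg (a, a) ∈ δ.E :=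
  Subgroup.subset_closure (Or.inl ⟨a, ha, rfl⟩)

omit hq in
theorem rho_mem_E : (rho : Sp4) ∈ δ.E := Subgroup.subset_closure (Or.inr (Or.inl rfl))

omit hq in
theorem sg_mem_E : (sg : Sp4) ∈ δ.E := Subgroup.subset_closure (Or.inr (Or.inr rfl))

omit hq in
theorem dd_mem_E : (dd : Sp4) ∈ δ.E := by
  have := mul_mem δ.rho_mem_E δ.sg_mem_E
  rwa [rho, mul_assoc, sg_mul_sg, mul_one] at this

omit hq in
theorem neg4_mem_E : (neg4 : Sp4) ∈ δ.E := δ.diag_mem_E δ.negOne_mem

omit hq in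
theorem E_le : δ.E ≤ δ.W := by
  refine (Subgroup.closure_le _).2 ?_
  rintro _ (⟨a, ha, rfl⟩ | rfl | rfl)
  · exact (δ.dg_mem_iff a a).2 ⟨ha, ha⟩
  · exact mul_mem δ.dd_mem δ.sg_mem
  · exact δ.sg_mem

omit hq in
theorem mem_normalizer_E [Finite F] {g : Sp4} (hd : ∀ a ∈ QQ, g * dg (a, a) * g⁻¹ ∈ δ.E)
    (hr : g * rho * g⁻¹ ∈ δ.E) (hs : g * sg * g⁻¹ ∈ δ.E) : g ∈ Subgroup.normalizer (δ.E : Set Sp4) := by
  have hsub : δ.E.map (MulAut.conj g).toMonoidHom ≤ δ.E := by
    refine Subgroup.map_le_iff_le_comap.2 ((Subgroup.closure_le _).2 ?_)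
    rintro _ (⟨a, ha, rfl⟩ | rfl | rfl)
    exacts [hd a ha, hr, hs]
  exact FourGroup.mem_normalizer_of_map (Subgroup.eq_of_le_of_card_ge hsub
    (by rw [Subgroup.card_map_of_injective (MulAut.conj g).injective]))

theorem sgn_all (a b : SL2) (ha : a ∈ QQ) (hb : b ∈ QQ) : Sgn b a := by
  have key : ∀ c ∈ Subgroup.closure {(w : SL2), δ.y}, Sgn c a := by
    intro c hc
    induction hc using Subgroup.closure_induction with
    | mem c hc =>
      rcases hc with rfl | rfl
      · exact δ.sgn_w a ha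
      · exact δ.sgn_y hq a ha
    | one => exact Or.inl (by simp)
    | mul c d _ _ hc hd =>
      rcases hc with h | h <;> rcases hd with h' | h'
      · exact Or.inl (by rw [mul_assoc, h', ← mul_assoc, h, mul_assoc])
      · refine Or.inr ?_
        rw [mul_assoc, h', ← mul_assoc c negOne, ← negOne_comm c, mul_assoc negOne, ← mul_assoc c, h, mul_assoc a]
      · refine Or.inr ?_
        rw [mul_assoc, h', ← mul_assoc, h, mul_assoc, mul_assoc]
      · refine Or.inl ?_
        rw [mul_assoc, h', ← mul_assoc c negOne, ← negOne_comm c, mul_assoc negOne, ← mul_assoc c, h,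
          ← mul_assoc negOne, ← mul_assoc negOne, negOne_mul_self, one_mul, mul_assoc]
    | inv c _ hc =>
      rcases hc with h | h
      · exact Or.inl ((show Commute c a from h).inv_left.eq)
      · refine Or.inr ?_
        have h' : a * c⁻¹ = negOne * (c⁻¹ * a) :=
          calc a * c⁻¹ = c⁻¹ * (c * a) * c⁻¹ := by group
            _ = c⁻¹ * negOne * a := by rw [h]; group
            _ = negOne * (c⁻¹ * a) := by rw [← negOne_comm, mul_assoc]
        rw [h', ← mul_assoc negOne, negOne_mul_self, one_mul]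
  exact key b (δ.gen b hb hq)

omit hq in
theorem negOne_one_mem_E : dg ((negOne : SL2), 1) ∈ δ.E := by
  have h := mul_mem δ.dd_mem_E δ.neg4_mem_E
  rwa [dd, neg4, ← map_mul, Prod.mk_mul_mk, one_mul, negOne_mul_self] at h

theorem W_le_normalizer_E [Finite F] : δ.W ≤ Subgroup.normalizer (δ.E : Set Sp4) := by
  have hone : ∀ b ∈ QQ, dg (b, 1) ∈ Subgroup.normalizer (δ.E : Set Sp4) := by
    intro b hb
    have hsg : dg (b, b⁻¹) ∈ δ.E := by
      rcases δ.inv_eq' hq b hb with h | h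
      · rw [h]; exact δ.diag_mem_E hb
      · rw [h]
        have := mul_mem δ.dd_mem_E (δ.diag_mem_E hb)
        rwa [dd, ← map_mul, Prod.mk_mul_mk, one_mul] at this
    have e : ∀ g : Sp4, dg (b, 1) * (g * sg) * (dg (b, 1))⁻¹ = dg (b, 1) * g * dg (1, b⁻¹) * sg := by
      intro g
      rw [← map_inv, Prod.inv_mk, inv_one, mul_assoc, mul_assoc g, sg_dg]
      simp only [mul_assoc]
    refine δ.mem_normalizer_E (fun a ha => ?_) ?_ ?_
    · rw [← map_mul, ← map_inv, ← map_mul]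
      simp only [Prod.mk_mul_mk, Prod.inv_mk, inv_one, one_mul, mul_one]
      rcases δ.sgn_all hq a b ha hb with h | h
      · rw [h, mul_inv_cancel_right]; exact δ.diag_mem_E ha
      · rw [h, ← mul_assoc negOne, mul_inv_cancel_right]
        have := mul_mem δ.negOne_one_mem_E (δ.diag_mem_E ha)
        rwa [← map_mul, Prod.mk_mul_mk, one_mul] at this
    · rw [rho, e, dd, ← map_mul, ← map_mul, Prod.mk_mul_mk, Prod.mk_mul_mk, mul_one, mul_one, one_mul]
      refine mul_mem ?_ δ.sg_mem_E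
      have := mul_mem δ.dd_mem_E hsg
      rwa [dd, ← map_mul, Prod.mk_mul_mk, one_mul] at this
    · rw [← one_mul sg, e, mul_one, ← map_mul, Prod.mk_mul_mk, mul_one, one_mul]
      exact mul_mem hsg δ.sg_mem_E
  rintro _ ⟨x, hx, rfl⟩
  rw [emb_eq, show ((x.1 0, x.1 1) : SL2 × SL2) = (x.1 1, x.1 1) * ((x.1 1)⁻¹ * x.1 0, 1) by simp, map_mul]
  refine mul_mem (mul_mem (Subgroup.le_normalizer (δ.diag_mem_E (hx 1))) (hone _ (mul_mem (inv_mem (hx 1)) (hx 0)))) ?_
  rcases emb_one_left (F := F) x.2 with h | h <;> rw [h]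
  · exact one_mem _
  · exact Subgroup.le_normalizer δ.sg_mem_E

end Data

/-! ### The product of two elements of order four -/

theorem sq_coe {X : Sp4} (h : X * X = neg4) : X.1 * X.1 = -1 :=
  (congrArg Subtype.val h).trans neg4_coe

theorem neg4_sq : (neg4 : Sp4) * neg4 = 1 := by
  rw [neg4, ← map_mul, Prod.mk_mul_mk, negOne_mul_self, Prod.mk_one_one, map_one]

theorem rho_inv_sq : (rho : Sp4)⁻¹ * rho⁻¹ = neg4 := by
  rw [← _root_.mul_inv_rev, rho_sq, inv_eq_of_mul_eq_one_right neg4_sq]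

theorem rho_inv_coe : ((rho : Sp4)⁻¹).1 = -(rho : Sp4).1 := by
  have h : (rho : Sp4)⁻¹ = neg4 * rho := inv_eq_of_mul_eq_one_right (by
    rw [← mul_assoc, ← neg4_comm, mul_assoc, rho_sq, neg4_sq])
  rw [h]
  show (neg4 : Sp4).1 * (rho : Sp4).1 = _
  rw [neg4_coe, neg_one_mul]

/-- The matrix `M ⊗ 1`. -/
def dl (M : Matrix (Fin 2) (Fin 2) F) : M4 := fromBlocks (M 0 0 • 1) (M 0 1 • 1) (M 1 0 • 1) (M 1 1 • 1)

theorem dg_coe (a : SL2) : (dg (a, a) : Sp4).1 = dl a.1 := toMat_diag a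

theorem dl_mul (M N : Matrix (Fin 2) (Fin 2) F) : dl (M * N) = dl M * dl N := by
  unfold dl
  rw [fromBlocks_multiply]
  congr 1 <;> simp [Matrix.mul_apply, Fin.sum_univ_two, smul_smul, ← add_smul, mul_comm]

theorem dl_one_add (M : Matrix (Fin 2) (Fin 2) F) : dl (1 + M) = 1 + dl M := by
  unfold dl
  rw [← fromBlocks_one, fromBlocks_add]
  congr 1 <;> simp [add_smul]

theorem dl_smul (c : F) (M : Matrix (Fin 2) (Fin 2) F) : dl (c • M) = c • dl M := by
  unfold dl
  rw [fromBlocks_smul]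
  congr 1 <;> simp [smul_smul]

theorem det_one_add (a : SL2) (ha : a.1.trace = 0) : (1 + a.1).det = 2 := by
  have hd := a.2
  rw [Matrix.trace_fin_two] at ha
  rw [Matrix.det_fin_two] at hd ⊢
  simp
  linear_combination hd + ha

theorem exists_omega (h2 : (2 : F) ≠ 0) {y : SL2} (hy : Anti y) :
    ∃ ω : SL2, ω.1 = (2⁻¹ : F) • ((1 + (w : SL2).1) * (1 + y.1)) ∧ ω * w = y * ω ∧ ω * y = w * y * ω := by
  obtain ⟨h11, h01⟩ := hy.entries
  have hdet := y.2
  rw [Matrix.det_fin_two, h11, h01] at hdet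
  refine ⟨⟨(2⁻¹ : F) • ((1 + (w : SL2).1) * (1 + y.1)), ?_⟩, rfl, ?_, ?_⟩
  · rw [Matrix.det_smul, Matrix.det_mul, det_one_add _ trace_w, det_one_add _ hy.1, Fintype.card_fin]
    field_simp
  all_goals apply Subtype.ext
  · show (2⁻¹ : F) • ((1 + (w : SL2).1) * (1 + y.1)) * (w : SL2).1 = y.1 * ((2⁻¹ : F) • ((1 + (w : SL2).1) * (1 + y.1)))
    rw [Matrix.eta_fin_two y.1, h11, h01]
    ext a b
    fin_cases a <;> fin_cases b <;> simp [w, Matrix.mul_apply, Matrix.vecMul, dotProduct, Fin.sum_univ_two] <;>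
      field_simp <;> grind
  · show (2⁻¹ : F) • ((1 + (w : SL2).1) * (1 + y.1)) * y.1 =
      (w : SL2).1 * y.1 * ((2⁻¹ : F) • ((1 + (w : SL2).1) * (1 + y.1)))
    rw [Matrix.eta_fin_two y.1, h11, h01]
    ext a b
    fin_cases a <;> fin_cases b <;> simp [w, Matrix.mul_apply, Matrix.vecMul, dotProduct, Fin.sum_univ_two] <;>
      field_simp <;> grind

namespace Data

variable (δ : Data F) (hq : δ.IsSmall)

local notation "QQ" => ((δ.Q : Sylow 2 SL2) : Subgroup SL2)

/-- Commuting or anticommuting. -/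
def Sgn4 (g h : Sp4) : Prop := g * h = h * g ∨ g * h = neg4 * (h * g)

theorem sgn4_symm {g h : Sp4} (hgh : Sgn4 g h) : Sgn4 h g := by
  rcases hgh with e | e
  · exact Or.inl e.symm
  · exact Or.inr (by rw [e, ← mul_assoc, neg4_sq, one_mul])

theorem sgn4_closure {k : Set Sp4} {h : Sp4} (hk : ∀ g ∈ k, Sgn4 g h) :
    ∀ g ∈ Subgroup.closure k, Sgn4 g h := by
  intro g hg
  induction hg using Subgroup.closure_induction with
  | mem c hc => exact hk c hc
  | one => exact Or.inl (by simp)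
  | mul c d _ _ hc hd =>
    rcases hc with e | e <;> rcases hd with e' | e'
    · exact Or.inl (by rw [mul_assoc, e', ← mul_assoc, e, mul_assoc])
    · refine Or.inr ?_
      rw [mul_assoc, e', ← mul_assoc c neg4, ← neg4_comm c, mul_assoc neg4, ← mul_assoc c, e, mul_assoc h]
    · refine Or.inr ?_
      rw [mul_assoc, e', ← mul_assoc, e, mul_assoc, mul_assoc]
    · refine Or.inl ?_
      rw [mul_assoc, e', ← mul_assoc c neg4, ← neg4_comm c, mul_assoc neg4, ← mul_assoc c, e,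
        ← mul_assoc neg4, ← mul_assoc neg4, neg4_sq, one_mul, mul_assoc]
  | inv c _ hc =>
    rcases hc with e | e
    · exact Or.inl (show Commute c h from e).inv_left.eq
    · refine Or.inr ?_
      have h' : h * c⁻¹ = neg4 * (c⁻¹ * h) :=
        calc h * c⁻¹ = c⁻¹ * (c * h) * c⁻¹ := by group
          _ = c⁻¹ * neg4 * h := by rw [e]; group
          _ = neg4 * (c⁻¹ * h) := by rw [← neg4_comm, mul_assoc]
      rw [h', ← mul_assoc neg4, neg4_sq, one_mul]

include hq

theorem sgn4_E : ∀ g ∈ δ.E, ∀ h ∈ δ.E, Sgn4 g h := by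
  intro g hg h hh
  revert g
  refine fun g hg => sgn4_closure (fun a ha => sgn4_symm (sgn4_closure (fun b hb => ?_) h hh)) g hg
  rcases ha with ⟨a, ha, rfl⟩ | rfl | rfl <;> rcases hb with ⟨b, hb, rfl⟩ | rfl | rfl
  · rcases δ.sgn_all hq a b ha hb with e | e
    · exact Or.inl (by rw [← map_mul, ← map_mul, Prod.mk_mul_mk, Prod.mk_mul_mk, e])
    · exact Or.inr (by rw [neg4, ← map_mul, ← map_mul, ← map_mul, Prod.mk_mul_mk, Prod.mk_mul_mk, Prod.mk_mul_mk, e])
  · exact Or.inl (rho_comm_diag a)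
  · exact Or.inl (sg_dg a a)
  · exact Or.inl (rho_comm_diag b).symm
  · exact Or.inl rfl
  · refine sgn4_symm (Or.inr ?_)
    rw [rho, mul_assoc, sg_mul_sg, mul_one, ← mul_assoc sg, dd, sg_dg, mul_assoc, sg_mul_sg, mul_one, neg4,
      ← map_mul, Prod.mk_mul_mk, negOne_mul_self, mul_one]
  · exact Or.inl (sg_dg b b).symm
  · refine Or.inr ?_
    rw [rho, mul_assoc, sg_mul_sg, mul_one, ← mul_assoc sg, dd, sg_dg, mul_assoc, sg_mul_sg, mul_one, neg4,
      ← map_mul, Prod.mk_mul_mk, negOne_mul_self, mul_one]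
  · exact Or.inl rfl

theorem half_normalizes [Finite F] (h2 : (2 : F) ≠ 0) {X Y : Sp4} (hX : X ∈ δ.E) (hY : Y ∈ δ.E)
    (hX2 : X * X = neg4) (hY2 : Y * Y = neg4) :
    half h2 X Y (sq_coe hX2) (sq_coe hY2) ∈ Subgroup.normalizer (δ.E : Set Sp4) := by
  have cross : ∀ Z ∈ δ.E, Z * Z = neg4 → ∀ A ∈ δ.E, ∃ B ∈ δ.E, (1 + Z.1) * A.1 = B.1 * (1 + Z.1) := by
    intro Z hZ hZ2 A hA
    rcases δ.sgn4_E hq Z hZ A hA with e | e
    · exact ⟨A, hA, cross_comm e⟩
    · exact ⟨_, mul_mem δ.neg4_mem_E (mul_mem hA hZ), cross_anti (sq_coe hZ2) e⟩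
  have key : ∀ A ∈ δ.E, half h2 X Y (sq_coe hX2) (sq_coe hY2) * A *
      (half h2 X Y (sq_coe hX2) (sq_coe hY2))⁻¹ ∈ δ.E := by
    intro A hA
    obtain ⟨A', hA', h1⟩ := cross Y hY hY2 A hA
    obtain ⟨B, hB, h3⟩ := cross X hX hX2 A' hA'
    rw [half_mul h2 (sq_coe hX2) (sq_coe hY2) h1 h3, mul_inv_cancel_right]
    exact hB
  exact δ.mem_normalizer_E (fun a ha => key _ (δ.diag_mem_E ha)) (key _ δ.rho_mem_E) (key _ δ.sg_mem_E)

omit hq in
theorem comm_diag_rho (a : SL2) : Commute (dg (a, a) : Sp4).1 (rho : Sp4).1 :=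
  (congrArg Subtype.val (rho_comm_diag a)).symm

/-- The elements `u`, `v` of order four with product `(ω, ω)`. -/
theorem exists_uv [Finite F] (h2 : (2 : F) ≠ 0) :
    ∃ ω : SL2, ω ∈ Subgroup.normalizer (QQ : Set SL2) ∧ ω ∉ QQ ∧ ∃ u v : Sp4,
      u * v = dg (ω, ω) ∧ u ^ 4 = 1 ∧ v ^ 4 = 1 ∧
      u ∈ Subgroup.normalizer (δ.E : Set Sp4) ∧ v ∈ Subgroup.normalizer (δ.E : Set Sp4) := by
  obtain ⟨ω, hω, hww, hwy⟩ := exists_omega h2 δ.y_anti
  have hI : dg ((w : SL2), w) * dg (w, w) = neg4 := by rw [← map_mul, Prod.mk_mul_mk, w_mul_self]; rfl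
  have hJ : dg (δ.y, δ.y) * dg (δ.y, δ.y) = neg4 := by
    rw [← map_mul, Prod.mk_mul_mk, (mul_self_eq_negOne_iff _).2 δ.y_anti.1]; rfl
  refine ⟨ω, ?_, ?_, half h2 (dg (w, w)) rho (sq_coe hI) (sq_coe rho_sq),
    half h2 rho⁻¹ (dg (δ.y, δ.y)) (sq_coe rho_inv_sq) (sq_coe hJ), Subtype.ext ?_,
    half_pow_four h2 _ _ (comm_diag_rho w), half_pow_four h2 _ _ ?_,
    δ.half_normalizes hq h2 (δ.diag_mem_E δ.w_mem) δ.rho_mem_E hI rho_sq,
    δ.half_normalizes hq h2 (inv_mem δ.rho_mem_E) (δ.diag_mem_E δ.y_mem) rho_inv_sq hJ⟩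
  · have hsub : (QQ).map (MulAut.conj ω).toMonoidHom ≤ QQ := by
      rintro _ ⟨a, ha, rfl⟩
      have hgen := δ.gen a ha hq
      clear ha
      induction hgen using Subgroup.closure_induction with
      | mem c hc =>
        rcases hc with rfl | rfl
        · show ω * w * ω⁻¹ ∈ QQ
          rw [hww, mul_inv_cancel_right]; exact δ.y_mem
        · show ω * δ.y * ω⁻¹ ∈ QQ
          rw [hwy, mul_inv_cancel_right]; exact mul_mem δ.w_mem δ.y_mem
      | one => simp
      | mul c d _ _ hc hd =>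
        rw [map_mul]; exact mul_mem hc hd
      | inv c _ hc => rw [map_inv]; exact inv_mem hc
    exact FourGroup.mem_normalizer_of_map (Subgroup.eq_of_le_of_card_ge hsub
      (by rw [Subgroup.card_map_of_injective (MulAut.conj ω).injective]))
  · intro hω'
    have hyC : δ.y ∈ (C : Subgroup SL2) := by
      rcases δ.sgn_w ω hω' with e | e
      · have : δ.y = w := mul_right_cancel (hww.symm.trans e.symm)
        rw [this]; exact w_mem_C
      · have : negOne * δ.y = w := by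
          refine mul_right_cancel (b := ω) ?_
          rw [e, hww, mul_assoc]
        rw [show δ.y = negOne * w by rw [← this, ← mul_assoc, negOne_mul_self, one_mul]]
        exact mul_mem negOne_mem_C w_mem_C
    exact negOne_mul_ne h2 _ (δ.y_anti.2.symm.trans (mem_C.1 hyC))
  · show ((2⁻¹ : F) • ((1 + (dg ((w : SL2), w) : Sp4).1) * (1 + (rho : Sp4).1))) *
      ((2⁻¹ : F) • ((1 + ((rho : Sp4)⁻¹).1) * (1 + (dg (δ.y, δ.y) : Sp4).1))) = (dg (ω, ω) : Sp4).1
    rw [rho_inv_coe, dg_coe, dg_coe, dg_coe, hω, dl_smul, dl_mul, dl_one_add, dl_one_add, Matrix.smul_mul,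
      Matrix.mul_smul, smul_smul, Matrix.mul_assoc, ← Matrix.mul_assoc (1 + (rho : Sp4).1)]
    have e : (1 + (rho : Sp4).1) * (1 + -(rho : Sp4).1) = (2 : F) • 1 := by
      rw [Matrix.mul_add, Matrix.mul_one, Matrix.mul_neg, Matrix.add_mul, Matrix.one_mul, sq_coe rho_sq, two_smul]
      abel
    rw [e, Matrix.smul_mul, Matrix.one_mul, Matrix.mul_smul, smul_smul,
      show (2⁻¹ : F) * 2⁻¹ * 2 = 2⁻¹ by field_simp]
  · rw [rho_inv_coe]
    exact ((comm_diag_rho δ.y).symm).neg_left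

end Data

/-! ### Simplicity -/

/-- Preimages of equal elements differ by a sign. -/
theorem sign_of_eq {G : Type*} [Group G] (h2 : (2 : F) ≠ 0) (f : Sp4 →* G) (hker : f.ker = Subgroup.center Sp4)
    {a b : Sp4} (h : f a = f b) : a = b ∨ a = neg4 * b := by
  have h1 : a * b⁻¹ ∈ Subgroup.center Sp4 := by
    rw [← hker, MonoidHom.mem_ker, map_mul, map_inv, h, mul_inv_cancel]
  rcases center_eq h2 h1 with e | e
  · exact Or.inl (mul_inv_eq_one.1 e)
  · exact Or.inr (mul_inv_eq_iff_eq_mul.1 e)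

theorem mem_of_map_mem {G : Type*} [Group G] (h2 : (2 : F) ≠ 0) (f : Sp4 →* G)
    (hker : f.ker = Subgroup.center Sp4) (δ : Data F) {a : Sp4} (h : f a ∈ δ.W.map f) : a ∈ δ.W := by
  obtain ⟨b, hb, he⟩ := h
  rcases sign_of_eq h2 f hker he.symm with e | e
  · exact e ▸ hb
  · exact e ▸ mul_mem δ.neg4_mem hb

/-- A central element of the Sylow subgroup is `1` or the central involution. -/
theorem central_W (h2 : (2 : F) ≠ 0) (δ : Data F) {G : Type*} [Group G] (f : Sp4 →* G)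
    (hker : f.ker = Subgroup.center Sp4) {x : Sp4} (hx : x ∈ δ.W) (hc : ∀ g ∈ δ.W, f x * f g = f g * f x) :
    f x = 1 ∨ f x = f dd := by
  obtain ⟨⟨b, e⟩, hb, rfl⟩ := hx
  have hsign : ∀ g ∈ δ.W, emb (b, e) * g = g * emb (b, e) ∨ emb (b, e) * g = neg4 * (g * emb (b, e)) := fun g hg => by
    refine sign_of_eq h2 f hker ?_
    rw [map_mul, map_mul]; exact hc g hg
  have hf4 : f neg4 = 1 := by rw [← MonoidHom.mem_ker, hker]; exact neg4_mem_center
  have he : emb (b, e) = dg (b 0, b 1) := by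
    rcases emb_one_left (F := F) e with h | h
    · rw [emb_eq, h, mul_one]
    · exfalso
      rcases hsign (dg (w, 1)) ((δ.dg_mem_iff _ _).2 ⟨δ.w_mem, one_mem _⟩) with e' | e' <;> rw [emb_eq, h] at e'
      · exact not_swap h2 (k := 1) (Or.inl rfl) (ne_of_trace_zero h2 trace_w) (a := b 0) (b := b 1)
          (by rw [show ((1 : SL2), (1 : SL2)) = 1 from rfl, map_one, one_mul]; exact e')
      · exact not_swap h2 (k := negOne) (Or.inr rfl) (ne_of_trace_zero h2 trace_w) e'
  rw [he] at hsign ⊢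
  have hcen : ∀ i : Fin 2, b i ∈ Subgroup.center SL2 := by
    intro i
    rw [← δ.cent, Subgroup.mem_centralizer_iff]
    intro q hq
    fin_cases i
    · rcases hsign (dg (q, 1)) ((δ.dg_mem_iff _ _).2 ⟨hq, one_mem _⟩) with e' | e'
      · rw [← map_mul, ← map_mul] at e'
        exact (congrArg Prod.fst (dg_injective e')).symm
      · rw [neg4, ← map_mul, ← map_mul, ← map_mul] at e'
        have := congrArg Prod.snd (dg_injective e')
        simp only [Prod.snd_mul, one_mul, mul_one] at this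
        exact absurd this.symm (negOne_mul_ne h2 _)
    · rcases hsign (dg (1, q)) ((δ.dg_mem_iff _ _).2 ⟨one_mem _, hq⟩) with e' | e'
      · rw [← map_mul, ← map_mul] at e'
        exact (congrArg Prod.snd (dg_injective e')).symm
      · rw [neg4, ← map_mul, ← map_mul, ← map_mul] at e'
        have := congrArg Prod.fst (dg_injective e')
        simp only [Prod.fst_mul, one_mul, mul_one] at this
        exact absurd this.symm (negOne_mul_ne h2 _)
  rcases SL2Inv.mem_center_iff.1 (hcen 0) with h | h <;> rcases SL2Inv.mem_center_iff.1 (hcen 1) with h' | h'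
  · exact Or.inl (by rw [h, h', Prod.mk_one_one, map_one, map_one])
  · exact Or.inr (by rw [h, h']; rfl)
  · refine Or.inr ?_
    rw [h, h', show ((negOne : SL2), (1 : SL2)) = (1, negOne) * (negOne, negOne) by simp [negOne_mul_self],
      map_mul, map_mul]
    show f dd * f neg4 = _
    rw [hf4, mul_one]
  · exact Or.inl (by rw [h, h']; exact hf4)

theorem mem_of_mul_pair {G : Type*} [Group G] (f : Sp4 →* G) (T : Subgroup G) {a a' b b' : SL2}
    (h : f (dg (a, b)) ∈ T) (h' : f (dg (a', b')) ∈ T) : f (dg (a * a', b * b')) ∈ T := by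
  have := mul_mem h h'
  rwa [← map_mul, ← map_mul] at this

theorem exists_center_of_normal {H : Type*} [Group H] [Finite H] {p : ℕ} [hp : Fact p.Prime] (hH : IsPGroup p H)
    (N : Subgroup H) [N.Normal] [Nontrivial N] : ∃ y : H, y ∈ N ∧ y ∈ Subgroup.center H ∧ y ≠ 1 := by
  have h1 : (1 : N) ∈ MulAction.fixedPoints (ConjAct H) N := fun g => smul_one g
  have hd : p ∣ Nat.card N := by
    obtain ⟨k, hk0, hk⟩ := (hH.to_subgroup N).nontrivial_iff_card.1 inferInstance
    exact hk ▸ dvd_pow_self p hk0.ne'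
  obtain ⟨b, hb, hb1⟩ := (hH.of_equiv ConjAct.toConjAct).exists_fixed_point_of_prime_dvd_card_of_fixed_point N hd h1
  refine ⟨b, b.2, Subgroup.mem_center_iff.2 fun g => ?_, fun h => hb1 (Subtype.ext h).symm⟩
  have := congrArg Subtype.val (hb (ConjAct.toConjAct g))
  rw [ConjAct.Subgroup.val_conj_smul, ConjAct.toConjAct_smul] at this
  exact mul_inv_eq_iff_eq_mul.1 this

theorem isSimple_of_surjective [Fintype F] (hodd : Odd (Fintype.card F)) {G : Type*} [Group G] [Finite G]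
    (f : Sp4 →* G) (hker : f.ker = Subgroup.center Sp4) (hf : Function.Surjective f) (S : Sylow 2 G) (δ : Data F)
    (hS : (S : Subgroup G) = δ.W.map f) : (groupFusionSystem (S : Subgroup G)).IsSimple 2 := by
  classical
  have h2 := SL2BorelTorus.two_ne_zero_of_odd_card hodd
  have hf4 : f neg4 = 1 := by rw [← MonoidHom.mem_ker, hker]; exact neg4_mem_center
  have hfS : ∀ g ∈ δ.W, f g ∈ (S : Subgroup G) := fun g hg => hS ▸ ⟨g, hg, rfl⟩
  have hz1 : f dd ≠ 1 := by
    intro h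
    rcases sign_of_eq h2 f hker (h.trans (map_one f).symm) with e | e
    · exact negOne_ne_one h2 (congrArg Prod.snd (dg_injective (e.trans (map_one dg).symm)))
    · rw [mul_one, dd, neg4] at e
      exact negOne_ne_one h2 (congrArg Prod.fst (dg_injective e)).symm
  have hS1 : (S : Subgroup G) ≠ ⊥ := fun h => hz1 (by
    have := hfS dd δ.dd_mem
    rwa [h, Subgroup.mem_bot] at this)
  have hcent : ∀ y ∈ (S : Subgroup G), (∀ s ∈ (S : Subgroup G), y * s = s * y) → y = 1 ∨ y = f dd := by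
    intro y hy hc
    rw [hS] at hy
    obtain ⟨x, hx, rfl⟩ := hy
    exact central_W h2 δ f hker hx fun g hg => hc _ (hfS g hg)
  refine group_isSimple_of_generated S hS1 (fun T hT => ?_) ?_
  · -- strongly closed subgroups
    obtain ⟨hTS, hcl⟩ := (group_stronglyClosed_iff S).1 hT
    rcases eq_or_ne T ⊥ with h | hne
    · exact Or.inl h
    refine Or.inr (le_antisymm hTS ?_)
    have hzT : f dd ∈ T := by
      set N := T.subgroupOf (S : Subgroup G)
      haveI : N.Normal := ⟨fun n hn g => by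
        refine Subgroup.mem_subgroupOf.2 ?_
        exact hcl g n (Subgroup.mem_subgroupOf.1 hn) (g * n * g⁻¹).2⟩
      haveI : Nontrivial N := by
        rw [Subgroup.nontrivial_iff_ne_bot]
        intro h0
        refine hne ((Subgroup.eq_bot_iff_forall _).2 fun t ht => ?_)
        have h1 : (⟨t, hTS ht⟩ : (S : Subgroup G)) ∈ N := Subgroup.mem_subgroupOf.2 ht
        rw [h0, Subgroup.mem_bot] at h1
        exact congrArg Subtype.val h1
      obtain ⟨y, hyN, hyc, hy1⟩ := exists_center_of_normal S.2 N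
      rcases hcent y y.2 (fun s hs => congrArg Subtype.val (Subgroup.mem_center_iff.1 hyc ⟨s, hs⟩).symm) with h | h
      · exact absurd (Subtype.ext h) hy1
      · exact h ▸ Subgroup.mem_subgroupOf.1 hyN
    obtain ⟨k, hk⟩ := exists_dd_conj_sg h2
    have hconj : ∀ g x : Sp4, f x ∈ T → g * x * g⁻¹ ∈ δ.W → f (g * x * g⁻¹) ∈ T := fun g x hx hW => by
      have := hcl (f g) _ hx (by rw [← map_inv, ← map_mul, ← map_mul]; exact hfS _ hW)
      rwa [← map_inv, ← map_mul, ← map_mul] at this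
    have hsgT : f sg ∈ T := hk ▸ hconj k dd hzT (hk ▸ δ.sg_mem)
    have hinv : ∀ a ∈ (δ.Q : Subgroup SL2), f (dg (a, a⁻¹)) ∈ T := by
      intro a ha
      have e : dg (a, 1) * sg * (dg (a, 1))⁻¹ = dg (a, a⁻¹) * sg := by
        rw [← map_inv, Prod.inv_mk, inv_one, mul_assoc, sg_dg, ← mul_assoc, ← map_mul, Prod.mk_mul_mk, mul_one, one_mul]
      have h1 := hconj (dg (a, 1)) sg hsgT (e ▸ mul_mem ((δ.dg_mem_iff _ _).2 ⟨ha, inv_mem ha⟩) δ.sg_mem)
      rw [e, map_mul] at h1
      exact (T.mul_mem_cancel_right hsgT).1 h1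
    have hpair : ∀ a ∈ (δ.Q : Subgroup SL2), ∀ b ∈ (δ.Q : Subgroup SL2), a.1.trace = 0 → b.1.trace = 0 →
        f (dg (a, b)) ∈ T := by
      intro a ha b hb hta htb
      obtain ⟨g, hg⟩ := SL2Inv.exists_conj h2 a hta
      obtain ⟨g', hg'⟩ := SL2Inv.exists_conj h2 b htb
      have htw : (w : SL2)⁻¹.1.trace = 0 := by
        rw [inv_eq_of_trace w trace_w, trace_negOne_mul, trace_w, neg_zero]
      obtain ⟨g'', hg''⟩ := SL2Inv.exists_conj h2 (w : SL2)⁻¹ htw
      have e : dg (g, g' * g''⁻¹) * dg (w, w⁻¹) * (dg (g, g' * g''⁻¹))⁻¹ = dg (a, b) := by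
        rw [← map_inv, ← map_mul, ← map_mul]
        refine congrArg dg (Prod.ext ?_ ?_)
        · show g * w * g⁻¹ = a
          rw [hg]
        · show g' * g''⁻¹ * w⁻¹ * (g' * g''⁻¹)⁻¹ = b
          rw [hg', hg'']; group
      exact e ▸ hconj _ _ (hinv w δ.w_mem) (e ▸ (δ.dg_mem_iff _ _).2 ⟨ha, hb⟩)
    have hneg : ∀ b : SL2, b.1.trace = 0 → (b⁻¹).1.trace = 0 := fun b hb => by
      rw [inv_eq_of_trace b hb, trace_negOne_mul, hb, neg_zero]
    intro y hy
    rw [hS] at hy
    obtain ⟨_, ⟨x, hx, rfl⟩, rfl⟩ := hy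
    rw [emb_eq, map_mul]
    refine mul_mem ?_ ?_
    · obtain ⟨a, ha, a', ha', hta, hta', e0⟩ := δ.exists_mul_trace_zero _ (hx 0)
      obtain ⟨b, hb, b', hb', htb, htb', e1⟩ := δ.exists_mul_trace_zero _ (hx 1)
      rw [e0, e1]
      exact mem_of_mul_pair f T (hpair a ha b hb hta htb) (hpair a' ha' b' hb' hta' htb')
    · rcases emb_one_left (F := F) x.2 with h | h <;> rw [h]
      · rw [map_one]; exact one_mem _
      · exact hsgT
  · -- the normalizer
    intro n hn
    set H := Subgroup.closure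
      {g : G | g ∈ Subgroup.normalizer ((S : Subgroup G) : Set G) ∧
        ((∀ x ∈ (S : Subgroup G), g * x * g⁻¹ = x) ∨ g ∈ (S : Subgroup G) ∨
          ∃ R : Subgroup G, (groupFusionSystem (S : Subgroup G)).IsFullyNormalized R ∧
            (groupFusionSystem (S : Subgroup G)).IsCentric R ∧
            g ∈ Subgroup.closure {g : G | g ∈ Subgroup.normalizer (R : Set G) ∧ ∃ k : ℕ, orderOf g = 2 ^ k})}
    have hSH : ∀ g ∈ δ.W, f g ∈ H := fun g hg =>
      Subgroup.subset_closure ⟨Subgroup.le_normalizer (hfS g hg), Or.inr (Or.inl (hfS g hg))⟩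
    obtain ⟨x, rfl⟩ := hf n
    have hnS : ∀ s ∈ δ.W, x * s * x⁻¹ ∈ δ.W := fun s hs => by
      refine mem_of_map_mem h2 f hker δ ?_
      rw [map_mul, map_mul, map_inv, ← hS]
      exact (Subgroup.mem_normalizer_iff.1 hn _).1 (hfS s hs)
    have hfix : f (x * dd * x⁻¹) = f dd := by
      have hc : ∀ s ∈ (S : Subgroup G), f (x * dd * x⁻¹) * s = s * f (x * dd * x⁻¹) := by
        intro s hs
        have hs' := (Subgroup.mem_normalizer_iff''.1 hn s).1 hs
        rw [hS] at hs'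
        obtain ⟨g, hg, hge⟩ := hs'
        have hcomm : f dd * f g = f g * f dd := by
          rcases δ.dd_sign hg with e | e
          · rw [← map_mul, ← map_mul, e]
          · rw [← map_mul f g, e, map_mul f neg4, hf4, one_mul, map_mul]
        have e : s = f x * f g * (f x)⁻¹ := by rw [hge]; group
        rw [map_mul, map_mul, map_inv, e]
        calc f x * f dd * (f x)⁻¹ * (f x * f g * (f x)⁻¹) = f x * (f dd * f g) * (f x)⁻¹ := by group
          _ = f x * f g * (f x)⁻¹ * (f x * f dd * (f x)⁻¹) := by rw [hcomm]; group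
      rcases hcent _ (hfS _ (hnS dd δ.dd_mem)) hc with h | h
      · rw [map_mul, map_mul, map_inv, conj_eq_one_iff] at h
        exact absurd h hz1
      · exact h
    obtain ⟨⟨b, e⟩, rfl⟩ := exists_emb_of_dd h2 x (by
      rcases sign_of_eq h2 f hker hfix with h | h
      · exact Or.inl (mul_inv_eq_iff_eq_mul.1 h)
      · exact Or.inr (by rw [← mul_assoc]; exact mul_inv_eq_iff_eq_mul.1 h))
    have hP : emb (F := F) (1, e) ∈ δ.W := δ.emb_perm_mem e
    have hdgN : ∀ s ∈ δ.W, dg (b 0, b 1) * s * (dg (b 0, b 1))⁻¹ ∈ δ.W := by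
      intro s hs
      have := hnS ((emb (1, e))⁻¹ * s * emb (1, e)) (mul_mem (mul_mem (inv_mem hP) hs) hP)
      rw [emb_eq] at this
      simpa [mul_assoc] using this
    have hA0 : b 0 ∈ Subgroup.normalizer ((δ.Q : Subgroup SL2) : Set SL2) := by
      refine FourGroup.mem_normalizer_of_map (Subgroup.eq_of_le_of_card_ge ?_
        (by rw [Subgroup.card_map_of_injective (MulAut.conj (b 0)).injective]))
      rintro _ ⟨q, hq, rfl⟩
      have := hdgN (dg (q, 1)) ((δ.dg_mem_iff _ _).2 ⟨hq, one_mem _⟩)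
      rw [← map_inv, ← map_mul, ← map_mul] at this
      exact ((δ.dg_mem_iff _ _).1 this).1
    have hq1 : (b 0)⁻¹ * b 1 ∈ (δ.Q : Subgroup SL2) := by
      have := hdgN sg δ.sg_mem
      rw [← map_inv, Prod.inv_mk, mul_assoc, sg_dg, ← mul_assoc, ← map_mul, Prod.mk_mul_mk] at this
      have h' := mul_mem this (inv_mem δ.sg_mem)
      rw [mul_inv_cancel_right] at h'
      have h1 := ((δ.dg_mem_iff _ _).1 h').2
      have h3 := (Subgroup.mem_normalizer_iff''.1 hA0 _).1 h1
      rwa [show (b 0)⁻¹ * (b 1 * (b 0)⁻¹) * b 0 = (b 0)⁻¹ * b 1 by group] at h3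
    rw [emb_eq, show ((b 0, b 1) : SL2 × SL2) = (b 0, b 0) * (1, (b 0)⁻¹ * b 1) by simp, map_mul]
    rw [map_mul, map_mul]
    refine mul_mem (mul_mem ?_ (hSH _ ((δ.dg_mem_iff _ _).2 ⟨one_mem _, hq1⟩))) (hSH _ hP)
    rcases δ.norm with hN | ⟨hQ8, hN24, hq⟩
    · rw [hN] at hA0
      exact hSH _ ((δ.dg_mem_iff _ _).2 ⟨hA0, hA0⟩)
    obtain ⟨ω, hωN, hωQ, u, v, huv, hu, hv, hun, hvn⟩ := δ.exists_uv hq h2
    set R := δ.E.map f with hR
    have hRS : R ≤ (S : Subgroup G) := hS ▸ Subgroup.map_mono δ.E_le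
    have hSR : (S : Subgroup G) ≤ Subgroup.normalizer (R : Set G) := by
      rw [hS]
      exact (Subgroup.map_mono (δ.W_le_normalizer_E hq)).trans (Subgroup.le_normalizer_map f)
    have hRn := group_fullyNormalized_of_le_normalizer S hRS hSR
    have hRc : (groupFusionSystem (S : Subgroup G)).IsCentric R := by
      refine isCentric_of_fullyCentralized (fullyNormalized_imp S.2 (groupFusionSystem_saturated S) hRn).1 ?_
      rintro y ⟨hy, hyc⟩
      rw [hS] at hy
      obtain ⟨_, ⟨z, hz, rfl⟩, rfl⟩ := hy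
      refine ⟨emb z, ?_, rfl⟩
      have hperm : emb (F := F) (1, z.2) ∈ δ.E := by
        rcases emb_one_left (F := F) z.2 with h | h <;> rw [h]
        exacts [one_mem _, δ.sg_mem_E]
      have hsz : emb z * sg = sg * emb z ∨ emb z * sg = neg4 * (sg * emb z) := by
        refine sign_of_eq h2 f hker ?_
        rw [map_mul, map_mul]
        exact (Subgroup.mem_centralizer_iff.1 hyc _ ⟨sg, δ.sg_mem_E, rfl⟩).symm
      rw [emb_eq]
      refine mul_mem ?_ hperm
      have hc : emb (1, z.2) * sg = sg * emb (F := F) (1, z.2) := by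
        rcases emb_one_left (F := F) z.2 with h | h <;> rw [h]
        rw [one_mul, mul_one]
      rw [emb_eq, mul_assoc, hc, ← mul_assoc, ← mul_assoc, ← mul_assoc neg4, mul_left_inj, ← mul_assoc,
        mul_left_inj, mul_assoc neg4, sg_dg, ← mul_assoc, mul_left_inj, mul_left_inj, neg4, ← map_mul] at hsz
      rcases hsz with h | h
      · have := congrArg Prod.fst (dg_injective h)
        simp only at this
        rw [this]; exact δ.diag_mem_E (hz 1)
      · have := congrArg Prod.fst (dg_injective h)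
        simp only [Prod.fst_mul] at this
        rw [this]
        have := mul_mem δ.negOne_one_mem_E (δ.diag_mem_E (hz 1))
        rwa [← map_mul, Prod.mk_mul_mk, one_mul] at this
    have hω : f (dg (ω, ω)) ∈ H := by
      refine Subgroup.subset_closure ⟨?_, Or.inr (Or.inr ⟨R, hRn, hRc, ?_⟩)⟩
      · refine Subgroup.le_normalizer_map f (H := δ.W) ⟨dg (ω, ω), ?_, rfl⟩ |> fun h => hS ▸ h
        refine FourGroup.mem_normalizer_of_map (Subgroup.eq_of_le_of_card_ge ?_
          (by rw [Subgroup.card_map_of_injective (MulAut.conj _).injective]))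
        rintro _ ⟨_, ⟨z, hz, rfl⟩, rfl⟩
        show dg (ω, ω) * emb z * (dg (ω, ω))⁻¹ ∈ δ.W
        rw [emb_eq, ← mul_assoc, mul_assoc (dg (ω, ω) * dg _)]
        have hc : emb (1, z.2) * (dg (ω, ω))⁻¹ = (dg (ω, ω))⁻¹ * emb (F := F) (1, z.2) := by
          rcases emb_one_left (F := F) z.2 with h | h <;> rw [h]
          · rw [one_mul, mul_one]
          · rw [← map_inv, Prod.inv_mk, sg_dg]
        rw [hc, ← mul_assoc, ← map_inv, ← map_mul, ← map_mul]
        refine mul_mem ((δ.dg_mem_iff _ _).2 ⟨?_, ?_⟩) (δ.emb_perm_mem _)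
        exacts [(Subgroup.mem_normalizer_iff.1 hωN _).1 (hz 0), (Subgroup.mem_normalizer_iff.1 hωN _).1 (hz 1)]
      · rw [← huv, map_mul]
        have hord : ∀ g : Sp4, g ^ 4 = 1 → ∃ k, orderOf (f g) = 2 ^ k := fun g hg => by
          obtain ⟨k, -, hk⟩ := (Nat.dvd_prime_pow Nat.prime_two).1
            (show orderOf (f g) ∣ 2 ^ 2 from orderOf_dvd_of_pow_eq_one (by norm_num; rw [← map_pow, hg, map_one]))
          exact ⟨k, hk⟩
        exact mul_mem (Subgroup.subset_closure ⟨Subgroup.le_normalizer_map f ⟨u, hun, rfl⟩, hord u hu⟩)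
          (Subgroup.subset_closure ⟨Subgroup.le_normalizer_map f ⟨v, hvn, rfl⟩, hord v hv⟩)
    let K : Subgroup SL2 := H.comap (f.comp (dg.comp ((MonoidHom.id SL2).prod (MonoidHom.id SL2))))
    have hKQ : (δ.Q : Subgroup SL2) ≤ K := fun a ha => hSH _ ((δ.dg_mem_iff _ _).2 ⟨ha, ha⟩)
    set L := K ⊓ Subgroup.normalizer ((δ.Q : Subgroup SL2) : Set SL2) with hL
    have hQL : (δ.Q : Subgroup SL2) ≤ L := le_inf hKQ Subgroup.le_normalizer
    have hL8 : 8 ∣ Nat.card L := hQ8 ▸ Subgroup.card_dvd_of_le hQL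
    have hL24 : Nat.card L ∣ 24 := hN24 ▸ Subgroup.card_dvd_of_le inf_le_right
    have hLne : Nat.card L ≠ 8 := fun h => hωQ
      ((Subgroup.eq_of_le_of_card_ge hQL (by rw [h, hQ8])).ge ⟨hω, hωN⟩)
    have hLeq : L = Subgroup.normalizer ((δ.Q : Subgroup SL2) : Set SL2) :=
      Subgroup.eq_of_le_of_card_ge inf_le_right (by
        have := Nat.le_of_dvd (by norm_num) hL24
        have hpos : 0 < Nat.card L := Nat.card_pos
        rw [hN24]
        obtain ⟨c, hc⟩ := hL8
        have h3 : c ∣ 3 := Nat.dvd_of_mul_dvd_mul_left (by norm_num : 0 < 8) (by rw [← hc]; exact hL24)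
        rcases (Nat.dvd_prime Nat.prime_three).1 h3 with rfl | rfl <;> omega)
    exact (hLeq.ge hA0).1

theorem psp4_isSimple [Fintype F] (hodd : Odd (Fintype.card F)) (S : Sylow 2 (Cfsg.PSp 2 F)) :
    (groupFusionSystem (S : Subgroup (Cfsg.PSp 2 F))).IsSimple 2 := by
  classical
  obtain ⟨δ⟩ := exists_data (F := F) hodd
  let W : Sylow 2 Sp4 := Sylow.ofCard δ.W (δ.card_W_eq hodd)
  let S₀ := W.mapSurjective (QuotientGroup.mk'_surjective (Subgroup.center Sp4))
  obtain ⟨g, hg⟩ := MulAction.exists_smul_eq (Cfsg.PSp 2 F) S₀ S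
  refine isSimple_of_surjective hodd ((MulAut.conj g).toMonoidHom.comp (QuotientGroup.mk' (Subgroup.center Sp4)))
    ?_ ((MulAut.conj g).surjective.comp (QuotientGroup.mk'_surjective _)) S δ ?_
  · ext a
    rw [MonoidHom.mem_ker, MonoidHom.comp_apply, MulEquiv.coe_toMonoidHom, EmbeddingLike.map_eq_one_iff,
      QuotientGroup.mk'_apply, QuotientGroup.eq_one_iff]
  · rw [← Subgroup.map_map, ← hg, Sylow.coe_subgroup_smul, Sylow.coe_mapSurjective]
    rfl

end Cfsg.Agent.FusionPSp4Two
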