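import Cfsg.Agent.Lib.PLocal.MaxClass
import Cfsg.Agent.Lib.FiniteGroup.PolySeq
import Cfsg.Agent.Lib.FiniteGroup.Regular
import Cfsg.Agent.S4143

/-!
`p`-groups with an element of order `p` whose centralizer has order `p²`: maximal class, the
`p`-th power map on the lower central series, and the bound on the number of generators of subgroups.
-/

set_option autoImplicit false
set_option linter.style.haveILetI false

open scoped commutatorElement
open Cfsg.Agent.PolySeq

namespace Cfsg.Agent.PearlRank

variable {G : Type*} [Group G]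

/-! ### Polynomial sequences -/

theorem D_mul_eq (f h : ℕ → G) : D (f * h) = ⁅h⁻¹, D f⁆ * (D f * D h) := by
  funext n
  simp only [D, commutatorElement_def, Pi.mul_apply, Pi.inv_apply]
  group

/-- The top derivative is multiplicative modulo the next level. -/
theorem D_iterate_mul {N : ℕ} (hN : gam G N = ⊥) :
    ∀ (j s : ℕ) (f h : ℕ → G), 1 ≤ s → P s f → P s h →
      ((D^[j] f) 0 * (D^[j] h) 0)⁻¹ * (D^[j] (f * h)) 0 ∈ gam G (s + j + 1) := by
  intro j
  induction j with
  | zero => intro s f h _ _ _; simp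
  | succ j ih =>
    intro s f h hs hf hh
    have hu : P (s + 1) (D f * D h) := hf.deriv.mul hN hh.deriv
    have hc : P (s + 2) ⁅h⁻¹, D f⁆ :=
      ((mul_and_comm hN N (s + (s + 1)) (by omega)).2 s (s + 1) rfl _ _ hh.inv hf.deriv).mono
        (by omega)
    have h1 := ih (s + 1) ⁅h⁻¹, D f⁆ (D f * D h) (by omega) (hc.mono (by omega)) hu
    have h2 := ih (s + 1) (D f) (D h) (by omega) hf.deriv hh.deriv
    have hcj : ∀ (i t : ℕ) (c : ℕ → G), P t c → (D^[i] c) 0 ∈ gam G (t + i) := by
      intro i
      induction i with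
      | zero => intro t c hc; exact hc.val 0
      | succ i ih' =>
        intro t c hc
        have := ih' (t + 1) (D c) hc.deriv
        rw [Function.iterate_succ_apply]
        rwa [show t + 1 + i = t + (i + 1) by omega] at this
    have h3 := hcj j (s + 2) _ hc
    rw [show s + 1 + j + 1 = s + (j + 1) + 1 by omega] at h1 h2
    rw [show s + 2 + j = s + (j + 1) + 1 by omega] at h3
    rw [Function.iterate_succ_apply, Function.iterate_succ_apply, Function.iterate_succ_apply, D_mul_eq]
    set a := (D^[j] (D f)) 0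
    set b := (D^[j] (D h)) 0
    set c := (D^[j] ⁅h⁻¹, D f⁆) 0
    set u := (D^[j] (D f * D h)) 0
    set w := (D^[j] (⁅h⁻¹, D f⁆ * (D f * D h))) 0
    have e : (a * b)⁻¹ * w =
        ((a * b)⁻¹ * u) * (u⁻¹ * c * u⁻¹⁻¹) * ((c * u)⁻¹ * w) := by group
    rw [e]
    exact mul_mem (mul_mem h2 ((gam_normal _).conj_mem _ h3 _)) h1

theorem D_iterate_one : ∀ j : ℕ, D^[j] (1 : ℕ → G) = 1 := by
  intro j
  induction j with
  | zero => rfl
  | succ j ih => rw [Function.iterate_succ_apply, D_one, ih]

theorem D_iterate_binom : ∀ (k j : ℕ) (a : G), k < j → D^[j] (fun n => a ^ n.choose k) = 1 := by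
  intro k
  induction k with
  | zero =>
    intro j a hj
    obtain ⟨j, rfl⟩ := Nat.exists_eq_succ_of_ne_zero (show j ≠ 0 by omega)
    rw [Function.iterate_succ_apply,
      show D (fun n => a ^ n.choose 0) = 1 from funext fun n => by simp [D], D_iterate_one]
  | succ k ih =>
    intro j a hj
    obtain ⟨j, rfl⟩ := Nat.exists_eq_succ_of_ne_zero (show j ≠ 0 by omega)
    rw [Function.iterate_succ_apply]
    have e : D (fun n => a ^ n.choose (k + 1)) = fun n => a ^ n.choose k := by
      funext n
      simp only [D, Nat.choose_succ_succ', pow_add]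
      rw [← mul_assoc, mul_assoc, ((Commute.refl a).pow_pow _ _).eq]
      group
    rw [e]
    exact ih j a (by omega)

theorem D_iterate_vanish : ∀ (k : ℕ) (g : ℕ → G), (∀ n < k, g n = 1) → (D^[k] g) 0 = g k := by
  intro k
  induction k with
  | zero => intro g _; rfl
  | succ k ih =>
    intro g hz
    rw [Function.iterate_succ_apply,
      ih (D g) fun n hn => by simp [D, hz n (by omega), hz (n + 1) (by omega)]]
    simp [D, hz k (by omega)]

/-- The derivative of the orbit of an element under conjugation. -/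
def del (y a : G) : G := a⁻¹ * (y * a * y⁻¹)

theorem D_orbit (y a : G) :
    D (fun n : ℕ => y ^ n * a * (y ^ n)⁻¹) = fun n => y ^ n * del y a * (y ^ n)⁻¹ := by
  funext n
  simp only [D, del, pow_succ]
  group

theorem D_iterate_orbit (y : G) : ∀ (j : ℕ) (a : G),
    (D^[j] (fun n : ℕ => y ^ n * a * (y ^ n)⁻¹)) 0 = (del y)^[j] a := by
  intro j
  induction j with
  | zero => intro a; simp
  | succ j ih => intro a; rw [Function.iterate_succ_apply, D_orbit, ih, Function.iterate_succ_apply]

theorem del_mem (y : G) {j : ℕ} {a : G} (ha : a ∈ gam G j) : del y a ∈ gam G (j + 1) := by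
  have h := gam_commutator (inv_mem ha) (show y ∈ gam G 1 by simp [gam])
  rwa [commutatorElement_def, inv_inv, show a⁻¹ * y * a * y⁻¹ = del y a by
    unfold del; group] at h

theorem P.orbit {N : ℕ} (hN : gam G N = ⊥) (y : G) : ∀ (k j : ℕ) (a : G), N ≤ j + k → a ∈ gam G j →
    P j (fun n : ℕ => y ^ n * a * (y ^ n)⁻¹) := by
  intro k
  induction k with
  | zero =>
    intro j a hj ha
    have h1 : a = 1 := Subgroup.mem_bot.1 (hN ▸ gam_anti (show N ≤ j by omega) ha)
    rw [show (fun n : ℕ => y ^ n * a * (y ^ n)⁻¹) = 1 from funext fun n => by simp [h1]]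
    exact P.one j
  | succ k ih =>
    intro j a hj ha
    refine P.mk j _ (fun n => (gam_normal j).conj_mem _ ha _) ?_ ?_
    · rw [D_orbit]
      exact ih (j + 1) _ (by omega) (del_mem y ha)
    · rw [show (fun n : ℕ => y ^ n * a * (y ^ n)⁻¹)⁻¹ = fun n => y ^ n * a⁻¹ * (y ^ n)⁻¹ from
        funext fun n => by simp [mul_assoc], D_orbit]
      exact ih (j + 1) _ (by omega) (del_mem y (inv_mem ha))

/-! ### The hypotheses -/

variable [Finite G] {p n : ℕ} [hp : Fact p.Prime] {x : G}

/-- An element of order `p` with centralizer of order `p²` in a group of order `pⁿ`, `n ≥ 3`. -/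
structure Pearl (p n : ℕ) (x : G) : Prop where
  card : Nat.card G = p ^ n
  three : 3 ≤ n
  pow : x ^ p = 1
  cent : Nat.card (Subgroup.centralizer ({x} : Set G)) = p ^ 2

theorem Pearl.cls (h : Pearl p n x) : Group.nilpotencyClass G = n - 1 :=
  Cfsg.Agent.S4143Aux.class_of_centralizer n G h.card x h.cent

theorem Pearl.gam_card (h : Pearl p n x) {i : ℕ} (h2 : 2 ≤ i) (hi : i ≤ n) :
    Nat.card (gam G i) = p ^ (n - i) := by
  have := MaxClass.card_lcs_eq h.card h.three h.cls (k := i - 2) (by omega)
  rw [show i - 2 + 1 = i - 1 by omega, show n - 2 - (i - 2) = n - i by omega] at this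
  exact this

theorem Pearl.gam_bot (h : Pearl p n x) : gam G n = ⊥ :=
  Subgroup.eq_bot_of_card_eq _ (by rw [h.gam_card (by have := h.three; omega) le_rfl, Nat.sub_self, pow_zero])

theorem Pearl.gam_two (h : Pearl p n x) : gam G 2 = commutator G := by
  have := h.three
  exact Subgroup.top_lowerCentralSeries_one

/-- The conjugates of `x` form a coset of the derived group. -/
theorem Pearl.exists_conj (h : Pearl p n x) {g : G} (hg : g ∈ gam G 2) :
    ∃ c : G, c * x * c⁻¹ = g * x := by
  classical
  have h3 := h.three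
  haveI : Fintype G := Fintype.ofFinite G
  set C := Subgroup.centralizer ({x} : Set G)
  have hidx : C.index = p ^ (n - 2) := by
    refine Nat.eq_of_mul_eq_mul_left (pow_pos hp.out.pos 2) ?_
    rw [← pow_add, ← h.cent, Subgroup.card_mul_index, h.card]
    congr 1; omega
  have hwell : ∀ a b : G, (QuotientGroup.mk a : G ⧸ C) = QuotientGroup.mk b ↔
      a * x * a⁻¹ = b * x * b⁻¹ := by
    intro a b
    rw [QuotientGroup.eq, Subgroup.mem_centralizer_singleton_iff]
    constructor
    · intro e
      calc a * x * a⁻¹ = a * (x * (a⁻¹ * b)) * b⁻¹ := by group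
        _ = a * ((a⁻¹ * b) * x) * b⁻¹ := by rw [e]
        _ = b * x * b⁻¹ := by group
    · intro e
      calc a⁻¹ * b * x = a⁻¹ * (b * x * b⁻¹) * b := by group
        _ = a⁻¹ * (a * x * a⁻¹) * b := by rw [e]
        _ = x * (a⁻¹ * b) := by group
  let f : G ⧸ C → gam G 2 := fun q => ⟨q.out * x * q.out⁻¹ * x⁻¹, by
    rw [h.gam_two]
    have := Subgroup.commutator_mem_commutator (Subgroup.mem_top q.out) (Subgroup.mem_top x)
    rwa [commutatorElement_def] at this⟩
  have hf : Function.Injective f := by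
    intro q r e
    have e' : q.out * x * q.out⁻¹ = r.out * x * r.out⁻¹ := by
      have := congrArg Subtype.val e
      simpa [f] using this
    rw [← QuotientGroup.out_eq' q, ← QuotientGroup.out_eq' r]
    exact (hwell _ _).2 e'
  have hbij : Function.Bijective f := by
    rw [Nat.bijective_iff_injective_and_card]
    refine ⟨hf, ?_⟩
    rw [← Subgroup.index_eq_card, hidx, h.gam_card le_rfl (by omega)]
  obtain ⟨q, hq⟩ := hbij.2 ⟨g, hg⟩
  refine ⟨q.out, ?_⟩
  have := congrArg Subtype.val hq
  have e : q.out * x * q.out⁻¹ * x⁻¹ = g := this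
  rw [← e]
  group

theorem Pearl.mul_pow_eq_one (h : Pearl p n x) {g : G} (hg : g ∈ gam G 2) : (g * x) ^ p = 1 := by
  obtain ⟨c, hc⟩ := h.exists_conj hg
  rw [← hc, conj_pow, h.pow, mul_one, mul_inv_cancel]

theorem Pearl.not_mem (h : Pearl p n x) : x ∉ gam G 2 := by
  intro hx
  obtain ⟨c, hc⟩ := h.exists_conj (inv_mem hx)
  rw [inv_mul_cancel, conj_eq_one_iff] at hc
  have h3 := h.three
  have htop : Subgroup.centralizer ({x} : Set G) = ⊤ := by
    rw [Subgroup.centralizer_eq_top_iff_subset]; simp [hc]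
  have := h.cent
  rw [htop, Subgroup.card_top, h.card] at this
  have := Nat.pow_right_injective hp.out.two_le this
  omega

/-- The commutator with `x` is faithful along the lower central series. -/
theorem Pearl.del_not_mem (h : Pearl p n x) {j : ℕ} (h2 : 2 ≤ j) (hj : j + 1 < n) {a : G}
    (ha : a ∈ gam G j) (ha' : a ∉ gam G (j + 1)) : del x a ∉ gam G (j + 2) := by
  classical
  intro hmem
  set C := Subgroup.centralizer ({x} : Set G)
  -- `C ∩ γ₂` is the last term
  have hlast : gam G (n - 1) ≤ C := by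
    intro z hz
    rw [Subgroup.mem_centralizer_singleton_iff]
    have := gam_commutator hz (show x ∈ gam G 1 by simp [gam])
    rw [show n - 1 + 1 = n by omega, h.gam_bot, Subgroup.mem_bot,
      commutatorElement_eq_one_iff_mul_comm] at this
    exact this
  have hCle : Nat.card (C ⊓ gam G 2 : Subgroup G) ≤ p := by
    have hlt : C ⊓ gam G 2 < C := lt_of_le_of_ne inf_le_left fun e =>
      h.not_mem (e.ge (Subgroup.mem_centralizer_singleton_iff.2 rfl)).2
    obtain ⟨i, hi⟩ := IsPGroup.iff_card.1 ((IsPGroup.of_card h.card).to_subgroup (C ⊓ gam G 2))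
    have hc : Nat.card (C ⊓ gam G 2 : Subgroup G) < p ^ 2 := h.cent ▸
      lt_of_le_of_ne (Subgroup.card_le_of_le inf_le_left)
        fun e => hlt.ne (Subgroup.eq_of_le_of_card_ge inf_le_left e.ge)
    rw [hi] at hc ⊢
    have := (Nat.pow_lt_pow_iff_right hp.out.one_lt).1 hc
    calc p ^ i ≤ p ^ 1 := Nat.pow_le_pow_right hp.out.pos (by omega)
      _ = p := pow_one p
  have heq : gam G (n - 1) = C ⊓ gam G 2 :=
    Subgroup.eq_of_le_of_card_ge (le_inf hlast (gam_anti (by omega))) (by
      rw [h.gam_card (by omega) (by omega), show n - (n - 1) = 1 by omega, pow_one]; exact hCle)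
  haveI : Fintype (gam G (j + 1)) := Fintype.ofFinite _
  haveI : Fintype (gam G (j + 2)) := Fintype.ofFinite _
  let f : gam G (j + 1) → gam G (j + 2) := fun b => ⟨del x b, del_mem x b.2⟩
  have hfib : ∀ b c : G, del x b = del x c → b * c⁻¹ ∈ C := by
    intro b c e
    rw [Subgroup.mem_centralizer_singleton_iff]
    have e' : b⁻¹ * x * b = c⁻¹ * x * c := by
      have := congrArg (· * x) e
      simp only [del] at this
      simpa [mul_assoc] using this
    calc b * c⁻¹ * x = b * (c⁻¹ * x * c) * c⁻¹ := by group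
      _ = b * (b⁻¹ * x * b) * c⁻¹ := by rw [e']
      _ = x * (b * c⁻¹) := by group
  have hsurj : Function.Surjective f := by
    have hbound : ∀ t ∈ Finset.univ.image f, (Finset.univ.filter fun b => f b = t).card ≤ p := by
      intro t _
      rcases (Finset.univ.filter fun b => f b = t).eq_empty_or_nonempty with h0 | ⟨c, hc⟩
      · simp [h0]
      refine le_trans ?_ hCle
      rw [← Nat.card_eq_finsetCard]
      refine Nat.card_le_card_of_injective (fun b => (⟨(b.1 : G) * (c : G)⁻¹, ?_, ?_⟩ : (C ⊓ gam G 2 : Subgroup G))) ?_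
      · refine hfib _ _ ?_
        have e1 := (Finset.mem_filter.1 b.2).2
        have e2 := (Finset.mem_filter.1 hc).2
        exact congrArg Subtype.val (e1.trans e2.symm)
      · exact mul_mem (gam_anti (by omega) b.1.2) ((gam G 2).inv_mem (gam_anti (by omega) c.2))
      · intro b b' e
        have := congrArg Subtype.val e
        exact Subtype.ext (Subtype.ext (mul_right_cancel this))
    have hle := Finset.card_le_mul_card_image Finset.univ p hbound
    rw [Finset.card_univ, ← Nat.card_eq_fintype_card, h.gam_card (by omega) (by omega)] at hle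
    have himg : Fintype.card (gam G (j + 2)) ≤ (Finset.univ.image f).card := by
      rw [← Nat.card_eq_fintype_card, h.gam_card (by omega) (by omega)]
      refine Nat.le_of_mul_le_mul_left ?_ hp.out.pos
      rw [← pow_succ', show n - (j + 2) + 1 = n - (j + 1) by omega]
      exact hle
    intro t
    have := Finset.eq_univ_of_card _ (le_antisymm (Finset.card_le_univ _) himg)
    simpa using (this.ge (Finset.mem_univ t))
  obtain ⟨b, hb⟩ := hsurj ⟨del x a, hmem⟩
  have hab := hfib _ _ (congrArg Subtype.val hb)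
  have hz : (b : G) * a⁻¹ ∈ gam G (n - 1) :=
    heq.ge ⟨hab, mul_mem (gam_anti (by omega) b.2) ((gam G 2).inv_mem (gam_anti h2 ha))⟩
  refine ha' ?_
  have := mul_mem (inv_mem (gam_anti (show j + 1 ≤ n - 1 by omega) hz)) b.2
  simpa using this

/-! ### The power map -/

theorem Pearl.pow_step (h : Pearl p n x) (hp2 : 2 ≤ p) {i : ℕ} (h2 : 2 ≤ i) {g : G} (hg : g ∈ gam G i)
    (hind : ∀ a ∈ gam G (i + 1), a ^ p ∈ gam G (i + p)) :
    g ^ p * (del x)^[p - 1] g ∈ gam G (i + p) := by
  have hN := h.gam_bot
  set s := i - 1 with hsdef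
  set f : ℕ → G := fun m => (g * x) ^ m * (x ^ m)⁻¹ with hf
  have hDf : D f = fun m => x ^ m * g * (x ^ m)⁻¹ := by
    funext m
    simp only [D, hf, pow_succ]
    group
  have hDfi : D f⁻¹ = fun m => (g * x) ^ m * g⁻¹ * ((g * x) ^ m)⁻¹ := by
    funext m
    simp only [D, hf, Pi.inv_apply, pow_succ]
    group
  have hfP : P s f := by
    refine P.mk s f ?_ ?_ ?_
    · intro m
      induction m with
      | zero => simp [hf]
      | succ m ih =>
        have e : f (m + 1) = f m * D f m := by simp [D]
        rw [e, hDf]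
        exact mul_mem ih (gam_anti (by omega) ((gam_normal i).conj_mem _ hg _))
    · rw [hDf]
      exact (P.orbit hN x n i g (by omega) hg).mono (by omega)
    · rw [hDfi]
      exact (P.orbit hN (g * x) n i g⁻¹ (by omega) (inv_mem hg)).mono (by omega)
  have hfp : f p = 1 := by simp [hf, h.mul_pow_eq_one (gam_anti h2 hg), h.pow]
  have key : ∀ k, 2 ≤ k → k ≤ p → ∃ r : ℕ → G, P s r ∧ (∀ m < k, r m = 1) ∧
      (g ^ p * r p ∈ gam G (i + p)) ∧ ((D^[p] f) 0)⁻¹ * (D^[p] r) 0 ∈ gam G (i + p) := by
    intro k hk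
    induction k, hk using Nat.le_induction with
    | base =>
      intro _
      have hb : P s (fun m => g⁻¹ ^ m.choose 1) :=
        P.binom (k := 1) (inv_mem (by rwa [show s + 1 = i by omega]))
      refine ⟨(fun m => g⁻¹ ^ m.choose 1) * f, hb.mul hN hfP, ?_, ?_, ?_⟩
      · intro m hm
        rcases (show m = 0 ∨ m = 1 by omega) with rfl | rfl <;> simp [hf]
      · simp [hfp]
      · have := D_iterate_mul hN p s _ f (by omega) hb hfP
        rw [D_iterate_binom 1 p _ (by omega), Pi.one_apply, one_mul, show s + p + 1 = i + p by omega] at this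
        exact this
    | succ k hk ih =>
      intro hkp
      obtain ⟨r, hr, hrz, hrp, hrD⟩ := ih (by omega)
      set a := r k with ha
      have haL : a ∈ gam G (s + k) := hr.val_of_vanish hrz
      have hb : P s (fun m => a⁻¹ ^ m.choose k) := P.binom (inv_mem haL)
      refine ⟨r * fun m => a⁻¹ ^ m.choose k, hr.mul hN hb, ?_, ?_, ?_⟩
      · intro m hm
        rcases Nat.lt_succ_iff_lt_or_eq.1 hm with hm' | rfl
        · simp [hrz m hm', Nat.choose_eq_zero_of_lt hm']
        · simp [ha]
      · simp only [Pi.mul_apply]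
        rw [← mul_assoc]
        refine mul_mem hrp ?_
        obtain ⟨t, ht⟩ := Nat.Prime.dvd_choose_self hp.out (show k ≠ 0 by omega) (show k < p by omega)
        rw [ht, pow_mul]
        exact pow_mem (hind _ (inv_mem (gam_anti (by omega) haL))) t
      · have := D_iterate_mul hN p s r _ (by omega) hr hb
        rw [D_iterate_binom k p _ (by omega), Pi.one_apply, mul_one, show s + p + 1 = i + p by omega] at this
        have := mul_mem hrD this
        simpa [mul_assoc] using this
  obtain ⟨r, hr, hrz, hrp, hrD⟩ := key p hp2 le_rfl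
  rw [D_iterate_vanish p r hrz] at hrD
  have hD : (D^[p] f) 0 = (del x)^[p - 1] g := by
    conv_lhs => rw [show p = (p - 1) + 1 by omega, Function.iterate_succ_apply, hDf]
    exact D_iterate_orbit x (p - 1) g
  rw [hD] at hrD
  have := mul_mem hrp (inv_mem hrD)
  simpa [mul_assoc] using this

theorem Pearl.pow_mem (h : Pearl p n x) : ∀ (k i : ℕ) (g : G), n ≤ i + k → 2 ≤ i → g ∈ gam G i →
    g ^ p ∈ gam G (i + p - 1) := by
  intro k
  induction k with
  | zero =>
    intro i g hi _ hg
    have : g = 1 := Subgroup.mem_bot.1 (h.gam_bot ▸ gam_anti (show n ≤ i by omega) hg)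
    simp [this]
  | succ k ih =>
    intro i g hi h2 hg
    have hp2 := hp.out.two_le
    have hstep := h.pow_step hp2 h2 hg fun a ha => by
      have := ih (i + 1) a (by omega) (by omega) ha
      rwa [show i + 1 + p - 1 = i + p by omega] at this
    have hd : ∀ m, (del x)^[m] g ∈ gam G (i + m) := by
      intro m
      induction m with
      | zero => simpa using hg
      | succ m ihm => rw [Function.iterate_succ_apply']; exact del_mem x ihm
    have hdp := hd (p - 1)
    rw [show i + (p - 1) = i + p - 1 by omega] at hdp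
    have := mul_mem (gam_anti (show i + p - 1 ≤ i + p by omega) hstep) (inv_mem hdp)
    simpa using this

theorem Pearl.pow_not_mem (h : Pearl p n x) {i : ℕ} (h2 : 2 ≤ i) (hi : i + p - 1 < n) {g : G}
    (hg : g ∈ gam G i) (hg' : g ∉ gam G (i + 1)) : g ^ p ∉ gam G (i + p) := by
  intro hmem
  have hp2 := hp.out.two_le
  have hstep := h.pow_step hp2 h2 hg fun a ha => by
    have := h.pow_mem n (i + 1) a (by omega) (by omega) ha
    rwa [show i + 1 + p - 1 = i + p by omega] at this
  have hd : ∀ m, m ≤ p - 1 → (del x)^[m] g ∈ gam G (i + m) ∧ (del x)^[m] g ∉ gam G (i + m + 1) := by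
    intro m
    induction m with
    | zero => exact fun _ => ⟨hg, hg'⟩
    | succ m ihm =>
      intro hm
      obtain ⟨h1, h1'⟩ := ihm (by omega)
      rw [Function.iterate_succ_apply']
      exact ⟨del_mem x h1, h.del_not_mem (j := i + m) (by omega) (by omega) h1 h1'⟩
  refine (hd (p - 1) le_rfl).2 ?_
  rw [show i + (p - 1) + 1 = i + p by omega]
  have := mul_mem (inv_mem hmem) hstep
  simpa using this

/-! ### Generators of subgroups -/

/-- Subgroups of the derived group need at most `p - 1` generators. -/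
theorem Pearl.exists_gen (h : Pearl p n x) (H : Subgroup G) (hH : H ≤ gam G 2) :
    ∃ T : Finset G, T.card ≤ p - 1 ∧ Subgroup.closure (T : Set G) = H := by
  classical
  have hp2 := hp.out.two_le
  let Lev : ℕ → G → Prop := fun j a => a ∈ H ∧ a ∈ gam G j ∧ a ∉ gam G (j + 1)
  let J : ℕ → Prop := fun j => 2 ≤ j ∧ j < n ∧ ∃ a, Lev j a
  let c : Fin (p - 1) → G := fun r =>
    if hr : ∃ j, J j ∧ j % (p - 1) = r then (Nat.find_spec hr).1.2.2.choose else 1
  refine ⟨Finset.univ.image c, Finset.card_image_le.trans (by simp), le_antisymm ?_ ?_⟩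
  · rw [Subgroup.closure_le]
    intro a ha
    obtain ⟨r, -, rfl⟩ := Finset.mem_image.1 ha
    simp only [c]
    split_ifs with hr
    · exact (Nat.find_spec hr).1.2.2.choose_spec.1
    · exact one_mem H
  set K := Subgroup.closure ((Finset.univ.image c : Finset G) : Set G) with hKdef
  have hKH : K ≤ H := by
    rw [hKdef, Subgroup.closure_le]
    intro a ha
    obtain ⟨r, -, rfl⟩ := Finset.mem_image.1 ha
    simp only [c]
    split_ifs with hr
    · exact (Nat.find_spec hr).1.2.2.choose_spec.1
    · exact one_mem H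
  have hlev : ∀ j, J j → ∃ a ∈ K, Lev j a := by
    intro j hj
    have hr : ∃ j', J j' ∧ j' % (p - 1) = ((⟨j % (p - 1), Nat.mod_lt _ (by omega)⟩ : Fin (p - 1)) : ℕ) :=
      ⟨j, hj, rfl⟩
    set j₀ := Nat.find hr with hj₀
    obtain ⟨hJ₀, hmod⟩ := Nat.find_spec hr
    have hle : j₀ ≤ j := Nat.find_min' hr ⟨hj, rfl⟩
    obtain ⟨t, ht⟩ : (p - 1) ∣ j - j₀ := (Nat.modEq_iff_dvd' hle).1 hmod
    have hs : ∀ u, u ≤ t → ∃ a ∈ K, Lev (j₀ + (p - 1) * u) a := by
      intro u
      induction u with
      | zero =>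
        intro _
        refine ⟨c ⟨j % (p - 1), Nat.mod_lt _ (by omega)⟩, Subgroup.subset_closure (by simp), ?_⟩
        simp only [c, dif_pos hr, Nat.mul_zero, add_zero]
        exact (Nat.find_spec hr).1.2.2.choose_spec
      | succ u ihu =>
        intro hu
        obtain ⟨a, haK, haH, ha, ha'⟩ := ihu (by omega)
        have hb : (p - 1) * (u + 1) ≤ (p - 1) * t := Nat.mul_le_mul_left _ hu
        have hb' : (p - 1) * (u + 1) = (p - 1) * u + (p - 1) := Nat.mul_succ _ _
        have h20 : 2 ≤ j₀ := hJ₀.1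
        have hjn : j < n := hj.2.1
        refine ⟨a ^ p, _root_.pow_mem haK p, _root_.pow_mem haH p, ?_, ?_⟩
        · have := h.pow_mem n _ a (by omega) (by omega) ha
          rwa [show j₀ + (p - 1) * u + p - 1 = j₀ + (p - 1) * (u + 1) by omega] at this
        · have := h.pow_not_mem (i := j₀ + (p - 1) * u) (by omega) (by omega) ha ha'
          rwa [show j₀ + (p - 1) * u + p = j₀ + (p - 1) * (u + 1) + 1 by omega] at this
    obtain ⟨a, haK, haL⟩ := hs t le_rfl
    exact ⟨a, haK, by rwa [show j₀ + (p - 1) * t = j by omega] at haL⟩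
  have hdown : ∀ k j, n ≤ j + k → 2 ≤ j → H ⊓ gam G j ≤ K := by
    intro k
    induction k with
    | zero =>
      intro j hj _ a ha
      have : a = 1 := Subgroup.mem_bot.1 (h.gam_bot ▸ gam_anti (show n ≤ j by omega) ha.2)
      simp [this]
    | succ k ih =>
      intro j hj h2 a ha
      by_cases hjn : n ≤ j
      · have : a = 1 := Subgroup.mem_bot.1 (h.gam_bot ▸ gam_anti hjn ha.2)
        simp [this]
      by_cases ha' : a ∈ gam G (j + 1)
      · exact ih (j + 1) (by omega) (by omega) ⟨ha.1, ha'⟩
      obtain ⟨b, hbK, hbH, hb, hb'⟩ := hlev j ⟨h2, by omega, a, ha.1, ha.2, ha'⟩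
      set A := (gam G (j + 1)).subgroupOf (gam G j) with hA
      have hAi : A.index = p := by
        have h1 := A.card_mul_index
        rw [hA, Nat.card_congr (Subgroup.subgroupOfEquivOfLe (gam_anti (by omega))).toEquiv,
          h.gam_card (by omega) (by omega), h.gam_card h2 (by omega),
          show n - j = n - (j + 1) + 1 by omega, pow_succ] at h1
        exact Nat.eq_of_mul_eq_mul_left (pow_pos hp.out.pos _) h1
      haveI : Fact (Nat.card (gam G j ⧸ A)).Prime := ⟨by rw [← Subgroup.index_eq_card, hAi]; exact hp.out⟩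
      have hb1 : (QuotientGroup.mk (⟨b, hb⟩ : gam G j) : gam G j ⧸ A) ≠ 1 := by
        rw [Ne, QuotientGroup.eq_one_iff, hA, Subgroup.mem_subgroupOf]; exact hb'
      obtain ⟨m, hm⟩ := Subgroup.mem_zpowers_iff.1
        (mem_zpowers_of_prime_card rfl hb1 (g' := QuotientGroup.mk (⟨a, ha.2⟩ : gam G j)))
      have hrem : (b ^ m)⁻¹ * a ∈ gam G (j + 1) := by
        rw [← QuotientGroup.mk_zpow, QuotientGroup.eq, hA, Subgroup.mem_subgroupOf] at hm
        simpa using hm
      have hK' : (b ^ m)⁻¹ * a ∈ K :=
        ih (j + 1) (by omega) (by omega) ⟨H.mul_mem (H.inv_mem (H.zpow_mem hbH m)) ha.1, hrem⟩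
      have := mul_mem (zpow_mem hbK m) hK'
      simpa using this
  intro a ha
  exact hdown n 2 (by omega) le_rfl ⟨ha, hH ha⟩

/-- Every subgroup needs at most `p` generators. -/
theorem Pearl.exists_gen_all (h : Pearl p n x) (H : Subgroup G) :
    ∃ T : Finset G, T.card ≤ p ∧ Subgroup.closure (T : Set G) = H := by
  classical
  have hp2 := hp.out.two_le
  have h3 := h.three
  haveI := (IsPGroup.of_card h.card).isNilpotent
  by_cases hH : H ≤ gam G 2
  · obtain ⟨T, hT, hTH⟩ := h.exists_gen H hH
    exact ⟨T, hT.trans (Nat.sub_le _ _), hTH⟩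
  obtain ⟨a, haH, ha⟩ := SetLike.not_le_iff_exists.1 hH
  set A := H ⊔ gam G 2 with hA
  have hci : (gam G 2).index = p ^ 2 := h.gam_two ▸ MaxClass.index_commutator_eq h.card h3 h.cls
  by_cases hAtop : A = ⊤
  · have hHtop : H = ⊤ := RegularP.eq_top_of_sup_commutator (by rw [← h.gam_two]; exact hAtop)
    set B := Subgroup.zpowers x ⊔ gam G 2 with hB
    obtain ⟨y, hy⟩ : ∃ y, y ∉ B := by
      by_contra hall
      push Not at hall
      have hz : Subgroup.zpowers x = ⊤ := RegularP.eq_top_of_sup_commutator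
        (by rw [← h.gam_two, eq_top_iff]; exact fun y _ => hall y)
      have := congrArg (fun S : Subgroup G => Nat.card S) hz
      simp only [Nat.card_zpowers, Subgroup.card_top, h.card] at this
      have hd : orderOf x ∣ p := orderOf_dvd_of_pow_eq_one h.pow
      rw [this] at hd
      exact absurd (Nat.le_of_dvd hp.out.pos hd)
        (not_le.2 (by simpa using Nat.pow_lt_pow_right hp.out.one_lt (show 1 < n by omega)))
    refine ⟨{x, y}, Finset.card_le_two.trans hp2, ?_⟩
    rw [hHtop]
    set U := Subgroup.closure (({x, y} : Finset G) : Set G) with hU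
    refine RegularP.eq_top_of_sup_commutator ?_
    rw [← h.gam_two]
    have hxB : x ∈ B := Subgroup.mem_sup_left (Subgroup.mem_zpowers x)
    have hBlt : gam G 2 < B := lt_of_le_of_ne le_sup_right fun e => h.not_mem (e ▸ hxB)
    have hBU : B ≤ U ⊔ gam G 2 :=
      sup_le_sup_right ((Subgroup.zpowers_le).2 (Subgroup.subset_closure (by simp))) _
    have hBlt' : B < U ⊔ gam G 2 := lt_of_le_of_ne hBU fun e =>
      hy (e ▸ Subgroup.mem_sup_left (Subgroup.subset_closure (by simp)))
    by_contra hne
    obtain ⟨i₁, hi₁⟩ := (IsPGroup.of_card h.card).index (U ⊔ gam G 2)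
    obtain ⟨i₂, hi₂⟩ := (IsPGroup.of_card h.card).index B
    have e1 := Subgroup.index_strictAnti hBlt
    have e2 := Subgroup.index_strictAnti hBlt'
    rw [hci, hi₂] at e1
    rw [hi₁, hi₂] at e2
    have := (Nat.pow_lt_pow_iff_right hp.out.one_lt).1 e1
    have := (Nat.pow_lt_pow_iff_right hp.out.one_lt).1 e2
    exact hne (Subgroup.index_eq_one.1 (by rw [hi₁, show i₁ = 0 by omega, pow_zero]))
  obtain ⟨T, hT, hTH⟩ := h.exists_gen (H ⊓ gam G 2) inf_le_right
  refine ⟨insert a T, (Finset.card_insert_le _ _).trans (by omega), ?_⟩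
  set U := Subgroup.closure ((insert a T : Finset G) : Set G) with hU
  have hTU : H ⊓ gam G 2 ≤ U := hTH ▸ Subgroup.closure_mono (by simp)
  have haU : a ∈ U := Subgroup.subset_closure (by simp)
  refine le_antisymm ?_ ?_
  · rw [hU, Subgroup.closure_le]
    intro b hb
    rcases Finset.mem_insert.1 (Finset.mem_coe.1 hb) with rfl | hb'
    · exact haH
    · exact (hTH.le (Subgroup.subset_closure hb')).1
  set B := Subgroup.zpowers a ⊔ gam G 2 with hB
  have hBA : B = A := by
    refine Subgroup.eq_of_le_of_card_ge (sup_le_sup_right ((Subgroup.zpowers_le).2 haH) _) ?_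
    have hlt : gam G 2 < B := lt_of_le_of_ne le_sup_right fun e =>
      ha (e ▸ Subgroup.mem_sup_left (Subgroup.mem_zpowers a))
    obtain ⟨i₁, hi₁⟩ := (IsPGroup.of_card h.card).index A
    obtain ⟨i₂, hi₂⟩ := (IsPGroup.of_card h.card).index B
    have e1 := Subgroup.index_strictAnti hlt
    rw [hci, hi₂] at e1
    have := (Nat.pow_lt_pow_iff_right hp.out.one_lt).1 e1
    have hi0 : i₁ ≠ 0 := fun e => hAtop (Subgroup.index_eq_one.1 (by rw [hi₁, e, pow_zero]))
    have hle : B.index ≤ A.index := by
      rw [hi₁, hi₂]; exact Nat.pow_le_pow_right hp.out.pos (by omega)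
    have c1 := A.card_mul_index
    have c2 := B.card_mul_index
    have hpos : 0 < A.index := Nat.pos_of_ne_zero Subgroup.index_ne_zero_of_finite
    refine Nat.le_of_mul_le_mul_right (c := A.index) ?_ hpos
    rw [c1, ← c2]
    exact Nat.mul_le_mul_left _ hle
  intro b hb
  have hbB : b ∈ B := hBA ▸ Subgroup.mem_sup_left hb
  rw [hB, ← SetLike.mem_coe, Subgroup.mul_normal] at hbB
  obtain ⟨u, hu, w, hw, rfl⟩ := hbB
  have huH : u ∈ H := (Subgroup.zpowers_le).2 haH hu
  refine mul_mem ((Subgroup.zpowers_le).2 haU hu) (hTU ⟨?_, hw⟩)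
  have := mul_mem (inv_mem huH) hb
  simpa using this

end Cfsg.Agent.PearlRank
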