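import Cfsg.Agent.Lib.Fusion.PearlRank
import Cfsg.Agent.Lib.Solvable.Structure

/-!
`3`-groups with an element of order `3` whose centralizer has order `9`: every subgroup needs at most two
generators, with the single exception of `C₃ ≀ C₃`, which is detected by a core-free subgroup of order `9`.
-/

set_option autoImplicit false
set_option linter.style.haveILetI false

open scoped commutatorElement Pointwise
open Cfsg.Agent.PolySeq
open Cfsg.Agent.PearlRank

namespace Cfsg.Agent.PearlThree

variable {G : Type*} [Group G]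

/-! ### The centralizers of the successive two-step factors -/

/-- The elements centralizing `γᵢ / γᵢ₊₂`. -/
def K (G : Type*) [Group G] (i : ℕ) : Subgroup G :=
  (Subgroup.centralizer (((gam G i).map (QuotientGroup.mk' (gam G (i + 2)))) : Set (G ⧸ gam G (i + 2)))).comap
    (QuotientGroup.mk' (gam G (i + 2)))

/-- `del y a` lies in `N` exactly when `y` and `a` commute modulo `N`. -/
theorem del_mem_iff (N : Subgroup G) [N.Normal] (y a : G) :
    del y a ∈ N ↔ (QuotientGroup.mk y : G ⧸ N) * QuotientGroup.mk a = QuotientGroup.mk a * QuotientGroup.mk y := by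
  constructor
  · intro h
    have h1 : (QuotientGroup.mk a : G ⧸ N) = QuotientGroup.mk (y * a * y⁻¹) := (QuotientGroup.eq).2 h
    rw [QuotientGroup.mk_mul, QuotientGroup.mk_mul, QuotientGroup.mk_inv, eq_mul_inv_iff_mul_eq] at h1
    exact h1.symm
  · intro h
    refine (QuotientGroup.eq (s := N)).1 ?_
    rw [QuotientGroup.mk_mul, QuotientGroup.mk_mul, QuotientGroup.mk_inv, eq_mul_inv_iff_mul_eq]
    exact h.symm

theorem mem_K {i : ℕ} {y : G} : y ∈ K G i ↔ ∀ a ∈ gam G i, del y a ∈ gam G (i + 2) := by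
  simp only [K, Subgroup.mem_comap, Subgroup.mem_centralizer_iff, SetLike.mem_coe, Subgroup.mem_map,
    QuotientGroup.mk'_apply, forall_exists_index, and_imp, forall_apply_eq_imp_iff₂, del_mem_iff]
  exact forall₂_congr fun a _ => eq_comm

variable [Finite G] {n : ℕ} [h3f : Fact (Nat.Prime 3)] {x : G}

/-- A level element generates a level modulo the next. -/
theorem exists_zpow (h : Pearl 3 n x) {j : ℕ} (h2 : 2 ≤ j) (hjn : j < n) {a b : G} (hb : b ∈ gam G j)
    (hb' : b ∉ gam G (j + 1)) (ha : a ∈ gam G j) : ∃ m : ℤ, (b ^ m)⁻¹ * a ∈ gam G (j + 1) := by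
  set A := (gam G (j + 1)).subgroupOf (gam G j) with hA
  have hAi : A.index = 3 := by
    have h1 := A.card_mul_index
    rw [hA, Nat.card_congr (Subgroup.subgroupOfEquivOfLe (gam_anti (by omega))).toEquiv,
      h.gam_card (by omega) (by omega), h.gam_card h2 (by omega),
      show n - j = n - (j + 1) + 1 by omega, pow_succ] at h1
    exact Nat.eq_of_mul_eq_mul_left (pow_pos (by norm_num) _) h1
  haveI : Fact (Nat.card (gam G j ⧸ A)).Prime := ⟨by rw [← Subgroup.index_eq_card, hAi]; exact h3f.out⟩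
  have hb1 : (QuotientGroup.mk (⟨b, hb⟩ : gam G j) : gam G j ⧸ A) ≠ 1 := by
    rw [Ne, QuotientGroup.eq_one_iff, hA, Subgroup.mem_subgroupOf]; exact hb'
  obtain ⟨m, hm⟩ := Subgroup.mem_zpowers_iff.1
    (mem_zpowers_of_prime_card rfl hb1 (g' := QuotientGroup.mk (⟨a, ha⟩ : gam G j)))
  refine ⟨m, ?_⟩
  rw [← QuotientGroup.mk_zpow, QuotientGroup.eq, hA, Subgroup.mem_subgroupOf] at hm
  simpa using hm

/-- Every level below the class is inhabited. -/
theorem exists_level (h : Pearl 3 n x) {j : ℕ} (h2 : 2 ≤ j) (hjn : j < n) :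
    ∃ b ∈ gam G j, b ∉ gam G (j + 1) := by
  by_contra hcon
  push Not at hcon
  have h1 := Subgroup.card_le_of_le (show gam G j ≤ gam G (j + 1) from hcon)
  rw [h.gam_card h2 (by omega), h.gam_card (by omega) (by omega)] at h1
  have := (Nat.pow_le_pow_iff_right (show 1 < 3 by norm_num)).1 h1
  omega

/-- `y` centralizes `γⱼ/γⱼ₊₂` as soon as it commutes with one level element modulo `γⱼ₊₂`. -/
theorem mem_K_of (h : Pearl 3 n x) {j : ℕ} (h2 : 2 ≤ j) (hjn : j < n) {b y : G} (hb : b ∈ gam G j)
    (hb' : b ∉ gam G (j + 1)) (hy : del y b ∈ gam G (j + 2)) : y ∈ K G j := by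
  rw [mem_K]
  intro a ha
  obtain ⟨m, hm⟩ := exists_zpow h h2 hjn hb hb' ha
  have hc : Commute (QuotientGroup.mk y : G ⧸ gam G (j + 2)) (QuotientGroup.mk b) := (del_mem_iff _ y b).1 hy
  have hu : Commute (QuotientGroup.mk y : G ⧸ gam G (j + 2)) (QuotientGroup.mk ((b ^ m)⁻¹ * a)) :=
    (del_mem_iff _ y _).1 (del_mem y hm)
  rw [del_mem_iff]
  have := (hc.zpow_right m).mul_right hu
  rwa [← QuotientGroup.mk_zpow, ← QuotientGroup.mk_mul, mul_inv_cancel_left] at this

theorem gam_two_le_K {i : ℕ} : gam G 2 ≤ K G i := fun u hu => mem_K.2 fun a ha => by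
  have h1 := gam_commutator (inv_mem ha) hu
  rwa [commutatorElement_def, inv_inv, show a⁻¹ * u * a * u⁻¹ = del u a by unfold del; group] at h1

theorem not_mem_K (h : Pearl 3 n x) {i : ℕ} (h2 : 2 ≤ i) (hi : i + 1 < n) : x ∉ K G i := by
  intro hx
  obtain ⟨b, hb, hb'⟩ := exists_level h h2 (by omega)
  exact h.del_not_mem h2 hi hb hb' (mem_K.1 hx b hb)

/-- The centralizer of `γ₂/γ₄` centralizes `γ₃/γ₅`. -/
theorem K_two_le_three (h : Pearl 3 n x) : K G 2 ≤ K G 3 := by
  have h3 := h.three
  obtain ⟨c, hc, hc'⟩ := exists_level h le_rfl (show 2 < n by omega)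
  have h22 : ⁅gam G 2, gam G 2⁆ ≤ gam G 5 := by
    rw [Subgroup.commutator_le]
    intro a ha b hb
    obtain ⟨i, hi⟩ := exists_zpow h le_rfl (show 2 < n by omega) hc hc' ha
    obtain ⟨j, hj⟩ := exists_zpow h le_rfl (show 2 < n by omega) hc hc' hb
    have hcom : ∀ u v : G, u ∈ gam G 2 → v ∈ gam G 3 →
        Commute (QuotientGroup.mk u : G ⧸ gam G 5) (QuotientGroup.mk v) := by
      intro u v hu hv
      have := gam_commutator hu hv
      rw [← QuotientGroup.eq_one_iff, ← QuotientGroup.mk'_apply, map_commutatorElement,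
        commutatorElement_eq_one_iff_commute] at this
      exact this
    rw [← QuotientGroup.eq_one_iff, ← QuotientGroup.mk'_apply, map_commutatorElement,
      commutatorElement_eq_one_iff_commute]
    have ea : a = c ^ i * ((c ^ i)⁻¹ * a) := by group
    have eb : b = c ^ j * ((c ^ j)⁻¹ * b) := by group
    rw [ea, eb]
    simp only [QuotientGroup.mk'_apply, QuotientGroup.mk_mul (gam G 5) (c ^ i),
      QuotientGroup.mk_mul (gam G 5) (c ^ j)]
    refine Commute.mul_left (Commute.mul_right ?_ (hcom _ _ (zpow_mem hc i) hj))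
      (Commute.mul_right (hcom _ _ (zpow_mem hc j) hi).symm ?_)
    · rw [QuotientGroup.mk_zpow, QuotientGroup.mk_zpow]
      exact (Commute.refl _).zpow_zpow i j
    · exact hcom _ _ (gam_anti (show 2 ≤ 3 by norm_num) hi) hj
  intro y hy
  rw [mem_K]
  intro a ha
  have key : ⁅⁅gam G 2, (⊤ : Subgroup G)⁆, K G 2⁆ ≤ gam G 5 := by
    refine FiniteGroup.three_subgroups_le _ _ _ _ ?_ ?_
    · refine (Subgroup.commutator_mono ?_ le_rfl).trans h22
      rw [Subgroup.commutator_le]
      intro u _ v _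
      have := gam_commutator (show u ∈ gam G 1 by simp [gam]) (show v ∈ gam G 1 by simp [gam])
      exact this
    · rw [Subgroup.commutator_le]
      intro u hu v _
      refine gam_commutator (i := 4) (j := 1) ?_ (by simp [gam])
      refine (Subgroup.commutator_le.2 ?_) hu
      intro k hk g hg
      have := mem_K.1 hk g hg
      rw [← QuotientGroup.eq_one_iff, ← QuotientGroup.mk'_apply, map_commutatorElement,
        commutatorElement_eq_one_iff_commute]
      exact (del_mem_iff _ k g).1 this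
  have h3eq : gam G 3 = ⁅gam G 2, (⊤ : Subgroup G)⁆ := by
    show (⊤ : Subgroup G).lowerCentralSeries 2 = _
    rw [Subgroup.lowerCentralSeries_succ]
    rfl
  have := key (Subgroup.commutator_mem_commutator (h3eq ▸ ha : a ∈ ⁅gam G 2, (⊤ : Subgroup G)⁆) hy)
  rw [← QuotientGroup.eq_one_iff, ← QuotientGroup.mk'_apply, map_commutatorElement,
    commutatorElement_eq_one_iff_commute] at this
  exact (del_mem_iff _ y a).2 this.symm

/-- The cube map transports `γᵢ/γᵢ₊₂` to `γᵢ₊₂/γᵢ₊₄`. -/
theorem K_le_add_two (h : Pearl 3 n x) {i : ℕ} (h2 : 2 ≤ i) : K G i ≤ K G (i + 2) := by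
  intro y hy
  by_cases hin : n ≤ i + 2
  · rw [mem_K]
    intro a ha
    have : a = 1 := Subgroup.mem_bot.1 (h.gam_bot ▸ gam_anti hin ha)
    simp [this, del]
  obtain ⟨g, hg, hg'⟩ := exists_level h h2 (show i < n by omega)
  have hc : g ^ 3 ∈ gam G (i + 2) := by
    have := h.pow_mem n i g (by omega) h2 hg
    rwa [show i + 3 - 1 = i + 2 by omega] at this
  have hc' : g ^ 3 ∉ gam G (i + 3) := h.pow_not_mem h2 (by omega) hg hg'
  refine mem_K_of h (by omega) (by omega) hc hc' ?_
  have hd : del y g ∈ gam G (i + 2) := mem_K.1 hy g hg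
  set d := del y g with hdd
  have hcom : Commute (QuotientGroup.mk g : G ⧸ gam G (i + 2 + 2)) (QuotientGroup.mk d) := by
    have := gam_anti (show i + 2 + 2 ≤ i + (i + 2) by omega) (gam_commutator hg hd)
    rw [← QuotientGroup.eq_one_iff, ← QuotientGroup.mk'_apply, map_commutatorElement,
      commutatorElement_eq_one_iff_commute] at this
    exact this
  have hd3 : d ^ 3 ∈ gam G (i + 2 + 2) := by
    have := h.pow_mem n (i + 2) d (by omega) (by omega) hd
    rwa [show i + 2 + 3 - 1 = i + 2 + 2 by omega] at this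
  have e : del y (g ^ 3) = (g ^ 3)⁻¹ * (g * d) ^ 3 := by
    rw [hdd, show g * del y g = y * g * y⁻¹ by unfold del; group, conj_pow]
    rfl
  rw [e]
  refine (QuotientGroup.eq).1 ?_
  rw [QuotientGroup.mk_pow, QuotientGroup.mk_pow, QuotientGroup.mk_mul, hcom.mul_pow,
    ← QuotientGroup.mk_pow _ d, (QuotientGroup.eq_one_iff _).2 hd3, mul_one]

theorem K_two_le (h : Pearl 3 n x) : ∀ i, 2 ≤ i → K G 2 ≤ K G i := by
  intro i
  induction i using Nat.strong_induction_on with
  | _ i ih =>
    intro h2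
    by_cases h4 : i ≤ 3
    · obtain rfl | rfl : i = 2 ∨ i = 3 := by omega
      · exact le_rfl
      · exact K_two_le_three h
    · have := (ih (i - 2) (by omega) (by omega)).trans (K_le_add_two h (show 2 ≤ i - 2 by omega))
      rwa [show i - 2 + 2 = i by omega] at this

/-! ### Index arguments above `γ₂` -/

theorem index_two (h : Pearl 3 n x) : (gam G 2).index = 3 ^ 2 :=
  h.gam_two ▸ MaxClass.index_commutator_eq h.card h.three h.cls

theorem eq_top_of_lt_lt (h : Pearl 3 n x) {B U : Subgroup G} (h1 : gam G 2 < B) (h2 : B < U) : U = ⊤ := by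
  obtain ⟨i₁, hi₁⟩ := (IsPGroup.of_card h.card).index U
  obtain ⟨i₂, hi₂⟩ := (IsPGroup.of_card h.card).index B
  have e1 := Subgroup.index_strictAnti h1
  have e2 := Subgroup.index_strictAnti h2
  rw [index_two h, hi₂] at e1
  rw [hi₁, hi₂] at e2
  have := (Nat.pow_lt_pow_iff_right (show 1 < 3 by norm_num)).1 e1
  have := (Nat.pow_lt_pow_iff_right (show 1 < 3 by norm_num)).1 e2
  exact Subgroup.index_eq_one.1 (by rw [hi₁, show i₁ = 0 by omega, pow_zero])

theorem eq_of_lt_le (h : Pearl 3 n x) {B U : Subgroup G} (h1 : gam G 2 < B) (h2 : B ≤ U) (hU : U ≠ ⊤) :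
    B = U :=
  h2.lt_or_eq.resolve_left fun hlt => hU (eq_top_of_lt_lt h h1 hlt)

theorem exists_mem_K_two (h : Pearl 3 n x) (h4 : 4 ≤ n) : ∃ a ∈ K G 2, a ∉ gam G 2 := by
  by_contra hcon
  push Not at hcon
  have heq : K G 2 = gam G 2 := le_antisymm hcon gam_two_le_K
  obtain ⟨c, hc, hc'⟩ := exists_level h le_rfl (show 2 < n by omega)
  set f := QuotientGroup.mk' (gam G 4) with hf
  let t : G ⧸ K G 2 → (gam G 3).map f := fun q => ⟨f (del q.out c), ⟨_, del_mem _ hc, rfl⟩⟩
  have ht : Function.Injective t := by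
    intro q r e
    have e1 : f (del q.out c) = f (del r.out c) := congrArg Subtype.val e
    rw [← QuotientGroup.out_eq' q, ← QuotientGroup.out_eq' r, QuotientGroup.eq]
    refine mem_K_of h le_rfl (by omega) hc hc' ?_
    rw [del_mem_iff]
    simp only [del, map_mul, map_inv, mul_right_inj] at e1
    simp only [hf, QuotientGroup.mk'_apply, QuotientGroup.mk_mul, QuotientGroup.mk_inv] at e1 ⊢
    set u : G ⧸ gam G (2 + 2) := QuotientGroup.mk q.out
    set v : G ⧸ gam G (2 + 2) := QuotientGroup.mk r.out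
    set w : G ⧸ gam G (2 + 2) := QuotientGroup.mk c
    calc u⁻¹ * v * w = u⁻¹ * (v * w * v⁻¹) * v := by group
      _ = u⁻¹ * (u * w * u⁻¹) * v := by rw [e1]
      _ = w * (u⁻¹ * v) := by group
  have hcard : Nat.card ((gam G 3).map f) ≤ 3 := by
    set A := (gam G 4).subgroupOf (gam G 3)
    have hA : A.index = 3 := by
      have h1 := A.card_mul_index
      rw [Nat.card_congr (Subgroup.subgroupOfEquivOfLe (gam_anti (by omega))).toEquiv,
        h.gam_card (by omega) (by omega), h.gam_card (by omega) (by omega),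
        show n - 3 = n - 4 + 1 by omega, pow_succ] at h1
      exact Nat.eq_of_mul_eq_mul_left (pow_pos (by norm_num) _) h1
    have h1 := Subgroup.relIndex_ker (K := gam G 3) f
    rw [hf, QuotientGroup.ker_mk'] at h1
    rw [← h1]
    exact hA.le
  have h1 := Nat.card_le_card_of_injective t ht
  rw [← Subgroup.index_eq_card, heq, index_two h] at h1
  omega

theorem K_two_ne_top (h : Pearl 3 n x) (h4 : 4 ≤ n) : K G 2 ≠ ⊤ := fun e =>
  not_mem_K h le_rfl (by omega) (e ▸ Subgroup.mem_top x)

/-- Outside the two-step centralizer every element acts uniserially on `γ₂`. -/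
theorem del_not_mem (h : Pearl 3 n x) {y : G} (hy : y ∉ K G 2) {i : ℕ} (h2 : 2 ≤ i)
    (hi : i + 1 < n) {a : G} (ha : a ∈ gam G i) (ha' : a ∉ gam G (i + 1)) : del y a ∉ gam G (i + 2) := by
  intro hd
  have hyi : y ∈ K G i := mem_K_of h h2 (by omega) ha ha' hd
  obtain ⟨a₀, ha₀, ha₀'⟩ := exists_mem_K_two h (show 4 ≤ n by omega)
  have hlt : gam G 2 < K G 2 := lt_of_le_of_ne gam_two_le_K fun e => ha₀' (e ▸ ha₀)
  have hlt' : K G 2 < K G i := lt_of_le_of_ne (K_two_le h i h2) fun e => hy (e ▸ hyi)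
  exact not_mem_K h h2 hi ((eq_top_of_lt_lt h hlt hlt') ▸ Subgroup.mem_top x)

/-- The cube of an element of the two-step centralizer outside `γ₂`. -/
theorem cube_level (h : Pearl 3 n x) (h5 : 5 ≤ n) {a : G} (ha : a ∈ K G 2) (ha' : a ∉ gam G 2) :
    a ^ 3 ∈ gam G 3 ∧ a ^ 3 ∉ gam G 4 := by
  have hx : x ∉ K G 2 := not_mem_K h le_rfl (by omega)
  set d := del x a with hdd
  have hd : d ∈ gam G 2 := del_mem x (show a ∈ gam G 1 by simp [gam])
  -- `d` is not in `γ₃`
  have hd' : d ∉ gam G 3 := by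
    intro hd3
    set f := QuotientGroup.mk' (gam G 3) with hf
    have hcen : ∀ u ∈ gam G 2, ∀ v : G, Commute (f u) (f v) := by
      intro u hu v
      have := gam_commutator hu (show v ∈ gam G 1 by simp [gam])
      rw [← QuotientGroup.eq_one_iff, ← QuotientGroup.mk'_apply, map_commutatorElement,
        commutatorElement_eq_one_iff_commute] at this
      exact this
    have hxa : Commute (f x) (f a) := (del_mem_iff _ x a).1 hd3
    have hB : gam G 2 < Subgroup.zpowers a ⊔ gam G 2 := lt_of_le_of_ne le_sup_right fun e =>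
      ha' (e ▸ Subgroup.mem_sup_left (Subgroup.mem_zpowers a))
    set U := Subgroup.zpowers x ⊔ (Subgroup.zpowers a ⊔ gam G 2) with hU
    have hUtop : U = ⊤ := eq_top_of_lt_lt h hB (lt_of_le_of_ne le_sup_right fun e => hx
      (sup_le ((Subgroup.zpowers_le).2 ha) gam_two_le_K
        (e ▸ Subgroup.mem_sup_left (Subgroup.mem_zpowers x) : x ∈ Subgroup.zpowers a ⊔ gam G 2)))
    have hcomm : ∀ g ∈ ({x, a} : Set G) ∪ gam G 2, ∀ g' ∈ ({x, a} : Set G) ∪ gam G 2,
        Commute (f g) (f g') := by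
      rintro g ((rfl | rfl) | hg) g' ((rfl | rfl) | hg')
      all_goals first
        | exact Commute.refl _
        | exact hxa
        | exact hxa.symm
        | exact hcen _ hg _
        | exact (hcen _ hg' _).symm
    have hgen : Subgroup.closure (({x, a} : Set G) ∪ gam G 2) = ⊤ := by
      rw [eq_top_iff, ← hUtop, hU]
      refine sup_le ((Subgroup.zpowers_le).2 (Subgroup.subset_closure (by simp)))
        (sup_le ((Subgroup.zpowers_le).2 (Subgroup.subset_closure (by simp))) ?_)
      intro u hu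
      exact Subgroup.subset_closure (Or.inr hu)
    have hall : ∀ g g' : G, Commute (f g) (f g') := by
      have h1 : ∀ g' ∈ ({x, a} : Set G) ∪ gam G 2, (Subgroup.centralizer {f g'}).comap f = ⊤ := by
        intro g' hg'
        rw [eq_top_iff, ← hgen, Subgroup.closure_le]
        intro g hg
        exact Subgroup.mem_centralizer_singleton_iff.2 (hcomm g hg g' hg').eq
      intro g g'
      have h2 : (Subgroup.centralizer {f g}).comap f = ⊤ := by
        rw [eq_top_iff, ← hgen, Subgroup.closure_le]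
        intro g'' hg''
        refine Subgroup.mem_centralizer_singleton_iff.2 ?_
        have := (h1 g'' hg'').ge (Subgroup.mem_top g)
        exact (Subgroup.mem_centralizer_singleton_iff.1 this).symm
      exact (Subgroup.mem_centralizer_singleton_iff.1 (h2.ge (Subgroup.mem_top g'))).symm
    obtain ⟨c, hc, hc'⟩ := exists_level h le_rfl (show 2 < n by omega)
    refine hc' ((?_ : gam G 2 ≤ gam G 3) hc)
    rw [h.gam_two, commutator_def, Subgroup.commutator_le]
    intro u _ v _
    rw [← QuotientGroup.eq_one_iff, ← QuotientGroup.mk'_apply, map_commutatorElement,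
      commutatorElement_eq_one_iff_commute]
    exact hall u v
  set e := del x d with hed
  have he : e ∈ gam G 3 := del_mem x hd
  have he' : e ∉ gam G 4 := h.del_not_mem le_rfl (by omega) hd hd'
  -- `y = x a` acts uniserially, so its cube is in the last term
  set y := x * a with hyd
  have hy : y ∉ K G 2 := fun hy => hx (by simpa [hyd] using mul_mem hy (inv_mem ha))
  have hy2 : y ^ 3 ∈ gam G 2 := by
    rw [h.gam_two, ← QuotientGroup.eq_one_iff, QuotientGroup.mk_pow]
    refine MaxClass.pow_eq_one_of_index_sq (IsPGroup.of_card h.card) ?_ (h.gam_two ▸ index_two h) _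
    intro hbot
    obtain ⟨c, hc, hc'⟩ := exists_level h le_rfl (show 2 < n by omega)
    rw [h.gam_two, hbot, Subgroup.mem_bot] at hc
    exact hc' (hc ▸ one_mem _)
  have hy4 : ∀ j, 2 ≤ j → j ≤ 4 → y ^ 3 ∈ gam G j := by
    intro j h2j
    induction j, h2j using Nat.le_induction with
    | base => exact fun _ => hy2
    | succ j hj ih =>
      intro hj4
      by_contra hn
      refine del_not_mem h hy hj (by omega) (ih (by omega)) hn ?_
      rw [show del y (y ^ 3) = 1 by unfold del; group]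
      exact one_mem _
  have hy4' := hy4 4 (by norm_num) le_rfl
  -- compute modulo `γ₄`
  have ead : x * a * x⁻¹ = a * d := by rw [hdd]; unfold del; group
  have edd : x * d * x⁻¹ = d * e := by rw [hed]; unfold del; group
  have hx3 : x * x * x = 1 := by
    have := h.pow
    rwa [pow_succ, pow_succ, pow_one] at this
  have eexp : y ^ 3 = a * d * (a * d * (d * e)) * a := by
    calc y ^ 3 = (x * a * x⁻¹) * (x * (x * a * x⁻¹) * x⁻¹) * (x * x * x) * a := by
          rw [hyd]; simp [pow_succ, mul_assoc]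
      _ = a * d * (x * (a * d) * x⁻¹) * a := by rw [hx3, ead, mul_one]
      _ = a * d * ((x * a * x⁻¹) * (x * d * x⁻¹)) * a := by simp [mul_assoc]
      _ = _ := by rw [ead, edd]
  set f := QuotientGroup.mk' (gam G 4) with hf
  have cad : Commute (f a) (f d) := (del_mem_iff _ a d).1 (mem_K.1 ha d hd)
  have cae : Commute (f a) (f e) := (del_mem_iff _ a e).1 (mem_K.1 ha e (gam_anti (by omega) he))
  have cde : Commute (f d) (f e) := by
    have := gam_anti (show 4 ≤ 2 + 3 by norm_num) (gam_commutator hd he)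
    rw [← QuotientGroup.eq_one_iff, ← QuotientGroup.mk'_apply, map_commutatorElement,
      commutatorElement_eq_one_iff_commute] at this
    exact this
  have hd3 : f (d ^ 3) = 1 := (QuotientGroup.eq_one_iff _).2 (h.pow_mem n 2 d (by omega) le_rfl hd)
  have h0 : f (y ^ 3) = 1 := (QuotientGroup.eq_one_iff _).2 hy4'
  have key : f (a ^ 3) * f e = 1 := by
    rw [eexp] at h0
    simp only [map_mul] at h0
    rw [map_pow] at hd3 ⊢
    calc f a ^ 3 * f e = f a ^ 3 * f d ^ 3 * f e := by rw [hd3, mul_one]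
      _ = f a * (f a * (f a * (f d * (f d * (f d * f e))))) := by
        simp [pow_succ, mul_assoc]
      _ = f a * (f a * (f d * (f a * (f d * (f d * f e))))) := by
        rw [← mul_assoc (f a) (f d) (f d * (f d * f e)), cad.eq, mul_assoc]
      _ = f a * ((f d * (f a * (f d * (f d * f e)))) * f a) := by
        rw [(cad.mul_right ((Commute.refl _).mul_right (cad.mul_right (cad.mul_right cae)))).eq]
      _ = f a * f d * (f a * f d * (f d * f e)) * f a := by simp [mul_assoc]
      _ = 1 := h0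
  have hinv : f (a ^ 3) = f e⁻¹ := by rw [map_inv]; exact eq_inv_of_mul_eq_one_left key
  have hmem : e * a ^ 3 ∈ gam G 4 := by
    rw [← QuotientGroup.eq_one_iff, ← QuotientGroup.mk'_apply, map_mul, hinv, map_inv, mul_inv_cancel]
  refine ⟨?_, fun h4 => he' ?_⟩
  · have := mul_mem (inv_mem he) (gam_anti (show 3 ≤ 4 by norm_num) hmem)
    simpa using this
  · have := mul_mem hmem (inv_mem h4)
    simpa using this

/-! ### Generators -/

theorem down (h : Pearl 3 n x) (H U : Subgroup G) (hUH : U ≤ H)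
    (hlev : ∀ j, 2 ≤ j → j < n → ∀ a ∈ H, a ∈ gam G j → a ∉ gam G (j + 1) →
      ∃ b ∈ U, b ∈ gam G j ∧ b ∉ gam G (j + 1)) : H ⊓ gam G 2 ≤ U := by
  have key : ∀ k j, n ≤ j + k → 2 ≤ j → H ⊓ gam G j ≤ U := by
    intro k
    induction k with
    | zero =>
      intro j hj _ a ha
      have : a = 1 := Subgroup.mem_bot.1 (h.gam_bot ▸ gam_anti (show n ≤ j by omega) ha.2)
      simp [this]
    | succ k ih =>
      intro j hj h2 a ha
      by_cases hjn : n ≤ j
      · have : a = 1 := Subgroup.mem_bot.1 (h.gam_bot ▸ gam_anti hjn ha.2)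
        simp [this]
      by_cases ha' : a ∈ gam G (j + 1)
      · exact ih (j + 1) (by omega) (by omega) ⟨ha.1, ha'⟩
      obtain ⟨b, hbU, hb, hb'⟩ := hlev j h2 (by omega) a ha.1 ha.2 ha'
      obtain ⟨m, hm⟩ := exists_zpow h h2 (by omega) hb hb' ha.2
      have := ih (j + 1) (by omega) (by omega) ⟨H.mul_mem (H.inv_mem (H.zpow_mem (hUH hbU) m)) ha.1, hm⟩
      simpa using mul_mem (zpow_mem hbU m) this
  exact key n 2 (by omega) le_rfl

theorem two_gen_of_index_le {H : Subgroup G} (hG : IsPGroup 3 G) {g : G} (hg : g ∈ H)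
    (hcard : Nat.card H ≤ 3 * Nat.card (Subgroup.zpowers g)) :
    ∃ T : Finset G, T.card ≤ 2 ∧ Subgroup.closure (T : Set G) = H := by
  classical
  by_cases hH : H ≤ Subgroup.zpowers g
  · exact ⟨{g}, by simp, by
      rw [Finset.coe_singleton, ← Subgroup.zpowers_eq_closure]
      exact le_antisymm ((Subgroup.zpowers_le).2 hg) hH⟩
  obtain ⟨b, hbH, hb⟩ := SetLike.not_le_iff_exists.1 hH
  refine ⟨{g, b}, Finset.card_le_two, ?_⟩
  set U := Subgroup.closure (({g, b} : Finset G) : Set G) with hU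
  have hUH : U ≤ H := by
    rw [hU, Subgroup.closure_le]
    intro u hu
    rcases Finset.mem_insert.1 (Finset.mem_coe.1 hu) with rfl | h
    · exact hg
    · rw [Finset.mem_singleton.1 h]; exact hbH
  refine Subgroup.eq_of_le_of_card_ge hUH (hcard.trans ?_)
  have hle : Subgroup.zpowers g ≤ U := (Subgroup.zpowers_le).2 (Subgroup.subset_closure (by simp))
  have hlt : Subgroup.zpowers g < U :=
    lt_of_le_of_ne hle fun e => hb (e ▸ Subgroup.subset_closure (by simp))
  obtain ⟨i₁, hi₁⟩ := IsPGroup.iff_card.1 (hG.to_subgroup (Subgroup.zpowers g))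
  obtain ⟨i₂, hi₂⟩ := IsPGroup.iff_card.1 (hG.to_subgroup U)
  have h2 := lt_of_le_of_ne (Subgroup.card_le_of_le hle)
    fun e => hlt.ne (Subgroup.eq_of_le_of_card_ge hle e.ge)
  rw [hi₁, hi₂] at h2 ⊢
  have := (Nat.pow_lt_pow_iff_right (show 1 < 3 by norm_num)).1 h2
  rw [← pow_succ']
  exact Nat.pow_le_pow_right (by norm_num) (by omega)

/-- The exceptional case: a core-free subgroup of order `9` in a group of order `81`. -/
def IsWreathLike (G : Type*) [Group G] : Prop :=
  Nat.card G = 81 ∧ ∃ U : Subgroup G, U.index = 9 ∧ U.normalCore = ⊥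

theorem wreath_of_exponent (h : Pearl 3 n x) (hn : n = 4) (hexp : ∀ g ∈ K G 2, g ^ 3 = 1) :
    IsWreathLike G := by
  subst hn
  haveI : Group.IsNilpotent G := (IsPGroup.of_card h.card).isNilpotent
  refine ⟨by rw [h.card]; norm_num, ?_⟩
  have hZ : Nat.card (Subgroup.center G) ≤ 3 := by
    have hlt : Subgroup.center G < Subgroup.centralizer ({x} : Set G) := by
      refine lt_of_le_of_ne (Subgroup.center_le_centralizer _) fun e => ?_
      have hxZ : x ∈ Subgroup.center G := e ▸ Subgroup.mem_centralizer_singleton_iff.2 rfl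
      obtain ⟨c, hc⟩ := h.exists_conj (gam_anti le_rfl (one_mem (gam G 2)))
      have : Subgroup.centralizer ({x} : Set G) = ⊤ := by
        rw [Subgroup.centralizer_eq_top_iff_subset]
        simpa using hxZ
      have h1 := h.cent
      rw [this, Subgroup.card_top, h.card] at h1
      norm_num at h1
    have h1 := Subgroup.card_dvd_of_le hlt.le
    rw [h.cent] at h1
    obtain ⟨i, hi2, hi⟩ := (Nat.dvd_prime_pow h3f.out).1 h1
    have hne : Nat.card (Subgroup.center G) ≠ 3 ^ 2 := fun e =>
      hlt.ne (Subgroup.eq_of_le_of_card_ge hlt.le (by rw [h.cent, e]))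
    rw [hi] at hne ⊢
    rcases (show i = 0 ∨ i = 1 ∨ i = 2 by omega) with rfl | rfl | rfl <;> simp_all
  obtain ⟨a₀, ha₀, ha₀'⟩ := exists_mem_K_two h le_rfl
  have hg4 : gam G 4 = ⊥ := h.gam_bot
  have hB : gam G 2 < Subgroup.zpowers a₀ ⊔ gam G 2 := lt_of_le_of_ne le_sup_right fun e =>
    ha₀' (e ▸ Subgroup.mem_sup_left (Subgroup.mem_zpowers a₀))
  have hKeq : Subgroup.zpowers a₀ ⊔ gam G 2 = K G 2 :=
    eq_of_lt_le h hB (sup_le ((Subgroup.zpowers_le).2 ha₀) gam_two_le_K) (K_two_ne_top h le_rfl)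
  -- `K` is abelian
  have hcg : ∀ k ∈ K G 2, ∀ u ∈ gam G 2, Commute k u := by
    intro k hk u hu
    have h1 := mem_K.1 hk u hu
    rw [hg4, Subgroup.mem_bot] at h1
    show k * u = u * k
    calc k * u = u * (u⁻¹ * (k * u * k⁻¹)) * k := by group
      _ = u * k := by rw [show u⁻¹ * (k * u * k⁻¹) = 1 from h1, mul_one]
  have hab : ∀ k ∈ K G 2, ∀ l ∈ K G 2, Commute k l := by
    intro k hk l hl
    rw [← hKeq, ← SetLike.mem_coe, Subgroup.mul_normal] at hk hl
    obtain ⟨u, hu, w, hw, rfl⟩ := hk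
    obtain ⟨u', hu', w', hw', rfl⟩ := hl
    have huK : u ∈ K G 2 := (Subgroup.zpowers_le).2 ha₀ hu
    have hu'K : u' ∈ K G 2 := (Subgroup.zpowers_le).2 ha₀ hu'
    obtain ⟨i, rfl⟩ := Subgroup.mem_zpowers_iff.1 hu
    obtain ⟨i', rfl⟩ := Subgroup.mem_zpowers_iff.1 hu'
    exact Commute.mul_left
      (((Commute.refl a₀).zpow_zpow i i').mul_right (hcg _ huK w' hw'))
      ((hcg _ hu'K w hw).symm.mul_right (hcg w (gam_two_le_K hw) w' hw'))
  have hKcard : Nat.card (K G 2) = 27 := by
    obtain ⟨i, hi⟩ := (IsPGroup.of_card h.card).index (K G 2)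
    have e1 := Subgroup.index_strictAnti (hKeq ▸ hB)
    rw [index_two h, hi] at e1
    have := (Nat.pow_lt_pow_iff_right (show 1 < 3 by norm_num)).1 e1
    have hi0 : i ≠ 0 := fun e => K_two_ne_top h le_rfl (Subgroup.index_eq_one.1 (by rw [hi, e, pow_zero]))
    have h1 := (K G 2).card_mul_index
    rw [hi, show i = 1 by omega, h.card] at h1
    norm_num at h1
    omega
  -- the centre lies in `K`
  have hZK : Subgroup.center G ≤ K G 2 := fun z hz => mem_K.2 fun u _ => by
    rw [show del z u = 1 by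
      unfold del
      rw [← Subgroup.mem_center_iff.1 hz u]
      group]
    exact one_mem _
  obtain ⟨a, haK, ha⟩ : ∃ a ∈ K G 2, a ∉ Subgroup.center G := by
    by_contra hcon
    push Not at hcon
    have := Subgroup.card_le_of_le (show K G 2 ≤ Subgroup.center G from hcon)
    omega
  set V := Subgroup.zpowers a ⊔ Subgroup.center G with hV
  obtain ⟨b, hbK, hb⟩ : ∃ b ∈ K G 2, b ∉ V := by
    by_contra hcon
    push Not at hcon
    have h1 := Subgroup.card_le_of_le (show K G 2 ≤ V from hcon)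
    have h2 : Nat.card V ≤ Nat.card (Subgroup.zpowers a) * Nat.card (Subgroup.center G) := by
      rw [← Nat.card_prod]
      refine Nat.card_le_card_of_surjective (fun q : Subgroup.zpowers a × Subgroup.center G =>
        (⟨(q.1 : G) * q.2, mul_mem (Subgroup.mem_sup_left q.1.2) (Subgroup.mem_sup_right q.2.2)⟩ : V)) ?_
      rintro ⟨v, hv⟩
      rw [hV, ← SetLike.mem_coe, Subgroup.mul_normal] at hv
      obtain ⟨u, hu, w, hw, rfl⟩ := hv
      exact ⟨(⟨u, hu⟩, ⟨w, hw⟩), rfl⟩
    have h3 : Nat.card (Subgroup.zpowers a) ≤ 3 := by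
      rw [Nat.card_zpowers]
      exact orderOf_le_of_pow_eq_one (by norm_num) (hexp a haK)
    have := h2.trans (Nat.mul_le_mul h3 hZ)
    omega
  set U := Subgroup.zpowers a ⊔ Subgroup.zpowers b with hU
  have hUK : U ≤ K G 2 := sup_le ((Subgroup.zpowers_le).2 haK) ((Subgroup.zpowers_le).2 hbK)
  have hn' : Subgroup.zpowers b ≤ Subgroup.normalizer (Subgroup.zpowers a : Set G) := by
    rw [Subgroup.zpowers_le, Subgroup.mem_normalizer_iff]
    intro u
    constructor
    · intro hu
      rwa [(hab b hbK u ((Subgroup.zpowers_le).2 haK hu)).eq, mul_inv_cancel_right]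
    · intro hu
      have := (hab b hbK _ ((Subgroup.zpowers_le).2 haK hu)).eq
      have e : b * u * b⁻¹ = u := by
        calc b * u * b⁻¹ = b⁻¹ * (b * (b * u * b⁻¹)) := by group
          _ = b⁻¹ * (b * u * b⁻¹ * b) := by rw [this]
          _ = u := by group
      rwa [e] at hu
  -- `U` meets the centre trivially
  have hUZ : U ⊓ Subgroup.center G = ⊥ := by
    rw [eq_bot_iff]
    rintro z ⟨hz, hzZ⟩
    have hz' : z ∈ (Subgroup.zpowers a : Set G) * (Subgroup.zpowers b : Set G) := by
      rw [← Subgroup.coe_mul_of_right_le_normalizer_left _ _ hn']; exact hz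
    obtain ⟨u, hu, w, hw, rfl⟩ := hz' 
    obtain ⟨j, rfl⟩ := Subgroup.mem_zpowers_iff.1 hw
    have hwV : b ^ j ∈ V := by
      have := mul_mem (inv_mem (Subgroup.mem_sup_left (T := Subgroup.center G) hu))
        (Subgroup.mem_sup_right (S := Subgroup.zpowers a) hzZ)
      simpa using this
    have key : ∀ (g : G) (W : Subgroup G), g ^ 3 = 1 → g ∉ W → ∀ k : ℤ, g ^ k ∈ W → g ^ k = 1 := by
      intro g W hg3 hgW k hk
      by_contra hne
      refine hgW ?_
      have hd : orderOf g = 3 := orderOf_eq_prime hg3 fun e => hne (by rw [e, one_zpow])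
      have hcop : ¬ (3 : ℤ) ∣ k := fun hd3 => hne (by
        rw [← orderOf_dvd_iff_zpow_eq_one, hd]; exact hd3)
      obtain ⟨r, hr⟩ : ∃ r : ℤ, (3 : ℤ) ∣ k * r - 1 := by
        rcases (show k % 3 = 1 ∨ k % 3 = 2 by omega) with h1 | h1
        · exact ⟨1, by omega⟩
        · exact ⟨2, by omega⟩
      have e : g = (g ^ k) ^ r := by
        have h1 : g ^ (k * r - 1) = 1 := by rw [← orderOf_dvd_iff_zpow_eq_one, hd]; exact hr
        rw [← zpow_mul, show k * r = (k * r - 1) + 1 by ring, zpow_add, h1, one_mul, zpow_one]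
      rw [e]
      exact zpow_mem hk r
    have hb1 : b ^ j = 1 := key b V (hexp b hbK) hb j hwV
    obtain ⟨i, rfl⟩ := Subgroup.mem_zpowers_iff.1 hu
    simp only [hb1, mul_one, SetLike.mem_coe] at hzZ ⊢
    exact Subgroup.mem_bot.2 (key a _ (hexp a haK) ha i hzZ)
  -- its order
  have hbU : b ∉ Subgroup.zpowers a := fun hmem => hb (Subgroup.mem_sup_left hmem)
  have hUcard : Nat.card U = 9 := by
    have hle : Subgroup.zpowers a < U :=
      lt_of_le_of_ne le_sup_left fun e => hbU (e ▸ Subgroup.mem_sup_right (Subgroup.mem_zpowers b))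
    have ha3 : Nat.card (Subgroup.zpowers a) = 3 := by
      rw [Nat.card_zpowers]
      exact orderOf_eq_prime (hexp a haK) fun e => ha (e ▸ one_mem _)
    have h1 := Subgroup.card_le_of_le hle.le
    have h1' : Nat.card (Subgroup.zpowers a) ≠ Nat.card U := fun e =>
      hle.ne (Subgroup.eq_of_le_of_card_ge hle.le e.ge)
    have h2 := Subgroup.card_dvd_of_le hUK
    rw [hKcard, show 27 = 3 ^ 3 by norm_num] at h2
    have hU27 : Nat.card U ≠ 27 := fun e => by
      have h4 : U = K G 2 := Subgroup.eq_of_le_of_card_ge hUK (by rw [e, hKcard])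
      have h5 : Subgroup.center G = ⊥ := by rw [← hUZ, h4, inf_eq_right.2 hZK]
      haveI : Nontrivial G := ⟨a, 1, fun e => ha (e ▸ one_mem _)⟩
      exact (IsPGroup.of_card h.card).bot_lt_center.ne' h5
    obtain ⟨i, hi3, hi⟩ := (Nat.dvd_prime_pow h3f.out).1 h2
    rw [hi] at h1 h1' hU27 ⊢
    rw [ha3] at h1 h1'
    interval_cases i <;> simp_all
  refine ⟨U, ?_, ?_⟩
  · have h1 := U.card_mul_index
    rw [hUcard, h.card] at h1
    omega
  · by_contra hne
    exact SolvStruct.inf_center_ne_bot hne (le_bot_iff.1 ((inf_le_inf_right _ U.normalCore_le).trans hUZ.le))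

/-- Every subgroup needs at most two generators, or the group is the exceptional one. -/
theorem two_gen (h : Pearl 3 n x) (h4 : 4 ≤ n) (H : Subgroup G) :
    (∃ T : Finset G, T.card ≤ 2 ∧ Subgroup.closure (T : Set G) = H) ∨ IsWreathLike G := by
  classical
  haveI := (IsPGroup.of_card h.card).isNilpotent
  by_cases hH : H ≤ gam G 2
  · obtain ⟨T, hT, hTH⟩ := h.exists_gen H hH
    exact Or.inl ⟨T, hT.trans (by norm_num), hTH⟩
  obtain ⟨a, haH, ha⟩ := SetLike.not_le_iff_exists.1 hH
  set A := H ⊔ gam G 2 with hA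
  set B := Subgroup.zpowers a ⊔ gam G 2 with hB
  have hBlt : gam G 2 < B :=
    lt_of_le_of_ne le_sup_right fun e => ha (e ▸ Subgroup.mem_sup_left (Subgroup.mem_zpowers a))
  have hx : x ∉ K G 2 := not_mem_K h le_rfl (by omega)
  by_cases hAtop : A = ⊤
  · have hHtop : H = ⊤ := RegularP.eq_top_of_sup_commutator (by rw [← h.gam_two]; exact hAtop)
    obtain ⟨a₀, ha₀, ha₀'⟩ := exists_mem_K_two h h4
    refine Or.inl ⟨{x, a₀}, Finset.card_le_two, ?_⟩
    rw [hHtop]
    set U := Subgroup.closure (({x, a₀} : Finset G) : Set G) with hU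
    refine RegularP.eq_top_of_sup_commutator ?_
    rw [← h.gam_two]
    have h1 : gam G 2 < Subgroup.zpowers a₀ ⊔ gam G 2 :=
      lt_of_le_of_ne le_sup_right fun e => ha₀' (e ▸ Subgroup.mem_sup_left (Subgroup.mem_zpowers a₀))
    refine eq_top_of_lt_lt h h1 (lt_of_le_of_ne
      (sup_le_sup_right ((Subgroup.zpowers_le).2 (Subgroup.subset_closure (by simp))) _) fun e => hx ?_)
    exact sup_le ((Subgroup.zpowers_le).2 ha₀) gam_two_le_K
      (e ▸ Subgroup.mem_sup_left (Subgroup.subset_closure (by simp)) : x ∈ Subgroup.zpowers a₀ ⊔ gam G 2)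
  have hBA : B = A := eq_of_lt_le h hBlt (sup_le_sup_right ((Subgroup.zpowers_le).2 haH) _) hAtop
  -- it suffices to generate `H ∩ γ₂`
  suffices hs : (∃ b ∈ H, H ⊓ gam G 2 ≤ Subgroup.closure ({a, b} : Set G)) ∨
      ((∃ T : Finset G, T.card ≤ 2 ∧ Subgroup.closure (T : Set G) = H) ∨ IsWreathLike G) by
    rcases hs with ⟨b, hbH, hb⟩ | hs
    · refine Or.inl ⟨{a, b}, Finset.card_le_two, ?_⟩
      rw [Finset.coe_pair]
      refine le_antisymm ?_ fun u hu => ?_
      · rw [Subgroup.closure_le]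
        rintro u (rfl | rfl)
        · exact haH
        · exact hbH
      have huB : u ∈ B := hBA ▸ Subgroup.mem_sup_left hu
      rw [hB, ← SetLike.mem_coe, Subgroup.mul_normal] at huB
      obtain ⟨v, hv, w, hw, rfl⟩ := huB
      have hvH : v ∈ H := (Subgroup.zpowers_le).2 haH hv
      refine mul_mem ((Subgroup.zpowers_le).2 (Subgroup.subset_closure (by simp)) hv) (hb ⟨?_, hw⟩)
      simpa using mul_mem (inv_mem hvH) hu
    · exact hs
  by_cases haK : a ∈ K G 2
  · by_cases hn4 : n = 4
    · subst hn4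
      have hHK : H ≤ K G 2 := by
        refine le_trans (le_sup_left (b := gam G 2)) ?_
        rw [← hA, ← hBA]
        exact sup_le ((Subgroup.zpowers_le).2 haK) gam_two_le_K
      have ha1 : a ≠ 1 := fun e => ha (e ▸ one_mem _)
      have hHc : Nat.card H ≤ 27 := by
        by_contra hgt
        push Not at hgt
        have h1 := H.card_subgroup_dvd_card
        rw [h.card] at h1
        obtain ⟨i, hi4, hi⟩ := (Nat.dvd_prime_pow h3f.out).1 h1
        rw [hi] at hgt
        interval_cases i <;> simp at hgt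
        exact hx (hHK ((Subgroup.eq_top_of_card_eq H (hi.trans h.card.symm)).ge (Subgroup.mem_top x)))
      by_cases hbig : ∃ g ∈ H, g ^ 3 ≠ 1
      · obtain ⟨g, hg, hg3⟩ := hbig
        refine Or.inr (Or.inl (two_gen_of_index_le (IsPGroup.of_card h.card) hg ?_))
        have h1 : 9 ≤ Nat.card (Subgroup.zpowers g) := by
          rw [Nat.card_zpowers]
          obtain ⟨i, hi⟩ := IsPGroup.iff_orderOf.1 (IsPGroup.of_card h.card) g
          rw [hi]
          by_contra hlt
          have hi2 : i < 2 := by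
            by_contra hge
            exact hlt ((show 9 = 3 ^ 2 by norm_num).trans_le (Nat.pow_le_pow_right (by norm_num) (by omega)))
          apply hg3
          rw [← orderOf_dvd_iff_pow_eq_one, hi]
          exact (Nat.pow_dvd_pow 3 (show i ≤ 1 by omega)).trans (pow_one 3).dvd
        omega
      push Not at hbig
      by_cases h27 : Nat.card H = 27
      · refine Or.inr (Or.inr (wreath_of_exponent h rfl fun g hg => hbig g ?_))
        refine (Subgroup.eq_of_le_of_card_ge hHK ?_).ge hg
        rw [h27]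
        have h1 := (K G 2).card_subgroup_dvd_card
        rw [h.card] at h1
        obtain ⟨i, hi4, hi⟩ := (Nat.dvd_prime_pow h3f.out).1 h1
        rw [hi]
        interval_cases i <;> norm_num
        exact K_two_ne_top h le_rfl (Subgroup.eq_top_of_card_eq _ (hi.trans h.card.symm))
      · refine Or.inr (Or.inl (two_gen_of_index_le (IsPGroup.of_card h.card) haH ?_))
        have h1 : Nat.card (Subgroup.zpowers a) = 3 := by
          rw [Nat.card_zpowers]; exact orderOf_eq_prime (hbig a haH) ha1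
        have h2 := H.card_subgroup_dvd_card
        rw [h.card] at h2
        obtain ⟨i, hi4, hi⟩ := (Nat.dvd_prime_pow h3f.out).1 h2
        rw [h1, hi]
        rw [hi] at hHc h27
        interval_cases i <;> simp_all
    -- `a` in the two-step centralizer, `n ≥ 5`
    left
    obtain ⟨hc3, hc3'⟩ := cube_level h (show 5 ≤ n by omega) haK ha
    have hodd : ∀ (U : Subgroup G), a ∈ U → ∀ u : ℕ, 3 + 2 * u < n →
        ∃ c ∈ U, c ∈ gam G (3 + 2 * u) ∧ c ∉ gam G (3 + 2 * u + 1) := by
      intro U haU u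
      induction u with
      | zero => exact fun _ => ⟨a ^ 3, pow_mem haU 3, hc3, hc3'⟩
      | succ u ih =>
        intro hu
        obtain ⟨c, hcU, hc, hc'⟩ := ih (by omega)
        refine ⟨c ^ 3, pow_mem hcU 3, ?_, ?_⟩
        · have := h.pow_mem n _ c (by omega) (by omega) hc
          rwa [show 3 + 2 * u + 3 - 1 = 3 + 2 * (u + 1) by omega] at this
        · have := h.pow_not_mem (i := 3 + 2 * u) (by omega) (by omega) hc hc'
          rwa [show 3 + 2 * u + 3 = 3 + 2 * (u + 1) + 1 by omega] at this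
    by_cases hev : ∃ j, (2 ≤ j ∧ j % 2 = 0 ∧ j < n) ∧ ∃ b ∈ H, b ∈ gam G j ∧ b ∉ gam G (j + 1)
    · set j₀ := Nat.find hev with hj₀
      obtain ⟨⟨h20, hev0, hj0n⟩, b, hbH, hb, hb'⟩ := Nat.find_spec hev
      refine ⟨b, hbH, down h H _ (by rw [Subgroup.closure_le]; rintro u (rfl | rfl) <;> assumption) ?_⟩
      intro j h2 hjn g hgH hg hg'
      rcases Nat.mod_two_eq_zero_or_one j with hj | hj
      · have hle : j₀ ≤ j := Nat.find_min' hev ⟨⟨h2, hj, hjn⟩, g, hgH, hg, hg'⟩
        have hsteps : ∀ u : ℕ, j₀ + 2 * u < n →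
            ∃ c ∈ Subgroup.closure ({a, b} : Set G), c ∈ gam G (j₀ + 2 * u) ∧ c ∉ gam G (j₀ + 2 * u + 1) := by
          intro u
          induction u with
          | zero => exact fun _ => ⟨b, Subgroup.subset_closure (by simp), hb, hb'⟩
          | succ u ih =>
            intro hu
            obtain ⟨c, hcU, hc, hc'⟩ := ih (by omega)
            refine ⟨c ^ 3, pow_mem hcU 3, ?_, ?_⟩
            · have := h.pow_mem n _ c (by omega) (by omega) hc
              rwa [show j₀ + 2 * u + 3 - 1 = j₀ + 2 * (u + 1) by omega] at this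
            · have := h.pow_not_mem (i := j₀ + 2 * u) (by omega) (by omega) hc hc'
              rwa [show j₀ + 2 * u + 3 = j₀ + 2 * (u + 1) + 1 by omega] at this
        obtain ⟨t, rfl⟩ : ∃ t, j = j₀ + 2 * t := ⟨(j - j₀) / 2, by omega⟩
        exact hsteps t hjn
      · obtain ⟨t, rfl⟩ : ∃ t, j = 3 + 2 * t := ⟨(j - 3) / 2, by omega⟩
        exact hodd _ (Subgroup.subset_closure (by simp)) t hjn
    · refine ⟨a, haH, down h H _ (by rw [Subgroup.closure_le]; rintro u (rfl | rfl) <;> assumption) ?_⟩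
      intro j h2 hjn g hgH hg hg'
      rcases Nat.mod_two_eq_zero_or_one j with hj | hj
      · exact absurd ⟨j, ⟨h2, hj, hjn⟩, g, hgH, hg, hg'⟩ hev
      · obtain ⟨t, rfl⟩ : ∃ t, j = 3 + 2 * t := ⟨(j - 3) / 2, by omega⟩
        exact hodd _ (Subgroup.subset_closure (by simp)) t hjn
  -- `a` outside the two-step centralizer
  left
  by_cases hev : ∃ j, (2 ≤ j ∧ j < n) ∧ ∃ b ∈ H, b ∈ gam G j ∧ b ∉ gam G (j + 1)
  · set j₀ := Nat.find hev with hj₀
    obtain ⟨⟨h20, hj0n⟩, b, hbH, hb, hb'⟩ := Nat.find_spec hev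
    refine ⟨b, hbH, down h H _ (by rw [Subgroup.closure_le]; rintro u (rfl | rfl) <;> assumption) ?_⟩
    intro j h2 hjn g hgH hg hg'
    have hle : j₀ ≤ j := Nat.find_min' hev ⟨⟨h2, hjn⟩, g, hgH, hg, hg'⟩
    have hsteps : ∀ u : ℕ, j₀ + u < n →
        ∃ c ∈ Subgroup.closure ({a, b} : Set G), c ∈ gam G (j₀ + u) ∧ c ∉ gam G (j₀ + u + 1) := by
      intro u
      induction u with
      | zero => exact fun _ => ⟨b, Subgroup.subset_closure (by simp), hb, hb'⟩
      | succ u ih =>
        intro hu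
        obtain ⟨c, hcU, hc, hc'⟩ := ih (by omega)
        have haU : a ∈ Subgroup.closure ({a, b} : Set G) := Subgroup.subset_closure (by simp)
        refine ⟨del a c, mul_mem (inv_mem hcU) (mul_mem (mul_mem haU hcU) (inv_mem haU)), del_mem a hc,
          del_not_mem h haK (i := j₀ + u) (by omega) (by omega) hc hc'⟩
    obtain ⟨t, rfl⟩ : ∃ t, j = j₀ + t := ⟨j - j₀, by omega⟩
    exact hsteps t hjn
  · refine ⟨a, haH, down h H _ (by rw [Subgroup.closure_le]; rintro u (rfl | rfl) <;> assumption) ?_⟩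
    intro j h2 hjn g hgH hg hg'
    exact absurd ⟨j, ⟨h2, hjn⟩, g, hgH, hg, hg'⟩ hev

end Cfsg.Agent.PearlThree
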