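import Mathlib
import Cfsg.Agent.Lib.Fusion.LocalEngines

/-!
# Powers of fixed points of a Sylow subgroup under unipotent `p`-elements

If every `p`-element `a` of a finite group acting on an abelian group satisfies `(a - 1) ^ (n(p-1)+1) = 0`, then
`p ^ n` times a fixed point of a Sylow `p`-subgroup is fixed by every `p`-element.
-/

set_option autoImplicit false
set_option linter.style.haveILetI false

namespace Cfsg.Agent.PowFixed

open Polynomial

theorem mem_ideal {p : ℕ} [hp : Fact p.Prime] (n : ℕ) :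
    ((p : ℤ[X]) ^ n * X) ∈ Ideal.span {(1 + X : ℤ[X]) ^ p - 1, X ^ (n * (p - 1) + 1)} := by
  set I : Ideal ℤ[X] := Ideal.span {(1 + X : ℤ[X]) ^ p - 1, X ^ (n * (p - 1) + 1)} with hI
  obtain ⟨r, hr⟩ := exists_add_pow_prime_eq hp.out (1 : ℤ[X]) X
  have h0 : r.coeff 0 = 1 := by
    have h := congrArg (fun q : ℤ[X] => (derivative q).eval 0) hr
    simp [derivative_pow, zero_pow (Nat.sub_ne_zero_of_lt hp.out.one_lt), derivative_mul] at h
    rw [← coeff_zero_eq_eval_zero] at h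
    have hp0 : (p : ℤ) ≠ 0 := Int.natCast_ne_zero.2 hp.out.ne_zero
    exact mul_left_cancel₀ hp0 (h.symm.trans (mul_one _).symm)
  obtain ⟨s, rfl⟩ : ∃ s : ℤ[X], r = X * s + 1 :=
    ⟨r.divX, by conv_lhs => rw [← X_mul_divX_add r, h0, map_one]⟩
  have hbig : ∀ i, n * (p - 1) + 1 ≤ i → (X : ℤ[X]) ^ i ∈ I := fun i hi => by
    have h : (X : ℤ[X]) ^ (n * (p - 1) + 1) ∈ I := Ideal.subset_span (Set.mem_insert_of_mem _ rfl)
    obtain ⟨d, rfl⟩ := Nat.exists_eq_add_of_le hi
    rw [pow_add]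
    exact I.mul_mem_right _ h
  have key : ∀ j i : ℕ, 1 ≤ i → n * (p - 1) + 1 ≤ i + j * (p - 1) → (p : ℤ[X]) ^ j * X ^ i ∈ I := by
    intro j
    induction j with
    | zero => intro i hi1 hi; rw [pow_zero, one_mul]; exact hbig i (by simpa using hi)
    | succ j ih =>
      intro i hi1 hi
      induction hk : n * (p - 1) + 1 - i using Nat.strong_induction_on generalizing i with
      | _ k ihk =>
      by_cases hbi : n * (p - 1) + 1 ≤ i
      · exact I.mul_mem_left _ (hbig i hbi)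
      have h2 : (p : ℤ[X]) ^ (j + 1) * X ^ (i + 1) ∈ I := ihk _ (by omega) (i + 1) (by omega) (by omega) rfl
      have h3 : (p : ℤ[X]) ^ j * X ^ (i - 1 + p) ∈ I := by
        refine ih _ (by have := hp.out.one_lt; omega) ?_
        have h1 := hp.out.one_lt
        rw [Nat.add_mul, one_mul] at hi
        omega
      have h4 : ((1 + X : ℤ[X]) ^ p - 1) ∈ I := Ideal.subset_span (Or.inl rfl)
      obtain ⟨i', rfl⟩ : ∃ i', i = i' + 1 := ⟨i - 1, by omega⟩
      rw [show i' + 1 - 1 + p = i' + p by omega] at h3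
      have e : (p : ℤ[X]) ^ (j + 1) * X ^ (i' + 1) =
          (p : ℤ[X]) ^ j * X ^ i' * ((1 + X) ^ p - 1) - (p : ℤ[X]) ^ j * X ^ (i' + p)
            - s * ((p : ℤ[X]) ^ (j + 1) * X ^ (i' + 1 + 1)) := by
        rw [hr]
        ring
      rw [e]
      exact I.sub_mem (I.sub_mem (I.mul_mem_left _ h4) h3) (I.mul_mem_left _ h2)
  simpa using key n 1 le_rfl (by omega)

/-- One step: if `e ^ p` fixes `z` and `(e - 1) ^ (n(p-1)+1) = 0` then `e` fixes `p ^ n • z`. -/
theorem step {M : Type*} [AddCommGroup M] {p : ℕ} [hp : Fact p.Prime] (n : ℕ) (e : Module.End ℤ M) {z : M}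
    (hN : (e - 1) ^ (n * (p - 1) + 1) = 0) (hz : (e ^ p) z = z) : e ((p ^ n) • z) = (p ^ n) • z := by
  obtain ⟨a, b, hab⟩ := Ideal.mem_span_pair.1 (mem_ideal (p := p) n)
  have h := congrArg (fun q : ℤ[X] => (aeval (e - 1) q) z) hab
  simp only [map_add, map_mul, map_sub, map_pow, map_one, aeval_X, map_natCast, add_sub_cancel,
    LinearMap.add_apply, Module.End.mul_apply, hN, LinearMap.zero_apply, map_zero, add_zero] at h
  rw [LinearMap.sub_apply, hz, Module.End.one_apply, sub_self, map_zero] at h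
  rw [← sub_eq_zero, map_nsmul, ← smul_sub]
  refine Eq.trans ?_ h.symm
  rw [← Nat.cast_pow, Module.End.natCast_apply, LinearMap.sub_apply, Module.End.one_apply]

section
open Cfsg

universe u

variable {p : ℕ} [hp : Fact p.Prime] {M : Type*} [AddCommGroup M]

/-- A `p`-element fixes `p ^ n • z`. -/
theorem fix_of_pElement : ∀ (A : Type u) [Group A] [Finite A] (ρ : A →* Module.End ℤ M) (n : ℕ) (z : M),
    (∀ a : A, (∃ k, a ^ p ^ k = 1) → (ρ a - 1) ^ (n * (p - 1) + 1) = 0) →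
    ∀ T : Sylow p A, (∀ t ∈ (T : Subgroup A), ρ t z = z) →
    ∀ a : A, (∃ k, a ^ p ^ k = 1) → ρ a ((p ^ n) • z) = (p ^ n) • z := by
  intro A _ _
  induction hcard : Nat.card A using Nat.strong_induction_on generalizing A with
  | _ m ih =>
  intro ρ n z hnil T hT
  haveI hcn := Cfsg.Agent.FiniteGroup.pCore_normal (G := A) p
  set D := pCore p A with hD
  have hDT : D ≤ (T : Subgroup A) := Cfsg.Agent.PBasic.pCore_le_sylow T
  set s : Set A := {x | (∃ k, x ^ p ^ k = 1) ∧ x ^ p ∈ D} with hs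
  set K := Subgroup.closure s with hK
  haveI hKn : K.Normal := by
    refine ⟨fun x hx g => ?_⟩
    induction hx using Subgroup.closure_induction with
    | mem y hy =>
      obtain ⟨⟨k, hk⟩, hyD⟩ := hy
      refine Subgroup.subset_closure ⟨⟨k, by rw [conj_pow, hk, mul_one, mul_inv_cancel]⟩, ?_⟩
      rw [conj_pow]
      exact hcn.conj_mem _ hyD g
    | one => simp [K.one_mem]
    | mul y w _ _ hy hw => exact (show g * y * g⁻¹ * (g * w * g⁻¹) = g * (y * w) * g⁻¹ by group) ▸ K.mul_mem hy hw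
    | inv y _ hy => exact (show (g * y * g⁻¹)⁻¹ = g * y⁻¹ * g⁻¹ by group) ▸ K.inv_mem hy
  -- the generators fix the multiple
  let H : Subgroup A :=
    { carrier := {a | ρ a ((p ^ n) • z) = (p ^ n) • z}
      one_mem' := by simp
      mul_mem' := by
        intro a b ha hb
        show ρ (a * b) _ = _
        rw [map_mul, Module.End.mul_apply, show ρ b _ = _ from hb, show ρ a _ = _ from ha]
      inv_mem' := by
        intro a ha
        show ρ a⁻¹ _ = _
        conv_lhs => rw [← show ρ a ((p ^ n) • z) = _ from ha]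
        rw [← Module.End.mul_apply, ← map_mul, inv_mul_cancel, map_one, Module.End.one_apply] }
  have hKH : K ≤ H := (Subgroup.closure_le _).2 fun x hx => by
    refine step n (ρ x) (hnil x hx.1) ?_
    rw [← map_pow]
    exact hT _ (hDT hx.2)
  set T₁ := (T : Subgroup A) ⊓ K with hT₁
  have hT₁p : IsPGroup p T₁ := T.isPGroup'.to_le inf_le_left
  by_cases hTD : (T : Subgroup A) = D
  · intro a ⟨k, hk⟩
    obtain ⟨P, hP⟩ := IsPGroup.exists_le_sylow (P := Subgroup.zpowers a) (fun ⟨x, hx⟩ => by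
      obtain ⟨i, rfl⟩ := Subgroup.mem_zpowers_iff.1 hx
      refine ⟨k, Subtype.ext ?_⟩
      show (a ^ i) ^ p ^ k = 1
      rw [← zpow_natCast, zpow_comm, zpow_natCast, hk, one_zpow])
    obtain ⟨g, hg⟩ := MulAction.exists_smul_eq A T P
    have haP : a ∈ (P : Subgroup A) := hP (Subgroup.mem_zpowers a)
    rw [← hg, Sylow.coe_subgroup_smul, hTD] at haP
    obtain ⟨d, hd, rfl⟩ := haP
    have hfix : ρ (MulAut.conj g d) z = z := hT _ (hTD ▸ hcn.conj_mem d hd g)
    show ρ (MulAut.conj g d) _ = _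
    rw [map_nsmul, hfix]
  -- `T ⊓ K` is bigger than `D`
  have hnot : ¬ T₁ ≤ D := by
    intro hle
    obtain ⟨x, hxT, hxD⟩ := SetLike.exists_of_lt (lt_of_le_of_ne hDT (Ne.symm hTD))
    obtain ⟨k, hk⟩ := T.isPGroup' ⟨x, hxT⟩
    have hk' : x ^ p ^ k ∈ D := by rw [show x ^ p ^ k = 1 from congrArg Subtype.val hk]; exact D.one_mem
    obtain ⟨j, hj1, hj2⟩ : ∃ j, x ^ p ^ j ∉ D ∧ x ^ p ^ (j + 1) ∈ D := by
      by_contra hcon
      push_neg at hcon
      have : ∀ j, x ^ p ^ j ∉ D := by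
        intro j
        induction j with
        | zero => simpa using hxD
        | succ j ihj => exact hcon j ihj
      exact this k hk'
    refine hj1 (hle ⟨(T : Subgroup A).pow_mem hxT _, Subgroup.subset_closure ⟨⟨k, ?_⟩, ?_⟩⟩)
    · rw [← pow_mul, mul_comm, pow_mul, show x ^ p ^ k = 1 from congrArg Subtype.val hk, one_pow]
    · rwa [← pow_mul, ← pow_succ]
  set B := Subgroup.normalizer (T₁ : Set A) with hB
  have hTB : (T : Subgroup A) ≤ B := by
    have h : ∀ g ∈ (T : Subgroup A), ∀ x ∈ T₁, g * x * g⁻¹ ∈ T₁ := fun g hg x hx =>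
      ⟨(T : Subgroup A).mul_mem ((T : Subgroup A).mul_mem hg hx.1) ((T : Subgroup A).inv_mem hg), hKn.conj_mem x hx.2 g⟩
    exact fun g hg => Cfsg.Agent.FusionSys.mem_normalizer_of_conj_mem g (fun x hx => h g hg x hx) fun x hx => by
      simpa using h g⁻¹ (Subgroup.inv_mem _ hg) x hx
  have hBne : B ≠ ⊤ := fun e => hnot (Cfsg.Agent.PBasic.le_pCore (Subgroup.normalizer_eq_top_iff.1 e) hT₁p)
  have hlt : Nat.card B < m := hcard ▸ lt_of_le_of_ne (Subgroup.card_le_card_group B) fun e =>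
    hBne ((Subgroup.card_eq_iff_eq_top B).1 e)
  have hBfix := ih _ hlt B rfl (ρ.comp B.subtype) n z (fun a ⟨k, hk⟩ => hnil a ⟨k, congrArg Subtype.val hk⟩)
    (T.subtype hTB) fun t ht => hT t ht
  obtain ⟨Q, hQ⟩ := Cfsg.Agent.PBasic.exists_sylow_subgroupOf T K
  have hQmap : (Q : Subgroup K).map K.subtype = T₁ := by rw [hQ, Subgroup.subgroupOf_map_subtype]
  have hfr : B ⊔ K = ⊤ := by
    have := Sylow.normalizer_sup_eq_top Q
    rwa [hQmap] at this
  intro a ⟨k, hk⟩
  obtain ⟨P, hP⟩ := IsPGroup.exists_le_sylow (P := Subgroup.zpowers a) (fun ⟨x, hx⟩ => by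
    obtain ⟨i, rfl⟩ := Subgroup.mem_zpowers_iff.1 hx
    refine ⟨k, Subtype.ext ?_⟩
    show (a ^ i) ^ p ^ k = 1
    rw [← zpow_natCast, zpow_comm, zpow_natCast, hk, one_zpow])
  obtain ⟨g, hg⟩ := MulAction.exists_smul_eq A T P
  have haP : a ∈ (P : Subgroup A) := hP (Subgroup.mem_zpowers a)
  rw [← hg, Sylow.coe_subgroup_smul] at haP
  obtain ⟨t, ht, rfl⟩ := haP
  obtain ⟨k', hk', b, hb, rfl⟩ : ∃ k' ∈ K, ∃ b ∈ B, k' * b = g := by
    have hgm : g ∈ K ⊔ B := by rw [sup_comm, hfr]; trivial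
    exact Subgroup.mem_sup_of_normal_left.1 hgm
  obtain ⟨i, hi⟩ := T.isPGroup' ⟨t, ht⟩
  have hbt : b * t * b⁻¹ ∈ H := by
    refine hBfix ⟨b * t * b⁻¹, B.mul_mem (B.mul_mem hb (hTB ht)) (B.inv_mem hb)⟩ ⟨i, Subtype.ext ?_⟩
    show (b * t * b⁻¹) ^ p ^ i = 1
    rw [conj_pow, show t ^ p ^ i = 1 from congrArg Subtype.val hi, mul_one, mul_inv_cancel]
  show MulAut.conj (k' * b) t ∈ H
  rw [show MulAut.conj (k' * b) t = k' * (b * t * b⁻¹) * k'⁻¹ by simp [mul_assoc]]
  exact H.mul_mem (H.mul_mem (hKH hk') hbt) (H.inv_mem (hKH hk'))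

end

end Cfsg.Agent.PowFixed
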