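import Cfsg.Agent.Lib.Fusion.PowFixed
import Cfsg.Agent.Lib.Fusion.ModelData

/-!
# Normality of `℧^n(Z(S))` for small class
-/

set_option autoImplicit false
set_option linter.style.haveILetI false

namespace Cfsg.Agent.FusionSys

open Cfsg Cfsg.FusionSystem

universe u

variable {Ω : Type u} [Group Ω] {S : Subgroup Ω} [Finite S] {p : ℕ} [hp : Fact p.Prime] {F : FusionSystem S}

/-- A central subgroup is normal if it is invariant under `Aut_F(S)` and fixed by the `p`-elements of the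
automizers of essential subgroups. -/
theorem isNormal_of_pElements (hS : IsPGroup p S) (hF : F.IsSaturated p) {Z : Subgroup Ω}
    (hZ : Z ≤ S ⊓ Subgroup.centralizer (S : Set Ω))
    (htop : ∀ α ∈ F.autGroup S, ∀ y : S, (y : Ω) ∈ Z → ((α y : S) : Ω) ∈ Z)
    (hess : ∀ U : Subgroup Ω, F.IsEssential p U → ∀ a : F.autGroup U, (∃ k, a ^ p ^ k = 1) →
      ∀ y : U, (y : Ω) ∈ Z → (a : MulAut U) y = y) : F.IsNormal Z := by
  have hZS : Z ≤ S := hZ.trans inf_le_left
  have hn : S ≤ Subgroup.normalizer (Z : Set Ω) := fun g hg => by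
    have key : ∀ h ∈ S, ∀ x ∈ Z, h * x * h⁻¹ = x := fun h hh x hx =>
      mul_inv_eq_iff_eq_mul.2 (Subgroup.mem_centralizer_iff.1 (Subgroup.mem_inf.1 (hZ hx)).2 h hh)
    refine mem_normalizer_of_conj_mem g (fun x hx => by rwa [key g hg x hx]) fun x hx => ?_
    have := key g⁻¹ (S.inv_mem hg) x hx
    rw [inv_inv] at this
    rwa [this]
  have hZc : ∀ {U : Subgroup Ω}, F.IsCentric U → Z ≤ U := fun {U} hU x hx =>
    centralizerIn_le_of_centric hU ⟨hZS hx, Subgroup.centralizer_le hU.1 (Subgroup.mem_inf.1 (hZ hx)).2⟩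
  have key : ∀ U, F.IsEssential p U → ∀ α ∈ F.autGroup U, ∀ y : U, (y : Ω) ∈ Z → ((α y : U) : Ω) ∈ Z := by
    intro U hU
    induction hk : Nat.card S - Nat.card U using Nat.strong_induction_on generalizing U with
    | _ k ih =>
    haveI := finite_of_le (S := S) hU.1.1
    have hlarge : ∀ (P : Subgroup Ω) (φ : P →* Ω), φ ∈ F.Hom P → Nat.card U + 1 ≤ Nat.card P →
        φ ∈ (normSystemOn F hZS hn).Hom P := by
      intro P φ hφ hP
      refine alperin_ge hS hF (fun Q hQ hQn α hα => ?_) hP hφ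
      have hQS : Q ≤ S := hQ.elim (fun e => e.le) fun e => e.1.1
      have hQP : Z ≤ Q := hQ.elim (fun e => e ▸ hZS) fun e => hZc e.1
      have hinv : ∀ β ∈ F.autGroup Q, ∀ y : Q, (y : Ω) ∈ Z → ((β y : Q) : Ω) ∈ Z := by
        rcases hQ with rfl | hQ
        · exact htop
        · exact ih _ (by have := Subgroup.card_le_of_le (H := Q) (K := S) hQS; omega) Q hQ rfl
      haveI := finite_of_le (S := S) hQS
      rw [mem_autGroup_iff _ hQS]
      have hφ' := (mem_autGroup_iff F hQS α).1 hα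
      refine ⟨hφ', fun y hy => ⟨hQS hy, hn (hQS hy)⟩, fun y => ⟨hQS (α y).2, hn (hQS (α y).2)⟩,
        _, restrict_mem F hφ' (sup_le le_rfl hQP), fun y => rfl, ?_⟩
      rw [map_subgroupOf_eq_iff _ le_sup_right]
      refine ⟨fun y => hinv α hα ⟨y, hQP y.2⟩ y.2, fun y hy => ?_⟩
      exact ⟨⟨_, hinv α⁻¹ (Subgroup.inv_mem _ hα) ⟨y, hQP hy⟩ hy⟩,
        congrArg Subtype.val (α.apply_symm_apply ⟨y, hQP hy⟩)⟩
    obtain ⟨-, R, hR⟩ := (fullyNormalized_imp hS hF hU.2.1).2
    -- the automorphisms preserving `Z`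
    let St : Subgroup (F.autGroup U) :=
      { carrier := {a | ∀ y : U, ((y : Ω) ∈ Z ↔ (((a : MulAut U) y : U) : Ω) ∈ Z)}
        one_mem' := fun y => Iff.rfl
        mul_mem' := fun {a b} ha hb y => (hb y).trans (ha ((b : MulAut U) y))
        inv_mem' := fun {a} ha y => by
          have := ha ((a : MulAut U)⁻¹ y)
          rw [show (a : MulAut U) ((a : MulAut U)⁻¹ y) = y from (a : MulAut U).apply_symm_apply y] at this
          exact this.symm }
    set K := Subgroup.closure {a : F.autGroup U | ∃ k, a ^ p ^ k = 1} with hK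
    haveI : K.Normal := by
      refine ⟨fun x hx g => ?_⟩
      induction hx using Subgroup.closure_induction with
      | mem y hy =>
        obtain ⟨j, hj⟩ := hy
        exact Subgroup.subset_closure ⟨j, by rw [conj_pow, hj, mul_one, mul_inv_cancel]⟩
      | one => simp [K.one_mem]
      | mul y w _ _ hy hw => exact (show g * y * g⁻¹ * (g * w * g⁻¹) = g * (y * w) * g⁻¹ by group) ▸ K.mul_mem hy hw
      | inv y _ hy => exact (show (g * y * g⁻¹)⁻¹ = g * y⁻¹ * g⁻¹ by group) ▸ K.inv_mem hy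
    have hKSt : K ≤ St := by
      refine (Subgroup.closure_le _).2 fun a ha y => ⟨fun hy => by rwa [hess U hU a ha y hy], fun hy => ?_⟩
      have hfix := hess U hU a ha ((a : MulAut U) y) hy
      exact ((a : MulAut U).injective hfix) ▸ hy
    have hRK : (R : Subgroup (F.autGroup U)) ≤ K := fun a ha => by
      obtain ⟨j, hj⟩ := R.isPGroup' ⟨a, ha⟩
      exact Subgroup.subset_closure ⟨j, congrArg Subtype.val hj⟩
    have hnorm : Subgroup.normalizer ((R : Subgroup (F.autGroup U)) : Set (F.autGroup U)) ≤ St := by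
      intro γ hγ
      have hφ := (mem_autGroup_iff F hU.1.1 (γ : MulAut U)).1 γ.2
      set E := extender S U (U.subtype.comp (γ : MulAut U).toMonoidHom)
      obtain ⟨ψ, hψ, hψe⟩ := (fullyNormalized_receptive hS hF hU.2.1).2 U _ hφ (equivHom_range (γ : MulAut U))
      have hNE : normalizerIn S U ≤ E := fun g hg => by
        refine Subgroup.subset_closure ⟨hg.1, hg.2, ?_⟩
        obtain ⟨c, hc, hce⟩ := exists_conjAut (P := U) hg.1 hg.2
        have hcA : c ∈ F.autGroup U := autInducedBy_le_autGroup F hU.1.1 hc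
        have hcR : (⟨c, hcA⟩ : F.autGroup U) ∈ (R : Subgroup (F.autGroup U)) := by
          rw [hR]; exact Subgroup.mem_subgroupOf.2 hc
        have hd := (Subgroup.mem_normalizer_iff.1 hγ _).1 hcR
        rw [hR, Subgroup.mem_subgroupOf] at hd
        obtain ⟨h, hh, hhe⟩ := (mem_autInducedBy_iff _).1 hd
        refine ⟨h, hh, fun x hx => ?_⟩
        have h2 := hhe ((γ : MulAut U) x)
        simp only [Subgroup.coe_mul, Subgroup.coe_inv, MulAut.mul_apply] at h2
        rw [show (γ : MulAut U)⁻¹ ((γ : MulAut U) x) = x from (γ : MulAut U).symm_apply_apply x] at h2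
        refine Eq.trans ?_ h2
        show (((γ : MulAut U) ⟨_, hx⟩ : U) : Ω) = _
        rw [show (⟨g * (x : Ω) * g⁻¹, hx⟩ : U) = c x from Subtype.ext (hce x).symm]
      have hcard : Nat.card U + 1 ≤ Nat.card E := by
        haveI := finite_of_le (S := S) (hom_le F hψ)
        have h1 := (lt_normalizerIn hS (essential_lt hS hF hU)).trans_le hNE
        exact lt_of_le_of_ne (Subgroup.card_le_of_le h1.le) fun e => h1.ne (Subgroup.eq_of_le_of_card_ge h1.le e.ge)
      obtain ⟨-, -, -, χ, hχ, hχ1, hχ2⟩ := hlarge E ψ hψ hcard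
      have h2 := (map_subgroupOf_eq_iff χ le_sup_right).1 hχ2
      intro y
      have hyE : (y : Ω) ∈ E := le_extender F hφ y.2
      have hval : χ (Subgroup.inclusion le_sup_left ⟨y, hyE⟩) = (((γ : MulAut U) y : U) : Ω) :=
        (hχ1 _).trans (hψe y y.2 hyE)
      refine ⟨fun hy => ?_, fun hy => ?_⟩
      · rw [← hval]; exact h2.1 ⟨y, hy⟩
      · obtain ⟨w, hw⟩ := h2.2 _ hy
        have := F.injective_of_mem hχ (hw.trans hval.symm)
        have e : (w : Ω) = y := congrArg Subtype.val this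
        exact e ▸ w.2
    intro α hα y hy
    have htop' : Subgroup.normalizer ((R : Subgroup (F.autGroup U)) : Set (F.autGroup U)) ⊔ K ≤ St :=
      sup_le hnorm hKSt
    have e : Subgroup.normalizer ((R : Subgroup (F.autGroup U)) : Set (F.autGroup U)) ⊔ K = ⊤ := Sylow.normalizer_sup_eq_top' R hRK
    rw [e] at htop'
    exact (htop' (Subgroup.mem_top ⟨α, hα⟩) y).1 hy
  refine isNormal_of_autGroup_preserve hS hF fun P hP => ?_
  rcases hP with rfl | hP
  · exact ⟨hZS, htop⟩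
  · exact ⟨hZc hP.1, key P hP⟩

/-- The action of automorphisms of an abelian group as endomorphisms. -/
def toEnd (V : Type u) [CommGroup V] : MulAut V →* Module.End ℤ (Additive V) where
  toFun φ := (MonoidHom.toAdditive φ.toMonoidHom).toIntLinearMap
  map_one' := rfl
  map_mul' _ _ := rfl

/-- `℧^n(Z(S))` is normal when `S` has class at most `n(p-1)+1`. -/
theorem powerClosure_center_isNormal (hS : IsPGroup p S) (hF : F.IsSaturated p) (n : ℕ)
    (hcl : Subgroup.lowerCentralSeries S (n * (p - 1) + 1) = ⊥) :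
    F.IsNormal (powerClosure p n (S ⊓ Subgroup.centralizer (S : Set Ω))) := by
  have hcomm : ∀ x ∈ S ⊓ Subgroup.centralizer (S : Set Ω), ∀ y ∈ S ⊓ Subgroup.centralizer (S : Set Ω),
      x * y = y * x := fun x hx y hy =>
    Subgroup.mem_centralizer_iff.1 (Subgroup.mem_inf.1 hy).2 x (Subgroup.mem_inf.1 hx).1
  have hmem : ∀ z ∈ powerClosure p n (S ⊓ Subgroup.centralizer (S : Set Ω)),
      ∃ w ∈ S ⊓ Subgroup.centralizer (S : Set Ω), w ^ p ^ n = z := by
    intro z hz
    induction hz using Subgroup.closure_induction with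
    | mem x hx => obtain ⟨w, hw, rfl⟩ := hx; exact ⟨w, hw, rfl⟩
    | one => exact ⟨1, one_mem _, one_pow _⟩
    | mul a b _ _ ha hb =>
      obtain ⟨v, hv, rfl⟩ := ha
      obtain ⟨w, hw, rfl⟩ := hb
      exact ⟨v * w, mul_mem hv hw, (show Commute v w from hcomm v hv w hw).mul_pow _⟩
    | inv a _ ha =>
      obtain ⟨v, hv, rfl⟩ := ha
      exact ⟨v⁻¹, inv_mem hv, inv_pow v _⟩
  refine isNormal_of_pElements hS hF ?_ ?_ ?_
  · intro z hz
    obtain ⟨w, hw, rfl⟩ := hmem z hz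
    exact pow_mem hw _
  · intro α hα y hy
    obtain ⟨w, hw, hwe⟩ := hmem _ hy
    have hwS : w ∈ S := (Subgroup.mem_inf.1 hw).1
    have hy' : y = (⟨w, hwS⟩ : S) ^ p ^ n := Subtype.ext (by simp [hwe])
    refine Subgroup.subset_closure ⟨(α ⟨w, hwS⟩ : S), ⟨(α ⟨w, hwS⟩).2, Subgroup.mem_centralizer_iff.2 fun g hg => ?_⟩, ?_⟩
    · have e : (α⁻¹ ⟨g, hg⟩ : S) * ⟨w, hwS⟩ = ⟨w, hwS⟩ * α⁻¹ ⟨g, hg⟩ :=
        Subtype.ext (Subgroup.mem_centralizer_iff.1 (Subgroup.mem_inf.1 hw).2 _ (α⁻¹ ⟨g, hg⟩).2)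
      have := congrArg (fun s => ((α s : S) : Ω)) e
      simp only [map_mul, Subgroup.coe_mul] at this
      rwa [show α (α⁻¹ ⟨g, hg⟩) = ⟨g, hg⟩ from α.apply_symm_apply _] at this
    · rw [hy', map_pow]; rfl
  intro U hU a ha y hy
  haveI := finite_of_le (S := S) hU.1.1
  obtain ⟨w, hw, hwe⟩ := hmem _ hy
  have hwU : w ∈ U := centralizerIn_le_of_centric hU.1
    ⟨(Subgroup.mem_inf.1 hw).1, Subgroup.centralizer_le hU.1.1 (Subgroup.mem_inf.1 hw).2⟩
  have hwZ : w ∈ zQ U := ⟨hwU, Subgroup.centralizer_le hU.1.1 (Subgroup.mem_inf.1 hw).2⟩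
  set ρ : F.autGroup U →* Module.End ℤ (Additive (zQ U)) :=
    (toEnd (zQ U)).comp ((zQRestrict U).comp (F.autGroup U).subtype) with hρ
  have hρv : ∀ (b : F.autGroup U) (v : zQ U),
      (((ρ b (Additive.ofMul v)).toMul : zQ U) : Ω) = (((b : MulAut U) ⟨v, v.2.1⟩ : U) : Ω) := fun b v => rfl
  obtain ⟨-, R, hR⟩ := (fullyNormalized_imp hS hF hU.2.1).2
  -- unipotence
  have hnilR : ∀ t ∈ (R : Subgroup (F.autGroup U)), (ρ t - 1) ^ (n * (p - 1) + 1) = 0 := by
    intro t ht
    rw [hR, Subgroup.mem_subgroupOf] at ht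
    obtain ⟨g, hg, hge⟩ := (mem_autInducedBy_iff _).1 ht
    have hstep : ∀ (i : ℕ) (v : Additive (zQ U)),
        (((((ρ t - 1) ^ i) v).toMul : zQ U) : Ω) ∈ Subgroup.lowerCentralSeries S i := by
      intro i
      induction i with
      | zero => intro v; exact hU.1.1 v.toMul.2.1
      | succ i ihi =>
        intro v
        rw [pow_succ', Module.End.mul_apply, LinearMap.sub_apply, Module.End.one_apply, toMul_sub]
        set x := ((ρ t - 1) ^ i) v
        rw [div_eq_mul_inv, Subgroup.coe_mul, Subgroup.coe_inv, show ((ρ t x).toMul : Ω) = _ from hρv t x.toMul, hge]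
        show g * (x.toMul : Ω) * g⁻¹ * (x.toMul : Ω)⁻¹ ∈ _
        rw [Subgroup.lowerCentralSeries_succ]
        have h := Subgroup.commutator_mem_commutator (ihi v) hg
        have := Subgroup.inv_mem _ h
        rw [commutatorElement_def] at this
        simpa [mul_assoc] using this
    refine LinearMap.ext fun v => ?_
    have h := hstep (n * (p - 1) + 1) v
    rw [hcl, Subgroup.mem_bot] at h
    rw [LinearMap.zero_apply]
    exact Additive.toMul.injective (Subtype.ext h)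
  have hnil : ∀ b : F.autGroup U, (∃ k, b ^ p ^ k = 1) → (ρ b - 1) ^ (n * (p - 1) + 1) = 0 := by
    rintro b ⟨k, hk⟩
    obtain ⟨P, hP⟩ := IsPGroup.exists_le_sylow (P := Subgroup.zpowers b) (fun ⟨x, hx⟩ => by
      obtain ⟨i, rfl⟩ := Subgroup.mem_zpowers_iff.1 hx
      refine ⟨k, Subtype.ext ?_⟩
      show (b ^ i) ^ p ^ k = 1
      rw [← zpow_natCast, zpow_comm, zpow_natCast, hk, one_zpow])
    obtain ⟨g, hg⟩ := MulAction.exists_smul_eq (F.autGroup U) R P
    have hbP : b ∈ (P : Subgroup (F.autGroup U)) := hP (Subgroup.mem_zpowers b)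
    rw [← hg, Sylow.coe_subgroup_smul] at hbP
    obtain ⟨t, ht, rfl⟩ := hbP
    have e : ρ (g * t * g⁻¹) - 1 = ρ g * (ρ t - 1) * ρ g⁻¹ := by
      rw [mul_sub, sub_mul, mul_one, ← map_mul, ← map_mul, ← map_mul, mul_inv_cancel, map_one]
    show (ρ (g * t * g⁻¹) - 1) ^ _ = 0
    have hconj : ∀ m : ℕ, (ρ g * (ρ t - 1) * ρ g⁻¹) ^ (m + 1) = ρ g * (ρ t - 1) ^ (m + 1) * ρ g⁻¹ := by
      intro m
      induction m with
      | zero => simp
      | succ m ihm =>
        rw [pow_succ, ihm, pow_succ (ρ t - 1) (m + 1)]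
        have h1 : ρ g⁻¹ * ρ g = 1 := by rw [← map_mul, inv_mul_cancel, map_one]
        calc ρ g * (ρ t - 1) ^ (m + 1) * ρ g⁻¹ * (ρ g * (ρ t - 1) * ρ g⁻¹)
            = ρ g * (ρ t - 1) ^ (m + 1) * (ρ g⁻¹ * ρ g) * (ρ t - 1) * ρ g⁻¹ := by simp only [mul_assoc]
          _ = _ := by rw [h1, mul_one]; simp only [mul_assoc]
    rw [e, hconj, hnilR t ht, mul_zero, zero_mul]
  have hfix := Cfsg.Agent.PowFixed.fix_of_pElement (F.autGroup U) ρ n (Additive.ofMul (⟨w, hwZ⟩ : zQ U)) hnil R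
    (fun t ht => by
      rw [hR, Subgroup.mem_subgroupOf] at ht
      obtain ⟨g, hg, hge⟩ := (mem_autInducedBy_iff _).1 ht
      refine Additive.toMul.injective (Subtype.ext ?_)
      rw [hρv t ⟨w, hwZ⟩, hge]
      exact mul_inv_eq_iff_eq_mul.2 (Subgroup.mem_centralizer_iff.1 (Subgroup.mem_inf.1 hw).2 g hg)) a ha
  have hy' : y = (⟨w, hwU⟩ : U) ^ p ^ n := Subtype.ext (by simp [hwe])
  refine Subtype.ext ?_
  have h := congrArg (fun v : Additive (zQ U) => ((v.toMul : zQ U) : Ω)) hfix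
  rw [← ofMul_pow] at h
  rw [hy']
  refine Eq.trans (Eq.trans ?_ h) ?_
  · exact (hρv a ((⟨w, hwZ⟩ : zQ U) ^ p ^ n)).symm
  · rfl

end Cfsg.Agent.FusionSys
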