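import Cfsg.Agent.Lib.Fusion.KNormalizer
import Cfsg.Agent.Lib.Fusion.InvariantFrattini
import Cfsg.Agent.Lib.Fusion.GeneratedStab
import Cfsg.Agent.Lib.Fusion.Hyperfocal
import Cfsg.Prelude.Def_TwoFusion

/-!
# Systems over a direct product of two strongly closed subgroups
-/

set_option autoImplicit false

namespace Cfsg.Agent.FusionSys

open Cfsg Cfsg.FusionSystem

variable {Ω : Type*} [Group Ω] {S : Subgroup Ω} [Finite S] {p : ℕ} [hp : Fact p.Prime]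

/-- The full subsystem on a strongly closed subgroup whose elements induce everything is saturated. -/
theorem fullSub_saturated (hS : IsPGroup p S) {F : FusionSystem S} (hF : F.IsSaturated p) {T : Subgroup Ω}
    (hT : F.StronglyClosed T) {R : FusionSystem T} (hR : ∀ P ≤ T, R.Hom P = F.Hom P)
    (hind : ∀ Q ≤ T, autInducedBy S Q ≤ autInducedBy T Q) : R.IsSaturated p := by
  intro P hP
  haveI := finite_of_le hT.1
  obtain ⟨Q, ⟨θ, hθ, hθr⟩, hQ⟩ := exists_fullyNormalized F (hP.trans hT.1)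
  have hQT : Q ≤ T := by
    rw [← hθr]; rintro _ ⟨x, rfl⟩; exact hT.2 P hP θ hθ x
  haveI := finite_of_le hQ.1
  refine ⟨Q, ⟨θ, (hR P hP).symm ▸ hθ, hθr⟩, fullyAutomized_of_isSyl_aut hQT ?_, hQT, fun P' χ hχ hr => ?_⟩
  · have h1 : R.autGroup Q = F.autGroup Q := by
      ext α
      rw [mem_autGroup_iff R hQT, mem_autGroup_iff F hQ.1, hR Q hQT]
    rw [h1, le_antisymm (autInducedBy_mono hT.1) (hind Q hQT)]
    exact isSyl_of_fullyAutomized (fullyNormalized_imp hS hF hQ).2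
  · have hP' : P' ≤ T := hom_le R hχ
    rw [hR P' hP'] at hχ
    obtain ⟨ψ, hψ, hψe⟩ := (fullyNormalized_receptive hS hF hQ).2 P' χ hχ hr
    have hle : extender T P' χ ≤ extender S P' χ := Subgroup.closure_mono
      fun g hg => ⟨hT.1 hg.1, hg.2.1, hg.2.2.choose, hT.1 hg.2.2.choose_spec.1, hg.2.2.choose_spec.2⟩
    refine ⟨ψ.comp (Subgroup.inclusion hle), ?_, fun x hx hN => hψe x hx _⟩
    rw [hR _ ((extender_le_normalizerIn χ).trans (normalizerIn_le T P'))]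
    exact restrict_mem F hψ hle

variable {S₁ S₂ : Subgroup Ω}

/-- A map on a strongly closed subgroup maps it onto itself. -/
theorem stronglyClosed_onto {F : FusionSystem S} (h₂ : F.StronglyClosed S₂) {D : Subgroup Ω} {ψ : D →* Ω}
    (hψ : ψ ∈ F.Hom D) (hD : S₂ ≤ D) :
    (∀ y : D, (y : Ω) ∈ S₂ → ψ y ∈ S₂) ∧ ∀ z ∈ S₂, ∃ y : D, (y : Ω) ∈ S₂ ∧ ψ y = z := by
  have h := restrict_mem F hψ hD
  haveI := finite_of_le h₂.1
  have hr : (ψ.comp (Subgroup.inclusion hD)).range = S₂ := Subgroup.eq_of_le_of_card_ge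
    (by rintro _ ⟨x, rfl⟩; exact h₂.2 S₂ le_rfl _ h x) (isConj_card ⟨_, h, rfl⟩).le
  refine ⟨fun y hy => hr.le ⟨⟨y, hy⟩, rfl⟩, fun z hz => ?_⟩
  obtain ⟨x, hx⟩ := hr.ge hz
  exact ⟨Subgroup.inclusion hD x, x.2, hx⟩

theorem centralizes_of_product (hc : ∀ a ∈ S₁, ∀ b ∈ S₂, a * b = b * a) (hS₁ : S₁ ≤ S) :
    S₁ ≤ centralizerIn S S₂ :=
  fun _ ha => ⟨hS₁ ha, fun b hb => (hc _ ha b hb).symm⟩

theorem exists_decomp (hprod : IsInternalDirectProduct S₁ S₂ S) {x : Ω} (hx : x ∈ S) :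
    ∃ a ∈ S₁, ∃ b ∈ S₂, x = a * b := by
  obtain ⟨h1, h2, hc, -, hsup⟩ := hprod
  have hn : S₁ ≤ Subgroup.normalizer (S₂ : Set Ω) := fun a ha =>
    Subgroup.centralizer_le_normalizer _ fun b hb => (hc a ha b hb).symm
  rw [← hsup, ← SetLike.mem_coe, Subgroup.coe_mul_of_left_le_normalizer_right S₁ S₂ hn] at hx
  obtain ⟨a, ha, b, hb, rfl⟩ := hx
  exact ⟨a, ha, b, hb, rfl⟩

/-- Every map below the first factor extends over the second. -/
theorem extend_factor (hS : IsPGroup p S) {F : FusionSystem S} (hF : F.IsSaturated p)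
    (hprod : IsInternalDirectProduct S₁ S₂ S) (h₁ : F.StronglyClosed S₁) (h₂ : F.StronglyClosed S₂)
    {P : Subgroup Ω} (hP : P ≤ S₁) {φ : P →* Ω} (hφ : φ ∈ F.Hom P) :
    ∃ ψ ∈ F.Hom (P ⊔ S₂), ∀ x : P, ψ (Subgroup.inclusion le_sup_left x) = φ x := by
  have hc : ∀ A ≤ S₁, S₂ ≤ centralizerIn S A := fun A hA b hb =>
    ⟨h₂.1 hb, fun a ha => hprod.2.2.1 a (hA ha) b hb⟩
  have hR : φ.range ≤ S₁ := by rintro _ ⟨x, rfl⟩; exact h₁.2 P hP φ hφ x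
  obtain ⟨Q, hQc, hQ⟩ := exists_fullyNormalized F (hR.trans h₁.1)
  obtain ⟨θ, hθ, hθr⟩ := hQc
  set θ' := θ.comp (φ.codRestrict φ.range fun x => ⟨x, rfl⟩) with hθ'
  have hθ'm : θ' ∈ F.Hom P := F.comp_mem hφ hθ fun x => ⟨x, rfl⟩
  have hθ'r : θ'.range = Q := by
    rw [← hθr]
    refine le_antisymm (by rintro _ ⟨x, rfl⟩; exact ⟨_, rfl⟩) ?_
    rintro _ ⟨⟨_, x, rfl⟩, rfl⟩
    exact ⟨x, rfl⟩
  obtain ⟨ψ₁, hψ₁, h1e⟩ := (fullyNormalized_receptive hS hF hQ).2 P θ' hθ'm hθ'r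
  obtain ⟨ψ₂, hψ₂, h2e⟩ := (fullyNormalized_receptive hS hF hQ).2 φ.range θ hθ hθr
  have hle₁ : P ⊔ S₂ ≤ extender S P θ' :=
    sup_le (le_extender F hθ'm) ((hc P hP).trans (centralizerIn_le_extender θ'))
  have hle₂ : φ.range ⊔ S₂ ≤ extender S φ.range θ :=
    sup_le (le_extender F hθ) ((hc _ hR).trans (centralizerIn_le_extender θ))
  set ν₁ := ψ₁.comp (Subgroup.inclusion hle₁)
  set ν₂ := ψ₂.comp (Subgroup.inclusion hle₂)
  have hν₁ : ν₁ ∈ F.Hom _ := restrict_mem F hψ₁ hle₁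
  have hν₂ : ν₂ ∈ F.Hom _ := restrict_mem F hψ₂ hle₂
  have hQ2 : Q ⊔ S₂ ≤ ν₂.range := sup_le (fun y hy => by
      obtain ⟨x, hx⟩ := hθr.ge hy
      exact ⟨Subgroup.inclusion le_sup_left x, (h2e x x.2 _).trans hx⟩)
    fun y hy => by
      obtain ⟨x, -, hx⟩ := (stronglyClosed_onto h₂ hν₂ le_sup_right).2 y hy
      exact ⟨x, hx⟩
  obtain ⟨μ, hμ, hμe⟩ := F.inv_mem hν₂
  have hv : ∀ x, ν₁ x ∈ ν₂.range := by
    intro x
    refine hQ2 ?_
    suffices h : P ⊔ S₂ ≤ ((Q ⊔ S₂).comap ν₁).map (P ⊔ S₂).subtype by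
      obtain ⟨y, hy, hyx⟩ := h x.2
      rwa [show y = x from Subtype.ext hyx] at hy
    refine sup_le (fun t ht => ⟨⟨t, le_sup_left (b := S₂) ht⟩, ?_, rfl⟩) fun t ht =>
      ⟨⟨t, le_sup_right (a := P) ht⟩, ?_, rfl⟩
    · exact le_sup_left (b := S₂) (hθ'r.le ⟨⟨t, ht⟩, (h1e t ht _).symm⟩)
    · exact le_sup_right (a := Q) ((stronglyClosed_onto h₂ hν₁ le_sup_right).1 _ ht)
  refine ⟨_, F.comp_mem hν₁ hμ hv, fun x => ?_⟩
  show μ ⟨ν₁ (Subgroup.inclusion le_sup_left x), hv _⟩ = φ x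
  have e1 : ν₁ (Subgroup.inclusion le_sup_left x) = ν₂ (Subgroup.inclusion le_sup_left ⟨φ x, x, rfl⟩) :=
    (h1e x x.2 _).trans (h2e (φ x) ⟨x, rfl⟩ _).symm
  exact (apply_congr μ e1 _ ⟨_, rfl⟩).trans (hμe _)

/-- The two systems on a strongly closed direct factor. -/
theorem factor_systems (hS : IsPGroup p S) {F : FusionSystem S} (hF : F.IsSaturated p)
    (hprod : IsInternalDirectProduct S₁ S₂ S) (h₁ : F.StronglyClosed S₁) (h₂ : F.StronglyClosed S₂)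
    {R R' : FusionSystem S₁} (hR : ∀ P ≤ S₁, R.Hom P = F.Hom P)
    (hR' : ∀ P ≤ S₁, R'.Hom P = F.centralizerHom S₂ P) :
    R.IsSaturated p ∧ R'.IsSaturated p ∧ R'.IsNormalIn F p ∧ R'.IsNormalIn R p ∧ R.IsWeaklyNormalIn F p := by
  obtain ⟨hS₁, hS₂, hc, hdis, hsup⟩ := hprod
  have hprod : IsInternalDirectProduct S₁ S₂ S := ⟨hS₁, hS₂, hc, hdis, hsup⟩
  have hC : S₁ ≤ centralizerIn S S₂ := centralizes_of_product hc hS₁
  have hind : ∀ Q ≤ S₁, autInducedBy S Q ≤ autInducedBy S₁ Q := by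
    intro Q hQ a ha
    obtain ⟨g, hg, hge⟩ := (mem_autInducedBy_iff a).1 ha
    obtain ⟨u, hu, b, hb, rfl⟩ := exists_decomp hprod hg
    refine (mem_autInducedBy_iff a).2 ⟨u, hu, fun x => ?_⟩
    rw [hge, mul_assoc u b, ← hc x (hQ x.2) b hb]
    group
  have hRs := fullSub_saturated hS hF h₁ hR hind
  haveI := finite_of_le h₂.1
  have hS₂fn : F.IsFullyNormalized S₂ := ⟨hS₂, fun Q ⟨θ, hθ, hθr⟩ => by
    have he : Q = S₂ := by
      subst hθr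
      exact Subgroup.eq_of_le_of_card_ge (by rintro _ ⟨x, rfl⟩; exact h₂.2 S₂ le_rfl θ hθ x)
        (isConj_card ⟨θ, hθ, rfl⟩).le
    subst he
    exact le_rfl⟩
  obtain ⟨Cs, hCs⟩ : ∃ Cs : FusionSystem (centralizerIn S S₂), F.IsCentralizerSystem S₂ Cs :=
    ⟨_, centSystem_spec F hS₂⟩
  haveI := finite_of_le (centralizerIn_le S S₂)
  have hR's : R'.IsSaturated p := by
    refine fullSub_saturated (S := centralizerIn S S₂) (hS.to_le (centralizerIn_le S S₂))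
      (centralizerSystem_saturated hS hF (fullyNormalized_imp hS hF hS₂fn).1 Cs hCs)
      ⟨hC, fun P hP φ hφ x => h₁.2 P hP φ ((hCs P ▸ hφ : φ ∈ F.centralizerHom S₂ P)).1 x⟩
      (fun P hP => (hR' P hP).trans (hCs P).symm)
      (fun Q hQ => (autInducedBy_mono (centralizerIn_le S S₂)).trans (hind Q hQ))
  have hsub : R.IsSubsystemOf F := fun P φ hφ => hR P (hom_le R hφ) ▸ hφ
  have hsub' : R'.IsSubsystemOf F := fun P φ hφ =>
    ((hR' P (hom_le R' hφ)) ▸ hφ : φ ∈ F.centralizerHom S₂ P).1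
  have hsubR : R'.IsSubsystemOf R := fun P φ hφ => by rw [hR P (hom_le R' hφ)]; exact hsub' P hφ
  have hautR : R.autGroup S₁ = F.autGroup S₁ := by
    ext α
    rw [mem_autGroup_iff R le_rfl, mem_autGroup_iff F hS₁, hR S₁ le_rfl]
  have hclR : R.StronglyClosed S₁ := ⟨le_rfl, fun P _ φ hφ x => hom_apply_mem R hφ x⟩
  -- automorphisms of the first factor extend
  have hAI : AutInvariant F R' := by
    intro P hP φ hφ α hα
    rw [hR' P hP] at hφ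
    obtain ⟨-, -, -, ψ, hψ, hψP, hψQ⟩ := hφ
    obtain ⟨β, hβ, hβe⟩ := extend_factor hS hF hprod h₁ h₂ le_rfl ((mem_autGroup_iff F hS₁ α).1 hα)
    obtain ⟨β', hβ', hβ'e⟩ := F.inv_mem hβ
    set A := (P.subgroupOf S₁).map (S₁.subtype.comp α.toMonoidHom) with hA
    have hA1 : A ≤ S₁ := by rintro _ ⟨x, -, rfl⟩; exact (α x).2
    have hPS : P ⊔ S₂ ≤ S₁ ⊔ S₂ := sup_le_sup_right hP _
    have hmem : A ⊔ S₂ ≤ ((P ⊔ S₂).subgroupOf (S₁ ⊔ S₂)).map β := by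
      refine sup_le ?_ fun z hz => ?_
      · rintro _ ⟨x, hx, rfl⟩
        exact ⟨Subgroup.inclusion le_sup_left x, le_sup_left (b := S₂) hx, hβe x⟩
      · obtain ⟨y, hy, rfl⟩ := (stronglyClosed_onto h₂ hβ le_sup_right).2 z hz
        exact ⟨y, le_sup_right (a := P) hy, rfl⟩
    have hr : A ⊔ S₂ ≤ β.range := fun z hz => by
      obtain ⟨y, -, hy⟩ := hmem hz
      exact ⟨y, hy⟩
    have hv : ∀ z, β'.comp (Subgroup.inclusion hr) z ∈ P ⊔ S₂ := fun z => by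
      obtain ⟨y, hy, hyz⟩ := hmem z.2
      have h := hβ'e y
      rw [show (⟨β y, y, rfl⟩ : β.range) = Subgroup.inclusion hr z from Subtype.ext hyz] at h
      exact h.symm ▸ hy
    have h1 := F.comp_mem (restrict_mem F hβ' hr) hψ hv
    have hv2 : ∀ z, (ψ.comp ((β'.comp (Subgroup.inclusion hr)).codRestrict _ hv)) z ∈ S₁ ⊔ S₂ :=
      fun z => hsup.ge (hom_apply_mem F h1 z)
    have h2 := F.comp_mem h1 hβ hv2
    set ν := β.comp ((ψ.comp ((β'.comp (Subgroup.inclusion hr)).codRestrict _ hv)).codRestrict _ hv2)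
    have hval : ∀ (x : P) (hφx : φ x ∈ S₁) (h : ((α ⟨x, hP x.2⟩ : S₁) : Ω) ∈ A ⊔ S₂),
        ν ⟨_, h⟩ = ((α ⟨φ x, hφx⟩ : S₁) : Ω) := by
      intro x hφx h
      show β ⟨ψ ⟨β' ⟨_, hr h⟩, hv ⟨_, h⟩⟩, hv2 ⟨_, h⟩⟩ = _
      have e1 : β' ⟨_, hr h⟩ = x := by
        have := hβ'e (Subgroup.inclusion le_sup_left (⟨x, hP x.2⟩ : S₁))
        exact (apply_congr β' (hβe ⟨x, hP x.2⟩).symm _ ⟨_, rfl⟩).trans this
      have e2 : ψ ⟨β' ⟨_, hr h⟩, hv ⟨_, h⟩⟩ = φ x :=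
        (apply_congr ψ e1 _ (le_sup_left (b := S₂) x.2)).trans (hψP x)
      exact (apply_congr β e2 _ (le_sup_left (b := S₂) hφx)).trans (hβe ⟨φ x, hφx⟩)
    have h3 := restrict_mem F h2 (le_sup_left : A ≤ A ⊔ S₂)
    refine ⟨ν.comp (Subgroup.inclusion le_sup_left), ?_, fun x hφx hαx => hval x hφx _⟩
    rw [hR' A hA1]
    refine ⟨h3, hA1.trans hC, fun z => hC (h₁.2 A hA1 _ h3 z), ν, h2, fun _ => rfl, fun s => ?_⟩
    obtain ⟨y, hy, hys⟩ := (stronglyClosed_onto h₂ hβ le_sup_right).2 s s.2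
    show β ⟨ψ ⟨β' ⟨(s : Ω), hr (le_sup_right (a := A) s.2)⟩, hv ⟨(s : Ω), le_sup_right (a := A) s.2⟩⟩,
      hv2 ⟨(s : Ω), le_sup_right (a := A) s.2⟩⟩ = s
    have e1 : β' ⟨(s : Ω), hr (le_sup_right (a := A) s.2)⟩ = y :=
      (apply_congr β' hys.symm _ ⟨_, rfl⟩).trans (hβ'e y)
    have e2 : ψ ⟨β' ⟨(s : Ω), hr (le_sup_right (a := A) s.2)⟩, hv ⟨(s : Ω), le_sup_right (a := A) s.2⟩⟩ = y :=
      (apply_congr ψ e1 _ (le_sup_right (a := P) hy)).trans (hψQ ⟨y, hy⟩)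
    exact (apply_congr β e2 _ y.2).trans hys
  have hfr : ∀ P, P ≤ S₁ → ∀ φ ∈ F.Hom P, FrattiniMap F R' P φ := by
    intro P hP φ hφ
    obtain ⟨ψ, hψ, hψe⟩ := extend_factor hS hF hprod h₁ h₂ hP hφ
    have hres := restrict_mem F hψ (le_sup_right : S₂ ≤ P ⊔ S₂)
    have hr : (ψ.comp (Subgroup.inclusion le_sup_right)).range = S₂ := Subgroup.eq_of_le_of_card_ge
      (by rintro _ ⟨x, rfl⟩; exact h₂.2 S₂ le_rfl _ hres x) (isConj_card ⟨_, hres, rfl⟩).le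
    obtain ⟨δ, hδ, hδe⟩ := (fullyNormalized_receptive hS hF hS₂fn).2 S₂ _ hres hr
    have hle : S ≤ extender S S₂ (ψ.comp (Subgroup.inclusion le_sup_right)) := fun g hg => by
      obtain ⟨u, hu, b, hb, rfl⟩ := exists_decomp hprod hg
      exact Subgroup.mul_mem _ (centralizerIn_le_extender _ (hC hu)) (le_extender F hres hb)
    set β := δ.comp (Subgroup.inclusion hle)
    have hβ : β ∈ F.Hom S := restrict_mem F hδ hle
    have hrβ : β.range = S := Subgroup.eq_of_le_of_card_ge (range_le F hβ) (isConj_card ⟨β, hβ, rfl⟩).le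
    have hres1 := restrict_mem F hβ hS₁
    haveI := finite_of_le hS₁
    have hr1 : (β.comp (Subgroup.inclusion hS₁)).range = S₁ := Subgroup.eq_of_le_of_card_ge
      (by rintro _ ⟨x, rfl⟩; exact h₁.2 S₁ le_rfl _ hres1 x) (isConj_card ⟨_, hres1, rfl⟩).le
    obtain ⟨α, hα, hαe⟩ := exists_autGroup_of_range F hres1 hr1
    obtain ⟨β', hβ', hβ'e⟩ := F.inv_mem hβ
    have hv : ∀ x, ψ x ∈ β.range := fun x => hrβ.ge (hom_apply_mem F hψ x)
    have h1 := F.comp_mem hψ hβ' hv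
    set ν := β'.comp (ψ.codRestrict β.range hv)
    have h0 := restrict_mem F h1 (le_sup_left : P ≤ P ⊔ S₂)
    refine ⟨α, hα, ν.comp (Subgroup.inclusion le_sup_left), ?_, fun x hx => ?_⟩
    · rw [hR' P hP]
      refine ⟨h0, hP.trans hC, fun z => hC (h₁.2 P hP _ h0 z), ν, h1, fun _ => rfl, fun s => ?_⟩
      show β' ⟨ψ _, hv _⟩ = s
      have e : ψ (Subgroup.inclusion le_sup_right s) = β ⟨s, hS₂ s.2⟩ := (hδe s s.2 _).symm
      exact (apply_congr β' e _ ⟨_, rfl⟩).trans (hβ'e _)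
    · rw [hαe]
      show φ x = β ⟨β' ⟨ψ (Subgroup.inclusion le_sup_left x), hv _⟩, hS₁ hx⟩
      obtain ⟨y, hy⟩ := hv (Subgroup.inclusion le_sup_left x)
      have e : β' ⟨ψ (Subgroup.inclusion le_sup_left x), hv _⟩ = y :=
        (apply_congr β' hy.symm _ ⟨_, rfl⟩).trans (hβ'e y)
      rw [apply_congr β e _ y.2, hy, hψe]
  refine ⟨hRs, hR's, ⟨⟨hR's, hF, hsub', h₁, hAI, hfr⟩, ?_⟩, ⟨⟨hR's, hRs, hsubR, hclR, ?_, ?_⟩, ?_⟩,
    hRs, hF, hsub, h₁, ?_, ?_⟩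
  · -- extension into `F`
    intro α hα
    have hαm := (mem_autGroup_iff R' le_rfl α).1 hα
    rw [hR' S₁ le_rfl] at hαm
    obtain ⟨-, -, -, ψ, hψ, hψ1, hψ2⟩ := hαm
    set N := S₁ ⊔ centralizerIn S S₁
    have hNS : N ≤ S := sup_le hS₁ (centralizerIn_le S S₁)
    haveI := finite_of_le hNS
    have hN : N = S := le_antisymm hNS (hsup.symm.le.trans (sup_le_sup_left
      (fun b hb => ⟨hS₂ hb, fun a ha => hc a ha b hb⟩) _))
    have hle : N ≤ S₁ ⊔ S₂ := hNS.trans hsup.ge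
    have hνm := restrict_mem F hψ hle
    have hrν : (ψ.comp (Subgroup.inclusion hle)).range = N := Subgroup.eq_of_le_of_card_ge
      ((range_le F hνm).trans hN.ge) (isConj_card ⟨_, hνm, rfl⟩).le
    obtain ⟨β, hβ, hβe⟩ := exists_autGroup_of_range F hνm hrν
    refine ⟨β, hβ, fun x => (hβe _).trans (hψ1 x), fun c hc' => ?_⟩
    obtain ⟨z, hz, s, hs, hzs⟩ := exists_decomp hprod (hNS c.2)
    have hzc : z ∈ Subgroup.centralizer (S₁ : Set Ω) := by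
      rw [show z = (c : Ω) * s⁻¹ by rw [hzs, mul_inv_cancel_right]]
      exact Subgroup.mul_mem _ hc'.2 (Subgroup.inv_mem _ fun a ha => hc a ha s hs)
    have hβc : ((β c : N) : Ω) = ((α ⟨z, hz⟩ : S₁) : Ω) * s := by
      rw [hβe]
      show ψ (Subgroup.inclusion hle c) = _
      rw [show Subgroup.inclusion hle c = Subgroup.inclusion le_sup_left (⟨z, hz⟩ : S₁) *
        Subgroup.inclusion le_sup_right (⟨s, hs⟩ : S₂) from Subtype.ext hzs, map_mul, hψ1, hψ2]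
      rfl
    have key : (c : Ω)⁻¹ * ((β c : N) : Ω) = z⁻¹ * (α ⟨z, hz⟩ : S₁) := by
      rw [hβc, hzs, mul_inv_rev, mul_assoc,
        show z⁻¹ * ((α ⟨z, hz⟩ : Ω) * s) = (z⁻¹ * (α ⟨z, hz⟩ : Ω)) * s from (mul_assoc _ _ _).symm,
        hc _ (S₁.mul_mem (S₁.inv_mem hz) (α ⟨z, hz⟩).2) s hs, inv_mul_cancel_left]
    rw [key]
    refine ⟨S₁.mul_mem (S₁.inv_mem hz) (α ⟨z, hz⟩).2, Subgroup.mul_mem _ (Subgroup.inv_mem _ hzc) fun a ha => ?_⟩
    obtain ⟨u, hu⟩ := α.surjective ⟨a, ha⟩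
    have h : u * ⟨z, hz⟩ = ⟨z, hz⟩ * u := Subtype.ext (hzc u u.2)
    have h' := congrArg (fun w => ((α w : S₁) : Ω)) h
    simpa only [map_mul, Subgroup.coe_mul, hu] using h'
  · exact fun P hP φ hφ α hα => hAI P hP φ hφ α (hautR ▸ hα)
  · intro P hP φ hφ
    obtain ⟨α, hα, φ₀, hφ₀, he⟩ := hfr P hP φ (hsub P hφ)
    exact ⟨α, hautR.symm ▸ hα, φ₀, hφ₀, he⟩
  · -- extension into `R`
    intro α hα
    set N := S₁ ⊔ centralizerIn S₁ S₁
    have hN : N = S₁ := le_antisymm (sup_le le_rfl (centralizerIn_le S₁ S₁)) le_sup_left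
    have hαm := (mem_autGroup_iff R le_rfl α).1 (autGroup_mono hsubR S₁ hα)
    haveI := finite_of_le (hN.le.trans hS₁)
    have hνm := restrict_mem R hαm hN.le
    have hrν : ((S₁.subtype.comp α.toMonoidHom).comp (Subgroup.inclusion hN.le)).range = N :=
      Subgroup.eq_of_le_of_card_ge ((range_le R hνm).trans hN.ge) (isConj_card ⟨_, hνm, rfl⟩).le
    obtain ⟨β, hβ, hβe⟩ := exists_autGroup_of_range R hνm hrν
    refine ⟨β, hβ, fun x => hβe _, fun c hc' => ?_⟩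
    rw [hβe]
    refine ⟨S₁.mul_mem (S₁.inv_mem hc'.1) (α _).2, Subgroup.mul_mem _ (Subgroup.inv_mem _ hc'.2) fun a ha => ?_⟩
    obtain ⟨u, hu⟩ := α.surjective ⟨a, ha⟩
    have h : u * ⟨c, hc'.1⟩ = ⟨c, hc'.1⟩ * u := Subtype.ext (hc'.2 u u.2)
    have h' := congrArg (fun w => ((α w : S₁) : Ω)) h
    show a * (α ⟨c, hc'.1⟩ : Ω) = (α ⟨c, hc'.1⟩ : Ω) * a
    simpa only [map_mul, Subgroup.coe_mul, hu] using h'
  · intro P hP φ hφ α hα
    set A := (P.subgroupOf S₁).map (S₁.subtype.comp α.toMonoidHom) with hA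
    have hA1 : A ≤ S₁ := by rintro _ ⟨x, -, rfl⟩; exact (α x).2
    have hαm := (mem_autGroup_iff R le_rfl α).1 (hautR.symm ▸ hα)
    obtain ⟨θ, hθ, hθe⟩ := R.inv_mem hαm
    have hle : A ≤ (S₁.subtype.comp α.toMonoidHom).range := by rintro _ ⟨x, -, rfl⟩; exact ⟨x, rfl⟩
    have hv : ∀ y, θ.comp (Subgroup.inclusion hle) y ∈ P := by
      rintro ⟨_, x, hx, rfl⟩
      exact (hθe x).symm ▸ hx
    have h1 := R.comp_mem (restrict_mem R hθ hle) hφ hv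
    refine ⟨_, R.comp_mem h1 hαm fun y => hom_apply_mem R h1 y, fun x hφx hαx => ?_⟩
    refine congrArg (fun z : S₁ => ((α z : S₁) : Ω)) (Subtype.ext ?_)
    exact apply_congr φ (hθe ⟨x, hP x.2⟩) _ x.2
  · intro P hP φ hφ
    obtain ⟨α, hα, φ₀, hφ₀, he⟩ := hfr P hP φ hφ
    exact ⟨α, hα, φ₀, hsubR P hφ₀, he⟩

end Cfsg.Agent.FusionSys
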