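import Cfsg.Agent.Lib.Fusion.PlaneFrame
import Cfsg.Agent.Lib.Qd.RankTwo
import Cfsg.Agent.Lib.Isolated.RankOne
import Cfsg.Agent.Lib.Transfer.PGroup
import Mathlib.GroupTheory.FixedPointFree
import Cfsg.Prelude.Def_FusionSystem

/-!
The structure of a `p`-group of rank at most two whose automorphism group is far from a `p`-closed one.
-/

set_option autoImplicit false
set_option linter.style.haveILetI false
set_option maxHeartbeats 1000000

open scoped commutatorElement

namespace Cfsg.Agent.RankTwoEss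

open Cfsg.Agent.PlaneFrame

variable {p : ℕ} [hp : Fact p.Prime] {G : Type*} [Group G] [Finite G]

/-- An elementary abelian group of order `p²`. -/
theorem base_elementary (hcard : Nat.card G = p ^ 2) (hexp : ∀ x : G, x ^ p = 1) :
    Base p (⊥ : Subgroup G) ⊤ := by
  letI := IsPGroup.commGroupOfCardEqPrimeSq hcard
  have hgen : ∀ l m : G, l ∉ (⊥ : Subgroup G) → (∀ i : ℤ, (l ^ i)⁻¹ * m ∉ (⊥ : Subgroup G)) →
      Indep l m := fun l m hl hm => by
    refine ⟨by simpa using hl, fun h => ?_⟩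
    obtain ⟨i, hi⟩ := h
    exact hm i (Subgroup.mem_bot.2 (inv_mul_eq_one.2 hi))
  exact
    { char := inferInstance
      central := bot_le
      cyc := inferInstance
      idx := by rw [Subgroup.index_bot, hcard]
      comm := fun a b => Subgroup.mem_bot.2 (commutatorElement_eq_one_iff_mul_comm.2 (mul_comm a b))
      wexp := fun x _ => hexp x
      omega := fun x _ => trivial
      lift := fun g => ⟨g, trivial, by simp⟩
      gen := fun l _ m _ hl hm x _ => by
        obtain ⟨i, j, rfl⟩ := span hcard (hgen l m hl hm) x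
        exact mul_mem (zpow_mem (Subgroup.subset_closure (by simp)) i)
          (zpow_mem (Subgroup.subset_closure (by simp)) j)
      meet := fun _ _ _ _ _ _ c hc _ => by rw [Subgroup.mem_bot.1 hc]; exact one_mem _ }

/-- Two non-commuting elements of a group of order `p³` generate it. -/
theorem closure_pair_eq_top (hcard : Nat.card G = p ^ 3) {a b : G} (hab : a * b ≠ b * a) :
    Subgroup.closure ({a, b} : Set G) = ⊤ := by
  set U := Subgroup.closure ({a, b} : Set G) with hU
  have ha : a ∈ U := Subgroup.subset_closure (by simp)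
  have hb : b ∈ U := Subgroup.subset_closure (by simp)
  obtain ⟨j, hj⟩ := IsPGroup.iff_card.1 ((IsPGroup.of_card hcard).to_subgroup U)
  have hj2 : ¬ j ≤ 2 := by
    intro hj2
    apply hab
    interval_cases j
    · have h1 : a ∈ (⊥ : Subgroup G) := (Subgroup.card_eq_one.1 (hj.trans (pow_zero p))) ▸ ha
      rw [Subgroup.mem_bot.1 h1, one_mul, mul_one]
    · haveI : IsCyclic U := isCyclic_of_prime_card (hj.trans (pow_one p))
      exact congrArg Subtype.val ((IsCyclic.commutative (α := U)).is_comm.comm ⟨a, ha⟩ ⟨b, hb⟩)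
    · letI := IsPGroup.commGroupOfCardEqPrimeSq hj
      exact congrArg Subtype.val (mul_comm (⟨a, ha⟩ : U) ⟨b, hb⟩)
  exact Subgroup.eq_top_of_le_card _ (by rw [hcard, hj]; exact Nat.pow_le_pow_right hp.out.pos (by omega))

/-- An extraspecial group of order `p³` and exponent `p`. -/
theorem base_extraspecial (hcard : Nat.card G = p ^ 3) (hexp : ∀ x : G, x ^ p = 1)
    (hna : ∃ a b : G, a * b ≠ b * a) :
    Base p (Subgroup.center G) ⊤ ∧ Nat.card (Subgroup.center G) = p ∧
      ∀ l m : G, l ∉ Subgroup.center G → (∀ i : ℤ, (l ^ i)⁻¹ * m ∉ Subgroup.center G) → ⁅l, m⁆ ≠ 1 := by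
  obtain ⟨a, b, hab⟩ := hna
  haveI : Nontrivial G := ⟨⟨a * b, b * a, hab⟩⟩
  have hG := IsPGroup.of_card hcard
  set Z := Subgroup.center G with hZdef
  have hlt : ∀ {S T : Subgroup G}, S < T → ∀ i j : ℕ, Nat.card S = p ^ i → Nat.card T = p ^ j → i < j := by
    intro S T h i j hi hj
    have := lt_of_le_of_ne (Subgroup.card_le_of_le h.le)
      fun e => h.ne (Subgroup.eq_of_le_of_card_ge h.le e.ge)
    rw [hi, hj] at this
    exact (Nat.pow_lt_pow_iff_right hp.out.one_lt).1 this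
  obtain ⟨i, hi⟩ := IsPGroup.iff_card.1 (hG.to_subgroup Z)
  obtain ⟨j, hj⟩ := IsPGroup.iff_card.1 (hG.to_subgroup (Subgroup.centralizer ({a} : Set G)))
  have hi0 : i ≠ 0 := fun e => hG.bot_lt_center.ne' (Subgroup.card_eq_one.1 (by rw [← hZdef, hi, e, pow_zero]))
  have h1 : Z < Subgroup.centralizer ({a} : Set G) := lt_of_le_of_ne (Subgroup.center_le_centralizer _)
    fun e => hab (by
      have haZ : a ∈ Z := by rw [e]; exact Subgroup.mem_centralizer_singleton_iff.2 rfl
      exact (Subgroup.mem_center_iff.1 haZ b).symm)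
  have h2 : Subgroup.centralizer ({a} : Set G) < ⊤ := lt_top_iff_ne_top.2 fun e =>
    hab (Subgroup.mem_centralizer_singleton_iff.1 (e ▸ Subgroup.mem_top b)).symm
  have hij := hlt h1 i j hi hj
  have hj3 := hlt h2 j 3 hj (Subgroup.card_top.trans hcard)
  have hi1 : i = 1 := by omega
  subst hi1
  rw [pow_one] at hi
  have hidx : Z.index = p ^ 2 := by
    refine Nat.eq_of_mul_eq_mul_left hp.out.pos ?_
    conv_lhs => rw [← hi, Subgroup.card_mul_index, hcard]
    rw [← pow_succ']
  have hquot : Nat.card (G ⧸ Z) = p ^ 2 := by rw [← Subgroup.index_eq_card, hidx]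
  letI := IsPGroup.commGroupOfCardEqPrimeSq hquot
  have hne : ∀ l m : G, l ∉ Z → (∀ i : ℤ, (l ^ i)⁻¹ * m ∉ Z) → ⁅l, m⁆ ≠ 1 := by
    intro l m hl hm h
    rw [commutatorElement_eq_one_iff_mul_comm] at h
    obtain ⟨h1, h2⟩ := (indep_iff l m).2 ⟨hl, hm⟩
    refine hl (Subgroup.mem_center_iff.2 fun g => ?_)
    obtain ⟨x, y, hxy⟩ := span hquot (⟨h1, h2⟩ : Indep (l : G ⧸ Z) m) (g : G ⧸ Z)
    rw [← QuotientGroup.mk_zpow, ← QuotientGroup.mk_zpow, ← QuotientGroup.mk_mul] at hxy
    have hg := QuotientGroup.eq.1 hxy.symm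
    rw [← mul_inv_cancel_left (l ^ x * m ^ y) g]
    exact (((Commute.refl l).zpow_right x).mul_right ((show Commute l m from h).zpow_right y)).mul_right
      (Subgroup.mem_center_iff.1 hg l) |>.eq.symm
  refine ⟨?_, hi, hne⟩
  haveI : Fact (Nat.card Z).Prime := ⟨hi ▸ hp.out⟩
  exact
    { char := inferInstance
      central := le_rfl
      cyc := isCyclic_of_prime_card hi
      idx := hidx
      comm := fun a b => by
        rw [← QuotientGroup.eq_one_iff, ← QuotientGroup.mk'_apply, map_commutatorElement,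
          commutatorElement_eq_one_iff_mul_comm]
        exact mul_comm _ _
      wexp := fun x _ => hexp x
      omega := fun x _ => trivial
      lift := fun g => ⟨g, trivial, by simp⟩
      gen := fun l _ m _ hl hm => by
        rw [closure_pair_eq_top hcard fun h => hne l m hl hm (commutatorElement_eq_one_iff_mul_comm.2 h)]
      meet := fun l _ m _ hl hm c hc _ => by
        have hcz : ⁅l, m⁆ ∈ Z := by
          rw [← QuotientGroup.eq_one_iff, ← QuotientGroup.mk'_apply, map_commutatorElement,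
            commutatorElement_eq_one_iff_mul_comm]
          exact mul_comm _ _
        obtain ⟨i, hi'⟩ := Subgroup.mem_zpowers_iff.1 (mem_zpowers_of_prime_card (G := Z) rfl
          (g := ⟨⁅l, m⁆, hcz⟩) (fun e => hne l m hl hm (congrArg Subtype.val e)) (g' := ⟨c, hc⟩))
        exact ⟨i, by simpa using congrArg Subtype.val hi'⟩ }

variable {C W : Subgroup G}

/-- An automorphism trivial on the quotient is inner when the plane is not abelian. -/
theorem inner_of_quot (hB : Base p C W) [C.Characteristic] {l m : G} (hl : l ∈ W) (hlC : l ∉ C)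
    (hm : m ∈ W) (hind : ∀ i : ℤ, (l ^ i)⁻¹ * m ∉ C) {γ : MulAut G} (hγ : quot (C := C) γ = 1) :
    ∃ e ∈ Subgroup.closure ({l, m} : Set G), γ l = e * l * e⁻¹ ∧ γ m = e * m * e⁻¹ := by
  have hmem : ∀ x : G, x⁻¹ * γ x ∈ C := fun x =>
    QuotientGroup.eq.1 (DFunLike.congr_fun hγ (x : G ⧸ C)).symm
  have hcp : ∀ x ∈ W, (x⁻¹ * γ x) ^ p = 1 := fun x hx => by
    have h := Commute.mul_pow
      (Subgroup.mem_center_iff.1 (hB.central (hmem x)) x : Commute x (x⁻¹ * γ x)) p
    rw [mul_inv_cancel_left, ← map_pow, hB.wexp x hx, map_one, one_mul] at h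
    exact h.symm
  obtain ⟨i, hi⟩ := hB.meet l hl m hm hlC hind _ (hmem l) (hcp l hl)
  obtain ⟨j, hj⟩ := hB.meet l hl m hm hlC hind _ (hmem m) (hcp m hm)
  refine ⟨m ^ (-i) * l ^ j, mul_mem (zpow_mem (Subgroup.subset_closure (by simp)) _)
    (zpow_mem (Subgroup.subset_closure (by simp)) _), ?_, ?_⟩
  · have h : ⁅m ^ (-i) * l ^ j, l⁆ = ⁅l, m⁆ ^ i := by
      rw [hB.comm_mul_left, hB.comm_zpow_left, hB.comm_zpow_left, commutatorElement_self, one_zpow,
        mul_one, ← commutatorElement_inv l m, inv_zpow', neg_neg]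
    rw [show m ^ (-i) * l ^ j * l * (m ^ (-i) * l ^ j)⁻¹ = ⁅m ^ (-i) * l ^ j, l⁆ * l by
      rw [commutatorElement_def]; group, h, ← Subgroup.mem_center_iff.1 (hB.central (zpow_mem (hB.comm l m) i)) l,
      show ⁅l, m⁆ ^ i = l⁻¹ * γ l from hi, mul_inv_cancel_left]
  · have h : ⁅m ^ (-i) * l ^ j, m⁆ = ⁅l, m⁆ ^ j := by
      rw [hB.comm_mul_left, hB.comm_zpow_left, hB.comm_zpow_left, commutatorElement_self, one_zpow, one_mul]
    rw [show m ^ (-i) * l ^ j * m * (m ^ (-i) * l ^ j)⁻¹ = ⁅m ^ (-i) * l ^ j, m⁆ * m by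
      rw [commutatorElement_def]; group, h, ← Subgroup.mem_center_iff.1 (hB.central (zpow_mem (hB.comm l m) j)) m,
      show ⁅l, m⁆ ^ j = m⁻¹ * γ m from hj, mul_inv_cancel_left]

/-- A common fixed line of a `p`-group of automorphisms. -/
theorem exists_fixed_line (hB : Base p C W) [C.Characteristic] (R : Subgroup (MulAut G))
    (hR : IsPGroup p R) : ∃ l ∈ W, l ∉ C ∧ ∀ u ∈ R, quot u (l : G ⧸ C) = l := by
  let f : R →* MulAut (G ⧸ C) := (quot (C := C)).comp R.subtype
  letI : MulAction R (G ⧸ C) := MulAction.compHom _ f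
  have hsm : ∀ (u : R) (v : G ⧸ C), u • v = quot (u : MulAut G) v := fun _ _ => rfl
  have h1 : (1 : G ⧸ C) ∈ MulAction.fixedPoints R (G ⧸ C) := fun u => by rw [hsm, map_one]
  have hdvd : p ∣ Nat.card (G ⧸ C) := by rw [hB.quot_card]; exact dvd_pow_self p two_ne_zero
  obtain ⟨v, hv, hne⟩ := hR.exists_fixed_point_of_prime_dvd_card_of_fixed_point (G ⧸ C) hdvd h1
  obtain ⟨g, rfl⟩ := QuotientGroup.mk_surjective v
  obtain ⟨w, hw, hwC⟩ := hB.lift g
  rw [QuotientGroup.eq.2 hwC] at hv hne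
  exact ⟨w, hw, fun h => hne ((QuotientGroup.eq_one_iff w).2 h).symm, fun u hu => hv ⟨u, hu⟩⟩

/-- A transvection and an automorphism moving its line give a torus element. -/
theorem exists_torus_frame (hB : Base p C W) [C.Characteristic] (h5 : 5 ≤ p) (A : Subgroup (MulAut G))
    {l : G} (hlC : l ∉ C) {u : MulAut G} (huA : u ∈ A) (hul : quot u (l : G ⧸ C) = l) {k : ℕ}
    (huk : u ^ p ^ k = 1) (hu1 : quot (C := C) u ≠ 1) {α : MulAut G} (hα : α ∈ A)
    (hmove : quot α (l : G ⧸ C) ∉ Subgroup.zpowers (l : G ⧸ C)) :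
    ∃ m ∈ W, (∀ i : ℤ, (l ^ i)⁻¹ * m ∉ C) ∧
      (∃ t ∈ A, quot t (l : G ⧸ C) = (l : G ⧸ C) ^ (2 : ℤ) ∧
        quot t (m : G ⧸ C) = (m : G ⧸ C) ^ (((p + 1) / 2 : ℕ) : ℤ)) ∧
      ∃ n ∈ A, quot n (l : G ⧸ C) = (l : G ⧸ C)⁻¹ ∧ quot n (m : G ⧸ C) = (m : G ⧸ C)⁻¹ := by
  letI := commGroupQuot hB
  obtain ⟨g, hg⟩ := QuotientGroup.mk_surjective (quot α (l : G ⧸ C))
  obtain ⟨m, hm, hmC⟩ := hB.lift g
  have hmα : (m : G ⧸ C) = quot α (l : G ⧸ C) := (QuotientGroup.eq.2 hmC).symm.trans hg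
  have hlq : (l : G ⧸ C) ≠ 1 := by rwa [Ne, QuotientGroup.eq_one_iff]
  have hI : Indep (l : G ⧸ C) (m : G ⧸ C) := ⟨hlq, by rwa [hmα]⟩
  have hind := ((indep_iff l m).1 hI).2
  refine ⟨m, hm, hind, ?_⟩
  have hu := hB.trans_of_pow hlC hul huk
  obtain ⟨i, hi⟩ := Subgroup.mem_zpowers_iff.1 (hu.2 (m : G ⧸ C))
  have hum : quot u (m : G ⧸ C) = (m : G ⧸ C) * (l : G ⧸ C) ^ i := by rw [hi, mul_inv_cancel_left]
  set v := α * u * α⁻¹ with hv
  have hmC' : m ∉ C := fun h => hI.right_ne_one ((QuotientGroup.eq_one_iff m).2 h)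
  have hvm : quot v (m : G ⧸ C) = m := by
    rw [hv, map_mul, map_mul, MulAut.mul_apply, MulAut.mul_apply, map_inv, hmα,
      show (quot α)⁻¹ (quot α (l : G ⧸ C)) = l from (quot α).symm_apply_apply _, hul]
  have hvt := hB.trans_of_pow hmC' hvm (k := k) (by rw [hv, conj_pow, huk, mul_one, mul_inv_cancel])
  obtain ⟨j, hj⟩ := Subgroup.mem_zpowers_iff.1 (hvt.2 (l : G ⧸ C))
  have hvl : quot v (l : G ⧸ C) = (l : G ⧸ C) * (m : G ⧸ C) ^ j := by rw [hj, mul_inv_cancel_left]
  have hext : ∀ w : MulAut G, quot w (l : G ⧸ C) = l → quot w (m : G ⧸ C) = m → quot (C := C) w = 1 :=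
    fun w h1 h2 => MulEquiv.ext fun x => by
      obtain ⟨a, b, rfl⟩ := span hB.quot_card hI x
      rw [apply_span, h1, h2]
      rfl
  have hi0 : (i : ZMod p) ≠ 0 := fun h0 => hu1 (hext u hul (by
    rw [hum, zpow_congr (hB.quot_exp _) (j := 0) (by simpa using h0), zpow_zero, mul_one]))
  have hj0 : (j : ZMod p) ≠ 0 := fun h0 => hu1 (by
    have h := hext v (by rw [hvl, zpow_congr (hB.quot_exp _) (j := 0) (by simpa using h0), zpow_zero, mul_one]) hvm
    rw [hv, map_mul, map_mul, map_inv, mul_inv_eq_one] at h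
    exact mul_left_cancel (h.trans (mul_one _).symm))
  obtain ⟨⟨t, ht1, ht2⟩, ⟨n, hn1, hn2⟩⟩ := exists_torus ((quot (C := C)).comp A.subtype) hB.quot_exp h5
    (l := (l : G ⧸ C)) (m := (m : G ⧸ C)) ⟨u, huA⟩ ⟨v, mul_mem (mul_mem hα huA) (inv_mem hα)⟩
    hi0 hj0 hul hum hvm hvl
  exact ⟨⟨t, t.2, ht1, ht2⟩, ⟨n, n.2, hn1, hn2⟩⟩

/-- A normalized `p`-group of automorphisms is trivial on the plane unless the commutator is a `p`-group. -/
theorem quot_eq_one_of_normal (hB : Base p C W) [C.Characteristic] (h2 : p ≠ 2) (hG : IsPGroup p G)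
    (A : Subgroup (MulAut G)) (hA : ¬ IsPGroup p (commutator A)) (R : Subgroup (MulAut G))
    (hR : IsPGroup p R) (hnorm : ∀ a ∈ A, ∀ r ∈ R, a⁻¹ * r * a ∈ R) : ∀ u ∈ R, quot (C := C) u = 1 := by
  letI := commGroupQuot hB
  obtain ⟨l, hl, hlC, hfix⟩ := exists_fixed_line hB R hR
  intro u hu
  by_contra hu1
  refine hA (hB.isPGroup_commutator h2 hG hl hlC A fun a ha => ?_)
  by_contra hmove
  have hlq : (l : G ⧸ C) ≠ 1 := by rwa [Ne, QuotientGroup.eq_one_iff]
  have h1 := hfix _ (hnorm a ha u hu)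
  rw [map_mul, map_mul, MulAut.mul_apply, MulAut.mul_apply, map_inv] at h1
  have h2 := congrArg (quot (C := C) a) h1
  rw [show quot a ((quot a)⁻¹ (quot u (quot a (l : G ⧸ C)))) = quot u (quot a (l : G ⧸ C)) from
    (quot a).apply_symm_apply _] at h2
  refine hu1 (MulEquiv.ext fun x => ?_)
  obtain ⟨i, j, rfl⟩ := span hB.quot_card (⟨hlq, hmove⟩ : Indep (l : G ⧸ C) (quot a (l : G ⧸ C))) x
  rw [apply_span, hfix u hu, h2]
  rfl

/-- The structure of `G`. -/
theorem structure_of_aut (h5 : 5 ≤ p) (hG : IsPGroup p G) (hrk : Cfsg.PRankLE p 2 G)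
    (A : Subgroup (MulAut G)) (hA : ¬ IsPGroup p (commutator A)) (hInn : Cfsg.Inn G ≤ A)
    (hrad : ∀ R : Subgroup A, R.Normal → IsPGroup p R → ∀ r ∈ R, (r : MulAut G) ∈ Cfsg.Inn G)
    (hout : ∃ u ∈ A, u ∉ Cfsg.Inn G ∧ ∃ k : ℕ, u ^ p ^ k = 1) :
    ((∀ a b : G, a * b = b * a) ∧ (frattini G).index ≤ p ^ 2) ∨
    ∃ C W : Subgroup G, C.Characteristic ∧ Base p C W ∧
      ∀ l ∈ W, ∀ m ∈ W, l ∉ C → (∀ i : ℤ, (l ^ i)⁻¹ * m ∉ C) → ⁅l, m⁆ ≠ 1 := by
  classical
  have h2 : p ≠ 2 := by omega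
  haveI : Finite (MulAut G) := Finite.of_injective (fun e => (e : G → G)) DFunLike.coe_injective
  obtain ⟨H, hH⟩ := Critical.exists_critical hG
  have hdiv : p ∣ p.choose 2 := hp.out.dvd_choose_self two_ne_zero (by omega)
  have hcz : ∀ x ∈ H, ∀ y ∈ H, ⁅x, y⁆ ∈ H ∧ ∀ w ∈ H, w * ⁅x, y⁆ = ⁅x, y⁆ * w := fun x _ y hy => by
    have h := Subgroup.mem_inf.1 (hH.comm (Subgroup.commutator_mem_commutator (Subgroup.mem_top x) hy))
    exact ⟨h.1, fun w hw => Subgroup.mem_centralizer_iff.1 h.2 w hw⟩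
  let W : Subgroup G :=
    { carrier := {x | x ∈ H ∧ x ^ p = 1}
      one_mem' := ⟨one_mem _, one_pow p⟩
      mul_mem' := fun {a b} ha hb => ⟨mul_mem ha.1 hb.1, by
        have hzH := hcz b⁻¹ (inv_mem hb.1) a⁻¹ (inv_mem ha.1)
        set z := ⁅b⁻¹, a⁻¹⁆ with hz
        have hba : b * a = a * b * z := by rw [hz, commutatorElement_def]; group
        have hza : Commute z a := (hzH.2 a ha.1).symm
        have hzb : Commute z b := (hzH.2 b hb.1).symm
        have hzp : z ^ p = 1 := by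
          have h1 := LEOmega.pow_mul_swap hba hzb p
          rw [hb.2, one_mul, mul_one] at h1
          exact left_eq_mul.1 h1
        obtain ⟨k, hk⟩ := hdiv
        rw [LEOmega.mul_pow_class_two hba hza hzb p, ha.2, hb.2, one_mul, one_mul, hk, pow_mul, hzp,
          one_pow]⟩
      inv_mem' := fun {a} ha => ⟨inv_mem ha.1, by rw [inv_pow, ha.2, inv_one]⟩ }
  have hWinv : ∀ φ : MulAut G, ∀ x ∈ W, φ x ∈ W := fun φ x hx => ⟨by
    haveI := hH.char
    exact (Subgroup.characteristic_iff_le_comap.1 hH.char φ) hx.1, by rw [← map_pow, hx.2, map_one]⟩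
  have hWp : ∀ w : W, w ^ p = 1 := fun w => Subtype.ext w.2.2
  have hWrk : Cfsg.PRankLE p 2 W := fun B hB hBp => by
    rw [← Subgroup.card_map_of_injective (K := B) W.subtype_injective]
    haveI := hB
    exact hrk _ inferInstance (by rintro _ ⟨a, ha, rfl⟩; rw [← map_pow, hBp a ha, map_one])
  have hW3 := S3771.result (hG.to_subgroup W) hWrk hWp
  let ρ : MulAut G →* MulAut W := OddOrder.RankTwoAut.restrictAut W hWinv
  have hρ : ∀ (γ : MulAut G) (w : W), ((ρ γ w : W) : G) = γ w := fun _ _ => rfl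
  have hker : IsPGroup p ρ.ker := isPGroup_of_coprime_trivial _ fun γ hγ hcop =>
    OddOrder.RankTwoAut.eq_one_of_fix_omega h2 hG hH hcop fun x hx hxp =>
      congrArg Subtype.val (DFunLike.congr_fun (MonoidHom.mem_ker.1 hγ) (⟨x, hx, hxp⟩ : W))
  haveI : Finite (MulAut W) := Finite.of_injective (fun e => (e : W → W)) DFunLike.coe_injective
  set A' := A.map ρ with hA'def
  have hA' : ¬ IsPGroup p (commutator A') := by
    intro h
    refine hA fun c => ?_
    have hmem : ρ ((c : A) : MulAut G) ∈ (commutator A').map A'.subtype := by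
      have h1 : (commutator A).map (ρ.comp A.subtype) = (commutator A').map A'.subtype := by
        rw [commutator_def, commutator_def, Subgroup.map_commutator, Subgroup.map_commutator,
          ← MonoidHom.range_eq_map, ← MonoidHom.range_eq_map, Subgroup.range_subtype,
          MonoidHom.range_comp, Subgroup.range_subtype]
      exact h1 ▸ ⟨_, c.2, rfl⟩
    obtain ⟨d, hd, hde⟩ := hmem
    obtain ⟨k, hk⟩ := h ⟨d, hd⟩
    have hdk : d ^ p ^ k = 1 := congrArg Subtype.val hk
    have hk1 : (((c : A) : MulAut G)) ^ p ^ k ∈ ρ.ker := by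
      rw [MonoidHom.mem_ker, map_pow, ← hde, ← map_pow, hdk, map_one]
    obtain ⟨k', hk'⟩ := hker ⟨_, hk1⟩
    refine ⟨k + k', Subtype.ext (Subtype.ext ?_)⟩
    have e := congrArg Subtype.val hk'
    simp only [Subgroup.coe_pow, Subgroup.coe_one] at e ⊢
    rw [pow_add, pow_mul]
    exact e
  -- conjugation restricted to `W`
  let R₀ : Subgroup (MulAut W) := (Cfsg.Inn G).map ρ
  have hR₀p : IsPGroup p R₀ := by
    rintro ⟨_, γ, ⟨g, rfl⟩, rfl⟩
    obtain ⟨k, hk⟩ := hG g
    exact ⟨k, Subtype.ext (by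
      simp only [Subgroup.coe_pow, Subgroup.coe_one]
      rw [← map_pow, ← map_pow, hk, map_one, map_one])⟩
  have hR₀n : ∀ a ∈ A', ∀ r ∈ R₀, a⁻¹ * r * a ∈ R₀ := by
    rintro _ ⟨a, -, rfl⟩ _ ⟨_, ⟨g, rfl⟩, rfl⟩
    refine ⟨MulAut.conj (a⁻¹ g), ⟨_, rfl⟩, ?_⟩
    rw [← map_inv, ← map_mul, ← map_mul]
    exact congrArg ρ (MulEquiv.ext fun x => by
      simp [MulAut.conj_apply, MulAut.mul_apply, MulAut.inv_def, map_mul])
  obtain ⟨j, hj⟩ := IsPGroup.iff_card.1 (hG.to_subgroup W)
  rw [hj] at hW3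
  have hj3 : j ≤ 3 := (Nat.pow_le_pow_iff_right hp.out.one_lt).1 hW3
  have hcomm_of_le : j ≤ 2 → ∀ a b : W, a * b = b * a := by
    intro hj2
    interval_cases j
    · haveI := (Nat.card_eq_one_iff_unique.1 (hj.trans (pow_zero p))).1
      exact fun a b => Subsingleton.elim _ _
    · haveI : IsCyclic W := isCyclic_of_prime_card (hj.trans (pow_one p))
      exact fun a b => (IsCyclic.commutative (α := W)).is_comm.comm a b
    · letI := IsPGroup.commGroupOfCardEqPrimeSq hj
      exact fun a b => mul_comm a b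
  by_cases hWc : ∀ a b : W, a * b = b * a
  · -- the abelian case
    left
    have hWcc : ∀ a ∈ W, ∀ b ∈ W, a * b = b * a := fun a ha b hb =>
      congrArg Subtype.val (hWc ⟨a, ha⟩ ⟨b, hb⟩)
    have hWle : Nat.card W ≤ p ^ 2 := hrk W (.of_setLike_mul_comm hWcc) fun a ha => ha.2
    have hj2 : j = 2 := by
      rw [hj] at hWle
      have := (Nat.pow_le_pow_iff_right hp.out.one_lt).1 hWle
      by_contra hne
      have hj1 : j ≤ 1 := by omega
      apply hA'
      haveI : IsCyclic W := by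
        interval_cases j
        · haveI := (Nat.card_eq_one_iff_unique.1 (hj.trans (pow_zero p))).1
          exact isCyclic_of_subsingleton
        · exact isCyclic_of_prime_card (hj.trans (pow_one p))
      obtain ⟨w, hw⟩ := IsCyclic.exists_zpow_surjective (G := W)
      have hbot : commutator A' = ⊥ := by
        rw [commutator_def, Subgroup.commutator_eq_bot_iff_le_centralizer]
        intro a _
        rw [Subgroup.mem_centralizer_iff]
        intro b _
        refine Subtype.ext (MulEquiv.ext fun x => ?_)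
        obtain ⟨i, rfl⟩ := hw x
        obtain ⟨r, hr⟩ := hw ((a : MulAut W) w)
        obtain ⟨s, hs⟩ := hw ((b : MulAut W) w)
        simp only at hr hs
        simp only [Subgroup.coe_mul, MulAut.mul_apply, map_zpow, ← hr, ← hs, ← zpow_mul]
        ring_nf
      rw [hbot]
      exact IsPGroup.of_bot
    rw [hj2] at hj
    have hBW := base_elementary hj hWp
    -- `W` is central
    have hRtriv := quot_eq_one_of_normal hBW h2 (hG.to_subgroup W) A' hA' R₀ hR₀p hR₀n
    have hquot1 : ∀ γ : MulAut W, quot (C := (⊥ : Subgroup W)) γ = 1 → γ = 1 := fun γ hγ =>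
      MulEquiv.ext fun w => by
        have h := QuotientGroup.eq.1 (DFunLike.congr_fun hγ (w : W ⧸ (⊥ : Subgroup W)))
        exact inv_mul_eq_one.1 (Subgroup.mem_bot.1 h)
    have hWZ : ∀ w ∈ W, ∀ g : G, g * w = w * g := fun w hw g => by
      have h := congrArg Subtype.val (DFunLike.congr_fun
        (hquot1 _ (hRtriv (ρ (MulAut.conj g)) ⟨_, ⟨g, rfl⟩, rfl⟩)) (⟨w, hw⟩ : W))
      exact mul_inv_eq_iff_eq_mul.1 h
    have hΩ : ∀ x : G, x ^ p = 1 → x ∈ W := fun x hx =>
      QdRankTwo.rank_three hrk hWcc (fun a ha => ha.2) hj.ge hx fun a ha => (hWZ a ha x).symm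
    -- a transvection
    obtain ⟨u, huA, huI, k, huk⟩ := hout
    have hu' : quot (C := (⊥ : Subgroup W)) (ρ u) ≠ 1 := by
      intro h
      refine huI (hrad (ρ.ker.subgroupOf A) ?_ ?_ ⟨u, huA⟩ (Subgroup.mem_subgroupOf.2
        (MonoidHom.mem_ker.2 (hquot1 _ h))))
      · exact Subgroup.Normal.subgroupOf inferInstance A
      · intro x
        obtain ⟨k', hk'⟩ := hker ⟨_, Subgroup.mem_subgroupOf.1 x.2⟩
        refine ⟨k', Subtype.ext (Subtype.ext ?_)⟩
        simpa using congrArg Subtype.val hk'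
    obtain ⟨l, hl, hlC, hfix⟩ := exists_fixed_line hBW (Subgroup.zpowers (ρ u)) (by
      rintro ⟨_, i, rfl⟩
      refine ⟨k, Subtype.ext ?_⟩
      show (ρ u ^ i) ^ p ^ k = 1
      rw [← zpow_natCast, ← zpow_mul, mul_comm, zpow_mul, zpow_natCast, ← map_pow, huk, map_one, one_zpow])
    obtain ⟨α, hα, hmove⟩ : ∃ α ∈ A', quot α (l : W ⧸ (⊥ : Subgroup W)) ∉
        Subgroup.zpowers (l : W ⧸ (⊥ : Subgroup W)) := by
      by_contra hcon
      push Not at hcon
      exact hA' (hBW.isPGroup_commutator h2 (hG.to_subgroup W) hl hlC A' hcon)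
    obtain ⟨m, hm, hind, -, n', ⟨n, hnA, rfl⟩, hnl, hnm⟩ := exists_torus_frame hBW h5 A' hlC
      (u := ρ u) ⟨u, huA, rfl⟩ (hfix _ (Subgroup.mem_zpowers _)) (k := k) (by rw [← map_pow, huk, map_one])
      hu' hα hmove
    have hninv : ∀ w ∈ W, n w = w⁻¹ := by
      letI := commGroupQuot hBW
      intro w hw
      obtain ⟨a, b, hab⟩ := span hBW.quot_card ((indep_iff l m).2 ⟨hlC, hind⟩)
        ((⟨w, hw⟩ : W) : W ⧸ (⊥ : Subgroup W))
      have h : quot (ρ n) ((⟨w, hw⟩ : W) : W ⧸ (⊥ : Subgroup W)) =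
          ((⟨w, hw⟩ : W)⁻¹ : W) := by
        rw [QuotientGroup.mk_inv, hab, apply_span, hnl, hnm, inv_zpow, inv_zpow, mul_inv]
      have h' := Subgroup.mem_bot.1 (QuotientGroup.eq.1 h)
      exact congrArg Subtype.val (inv_mul_eq_one.1 h')
    have hn2 : n * n ∈ ρ.ker := MonoidHom.mem_ker.2 (MulEquiv.ext fun w => Subtype.ext (by
      show n (n w) = w
      rw [hninv w w.2, map_inv, hninv w w.2, inv_inv]))
    obtain ⟨k', hk'⟩ := hker ⟨_, hn2⟩
    have hk'' : (n * n) ^ p ^ k' = 1 := congrArg Subtype.val hk'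
    set ν := n ^ p ^ k' with hν
    have hν2 : ν * ν = 1 := by rw [hν, ← (Commute.refl n).mul_pow, hk'']
    have hodd : Odd (p ^ k') := (hp.out.odd_of_ne_two h2).pow
    have hnn : ∀ w ∈ W, ∀ i : ℕ, (n ^ i) w = if Odd i then w⁻¹ else w := by
      intro w hw i
      induction i with
      | zero => simp
      | succ i ih =>
        rw [pow_succ', MulAut.mul_apply, ih]
        by_cases hi : Odd i
        · rw [if_pos hi, if_neg (by simpa [Nat.odd_add_one] using hi), map_inv, hninv w hw, inv_inv]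
        · rw [if_neg hi, if_pos (by simpa [Nat.odd_add_one] using hi), hninv w hw]
    have hνinv : ∀ w ∈ W, ν w = w⁻¹ := fun w hw => by rw [hν, hnn w hw, if_pos hodd]
    have hfpf : MonoidHom.FixedPointFree (ν : G → G) := by
      intro x hx
      by_contra hx1
      obtain ⟨o, ho⟩ := (IsPGroup.iff_orderOf.1 hG) x
      have ho0 : o ≠ 0 := by rintro rfl; exact hx1 (orderOf_eq_one_iff.1 (by rw [ho, pow_zero]))
      set y := x ^ p ^ (o - 1) with hy
      have hyp : y ^ p = 1 := by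
        rw [hy, ← pow_mul, ← pow_succ, show o - 1 + 1 = o by omega, ← ho, pow_orderOf_eq_one]
      have hy1 : y ≠ 1 := fun h => by
        have := orderOf_dvd_of_pow_eq_one h
        rw [ho] at this
        have := (Nat.pow_dvd_pow_iff_le_right hp.out.one_lt).1 this
        omega
      have h1 : ν y = y := by rw [hy, map_pow, hx]
      rw [hνinv y (hΩ y hyp)] at h1
      have h3 : y ^ 2 = 1 := by rw [pow_two]; exact inv_eq_iff_mul_eq_one.1 h1
      have h4 := orderOf_dvd_of_pow_eq_one h3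
      rw [orderOf_eq_prime hyp hy1] at h4
      exact h2 ((Nat.prime_dvd_prime_iff_eq hp.out Nat.prime_two).1 h4)
    have hinvol : Function.Involutive (ν : G → G) := fun x => by
      have := DFunLike.congr_fun hν2 x
      exact this
    have hGc : ∀ a b : G, a * b = b * a := fun a b =>
      (MonoidHom.FixedPointFree.commute_all_of_involutive (φ := ν) hfpf hinvol a b).eq
    refine ⟨hGc, ?_⟩
    letI : CommGroup G := { (inferInstance : Group G) with mul_comm := hGc }
    have hkerW : Nat.card (powMonoidHom p : G →* G).ker = p ^ 2 := by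
      rw [← hj]
      refine congrArg (fun S : Subgroup G => Nat.card S) ?_
      ext x
      exact ⟨fun h => hΩ x h, fun h => h.2⟩
    have hle : (powMonoidHom p : G →* G).range ≤ frattini G := by
      rintro _ ⟨x, rfl⟩
      exact PGroupBasics.pow_mem_frattini hG x
    have hr : (powMonoidHom p : G →* G).range.index = p ^ 2 := by
      rw [← hkerW]
      refine Nat.eq_of_mul_eq_mul_left (Nat.card_pos (α := (powMonoidHom p : G →* G).range)) ?_
      rw [Subgroup.card_mul_index, mul_comm, ← Subgroup.index_ker, Subgroup.card_mul_index]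
    exact (Nat.le_of_dvd (pow_pos hp.out.pos 2) (hr ▸ Subgroup.index_dvd_of_le hle))
  · -- the extraspecial case
    right
    have hj' : j = 3 := by
      by_contra hne
      exact hWc (hcomm_of_le (by omega))
    subst hj'
    obtain ⟨hBW, hZc, hne⟩ := base_extraspecial hj hWp (by push Not at hWc; exact hWc)
    have hRtriv := quot_eq_one_of_normal hBW h2 (hG.to_subgroup W) A' hA' R₀ hR₀p hR₀n
    obtain ⟨l₀, -, hl₀C, -⟩ := exists_fixed_line hBW (⊥ : Subgroup (MulAut W)) IsPGroup.of_bot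
    obtain ⟨m₀, -, hind₀⟩ := hBW.exists_indep (Subgroup.mem_top l₀) hl₀C
    have hclos : ∀ l m : W, l ∉ Subgroup.center W → (∀ i : ℤ, (l ^ i)⁻¹ * m ∉ Subgroup.center W) →
        Subgroup.closure ({(l : G), (m : G)} : Set G) = W := by
      intro l m hl hm
      have h := congrArg (Subgroup.map W.subtype)
        (eq_top_iff.2 (hBW.gen l trivial m trivial hl hm))
      rwa [MonoidHom.map_closure, Set.image_pair, ← MonoidHom.range_eq_map, Subgroup.range_subtype] at h
    -- every element is in `W C_G(W)`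
    have hliftC : ∀ g : G, ∃ w ∈ W, w⁻¹ * g ∈ Subgroup.centralizer (W : Set G) := by
      intro g
      obtain ⟨e, -, h1, h2⟩ := inner_of_quot hBW trivial hl₀C trivial hind₀
        (hRtriv (ρ (MulAut.conj g)) ⟨_, ⟨g, rfl⟩, rfl⟩)
      refine ⟨(e : G), e.2, ?_⟩
      have hle : Subgroup.closure ({(l₀ : G), (m₀ : G)} : Set G) ≤
          Subgroup.centralizer ({(e : G)⁻¹ * g} : Set G) := by
        rw [Subgroup.closure_le]
        have key : ∀ x : W, ρ (MulAut.conj g) x = e * x * e⁻¹ →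
            (x : G) ∈ Subgroup.centralizer ({(e : G)⁻¹ * g} : Set G) := fun x hx => by
          rw [Subgroup.mem_centralizer_singleton_iff]
          have h : g * (x : G) * g⁻¹ = (e : G) * x * (e : G)⁻¹ := congrArg Subtype.val hx
          calc (x : G) * ((e : G)⁻¹ * g) = (e : G)⁻¹ * ((e : G) * x * (e : G)⁻¹) * g := by group
            _ = (e : G)⁻¹ * (g * x * g⁻¹) * g := by rw [h]
            _ = (e : G)⁻¹ * g * x := by group
        rintro x (rfl | rfl)
        · exact key l₀ h1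
        · exact key m₀ h2
      rw [hclos l₀ m₀ hl₀C hind₀] at hle
      exact Subgroup.mem_centralizer_iff.2 fun x hx =>
        Subgroup.mem_centralizer_singleton_iff.1 (hle hx)
    set Cg := Subgroup.centralizer (W : Set G) with hCg
    have hCW : ∀ x : G, ∀ (hx : x ∈ W), x ∈ Cg → (⟨x, hx⟩ : W) ∈ Subgroup.center W := fun x hx hxC =>
      Subgroup.mem_center_iff.2 fun w => Subtype.ext (Subgroup.mem_centralizer_iff.1 hxC w w.2)
    have hΩC : ∀ x : G, x ∈ Cg → x ^ p = 1 → x ∈ W := by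
      intro x hxC hxp
      set U' : Subgroup W := Subgroup.zpowers l₀ ⊔ Subgroup.center W with hU'
      have hUc : ∀ a ∈ U', ∀ b ∈ U', a * b = b * a := by
        intro a ha b hb
        rw [hU', ← SetLike.mem_coe, Subgroup.mul_normal] at ha hb
        obtain ⟨_, ⟨i, rfl⟩, c, hc, rfl⟩ := ha
        obtain ⟨_, ⟨i', rfl⟩, c', hc', rfl⟩ := hb
        have hc1 : ∀ w : W, Commute c w := fun w => (Subgroup.mem_center_iff.1 hc w).symm
        have hc2 : ∀ w : W, Commute c' w := fun w => (Subgroup.mem_center_iff.1 hc' w).symm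
        exact (((Commute.refl l₀).zpow_zpow i i').mul_left (hc1 _)).mul_right
          ((hc2 _).symm.mul_left (hc2 _).symm)
      have hlt : Subgroup.center W < U' := lt_of_le_of_ne le_sup_right fun e =>
        hl₀C (e ▸ Subgroup.mem_sup_left (Subgroup.mem_zpowers l₀))
      set U := U'.map W.subtype with hU
      have hUcard : p ^ 2 ≤ Nat.card U := by
        rw [hU, Subgroup.card_map_of_injective W.subtype_injective]
        obtain ⟨i, hi⟩ := IsPGroup.iff_card.1 ((hG.to_subgroup W).to_subgroup U')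
        have h1 := lt_of_le_of_ne (Subgroup.card_le_of_le hlt.le)
          fun e => hlt.ne (Subgroup.eq_of_le_of_card_ge hlt.le e.ge)
        rw [hZc, hi] at h1
        rw [hi]
        have h1' : p ^ 1 < p ^ i := by rwa [pow_one]
        exact Nat.pow_le_pow_right hp.out.pos ((Nat.pow_lt_pow_iff_right hp.out.one_lt).1 h1')
      have hxU : x ∈ U := by
        refine QdRankTwo.rank_three hrk ?_ ?_ hUcard hxp ?_
        · rintro _ ⟨a, ha, rfl⟩ _ ⟨b, hb, rfl⟩
          rw [← map_mul, ← map_mul, hUc a ha b hb]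
        · rintro _ ⟨a, -, rfl⟩
          exact a.2.2
        · rintro _ ⟨a, -, rfl⟩
          exact Subgroup.mem_centralizer_iff.1 hxC a a.2
      obtain ⟨a, -, rfl⟩ := hxU
      exact a.2
    set C := Subgroup.center G with hC
    have hCgC : Cg = C := by
      refine le_antisymm (fun x hx => ?_) (Subgroup.center_le_centralizer _)
      have hcyc : IsCyclic Cg := by
        refine IsolatedP.isCyclic_of_odd_unique (hG.to_subgroup Cg) h2
          ⟨((⁅l₀, m₀⁆ : W) : G), Subgroup.mem_centralizer_iff.2 fun w hw =>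
            congrArg Subtype.val (Subgroup.mem_center_iff.1 (hBW.comm l₀ m₀) ⟨w, hw⟩)⟩
          (Subtype.ext ((⁅l₀, m₀⁆ : W).2.2)) fun y hy => ?_
        have hyp : (y : G) ^ p = 1 := congrArg Subtype.val hy
        have hyW := hΩC y y.2 hyp
        obtain ⟨i, hi⟩ := Subgroup.mem_zpowers_iff.1
          (hBW.meet l₀ trivial m₀ trivial hl₀C hind₀ _ (hCW y hyW y.2) (hWp _))
        exact ⟨i, Subtype.ext (by simpa using congrArg Subtype.val hi)⟩
      refine Subgroup.mem_center_iff.2 fun g => ?_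
      obtain ⟨w, hw, hwg⟩ := hliftC g
      have h1 : Commute w x := Subgroup.mem_centralizer_iff.1 hx w hw
      have h2 : Commute (w⁻¹ * g) x := congrArg Subtype.val
        ((IsCyclic.commutative (α := Cg)).is_comm.comm ⟨_, hwg⟩ ⟨x, hx⟩)
      have h3 := h1.mul_left h2
      rwa [mul_inv_cancel_left] at h3
    have hlift : ∀ g : G, ∃ w ∈ W, g⁻¹ * w ∈ C := fun g => by
      obtain ⟨w, hw, hwg⟩ := hliftC g
      refine ⟨w, hw, hCgC ▸ ?_⟩
      simpa using inv_mem hwg
    have hCiff : ∀ x : W, (x : G) ∈ C ↔ x ∈ Subgroup.center W := fun x =>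
      ⟨fun h => hCW x x.2 (hCgC.symm ▸ h), fun h => hCgC ▸ Subgroup.mem_centralizer_iff.2 fun w hw =>
        congrArg Subtype.val (Subgroup.mem_center_iff.1 h ⟨w, hw⟩)⟩
    have hind' : ∀ l m : W, (l : G) ∉ C → (∀ i : ℤ, ((l : G) ^ i)⁻¹ * m ∉ C) →
        l ∉ Subgroup.center W ∧ ∀ i : ℤ, (l ^ i)⁻¹ * m ∉ Subgroup.center W := fun l m h1 h2 =>
      ⟨fun h => h1 ((hCiff l).2 h), fun i h => h2 i (by simpa using (hCiff _).2 h)⟩
    have hCp : ∀ c ∈ C, c ^ p = 1 → ∃ hc : c ∈ W, (⟨c, hc⟩ : W) ∈ Subgroup.center W := fun c hc hcp =>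
      ⟨hΩC c (hCgC.symm ▸ hc) hcp, (hCiff ⟨c, _⟩).1 hc⟩
    refine ⟨C, W, inferInstance, ?_, ?_⟩
    · exact
        { char := inferInstance
          central := le_rfl
          cyc := by
            rw [← hCgC]
            exact IsolatedP.isCyclic_of_odd_unique (hG.to_subgroup Cg) h2
              ⟨((⁅l₀, m₀⁆ : W) : G), Subgroup.mem_centralizer_iff.2 fun w hw =>
                congrArg Subtype.val (Subgroup.mem_center_iff.1 (hBW.comm l₀ m₀) ⟨w, hw⟩)⟩
              (Subtype.ext ((⁅l₀, m₀⁆ : W).2.2)) fun y hy => by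
                have hyp : (y : G) ^ p = 1 := congrArg Subtype.val hy
                obtain ⟨i, hi⟩ := Subgroup.mem_zpowers_iff.1 (hBW.meet l₀ trivial m₀ trivial hl₀C hind₀ _
                  (hCW y (hΩC y y.2 hyp) y.2) (hWp _))
                exact ⟨i, Subtype.ext (by simpa using congrArg Subtype.val hi)⟩
          idx := by
            let f : W →* G ⧸ C := (QuotientGroup.mk' C).comp W.subtype
            have hsurj : Function.Surjective f := fun v => by
              obtain ⟨g, rfl⟩ := QuotientGroup.mk_surjective v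
              obtain ⟨w, hw, hwC⟩ := hlift g
              exact ⟨⟨w, hw⟩, (QuotientGroup.eq.2 hwC).symm⟩
            have hk : f.ker = Subgroup.center W := by
              ext x
              rw [MonoidHom.mem_ker, ← hCiff]
              exact QuotientGroup.eq_one_iff (x : G)
            rw [Subgroup.index_eq_card, ← Subgroup.card_top (G := G ⧸ C),
              ← MonoidHom.range_eq_top.2 hsurj, ← Subgroup.index_ker, hk, hBW.idx]
          comm := fun a b => by
            obtain ⟨w, hw, hwa⟩ := hlift a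
            obtain ⟨v, hv, hvb⟩ := hlift b
            have e := comm_central_congr (C := C) le_rfl (a := w) (b := v)
              (inv_mem hwa) (inv_mem hvb)
            simp only [mul_inv_rev, inv_inv, mul_inv_cancel_left] at e
            rw [e]
            have := (hCiff ⁅(⟨w, hw⟩ : W), ⟨v, hv⟩⁆).2 (hBW.comm _ _)
            rwa [← W.coe_subtype, map_commutatorElement] at this
          wexp := fun x hx => hx.2
          omega := fun x hx => by
            obtain ⟨w, hw, hwC⟩ := hlift x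
            have h := (Subgroup.mem_center_iff.1 hwC x : x * (x⁻¹ * w) = x⁻¹ * w * x)
            have h' : Commute x (x⁻¹ * w) := h
            have hp' := h'.mul_pow p
            rw [mul_inv_cancel_left, hw.2, hx, one_mul] at hp'
            have := hΩC _ (hCgC.symm ▸ hwC) hp'.symm
            simpa using mul_mem hw (inv_mem this)
          lift := hlift
          gen := fun l hl m hm h1 h2 => (hclos ⟨l, hl⟩ ⟨m, hm⟩ (hind' ⟨l, hl⟩ ⟨m, hm⟩ h1 h2).1 (hind' ⟨l, hl⟩ ⟨m, hm⟩ h1 h2).2).ge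
          meet := fun l hl m hm h1 h2 c hc hcp => by
            obtain ⟨hcW, hcZ⟩ := hCp c hc hcp
            obtain ⟨i, hi⟩ := Subgroup.mem_zpowers_iff.1 (hBW.meet ⟨l, hl⟩ trivial ⟨m, hm⟩ trivial
              (hind' ⟨l, hl⟩ ⟨m, hm⟩ h1 h2).1 (hind' ⟨l, hl⟩ ⟨m, hm⟩ h1 h2).2 _ hcZ (hWp _))
            exact ⟨i, congrArg Subtype.val hi⟩ }
    · intro l hl m hm h1 h2 h
      exact hne ⟨l, hl⟩ ⟨m, hm⟩ (hind' ⟨l, hl⟩ ⟨m, hm⟩ h1 h2).1 (hind' ⟨l, hl⟩ ⟨m, hm⟩ h1 h2).2 (Subtype.ext h)

end Cfsg.Agent.RankTwoEss
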