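import Cfsg.Agent.Lib.Fusion.PlaneFrame
import Cfsg.Agent.Lib.Fusion.Alperin

/-!
A torus element on an essential-like subgroup with a plane quotient yields an element of order `p` in the
normalizer.
-/

set_option autoImplicit false
set_option linter.style.haveILetI false
set_option maxHeartbeats 1000000

open scoped commutatorElement
open Cfsg Cfsg.FusionSystem Cfsg.Agent.FusionSys

namespace Cfsg.Agent.RankTwoStep

open Cfsg.Agent.PlaneFrame

/-- An automorphism multiplies the commutator by the determinant. -/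
theorem map_comm_pair {p : ℕ} [Fact p.Prime] {G : Type*} [Group G] {C W : Subgroup G} [C.Characteristic]
    (hB : Base p C W) {l m : G} {γ : MulAut G} {a b : ℤ}
    (hl : quot γ (l : G ⧸ C) = (l : G ⧸ C) ^ b)
    (hm : ((m : G ⧸ C) ^ a)⁻¹ * quot γ (m : G ⧸ C) ∈ Subgroup.zpowers (l : G ⧸ C)) :
    γ ⁅l, m⁆ = ⁅l, m⁆ ^ (a * b) := by
  obtain ⟨e, he⟩ := Subgroup.mem_zpowers_iff.1 hm
  have hc : (l ^ b)⁻¹ * γ l ∈ C := by
    rw [← QuotientGroup.eq]; rw [QuotientGroup.mk_zpow]; exact hl.symm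
  have hd : (m ^ a * l ^ e)⁻¹ * γ m ∈ C := by
    rw [← QuotientGroup.eq, QuotientGroup.mk_mul, QuotientGroup.mk_zpow, QuotientGroup.mk_zpow, he,
      mul_inv_cancel_left]
    rfl
  have h1 : ⁅l, m ^ a * l ^ e⁆ = ⁅l, m⁆ ^ a := by
    rw [← commutatorElement_inv, hB.comm_mul_left, hB.comm_zpow_left, hB.comm_zpow_left,
      commutatorElement_self, one_zpow, mul_one, ← commutatorElement_inv l m, inv_zpow, inv_inv]
  conv_lhs => rw [map_commutatorElement, ← mul_inv_cancel_left (l ^ b) (γ l),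
    ← mul_inv_cancel_left (m ^ a * l ^ e) (γ m)]
  rw [comm_central_congr hB.central hc hd, hB.comm_zpow_left, h1, ← zpow_mul]

variable {p : ℕ} [hp : Fact p.Prime] {Ω : Type*} [Group Ω] {S : Subgroup Ω} [Finite S] {F : FusionSystem S}

theorem step (hS : IsPGroup p S) (hF : F.IsSaturated p) (h5 : 5 ≤ p) {E : Subgroup Ω}
    (hn : F.IsFullyNormalized E) (hcen : centralizerIn S E ≤ E) (hlt : E < S)
    {C W : Subgroup E} [C.Characteristic] (hB : Base p C W)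
    (hK : ∀ γ ∈ F.autGroup E, quot (C := C) γ = 1 → γ ∈ Inn E)
    {l m : E} (hl : l ∈ W) (hlC : l ∉ C) (hm : m ∈ W) (hind : ∀ i : ℤ, (l ^ i)⁻¹ * m ∉ C)
    (hR : ∀ γ ∈ autInducedBy S E, quot γ (l : E ⧸ C) = l)
    {t : MulAut E} (ht : t ∈ F.autGroup E) {a b : ℤ}
    (htl : quot t (l : E ⧸ C) = (l : E ⧸ C) ^ b)
    (htm : ((m : E ⧸ C) ^ a)⁻¹ * quot t (m : E ⧸ C) ∈ Subgroup.zpowers (l : E ⧸ C))
    (ha0 : (a : ZMod p) ≠ 0) (hb0 : (b : ZMod p) ≠ 0) (ha1 : (a : ZMod p) ≠ 1)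
    (ha2 : (a : ZMod p) * a ≠ 1) (hab : (a : ZMod p) ≠ b ∨ ∀ c ∈ C, c ^ p = 1) :
    (∃ ψ ∈ F.Hom (normalizerIn S E), (∀ g, ψ g ∈ normalizerIn S E) ∧
      ∀ (x : E) (hx : (x : Ω) ∈ normalizerIn S E), ψ ⟨x, hx⟩ = ((t x : E) : Ω)) ∧
    ∃ y ∈ normalizerIn S E, y ∉ E ∧ y ^ p = 1 ∧ y * (l : Ω) = (l : Ω) * y ∧
      (∀ c ∈ C, y * (c : Ω) = (c : Ω) * y) ∧ ∀ g ∈ normalizerIn S E, ∃ i : ℤ, g * (y ^ i)⁻¹ ∈ E := by
  classical
  have h2 : p ≠ 2 := by omega
  have hES : E ≤ S := hn.1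
  haveI : Finite E := finite_of_le hES
  haveI : Finite (MulAut E) := Finite.of_injective (fun e => (e : E → E)) DFunLike.coe_injective
  have hEp : IsPGroup p E := hS.to_le hES
  letI := commGroupQuot hB
  have hI : Indep (l : E ⧸ C) (m : E ⧸ C) := (indep_iff l m).2 ⟨hlC, hind⟩
  set N := normalizerIn S E with hNdef
  let nm : N →* MulAut E := E.normalizerMonoidHom.comp (Subgroup.inclusion (inf_le_right : N ≤ _))
  have hnm : ∀ (g : N) (x : E), ((nm g x : E) : Ω) = (g : Ω) * x * (g : Ω)⁻¹ := fun g x => rfl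
  have hnmR : ∀ g : N, nm g ∈ autInducedBy S E := fun g => (mem_autInducedBy_iff _).2 ⟨g, g.2.1, hnm g⟩
  have hnmA : ∀ g : N, nm g ∈ F.autGroup E := fun g => autInducedBy_le_autGroup F hES (hnmR g)
  have hkey : ∀ γ ∈ autInducedBy S E, γ ∈ trans (C := C) l := fun γ hγ => by
    obtain ⟨k, hk⟩ := autInducedBy_isPGroup hS (P := E) ⟨γ, hγ⟩
    exact hB.trans_of_pow hlC (hR γ hγ) (congrArg Subtype.val hk)
  let Ψ : N →* MulAut (E ⧸ C) := (quot (C := C)).comp nm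
  -- the parameter of an element of the normalizer
  have hpar : ∀ g : N, Ψ g (l : E ⧸ C) = l ∧ ∃ i : ℤ, Ψ g (m : E ⧸ C) = (m : E ⧸ C) * (l : E ⧸ C) ^ i := by
    intro g
    have h := hkey _ (hnmR g)
    obtain ⟨i, hi⟩ := Subgroup.mem_zpowers_iff.1 (h.2 (m : E ⧸ C))
    refine ⟨h.1, i, ?_⟩
    rw [hi, mul_inv_cancel_left]
    rfl
  have hzero : ∀ g : N, Ψ g (m : E ⧸ C) = m → (g : Ω) ∈ E := by
    intro g hg
    refine mem_of_conj_mem_inn (F := F) hcen g.2.1 hES (hnm g) (hK _ (hnmA g) (MulEquiv.ext fun v => ?_))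
    obtain ⟨i, j, rfl⟩ := span hB.quot_card hI v
    show Ψ g _ = _
    rw [apply_span, (hpar g).1, hg]
    rfl
  obtain ⟨g₀', hg₀', hg₀E'⟩ := SetLike.exists_of_lt (lt_normalizerIn hS hlt)
  set g₀ : N := ⟨g₀', hg₀'⟩ with hg₀def
  have hg₀E : (g₀ : Ω) ∉ E := hg₀E'
  obtain ⟨i₀, hi₀⟩ := (hpar g₀).2
  -- extension of `t`
  set φ : E →* Ω := E.subtype.comp t.toMonoidHom with hφdef
  have hφ : φ ∈ F.Hom E := (mem_autGroup_iff F hES t).1 ht
  have hφr : φ.range = E := equivHom_range t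
  have hconj : ∀ g : N, ∃ h ∈ S, ∀ x : E, ((t (nm g (t⁻¹ x)) : E) : Ω) = h * x * h⁻¹ := by
    intro g
    have hγ := hkey _ (hnmR g)
    obtain ⟨k, hk⟩ := autInducedBy_isPGroup hS (P := E) ⟨_, hnmR g⟩
    have hk' : nm g ^ p ^ k = 1 := congrArg Subtype.val hk
    set δ := t * nm g * t⁻¹ with hδ
    have hδl : quot δ (l : E ⧸ C) = l := by
      obtain ⟨u, hu⟩ := ZMod.intCast_surjective (b : ZMod p)⁻¹
      have e : (l : E ⧸ C) = (quot t (l : E ⧸ C)) ^ u := by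
        rw [htl, ← zpow_mul, zpow_congr (hB.quot_exp _) (j := 1) ?_, zpow_one]
        push_cast
        rw [hu, mul_inv_cancel₀ hb0]
      conv_lhs => rw [e]
      rw [map_zpow, hδ, map_mul, map_mul, MulAut.mul_apply, MulAut.mul_apply, map_inv,
        show (quot t)⁻¹ (quot t (l : E ⧸ C)) = l from (quot t).symm_apply_apply _, hγ.1, ← e]
    have hδt : δ ∈ trans (C := C) l := hB.trans_of_pow hlC hδl (k := k) (by
      rw [hδ, conj_pow, hk', mul_one, mul_inv_cancel])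
    obtain ⟨R, hReq⟩ := (fullyNormalized_imp hS hF hn).2.2
    have hH : IsPGroup p ((trans (C := C) l).subgroupOf (F.autGroup E)) := by
      intro x
      obtain ⟨k', hk''⟩ := hB.isPGroup_trans h2 hEp hl hlC ⟨(x : F.autGroup E), Subgroup.mem_subgroupOf.1 x.2⟩
      refine ⟨k', Subtype.ext (Subtype.ext ?_)⟩
      simpa using congrArg Subtype.val hk''
    have heq := R.is_maximal' hH (fun x hx => Subgroup.mem_subgroupOf.2
      (hkey _ (Subgroup.mem_subgroupOf.1 (hReq.le hx))))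
    have hδA : δ ∈ F.autGroup E := mul_mem (mul_mem ht (hnmA g)) (inv_mem ht)
    have hδR : δ ∈ autInducedBy S E := Subgroup.mem_subgroupOf.1
      (hReq.le (heq.le (Subgroup.mem_subgroupOf.2 hδt : (⟨δ, hδA⟩ : F.autGroup E) ∈ _)))
    obtain ⟨h, hh, he⟩ := (mem_autInducedBy_iff δ).1 hδR
    exact ⟨h, hh, he⟩
  have hNle : N ≤ extender S E φ := fun g hg => by
    obtain ⟨h, hh, he⟩ := hconj ⟨g, hg⟩
    refine Subgroup.subset_closure ⟨hg.1, hg.2, h, hh, fun x hx => ?_⟩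
    have := he (t x)
    rw [show t⁻¹ (t x) = x from t.symm_apply_apply x] at this
    exact this
  obtain ⟨χ, hχ, hχe⟩ := (fullyNormalized_receptive hS hF hn).2 E φ hφ hφr
  let ψ : N →* Ω := χ.comp (Subgroup.inclusion hNle)
  have hψE : ∀ (x : E) (hx : (x : Ω) ∈ N), ψ ⟨x, hx⟩ = ((t x : E) : Ω) := fun x hx => hχe x x.2 (hNle hx)
  have hψN : ∀ g : N, ψ g ∈ N := fun g => by
    refine ⟨hom_apply_mem F hχ _, mem_normalizer_of_conj_mem_finite fun e he => ?_⟩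
    obtain ⟨x, hx⟩ : ∃ x : E, t x = ⟨e, he⟩ := t.surjective _
    have hxN : (x : Ω) ∈ N := le_normalizerIn hES x.2
    have h1 := hψE (nm g x) (le_normalizerIn hES (nm g x).2)
    rw [show (⟨(nm g x : Ω), le_normalizerIn hES (nm g x).2⟩ : N) = g * ⟨x, hxN⟩ * g⁻¹ from rfl,
      map_mul, map_mul, map_inv, hψE x hxN, hx] at h1
    rw [h1]
    exact (t _).2
  refine ⟨⟨ψ, restrict_mem F hχ hNle, hψN, hψE⟩, ?_⟩
  let ψN : N →* N := ψ.codRestrict N hψN
  have hψnm : ∀ g : N, nm (ψN g) = t * nm g * t⁻¹ := fun g => MulEquiv.ext fun e => Subtype.ext (by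
    obtain ⟨x, rfl⟩ := t.surjective e
    have hxN : (x : Ω) ∈ N := le_normalizerIn hES x.2
    have h1 := hψE (nm g x) (le_normalizerIn hES (nm g x).2)
    rw [show (⟨(nm g x : Ω), le_normalizerIn hES (nm g x).2⟩ : N) = g * ⟨x, hxN⟩ * g⁻¹ from rfl,
      map_mul, map_mul, map_inv, hψE x hxN] at h1
    rw [hnm]
    refine h1.trans ?_
    show _ = ((t (nm g (t⁻¹ (t x))) : E) : Ω)
    rw [show t⁻¹ (t x) = x from t.symm_apply_apply x])
  obtain ⟨e', he'⟩ := Subgroup.mem_zpowers_iff.1 htm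
  have hTm : quot t (m : E ⧸ C) = (l : E ⧸ C) ^ e' * (m : E ⧸ C) ^ a := by
    rw [he', mul_comm, mul_inv_cancel_left]
  -- the parameter of the image
  have hpar' : ∀ (g : N) (i i' : ℤ), Ψ g (m : E ⧸ C) = (m : E ⧸ C) * (l : E ⧸ C) ^ i →
      Ψ (ψN g) (m : E ⧸ C) = (m : E ⧸ C) * (l : E ⧸ C) ^ i' → (a : ZMod p) * i' = b * i := by
    intro g i i' hi hi'
    have h : Ψ (ψN g) (quot t (m : E ⧸ C)) = quot t (Ψ g (m : E ⧸ C)) := by
      show quot (nm (ψN g)) _ = _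
      rw [hψnm, map_mul, map_mul, MulAut.mul_apply, MulAut.mul_apply, map_inv,
        show (quot t)⁻¹ (quot t (m : E ⧸ C)) = m from (quot t).symm_apply_apply _]
      rfl
    rw [hi, map_mul, map_zpow, htl, hTm, apply_span, (hpar (ψN g)).1, hi', mul_zpow, ← zpow_mul,
      ← zpow_mul, mul_comm ((m : E ⧸ C) ^ a), ← mul_assoc, ← zpow_add, mul_right_comm, ← zpow_add] at h
    have := (coord_unique hB.quot_exp hI h).1
    push_cast at this
    linear_combination this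
  -- the action on `C`
  haveI := hB.cyc
  obtain ⟨gC, hgC⟩ := IsCyclic.exists_zpow_surjective (G := C)
  have hCchar : ∀ (γ : MulAut E), ∀ c ∈ C, γ c ∈ C := fun γ c hc => by
    have := (Subgroup.characteristic_iff_le_comap.1 (inferInstance : C.Characteristic) γ) hc
    exact this
  have hgen : ∀ c ∈ C, ∃ n : ℤ, c = (gC : E) ^ n := fun c hc => by
    obtain ⟨n, hn⟩ := hgC ⟨c, hc⟩
    exact ⟨n, by simpa using congrArg Subtype.val hn.symm⟩
  have hact : ∀ γ : MulAut E, ∃ s : ℤ, ∀ c ∈ C, γ c = c ^ s := fun γ => by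
    obtain ⟨s, hs⟩ := hgen _ (hCchar γ _ gC.2)
    refine ⟨s, fun c hc => ?_⟩
    obtain ⟨n, rfl⟩ := hgen c hc
    rw [map_zpow, hs, ← zpow_mul, ← zpow_mul, mul_comm]
  -- a new element centralizing `C`
  obtain ⟨y₀, hy₀E, hy₀C⟩ : ∃ y : N, (y : Ω) ∉ E ∧ ∀ c ∈ C, nm y c = c := by
    rcases hab with hab | hCp
    · refine ⟨ψN g₀ * g₀⁻¹, fun h => hab ?_, fun c hc => ?_⟩
      · have h1 : Ψ (ψN g₀ * g₀⁻¹) = 1 := MulEquiv.ext fun v => by
          induction v using QuotientGroup.induction_on with | H x => ?_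
          show ((nm (ψN g₀ * g₀⁻¹) x : E) : E ⧸ C) = x
          have hx : nm (ψN g₀ * g₀⁻¹) x = ⟨_, h⟩ * x * ⟨_, h⟩⁻¹ := Subtype.ext (hnm _ x)
          rw [hx, QuotientGroup.mk_mul, QuotientGroup.mk_mul, QuotientGroup.mk_inv, mul_comm, inv_mul_cancel_left]
        rw [map_mul, map_inv, mul_inv_eq_one] at h1
        obtain ⟨i', hi'⟩ := (hpar (ψN g₀)).2
        have h2 := hpar' g₀ i₀ i' hi₀ hi'
        have h3 : (i' : ZMod p) = i₀ := by
          refine cast_eq_of_zpow (hB.quot_exp _) hI.1 ?_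
          rw [h1, hi₀] at hi'
          exact (mul_left_cancel hi').symm
        have hi0 : (i₀ : ZMod p) ≠ 0 := fun h0 => hg₀E (hzero g₀ (by
          rw [hi₀, zpow_congr (hB.quot_exp _) (j := 0) (by simpa using h0), zpow_zero, mul_one]))
        rw [h3] at h2
        exact mul_right_cancel₀ hi0 h2
      · obtain ⟨s, hs⟩ := hact t
        obtain ⟨r, hr⟩ := hact (nm g₀)
        have h1 : ∀ c ∈ C, t (nm g₀ c) = nm g₀ (t c) := fun c hc => by
          rw [hr c hc, map_zpow, hs c hc, map_zpow, hr c hc, ← zpow_mul, ← zpow_mul, mul_comm]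
        rw [map_mul, map_inv, hψnm, MulAut.mul_apply, MulAut.mul_apply, MulAut.mul_apply]
        have hd : (nm g₀)⁻¹ c ∈ C := hCchar _ c hc
        have he : t⁻¹ ((nm g₀)⁻¹ c) ∈ C := hCchar _ _ hd
        rw [h1 _ he, show t (t⁻¹ ((nm g₀)⁻¹ c)) = (nm g₀)⁻¹ c from t.apply_symm_apply _]
        exact (nm g₀).apply_symm_apply c
    · refine ⟨g₀, hg₀E, fun c hc => ?_⟩
      obtain ⟨j, rfl⟩ := hB.meet l hl m hm hlC hind c hc (hCp c hc)
      show nm g₀ (⁅l, m⁆ ^ j) = ⁅l, m⁆ ^ j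
      rw [map_zpow, map_comm_pair hB (a := 1) (b := 1) (by rw [zpow_one]; exact (hpar g₀).1)
        (by rw [zpow_one]; exact ⟨i₀, by
          show (l : E ⧸ C) ^ i₀ = _
          rw [show quot (nm g₀) (m : E ⧸ C) = _ from hi₀, inv_mul_cancel_left]⟩), mul_one, zpow_one]
  -- centralizing `l` as well
  obtain ⟨y, hyE, hyC, hyl⟩ : ∃ y : N, (y : Ω) ∉ E ∧ (∀ c ∈ C, nm y c = c) ∧ nm y l = l := by
    have hc : l⁻¹ * nm y₀ l ∈ C := QuotientGroup.eq.1 (hpar y₀).1.symm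
    have hcp : (l⁻¹ * nm y₀ l) ^ p = 1 := by
      have h := Commute.mul_pow
        (Subgroup.mem_center_iff.1 (hB.central hc) l : Commute l (l⁻¹ * nm y₀ l)) p
      rw [mul_inv_cancel_left, ← map_pow, hB.wexp l hl, map_one, one_mul] at h
      exact h.symm
    obtain ⟨j, hj⟩ := hB.meet l hl m hm hlC hind _ hc hcp
    have hj' : nm y₀ l = l * ⁅l, m⁆ ^ j := by
      rw [show ⁅l, m⁆ ^ j = l⁻¹ * nm y₀ l from hj, mul_inv_cancel_left]
    set mN : N := ⟨((m ^ j : E) : Ω), le_normalizerIn hES (m ^ j).2⟩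
    have hmN : nm mN = MulAut.conj (m ^ j) := MulEquiv.ext fun x => Subtype.ext (hnm mN x)
    refine ⟨y₀ * mN, fun h => hy₀E ?_, fun c hc' => ?_, ?_⟩
    · have := mul_mem h (inv_mem (m ^ j).2)
      simpa [mN] using this
    · rw [map_mul, MulAut.mul_apply, hmN, MulAut.conj_apply,
        Subgroup.mem_center_iff.1 (hB.central hc') (m ^ j), mul_inv_cancel_right, hy₀C c hc']
    · rw [map_mul, MulAut.mul_apply, hmN, MulAut.conj_apply,
        show m ^ j * l * (m ^ j)⁻¹ = ⁅m ^ j, l⁆ * l by rw [commutatorElement_def]; group,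
        hB.comm_zpow_left, ← commutatorElement_inv l m, inv_zpow, map_mul, map_inv,
        hy₀C _ (zpow_mem (hB.comm l m) j), hj',
        show ((⁅l, m⁆ ^ j)⁻¹ * (l * ⁅l, m⁆ ^ j) : E) = l by
          rw [Subgroup.mem_center_iff.1 (hB.central (zpow_mem (hB.comm l m) j)) l, inv_mul_cancel_left]]
  have hyl' : (y : Ω) * l = l * y := by
    have := congrArg Subtype.val hyl
    rw [hnm] at this
    exact mul_inv_eq_iff_eq_mul.1 this
  have hyC' : ∀ c ∈ C, (y : Ω) * c = c * y := fun c hc => by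
    have := congrArg Subtype.val (hyC c hc)
    rw [hnm] at this
    exact mul_inv_eq_iff_eq_mul.1 this
  obtain ⟨i₁, hi₁⟩ := (hpar y).2
  have hi₁0 : (i₁ : ZMod p) ≠ 0 := fun h0 => hyE (hzero y (by
    rw [hi₁, zpow_congr (hB.quot_exp _) (j := 0) (by simpa using h0), zpow_zero, mul_one]))
  have hall : ∀ g : N, ∀ i : ℤ, Ψ g (m : E ⧸ C) = (m : E ⧸ C) * (l : E ⧸ C) ^ i →
      ∀ k : ℤ, (k : ZMod p) * i₁ = i → (g : Ω) * ((y : Ω) ^ k)⁻¹ ∈ E := by
    intro g i hi k hk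
    haveI : NeZero p := ⟨hp.out.ne_zero⟩
    have hpw : Ψ y ^ p = 1 := by
      refine MulEquiv.ext fun v => ?_
      obtain ⟨i', j', rfl⟩ := span hB.quot_card hI v
      obtain ⟨e1, e2⟩ := pow_transv (hpar y).1 hi₁ p
      rw [apply_span, e1, e2, zpow_mul _ i₁, zpow_natCast, hB.quot_exp, mul_one]
      rfl
    refine hzero (g * (y ^ k)⁻¹) ?_
    have hyk : Ψ y ^ k = Ψ y ^ (k : ZMod p).val := by
      rw [zpow_congr hpw (j := ((k : ZMod p).val : ℤ)) (by simp), zpow_natCast]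
    have e := (pow_transv (hpar y).1 hi₁ (k : ZMod p).val).2
    have e' : (Ψ y ^ k) (m : E ⧸ C) = Ψ g (m : E ⧸ C) := by
      rw [hyk, e, hi, zpow_congr (hB.quot_exp _) (j := i) ?_]
      push_cast
      rw [ZMod.natCast_zmod_val, mul_comm, hk]
    have el : (Ψ y ^ k) (l : E ⧸ C) = l := by
      rw [hyk, (pow_transv (hpar y).1 hi₁ (k : ZMod p).val).1]
    rw [map_mul, map_inv, map_zpow, MulAut.mul_apply]
    obtain ⟨i', j', hij⟩ := span hB.quot_card hI ((Ψ y ^ k)⁻¹ (m : E ⧸ C))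
    have e2 := congrArg (Ψ y ^ k) hij
    rw [show (Ψ y ^ k) ((Ψ y ^ k)⁻¹ (m : E ⧸ C)) = m from (Ψ y ^ k).apply_symm_apply _, apply_span, el, e'] at e2
    rw [hij, apply_span, (hpar g).1, ← e2]
  have hcover : ∀ g ∈ N, ∃ k : ℤ, g * ((y : Ω) ^ k)⁻¹ ∈ E := fun g hg => by
    obtain ⟨i, hi⟩ := (hpar ⟨g, hg⟩).2
    obtain ⟨k, hk⟩ := ZMod.intCast_surjective ((i : ZMod p) * (i₁ : ZMod p)⁻¹)
    exact ⟨k, hall ⟨g, hg⟩ i hi k (by rw [hk, mul_assoc, inv_mul_cancel₀ hi₁0, mul_one])⟩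
  -- the `p`-th power of `y`
  have hypE : ((y : Ω) ^ p) ∈ E := by
    obtain ⟨e1, e2⟩ := pow_transv (hpar y).1 hi₁ p
    have := hzero (y ^ p) (by
      rw [map_pow, e2, zpow_mul _ i₁, zpow_natCast, hB.quot_exp, mul_one])
    simpa using this
  set e₀ : E := ⟨_, hypE⟩ with he₀
  obtain ⟨e, f, hef⟩ := span hB.quot_card hI (e₀ : E ⧸ C)
  have hf : (f : ZMod p) = 0 := by
    have hfix : nm y e₀ = e₀ := Subtype.ext (by
      rw [hnm, he₀]
      show (y : Ω) * (y : Ω) ^ p * (y : Ω)⁻¹ = (y : Ω) ^ p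
      rw [(Commute.self_pow (y : Ω) p).eq, mul_inv_cancel_right])
    have hfix' : Ψ y ((l : E ⧸ C) ^ e * (m : E ⧸ C) ^ f) = (l : E ⧸ C) ^ e * (m : E ⧸ C) ^ f := by
      rw [← hef]
      exact congrArg QuotientGroup.mk hfix
    rw [apply_span, (hpar y).1, hi₁, mul_zpow, ← zpow_mul, mul_comm ((m : E ⧸ C) ^ f), ← mul_assoc,
      ← zpow_add] at hfix'
    have := (coord_unique hB.quot_exp hI hfix').1
    push_cast at this
    exact (mul_eq_zero.1 (show (i₁ : ZMod p) * f = 0 by linear_combination this)).resolve_left hi₁0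
  rw [zpow_congr (hB.quot_exp (m : E ⧸ C)) (i := f) (j := 0) (by simpa using hf), zpow_zero, mul_one,
    ← QuotientGroup.mk_zpow] at hef
  have hc₀ : (l ^ e)⁻¹ * e₀ ∈ C := QuotientGroup.eq.1 hef.symm
  -- the image of `y`
  obtain ⟨i₂, hi₂⟩ := (hpar (ψN y)).2
  have hi12 := hpar' y i₁ i₂ hi₁ hi₂
  obtain ⟨k, hk⟩ := ZMod.intCast_surjective ((i₂ : ZMod p) * (i₁ : ZMod p)⁻¹)
  have hkk : (k : ZMod p) * i₁ = i₂ := by rw [hk, mul_assoc, inv_mul_cancel₀ hi₁0, mul_one]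
  have hak : (a : ZMod p) * k = b := mul_right_cancel₀ hi₁0 (by rw [mul_assoc, hkk, hi12])
  have hd' := hall (ψN y) i₂ hi₂ k hkk
  set d : E := ⟨_, hd'⟩ with hd
  have hψy : ψ y = (d : Ω) * (y : Ω) ^ k := by
    rw [hd]; exact (inv_mul_cancel_right _ _).symm
  -- `ψ y` centralizes `l` and `C`
  have hψC : ∀ c ∈ C, nm (ψN y) c = c := fun c hc => by
    rw [hψnm, MulAut.mul_apply, MulAut.mul_apply, hyC _ (hCchar _ c hc)]
    exact t.apply_symm_apply c
  have hψl : nm (ψN y) l = l := by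
    obtain ⟨u, hu⟩ := ZMod.intCast_surjective (b : ZMod p)⁻¹
    have hc1 : (l ^ b)⁻¹ * t l ∈ C := by
      rw [← QuotientGroup.eq, QuotientGroup.mk_zpow]; exact htl.symm
    have h1 : nm (ψN y) (t l) = t l := by
      rw [hψnm, MulAut.mul_apply, MulAut.mul_apply, show t⁻¹ (t l) = l from t.symm_apply_apply l, hyl]
    have h2 : nm (ψN y) (l ^ b) = l ^ b := by
      have e1 := h1
      rw [← mul_inv_cancel_left (l ^ b) (t l), map_mul, hψC _ hc1] at e1
      exact mul_right_cancel e1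
    have h3 : l = (l ^ b) ^ u := by
      rw [← zpow_mul, zpow_congr (hB.wexp l hl) (j := 1) (by push_cast; rw [hu, mul_inv_cancel₀ hb0]), zpow_one]
    rw [h3, map_zpow, h2]
  have hcomm_y : ∀ x : E, (y : Ω) * x = x * y → Commute ((y : Ω) ^ k) (x : Ω) :=
    fun x hx => Commute.zpow_left hx k
  have hdfix : ∀ x : E, (y : Ω) * x = x * y → nm (ψN y) x = x → d * x = x * d := fun x hx hψx => by
    have e1 := congrArg Subtype.val hψx
    rw [hnm, show ((ψN y : N) : Ω) = ψ y from rfl, hψy, mul_inv_rev] at e1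
    refine Subtype.ext (mul_inv_eq_iff_eq_mul.1 ?_)
    refine Eq.trans ?_ e1
    show (d : Ω) * x * (d : Ω)⁻¹ = _
    have := (hcomm_y x hx).eq
    calc (d : Ω) * x * (d : Ω)⁻¹ = (d : Ω) * ((x : Ω) * (y : Ω) ^ k) * (((y : Ω) ^ k)⁻¹ * (d : Ω)⁻¹) := by group
      _ = (d : Ω) * ((y : Ω) ^ k * x) * (((y : Ω) ^ k)⁻¹ * (d : Ω)⁻¹) := by rw [this]
      _ = _ := by group
  have hdl := hdfix l hyl' hψl
  have hdC : ∀ c ∈ C, d * c = c * d := fun c hc => (Subgroup.mem_center_iff.1 (hB.central hc) d)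
  -- the commutator of `d` and `y ^ k`
  set z : E := d⁻¹ * nm ((y ^ k)⁻¹) d with hz
  obtain ⟨u, huz⟩ : ∃ u : ℤ, (l ^ u)⁻¹ * z ∈ C := by
    obtain ⟨u, hu⟩ := Subgroup.mem_zpowers_iff.1 ((hkey _ (hnmR ((y ^ k)⁻¹))).2 (d : E ⧸ C))
    refine ⟨u, ?_⟩
    rw [← QuotientGroup.eq, QuotientGroup.mk_zpow, hu]
    rfl
  have hzy : Commute (z : Ω) ((y : Ω) ^ k) := by
    rw [show (z : Ω) = ((l ^ u : E) : Ω) * (((l ^ u)⁻¹ * z : E) : Ω) by simp]
    refine (Commute.mul_left ?_ ?_)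
    · rw [Subgroup.coe_zpow]
      exact ((hcomm_y l hyl').symm).zpow_left u
    · exact (hcomm_y _ (hyC' _ huz)).symm
  have hzd : Commute (z : Ω) (d : Ω) := by
    refine congrArg Subtype.val (show z * d = d * z from ?_)
    rw [← mul_inv_cancel_left (l ^ u) z]
    exact (Commute.mul_left ((show Commute l d from hdl.symm).zpow_left u) (hdC _ huz).symm).eq
  have hba : (d : Ω) * (y : Ω) ^ k = (y : Ω) ^ k * d * z := by
    rw [hz, Subgroup.coe_mul, Subgroup.coe_inv, hnm]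
    simp only [Subgroup.coe_inv, Subgroup.coe_zpow]
    group
  have hpowy : (ψ y) ^ p = ((y : Ω) ^ p) ^ k * (d : Ω) ^ p * ((z : Ω) ^ p.choose 2 * (z : Ω) ^ p) := by
    rw [hψy, hba, (Commute.mul_left hzy.symm hzd.symm).mul_pow p,
      LEOmega.mul_pow_class_two hba hzy hzd p, ← zpow_natCast ((y : Ω) ^ k) p, ← zpow_mul,
      mul_comm k, zpow_mul, zpow_natCast, mul_assoc]
  -- `p`-th powers in `E` are `p`-th powers in `C`
  have hpC : ∀ x : E, ∃ c ∈ C, x ^ p = c ^ p := fun x => by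
    obtain ⟨w, hw, hwC⟩ := hB.lift x
    refine ⟨(x⁻¹ * w)⁻¹, inv_mem hwC, ?_⟩
    have hc := Subgroup.mem_center_iff.1 (hB.central (inv_mem hwC)) w
    have h := (show Commute w (x⁻¹ * w)⁻¹ from hc).mul_pow p
    rw [hB.wexp w hw, one_mul] at h
    rw [← h]
    simp
  obtain ⟨cd, hcd, hcdp⟩ := hpC d
  obtain ⟨cz, hcz, hczp⟩ := hpC z
  obtain ⟨q, hq⟩ : p ∣ p.choose 2 := hp.out.dvd_choose_self two_ne_zero (by omega)
  have hte : ∃ c ∈ C, t e₀ = e₀ ^ k * c ^ p := by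
    refine ⟨cd * cz ^ (q + 1), mul_mem hcd (pow_mem hcz _), Subtype.ext ?_⟩
    have h1 : ψ (y ^ p) = ((t e₀ : E) : Ω) := hψE e₀ (y ^ p).2
    rw [map_pow, hpowy] at h1
    have hcomm : Commute cd (cz ^ (q + 1)) :=
      Subgroup.mem_center_iff.1 (hB.central (pow_mem hcz (q + 1))) cd
    rw [← h1, hcomm.mul_pow p, ← hcdp, ← pow_mul, mul_comm (q + 1), pow_mul, ← hczp,
      ← pow_mul, hq, ← pow_add, ← mul_assoc, Nat.mul_add, mul_one]
    simp only [Subgroup.coe_mul, Subgroup.coe_zpow, Subgroup.coe_pow]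
    rfl
  obtain ⟨cw, hcw, hte⟩ := hte
  have he0 : (e : ZMod p) = 0 := by
    have h := congrArg (fun x : E => (x : E ⧸ C)) hte
    simp only [QuotientGroup.mk_mul, QuotientGroup.mk_zpow, QuotientGroup.mk_pow] at h
    rw [(QuotientGroup.eq_one_iff cw).2 hcw, one_pow, mul_one, hef, QuotientGroup.mk_zpow, ← zpow_mul,
      ← quot_apply, hef, QuotientGroup.mk_zpow, map_zpow, htl, ← zpow_mul] at h
    have h' := cast_eq_of_zpow (hB.quot_exp _) hI.1 h
    push_cast at h'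
    have hbk : (b : ZMod p) ≠ k := fun hbk => hb0 (by
      have : ((a : ZMod p) - 1) * k = 0 := by rw [sub_mul, one_mul, hak, hbk, sub_self]
      rcases mul_eq_zero.1 this with h'' | h''
      · exact absurd (sub_eq_zero.1 h'') ha1
      · rw [hbk, h''])
    exact (mul_eq_zero.1 (show ((b : ZMod p) - k) * e = 0 by linear_combination h')).resolve_left
      (sub_ne_zero.2 hbk)
  rw [zpow_congr (hB.wexp l hl) (i := e) (j := 0) (by simpa using he0), zpow_zero, inv_one, one_mul] at hc₀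
  obtain ⟨d₀, hd₀, hd₀p⟩ : ∃ d₀ ∈ C, e₀ = d₀ ^ p := by
    obtain ⟨n, hn'⟩ := hgen e₀ hc₀
    obtain ⟨r, hr⟩ := hgen cw hcw
    by_cases hC1 : (gC : E) = 1
    · exact ⟨1, one_mem _, by rw [one_pow, hn', hC1, one_zpow]⟩
    have hz1 : ⁅l, m⁆ ≠ 1 := by
      intro hlm
      obtain ⟨j, hj⟩ := (IsPGroup.iff_orderOf.1 (hEp)) (gC : E)
      have hj0 : j ≠ 0 := by rintro rfl; exact hC1 (orderOf_eq_one_iff.1 (by rw [hj, pow_zero]))
      have hpow1 : ((gC : E) ^ p ^ (j - 1)) ^ p = 1 := by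
        rw [← pow_mul, ← pow_succ, show j - 1 + 1 = j by omega, ← hj, pow_orderOf_eq_one]
      obtain ⟨x, hx⟩ := hB.meet l hl m hm hlC hind _ (pow_mem gC.2 _) hpow1
      rw [show ((fun i : ℤ => ⁅l, m⁆ ^ i) x) = ⁅l, m⁆ ^ x from rfl, hlm, one_zpow] at hx
      have := orderOf_dvd_of_pow_eq_one hx.symm
      rw [hj] at this
      have := (Nat.pow_dvd_pow_iff_le_right hp.out.one_lt).1 this
      omega
    obtain ⟨s, hs⟩ := hact t
    obtain ⟨r', hr'⟩ := hgen _ (hB.comm l m)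
    have hsab : (s : ZMod p) = (a * b : ℤ) := by
      refine cast_eq_of_zpow (hB.comm_pow_eq_one hl m) hz1 ?_
      rw [← hs _ (hB.comm l m), map_comm_pair hB htl htm]
    rw [hs e₀ hc₀, hn', hr, ← zpow_mul, ← zpow_mul, ← zpow_natCast ((gC : E) ^ r) p, ← zpow_mul,
      ← zpow_add] at hte
    have hdvd : (p : ℕ) ∣ orderOf (gC : E) := by
      obtain ⟨j, hj⟩ := (IsPGroup.iff_orderOf.1 (hEp)) (gC : E)
      rw [hj]
      exact dvd_pow_self p (by rintro rfl; exact hC1 (orderOf_eq_one_iff.1 (by rw [hj, pow_zero])))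
    have hcast : ((n * s : ℤ) : ZMod p) = ((n * k + r * p : ℤ) : ZMod p) := by
      rw [ZMod.intCast_eq_intCast_iff_dvd_sub]
      exact (Int.natCast_dvd_natCast.2 hdvd).trans (orderOf_dvd_sub_iff_zpow_eq_zpow.2 hte.symm)
    push_cast at hcast hsab
    rw [hsab, ZMod.natCast_self, mul_zero, add_zero] at hcast
    have hne : (a : ZMod p) * b - k ≠ 0 := fun h0 => by
      have hk' : (k : ZMod p) = a * b := (sub_eq_zero.1 h0).symm
      have : ((a : ZMod p) * a - 1) * b = 0 := by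
        rw [sub_mul, one_mul, mul_assoc, ← hk', hak, sub_self]
      rcases mul_eq_zero.1 this with h'' | h''
      · exact ha2 (sub_eq_zero.1 h'')
      · exact hb0 h''
    have hn0 : (n : ZMod p) = 0 := (mul_eq_zero.1 (show (n : ZMod p) * ((a : ZMod p) * b - k) = 0 by
      linear_combination hcast)).resolve_right hne
    obtain ⟨n', rfl⟩ := (ZMod.intCast_zmod_eq_zero_iff_dvd n p).1 hn0
    refine ⟨(gC : E) ^ n', zpow_mem gC.2 _, ?_⟩
    rw [hn', mul_comm, zpow_mul, zpow_natCast]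
  -- the element of order `p`
  refine ⟨(y : Ω) * ((d₀ : Ω))⁻¹, mul_mem y.2 (inv_mem (le_normalizerIn hES d₀.2)), ?_, ?_, ?_, ?_, ?_⟩
  · intro h
    have := mul_mem h d₀.2
    exact hyE (by simpa using this)
  · have hc : Commute (y : Ω) (d₀ : Ω)⁻¹ := (show Commute (y : Ω) d₀ from hyC' d₀ hd₀).inv_right
    have e : (y : Ω) ^ p = (d₀ : Ω) ^ p := (congrArg Subtype.val hd₀p).trans (Subgroup.coe_pow _ _ _)
    rw [hc.mul_pow, inv_pow, e, mul_inv_cancel]
  · have h1 : Commute (y : Ω) (l : Ω) := hyl'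
    have h2 : Commute (d₀ : Ω) (l : Ω) :=
      congrArg Subtype.val (Subgroup.mem_center_iff.1 (hB.central hd₀) l).symm
    exact (h1.mul_left h2.inv_left).eq
  · intro c hc
    have h1 : Commute (y : Ω) (c : Ω) := hyC' c hc
    have h2 : Commute (d₀ : Ω) (c : Ω) :=
      congrArg Subtype.val (Subgroup.mem_center_iff.1 (hB.central hd₀) c).symm
    exact (h1.mul_left h2.inv_left).eq
  · intro g hg
    obtain ⟨i, hi⟩ := hcover g hg
    refine ⟨i, ?_⟩
    have hc : Commute (y : Ω) (d₀ : Ω)⁻¹ := (show Commute (y : Ω) d₀ from hyC' d₀ hd₀).inv_right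
    rw [hc.mul_zpow, mul_inv_rev, inv_zpow, inv_inv,
      show g * ((d₀ : Ω) ^ i * ((y : Ω) ^ i)⁻¹) = g * ((y : Ω) ^ i)⁻¹ * (d₀ : Ω) ^ i by
        rw [mul_assoc, ((show Commute (d₀ : Ω) (y : Ω) from (hyC' d₀ hd₀).symm).zpow_zpow i i).inv_right.eq]]
    exact mul_mem hi (zpow_mem d₀.2 i)

end Cfsg.Agent.RankTwoStep
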