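import Cfsg.Agent.Lib.Fusion.Subsystem
import Cfsg.Agent.Lib.CharP.AxB
import Cfsg.Prelude.Def_FusionComponents

/-!
# Killing the `p'`-core of a realizer
-/

set_option autoImplicit false

namespace Cfsg.Agent.FusionSys

open Cfsg Cfsg.FusionSystem

theorem realized_quotient_coprime {Ω : Type*} [Group Ω] {S : Subgroup Ω} {p : ℕ} [Fact p.Prime]
    {F : FusionSystem S} {G : Type*} [Group G] [Finite G] {ι : S →* G} (hι : F.IsRealizedBy ι) (T : Sylow p G)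
    (hT : (T : Subgroup G) = ι.range) (H : Subgroup G) [H.Normal] (hcop : (Nat.card H).Coprime p) :
    F.IsRealizedBy ((QuotientGroup.mk' H).comp ι) ∧
      ∃ T' : Sylow p (G ⧸ H), (T' : Subgroup (G ⧸ H)) = ((QuotientGroup.mk' H).comp ι).range := by
  have hιT : ∀ x : S, ι x ∈ (T : Subgroup G) := fun x => hT ▸ ⟨x, rfl⟩
  have hTH : ∀ x : G, x ∈ (T : Subgroup G) → x ∈ H → x = 1 := by
    intro x hxT hxH
    obtain ⟨k, hk⟩ := IsPGroup.iff_orderOf.1 T.2 ⟨x, hxT⟩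
    rw [Subgroup.orderOf_mk] at hk
    refine orderOf_eq_one_iff.1 (Nat.eq_one_of_dvd_coprimes (hcop.pow_right k) ?_ hk.dvd)
    rw [← Subgroup.orderOf_mk x hxH]
    exact orderOf_dvd_natCard _
  refine ⟨⟨(injective_iff_map_eq_one _).2 fun x hx =>
      hι.1 ((hTH _ (hιT x) ((QuotientGroup.eq_one_iff _).1 hx)).trans (map_one ι).symm),
    fun P hP φ hφ => (hι.2 P hP φ hφ).trans ⟨fun ⟨g, hg⟩ => ⟨g, fun x => ?_⟩, fun ⟨γ, hγ⟩ => ?_⟩⟩,
    T.mapSurjective (QuotientGroup.mk'_surjective H), by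
      rw [Sylow.coe_mapSurjective, hT, MonoidHom.range_comp]⟩
  · show QuotientGroup.mk' H (ι _) = _
    rw [hg x, map_mul, map_mul, map_inv]
    rfl
  · obtain ⟨g, hg, hgS⟩ := exists_lift_conj T H (P := imageAlong ι P)
      (by rw [hT]; exact Subgroup.map_le_range ι _) γ (by
        rintro _ ⟨x, hx, rfl⟩
        exact ⟨_, hιT ⟨φ ⟨x, hx⟩, hφ _⟩, hγ ⟨x, hx⟩⟩)
    refine ⟨g, fun x => ?_⟩
    have hxm : ι ⟨x, hP x.2⟩ ∈ imageAlong ι P := ⟨⟨x, hP x.2⟩, x.2, rfl⟩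
    have h1 := (T : Subgroup G).mul_mem ((T : Subgroup G).inv_mem (hιT ⟨φ x, hφ x⟩)) (hgS _ hxm)
    refine eq_of_inv_mul_eq_one (hTH _ h1 ((QuotientGroup.eq).1 ?_))
    show QuotientGroup.mk (ι ⟨φ x, hφ x⟩) = QuotientGroup.mk (g * ι ⟨x, hP x.2⟩ * g⁻¹)
    rw [QuotientGroup.mk_mul, QuotientGroup.mk_mul, QuotientGroup.mk_inv, hg]
    exact hγ x

end Cfsg.Agent.FusionSys
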