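import Cfsg.Agent.Lib.Fusion.PPowerExist
import Cfsg.Agent.Lib.Fusion.ComponentTransport
import Cfsg.Agent.Lib.Fusion.ResidualNormalExt
import Cfsg.Agent.Lib.Fusion.Model
import Cfsg.Agent.Lib.Fusion.ModelFacts
import Cfsg.Agent.Lib.Fusion.ModelNormal
import Cfsg.Agent.Lib.Fusion.Normal
import Cfsg.Agent.Lib.Fusion.FactorMorphism
import Cfsg.Agent.Lib.PLocal.PSolvable
import Cfsg.Agent.Lib.Techniques.CharP
import Cfsg.Agent.Lib.LocalEven.Amalgam
import Cfsg.Prelude.Def_Amalgam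

/-!
# Systems with terminating residual series

The residual series of a saturated system terminates exactly when the system is constrained with `p`-soluble
model: the residual subsystems of a system with a model have the residual subgroups as models, and constraint
goes up from the residual subsystems.
-/

set_option autoImplicit false

namespace Cfsg.Agent.FusionSys

open Cfsg Cfsg.FusionSystem

variable {Ω : Type*} [Group Ω] {S T : Subgroup Ω} {p : ℕ} [hp : Fact p.Prime] {F : FusionSystem S}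
  {G : Type*} [Group G] {ι : S →* G}

/-- The system realized by an injective map. -/
noncomputable def modelSys (κ : T →* G) : FusionSystem T where
  Hom P := {φ | Function.Injective κ ∧ ∃ hP : P ≤ T, ∃ hφ : ∀ x : P, φ x ∈ T, ∃ g : G, ∀ x : P,
      κ ⟨φ x, hφ x⟩ = g * κ ⟨x, hP x.2⟩ * g⁻¹} ∪
    {φ | ¬ Function.Injective κ ∧ φ ∈ (innerFusionSystem T).Hom P}
  le_of_mem := by
    rintro P φ (⟨-, hP, hφ, -⟩ | h)
    · exact ⟨hP, hφ⟩
    · exact (innerFusionSystem T).le_of_mem h.2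
  injective_of_mem := by
    rintro P φ (⟨hκ, hP, hφ, g, hg⟩ | h) a b hab
    · have h1 : g * κ ⟨a, hP a.2⟩ * g⁻¹ = g * κ ⟨b, hP b.2⟩ * g⁻¹ := by
        rw [← hg, ← hg]
        exact congrArg κ (Subtype.ext hab)
      exact Subtype.ext (congrArg (fun z : T => (z : Ω)) (hκ (mul_left_cancel (mul_right_cancel h1))) :)
    · exact (innerFusionSystem T).injective_of_mem h.2 hab
  conj_mem := by
    intro P g hP hg
    by_cases hκ : Function.Injective κ
    · refine Or.inl ⟨hκ, hP, fun x => T.mul_mem (T.mul_mem hg (hP x.2)) (T.inv_mem hg), κ ⟨g, hg⟩, fun x => ?_⟩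
      rw [← map_inv, ← map_mul, ← map_mul]
      rfl
    · exact Or.inr ⟨hκ, (innerFusionSystem T).conj_mem hP hg⟩
  comp_mem := by
    rintro P Q φ ψ (⟨hκ, hP, hφ, g, hg⟩ | h1) (⟨hκ', hQ, hψ, k, hk⟩ | h2) h
    · refine Or.inl ⟨hκ, hP, fun x => hψ _, k * g, fun x => ?_⟩
      refine (hk ⟨φ x, h x⟩).trans ?_
      show k * κ ⟨φ x, hφ x⟩ * k⁻¹ = _
      rw [hg]
      group
    · exact absurd hκ h2.1
    · exact absurd hκ' h1.1
    · exact Or.inr ⟨h1.1, (innerFusionSystem T).comp_mem h1.2 h2.2 h⟩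
  inv_mem := by
    rintro P φ (⟨hκ, hP, hφ, g, hg⟩ | h)
    · have hinj : Function.Injective φ := fun a b hab => by
        have h1 : g * κ ⟨a, hP a.2⟩ * g⁻¹ = g * κ ⟨b, hP b.2⟩ * g⁻¹ := by
          rw [← hg, ← hg]
          exact congrArg κ (Subtype.ext hab)
        exact Subtype.ext (congrArg (fun z : T => (z : Ω)) (hκ (mul_left_cancel (mul_right_cancel h1))) :)
      have hr : φ.range ≤ T := by rintro _ ⟨x, rfl⟩; exact hφ x
      have he : ∀ x : P, (P.subtype.comp (MonoidHom.ofInjective hinj).symm.toMonoidHom) ⟨φ x, x, rfl⟩ = x :=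
        fun x => congrArg Subtype.val ((MonoidHom.ofInjective hinj).symm_apply_apply x)
      refine ⟨P.subtype.comp (MonoidHom.ofInjective hinj).symm.toMonoidHom,
        Or.inl ⟨hκ, hr, fun y => hP (Subtype.coe_prop _), g⁻¹, ?_⟩, he⟩
      rintro ⟨_, x, rfl⟩
      refine (congrArg κ (Subtype.ext (he x) : (_ : T) = ⟨x, hP x.2⟩)).trans ?_
      rw [show (⟨φ x, _⟩ : T) = ⟨φ x, hφ x⟩ from rfl, hg]
      group
    · obtain ⟨ψ, hψ, he⟩ := (innerFusionSystem T).inv_mem h.2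
      exact ⟨ψ, Or.inr ⟨h.1, hψ⟩, he⟩

omit hp in
theorem modelSys_realized (κ : T →* G) (hκ : Function.Injective κ) : (modelSys κ).IsRealizedBy κ := by
  refine ⟨hκ, fun P hP φ hφ => ⟨?_, fun ⟨g, hg⟩ => Or.inl ⟨hκ, hP, hφ, g, hg⟩⟩⟩
  rintro (⟨_, _, _, g, hg⟩ | h)
  · exact ⟨g, hg⟩
  · exact absurd hκ h.1

/-- A model restricted to a normal subgroup. -/
theorem model_restrict [Finite S] (hM : F.IsModel p G ι) (L : Subgroup G) [L.Normal] (hTS : T ≤ S)
    (hT : ∀ x : S, (x : Ω) ∈ T ↔ ι x ∈ L) :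
    ∃ (κ : T →* L) (D : FusionSystem T), D.IsModel p L κ ∧ D.IsSubsystemOf F ∧
      ∀ x : T, (κ x : G) = ι ⟨x, hTS x.2⟩ := by
  haveI := hM.1
  set κ : T →* L := (ι.comp (Subgroup.inclusion hTS)).codRestrict L fun x => (hT ⟨x, hTS x.2⟩).1 x.2
  have hκ : Function.Injective κ := fun a b h =>
    Subgroup.inclusion_injective hTS (hM.2.1.1 (congrArg Subtype.val h))
  refine ⟨κ, modelSys κ, ⟨inferInstance, modelSys_realized κ hκ, ?_, ?_⟩, fun P φ hφ => ?_, fun x => rfl⟩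
  · obtain ⟨R, hR⟩ := hM.2.2.1
    obtain ⟨Q, hQ⟩ := Cfsg.Agent.PBasic.exists_sylow_subgroupOf R L
    refine ⟨Q, hQ.trans ?_⟩
    rw [hR]
    ext y
    rw [Subgroup.mem_subgroupOf]
    constructor
    · rintro ⟨x, hx⟩
      exact ⟨⟨x, (hT x).2 (hx ▸ y.2)⟩, Subtype.ext hx⟩
    · rintro ⟨x, rfl⟩
      exact ⟨_, rfl⟩
  · exact Cfsg.Agent.CharP.isCharP_of_normalized (Cfsg.Agent.CharP.isCharP_top.2 hM.2.2.2) le_top
      Subgroup.le_normalizer_of_normal
  · obtain ⟨g, hg⟩ := ((modelSys_realized κ hκ).2 P (hom_le _ hφ) φ (hom_apply_mem _ hφ)).1 hφ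
    refine (hM.2.1.2 P ((hom_le _ hφ).trans hTS) φ fun x => hTS (hom_apply_mem _ hφ x)).2 ⟨g, fun x => ?_⟩
    exact congrArg Subtype.val (hg x)

omit hp in
/-- Elements lifting an automorphism can be powered. -/
theorem realized_pow (hι : F.IsRealizedBy ι) {P : Subgroup Ω} (hP : P ≤ S) {a : MulAut P} {g : G}
    (hg : ∀ x : P, ι ⟨(a x : Ω), hP (a x).2⟩ = g * ι ⟨x, hP x.2⟩ * g⁻¹) (j : ℕ) :
    (∀ x : P, ι ⟨((a ^ j) x : Ω), hP ((a ^ j) x).2⟩ = g ^ j * ι ⟨x, hP x.2⟩ * (g ^ j)⁻¹) ∧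
      (g ^ j = 1 → a ^ j = 1) := by
  have h : ∀ (j : ℕ) (x : P), ι ⟨((a ^ j) x : Ω), hP ((a ^ j) x).2⟩ = g ^ j * ι ⟨x, hP x.2⟩ * (g ^ j)⁻¹ := by
    intro j
    induction j with
    | zero => intro x; simp
    | succ j ih =>
      intro x
      refine (ih (a x)).trans ?_ |> Eq.trans (by simp only [pow_succ, MulAut.mul_apply])
      rw [hg, pow_succ]
      group
  refine ⟨h j, fun h1 => MulEquiv.ext fun x => Subtype.ext ?_⟩
  have := h j x
  rw [h1, one_mul, inv_one, mul_one] at this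
  exact (congrArg Subtype.val (hι.1 this) :)

omit hp in
theorem exists_conjElt (hι : F.IsRealizedBy ι) {P : Subgroup Ω} (hP : P ≤ S) {a : MulAut P}
    (ha : a ∈ F.autGroup P) : ∃ g : G, ∀ x : P, ι ⟨(a x : Ω), hP (a x).2⟩ = g * ι ⟨x, hP x.2⟩ * g⁻¹ :=
  (hι.2 P hP _ fun x => hP (a x).2).1 ((mem_autGroup_iff F hP a).1 ha)

/-- An automorphism of `p`-power order is induced by an element of `p`-power order. -/
theorem exists_pElement (hι : F.IsRealizedBy ι) [Finite G] {P : Subgroup Ω} (hP : P ≤ S) {a : MulAut P}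
    (ha : a ∈ F.autGroup P) {k : ℕ} (hk : orderOf a = p ^ k) :
    ∃ g : G, (∃ i, orderOf g = p ^ i) ∧ ∀ x : P, ι ⟨(a x : Ω), hP (a x).2⟩ = g * ι ⟨x, hP x.2⟩ * g⁻¹ := by
  obtain ⟨g, hg⟩ := exists_conjElt hι hP ha
  obtain ⟨i, m, hpm, hord⟩ := Nat.exists_eq_pow_mul_and_not_dvd (orderOf_pos g).ne' p hp.out.ne_one
  have hco : Nat.Coprime p m := hp.out.coprime_iff_not_dvd.2 hpm
  obtain ⟨j, hj1, hj0⟩ := Nat.chineseRemainder (hco.pow_left i) 1 0
  refine ⟨g ^ j, ?_, ?_⟩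
  · have h1 : (g ^ j) ^ p ^ i = 1 := by
      rw [← pow_mul]
      refine (pow_eq_pow_of_modEq ?_ (pow_orderOf_eq_one g)).trans (pow_zero g)
      rw [hord, mul_comm (p ^ i) m]
      simpa using hj0.mul_right' (p ^ i)
    exact (Nat.dvd_prime_pow hp.out).1 (orderOf_dvd_of_pow_eq_one h1) |>.imp fun _ h => h.2
  · have h1 : p ^ k ∣ p ^ i := by
      have h2 : a ^ orderOf g = 1 := (realized_pow hι hP hg _).2 (pow_orderOf_eq_one g)
      have h3 := orderOf_dvd_of_pow_eq_one h2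
      rw [hk, hord] at h3
      exact (hco.pow_left k).dvd_of_dvd_mul_right h3
    have haj : a ^ j = a := by
      conv_rhs => rw [← pow_one a]
      exact pow_eq_pow_of_modEq (hj1.of_dvd h1) (hk ▸ pow_orderOf_eq_one a)
    intro x
    have := (realized_pow hι hP hg j).1 x
    simp only [haj] at this
    exact this

/-- An automorphism of order prime to `p` is induced by an element of order prime to `p`. -/
theorem exists_pPrimeElement (hι : F.IsRealizedBy ι) [Finite G] {P : Subgroup Ω} (hP : P ≤ S) {a : MulAut P}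
    (ha : a ∈ F.autGroup P) (hco : (orderOf a).Coprime p) :
    ∃ g : G, (orderOf g).Coprime p ∧ ∀ x : P, ι ⟨(a x : Ω), hP (a x).2⟩ = g * ι ⟨x, hP x.2⟩ * g⁻¹ := by
  obtain ⟨g, hg⟩ := exists_conjElt hι hP ha
  obtain ⟨i, e, m, hord, hm, hdvd, he0, he1⟩ := ModelNormal.exists_pPart_exponent (p := p) (orderOf g) (orderOf a)
    (orderOf_pos g) (orderOf_dvd_of_pow_eq_one ((realized_pow hι hP hg _).2 (pow_orderOf_eq_one g))) hco
  refine ⟨g ^ e, Nat.Coprime.coprime_dvd_left (orderOf_dvd_of_pow_eq_one ?_) hm, ?_⟩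
  · rw [← pow_mul, ← orderOf_dvd_iff_pow_eq_one, hord]
    exact Nat.mul_dvd_mul_right he0 m
  · have haj : a ^ e = a := by
      conv_rhs => rw [← pow_one a]
      exact pow_eq_pow_of_modEq (he1.of_dvd hdvd) (pow_orderOf_eq_one a)
    intro x
    have := (realized_pow hι hP hg e).1 x
    simp only [haj] at this
    exact this

theorem pElementClosure_top_normal : (Cfsg.pElementClosure p (⊤ : Subgroup G)).Normal := by
  refine ⟨fun n hn g => ?_⟩
  suffices h : Cfsg.pElementClosure p (⊤ : Subgroup G) ≤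
      (Cfsg.pElementClosure p (⊤ : Subgroup G)).comap (MulAut.conj g).toMonoidHom from h hn
  refine (Subgroup.closure_le _).2 ?_
  rintro x ⟨-, k, hk⟩
  exact Subgroup.subset_closure ⟨Subgroup.mem_top _, k, (MulEquiv.orderOf_eq (MulAut.conj g) x).trans hk⟩

variable [Finite S]

/-- The `p'`-residual subsystem of a system with a model has the subgroup of the `p`-elements as a model. -/
theorem pPrimeResidual_model (hM : F.IsModel p G ι) {E : FusionSystem S} (hE : F.IsPPrimeResidual p E) :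
    ∃ κ : S →* Cfsg.pElementClosure p (⊤ : Subgroup G), E.IsModel p (Cfsg.pElementClosure p (⊤ : Subgroup G)) κ := by
  haveI := hM.1
  haveI := pElementClosure_top_normal (G := G) (p := p)
  set K := Cfsg.pElementClosure p (⊤ : Subgroup G)
  obtain ⟨R, hR⟩ := hM.2.2.1
  have hrK : ∀ x : S, ι x ∈ K := fun x =>
    Cfsg.Agent.LEAmalgam.le_pElementClosure (H := ⊤) R.2 le_top (hR.ge ⟨x, rfl⟩)
  have hS : IsPGroup p S := (hR ▸ R.2 : IsPGroup p ι.range).of_equiv (MonoidHom.ofInjective hM.2.1.1).symm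
  obtain ⟨κ, D, hD, hsub, hκe⟩ := model_restrict hM K le_rfl fun x => ⟨fun _ => hrK x, fun _ => x.2⟩
  refine ⟨κ, ?_⟩
  suffices h : E = D by rw [h]; exact hD
  have hDidx : D.HasPrimeToPIndexIn F p := by
    refine ⟨hsub, fun P hP => ?_⟩
    rw [MonoidHom.map_closure, Subgroup.closure_le]
    rintro _ ⟨a, ⟨k, hk⟩, rfl⟩
    obtain ⟨g, ⟨i, hi⟩, hg⟩ := exists_pElement hM.2.1 hP a.2 (k := k) (by rw [Subgroup.orderOf_coe]; exact hk)
    refine (mem_autGroup_iff D hP _).2 ((hD.2.1.2 P hP _ fun x => hP ((a : MulAut P) x).2).2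
      ⟨⟨g, Subgroup.subset_closure ⟨Subgroup.mem_top g, i, hi⟩⟩, fun x => Subtype.ext ?_⟩)
    show (κ _ : G) = g * (κ _ : G) * g⁻¹
    rw [hκe, hκe]
    exact hg x
  have hEU : ∀ (Q : Subgroup Ω) (hQ : CentricNormal F Q), ∀ g ∈ K, ∃ a ∈ E.autGroup Q,
      ∀ x : Q, ι ⟨((a x : Q) : Ω), hQ.le (a x).2⟩ = g * ι ⟨x, hQ.le x.2⟩ * g⁻¹ := by
    intro Q hQ g hg
    obtain ⟨π, -, hπ, -, -⟩ := exists_modelAction hM hQ
    refine ⟨π g, ?_, fun x => (hπ g x).symm⟩
    have hle : K ≤ ((E.autGroup Q).comap ((F.autGroup Q).subtype.comp π)) := by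
      refine (Subgroup.closure_le _).2 ?_
      rintro y ⟨-, k, hk⟩
      refine hE.2.1.2 Q hQ.le ⟨π y, Subgroup.subset_closure ?_, rfl⟩
      obtain ⟨i, -, hi⟩ := (Nat.dvd_prime_pow hp.out).1 (hk ▸ orderOf_map_dvd π y)
      exact ⟨i, hi⟩
    exact hle hg
  refine le_antisymm_fusion (hE.2.2 D (saturated_of_realized hD.2.1 hD.2.2.1) hDidx) fun P φ hφ => ?_
  have hP := hom_le D hφ
  obtain ⟨k, hk⟩ := (hD.2.1.2 P hP φ (hom_apply_mem D hφ)).1 hφ
  have hk' : ∀ x : P, ι ⟨φ x, hom_apply_mem D hφ x⟩ = (k : G) * ι ⟨x, hP x.2⟩ * (k : G)⁻¹ := fun x => by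
    have h := congrArg Subtype.val (hk x)
    rw [hκe, Subgroup.coe_mul, Subgroup.coe_mul, hκe] at h
    exact h
  set U := preim ι (Cfsg.pCore p G)
  have hU : CentricNormal F U := model_centricNormal hM
  obtain ⟨a, ha, hae⟩ := hEU U hU k k.2
  set e := U.subtype.comp a.toMonoidHom
  have hem : e ∈ E.Hom U := (mem_autGroup_iff E hU.le a).1 ha
  haveI := finite_of_le hU.le
  have hUfn : E.IsFullyNormalized U := ⟨hU.le, fun Q ⟨θ, hθ, hθr⟩ => by
    have he : Q = U := by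
      subst hθr
      exact Subgroup.eq_of_le_of_card_ge
        (by rintro _ ⟨x, rfl⟩; exact (isNormal_stronglyClosed hU.normal).2 U le_rfl θ (hE.2.1.1 _ hθ) x)
        (isConj_card ⟨θ, hθ, rfl⟩).le
    subst he
    exact le_rfl⟩
  obtain ⟨ψ, hψ, hψe⟩ := (fullyNormalized_receptive hS hE.1 hUfn).2 U e hem (equivHom_range a)
  have hle : P ⊔ U ≤ extender S U e := by
    refine sup_le (fun x hx => Subgroup.subset_closure ⟨hP hx, hU.normalizer (hP hx), φ ⟨x, hx⟩,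
      hom_apply_mem D hφ _, fun u hu => ?_⟩) (le_extender E hem)
    refine congrArg Subtype.val (hM.2.1.1 (a₁ := ⟨_, hU.le (a ⟨_, hu⟩).2⟩)
      (a₂ := ⟨φ ⟨x, hx⟩, hom_apply_mem D hφ _⟩ * ⟨(a u : Ω), hU.le (a u).2⟩ * ⟨φ ⟨x, hx⟩, hom_apply_mem D hφ _⟩⁻¹) ?_)
    rw [map_mul, map_mul, map_inv, hk', hae, hae]
    rw [show (⟨x * (u : Ω) * x⁻¹, hU.le hu⟩ : S) = ⟨x, hP hx⟩ * ⟨u, hU.le u.2⟩ * ⟨x, hP hx⟩⁻¹ from rfl,
      map_mul, map_mul, map_inv]
    group
  set ν := ψ.comp (Subgroup.inclusion hle)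
  have hν : ν ∈ E.Hom (P ⊔ U) := restrict_mem E hψ hle
  have hPU : P ⊔ U ≤ S := sup_le hP hU.le
  obtain ⟨g', hg'⟩ := (hM.2.1.2 _ hPU ν (hom_apply_mem E hν)).1 (hE.2.1.1 _ hν)
  have hz : g'⁻¹ * k ∈ Cfsg.pCore p G := hM.2.2.2 (Subgroup.mem_centralizer_iff.2 fun y hy => by
    obtain ⟨s, rfl⟩ := model_pCore_le hM hy
    have hs : (s : Ω) ∈ U := mem_preim.2 hy
    have h1 := hae ⟨s, hs⟩
    have h2 := hg' (Subgroup.inclusion le_sup_right ⟨s, hs⟩)
    have h3 : g' * ι s * g'⁻¹ = (k : G) * ι s * (k : G)⁻¹ :=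
      h2.symm.trans ((congrArg ι (Subtype.ext (hψe s hs _))).trans h1)
    calc ι s * (g'⁻¹ * k) = g'⁻¹ * (g' * ι s * g'⁻¹) * k := by group
      _ = g'⁻¹ * ((k : G) * ι s * (k : G)⁻¹) * k := by rw [h3]
      _ = g'⁻¹ * k * ι s := by group)
  obtain ⟨z, hz'⟩ := model_pCore_le hM hz
  have hzU : (z : Ω) ∈ U := mem_preim.2 (hz'.symm ▸ hz)
  have hv : ∀ x : P, conjHom P (z : Ω) x ∈ P ⊔ U := fun x =>
    Subgroup.mul_mem _ (Subgroup.mul_mem _ (le_sup_right (a := P) hzU) (le_sup_left (b := U) x.2))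
      (Subgroup.inv_mem _ (le_sup_right (a := P) hzU))
  refine hom_congr E (E.comp_mem (E.conj_mem hP z.2) hν hv) fun x => ?_
  refine congrArg Subtype.val (hM.2.1.1 (a₁ := ⟨φ x, hom_apply_mem D hφ x⟩) (a₂ := ⟨_, hom_apply_mem E hν ⟨_, hv x⟩⟩) ?_)
  rw [hk', hg']
  rw [show (⟨conjHom P (z : Ω) x, hPU (hv x)⟩ : S) = z * ⟨x, hP x.2⟩ * z⁻¹ from rfl, map_mul, map_mul, map_inv, hz']
  group

/-- The preimage of the `p`-residual of a model is the hyperfocal subgroup. -/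
theorem model_hyperfocal (hM : F.IsModel p G ι) (x : S) :
    (x : Ω) ∈ F.hyperfocalSubgroup p ↔ ι x ∈ Cfsg.pResidual p G := by
  haveI := hM.1
  obtain ⟨R, hR⟩ := hM.2.2.1
  have h : ∀ U : Subgroup G, U = ι.range → IsFusIso F (groupFusionSystem U) ι := by
    rintro _ rfl
    exact isFusIso_of_realized hM.2.1
  have hi := h _ hR
  haveI : Finite (R : Subgroup G) := inferInstance
  constructor
  · intro hx
    exact ((group_hyperfocal R).le (hi.hyperfocal_le_image (imageAlong_mem hx))).2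
  · intro hx
    have h1 : ι x ∈ (groupFusionSystem (R : Subgroup G)).hyperfocalSubgroup p :=
      (group_hyperfocal R).ge ⟨hR.ge ⟨x, rfl⟩, hx⟩
    have h2 := hi.symm.hyperfocal_le_image (imageAlong_mem (ι := hi.symmMap) (x := ⟨ι x, hi.mem_range' x⟩) h1)
    rwa [hi.symmMap_apply] at h2

/-- The `p`-residual subsystem of a system with a model has the `p`-residual as a model. -/
theorem pResidual_model (hM : F.IsModel p G ι) {D : FusionSystem (F.hyperfocalSubgroup p)}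
    (hD : F.IsPResidual p D) :
    ∃ κ : F.hyperfocalSubgroup p →* Cfsg.pResidual p G, D.IsModel p (Cfsg.pResidual p G) κ := by
  haveI := hM.1
  haveI := Cfsg.Agent.PBasic.pResidual_normal_inst p G
  obtain ⟨R, hR⟩ := hM.2.2.1
  have hS : IsPGroup p S := (hR ▸ R.2 : IsPGroup p ι.range).of_equiv (MonoidHom.ofInjective hM.2.1.1).symm
  have hTS : F.hyperfocalSubgroup p ≤ S := hyperfocal_le F
  haveI := finite_of_le hTS
  obtain ⟨κ, D', hD', hsub, hκe⟩ := model_restrict hM (Cfsg.pResidual p G) hTS (model_hyperfocal hM)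
  refine ⟨κ, ?_⟩
  suffices h : D = D' by rw [h]; exact hD'
  refine pPower_unique (hS.to_le hTS) (saturated_of_realized hD'.2.1 hD'.2.2.1) ⟨hsub, le_rfl, fun P hP => ?_⟩ hD.1 hD.2
  rw [Cfsg.pResidual, MonoidHom.map_closure, Subgroup.closure_le]
  rintro _ ⟨a, ha, rfl⟩
  obtain ⟨g, hgc, hg⟩ := exists_pPrimeElement hM.2.1 (hP.trans hTS) a.2 (by rw [Subgroup.orderOf_coe]; exact ha)
  refine (mem_autGroup_iff D' hP _).2 ((hD'.2.1.2 P hP _ fun x => hP ((a : MulAut P) x).2).2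
    ⟨⟨g, Subgroup.subset_closure hgc⟩, fun x => Subtype.ext ?_⟩)
  show (κ _ : G) = g * (κ _ : G) * g⁻¹
  rw [hκe, hκe]
  exact hg x

end Cfsg.Agent.FusionSys
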