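import Cfsg.Agent.Lib.Fusion.SmallStable
import Cfsg.Agent.Lib.Fusion.LocalEngines
import Cfsg.Agent.Lib.Fusion.KNormalizer
import Cfsg.Agent.Lib.Fusion.Local
import Cfsg.Agent.Lib.Solvable.Structure

/-!
# Small abelian hyperfocal subgroups control fusion

A subsystem with the same maps between abelian subgroups of exponent `p` (four for `p = 2`) of the hyperfocal
subgroup is the whole system.
-/

set_option autoImplicit false
set_option linter.style.haveILetI false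

namespace Cfsg.Agent.FusionSys

open Cfsg Cfsg.FusionSystem
open scoped Pointwise

universe u

/-- Abelian and generated by small elements. -/
def SmallAb {G : Type u} [Group G] (p : ℕ) (A : Subgroup G) : Prop :=
  (∀ x ∈ A, ∀ y ∈ A, x * y = y * x) ∧ ∀ a ∈ A, IsSmallElt p a

theorem isSmallElt_mul {G : Type u} [Group G] {p : ℕ} {a b : G} (h : Commute a b) (ha : IsSmallElt p a)
    (hb : IsSmallElt p b) : IsSmallElt p (a * b) := by
  by_cases hp : p = 2
  · have h4 : ∀ z : G, IsSmallElt p z → z ^ 4 = 1 := fun z hz => hz.elim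
      (fun e => by rw [hp] at e; rw [show (4 : ℕ) = 2 * 2 from rfl, pow_mul, e, one_pow]) fun e => e.2
    exact Or.inr ⟨hp, by rw [h.mul_pow, h4 a ha, h4 b hb, one_mul]⟩
  · have hp' : ∀ z : G, IsSmallElt p z → z ^ p = 1 := fun z hz => hz.elim id fun e => absurd e.1 hp
    exact Or.inl (by rw [h.mul_pow, hp' a ha, hp' b hb, one_mul])

theorem SmallAb.sup {G : Type u} [Group G] {p : ℕ} {A B : Subgroup G} (hA : SmallAb p A) (hB : SmallAb p B)
    (h : ∀ a ∈ A, ∀ b ∈ B, a * b = b * a) : SmallAb p (A ⊔ B) := by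
  have hm : ∀ z ∈ A ⊔ B, ∃ a ∈ A, ∃ b ∈ B, z = a * b := by
    intro z hz
    rw [← Subgroup.closure_eq A, ← Subgroup.closure_eq B, ← Subgroup.closure_union] at hz
    induction hz using Subgroup.closure_induction with
    | mem x hx =>
      rcases hx with hx | hx
      · exact ⟨x, hx, 1, B.one_mem, (mul_one x).symm⟩
      · exact ⟨1, A.one_mem, x, hx, (one_mul x).symm⟩
    | one => exact ⟨1, A.one_mem, 1, B.one_mem, (mul_one 1).symm⟩
    | mul x y _ _ hx hy =>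
      obtain ⟨a, ha, b, hb, rfl⟩ := hx
      obtain ⟨c, hc, d, hd, rfl⟩ := hy
      refine ⟨a * c, A.mul_mem ha hc, b * d, B.mul_mem hb hd, ?_⟩
      calc a * b * (c * d) = a * (b * c) * d := by group
        _ = a * c * (b * d) := by rw [← h c hc b hb]; group
    | inv x _ hx =>
      obtain ⟨a, ha, b, hb, rfl⟩ := hx
      refine ⟨a⁻¹, A.inv_mem ha, b⁻¹, B.inv_mem hb, ?_⟩
      rw [mul_inv_rev, h _ (A.inv_mem ha) _ (B.inv_mem hb)]
  constructor
  · intro x hx y hy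
    obtain ⟨a, ha, b, hb, rfl⟩ := hm x hx
    obtain ⟨c, hc, d, hd, rfl⟩ := hm y hy
    have h1 : Commute a c := hA.1 a ha c hc
    have h2 : Commute b d := hB.1 b hb d hd
    have h3 : Commute a d := h a ha d hd
    have h4 : Commute c b := h c hc b hb
    exact ((h1.mul_right h3).mul_left (h4.symm.mul_right h2)).eq
  · intro x hx
    obtain ⟨a, ha, b, hb, rfl⟩ := hm x hx
    exact isSmallElt_mul (h a ha b hb) (hA.2 a ha) (hB.2 b hb)

theorem SmallAb.map {G H : Type u} [Group G] [Group H] {p : ℕ} {A : Subgroup G} (hA : SmallAb p A) (f : A →* H) :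
    SmallAb p f.range := by
  constructor
  · rintro _ ⟨x, rfl⟩ _ ⟨y, rfl⟩
    rw [← map_mul, ← map_mul, show x * y = y * x from Subtype.ext (hA.1 x x.2 y y.2)]
  · rintro _ ⟨x, rfl⟩
    exact ((hA.2 x x.2).of_map (f := A.subtype) Subtype.coe_injective).map f

variable {Ω : Type u} [Group Ω] {S : Subgroup Ω} [Finite S] {p : ℕ} [hp : Fact p.Prime] {F E : FusionSystem S}

omit hp in
theorem fullyCentralized_of_le (hEF : E ≤ F) {X : Subgroup Ω} (h : F.IsFullyCentralized X) :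
    E.IsFullyCentralized X :=
  ⟨h.1, fun Q ⟨φ, hφ, hr⟩ => h.2 Q ⟨φ, hEF X hφ, hr⟩⟩

omit hp in
theorem fullyNormalized_of_le (hEF : E ≤ F) {X : Subgroup Ω} (h : F.IsFullyNormalized X) :
    E.IsFullyNormalized X :=
  ⟨h.1, fun Q ⟨φ, hφ, hr⟩ => h.2 Q ⟨φ, hEF X hφ, hr⟩⟩

/-- A map with known restriction to `X`, onto a receptive `X'`, extends to any subgroup on which a compatible map is given. -/
theorem exists_ext_of_compat {X X' P : Subgroup Ω} (hX' : E.IsReceptive X') (hXP : X ≤ P)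
    (hPX : P ≤ normalizerIn S X) {ε : X →* Ω} (hε : ε ∈ E.Hom X) (hr : ε.range = X') {φ : P →* Ω}
    (hφS : ∀ x, φ x ∈ S) (hag : ∀ x : X, φ (Subgroup.inclusion hXP x) = ε x) :
    ∃ χ ∈ E.Hom P, ∀ x : X, χ (Subgroup.inclusion hXP x) = ε x := by
  obtain ⟨ψ, hψ, hψe⟩ := hX'.2 X ε hε hr
  have hle : P ≤ extender S X ε := fun u hu => by
    refine Subgroup.subset_closure ⟨(hPX hu).1, (hPX hu).2, φ ⟨u, hu⟩, hφS _, fun w hw => ?_⟩
    rw [← hag ⟨u * w * u⁻¹, hw⟩, ← hag w, show Subgroup.inclusion hXP ⟨u * w * u⁻¹, hw⟩ =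
      ⟨u, hu⟩ * Subgroup.inclusion hXP w * ⟨u, hu⟩⁻¹ from Subtype.ext rfl, map_mul, map_mul, map_inv]
  exact ⟨ψ.comp (Subgroup.inclusion hle), restrict_mem E hψ hle, fun x => hψe x x.2 _⟩

/-- Two maps with the same restriction to `X` differ on centralizing elements by a map fixing `X`. -/
theorem mem_of_agree (hEF : E ≤ F) {X R₁ : Subgroup Ω} (hXR : X ≤ R₁) {X' : Subgroup Ω}
    (hC : ∀ (P : Subgroup Ω) (θ : P →* Ω), θ ∈ F.Hom P → X' ≤ P → P ≤ centralizerIn S X' →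
      (∀ (x : Ω) (hx : x ∈ P), x ∈ X' → θ ⟨x, hx⟩ = x) → θ ∈ E.Hom P)
    (hR₁ : ∀ r ∈ R₁, ∀ x ∈ X, r * x = x * r)
    {φ χ : R₁ →* Ω} (hφ : φ ∈ F.Hom R₁) (hχ : χ ∈ E.Hom R₁)
    (hXimg : ∀ x ∈ X', ∃ y : X, φ (Subgroup.inclusion hXR y) = x)
    (hag : ∀ x : X, φ (Subgroup.inclusion hXR x) = χ (Subgroup.inclusion hXR x)) : φ ∈ E.Hom R₁ := by
  have hχF := hEF R₁ hχ
  obtain ⟨σ, hσ, hσr, hσ1, -⟩ := exists_inv F hχF
  have hσR : ∀ y, σ y ∈ R₁ := fun y => hσr.le ⟨y, rfl⟩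
  have hθ := F.comp_mem hσ hφ hσR
  have hX'r : X' ≤ χ.range := fun x hx => by
    obtain ⟨y, hy⟩ := hXimg x hx
    exact ⟨_, (hag y).symm.trans hy⟩
  have hθE := hC χ.range _ hθ hX'r ?_ ?_
  · refine hom_congr E (E.comp_mem hχ hθE fun x => ⟨x, rfl⟩) fun x => ?_
    exact congrArg φ (Subtype.ext (hσ1 x ⟨x, rfl⟩).symm)
  · rintro _ ⟨r, rfl⟩
    refine ⟨hom_apply_mem F hχF r, Subgroup.mem_centralizer_iff.2 fun x hx => ?_⟩
    obtain ⟨y, hy⟩ := hXimg x hx
    rw [← hy, hag, ← map_mul, ← map_mul]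
    exact congrArg χ (Subtype.ext (hR₁ r r.2 y y.2).symm)
  · intro x hx hxX
    obtain ⟨y, hy⟩ := hXimg x hxX
    have hxe : x = χ (Subgroup.inclusion hXR y) := (hy.symm.trans (hag y))
    refine Eq.trans (congrArg φ (Subtype.ext ?_)) hy
    refine Eq.trans ?_ (hσ1 (Subgroup.inclusion hXR y) ⟨_, rfl⟩)
    exact congrArg (fun z => σ z) (Subtype.ext hxe)

/-- `N_F(X)` lies in `E` if `Aut_F(X)` and `C_F(X)` do. -/
theorem normalizer_le (hS : IsPGroup p S) (hF : F.IsSaturated p) (hE : E.IsSaturated p) (hEF : E ≤ F)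
    {X : Subgroup Ω} (hX : F.IsFullyNormalized X) (hab : ∀ x ∈ X, ∀ y ∈ X, x * y = y * x)
    (hAut : ∀ α ∈ F.autGroup X, α ∈ E.autGroup X)
    (hC : ∀ (P : Subgroup Ω) (θ : P →* Ω), θ ∈ F.Hom P → X ≤ P → P ≤ centralizerIn S X →
      (∀ (x : Ω) (hx : x ∈ P), x ∈ X → θ ⟨x, hx⟩ = x) → θ ∈ E.Hom P)
    {P : Subgroup Ω} (hXP : X ≤ P) (hP : P ≤ normalizerIn S X) {φ : P →* Ω} (hφ : φ ∈ F.Hom P)
    (hφX : ∀ x : X, φ (Subgroup.inclusion hXP x) ∈ X) : φ ∈ E.Hom P := by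
  have hXE := fullyNormalized_of_le hEF hX
  set T := normalizerIn S X with hT
  have hXT : X ≤ T := le_normalizerIn hX.1
  haveI : Finite T := finite_of_le (normalizerIn_le S X)
  haveI := finite_of_le (S := S) hX.1
  have hTp : IsPGroup p T := hS.to_le (normalizerIn_le S X)
  set NF := normSystem F hX.1 with hNF
  set NE := normSystem E hX.1 with hNE
  have hNFspec := normSystem_spec F hX.1
  have hNFs := normalizerSystem_saturated hS hF hX NF hNFspec
  have hNEs := normalizerSystem_saturated hS hE hXE NE (normSystem_spec E hX.1)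
  have hXn : NF.IsNormal X := normalizerSystem_isNormal hX.1 hNFspec
  suffices hle : NF ≤ NE by
    have hmem : φ ∈ NF.Hom P := by
      rw [hNFspec P]
      refine ⟨hφ, hP, ?_, φ.comp (Subgroup.inclusion (sup_le le_rfl hXP)), restrict_mem F hφ _, fun x => rfl, ?_⟩
      · haveI := finite_of_le (S := S) hX.1
        intro x
        refine ⟨hom_apply_mem F hφ x, mem_normalizer_of_conj_mem_finite fun z hz => ?_⟩
        obtain ⟨y, hy⟩ := (Finite.surjective_of_injective (f := fun y : X => (⟨_, hφX y⟩ : X)) fun a b hab' =>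
          Subgroup.inclusion_injective hXP (F.injective_of_mem hφ (congrArg Subtype.val hab'))) ⟨z, hz⟩
        have hye : φ (Subgroup.inclusion hXP y) = z := congrArg Subtype.val hy
        have hc : (x : Ω) * y * (x : Ω)⁻¹ ∈ X := (Subgroup.mem_normalizer_iff.1 (hP x.2).2 y).1 y.2
        have := hφX ⟨_, hc⟩
        rwa [show Subgroup.inclusion hXP ⟨_, hc⟩ = x * Subgroup.inclusion hXP y * x⁻¹ from Subtype.ext rfl,
          map_mul, map_mul, map_inv, hye] at this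
      · rw [map_subgroupOf_eq_iff _ le_sup_right]
        refine ⟨fun y => hφX y, fun z hz => ?_⟩
        obtain ⟨y, hy⟩ := (Finite.surjective_of_injective (f := fun y : X => (⟨_, hφX y⟩ : X)) fun a b hab' =>
          Subgroup.inclusion_injective hXP (F.injective_of_mem hφ (congrArg Subtype.val hab'))) ⟨z, hz⟩
        exact ⟨y, congrArg Subtype.val hy⟩
    exact (hle P hmem).1
  refine alperin hTp hNFs fun R hR α hα => ?_
  have hRT : R ≤ T := hR.elim (fun e => e.le) fun e => e.1.1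
  haveI := finite_of_le (S := T) hRT
  have hRc : NF.IsCentric R := by
    rcases hR with rfl | hR
    · exact ⟨le_rfl, fun Q hQ => by
        rw [show Q = T from Subgroup.eq_of_le_of_card_ge (isConj_le_right hQ) (by rw [isConj_card hQ])]
        exact inf_le_left⟩
    · exact hR.1
  have hXR : X ≤ R := by
    rcases hR with rfl | hR
    · exact hXT
    · exact isNormal_le_centricRadical hTp hXn hR.1 (essential_radical hTp hNFs hR)
  -- normal `p`-subgroups of `Aut(R)` consist of inner automorphisms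
  have hrad : ∀ A₀ : Subgroup (NF.autGroup R), A₀.Normal → IsPGroup p A₀ →
      ∀ a ∈ A₀, (a : MulAut R) ∈ Inn R := by
    intro A₀ hn hp' a ha
    rcases hR with hRT' | hR
    · subst hRT'
      have hTn : NF.IsFullyNormalized T := ⟨le_rfl, fun Q _ => (Subgroup.card_le_of_le (normalizerIn_le T Q)).trans_eq
        (by rw [show normalizerIn T T = T from le_antisymm (normalizerIn_le T T) (le_normalizerIn le_rfl)])⟩
      obtain ⟨-, R', hR'⟩ := (fullyNormalized_imp hTp hNFs hTn).2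
      haveI := hn
      have h1 : A₀ ≤ (R' : Subgroup (NF.autGroup T)) := IsPGroup.le_sylow_of_normal hp' R'
      have h2 := h1 ha
      rw [hR', Subgroup.mem_subgroupOf, ← inn_eq_autInducedBy_self T] at h2
      exact h2
    · rw [← (essential_radical hTp hNFs hR).2]
      exact ⟨a, Cfsg.Agent.PBasic.le_pCore hn hp' ha, rfl⟩
  have hαhom := (mem_autGroup_iff NF hRT α).1 hα
  have hαF : R.subtype.comp α.toMonoidHom ∈ F.Hom R := by
    have h := hαhom; rw [hNFspec R] at h; exact h.1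
  have hautX : ∀ β ∈ NF.autGroup R, ∀ x : R, (x : Ω) ∈ X → ((β x : R) : Ω) ∈ X := fun β hβ x hx =>
    stronglyClosed_autGroup_mem (isNormal_stronglyClosed hXn) hRT hβ x hx
  -- restriction to `X`
  have hεF : (R.subtype.comp α.toMonoidHom).comp (Subgroup.inclusion hXR) ∈ F.Hom X := restrict_mem F hαF hXR
  have hεr : ((R.subtype.comp α.toMonoidHom).comp (Subgroup.inclusion hXR)).range = X := by
    refine Subgroup.eq_of_le_of_card_ge ?_ (le_of_eq (Nat.card_congr (MonoidHom.ofInjective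
      (F.injective_of_mem hεF)).toEquiv))
    rintro _ ⟨x, rfl⟩
    exact hautX α hα _ x.2
  obtain ⟨a₀, ha₀, ha₀e⟩ := exists_autGroup_of_range F hεF hεr
  have hεE : (R.subtype.comp α.toMonoidHom).comp (Subgroup.inclusion hXR) ∈ E.Hom X :=
    hom_congr E ((mem_autGroup_iff E hX.1 a₀).1 (hAut a₀ ha₀)) fun x => (ha₀e x).symm
  obtain ⟨χ, hχ, hχe⟩ := exists_ext_of_compat (fullyNormalized_receptive hS hE hXE) hXR hRT hεE hεr
    (φ := R.subtype.comp α.toMonoidHom) (fun x => hom_apply_mem F hαF x) fun x => rfl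
  -- the centralizer of `X` in `R`
  set R₁ := R ⊓ Subgroup.centralizer (X : Set Ω) with hR₁
  have hXR₁ : X ≤ R₁ := le_inf hXR fun x hx => Subgroup.mem_centralizer_iff.2 fun y hy => hab y hy x hx
  have hR₁R : R₁ ≤ R := inf_le_left
  have hβR₁ : ∀ β ∈ NF.autGroup R, ∀ x : R, (x : Ω) ∈ R₁ → ((β x : R) : Ω) ∈ R₁ := by
    intro β hβ x hx
    refine ⟨(β x).2, Subgroup.mem_centralizer_iff.2 fun y hy => ?_⟩
    have hy' : ((β⁻¹ ⟨y, hXR hy⟩ : R) : Ω) ∈ X := hautX _ (Subgroup.inv_mem _ hβ) _ hy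
    have e : β⁻¹ ⟨y, hXR hy⟩ * x = x * β⁻¹ ⟨y, hXR hy⟩ :=
      Subtype.ext (Subgroup.mem_centralizer_iff.1 (Subgroup.mem_inf.1 hx).2 _ hy')
    have := congrArg (fun r => ((β r : R) : Ω)) e
    simp only [map_mul, Subgroup.coe_mul] at this
    rwa [show β (β⁻¹ ⟨y, hXR hy⟩) = ⟨y, hXR hy⟩ from β.apply_symm_apply _] at this
  set φ₁ := (R.subtype.comp α.toMonoidHom).comp (Subgroup.inclusion hR₁R) with hφ₁
  have hφ₁E : φ₁ ∈ E.Hom R₁ := by
    refine mem_of_agree hEF hXR₁ hC (fun r hr x hx => (Subgroup.mem_centralizer_iff.1 (Subgroup.mem_inf.1 hr).2 x hx).symm)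
      (restrict_mem F hαF hR₁R) (restrict_mem E hχ hR₁R) (fun x hx => ?_) fun x => (hχe x).symm
    obtain ⟨y, hy⟩ := hεr.ge hx
    exact ⟨y, hy⟩
  have hφ₁m : ∀ x, φ₁ x ∈ R₁ := fun x => hβR₁ α hα _ x.2
  haveI : Finite R₁ := Finite.of_injective _ (Subgroup.inclusion_injective hR₁R)
  have hφ₁r : φ₁.range = R₁ := Subgroup.eq_of_le_of_card_ge (by rintro _ ⟨x, rfl⟩; exact hφ₁m x)
    (le_of_eq (Nat.card_congr (MonoidHom.ofInjective (E.injective_of_mem hφ₁E)).toEquiv))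
  have hφ₁NE : φ₁ ∈ NE.Hom R₁ := by
    rw [normSystem_spec E hX.1 R₁]
    refine ⟨hφ₁E, hR₁R.trans hRT, fun x => hRT (hR₁R (hφ₁m x)),
      φ₁.comp (Subgroup.inclusion (sup_le le_rfl hXR₁)), restrict_mem E hφ₁E _, fun x => rfl, ?_⟩
    rw [map_subgroupOf_eq_iff _ le_sup_right]
    exact ⟨fun y => hautX α hα _ y.2, fun z hz => by obtain ⟨y, hy⟩ := hεr.ge hz; exact ⟨y, hy⟩⟩
  -- automorphisms fixing `R₁` are inner
  let P₁ : Subgroup (NF.autGroup R) :=
    { carrier := {b | ∀ x : R, (x : Ω) ∈ R₁ → (b : MulAut R) x = x}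
      one_mem' := fun x _ => rfl
      mul_mem' := fun {a b} ha hb x hx => by
        show (a : MulAut R) ((b : MulAut R) x) = x
        rw [hb x hx, ha x hx]
      inv_mem' := fun {a} ha x hx => (a : MulAut R).injective (by
        rw [ha x hx]; exact (a : MulAut R).apply_symm_apply x) }
  have hP₁n : P₁.Normal := ⟨fun b hb g x hx => by
    show (g : MulAut R) ((b : MulAut R) (((g⁻¹ : NF.autGroup R) : MulAut R) x)) = x
    rw [hb _ (hβR₁ _ (g⁻¹).2 x hx)]
    exact (g : MulAut R).apply_symm_apply x⟩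
  have hP₁p : IsPGroup p P₁ := by
    rintro ⟨b, hb⟩
    obtain ⟨j, m, hm, hn⟩ := Nat.exists_eq_pow_mul_and_not_dvd (orderOf_pos b).ne' p hp.out.ne_one
    refine ⟨j, Subtype.ext ?_⟩
    show b ^ p ^ j = 1
    have hc : b ^ p ^ j ∈ P₁ := P₁.pow_mem hb _
    have hco : (orderOf ((b ^ p ^ j : NF.autGroup R) : MulAut R)).Coprime p := by
      rw [Subgroup.orderOf_coe, orderOf_pow, hn, Nat.gcd_mul_right_left, Nat.mul_div_cancel_left m (pow_pos hp.out.pos j)]
      exact ((Nat.Prime.coprime_iff_not_dvd hp.out).2 hm).symm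
    refine Subtype.ext (MulEquiv.ext fun u => fix_of_fix_diff (hTp.to_le hRT) hco ?_)
    refine hc _ ?_
    -- `u⁻¹ θ(u)` centralizes `X`
    set θ := ((b ^ p ^ j : NF.autGroup R) : MulAut R) with hθ
    refine ⟨(u⁻¹ * θ u).2, Subgroup.mem_centralizer_iff.2 fun x hx => ?_⟩
    have hux : ((u * ⟨x, hXR hx⟩ * u⁻¹ : R) : Ω) ∈ X :=
      (Subgroup.mem_normalizer_iff.1 (hRT u.2).2 x).1 hx
    have e1 : θ ⟨x, hXR hx⟩ = ⟨x, hXR hx⟩ := hc _ (hXR₁ hx)
    have e2 : θ (u * ⟨x, hXR hx⟩ * u⁻¹) = u * ⟨x, hXR hx⟩ * u⁻¹ := hc _ (hXR₁ hux)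
    rw [map_mul, map_mul, map_inv, e1] at e2
    have e3 : (⟨x, hXR hx⟩ : R) * (u⁻¹ * θ u) = u⁻¹ * θ u * ⟨x, hXR hx⟩ := by
      calc (⟨x, hXR hx⟩ : R) * (u⁻¹ * θ u) = u⁻¹ * (u * ⟨x, hXR hx⟩ * u⁻¹) * θ u := by group
        _ = u⁻¹ * (θ u * ⟨x, hXR hx⟩ * (θ u)⁻¹) * θ u := by rw [e2]
        _ = u⁻¹ * θ u * ⟨x, hXR hx⟩ := by group
    exact congrArg Subtype.val e3
  have hinner := hrad P₁ hP₁n hP₁p
  -- move `R₁` to a fully normalized conjugate in `N_E(X)`
  obtain ⟨R₁', hR₁', hR₁c, ψ, hψ, hψm, e, he, -⟩ := exists_transfer hTp hNEs (hR₁R.trans hRT)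
  have hRN : R ≤ normalizerIn T R₁ := fun u hu => by
    refine ⟨hRT hu, mem_normalizer_of_conj_mem_finite fun z hz => ?_⟩
    have h := hβR₁ _ (autInducedBy_le_autGroup NF hRT
      (exists_conjAut (P := R) (hRT hu) (Subgroup.le_normalizer hu)).choose_spec.1) ⟨z, hR₁R hz⟩ hz
    rwa [(exists_conjAut (P := R) (hRT hu) (Subgroup.le_normalizer hu)).choose_spec.2] at h
  set ψR := ψ.comp (Subgroup.inclusion hRN) with hψR
  have hψRE : ψR ∈ NE.Hom R := restrict_mem NE hψ hRN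
  have hNEF : NE ≤ NF := by
    intro Q θ hθ
    rw [normSystem_spec E hX.1 Q] at hθ
    obtain ⟨h1, h2, h3, θ', h4, h5, h6⟩ := hθ
    rw [hNFspec Q]
    exact ⟨hEF _ h1, h2, h3, θ', hEF _ h4, h5, h6⟩
  set R' := ψR.range with hR'
  have hR'T : R' ≤ T := range_le NE hψRE
  haveI := finite_of_le (S := T) hR'T
  have hconj : NF.IsConj R R' := ⟨ψR, hNEF R hψRE, rfl⟩
  have hR'c : NF.IsCentric R' := isCentric_isConj hRc hconj
  set eR : R ≃* R' := MonoidHom.ofInjective (NE.injective_of_mem hψRE) with heR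
  have heRE : R'.subtype.comp eR.toMonoidHom ∈ NE.Hom R := hom_congr NE hψRE fun _ => rfl
  have heRinv : R.subtype.comp eR.symm.toMonoidHom ∈ NE.Hom R' := by
    obtain ⟨σ, hσ, -, hσ1, -⟩ := exists_inv NE hψRE
    refine hom_congr NE hσ fun z => ?_
    obtain ⟨x, rfl⟩ := eR.surjective z
    show ((eR.symm (eR x) : R) : Ω) = σ (eR x)
    rw [eR.symm_apply_apply]
    exact (hσ1 x _).symm
  have hR₁'R' : R₁' ≤ R' := fun z hz => ⟨⟨(e.symm ⟨z, hz⟩ : Ω), hR₁R (e.symm ⟨z, hz⟩).2⟩, by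
    show ψ (Subgroup.inclusion hRN ⟨(e.symm ⟨z, hz⟩ : Ω), _⟩) = z
    exact ((he (e.symm ⟨z, hz⟩)).trans (congrArg Subtype.val (e.apply_symm_apply _)))⟩
  have heq : ∀ x : R₁, ((eR (Subgroup.inclusion hR₁R x) : R') : Ω) = e x := fun x => he x
  -- no outer automorphism fixes `R₁'`
  have hP₁' : ∀ β ∈ NF.autGroup R', (∀ x : R', (x : Ω) ∈ R₁' → β x = x) → β ∈ Inn R' := by
    intro β hβ hfix
    have hb : MulAut.congr eR.symm β ∈ NF.autGroup R := congr_mem_autGroup NF eR.symm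
      (hNEF R' heRinv) (hNEF R heRE) hβ
    have hbP : (⟨_, hb⟩ : NF.autGroup R) ∈ P₁ := fun x hx => by
      show eR.symm (β (eR.symm.symm x)) = x
      rw [MulEquiv.symm_symm]
      have hx' : ((eR x : R') : Ω) ∈ R₁' := by
        rw [show ((eR x : R') : Ω) = e ⟨x, hx⟩ from heq ⟨x, hx⟩]; exact (e ⟨x, hx⟩).2
      rw [hfix _ hx', eR.symm_apply_apply]
    obtain ⟨q, hq⟩ := hinner _ hbP
    refine ⟨eR q, MulEquiv.ext fun z => ?_⟩
    have h := congrArg eR (DFunLike.congr_fun hq (eR.symm z))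
    rw [MulAut.conj_apply, map_mul, map_mul, map_inv, eR.apply_symm_apply] at h
    refine h.trans ?_
    show eR (eR.symm (β (eR.symm.symm (eR.symm z)))) = β z
    rw [MulEquiv.symm_symm, eR.apply_symm_apply, eR.apply_symm_apply]
  have hCR' : centralizerIn T R₁' ≤ R' := by
    intro y hy
    by_contra hyR
    haveI : Finite (normalizerIn T R₁') := finite_of_le (normalizerIn_le T R₁')
    -- some element of `C(R₁') R'` normalizes `R'` and is outside it
    set V := centralizerIn T R₁' ⊔ R' with hV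
    have hVT : V ≤ T := sup_le (centralizerIn_le _ _) hR'T
    have hlt : R' < V := lt_of_le_of_ne le_sup_right fun e' => hyR (e' ▸ Subgroup.mem_sup_left hy)
    haveI := finite_of_le (S := T) hVT
    obtain ⟨v, hv, hvR⟩ := SetLike.exists_of_lt (lt_normalizerIn (S := V) (hTp.to_le hVT) hlt)
    have hR'N : R' ≤ Subgroup.normalizer (centralizerIn T R₁' : Set Ω) := by
      intro u hu
      obtain ⟨x, hx⟩ := hu
      have huN : u ∈ normalizerIn T R₁' := hx ▸ hψm (Subgroup.inclusion hRN x)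
      have key : ∀ h ∈ normalizerIn T R₁', ∀ c ∈ centralizerIn T R₁', h * c * h⁻¹ ∈ centralizerIn T R₁' := by
        rintro h ⟨hhT, hhN⟩ c ⟨hcT, hcC⟩
        refine ⟨T.mul_mem (T.mul_mem hhT hcT) (T.inv_mem hhT), Subgroup.mem_centralizer_iff.2 fun z hz => ?_⟩
        have hz' : h⁻¹ * z * h ∈ R₁' := by simpa using (Subgroup.mem_normalizer_iff.1 (Subgroup.inv_mem _ hhN) z).1 hz
        calc z * (h * c * h⁻¹) = h * (h⁻¹ * z * h * c) * h⁻¹ := by group
          _ = h * (c * (h⁻¹ * z * h)) * h⁻¹ := by rw [Subgroup.mem_centralizer_iff.1 hcC _ hz']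
          _ = h * c * h⁻¹ * z := by group
      exact mem_normalizer_of_conj_mem u (fun c hc => key u huN c hc) fun c hc => by
        simpa using key u⁻¹ (Subgroup.inv_mem _ huN) c hc
    have hvV : v ∈ ((centralizerIn T R₁' : Subgroup Ω) : Set Ω) * (R' : Set Ω) := by
      rw [← Subgroup.coe_mul_of_right_le_normalizer_left _ _ hR'N]
      exact hv.1
    obtain ⟨c, hc, r, hr, rfl⟩ := hvV
    have hcN : c ∈ Subgroup.normalizer (R' : Set Ω) := by
      have := Subgroup.mul_mem _ hv.2 (Subgroup.inv_mem _ (Subgroup.le_normalizer hr))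
      rwa [mul_inv_cancel_right] at this
    obtain ⟨β, hβ, hβe⟩ := exists_conjAut (P := R') hc.1 hcN
    have hβinn := hP₁' β (autInducedBy_le_autGroup NF hR'T hβ) fun x hx => Subtype.ext (by
      rw [hβe x, ← Subgroup.mem_centralizer_iff.1 hc.2 x hx, mul_inv_cancel_right])
    have hcR := mem_of_conj_mem_inn (F := NF) (centralizerIn_le_of_centric hR'c) hc.1 hR'T hβe hβinn
    exact hvR (R'.mul_mem hcR hr)
  -- the transported automorphism
  have hα' : MulAut.congr eR α ∈ NF.autGroup R' := congr_mem_autGroup NF eR (hNEF R heRE) (hNEF R' heRinv) hα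
  set α' := MulAut.congr eR α with hα'def
  have hα'R₁ : ∀ x : R', (x : Ω) ∈ R₁' → ((α' x : R') : Ω) ∈ R₁' := by
    intro x hx
    obtain ⟨w, hw⟩ := e.surjective ⟨x, hx⟩
    have hxe : x = eR (Subgroup.inclusion hR₁R w) :=
      Subtype.ext ((congrArg Subtype.val hw).symm.trans (heq w).symm)
    rw [hxe, hα'def, congr_apply, eR.symm_apply_apply]
    have hm : ((α (Subgroup.inclusion hR₁R w) : R) : Ω) ∈ R₁ := hφ₁m w
    rw [show (α (Subgroup.inclusion hR₁R w) : R) = Subgroup.inclusion hR₁R ⟨_, hm⟩ from Subtype.ext rfl, heq]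
    exact (e _).2
  obtain ⟨a₁, ha₁, ha₁e⟩ := exists_autGroup_of_range NE hφ₁NE hφ₁r
  have heNE : R₁'.subtype.comp e.toMonoidHom ∈ NE.Hom R₁ :=
    hom_congr NE (restrict_mem NE hψRE hR₁R) fun x => (heq x).symm
  have heNEinv : R₁.subtype.comp e.symm.toMonoidHom ∈ NE.Hom R₁' := by
    refine hom_congr NE (restrict_mem NE heRinv hR₁'R') fun z => ?_
    obtain ⟨w, rfl⟩ := e.surjective z
    show ((e.symm (e w) : R₁) : Ω) = ((eR.symm (Subgroup.inclusion hR₁'R' (e w)) : R) : Ω)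
    rw [e.symm_apply_apply, show Subgroup.inclusion hR₁'R' (e w) = eR (Subgroup.inclusion hR₁R w) from
      Subtype.ext (heq w).symm, eR.symm_apply_apply]
    rfl
  have hε' : MulAut.congr e a₁ ∈ NE.autGroup R₁' := congr_mem_autGroup NE e heNE heNEinv ha₁
  have hε'hom := (mem_autGroup_iff NE hR₁'.1 _).1 hε'
  have hα'hom := (mem_autGroup_iff NF hR'T α').1 hα'
  have hagree : ∀ x : R₁', (R'.subtype.comp α'.toMonoidHom) (Subgroup.inclusion hR₁'R' x) =
      (R₁'.subtype.comp (MulAut.congr e a₁).toMonoidHom) x := by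
    intro x
    obtain ⟨w, rfl⟩ := e.surjective x
    show ((eR (α (eR.symm (Subgroup.inclusion hR₁'R' (e w)))) : R') : Ω) = ((e (a₁ (e.symm (e w))) : R₁') : Ω)
    rw [e.symm_apply_apply, show Subgroup.inclusion hR₁'R' (e w) = eR (Subgroup.inclusion hR₁R w) from
      Subtype.ext (heq w).symm, eR.symm_apply_apply, ← heq]
    exact congrArg (fun z : R => ((eR z : R') : Ω)) (Subtype.ext (ha₁e w).symm)
  have hR'N₁ : R' ≤ normalizerIn T R₁' := by
    rintro _ ⟨x, rfl⟩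
    exact hψm _
  obtain ⟨b, hb, hbe⟩ := exists_ext_of_compat (fullyNormalized_receptive hTp hNEs hR₁') hR₁'R' hR'N₁
    hε'hom (equivHom_range _) (φ := R'.subtype.comp α'.toMonoidHom) (fun x => hR'T (α' x).2) hagree
  have hbR : b.range = R' := by
    refine Subgroup.eq_of_le_of_card_ge ?_
      (le_of_eq (Nat.card_congr (MonoidHom.ofInjective (NE.injective_of_mem hb)).toEquiv))
    rintro _ ⟨u, rfl⟩
    have hd : ((α' u : R') : Ω)⁻¹ * b u ∈ centralizerIn T R₁' := by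
      refine ⟨T.mul_mem (T.inv_mem (hR'T (α' u).2)) (hom_apply_mem NE hb u),
        Subgroup.mem_centralizer_iff.2 fun z hz => ?_⟩
      obtain ⟨w, hw⟩ := (MulAut.congr e a₁).surjective ⟨z, hz⟩
      have hwv : R₁'.subtype.comp (MulAut.congr e a₁).toMonoidHom w = z := congrArg Subtype.val hw
      obtain ⟨-, huw⟩ := hR'N₁ u.2
      have hcj : (u : Ω) * w * (u : Ω)⁻¹ ∈ R₁' := (Subgroup.mem_normalizer_iff.1 huw w).1 w.2
      have h1 := (hagree ⟨_, hcj⟩).trans (hbe ⟨_, hcj⟩).symm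
      rw [show Subgroup.inclusion hR₁'R' ⟨_, hcj⟩ = u * Subgroup.inclusion hR₁'R' w * u⁻¹ from Subtype.ext rfl,
        map_mul, map_mul, map_inv, map_mul, map_mul, map_inv, hagree w, hbe w, hwv] at h1
      have h1' : ((α' u : R') : Ω) * z * ((α' u : R') : Ω)⁻¹ = b u * z * (b u)⁻¹ := h1
      calc z * (((α' u : R') : Ω)⁻¹ * b u)
          = ((α' u : R') : Ω)⁻¹ * (((α' u : R') : Ω) * z * ((α' u : R') : Ω)⁻¹) * b u := by group
        _ = ((α' u : R') : Ω)⁻¹ * b u * z := by rw [h1']; group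
    have := R'.mul_mem (α' u).2 (hCR' hd)
    rwa [mul_inv_cancel_left] at this
  obtain ⟨β₀, hβ₀, hβ₀e⟩ := exists_autGroup_of_range NE hb hbR
  have hdiff : β₀⁻¹ * α' ∈ Inn R' := by
    have hβF : β₀ ∈ NF.autGroup R' := Subgroup.subset_closure (hNEF R' ((mem_autGroup_iff NE hR'T β₀).1 hβ₀))
    refine hP₁' _ (Subgroup.mul_mem _ (Subgroup.inv_mem _ hβF) hα') fun x hx => ?_
    show β₀⁻¹ (α' x) = x
    apply β₀.injective
    rw [show β₀ (β₀⁻¹ (α' x)) = α' x from β₀.apply_symm_apply _]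
    refine Subtype.ext (((hagree ⟨x, hx⟩).trans (hbe ⟨x, hx⟩).symm).trans ?_)
    exact (hβ₀e x).symm
  have hα'E : α' ∈ NE.autGroup R' := by
    have := Subgroup.mul_mem _ hβ₀ (inn_le_autGroup NE hR'T hdiff)
    rwa [mul_inv_cancel_left] at this
  have hback := congr_mem_autGroup NE eR.symm heRinv heRE hα'E
  rwa [show MulAut.congr eR.symm α' = α from MulEquiv.ext fun x => by
    show eR.symm (eR (α (eR.symm (eR.symm.symm x)))) = α x
    rw [MulEquiv.symm_symm, eR.symm_apply_apply, eR.symm_apply_apply]] at hback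


omit hp in
theorem SmallAb.zpowers {G : Type u} [Group G] {x : G} (hx : IsSmallElt p x) : SmallAb p (Subgroup.zpowers x) := by
  refine ⟨?_, ?_⟩
  · rintro _ ⟨i, rfl⟩ _ ⟨j, rfl⟩
    exact ((Commute.refl x).zpow_zpow i j).eq
  · rintro _ ⟨i, rfl⟩
    show IsSmallElt p (x ^ i)
    have key : ∀ n : ℕ, x ^ n = 1 → (x ^ i) ^ n = 1 := fun n e => by
      rw [← zpow_natCast, ← zpow_mul, mul_comm, zpow_mul, zpow_natCast, e, one_zpow]
    exact hx.imp (key p) fun e => ⟨e.1, key 4 e.2⟩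

/-- A map carrying a noncentral small abelian hyperfocal subgroup to a fully normalized one lies in the subsystem,
given the result for centralizer systems. -/
theorem mem_of_smallAb (hS : IsPGroup p S) (hF : F.IsSaturated p) (hE : E.IsSaturated p) (hEF : E ≤ F)
    (hhyp : ∀ A : Subgroup Ω, A ≤ F.hyperfocalSubgroup p → SmallAb p A → ∀ φ ∈ F.Hom A, φ ∈ E.Hom A)
    (hIH : ∀ X : Subgroup Ω, X ≤ F.hyperfocalSubgroup p → SmallAb p X → F.IsFullyNormalized X →
      (∃ x ∈ X, x ∉ F.center) → ∀ (P : Subgroup Ω) (θ : P →* Ω), θ ∈ F.Hom P → X ≤ P → P ≤ centralizerIn S X →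
      (∀ (x : Ω) (hx : x ∈ P), x ∈ X → θ ⟨x, hx⟩ = x) → θ ∈ E.Hom P)
    {X P : Subgroup Ω} (hXY : X ≤ F.hyperfocalSubgroup p) (hX : SmallAb p X) (hXZ : ∃ x ∈ X, x ∉ F.center)
    (hXP : X ≤ P) (hPN : P ≤ normalizerIn S X) {φ : P →* Ω} (hφ : φ ∈ F.Hom P)
    (hn : F.IsFullyNormalized (φ.comp (Subgroup.inclusion hXP)).range) : φ ∈ E.Hom P := by
  set ε := φ.comp (Subgroup.inclusion hXP) with hε
  have hεF : ε ∈ F.Hom X := restrict_mem F hφ hXP
  have hεE := hhyp X hXY hX ε hεF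
  set X' := ε.range with hX'
  have hX'Y : X' ≤ F.hyperfocalSubgroup p := by
    rintro _ ⟨x, rfl⟩
    exact stronglyClosed_apply_mem (hyperfocal_stronglyClosed hS hF) hεF x (hXY x.2)
  have hX's : SmallAb p X' := hX.map ε
  have hX'Z : ∃ x ∈ X', x ∉ F.center := by
    obtain ⟨x, hx, hxZ⟩ := hXZ
    refine ⟨ε ⟨x, hx⟩, ⟨_, rfl⟩, fun h => hxZ ?_⟩
    obtain ⟨σ, hσ, -, hσ1, -⟩ := exists_inv F hεF
    have h1 := hσ1 ⟨x, hx⟩ ⟨_, rfl⟩
    have h2 : σ ⟨ε ⟨x, hx⟩, ⟨_, rfl⟩⟩ = ε ⟨x, hx⟩ :=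
      ((isCentral_iff hS hF _).1 (center_isCentral F)).2 _ h _
        ⟨σ.comp (Subgroup.inclusion (Subgroup.zpowers_le.2 ⟨_, rfl⟩)), restrict_mem F hσ _, rfl⟩
    rw [h2] at h1
    exact Eq.mp (congrArg (fun z => z ∈ F.center) h1) h
  have hXS : X ≤ S := hXY.trans (hyperfocal_le F)
  obtain ⟨χ, hχ, hχe⟩ := exists_ext_of_compat (fullyNormalized_receptive hS hE (fullyNormalized_of_le hEF hn))
    hXP hPN hεE rfl (φ := φ) (fun x => hom_apply_mem F hφ x) fun x => rfl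
  obtain ⟨σ, hσ, hσr, hσ1, hσ2⟩ := exists_inv F (hEF P hχ)
  have hσP : ∀ y, σ y ∈ P := fun y => hσr.le ⟨y, rfl⟩
  have hθ := F.comp_mem hσ hφ hσP
  have hX'r : X' ≤ χ.range := by
    rintro _ ⟨x, rfl⟩
    exact ⟨_, hχe x⟩
  have hrN : χ.range ≤ normalizerIn S X' := by
    have key : ∀ u : P, ∀ x ∈ X', χ u * x * (χ u)⁻¹ ∈ X' := by
      rintro u _ ⟨x, rfl⟩
      have hc : (u : Ω) * x * (u : Ω)⁻¹ ∈ X := (Subgroup.mem_normalizer_iff.1 (hPN u.2).2 x).1 x.2
      refine ⟨⟨_, hc⟩, ?_⟩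
      rw [← hχe, ← hχe, show Subgroup.inclusion hXP ⟨(u : Ω) * x * (u : Ω)⁻¹, hc⟩ =
        u * Subgroup.inclusion hXP x * u⁻¹ from Subtype.ext rfl, map_mul, map_mul, map_inv]
    rintro _ ⟨u, rfl⟩
    refine ⟨hom_apply_mem E hχ u, mem_normalizer_of_conj_mem _ (key u) fun x hx => ?_⟩
    have := key u⁻¹ x hx
    rwa [map_inv, inv_inv] at this
  have hθE := normalizer_le hS hF hE hEF hn hX's.1 (fun α hα => (mem_autGroup_iff E hn.1 α).2
      (hhyp X' hX'Y hX's _ ((mem_autGroup_iff F hn.1 α).1 hα))) (hIH X' hX'Y hX's hn hX'Z) hX'r hrN hθ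
    fun x => ?_
  · refine hom_congr E (E.comp_mem hχ hθE fun x => ⟨x, rfl⟩) fun x => ?_
    exact congrArg φ (Subtype.ext (hσ1 x ⟨x, rfl⟩).symm)
  · obtain ⟨y, hy⟩ := x.2
    refine ⟨y, Eq.trans (congrArg φ (Subtype.ext ?_)) rfl⟩
    refine (hσ1 (Subgroup.inclusion hXP y) ⟨_, rfl⟩).symm.trans ?_
    exact congrArg (fun z => σ z) (Subtype.ext ((hχe y).trans hy))

/-- The hyperfocal subgroup of a centralizer system. -/
theorem hyperfocal_centSystem_le {X : Subgroup Ω} (hX : X ≤ S) :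
    (centSystem F hX).hyperfocalSubgroup p ≤ F.hyperfocalSubgroup p := by
  refine (Subgroup.closure_le _).2 ?_
  rintro _ ⟨P, α, x, hP, hα, rfl⟩
  haveI := finite_of_le (S := S) (hP.trans (centralizerIn_le S X))
  let f : (centSystem F hX).autGroup P →* F.autGroup P :=
    Subgroup.inclusion (autGroup_mono (F := F) (E := centSystem F hX) (fun Q θ hθ => hθ.1) P)
  exact hyperfocal_mem (hP.trans (centralizerIn_le S X)) (Cfsg.Agent.PBasic.map_pResidual_le f ⟨α, hα, rfl⟩) x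

/-- An abelian subgroup and the centre are central in the centralizer system. -/
theorem center_lt_centSystem (hS : IsPGroup p S) (hF : F.IsSaturated p) {X : Subgroup Ω}
    (hX : F.IsFullyCentralized X) (hab : ∀ x ∈ X, ∀ y ∈ X, x * y = y * x) (hXZ : ∃ x ∈ X, x ∉ F.center) :
    F.center < (centSystem F hX.1).center := by
  haveI := finite_of_le (centralizerIn_le S X)
  have hT : IsPGroup p (centralizerIn S X) := hS.to_le (centralizerIn_le S X)
  have hC := centralizerSystem_saturated hS hF hX (centSystem F hX.1) fun _ => rfl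
  obtain ⟨hZS, hZfix⟩ := (isCentral_iff hS hF _).1 (center_isCentral F)
  have h1 : F.center ≤ (centSystem F hX.1).center := by
    refine isCentral_le_center ((isCentral_iff hT hC _).2 ⟨fun x hx => ⟨hZS hx, ?_⟩, ?_⟩)
    · refine Subgroup.mem_centralizer_iff.2 fun y hy => ?_
      have := hZfix x hx _ ⟨conjHom (Subgroup.zpowers x) y, F.conj_mem (Subgroup.zpowers_le.2 (hZS hx)) (hX.1 hy), rfl⟩
      exact mul_inv_eq_iff_eq_mul.1 this
    · rintro x hx y ⟨θ, hθ, rfl⟩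
      exact hZfix x hx _ ⟨θ, hθ.1, rfl⟩
  have h2 : X ≤ (centSystem F hX.1).center := by
    refine isCentral_le_center ((isCentral_iff hT hC _).2 ⟨fun x hx => ⟨hX.1 hx,
      Subgroup.mem_centralizer_iff.2 fun y hy => hab y hy x hx⟩, ?_⟩)
    rintro x hx y ⟨θ, ⟨-, -, -, θ', -, h1, h2⟩, rfl⟩
    rw [← h1]
    refine Eq.trans ?_ (h2 ⟨x, hx⟩)
    exact congrArg θ' (Subtype.ext rfl)
  obtain ⟨x, hx, hxZ⟩ := hXZ
  exact lt_of_le_of_ne h1 fun e => hxZ (e ▸ h2 hx)

/-- A detecting small abelian subgroup normal in `U` and not central, unless `Aut_F(U)` is a `p`-group. -/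
theorem isPGroup_or_exists_smallAb (hS : IsPGroup p S) (hF : F.IsSaturated p) {U : Subgroup Ω} (hU : U ≤ S) :
    IsPGroup p (F.autGroup U) ∨ ∃ X : Subgroup Ω, X ≤ F.hyperfocalSubgroup p ∧ SmallAb p X ∧
      (∃ x ∈ X, x ∉ F.center) ∧ X ≤ U ∧ U ≤ normalizerIn S X := by
  haveI := finite_of_le (S := S) hU
  have hUp : IsPGroup p U := hS.to_le hU
  set Y := F.hyperfocalSubgroup p with hY
  have hYc := hyperfocal_stronglyClosed hS hF
  set M : Subgroup U := Y.subgroupOf U with hM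
  obtain ⟨R, hRs, hRinv, hRdet⟩ := exists_small_detecting (hUp.to_subgroup M)
  have hMa : ∀ a : F.autGroup U, ∀ x ∈ M, (a : MulAut U) x ∈ M := fun a x hx =>
    stronglyClosed_autGroup_mem hYc hU a.2 x hx
  let res : F.autGroup U →* MulAut M :=
    { toFun := fun a =>
        { toFun := fun x => ⟨(a : MulAut U) x, hMa a x x.2⟩
          invFun := fun x => ⟨((a⁻¹ : F.autGroup U) : MulAut U) x, hMa a⁻¹ x x.2⟩
          left_inv := fun x => Subtype.ext ((a : MulAut U).symm_apply_apply x)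
          right_inv := fun x => Subtype.ext ((a : MulAut U).apply_symm_apply x)
          map_mul' := fun x y => Subtype.ext ((a : MulAut U).map_mul x y) }
      map_one' := MulEquiv.ext fun x => rfl
      map_mul' := fun a b => MulEquiv.ext fun x => rfl }
  set N : Subgroup U := R.map M.subtype with hN
  have hNinv : ∀ a : F.autGroup U, ∀ x ∈ N, (a : MulAut U) x ∈ N := by
    rintro a _ ⟨x, hx, rfl⟩
    exact ⟨res a x, hRinv _ x hx, rfl⟩
  obtain ⟨hZS, hZfix⟩ := (isCentral_iff hS hF _).1 (center_isCentral F)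
  by_cases hall : ∀ x ∈ N, (x : Ω) ∈ F.center
  · left
    intro a
    obtain ⟨j, m, hm, hn⟩ := Nat.exists_eq_pow_mul_and_not_dvd (orderOf_pos a).ne' p hp.out.ne_one
    refine ⟨j, ?_⟩
    set b := a ^ p ^ j with hb
    have hbo : (orderOf b).Coprime p := by
      rw [hb, orderOf_pow, hn, Nat.gcd_mul_right_left, Nat.mul_div_cancel_left m (pow_pos hp.out.pos j)]
      exact ((Nat.Prime.coprime_iff_not_dvd hp.out).2 hm).symm
    have hres : res b = 1 := by
      refine hRdet _ (Nat.Coprime.coprime_dvd_left (orderOf_map_dvd res b) hbo) fun x hx => Subtype.ext (Subtype.ext ?_)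
      show (((b : MulAut U) (M.subtype x) : U) : Ω) = ((M.subtype x : U) : Ω)
      exact hZfix _ (hall _ ⟨x, hx, rfl⟩) _ ⟨((U.subtype).comp (b : MulAut U).toMonoidHom).comp
        (Subgroup.inclusion (Subgroup.zpowers_le.2 (M.subtype x).2)),
        restrict_mem F ((mem_autGroup_iff F hU _).1 b.2) _, rfl⟩
    refine Subtype.ext (MulEquiv.ext fun y => fix_of_fix_diff hUp (by rwa [Subgroup.orderOf_coe]) ?_)
    have hyY : y⁻¹ * (b : MulAut U) y ∈ M := by
      show ((y⁻¹ * (b : MulAut U) y : U) : Ω) ∈ Y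
      simpa using hyperfocal_mem hU (Subgroup.subset_closure hbo) y
    exact congrArg Subtype.val (DFunLike.congr_fun hres ⟨_, hyY⟩)
  · right
    push_neg at hall
    set K : Subgroup U := F.center.subgroupOf U with hK
    have hZc : ∀ z ∈ F.center, ∀ g ∈ S, g * z * g⁻¹ = z := fun z hz g hg =>
      hZfix z hz _ ⟨conjHom (Subgroup.zpowers z) g, F.conj_mem (Subgroup.zpowers_le.2 (hZS hz)) hg, rfl⟩
    haveI hKn : K.Normal := ⟨fun z hz g => by
      show (g : Ω) * (z : Ω) * (g : Ω)⁻¹ ∈ F.center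
      rw [hZc (z : Ω) hz _ (hU g.2)]
      exact hz⟩
    have hNc : ∀ g : U, ∀ x ∈ N, g * x * g⁻¹ ∈ N := fun g x hx =>
      hNinv ⟨MulAut.conj g, inn_le_autGroup F hU ⟨g, rfl⟩⟩ x hx
    haveI hNn : N.Normal := ⟨fun x hx g => hNc g x hx⟩
    haveI : Group.IsNilpotent (U ⧸ K) := (hUp.to_quotient K).isNilpotent
    haveI := Subgroup.Normal.map hNn (QuotientGroup.mk' K) (QuotientGroup.mk'_surjective K)
    have hne : N.map (QuotientGroup.mk' K) ≠ ⊥ := by
      obtain ⟨x, hx, hxZ⟩ := hall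
      intro h
      have h' : QuotientGroup.mk' K x ∈ N.map (QuotientGroup.mk' K) := ⟨x, hx, rfl⟩
      rw [h, Subgroup.mem_bot, QuotientGroup.mk'_apply, QuotientGroup.eq_one_iff] at h'
      exact hxZ h'
    obtain ⟨q, hq1⟩ := (Subgroup.ne_bot_iff_exists_ne_one.1 (Cfsg.Agent.SolvStruct.inf_center_ne_bot hne))
    obtain ⟨⟨x, hx, hxq⟩, hqc⟩ := Subgroup.mem_inf.1 (show (q : U ⧸ K) ∈ _ from q.2)
    have hxZ : (x : Ω) ∉ F.center := fun h => hq1 (Subtype.ext (by
      rw [Subgroup.coe_one, ← hxq, QuotientGroup.mk'_apply, QuotientGroup.eq_one_iff]; exact h))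
    set A₁ := Subgroup.zpowers (x : Ω)
    set A₂ := (N ⊓ K).map U.subtype with hA₂
    have hNs : ∀ y ∈ N, IsSmallElt p (y : Ω) ∧ (y : Ω) ∈ Y := by
      rintro _ ⟨y, hy, rfl⟩
      exact ⟨(hRs y hy).map (U.subtype.comp M.subtype), y.2⟩
    have hA₂Z : ∀ z ∈ A₂, z ∈ F.center := by rintro _ ⟨y, hy, rfl⟩; exact (Subgroup.mem_inf.1 hy).2
    have hA₂s : SmallAb p A₂ := by
      refine ⟨fun a ha b hb => ?_, ?_⟩
      · exact (mul_inv_eq_iff_eq_mul.1 (hZc b (hA₂Z b hb) a (hZS (hA₂Z a ha))))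
      · rintro _ ⟨y, hy, rfl⟩; exact (hNs y (Subgroup.mem_inf.1 hy).1).1
    have hcomm : ∀ a ∈ A₁, ∀ b ∈ A₂, a * b = b * a := fun a ha b hb =>
      mul_inv_eq_iff_eq_mul.1 (hZc b (hA₂Z b hb) a (Subgroup.zpowers_le.2 (hU x.2) ha))
    have hXU : A₁ ⊔ A₂ ≤ U := sup_le (Subgroup.zpowers_le.2 x.2) (Subgroup.map_subtype_le _)
    refine ⟨A₁ ⊔ A₂, sup_le (Subgroup.zpowers_le.2 (hNs x hx).2)
      (by rintro _ ⟨y, hy, rfl⟩; exact (hNs y (Subgroup.mem_inf.1 hy).1).2),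
      (SmallAb.zpowers (hNs x hx).1).sup hA₂s hcomm, ⟨_, Subgroup.mem_sup_left (Subgroup.mem_zpowers _), hxZ⟩, hXU, ?_⟩
    have key : ∀ g : U, A₁ ⊔ A₂ ≤ (A₁ ⊔ A₂).comap (MulAut.conj (g : Ω)).toMonoidHom := by
      intro g
      refine sup_le (Subgroup.zpowers_le.2 ?_) fun z hz => ?_
      · show (g : Ω) * x * (g : Ω)⁻¹ ∈ A₁ ⊔ A₂
        have hd : x⁻¹ * (g * x * g⁻¹) ∈ N ⊓ K := by
          refine ⟨N.mul_mem (N.inv_mem hx) (hNc g x hx), (QuotientGroup.eq_one_iff _).1 ?_⟩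
          have hcq := Subgroup.mem_center_iff.1 hqc (g : U ⧸ K)
          rw [← hxq, QuotientGroup.mk'_apply] at hcq
          rw [QuotientGroup.mk_mul, QuotientGroup.mk_mul, QuotientGroup.mk_mul, QuotientGroup.mk_inv,
            QuotientGroup.mk_inv, hcq]
          group
        have := Subgroup.mul_mem _ (Subgroup.mem_sup_left (Subgroup.mem_zpowers (x : Ω)) : (x : Ω) ∈ A₁ ⊔ A₂)
          (Subgroup.mem_sup_right ⟨_, hd, rfl⟩ : ((x⁻¹ * (g * x * g⁻¹) : U) : Ω) ∈ A₁ ⊔ A₂)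
        simp only [Subgroup.coe_mul, Subgroup.coe_inv, mul_inv_cancel_left] at this
        exact this
      · show (g : Ω) * z * (g : Ω)⁻¹ ∈ A₁ ⊔ A₂
        rw [hZc z (hA₂Z z hz) g (hU g.2)]
        exact Subgroup.mem_sup_right hz
    exact fun g hg => ⟨hU hg, mem_normalizer_of_conj_mem g (fun z hz => key ⟨g, hg⟩ hz)
      fun z hz => by simpa using key ⟨g⁻¹, U.inv_mem hg⟩ hz⟩

/-- A subsystem with the same maps on small abelian hyperfocal subgroups is the whole system. -/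
theorem le_of_smallAb : ∀ (k : ℕ) (S : Subgroup Ω) [Finite S], IsPGroup p S → ∀ (F E : FusionSystem S),
    F.IsSaturated p → E.IsSaturated p → E ≤ F → Nat.card S - Nat.card F.center = k →
    (∀ A : Subgroup Ω, A ≤ F.hyperfocalSubgroup p → SmallAb p A → ∀ φ ∈ F.Hom A, φ ∈ E.Hom A) → F ≤ E := by
  intro k
  induction k using Nat.strong_induction_on with
  | _ k ih =>
  intro S _ hS F E hF hE hEF hk hhyp
  have hIH : ∀ X : Subgroup Ω, X ≤ F.hyperfocalSubgroup p → SmallAb p X → F.IsFullyNormalized X →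
      (∃ x ∈ X, x ∉ F.center) → ∀ (P : Subgroup Ω) (θ : P →* Ω), θ ∈ F.Hom P → X ≤ P → P ≤ centralizerIn S X →
      (∀ (x : Ω) (hx : x ∈ P), x ∈ X → θ ⟨x, hx⟩ = x) → θ ∈ E.Hom P := by
    intro X hXY hXs hXn hXZ P θ hθ hXP hPC hfix
    have hXc := (fullyNormalized_imp hS hF hXn).1
    haveI := finite_of_le (centralizerIn_le S X)
    have hT : IsPGroup p (centralizerIn S X) := hS.to_le (centralizerIn_le S X)
    set C := centSystem F hXn.1 with hC
    set D := centSystem E hXn.1 with hD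
    have hDC : D ≤ C := fun Q φ ⟨h1, h2, h3, ψ, h4, h5, h6⟩ => ⟨hEF Q h1, h2, h3, ψ, hEF _ h4, h5, h6⟩
    have hlt := center_lt_centSystem hS hF hXc hXs.1 hXZ
    have hCT : C.center ≤ centralizerIn S X := (center_isCentral C).1
    haveI := finite_of_le (S := centralizerIn S X) hCT
    have h1 : Nat.card F.center < Nat.card C.center := by
      have := Set.ncard_lt_ncard (SetLike.coe_ssubset_coe.2 hlt) (Set.toFinite _)
      rwa [← Nat.card_coe_set_eq, ← Nat.card_coe_set_eq] at this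
    have h2 : Nat.card C.center ≤ Nat.card (centralizerIn S X) := Subgroup.card_le_of_le hCT
    have h3 : Nat.card (centralizerIn S X) ≤ Nat.card S := Subgroup.card_le_of_le (centralizerIn_le S X)
    have hle : C ≤ D := by
      refine ih _ (by omega) (centralizerIn S X) hT C D (centralizerSystem_saturated hS hF hXc C fun _ => rfl)
        (centralizerSystem_saturated hS hE (fullyCentralized_of_le hEF hXc) D fun _ => rfl) hDC rfl ?_
      rintro A hA hAs φ ⟨h1, h2, h3, ψ, h4, h5, h6⟩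
      refine ⟨hhyp A (hA.trans (hyperfocal_centSystem_le hXn.1)) hAs φ h1, h2, h3, ψ, hhyp _ (sup_le
        (hA.trans (hyperfocal_centSystem_le hXn.1)) hXY) (hAs.sup hXs fun a ha b hb => ?_) ψ h4, h5, h6⟩
      exact (Subgroup.mem_centralizer_iff.1 (h2 ha).2 b hb).symm
    refine (hle P (a := θ) ⟨hθ, hPC, fun y => ?_, θ.comp (Subgroup.inclusion (sup_le le_rfl hXP)),
      restrict_mem F hθ _, fun _ => rfl, fun x => hfix x _ x.2⟩).1
    refine ⟨hom_apply_mem F hθ y, Subgroup.mem_centralizer_iff.2 fun x hx => ?_⟩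
    rw [← hfix x (hXP hx) hx, ← map_mul, ← map_mul]
    exact congrArg θ (Subtype.ext (Subgroup.mem_centralizer_iff.1 (hPC y.2).2 x hx))
  refine alperin hS hF fun U hU α hα => ?_
  have hUn : F.IsFullyNormalized U := hU.elim (fun e => e ▸ fullyNormalized_top F) fun e => e.2.1
  have hUS := hUn.1
  haveI := finite_of_le hUS
  rcases isPGroup_or_exists_smallAb hS hF hUS with hp' | ⟨X, hXY, hXs, hXZ, hXU, hUN⟩
  · obtain ⟨T, hT⟩ := (fullyNormalized_imp hS hF hUn).2.2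
    have hT' : (T : Subgroup (F.autGroup U)) = ⊤ :=
      (T.3 (fun g => (hp' g).imp fun n h => Subtype.ext h : IsPGroup p (⊤ : Subgroup (F.autGroup U))) le_top).symm
    have h := (show (⟨α, hα⟩ : F.autGroup U) ∈ (⊤ : Subgroup _) from Subgroup.mem_top _)
    rw [← hT', hT] at h
    exact autInducedBy_le_autGroup E hUS h
  · obtain ⟨X', hX', -, ψ, hψ, -, e, he, -⟩ := exists_transfer hS hF (hXY.trans (hyperfocal_le F))
    have hψU := restrict_mem F hψ hUN
    set φ := ψ.comp (Subgroup.inclusion hUN) with hφdef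
    have hφE : φ ∈ E.Hom U := mem_of_smallAb hS hF hE hEF hhyp hIH hXY hXs hXZ hXU hUN hψU (by
      convert hX' using 1
      ext z
      constructor
      · rintro ⟨x, rfl⟩; exact (he x).symm ▸ (e x).2
      · intro hz
        exact ⟨e.symm ⟨z, hz⟩, (he _).trans (congrArg Subtype.val (e.apply_symm_apply _))⟩)
    -- the image of `X` under `α`
    have hαF := (mem_autGroup_iff F hUS α).1 hα
    set ε₂ := (U.subtype.comp α.toMonoidHom).comp (Subgroup.inclusion hXU) with hε₂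
    set X₂ := ε₂.range with hX₂
    have hX₂U : X₂ ≤ U := by rintro _ ⟨x, rfl⟩; exact (α _).2
    have hX₂Y : X₂ ≤ F.hyperfocalSubgroup p := by
      rintro _ ⟨x, rfl⟩
      exact stronglyClosed_apply_mem (hyperfocal_stronglyClosed hS hF) (restrict_mem F hαF hXU) x (hXY x.2)
    have hX₂Z : ∃ x ∈ X₂, x ∉ F.center := by
      obtain ⟨x, hx, hxZ⟩ := hXZ
      refine ⟨ε₂ ⟨x, hx⟩, ⟨_, rfl⟩, fun h => hxZ ?_⟩
      obtain ⟨σ, hσ, -, hσ1, -⟩ := exists_inv F (restrict_mem F hαF hXU)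
      have h1 := hσ1 ⟨x, hx⟩ ⟨_, rfl⟩
      have h2 : σ ⟨ε₂ ⟨x, hx⟩, ⟨_, rfl⟩⟩ = ε₂ ⟨x, hx⟩ :=
        ((isCentral_iff hS hF _).1 (center_isCentral F)).2 _ h _
          ⟨σ.comp (Subgroup.inclusion (Subgroup.zpowers_le.2 ⟨_, rfl⟩)), restrict_mem F hσ _, rfl⟩
      rw [h2] at h1
      exact Eq.mp (congrArg (fun z => z ∈ F.center) h1) h
    have hUN₂ : U ≤ normalizerIn S X₂ := by
      have key : ∀ u : U, ∀ z ∈ X₂, (u : Ω) * z * (u : Ω)⁻¹ ∈ X₂ := by
        rintro u _ ⟨x, rfl⟩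
        obtain ⟨v, rfl⟩ := α.surjective u
        refine ⟨⟨_, (Subgroup.mem_normalizer_iff.1 (hUN v.2).2 x).1 x.2⟩, ?_⟩
        show ((α (Subgroup.inclusion hXU ⟨(v : Ω) * x * (v : Ω)⁻¹, _⟩) : U) : Ω) = _
        rw [show Subgroup.inclusion hXU ⟨(v : Ω) * x * (v : Ω)⁻¹,
          (Subgroup.mem_normalizer_iff.1 (hUN v.2).2 x).1 x.2⟩ = v * Subgroup.inclusion hXU x * v⁻¹ from
          Subtype.ext rfl, map_mul, map_mul, map_inv]
        rfl
      exact fun g hg => ⟨hUS hg, mem_normalizer_of_conj_mem g (key ⟨g, hg⟩)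
        fun z hz => by simpa using key ⟨g⁻¹, U.inv_mem hg⟩ z hz⟩
    have hαinv : U.subtype.comp (α⁻¹ : MulAut U).toMonoidHom ∈ F.Hom U :=
      (mem_autGroup_iff F hUS _).1 (Subgroup.inv_mem _ hα)
    have hφ₂ := F.comp_mem hαinv hψU fun x => ((α⁻¹ : MulAut U) x).2
    have hφ₂E := mem_of_smallAb hS hF hE hEF hhyp hIH hX₂Y (hXs.map ε₂) hX₂Z hX₂U hUN₂ hφ₂ (by
      convert hX' using 1
      ext z
      constructor
      · rintro ⟨⟨_, x, rfl⟩, rfl⟩
        show φ ⟨((α⁻¹ : MulAut U) (Subgroup.inclusion hX₂U ⟨_, ⟨x, rfl⟩⟩) : U), _⟩ ∈ X'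
        have hcalc : (α⁻¹ : MulAut U) (Subgroup.inclusion hX₂U ⟨ε₂ x, ⟨x, rfl⟩⟩) = Subgroup.inclusion hXU x :=
          α.symm_apply_apply _
        simp only [hcalc]
        exact (he x).symm ▸ (e x).2
      · intro hz
        refine ⟨⟨ε₂ (e.symm ⟨z, hz⟩), ⟨_, rfl⟩⟩, ?_⟩
        show φ ⟨((α⁻¹ : MulAut U) (Subgroup.inclusion hX₂U ⟨ε₂ (e.symm ⟨z, hz⟩), ⟨_, rfl⟩⟩) : U), _⟩ = z
        have hcalc : (α⁻¹ : MulAut U) (Subgroup.inclusion hX₂U ⟨ε₂ (e.symm ⟨z, hz⟩), ⟨_, rfl⟩⟩) =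
            Subgroup.inclusion hXU (e.symm ⟨z, hz⟩) := α.symm_apply_apply _
        simp only [hcalc]
        exact (he _).trans (congrArg Subtype.val (e.apply_symm_apply _)))
    -- `α` is the quotient of two maps of `E`
    obtain ⟨σ, hσ, -, hσ1, -⟩ := exists_inv E hφ₂E
    rw [mem_autGroup_iff E hUS]
    refine hom_congr E (E.comp_mem hφE hσ fun x => ⟨α x, ?_⟩) fun x => ?_
    · show φ ⟨((α⁻¹ : MulAut U) (α x) : U), _⟩ = φ x
      exact congrArg φ (Subtype.ext (congrArg Subtype.val (α.symm_apply_apply x)))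
    · refine (hσ1 (α x) ⟨α x, rfl⟩).symm.trans ?_
      refine congrArg σ (Subtype.ext ?_)
      show φ ⟨((α⁻¹ : MulAut U) (α x) : U), _⟩ = φ x
      exact congrArg φ (Subtype.ext (congrArg Subtype.val (α.symm_apply_apply x)))

/-- The form with elementary abelian subgroups for odd `p` and exponent four for `p = 2`. -/
theorem hom_eq_of_smallAb (hS : IsPGroup p S) (hE : E.IsSaturated p) (hF : F.IsSaturated p)
    (hEF : E.IsSubsystemOf F)
    (hodd : p ≠ 2 → ∀ A B : Subgroup Ω, A ≤ F.hyperfocalSubgroup p → B ≤ F.hyperfocalSubgroup p →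
      Cfsg.IsElementaryAbelian p A → Cfsg.IsElementaryAbelian p B → E.homSet A B = F.homSet A B)
    (htwo : p = 2 → ∀ A B : Subgroup Ω, A ≤ F.hyperfocalSubgroup p → B ≤ F.hyperfocalSubgroup p →
      IsMulCommutative ↥A → IsMulCommutative ↥B → (∀ a ∈ A, a ^ 4 = 1) → (∀ b ∈ B, b ^ 4 = 1) →
      E.homSet A B = F.homSet A B) (P : Subgroup Ω) : E.Hom P = F.Hom P := by
  refine Set.Subset.antisymm (hEF P) (le_of_smallAb _ S hS F E hF hE hEF rfl (fun A hA hAs φ hφ => ?_) P)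
  have hr : φ.range ≤ F.hyperfocalSubgroup p := by
    rintro _ ⟨x, rfl⟩
    exact stronglyClosed_apply_mem (hyperfocal_stronglyClosed hS hF) hφ x (hA x.2)
  have hrs : SmallAb p φ.range := hAs.map φ
  have hc : ∀ B : Subgroup Ω, SmallAb p B → IsMulCommutative B := fun B hB =>
    ⟨⟨fun x y => Subtype.ext (hB.1 x x.2 y y.2)⟩⟩
  have hmem : φ ∈ F.homSet A φ.range := ⟨hφ, fun x => ⟨x, rfl⟩⟩
  by_cases hp2 : p = 2
  · have h4 : ∀ B : Subgroup Ω, SmallAb p B → ∀ b ∈ B, b ^ 4 = 1 := fun B hB b hb => (hB.2 b hb).elim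
      (fun e => by rw [hp2] at e; rw [show (4 : ℕ) = 2 * 2 from rfl, pow_mul, e, one_pow]) fun e => e.2
    rw [← htwo hp2 A φ.range hA hr (hc _ hAs) (hc _ hrs) (h4 _ hAs) (h4 _ hrs)] at hmem
    exact hmem.1
  · have hel : ∀ B : Subgroup Ω, SmallAb p B → Cfsg.IsElementaryAbelian p B := fun B hB =>
      ⟨hc B hB, fun b hb => (hB.2 b hb).elim id fun e => absurd e.1 hp2⟩
    rw [← hodd hp2 A φ.range hA hr (hel _ hAs) (hel _ hrs)] at hmem
    exact hmem.1

end Cfsg.Agent.FusionSys
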