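import Cfsg.Agent.Lib.Fusion.Transvection
import Mathlib.Algebra.Group.Commute.Basic
import Mathlib.RingTheory.PrincipalIdealDomain
import Mathlib.RingTheory.Int.Basic

/-!
# Conjugates of a transvection in a group with Sylow `p`-subgroups of order `p`
-/

set_option autoImplicit false

namespace Cfsg.Agent.FusionSys

variable {A : Type*} [CommGroup A] {p : ℕ} [hp : Fact p.Prime]

/-- `t` moves every element inside its coset of `⟨s⟩` and fixes `s`. -/
def IsTransv (t : MulAut A) (s : A) : Prop := t s = s ∧ ∀ r, r⁻¹ * t r ∈ Subgroup.zpowers s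

omit hp in
theorem IsTransv.fix_zpowers {t : MulAut A} {s v w : A} (_ht : IsTransv t s) (hv : t v = v)
    (hw : w ∈ Subgroup.zpowers v) : t w = w := by
  obtain ⟨k, rfl⟩ := hw
  show t (v ^ k) = v ^ k
  rw [map_zpow, hv]

omit hp in
theorem IsTransv.conj {t : MulAut A} {s : A} (ht : IsTransv t s) (β : MulAut A) :
    IsTransv (β * t * β⁻¹) (β s) := by
  refine ⟨?_, fun r => ?_⟩
  · show β (t (β⁻¹ (β s))) = β s
    rw [show β⁻¹ (β s) = s from β.symm_apply_apply s, ht.1]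
  · obtain ⟨k, hk⟩ := ht.2 (β⁻¹ r)
    refine ⟨k, ?_⟩
    show β s ^ k = r⁻¹ * β (t (β⁻¹ r))
    rw [← map_zpow, show s ^ k = (β⁻¹ r)⁻¹ * t (β⁻¹ r) from hk, map_mul, map_inv,
      show β (β⁻¹ r) = r from β.apply_symm_apply r]

omit hp in
theorem IsTransv.commute {t u : MulAut A} {s v : A} (ht : IsTransv t s) (hu : IsTransv u v) (htv : t v = v)
    (hus : u s = s) : t * u = u * t := by
  refine MulEquiv.ext fun r => ?_
  obtain ⟨k, hk⟩ := ht.2 r
  obtain ⟨l, hl⟩ := hu.2 r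
  have e1 : t r = r * s ^ k := by rw [show s ^ k = r⁻¹ * t r from hk, mul_inv_cancel_left]
  have e2 : u r = r * v ^ l := by rw [show v ^ l = r⁻¹ * u r from hl, mul_inv_cancel_left]
  rw [MulAut.mul_apply, MulAut.mul_apply, e2, map_mul, map_zpow, htv, e1, map_mul, map_zpow, hus, e2, mul_right_comm]

omit hp in
theorem IsTransv.pow_eq_one {t : MulAut A} {s : A} (ht : IsTransv t s) (hsp : s ^ p = 1) : t ^ p = 1 := by
  refine MulEquiv.ext fun r => ?_
  obtain ⟨k, hk⟩ := ht.2 r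
  rw [transvection_pow t ht.1 (show t r = r * s ^ k by rw [show s ^ k = r⁻¹ * t r from hk, mul_inv_cancel_left]),
    mul_comm k, zpow_mul, zpow_natCast, hsp, one_zpow, mul_one]
  rfl

variable {G : Subgroup (MulAut A)}
  (hsyl : ∀ a ∈ G, ∀ b ∈ G, a ^ p = 1 → b ^ p = 1 → a * b = b * a → a ≠ 1 → b ∈ Subgroup.zpowers a)
include hsyl

theorem no_half_move {t u : MulAut A} {s v : A} (hG : t ∈ G) (hG' : u ∈ G) (ht1 : t ≠ 1) (ht : IsTransv t s)
    (hu : IsTransv u v) (hs : orderOf s = p) (hv : orderOf v = p) (htv : t v = v) (hus : u s ≠ s) : False := by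
  have hsp : s ^ p = 1 := hs ▸ pow_orderOf_eq_one s
  have hvs : v ∉ Subgroup.zpowers s := fun h => by
    refine hus (hu.fix_zpowers hu.1 ?_)
    obtain ⟨k, hk⟩ := h
    have hk' : s ^ k = v := hk
    have hne : s ^ k ≠ 1 := fun h1 => hp.out.ne_one (by rw [← hv, ← hk', h1, orderOf_one])
    have hd : ¬ (p : ℤ) ∣ k := fun hd => hne (orderOf_dvd_iff_zpow_eq_one.1 (by rwa [hs]))
    obtain ⟨a, b, hab⟩ := (Prime.coprime_iff_not_dvd (Nat.prime_iff_prime_int.1 hp.out)).2 hd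
    refine ⟨b, ?_⟩
    show v ^ b = s
    rw [← hk', ← zpow_mul]
    conv_rhs => rw [← zpow_one s, ← hab, zpow_add, mul_comm a, zpow_mul, zpow_natCast, hsp, one_zpow, one_mul,
      mul_comm b]
  have hx : IsTransv (u * t * u⁻¹) (u s) := ht.conj u
  obtain ⟨b, hb⟩ := hu.2 s
  have hus' : u s = s * v ^ b := by rw [show v ^ b = s⁻¹ * u s from hb, mul_inv_cancel_left]
  have hvb : v ^ b ≠ 1 := fun h => hus (by rw [hus', h, mul_one])
  have htus : t (u s) = u s := by rw [hus', map_mul, map_zpow, ht.1, htv]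
  have hxs : (u * t * u⁻¹) s = s := by
    show u (t (u⁻¹ s)) = s
    have e : u⁻¹ s = s * v ^ (-b) := (MulEquiv.symm_apply_eq u).2 (by
      rw [map_mul, map_zpow, hu.1, hus', mul_assoc, ← zpow_add, add_neg_cancel, zpow_zero, mul_one])
    rw [e, map_mul, map_zpow, ht.1, htv, ← e]
    exact u.apply_symm_apply s
  have hxG : u * t * u⁻¹ ∈ G := G.mul_mem (G.mul_mem hG' hG) (G.inv_mem hG')
  have husp : (u s) ^ p = 1 := by rw [← map_pow, hsp, map_one]
  obtain ⟨k, hk⟩ := hsyl t hG _ hxG (ht.pow_eq_one hsp) (hx.pow_eq_one husp) (ht.commute hx htus hxs) ht1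
  have hx1 : u * t * u⁻¹ = 1 := by
    refine MulEquiv.ext fun r => ?_
    obtain ⟨e, he⟩ := hx.2 r
    have hxr : (u * t * u⁻¹) r = r * (u s) ^ e := by
      rw [show (u s) ^ e = r⁻¹ * (u * t * u⁻¹) r from he, mul_inv_cancel_left]
    have hin : (u s) ^ e ∈ Subgroup.zpowers s := by
      rw [show (u s) ^ e = r⁻¹ * (u * t * u⁻¹) r from he, ← show t ^ k = u * t * u⁻¹ from hk]
      have : ∀ k : ℤ, r⁻¹ * (t ^ k) r ∈ Subgroup.zpowers s := by
        have hnat : ∀ k : ℕ, r⁻¹ * (t ^ k) r ∈ Subgroup.zpowers s := fun k => by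
          obtain ⟨c, hc⟩ := ht.2 r
          refine ⟨c * k, ?_⟩
          show s ^ (c * (k : ℤ)) = r⁻¹ * (t ^ k) r
          rw [transvection_pow t ht.1 (show t r = r * s ^ c by
            rw [show s ^ c = r⁻¹ * t r from hc, mul_inv_cancel_left]), inv_mul_cancel_left]
        intro k
        obtain ⟨n, rfl | rfl⟩ := k.eq_nat_or_neg
        · rw [zpow_natCast]; exact hnat n
        · rw [zpow_neg, zpow_natCast]
          obtain ⟨c, hc⟩ := hnat n
          refine ⟨-c, ?_⟩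
          show s ^ (-c) = r⁻¹ * (t ^ n)⁻¹ r
          have hfix : (t ^ n) s = s := by
            simpa using transvection_pow t ht.1 (r := s) (e := 0) (by simp [ht.1]) n
          rw [eq_inv_mul_iff_mul_eq]
          refine (MulEquiv.eq_symm_apply (t ^ n)).2 ?_
          rw [map_mul, map_zpow, hfix, zpow_neg, show s ^ c = r⁻¹ * (t ^ n) r from hc, mul_inv_rev, inv_inv,
            mul_inv_cancel_left]
      exact this k
    by_cases he1 : (u s) ^ e = 1
    · rw [hxr, he1, mul_one]; rfl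
    exfalso
    refine hvs ?_
    have hu1 : orderOf (u s) = p := orderOf_eq_prime husp fun h => he1 (by rw [h, one_zpow])
    have hd : ¬ (p : ℤ) ∣ e := fun hd => he1 (orderOf_dvd_iff_zpow_eq_one.1 (by rwa [hu1]))
    obtain ⟨a, b', hab⟩ := (Prime.coprime_iff_not_dvd (Nat.prime_iff_prime_int.1 hp.out)).2 hd
    have husin : u s ∈ Subgroup.zpowers s := by
      rw [← zpow_one (u s), ← hab, zpow_add, mul_comm a, zpow_mul, zpow_natCast, husp, one_zpow, one_mul, mul_comm b',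
        zpow_mul]
      exact Subgroup.zpow_mem _ hin b'
    have hvbin : v ^ b ∈ Subgroup.zpowers s := by
      rw [show v ^ b = s⁻¹ * u s from hb]
      exact Subgroup.mul_mem _ (Subgroup.inv_mem _ (Subgroup.mem_zpowers s)) husin
    have hdb : ¬ (p : ℤ) ∣ b := fun hd => hvb (orderOf_dvd_iff_zpow_eq_one.1 (by rwa [hv]))
    obtain ⟨a', b'', hab'⟩ := (Prime.coprime_iff_not_dvd (Nat.prime_iff_prime_int.1 hp.out)).2 hdb
    have hvp : v ^ p = 1 := hv ▸ pow_orderOf_eq_one v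
    rw [← zpow_one v, ← hab', zpow_add, mul_comm a', zpow_mul, zpow_natCast, hvp, one_zpow,
      one_mul, mul_comm b'', zpow_mul]
    exact Subgroup.zpow_mem _ hvbin b''
  exact ht1 (conj_eq_one_iff.1 hx1)

/-- A conjugate outside `⟨t⟩` moves the direction of `t`, and `t` moves its direction. -/
theorem pair_moves {t α : MulAut A} {s : A} (hG : t ∈ G) (hα : α ∈ G) (ht : IsTransv t s) (hs : orderOf s = p)
    (ht1 : t ≠ 1) (hn : α * t * α⁻¹ ∉ Subgroup.zpowers t) :
    t (α s) ≠ α s ∧ (α * t * α⁻¹) s ≠ s := by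
  have hG' : α * t * α⁻¹ ∈ G := G.mul_mem (G.mul_mem hα hG) (G.inv_mem hα)
  have ht' := ht.conj α
  have hs' : orderOf (α s) = p := by rw [← hs]; exact orderOf_injective α.toMonoidHom α.injective s
  have ht'1 : α * t * α⁻¹ ≠ 1 := fun h => ht1 (conj_eq_one_iff.1 h)
  refine ⟨fun h1 => ?_, fun h2 => ?_⟩
  · by_cases h2 : (α * t * α⁻¹) s = s
    · exact hn (hsyl t hG _ hG' (ht.pow_eq_one (hs ▸ pow_orderOf_eq_one s))
        (ht'.pow_eq_one (hs' ▸ pow_orderOf_eq_one _)) (ht.commute ht' h1 h2) ht1)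
    · exact no_half_move hsyl hG hG' ht1 ht ht' hs hs' h1 h2
  · by_cases h1 : t (α s) = α s
    · exact hn (hsyl t hG _ hG' (ht.pow_eq_one (hs ▸ pow_orderOf_eq_one s))
        (ht'.pow_eq_one (hs' ▸ pow_orderOf_eq_one _)) (ht.commute ht' h1 h2) ht1)
    · exact no_half_move hsyl hG' hG ht'1 ht' ht hs' hs h2 h1

omit hsyl in
/-- The space splits into common fixed points and the two directions. -/
theorem transv_decomp {t u : MulAut A} {s v : A} (ht : IsTransv t s) (hu : IsTransv u v) (hs : orderOf s = p)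
    (hv : orderOf v = p) (htv : t v ≠ v) (hus : u s ≠ s) (r : A) :
    (∃ (c : A) (k l : ℤ), r = c * s ^ k * v ^ l ∧ t c = c ∧ u c = c) ∧
      (t r = r → ∃ (c : A) (k : ℤ), r = c * s ^ k ∧ t c = c ∧ u c = c) := by
  have hgen : ∀ {w : A} {a : ℤ}, orderOf w = p → w ^ a ≠ 1 → ∀ b : ℤ, ∃ m : ℤ, w ^ (a * m) = w ^ b := fun {w a} hw hne b => by
    have hd : ¬ (p : ℤ) ∣ a := fun hd => hne (orderOf_dvd_iff_zpow_eq_one.1 (by rwa [hw]))
    obtain ⟨x, y, hxy⟩ := (Prime.coprime_iff_not_dvd (Nat.prime_iff_prime_int.1 hp.out)).2 hd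
    refine ⟨y * b, ?_⟩
    rw [show a * (y * b) = (1 - x * p) * b by rw [← hxy]; ring, sub_mul, one_mul, zpow_sub,
      show x * (p : ℤ) * b = (p : ℤ) * (x * b) by ring, zpow_mul, zpow_natCast, ← hw, pow_orderOf_eq_one, one_zpow,
      inv_one, mul_one]
  obtain ⟨a, ha⟩ := ht.2 v
  have hta : t v = v * s ^ a := by rw [show s ^ a = v⁻¹ * t v from ha, mul_inv_cancel_left]
  have hsa : s ^ a ≠ 1 := fun h => htv (by rw [hta, h, mul_one])
  obtain ⟨b, hb⟩ := hu.2 s
  have hub : u s = s * v ^ b := by rw [show v ^ b = s⁻¹ * u s from hb, mul_inv_cancel_left]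
  have hvb : v ^ b ≠ 1 := fun h => hus (by rw [hub, h, mul_one])
  obtain ⟨e, he⟩ := ht.2 r
  have hre : t r = r * s ^ e := by rw [show s ^ e = r⁻¹ * t r from he, mul_inv_cancel_left]
  obtain ⟨m, hm⟩ := hgen hs hsa (-e)
  have h1 : t (r * v ^ m) = r * v ^ m := by
    rw [map_mul, map_zpow, hre, hta, mul_zpow, ← zpow_mul, hm, zpow_neg, mul_comm (v ^ m), ← mul_assoc,
      mul_inv_cancel_right]
  obtain ⟨f, hf⟩ := hu.2 (r * v ^ m)
  have hrf : u (r * v ^ m) = r * v ^ m * v ^ f := by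
    rw [show v ^ f = (r * v ^ m)⁻¹ * u (r * v ^ m) from hf, mul_inv_cancel_left]
  obtain ⟨n, hn⟩ := hgen hv hvb (-f)
  have htc : t (r * v ^ m * s ^ n) = r * v ^ m * s ^ n := by rw [map_mul, h1, map_zpow, ht.1]
  have huc : u (r * v ^ m * s ^ n) = r * v ^ m * s ^ n := by
    rw [map_mul, hrf, map_zpow, hub, mul_zpow, ← zpow_mul, hn, zpow_neg, mul_comm (s ^ n), ← mul_assoc,
      mul_inv_cancel_right]
  have hr : r = r * v ^ m * s ^ n * s ^ (-n) * v ^ (-m) := by
    rw [mul_assoc (r * v ^ m), ← zpow_add, add_neg_cancel, zpow_zero, mul_one, mul_assoc, ← zpow_add, add_neg_cancel,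
      zpow_zero, mul_one]
  refine ⟨⟨_, -n, -m, hr, htc, huc⟩, fun hfix => ⟨_, -n, ?_, htc, huc⟩⟩
  conv_lhs => rw [hr]
  have hm0 : v ^ (-m) = 1 := by
    have h2 : s ^ e = 1 := by rw [show s ^ e = r⁻¹ * t r from he, hfix, inv_mul_cancel]
    rw [zpow_neg, h2, inv_one] at hm
    rw [zpow_neg, inv_eq_one]
    have hd : (p : ℤ) ∣ a * m := by rw [← hs]; exact orderOf_dvd_iff_zpow_eq_one.2 hm
    rcases Int.Prime.dvd_mul' hp.out hd with h | h
    · exact absurd (orderOf_dvd_iff_zpow_eq_one.1 (by rwa [hs] : (orderOf s : ℤ) ∣ a)) hsa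
    · exact orderOf_dvd_iff_zpow_eq_one.1 (by rwa [hv])
  rw [hm0, mul_one]

/-- For `p = 2` there are only three conjugates, and the third exchanges the first two. -/
theorem three_conjugates (hp2 : p = 2) {t α : MulAut A} {s : A} (hG : t ∈ G) (hα : α ∈ G) (ht : IsTransv t s)
    (hs : orderOf s = p) (ht1 : t ≠ 1) (hn : α * t * α⁻¹ ∉ Subgroup.zpowers t) :
    (∀ β ∈ G, β * t * β⁻¹ = t ∨ β * t * β⁻¹ = α * t * α⁻¹ ∨
        β * t * β⁻¹ = α * t * α⁻¹ * t * (α * t * α⁻¹)⁻¹) ∧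
      (α * t * α⁻¹) s = s * α s ∧
      α * t * α⁻¹ * t * (α * t * α⁻¹)⁻¹ * (α * t * α⁻¹) * (α * t * α⁻¹ * t * (α * t * α⁻¹)⁻¹)⁻¹ = t := by
  subst hp2
  have hsq : s ^ 2 = 1 := hs ▸ pow_orderOf_eq_one s
  have hinv2 : ∀ {x : MulAut A} {c : A}, IsTransv x c → c ^ 2 = 1 → x⁻¹ = x := fun hx hc =>
    inv_eq_of_mul_eq_one_left (by rw [← sq]; exact hx.pow_eq_one hc)
  have hzp2 : ∀ {g : MulAut A}, g ^ 2 = 1 → ∀ {h : MulAut A}, h ∈ Subgroup.zpowers g → h = 1 ∨ h = g := by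
    intro g hg h ⟨k, hk⟩
    rcases Int.even_or_odd k with ⟨l, rfl⟩ | ⟨l, rfl⟩
    · left; rw [← hk]; show g ^ (l + l) = 1
      rw [← two_mul, zpow_mul, show g ^ (2 : ℤ) = 1 from hg, one_zpow]
    · right; rw [← hk]; show g ^ (2 * l + 1) = g
      rw [zpow_add, zpow_mul, show g ^ (2 : ℤ) = 1 from hg, one_zpow, zpow_one, one_mul]
  -- distinct conjugates move each other's directions by exactly their own
  have hmove : ∀ β ∈ G, ∀ γ ∈ G, β * t * β⁻¹ ≠ γ * t * γ⁻¹ →
      (β * t * β⁻¹) (γ s) = γ s * β s := by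
    intro β hβ γ hγ hne
    have hn' : β⁻¹ * γ * t * (β⁻¹ * γ)⁻¹ ∉ Subgroup.zpowers t := fun h => by
      rcases hzp2 (ht.pow_eq_one hsq) h with h1 | h1
      · exact ht1 (conj_eq_one_iff.1 h1)
      · exact hne (by
          conv_lhs => rw [← h1]
          group)
    have h1 := (pair_moves hsyl hG (G.mul_mem (G.inv_mem hβ) hγ) ht hs ht1 hn').1
    have hx := ht.conj β
    obtain ⟨k, hk⟩ := hx.2 (γ s)
    have hk' : (β * t * β⁻¹) (γ s) = γ s * (β s) ^ k := by
      rw [show (β s) ^ k = (γ s)⁻¹ * (β * t * β⁻¹) (γ s) from hk, mul_inv_cancel_left]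
    have hne1 : (β * t * β⁻¹) (γ s) ≠ γ s := fun h => h1 (by
      show t (β⁻¹ (γ s)) = β⁻¹ (γ s)
      exact β.injective (h.trans (β.apply_symm_apply (γ s)).symm))
    rcases Int.even_or_odd k with ⟨l, rfl⟩ | ⟨l, rfl⟩
    · refine absurd ?_ hne1
      rw [hk', ← two_mul, zpow_mul, show (β s) ^ (2 : ℤ) = 1 by rw [zpow_two, ← map_mul, ← sq, hsq, map_one],
        one_zpow, mul_one]
    · rw [hk', zpow_add, zpow_mul, show (β s) ^ (2 : ℤ) = 1 by rw [zpow_two, ← map_mul, ← sq, hsq, map_one],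
        one_zpow, zpow_one, one_mul]
  have hne0 : α * t * α⁻¹ ≠ 1 * t * 1⁻¹ := by
    rw [one_mul, inv_one, mul_one]; exact fun h => hn (h.symm ▸ Subgroup.mem_zpowers t : α * t * α⁻¹ ∈ Subgroup.zpowers t)
  have hαs : (α * t * α⁻¹) s = s * α s := by simpa using hmove α hα 1 G.one_mem hne0
  set t' := α * t * α⁻¹ with ht'def
  have hG' : t' ∈ G := G.mul_mem (G.mul_mem hα hG) (G.inv_mem hα)
  have hall : ∀ β ∈ G, β * t * β⁻¹ = t ∨ β * t * β⁻¹ = t' ∨ β * t * β⁻¹ = t' * t * t'⁻¹ := by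
    intro β hβ
    by_contra hno
    rw [not_or, not_or] at hno
    obtain ⟨h1, h2, h3⟩ := hno
    have e1 := hmove 1 G.one_mem β hβ (by rw [one_mul, inv_one, mul_one]; exact Ne.symm h1)
    have e2 := hmove α hα β hβ (Ne.symm h2)
    simp only [one_mul, inv_one, mul_one, MulAut.one_apply] at e1
    have e3 := hmove t' hG' β hβ (Ne.symm h3)
    have e4 : (t' * t * t'⁻¹) (β s) = β s := by
      rw [hinv2 (ht.conj α) (by rw [← map_pow, hsq, map_one]), MulAut.mul_apply, MulAut.mul_apply, e2, map_mul,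
        e1, show t (α s) = α s * s by simpa using hmove 1 G.one_mem α hα (Ne.symm hne0), map_mul, map_mul, map_mul,
        e2, show t' (α s) = α s from (ht.conj α).1, hαs]
      calc β s * α s * (s * α s) * (α s * (s * α s)) = β s * ((α s) ^ 2) * ((α s) ^ 2) * (s ^ 2) := by
            simp only [sq]; simp only [mul_assoc, mul_left_comm, mul_comm]
        _ = β s := by rw [← map_pow, hsq, map_one, mul_one, mul_one, mul_one]
    rw [e4] at e3
    have : t' s = 1 := (mul_eq_left.1 e3.symm)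
    exact hp.out.ne_one (by rw [← hs, t'.injective (this.trans (map_one t').symm), orderOf_one])
  refine ⟨hall, hαs, ?_⟩
  set t3 := t' * t * t'⁻¹ with ht3
  have hG3 : t3 ∈ G := G.mul_mem (G.mul_mem hG' hG) (G.inv_mem hG')
  have hne13 : t' ≠ t := fun h => hn (h ▸ Subgroup.mem_zpowers t)
  have hkey : t3 * t' * t3⁻¹ = t3 * α * t * (t3 * α)⁻¹ := by rw [ht'def]; group
  rcases hall (t3 * α) (G.mul_mem hG3 hα) with h | h | h <;> rw [← hkey] at h
  · exact h
  · exfalso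
    -- `t3` would commute with `t'`
    have hcomm : t3 * t' = t' * t3 := mul_inv_eq_iff_eq_mul.1 h
    have hd : t3 ≠ t' := fun e => hne13 (by
      have : t' * t * t'⁻¹ = t' * t' * t'⁻¹ := by rw [← ht3, e]; group
      exact (mul_left_cancel (mul_right_cancel this)).symm)
    have e5 := hmove t' hG' α hα hd
    have h6 : t3 (α s) = α s := by
      have hin := hsyl t' hG' t3 hG3 ((ht.conj α).pow_eq_one (by rw [← map_pow, hsq, map_one]))
        ((ht.conj t').pow_eq_one (by rw [← map_pow, hsq, map_one])) hcomm.symm (fun e => ht1 (conj_eq_one_iff.1 e))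
      rcases hzp2 ((ht.conj α).pow_eq_one (by rw [← map_pow, hsq, map_one])) hin with e | e
      · exact absurd (conj_eq_one_iff.1 e) ht1
      · rw [e]; exact (ht.conj α).1
    rw [show (t' * t * t'⁻¹) (α s) = t3 (α s) from rfl, h6] at e5
    have : t' s = 1 := mul_eq_left.1 e5.symm
    exact hp.out.ne_one (by rw [← hs, t'.injective (this.trans (map_one t').symm), orderOf_one])
  · exfalso
    have : t' = t3 := by
      have h7 : t3 * t' * t3⁻¹ = t3 * t3 * t3⁻¹ := by rw [h]; group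
      exact mul_left_cancel (mul_right_cancel h7)
    refine hne13 ?_
    have h8 : t' * t' * t'⁻¹ = t' * t * t'⁻¹ := by rw [← ht3, ← this]; group
    exact mul_left_cancel (mul_right_cancel h8)

end Cfsg.Agent.FusionSys
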