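import Cfsg.Agent.Lib.Fusion.InnerCriterion
import Cfsg.Agent.Lib.Fusion.Alperin
import Cfsg.Agent.Lib.Fusion.GenExtraspecial
import Cfsg.Agent.Lib.Fusion.TransvectionPair

/-!
# Systems over a group whose centre has index `p²`: automorphisms of the abelian maximal subgroups

For a maximal subgroup `E` containing the centre and an automorphism of `E` in the system not normalizing
`Aut_S(E)`, the centre splits off the direction of the transvection.
-/

set_option autoImplicit false

namespace Cfsg.Agent.FusionSys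

open Cfsg Cfsg.FusionSystem
open scoped commutatorElement

variable {Ω : Type*} [Group Ω] {S : Subgroup Ω} [Finite S] {p : ℕ} [hp : Fact p.Prime] {F : FusionSystem S}

/-- The centre of `S`, inside the ambient group. -/
def centerOf (S : Subgroup Ω) : Subgroup Ω := S ⊓ Subgroup.centralizer (S : Set Ω)

omit [Finite S] in
theorem centerOf_le (S : Subgroup Ω) : centerOf S ≤ S := inf_le_left

theorem finite_centerOf : Finite (centerOf S) := finite_of_le (centerOf_le S)

omit [Finite S] in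
theorem centerOf_comm {z g : Ω} (hz : z ∈ centerOf S) (hg : g ∈ S) : g * z = z * g :=
  Subgroup.mem_centralizer_iff.1 hz.2 g hg

omit [Finite S] in
theorem map_center : (Subgroup.center S).map S.subtype = centerOf S := by
  ext z
  constructor
  · rintro ⟨w, hw, rfl⟩
    exact ⟨w.2, Subgroup.mem_centralizer_iff.2 fun g hg =>
      congrArg Subtype.val (Subgroup.mem_center_iff.1 hw ⟨g, hg⟩)⟩
  · intro hz
    exact ⟨⟨z, hz.1⟩, Subgroup.mem_center_iff.2 fun g => Subtype.ext (centerOf_comm hz g.2), rfl⟩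

/-- `|S : Z(S)| = p²`: the derived subgroup is generated by a central element of order `p`. -/
theorem exists_commutator_generator {G : Type*} [Group G] [Finite G] (hG : IsPGroup p G)
    (hidx : (Subgroup.center G).index = p ^ 2) :
    ∃ s ∈ Subgroup.center G, orderOf s = p ∧ ∀ u v : G, ⁅u, v⁆ ∈ Subgroup.zpowers s := by
  classical
  set Z := Subgroup.center G
  have hnc : ¬ ∀ a b : G, a * b = b * a := fun h => by
    have : Z = ⊤ := eq_top_iff.2 fun g _ => Subgroup.mem_center_iff.2 fun u => h u g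
    rw [this, Subgroup.index_top] at hidx
    exact (Nat.one_lt_pow two_ne_zero hp.out.one_lt).ne hidx
  have hQc : ¬ IsCyclic (G ⧸ Z) := fun h => hnc fun a b =>
    commutative_of_cyclic_center_quotient (QuotientGroup.mk' Z) (QuotientGroup.ker_mk' Z).le a b
  have hQcard : Nat.card (G ⧸ Z) = p ^ 2 := hidx
  have hQcomm : ∀ x y : G ⧸ Z, x * y = y * x := by
    letI : CommGroup (G ⧸ Z) := IsPGroup.commGroupOfCardEqPrimeSq hQcard
    exact mul_comm
  have hcomm : ∀ u v : G, ⁅u, v⁆ ∈ Z := fun u v => by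
    rw [← QuotientGroup.eq_one_iff]
    show QuotientGroup.mk' Z ⁅u, v⁆ = 1
    rw [map_commutatorElement, commutatorElement_eq_one_iff_mul_comm]
    exact hQcomm _ _
  have hpow : ∀ u : G, u ^ p ∈ Z := fun u => by
    rw [← QuotientGroup.eq_one_iff, QuotientGroup.mk_pow]
    obtain ⟨i, hi, hord⟩ := (Nat.dvd_prime_pow hp.out).1 (hQcard ▸ orderOf_dvd_natCard (QuotientGroup.mk u : G ⧸ Z))
    interval_cases i
    · rw [orderOf_eq_one_iff.1 (hord.trans (pow_zero p)), one_pow]
    · rw [← orderOf_dvd_iff_pow_eq_one, hord, pow_one]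
    · exact absurd (isCyclic_of_orderOf_eq_card _ (hord.trans hQcard.symm)) hQc
  have hmul : ∀ w u v : G, ⁅u * v, w⁆ = ⁅u, w⁆ * ⁅v, w⁆ := fun w u v => by
    have h := Subgroup.mem_center_iff.1 (hcomm v w)
    calc ⁅u * v, w⁆ = u * ⁅v, w⁆ * (w * u⁻¹ * w⁻¹) := by simp only [commutatorElement_def]; group
      _ = ⁅v, w⁆ * ⁅u, w⁆ := by rw [h u]; simp only [commutatorElement_def]; group
      _ = ⁅u, w⁆ * ⁅v, w⁆ := (Subgroup.mem_center_iff.1 (hcomm v w) _).symm
  let c : G → (G →* G) := fun w => MonoidHom.mk' (fun u => ⁅u, w⁆) (hmul w)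
  obtain ⟨a, b, hab⟩ : ∃ a b : G, a * b ≠ b * a := by
    simpa using hnc
  set s := ⁅a, b⁆ with hs
  have hs1 : s ≠ 1 := fun h => hab (commutatorElement_eq_one_iff_mul_comm.1 h)
  have hsp : s ^ p = 1 := by
    show (c b a) ^ p = 1
    rw [← map_pow]
    exact commutatorElement_eq_one_iff_mul_comm.2 (Subgroup.mem_center_iff.1 (hpow a) b).symm
  -- `G` is generated by `a`, `b` and the centre
  have hgen : ∀ H : Subgroup G, Z ≤ H → a ∈ H → b ∈ H → H = ⊤ := by
    intro H hZ ha hb
    have h1 : Z < H ⊓ Subgroup.centralizer {a} := by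
      refine lt_of_le_not_ge (le_inf hZ fun z hz => Subgroup.mem_centralizer_iff.2 fun g hg => ?_) fun h => hab ?_
      · rw [Set.mem_singleton_iff.1 hg]; exact Subgroup.mem_center_iff.1 hz a
      · exact (Subgroup.mem_center_iff.1 (h ⟨ha, Subgroup.mem_centralizer_iff.2 fun g hg => by
          rw [Set.mem_singleton_iff.1 hg]⟩) b).symm
    have h2 : H ⊓ Subgroup.centralizer {a} < H := by
      refine lt_of_le_not_ge inf_le_left fun h => hab ?_
      exact Subgroup.mem_centralizer_iff.1 (h hb).2 a rfl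
    have i1 := Subgroup.index_strictAnti h1
    have i2 := Subgroup.index_strictAnti h2
    have d1 := Subgroup.index_dvd_of_le h1.le
    have d2 := Subgroup.index_dvd_of_le (hZ)
    rw [hidx] at i1 d1 d2
    obtain ⟨k, hk, hk'⟩ := (Nat.dvd_prime_pow hp.out).1 d1
    obtain ⟨l, hl, hl'⟩ := (Nat.dvd_prime_pow hp.out).1 d2
    rw [hk', Nat.pow_lt_pow_iff_right hp.out.one_lt] at i1
    rw [hk', hl', Nat.pow_lt_pow_iff_right hp.out.one_lt] at i2
    rw [← Subgroup.index_eq_one, hl', show l = 0 by omega, pow_zero]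
  have hspan : ∀ w, ⁅a, w⁆ ∈ Subgroup.zpowers s → ⁅b, w⁆ ∈ Subgroup.zpowers s → ∀ u, ⁅u, w⁆ ∈ Subgroup.zpowers s :=
    fun w ha hb u => (hgen ((Subgroup.zpowers s).comap (c w)) (fun z hz => by
      show ⁅z, w⁆ ∈ Subgroup.zpowers s
      rw [commutatorElement_eq_one_iff_mul_comm.2 (Subgroup.mem_center_iff.1 hz w).symm]
      exact Subgroup.one_mem _) ha hb).ge (Subgroup.mem_top u)
  have hinv : ∀ x y : G, ⁅x, y⁆ ∈ Subgroup.zpowers s → ⁅y, x⁆ ∈ Subgroup.zpowers s := fun x y h => by
    rw [← commutatorElement_inv]; exact Subgroup.inv_mem _ h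
  have hca := hspan a (by rw [commutatorElement_self]; exact Subgroup.one_mem _) (hinv a b (Subgroup.mem_zpowers s))
  have hcb := hspan b (Subgroup.mem_zpowers s) (by rw [commutatorElement_self]; exact Subgroup.one_mem _)
  exact ⟨s, hcomm a b, orderOf_eq_prime hsp hs1, fun u v => hspan v (hinv v a (hca v)) (hinv v b (hcb v)) u⟩

/-- The standing data: centre of index `p²`, derived subgroup generated by `s`. -/
structure SmallCentre (S : Subgroup Ω) (p : ℕ) (s : Ω) : Prop where
  card_eq : Nat.card S = p ^ 2 * Nat.card (centerOf S)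
  s_mem : s ∈ centerOf S
  order_s : orderOf s = p
  comm_mem : ∀ u ∈ S, ∀ v ∈ S, ⁅u, v⁆ ∈ Subgroup.zpowers s

theorem exists_smallCentre (hS : IsPGroup p S) (hidx : (Subgroup.center S).index = p ^ 2) :
    ∃ s : Ω, SmallCentre S p s := by
  obtain ⟨s, hs, hord, hc⟩ := exists_commutator_generator hS hidx
  refine ⟨s, ?_, map_center (S := S) ▸ ⟨s, hs, rfl⟩, by rw [Subgroup.orderOf_coe]; exact hord, fun u hu v hv => ?_⟩
  · rw [← map_center, Subgroup.card_map_of_injective S.subtype_injective, ← hidx,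
      ← (Subgroup.center S).card_mul_index, mul_comm]
  · obtain ⟨k, hk⟩ := hc ⟨u, hu⟩ ⟨v, hv⟩
    exact ⟨k, (SubgroupClass.coe_zpow _ k).symm.trans (congrArg Subtype.val hk)⟩

/-- A maximal subgroup containing the centre. -/
structure MidSubgroup (S : Subgroup Ω) (p : ℕ) (E : Subgroup Ω) : Prop where
  le_S : E ≤ S
  center_le : centerOf S ≤ E
  card_eq : Nat.card E = p * Nat.card (centerOf S)

variable {s : Ω} (hd : SmallCentre S p s) {E : Subgroup Ω} (hE : MidSubgroup S p E)

include hd hE in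
theorem mid_comm {e f : Ω} (he : e ∈ E) (hf : f ∈ E) : e * f = f * e := by
  haveI := finite_of_le (S := S) hE.le_S
  set W : Subgroup E := (centerOf S).subgroupOf E
  have hW : W ≤ Subgroup.center E := fun w hw => Subgroup.mem_center_iff.2 fun u =>
    Subtype.ext (centerOf_comm hw (hE.le_S u.2))
  haveI : W.Normal := ⟨fun n hn g => by
    rw [show g * n * g⁻¹ = n by rw [Subgroup.mem_center_iff.1 (hW hn) g, mul_inv_cancel_right]]; exact hn⟩
  have hcard : Nat.card (E ⧸ W) = p := by
    refine Nat.eq_of_mul_eq_mul_left (Nat.card_pos (α := W)) ?_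
    show Nat.card W * W.index = _
    rw [W.card_mul_index, hE.card_eq, mul_comm, Nat.card_congr (Subgroup.subgroupOfEquivOfLe hE.center_le).toEquiv]
  haveI : IsCyclic (E ⧸ W) := isCyclic_of_prime_card hcard
  exact congrArg Subtype.val (commutative_of_cyclic_center_quotient (QuotientGroup.mk' W)
    ((QuotientGroup.ker_mk' W).trans_le hW) ⟨e, he⟩ ⟨f, hf⟩)

include hd hE in
theorem mid_normal : S ≤ Subgroup.normalizer (E : Set Ω) := fun g hg => by
  have h : ∀ h ∈ S, ∀ e ∈ E, h * e * h⁻¹ ∈ E := fun h hh e he => by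
    obtain ⟨k, hk⟩ := hd.comm_mem h hh e (hE.le_S he)
    have : h * e * h⁻¹ = s ^ k * e := by
      rw [show s ^ k = ⁅h, e⁆ from hk, commutatorElement_def]; group
    rw [this]
    exact E.mul_mem (E.zpow_mem (hE.center_le hd.s_mem) k) he
  exact mem_normalizer_of_conj_mem g (h g hg) fun e he => by simpa using h g⁻¹ (S.inv_mem hg) e he

include hd hE in
/-- `S` is generated over `E` by any element outside it. -/
theorem mid_gen {x : Ω} (hxS : x ∈ S) (hx : x ∉ E) {g : Ω} (hg : g ∈ S) :
    ∃ (i : ℤ), ∃ e ∈ E, g = x ^ i * e := by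
  haveI := finite_of_le (S := S) hE.le_S
  haveI : (E.subgroupOf S).Normal := Subgroup.normal_subgroupOf_of_le_normalizer (mid_normal hd hE)
  have hidx : Nat.card (S ⧸ E.subgroupOf S) = p := by
    refine Nat.eq_of_mul_eq_mul_left (Nat.card_pos (α := E.subgroupOf S)) ?_
    show Nat.card (E.subgroupOf S) * (E.subgroupOf S).index = _
    rw [Subgroup.card_mul_index, Nat.card_congr (Subgroup.subgroupOfEquivOfLe hE.le_S).toEquiv, hd.card_eq, hE.card_eq]
    ring
  obtain ⟨i, hi⟩ := mem_zpowers_of_prime_card (g := (QuotientGroup.mk ⟨x, hxS⟩ : S ⧸ E.subgroupOf S))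
    (g' := QuotientGroup.mk ⟨g, hg⟩) hidx (by rw [ne_eq, QuotientGroup.eq_one_iff]; exact hx)
  have h := QuotientGroup.eq.1 ((QuotientGroup.mk_zpow _ _ i).trans hi)
  exact ⟨i, (x ^ i)⁻¹ * g, h, by rw [mul_inv_cancel_left]⟩

include hd hE in
theorem mid_exists_outside : ∃ x ∈ S, x ∉ E := by
  by_contra h
  simp only [not_exists, not_and, not_not] at h
  have := finite_of_le (S := S) hE.le_S
  have hcE : Nat.card S = Nat.card E := by rw [le_antisymm hE.le_S h]
  have hc := hd.card_eq
  rw [hcE, hE.card_eq] at hc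
  have hpos : 0 < Nat.card (centerOf S) := by
    haveI := finite_centerOf (S := S)
    exact Nat.card_pos
  have h2 := Nat.eq_of_mul_eq_mul_right hpos hc
  nlinarith [hp.out.two_le]

/-- The transvection induced on `E` by an element outside it, and the Sylow condition. -/
structure MidAction (F : FusionSystem S) (p : ℕ) (E : Subgroup Ω) (sE : E) (t : MulAut E) : Prop where
  mem : t ∈ F.autGroup E
  ne_one : t ≠ 1
  transv : ∀ r : E, r⁻¹ * t r ∈ Subgroup.zpowers sE
  fix : ∀ r : E, t r = r ↔ (r : Ω) ∈ centerOf S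
  autInduced : autInducedBy S E = Subgroup.zpowers t
  syl : ∀ a ∈ F.autGroup E, ∀ b ∈ F.autGroup E, a ^ p = 1 → b ^ p = 1 → a * b = b * a → a ≠ 1 → b ∈ Subgroup.zpowers a

include hd hE in
theorem exists_midAction (hS : IsPGroup p S) (hF : F.IsSaturated p) :
    ∃ t : MulAut E, MidAction F p E ⟨s, hE.center_le hd.s_mem⟩ t := by
  haveI := finite_of_le (S := S) hE.le_S
  obtain ⟨x, hxS, hxE⟩ := mid_exists_outside hd hE
  obtain ⟨t, ht, hte⟩ := exists_conjAut (P := E) hxS (mid_normal hd hE hxS)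
  have hfix : ∀ r : E, t r = r ↔ (r : Ω) ∈ centerOf S := by
    intro r
    constructor
    · intro h
      have hxr : x * r = r * x := mul_inv_eq_iff_eq_mul.1 ((hte r).symm.trans (congrArg Subtype.val h))
      refine ⟨hE.le_S r.2, Subgroup.mem_centralizer_iff.2 fun g hg => ?_⟩
      obtain ⟨i, e, he, rfl⟩ := mid_gen hd hE hxS hxE hg
      exact ((Commute.zpow_left hxr i).mul_left (mid_comm hd hE he r.2)).eq
    · intro h
      refine Subtype.ext ((hte r).trans ?_)
      rw [centerOf_comm h hxS, mul_inv_cancel_right]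
  have htv : ∀ r : E, r⁻¹ * t r ∈ Subgroup.zpowers (⟨s, hE.center_le hd.s_mem⟩ : E) := fun r => by
    obtain ⟨k, hk⟩ := hd.comm_mem _ (S.inv_mem (hE.le_S r.2)) x hxS
    refine ⟨k, Subtype.ext ?_⟩
    show ((⟨s, _⟩ : E) ^ k : E).1 = (r : Ω)⁻¹ * ((t r : E) : Ω)
    rw [SubgroupClass.coe_zpow, hte, show s ^ k = ⁅(r : Ω)⁻¹, x⁆ from hk, commutatorElement_def]
    group
  have ht1 : t ≠ 1 := by
    intro h
    have hEZ : E ≤ centerOf S := fun e he => (hfix ⟨e, he⟩).1 (by rw [h]; rfl)
    have hpos : 0 < Nat.card (centerOf S) := by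
      haveI := finite_centerOf (S := S)
      exact Nat.card_pos
    haveI := finite_centerOf (S := S)
    have := Subgroup.card_le_of_le hEZ
    rw [hE.card_eq] at this
    nlinarith [hp.out.two_le]
  have hTe : autInducedBy S E = Subgroup.zpowers t := by
    refine le_antisymm (fun a ha => ?_) (Subgroup.zpowers_le.2 ht)
    obtain ⟨g, hg, hge⟩ := (mem_autInducedBy_iff a).1 ha
    obtain ⟨i, e, he, rfl⟩ := mid_gen hd hE hxS hxE hg
    refine ⟨i, MulEquiv.ext fun r => Subtype.ext ?_⟩
    rw [hge]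
    have : ∀ i : ℤ, (((t ^ i) r : E) : Ω) = x ^ i * r * (x ^ i)⁻¹ := by
      intro i
      induction i with
      | zero => simp
      | succ n ih =>
        rw [show ((n : ℤ) + 1) = 1 + n from add_comm _ _, zpow_add, zpow_one, MulAut.mul_apply, hte, ih, zpow_add, zpow_one]
        group
      | pred n ih =>
        rw [show (-(n : ℤ) - 1) = -1 + -(n : ℤ) by ring, zpow_add, zpow_neg_one, MulAut.mul_apply, zpow_add, zpow_neg_one]
        have h := hte (t⁻¹ ((t ^ (-(n : ℤ))) r))
        rw [show t (t⁻¹ ((t ^ (-(n : ℤ))) r)) = (t ^ (-(n : ℤ))) r from t.apply_symm_apply _, ih] at h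
        calc _ = x⁻¹ * (x * ((t⁻¹ ((t ^ (-(n : ℤ))) r) : E) : Ω) * x⁻¹) * x := by group
          _ = _ := by rw [← h]; group
    show (((t ^ i) r : E) : Ω) = _
    rw [this, mul_inv_rev, show x ^ i * e * r * (e⁻¹ * (x ^ i)⁻¹) = x ^ i * (e * r * e⁻¹) * (x ^ i)⁻¹ by group,
      mid_comm hd hE he r.2, mul_inv_cancel_right]
  have htF : t ∈ F.autGroup E := autInducedBy_le_autGroup F hE.le_S ht
  refine ⟨t, htF, ht1, htv, hfix, hTe, fun a ha b hb hap hbp hab ha1 => ?_⟩
  letI : CommGroup E := { (inferInstance : Group E) with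
    mul_comm := fun e f => Subtype.ext (mid_comm hd hE e.2 f.2) }
  have hsp : (⟨s, hE.center_le hd.s_mem⟩ : E) ^ p = 1 :=
    Subtype.ext (by
      have h := pow_orderOf_eq_one s
      rw [hd.order_s] at h
      rw [SubmonoidClass.coe_pow]
      exact h)
  have hts : t ⟨s, hE.center_le hd.s_mem⟩ = ⟨s, hE.center_le hd.s_mem⟩ := (hfix _).2 hd.s_mem
  have htord : orderOf t = p := orderOf_eq_prime (IsTransv.pow_eq_one ⟨hts, htv⟩ hsp) ht1
  obtain ⟨R, hR⟩ := (fullyNormalized_imp hS hF
    (fullyNormalized_of_normal (F := F) hE.le_S (mid_normal hd hE))).2.2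
  have hRcard : Nat.card R = p := by
    show Nat.card (R : Subgroup (F.autGroup E)) = p
    rw [hR, Nat.card_congr (Subgroup.subgroupOfEquivOfLe (autInducedBy_le_autGroup F hE.le_S)).toEquiv, hTe,
      Nat.card_zpowers, htord]
  set a' : F.autGroup E := ⟨a, ha⟩
  set b' : F.autGroup E := ⟨b, hb⟩
  have hcom : ∀ (u : Subgroup.zpowers a') (v : Subgroup.zpowers b'), Commute (u : F.autGroup E) v := by
    rintro ⟨_, i, rfl⟩ ⟨_, j, rfl⟩
    exact (show Commute a' b' from Subtype.ext hab).zpow_zpow i j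
  set f := MonoidHom.noncommCoprod (Subgroup.zpowers a').subtype (Subgroup.zpowers b').subtype hcom
  have hoa : orderOf a' = p := by rw [← Subgroup.orderOf_coe]; exact orderOf_eq_prime hap ha1
  have hKp : IsPGroup p f.range := by
    have hob : orderOf b' ∣ p := orderOf_dvd_of_pow_eq_one (Subtype.ext hbp)
    have hdvd : Nat.card f.range ∣ p ^ 2 := by
      refine (Subgroup.card_range_dvd f).trans ?_
      rw [Nat.card_prod, Nat.card_zpowers, Nat.card_zpowers, hoa, sq]
      exact Nat.mul_dvd_mul_left p hob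
    obtain ⟨k, -, hk⟩ := (Nat.dvd_prime_pow hp.out).1 hdvd
    exact IsPGroup.of_card hk
  obtain ⟨R', hR'⟩ := hKp.exists_le_sylow
  have hle : Subgroup.zpowers a' ≤ f.range := fun u hu => ⟨(⟨u, hu⟩, 1), by
    show u * ((1 : Subgroup.zpowers b') : F.autGroup E) = u
    exact mul_one u⟩
  have hR'card : Nat.card R' = p := by rw [Sylow.card_eq_multiplicity, ← Sylow.card_eq_multiplicity R]; exact hRcard
  have heq : Subgroup.zpowers a' = f.range := Subgroup.eq_of_le_of_card_ge hle (by
    rw [Nat.card_zpowers, hoa, ← hR'card]; exact Subgroup.card_le_of_le hR')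
  obtain ⟨k, hk⟩ := heq.ge (⟨(1, ⟨b', Subgroup.mem_zpowers b'⟩), one_mul b'⟩ : b' ∈ f.range)
  exact ⟨k, (SubgroupClass.coe_zpow a' k).symm.trans (congrArg Subtype.val hk)⟩

end Cfsg.Agent.FusionSys
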