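import Cfsg.Agent.Lib.Fusion.SmallCentre
import Cfsg.Agent.Lib.Fusion.Hyperfocal
import Cfsg.Agent.Lib.Transfer.PGroup

/-!
# Automorphisms of an abelian maximal subgroup moving the transvection

The fixed part `Z ∩ α(Z)` complements `S'` in `Z = Z(S)`; for odd `p` it is the fixed subgroup in `Z` of an
automorphism of `S` inverting `S'`.
-/

set_option autoImplicit false

namespace Cfsg.Agent.FusionSys

open Cfsg Cfsg.FusionSystem
open scoped commutatorElement

variable {Ω : Type*} [Group Ω] {S : Subgroup Ω} [Finite S] {p : ℕ} [hp : Fact p.Prime] {F : FusionSystem S}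

/-- An automorphism of a maximal subgroup above the centre not normalizing the automorphisms induced by `S`. -/
structure IsShift (F : FusionSystem S) (p : ℕ) (E : Subgroup Ω) (α : MulAut E) : Prop where
  mid : MidSubgroup S p E
  mem : α ∈ F.autGroup E
  moves : ∃ a ∈ autInducedBy S E, α * a * α⁻¹ ∉ autInducedBy S E

/-- `Z ∩ α(Z)`. -/
def fixPart (S : Subgroup Ω) (E : Subgroup Ω) (α : MulAut E) : Subgroup Ω :=
  centerOf S ⊓ ((centerOf S).subgroupOf E).map (E.subtype.comp α.toMonoidHom)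

variable {s : Ω} (hd : SmallCentre S p s)

include hd in
theorem s_pow : s ^ p = 1 := hd.order_s ▸ pow_orderOf_eq_one s

omit [Finite S] in
theorem center_apply_mem (F : FusionSystem S) {β : MulAut S} (_hβ : β ∈ F.autGroup S) {z : S}
    (hz : (z : Ω) ∈ centerOf S) : ((β z : S) : Ω) ∈ centerOf S := by
  refine ⟨(β z).2, Subgroup.mem_centralizer_iff.2 fun g hg => ?_⟩
  obtain ⟨u, hu⟩ := β.surjective ⟨g, hg⟩
  have h : β (u * z) = β (z * u) := congrArg β (Subtype.ext (centerOf_comm hz u.2))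
  rw [map_mul, map_mul, hu] at h
  exact congrArg Subtype.val h

include hd in
/-- Automorphisms of `S` preserve `⟨s⟩`. -/
theorem s_apply_mem (β : MulAut S) : ((β ⟨s, hd.s_mem.1⟩ : S) : Ω) ∈ Subgroup.zpowers s := by
  obtain ⟨a, ha, b, hb, hab⟩ : ∃ a ∈ S, ∃ b ∈ S, a * b ≠ b * a := by
    by_contra h
    simp only [not_exists, not_and, not_not] at h
    have hSZ : S ≤ centerOf S := fun g hg => ⟨hg, Subgroup.mem_centralizer_iff.2 fun u hu => h u hu g hg⟩
    haveI := finite_centerOf (S := S)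
    have hle := Subgroup.card_le_of_le hSZ
    rw [hd.card_eq] at hle
    have hpos : 0 < Nat.card (centerOf S) := Nat.card_pos
    have h4 : 4 ≤ p ^ 2 := by have := hp.out.two_le; nlinarith
    nlinarith
  obtain ⟨k, hk⟩ := mem_zpowers_of_prime_order hd.order_s (hd.comm_mem a ha b hb)
    (fun h => hab (commutatorElement_eq_one_iff_mul_comm.1 h)) (Subgroup.mem_zpowers s)
  have he : (⟨s, hd.s_mem.1⟩ : S) = (⁅(⟨a, ha⟩ : S), ⟨b, hb⟩⁆ : S) ^ k :=
    Subtype.ext (by rw [SubgroupClass.coe_zpow]; exact hk.symm)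
  rw [he, map_zpow, map_commutatorElement, SubgroupClass.coe_zpow]
  exact Subgroup.zpow_mem _ (hd.comm_mem _ (β _).2 _ (β _).2) k

/-- Everything known about a shift. -/
structure ShiftFacts (F : FusionSystem S) (p : ℕ) (s : Ω) (E : Subgroup Ω) (α : MulAut E) (sE : E) (t : MulAut E) :
    Prop where
  sE_eq : (sE : Ω) = s
  act : MidAction F p E sE t
  not_mem : α * t * α⁻¹ ∉ Subgroup.zpowers t
  move : ((α sE : E) : Ω) ∉ centerOf S
  move' : (α * t * α⁻¹) sE ≠ sE
  fix_iff : ∀ z : E, (z : Ω) ∈ fixPart S E α ↔ t z = z ∧ (α * t * α⁻¹) z = z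
  split : ∀ z ∈ centerOf S, ∃ c ∈ fixPart S E α, ∃ k : ℤ, z = c * s ^ k
  disj : ∀ k : ℤ, s ^ k ∈ fixPart S E α → s ^ k = 1

include hd in
theorem shift_facts (hS : IsPGroup p S) (hF : F.IsSaturated p) {E : Subgroup Ω} {α : MulAut E} (h : IsShift F p E α) :
    ∃ (sE : E) (t : MulAut E), ShiftFacts F p s E α sE t := by
  haveI := finite_of_le (S := S) h.mid.le_S
  letI : CommGroup E := { (inferInstance : Group E) with
    mul_comm := fun e f => Subtype.ext (mid_comm hd h.mid e.2 f.2) }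
  obtain ⟨t, ht⟩ := exists_midAction hd h.mid hS hF
  set sE : E := ⟨s, h.mid.center_le hd.s_mem⟩ with hsE
  have hso : orderOf sE = p := by rw [← Subgroup.orderOf_coe]; exact hd.order_s
  have hsp : sE ^ p = 1 := hso ▸ pow_orderOf_eq_one sE
  have htr : IsTransv t sE := ⟨(ht.fix _).2 hd.s_mem, ht.transv⟩
  have hnm : α * t * α⁻¹ ∉ Subgroup.zpowers t := by
    obtain ⟨a, ha, hna⟩ := h.moves
    rw [ht.autInduced] at ha hna
    intro hm
    obtain ⟨k, rfl⟩ := ha
    exact hna (by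
      show α * t ^ k * α⁻¹ ∈ Subgroup.zpowers t
      rw [← conj_zpow]
      exact Subgroup.zpow_mem _ hm k)
  obtain ⟨hm1, hm2⟩ := pair_moves ht.syl ht.mem h.mem htr hso ht.ne_one hnm
  have hfix : ∀ z : E, (z : Ω) ∈ fixPart S E α ↔ t z = z ∧ (α * t * α⁻¹) z = z := by
    intro z
    have e : (α * t * α⁻¹) z = z ↔ t (α⁻¹ z) = α⁻¹ z :=
      ⟨fun he => α.injective (he.trans (α.apply_symm_apply z).symm),
        fun he => (congrArg α he).trans (α.apply_symm_apply z)⟩
    rw [e, ht.fix, ht.fix]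
    constructor
    · rintro ⟨h1, w, hw, hwz⟩
      refine ⟨h1, ?_⟩
      rw [← show α w = z from Subtype.ext hwz, show α⁻¹ (α w) = w from α.symm_apply_apply w]
      exact hw
    · rintro ⟨h1, h2⟩
      exact ⟨h1, α⁻¹ z, h2, congrArg Subtype.val (α.apply_symm_apply z)⟩
  refine ⟨sE, t, rfl, ht, hnm, fun hc => hm1 ((ht.fix _).2 hc), hm2, hfix, fun z hz => ?_, fun k hk => ?_⟩
  · obtain ⟨c, k, hzc, hc1, hc2⟩ := (transv_decomp htr (htr.conj α) hso
      (by rw [← hso]; exact orderOf_injective α.toMonoidHom α.injective sE) hm1 hm2 ⟨z, h.mid.center_le hz⟩).2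
      ((ht.fix _).2 hz)
    refine ⟨c, (hfix c).2 ⟨hc1, hc2⟩, k, ?_⟩
    exact (congrArg Subtype.val hzc).trans (congrArg (fun w => (c : Ω) * w) (SubgroupClass.coe_zpow sE k))
  · by_contra hne
    have h2 := ((hfix (sE ^ k)).1 (by rw [SubgroupClass.coe_zpow]; exact hk)).2
    obtain ⟨l, hl⟩ := mem_zpowers_of_prime_order hd.order_s (Subgroup.zpow_mem _ (Subgroup.mem_zpowers s) k) hne
      (Subgroup.mem_zpowers s)
    refine hm2 ?_
    have e : sE = (sE ^ k) ^ l := Subtype.ext (by rw [SubgroupClass.coe_zpow, SubgroupClass.coe_zpow]; exact hl.symm)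
    rw [e, map_zpow, h2]

include hd in
theorem shift_inv (hS : IsPGroup p S) (hF : F.IsSaturated p) {E : Subgroup Ω} {α : MulAut E} (h : IsShift F p E α) :
    IsShift F p E α⁻¹ := by
  obtain ⟨sE, t, hf⟩ := shift_facts hd hS hF h
  haveI := finite_of_le (S := S) h.mid.le_S
  letI : CommGroup E := { (inferInstance : Group E) with
    mul_comm := fun e f => Subtype.ext (mid_comm hd h.mid e.2 f.2) }
  refine ⟨h.mid, Subgroup.inv_mem _ h.mem, t, by rw [hf.act.autInduced]; exact Subgroup.mem_zpowers t, fun hm => ?_⟩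
  rw [hf.act.autInduced, inv_inv] at hm
  have htr : IsTransv t sE := ⟨(hf.act.fix _).2 (by rw [hf.sE_eq]; exact hd.s_mem), hf.act.transv⟩
  have htp : t ^ p = 1 := htr.pow_eq_one (Subtype.ext (by
    rw [SubmonoidClass.coe_pow, hf.sE_eq, s_pow hd]; rfl))
  have hne : α⁻¹ * t * α ≠ 1 := fun h1 => hf.act.ne_one (by
    rw [show t = α * (α⁻¹ * t * α) * α⁻¹ by group, h1, mul_one, mul_inv_cancel])
  obtain ⟨k, hk⟩ := mem_zpowers_of_prime_order (orderOf_eq_prime htp hf.act.ne_one) hm hne (Subgroup.mem_zpowers t)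
  refine hf.not_mem ⟨k, ?_⟩
  have hk' : (α⁻¹ * t * α) ^ k = t := hk
  show t ^ k = α * t * α⁻¹
  conv_rhs => rw [← hk', show α⁻¹ * t * α = α⁻¹ * t * α⁻¹⁻¹ by rw [inv_inv], conj_zpow]
  group

include hd in
/-- An automorphism normalizing `Aut_S(E)` extends to `S`. -/
theorem mid_extend (hS : IsPGroup p S) (hF : F.IsSaturated p) {E : Subgroup Ω} (hE : MidSubgroup S p E)
    {γ : MulAut E} (hγ : γ ∈ F.autGroup E)
    (hn : ∀ a ∈ autInducedBy S E, γ * a * γ⁻¹ ∈ autInducedBy S E) :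
    ∃ β ∈ F.autGroup S, ∀ r : E, ((β ⟨r, hE.le_S r.2⟩ : S) : Ω) = (γ r : E) := by
  obtain ⟨ψ, hψ, hψe⟩ := (fullyNormalized_receptive hS hF
    (fullyNormalized_of_normal (F := F) hE.le_S (mid_normal hd hE))).2 E (equivHom γ)
    ((equivHom_autGroup F hE.le_S).1 hγ) (equivHom_range γ)
  have hSN : S ≤ extender S E (equivHom γ) := by
    intro g hg
    obtain ⟨a, ha, hae⟩ := exists_conjAut (P := E) hg (mid_normal hd hE hg)
    obtain ⟨g', hg', hge⟩ := (mem_autInducedBy_iff _).1 (hn a ha)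
    refine Subgroup.subset_closure ⟨hg, mid_normal hd hE hg, g', hg', fun x hx => ?_⟩
    have e := hge (γ x)
    rw [MulAut.mul_apply, MulAut.mul_apply, show γ⁻¹ (γ x) = x from γ.symm_apply_apply x,
      show a x = ⟨g * x * g⁻¹, hx⟩ from Subtype.ext (hae x)] at e
    exact e
  have hψS := restrict_mem F hψ hSN
  obtain ⟨β, hβ, hβe⟩ := exists_autGroup_of_range F hψS (Subgroup.eq_of_le_of_card_ge
    (by rintro _ ⟨u, rfl⟩; exact hom_apply_mem F hψS u) (isConj_card ⟨_, hψS, rfl⟩).le)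
  exact ⟨β, hβ, fun r => (hβe _).trans (hψe r r.2 _)⟩

include hd in
theorem essential_mid (hS : IsPGroup p S) (hF : F.IsSaturated p) {P : Subgroup Ω} (hP : F.IsEssential p P) :
    MidSubgroup S p P := by
  have hlt := essential_lt hS hF hP
  have hPS : P ≤ S := hlt.le
  haveI := finite_of_le (S := S) hPS
  have hZP : centerOf S ≤ P := fun z hz =>
    mem_of_centralizes hP.1 hz.1 fun q hq => centerOf_comm hz (hPS hq)
  have hne : centerOf S ≠ P := by
    rintro rfl
    exact hlt.ne (le_antisymm hPS fun g hg => mem_of_centralizes hP.1 hg fun q hq => (centerOf_comm hq hg).symm)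
  haveI := finite_centerOf (S := S)
  have d1 := Subgroup.card_dvd_of_le hZP
  have d2 := Subgroup.card_dvd_of_le hPS
  rw [hd.card_eq] at d2
  obtain ⟨m, hm⟩ := d1
  rw [hm, mul_comm (p ^ 2)] at d2
  obtain ⟨i, hi, rfl⟩ := (Nat.dvd_prime_pow hp.out).1 (Nat.dvd_of_mul_dvd_mul_left Nat.card_pos d2)
  refine ⟨hPS, hZP, ?_⟩
  interval_cases i
  · exact absurd (Subgroup.eq_of_le_of_card_ge hZP (by rw [hm, pow_zero, mul_one])) hne
  · rw [hm, pow_one, mul_comm]
  · exact absurd (Subgroup.eq_of_le_of_card_ge hPS (by rw [hd.card_eq, hm, mul_comm])) hlt.ne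

include hd in
/-- Dichotomy for automorphisms of essential subgroups. -/
theorem essential_cases (hS : IsPGroup p S) (hF : F.IsSaturated p) {P : Subgroup Ω} (hP : F.IsEssential p P)
    {α : MulAut P} (hα : α ∈ F.autGroup P) :
    IsShift F p P α ∨ ∃ β ∈ F.autGroup S, ∀ r : P, ((β ⟨r, hP.1.1 r.2⟩ : S) : Ω) = (α r : P) := by
  by_cases h : ∀ a ∈ autInducedBy S P, α * a * α⁻¹ ∈ autInducedBy S P
  · exact Or.inr (mid_extend hd hS hF (essential_mid hd hS hF hP) hα h)
  · simp only [not_forall, exists_prop] at h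
    exact Or.inl ⟨essential_mid hd hS hF hP, hα, h⟩

include hd in
/-- An essential subgroup has a shift. -/
theorem exists_shift_of_essential (hS : IsPGroup p S) (hF : F.IsSaturated p) {P : Subgroup Ω}
    (hP : F.IsEssential p P) : ∃ α, IsShift F p P α := by
  by_contra hno
  simp only [not_exists] at hno
  refine extendable_ne_of_essential hS hF hP (le_antisymm (extendableGroup_le F P) fun α hα => ?_)
  obtain ⟨β, hβ, hβe⟩ := (essential_cases hd hS hF hP hα).resolve_left (hno α)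
  exact Subgroup.subset_closure ⟨S, essential_lt hS hF hP, _, (mem_autGroup_iff F le_rfl β).1 hβ, fun x => hβe x⟩

/-- `p'`-action of `Aut_F(S)` on the centre. -/
theorem center_fix_of_pow (hS : IsPGroup p S) (hF : F.IsSaturated p) {γ : MulAut S} (hγ : γ ∈ F.autGroup S) {z : S}
    (hz : (z : Ω) ∈ centerOf S) (h : (γ ^ p) z = z) : γ z = z := by
  obtain ⟨R, hR⟩ := (fullyNormalized_imp hS hF (fullyNormalized_top F)).2.2
  rw [← inn_eq_autInducedBy_self] at hR
  have hn := R.not_dvd_index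
  rw [hR] at hn
  haveI := innSubgroupOfNormal S (F.autGroup S)
  set n := ((Inn S).subgroupOf (F.autGroup S)).index
  have hfixn : (γ ^ n) z = z := by
    have hm := Subgroup.pow_index_mem ((Inn S).subgroupOf (F.autGroup S)) (⟨γ, hγ⟩ : F.autGroup S)
    rw [Subgroup.mem_subgroupOf, SubmonoidClass.coe_pow] at hm
    have hm' : γ ^ n ∈ autInducedBy S S := (inn_eq_autInducedBy_self S).le hm
    obtain ⟨g, hg, hge⟩ := (mem_autInducedBy_iff _).1 hm'
    exact Subtype.ext ((hge z).trans (by rw [centerOf_comm hz hg, mul_inv_cancel_right]))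
  obtain ⟨a, b, hab⟩ := (Nat.isCoprime_iff_coprime.2 ((Nat.Prime.coprime_iff_not_dvd hp.out).2 hn) :
    IsCoprime (p : ℤ) (n : ℤ))
  let K : Subgroup (MulAut S) :=
    { carrier := {g | g z = z}
      one_mem' := rfl
      mul_mem' := fun {a b} (ha : a z = z) (hb : b z = z) => by show a (b z) = z; rw [hb, ha]
      inv_mem' := fun {a} (ha : a z = z) => (MulEquiv.symm_apply_eq a).2 ha.symm }
  have : γ ^ (a * p + b * n) ∈ K := by
    rw [zpow_add, mul_comm a, mul_comm b, zpow_mul, zpow_mul, zpow_natCast, zpow_natCast]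
    exact K.mul_mem (K.zpow_mem (show γ ^ p ∈ K from h) a) (K.zpow_mem (show γ ^ n ∈ K from hfixn) b)
  rw [hab, zpow_one] at this
  exact this

include hd in
/-- Automorphisms inverting `s` and trivial on `Z/⟨s⟩` agree on `Z`. -/
theorem inverting_agree (hS : IsPGroup p S) (hF : F.IsSaturated p) {σ σ' : MulAut S} (hσ : σ ∈ F.autGroup S)
    (hσ' : σ' ∈ F.autGroup S) (h1 : σ ⟨s, hd.s_mem.1⟩ = (⟨s, hd.s_mem.1⟩ : S)⁻¹)
    (h1' : σ' ⟨s, hd.s_mem.1⟩ = (⟨s, hd.s_mem.1⟩ : S)⁻¹)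
    (h2 : ∀ z : S, (z : Ω) ∈ centerOf S → z⁻¹ * σ z ∈ Subgroup.zpowers (⟨s, hd.s_mem.1⟩ : S))
    (h2' : ∀ z : S, (z : Ω) ∈ centerOf S → z⁻¹ * σ' z ∈ Subgroup.zpowers (⟨s, hd.s_mem.1⟩ : S))
    (z : S) (hz : (z : Ω) ∈ centerOf S) : σ z = σ' z := by
  set sS : S := ⟨s, hd.s_mem.1⟩
  have key : ∀ (a b : MulAut S), a ∈ F.autGroup S → b ∈ F.autGroup S → a sS = sS⁻¹ → b sS = sS⁻¹ →
      (∀ z : S, (z : Ω) ∈ centerOf S → z⁻¹ * a z ∈ Subgroup.zpowers sS) →
      (∀ z : S, (z : Ω) ∈ centerOf S → z⁻¹ * b z ∈ Subgroup.zpowers sS) →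
      ∀ z : S, (z : Ω) ∈ centerOf S → (a * b) z = z := by
    intro a b ha hb a1 b1 a2 b2 z hz
    refine center_fix_of_pow hS hF (Subgroup.mul_mem _ ha hb) hz ?_
    have hs : (a * b) sS = sS := by rw [MulAut.mul_apply, b1, map_inv, a1, inv_inv]
    obtain ⟨k, hk⟩ := b2 z hz
    obtain ⟨l, hl⟩ := a2 z hz
    have hb' : b z = z * sS ^ k := by rw [show sS ^ k = z⁻¹ * b z from hk, mul_inv_cancel_left]
    have ha' : a z = z * sS ^ l := by rw [show sS ^ l = z⁻¹ * a z from hl, mul_inv_cancel_left]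
    have hzab : (a * b) z = z * sS ^ (l - k) := by
      rw [MulAut.mul_apply, hb', map_mul, map_zpow, a1, ha', inv_zpow', mul_assoc, ← zpow_add, sub_eq_add_neg]
    have hiter : ∀ i : ℕ, ((a * b) ^ i) z = z * sS ^ ((l - k) * i) := by
      intro i
      induction i with
      | zero => simp
      | succ i ih =>
        rw [pow_succ', MulAut.mul_apply, ih, map_mul, map_zpow, hs, hzab, mul_assoc, ← zpow_add]
        push_cast; ring_nf
    rw [hiter, mul_comm (l - k), zpow_mul, zpow_natCast, show sS ^ p = 1 from Subtype.ext (by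
      rw [SubmonoidClass.coe_pow]; exact s_pow hd), one_zpow, mul_one]
  obtain ⟨w, rfl⟩ := σ.surjective z
  have hw : (w : Ω) ∈ centerOf S := by
    have := center_apply_mem F (Subgroup.inv_mem _ hσ) hz
    rwa [show σ⁻¹ (σ w) = w from σ.symm_apply_apply w] at this
  have e1 := key σ σ hσ hσ h1 h1 h2 h2 w hw
  have e2 := key σ' σ hσ' hσ h1' h1 h2' h2 w hw
  rw [MulAut.mul_apply] at e1 e2
  rw [e1, e2]

include hd in
/-- For odd `p` a shift provides an inverting automorphism of `S` whose fixed points in `Z` are the fixed part. -/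
theorem exists_inverting (hS : IsPGroup p S) (hF : F.IsSaturated p) (hp2 : p ≠ 2) {E : Subgroup Ω} {α : MulAut E}
    (h : IsShift F p E α) :
    ∃ σ ∈ F.autGroup S, σ ⟨s, hd.s_mem.1⟩ = (⟨s, hd.s_mem.1⟩ : S)⁻¹ ∧
      (∀ z : S, (z : Ω) ∈ centerOf S → z⁻¹ * σ z ∈ Subgroup.zpowers (⟨s, hd.s_mem.1⟩ : S)) ∧
      ∀ z : S, (z : Ω) ∈ centerOf S → ((z : Ω) ∈ fixPart S E α ↔ σ z = z) := by
  obtain ⟨sE, t, hf⟩ := shift_facts hd hS hF h
  haveI := finite_of_le (S := S) h.mid.le_S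
  letI : CommGroup E := { (inferInstance : Group E) with
    mul_comm := fun e f => Subtype.ext (mid_comm hd h.mid e.2 f.2) }
  have hsp : sE ^ p = 1 := Subtype.ext (by rw [SubmonoidClass.coe_pow, hf.sE_eq]; exact s_pow hd)
  have hts : t sE = sE := (hf.act.fix _).2 (by rw [hf.sE_eq]; exact hd.s_mem)
  have htr : IsTransv t sE := ⟨hts, hf.act.transv⟩
  obtain ⟨τ, hτ, hτs, hτt, -⟩ := exists_torus (A := E) (p := p) t (α * t * α⁻¹) (z := sE) (y := α sE) hsp
    (by rw [← map_pow, hsp, map_one]) hts (htr.conj α).1 hf.act.transv (htr.conj α).2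
    (fun e => hf.move ((hf.act.fix _).1 e)) hf.move'
  have hτF : τ ∈ F.autGroup E := (Subgroup.closure_le _).2 (by
    rintro a (rfl | rfl)
    · exact hf.act.mem
    · exact Subgroup.mul_mem _ (Subgroup.mul_mem _ h.mem hf.act.mem) (Subgroup.inv_mem _ h.mem)) hτ
  obtain ⟨σ, hσ, hσe⟩ := mid_extend hd hS hF h.mid hτF (fun a ha => by
    rw [hf.act.autInduced] at ha ⊢
    obtain ⟨k, rfl⟩ := ha
    show τ * t ^ k * τ⁻¹ ∈ Subgroup.zpowers t
    rw [← conj_zpow, hτt, mul_inv_cancel_right]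
    exact Subgroup.zpow_mem _ (Subgroup.mem_zpowers t) k)
  have hσs : σ ⟨s, hd.s_mem.1⟩ = (⟨s, hd.s_mem.1⟩ : S)⁻¹ := Subtype.ext (by
    have := hσe sE
    rw [hτs] at this
    rw [show (⟨s, hd.s_mem.1⟩ : S) = ⟨sE, h.mid.le_S sE.2⟩ from Subtype.ext hf.sE_eq.symm]
    exact this)
  have hσc : ∀ z : S, (z : Ω) ∈ fixPart S E α → σ z = z := by
    intro z hz
    have hzE : (z : Ω) ∈ E := h.mid.center_le hz.1
    have hfx := (hf.fix_iff ⟨z, hzE⟩).1 hz
    have hτz : τ ⟨z, hzE⟩ = ⟨z, hzE⟩ := by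
      let w : E := ⟨z, hzE⟩
      let K : Subgroup (MulAut E) :=
        { carrier := {g | g w = w}
          one_mem' := rfl
          mul_mem' := fun {a b} (ha : a w = w) (hb : b w = w) => by show a (b w) = w; rw [hb, ha]
          inv_mem' := fun {a} (ha : a w = w) => (MulEquiv.symm_apply_eq a).2 ha.symm }
      exact (show τ ∈ K from (Subgroup.closure_le _).2 (by rintro a (rfl | rfl); exacts [hfx.1, hfx.2]) hτ)
    exact Subtype.ext ((hσe ⟨z, hzE⟩).trans (congrArg Subtype.val hτz))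
  have hsplit : ∀ z : S, (z : Ω) ∈ centerOf S → ∃ (c : S) (k : ℤ), (c : Ω) ∈ fixPart S E α ∧
      z = c * (⟨s, hd.s_mem.1⟩ : S) ^ k := by
    intro z hz
    obtain ⟨c, hc, k, hk⟩ := hf.split z hz
    exact ⟨⟨c, hc.1.1⟩, k, hc, Subtype.ext (by rw [Subgroup.coe_mul, SubgroupClass.coe_zpow]; exact hk)⟩
  refine ⟨σ, hσ, hσs, fun z hz => ?_, fun z hz => ⟨hσc z, fun hfx => ?_⟩⟩
  · obtain ⟨c, k, hc, rfl⟩ := hsplit z hz
    refine ⟨-k + -k, ?_⟩
    show (⟨s, hd.s_mem.1⟩ : S) ^ (-k + -k) = _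
    rw [map_mul, map_zpow, hσs, hσc c hc, mul_inv_rev, mul_assoc, inv_mul_cancel_left, zpow_add, inv_zpow', zpow_neg]
  · obtain ⟨c, k, hc, rfl⟩ := hsplit z hz
    rw [map_mul, map_zpow, hσs, hσc c hc, mul_right_inj, inv_zpow'] at hfx
    have h2 : s ^ (2 * k) = 1 := by
      have := congrArg Subtype.val hfx
      rw [SubgroupClass.coe_zpow, SubgroupClass.coe_zpow] at this
      rw [two_mul, zpow_add]
      calc s ^ k * s ^ k = s ^ k * s ^ (-k) := by rw [this]
        _ = 1 := by rw [← zpow_add, add_neg_cancel, zpow_zero]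
    have hpd : (p : ℤ) ∣ 2 * k := by rw [← hd.order_s]; exact orderOf_dvd_iff_zpow_eq_one.2 h2
    have hk0 : s ^ k = 1 := by
      rcases Int.Prime.dvd_mul' hp.out hpd with h' | h'
      · exact absurd ((Nat.prime_dvd_prime_iff_eq hp.out Nat.prime_two).1 (Int.natCast_dvd_natCast.1 h')) hp2
      · exact orderOf_dvd_iff_zpow_eq_one.1 (by rwa [hd.order_s])
    rw [Subgroup.coe_mul, SubgroupClass.coe_zpow, hk0, mul_one]
    exact hc

end Cfsg.Agent.FusionSys
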