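import Cfsg.Agent.Lib.Fusion.SmallCentreOdd
import Cfsg.Agent.Lib.TwoGroups.Lifts

/-!
# `|S : Z(S)| = 4`, `O_2(F) = 1`, hyperfocal subgroup `S`: `S` is dihedral of order 8
-/

set_option autoImplicit false

namespace Cfsg.Agent.FusionSys

open Cfsg Cfsg.FusionSystem
open scoped commutatorElement

variable {Ω : Type*} [Group Ω] {S : Subgroup Ω} [Finite S] {p : ℕ} [hp : Fact p.Prime] {F : FusionSystem S}

theorem isShift_map {s : Ω} (hd : SmallCentre S p s) {E : Subgroup Ω} {α : MulAut E} (h : IsShift F p E α)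
    {β : MulAut S} (hβ : β ∈ F.autGroup S) :
    ∃ (E' : Subgroup Ω) (α' : MulAut E'), IsShift F p E' α' ∧
      (∀ z : S, (z : Ω) ∈ fixPart S E α ↔ ((β z : S) : Ω) ∈ fixPart S E' α') ∧
      ∀ (r : E) (r' : E'), (r' : Ω) = β ⟨r, h.mid.le_S r.2⟩ →
        ((α' r' : E') : Ω) = β ⟨(α r : E), h.mid.le_S (α r).2⟩ := by
  set φ : E →* Ω := (S.subtype.comp β.toMonoidHom).comp (Subgroup.inclusion h.mid.le_S)
  have hφ : φ ∈ F.Hom E := restrict_mem F ((mem_autGroup_iff F le_rfl β).1 hβ) h.mid.le_S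
  set e : E ≃* φ.range := mapEquiv F hφ rfl
  have he : ∀ r : E, ((e r : φ.range) : Ω) = β ⟨r, h.mid.le_S r.2⟩ := fun r => rfl
  have hmid : MidSubgroup S p φ.range := by
    refine ⟨fun y ⟨r, hr⟩ => hr ▸ hom_apply_mem F hφ r, fun z hz => ?_, ?_⟩
    · have hw := center_apply_mem F (Subgroup.inv_mem _ hβ) (z := (⟨z, hz.1⟩ : S)) hz
      refine ⟨⟨_, h.mid.center_le hw⟩, ?_⟩
      exact congrArg Subtype.val (β.apply_symm_apply ⟨z, hz.1⟩)
    · rw [← isConj_card (F := F) ⟨φ, hφ, rfl⟩]; exact h.mid.card_eq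
  have hTin : ∀ a ∈ autInducedBy S E, MulAut.congr e a ∈ autInducedBy S φ.range := by
    intro a ha
    obtain ⟨g, hg, hge⟩ := (mem_autInducedBy_iff a).1 ha
    refine (mem_autInducedBy_iff _).2 ⟨β ⟨g, hg⟩, (β ⟨g, hg⟩).2, fun y => ?_⟩
    obtain ⟨r, rfl⟩ := e.surjective y
    rw [congr_apply, e.symm_apply_apply, he, he, ← Subgroup.coe_inv, ← Subgroup.coe_mul, ← Subgroup.coe_mul, ← map_inv,
      ← map_mul, ← map_mul]
    exact congrArg Subtype.val (congrArg β (Subtype.ext (hge r)))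
  have hTout : ∀ a : MulAut E, MulAut.congr e a ∈ autInducedBy S φ.range → a ∈ autInducedBy S E := by
    intro a ha
    obtain ⟨g, hg, hge⟩ := (mem_autInducedBy_iff _).1 ha
    refine (mem_autInducedBy_iff _).2 ⟨β⁻¹ ⟨g, hg⟩, (β⁻¹ ⟨g, hg⟩).2, fun r => ?_⟩
    have h1 := hge (e r)
    rw [congr_apply, e.symm_apply_apply, he, he] at h1
    have h2 : β ⟨(a r : E), h.mid.le_S (a r).2⟩ = β (β⁻¹ ⟨g, hg⟩ * ⟨r, h.mid.le_S r.2⟩ * (β⁻¹ ⟨g, hg⟩)⁻¹) := by
      rw [map_mul, map_mul, map_inv β, show β (β⁻¹ ⟨g, hg⟩) = ⟨g, hg⟩ from β.apply_symm_apply _]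
      exact Subtype.ext h1
    exact congrArg Subtype.val (β.injective h2)
  refine ⟨φ.range, MulAut.congr e α, ⟨hmid, congr_mem_autGroup F e (equivHom_mapEquiv F hφ rfl)
    (equivHom_mapEquiv_symm F hφ rfl) h.mem, ?_⟩, fun z => ?_, fun r r' hr => ?_⟩
  · obtain ⟨a, ha, hna⟩ := h.moves
    refine ⟨MulAut.congr e a, hTin a ha, fun hm => hna (hTout _ ?_)⟩
    rw [map_mul, map_mul, map_inv]
    exact hm
  · constructor
    · rintro ⟨hz, w, hw, hwz⟩
      refine ⟨center_apply_mem F hβ hz, e w, center_apply_mem F hβ (z := ⟨w, h.mid.le_S w.2⟩) hw, ?_⟩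
      show ((MulAut.congr e α (e w) : φ.range) : Ω) = _
      rw [congr_apply, e.symm_apply_apply, he]
      exact congrArg Subtype.val (congrArg β (Subtype.ext hwz))
    · rintro ⟨hz, w, hw, hwz⟩
      obtain ⟨r, rfl⟩ := e.surjective w
      have hzc : (z : Ω) ∈ centerOf S := by
        have := center_apply_mem F (Subgroup.inv_mem _ hβ) hz
        rwa [show β⁻¹ (β z) = z from β.symm_apply_apply z] at this
      have hrc : ((⟨r, h.mid.le_S r.2⟩ : S) : Ω) ∈ centerOf S := by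
        have := center_apply_mem F (Subgroup.inv_mem _ hβ) (z := β ⟨r, h.mid.le_S r.2⟩) hw
        rwa [show β⁻¹ (β ⟨r, h.mid.le_S r.2⟩) = _ from β.symm_apply_apply _] at this
      refine ⟨hzc, r, hrc, ?_⟩
      have h1 : ((MulAut.congr e α (e r) : φ.range) : Ω) = β z := hwz
      rw [congr_apply, e.symm_apply_apply, he] at h1
      exact congrArg Subtype.val (β.injective (Subtype.ext h1) : (⟨(α r : E), h.mid.le_S (α r).2⟩ : S) = z)
  · rw [show r' = e r from Subtype.ext hr, congr_apply, e.symm_apply_apply, he]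

variable [Fact (Nat.Prime 2)] {s : Ω} (hd : SmallCentre S 2 s)

include hd in
theorem s_fixed (β : MulAut S) : β ⟨s, hd.s_mem.1⟩ = (⟨s, hd.s_mem.1⟩ : S) := by
  obtain ⟨k, hk⟩ := s_apply_mem hd β
  have hk' : s ^ k = ((β ⟨s, hd.s_mem.1⟩ : S) : Ω) := hk
  rcases Int.even_or_odd k with ⟨l, rfl⟩ | ⟨l, rfl⟩
  · exfalso
    rw [← two_mul, zpow_mul, zpow_two, ← sq, s_pow hd, one_zpow] at hk'
    exact s_ne_one hd (congrArg Subtype.val (β.injective ((Subtype.ext hk'.symm : β _ = 1).trans (map_one β).symm)))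
  · rw [zpow_add, zpow_mul, zpow_two, ← sq, s_pow hd, one_zpow, zpow_one, one_mul] at hk'
    exact Subtype.ext hk'.symm

omit [Finite S] hp in
/-- The direction of a nontrivial transvection of order two is determined. -/
theorem direction_unique {A : Type*} [CommGroup A] {x : MulAut A} {c c' : A} (hx : x ≠ 1)
    (h : ∀ r, r⁻¹ * x r ∈ Subgroup.zpowers c) (h' : ∀ r, r⁻¹ * x r ∈ Subgroup.zpowers c') (hc : c ^ 2 = 1)
    (hc' : c' ^ 2 = 1) : c = c' := by
  obtain ⟨r, hr⟩ : ∃ r, x r ≠ r := by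
    by_contra hno
    simp only [not_exists, not_not] at hno
    exact hx (MulEquiv.ext hno)
  have hv : r⁻¹ * x r ≠ 1 := fun e => hr (inv_mul_eq_one.1 e).symm
  have key : ∀ {d : A}, d ^ 2 = 1 → r⁻¹ * x r ∈ Subgroup.zpowers d → r⁻¹ * x r = d := by
    intro d hd ⟨k, hk⟩
    rw [← hk] at hv ⊢
    show d ^ k = d
    rcases Int.even_or_odd k with ⟨l, rfl⟩ | ⟨l, rfl⟩
    · refine absurd ?_ hv
      show d ^ (l + l) = 1
      rw [← two_mul, zpow_mul, show d ^ (2 : ℤ) = 1 by rw [zpow_two, ← sq]; exact hd, one_zpow]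
    · rw [zpow_add, zpow_mul, show d ^ (2 : ℤ) = 1 by rw [zpow_two, ← sq]; exact hd, one_zpow, zpow_one, one_mul]
  rw [← key hc (h r), ← key hc' (h' r)]

include hd in
/-- Two shifts on the same subgroup. -/
theorem shift_same (hS : IsPGroup 2 S) (hF : F.IsSaturated 2) {E : Subgroup Ω} {α α' : MulAut E}
    (h : IsShift F 2 E α) (h' : IsShift F 2 E α') (sE : E) (hsE : (sE : Ω) = s) :
    fixPart S E α ≤ fixPart S E α' ∧ (α' sE = α sE ∨ α' sE = sE * α sE) := by
  obtain ⟨sE1, t, hf⟩ := shift_facts hd hS hF h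
  obtain ⟨sE2, t2, hf'⟩ := shift_facts hd hS hF h'
  obtain rfl : sE = sE1 := Subtype.ext (hsE.trans hf.sE_eq.symm)
  obtain rfl : sE = sE2 := Subtype.ext (hsE.trans hf'.sE_eq.symm)
  haveI := finite_of_le (S := S) h.mid.le_S
  letI : CommGroup E := { (inferInstance : Group E) with
    mul_comm := fun e f => Subtype.ext (mid_comm hd h.mid e.2 f.2) }
  have hso : orderOf sE = 2 := by rw [← Subgroup.orderOf_coe, hsE]; exact hd.order_s
  have hs2 : sE ^ 2 = 1 := hso ▸ pow_orderOf_eq_one sE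
  have htr : IsTransv t sE := ⟨(hf.act.fix _).2 (by rw [hsE]; exact hd.s_mem), hf.act.transv⟩
  have htt : t2 = t := by
    obtain ⟨k, hk⟩ := (show t2 ∈ Subgroup.zpowers t by
      rw [← hf.act.autInduced, hf'.act.autInduced]; exact Subgroup.mem_zpowers t2)
    have hk' : t ^ k = t2 := hk
    rcases Int.even_or_odd k with ⟨l, rfl⟩ | ⟨l, rfl⟩
    · refine absurd ?_ hf'.act.ne_one
      rw [← hk', ← two_mul, zpow_mul, show t ^ (2 : ℤ) = 1 by rw [zpow_two, ← sq]; exact htr.pow_eq_one hs2, one_zpow]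
    · rw [← hk', zpow_add, zpow_mul, show t ^ (2 : ℤ) = 1 by rw [zpow_two, ← sq]; exact htr.pow_eq_one hs2, one_zpow, zpow_one, one_mul]
  subst htt
  obtain ⟨hall, hts, -⟩ := three_conjugates hf.act.syl rfl hf.act.mem h.mem htr hso hf.act.ne_one hf.not_mem
  have hcases := hall α' h'.mem
  rcases hcases with e | e | e
  · refine absurd ?_ hf'.not_mem
    rw [e]; exact Subgroup.mem_zpowers _
  · refine ⟨fun z hz => ?_, Or.inl ?_⟩
    · obtain ⟨h1, h2⟩ := (hf.fix_iff ⟨z, h.mid.center_le hz.1⟩).1 hz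
      exact (hf'.fix_iff ⟨z, h.mid.center_le hz.1⟩).2 ⟨h1, by rw [e]; exact h2⟩
    · exact direction_unique (fun h1 => hf.act.ne_one (conj_eq_one_iff.1 h1)) (e ▸ (htr.conj α').2) (htr.conj α).2
        (by rw [← map_pow, hs2, map_one]) (by rw [← map_pow, hs2, map_one])
  · refine ⟨fun z hz => ?_, Or.inr ?_⟩
    · obtain ⟨h1, h2⟩ := (hf.fix_iff ⟨z, h.mid.center_le hz.1⟩).1 hz
      refine (hf'.fix_iff ⟨z, h.mid.center_le hz.1⟩).2 ⟨h1, ?_⟩
      rw [e, MulAut.mul_apply, MulAut.mul_apply, show (α * t2 * α⁻¹)⁻¹ ⟨z, h.mid.center_le hz.1⟩ = _ from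
        (MulEquiv.symm_apply_eq (α * t2 * α⁻¹)).2 h2.symm, h1, h2]
    · rw [← hts]
      exact direction_unique (fun h1 => hf.act.ne_one (conj_eq_one_iff.1 h1)) (e ▸ (htr.conj α').2)
        (htr.conj (α * t2 * α⁻¹)).2 (by rw [← map_pow, hs2, map_one]) (by rw [← map_pow, hs2, map_one])

include hd in
/-- A shift is a correction fixing the fixed part times an extendable automorphism. -/
theorem shift_factor (hS : IsPGroup 2 S) (hF : F.IsSaturated 2) {E : Subgroup Ω} {α : MulAut E}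
    (h : IsShift F 2 E α) (sE : E) (hsE : (sE : Ω) = s) :
    ∃ (u γ : MulAut E), ∃ β ∈ F.autGroup S, α = u * γ ∧
      (∀ r : E, ((β ⟨r, h.mid.le_S r.2⟩ : S) : Ω) = (γ r : E)) ∧
      (∀ r : E, (r : Ω) ∈ fixPart S E α → u r = r) ∧
      ∀ r : E, r⁻¹ * u r ∈ Subgroup.closure ({sE, α sE} : Set E) := by
  obtain ⟨sE1, t, hf⟩ := shift_facts hd hS hF h
  obtain rfl : sE = sE1 := Subtype.ext (hsE.trans hf.sE_eq.symm)
  haveI := finite_of_le (S := S) h.mid.le_S
  letI : CommGroup E := { (inferInstance : Group E) with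
    mul_comm := fun e f => Subtype.ext (mid_comm hd h.mid e.2 f.2) }
  have hso : orderOf sE = 2 := by rw [← Subgroup.orderOf_coe, hsE]; exact hd.order_s
  have htr : IsTransv t sE := ⟨(hf.act.fix _).2 (by rw [hsE]; exact hd.s_mem), hf.act.transv⟩
  obtain ⟨-, hts, h3⟩ := three_conjugates hf.act.syl rfl hf.act.mem h.mem htr hso hf.act.ne_one hf.not_mem
  set t' := α * t * α⁻¹ with ht'
  set t3 := t' * t * t'⁻¹ with ht3
  have ht'F : t' ∈ F.autGroup E := Subgroup.mul_mem _ (Subgroup.mul_mem _ h.mem hf.act.mem) (Subgroup.inv_mem _ h.mem)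
  have ht3F : t3 ∈ F.autGroup E := Subgroup.mul_mem _ (Subgroup.mul_mem _ ht'F hf.act.mem) (Subgroup.inv_mem _ ht'F)
  obtain ⟨β, hβ, hβe⟩ := mid_extend hd hS hF h.mid (Subgroup.mul_mem _ ht3F h.mem) (fun a ha => by
    rw [hf.act.autInduced] at ha ⊢
    obtain ⟨k, rfl⟩ := ha
    show t3 * α * t ^ k * (t3 * α)⁻¹ ∈ Subgroup.zpowers t
    rw [← conj_zpow, show t3 * α * t * (t3 * α)⁻¹ = t3 * t' * t3⁻¹ by rw [ht']; group, h3]
    exact Subgroup.zpow_mem _ (Subgroup.mem_zpowers t) k)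
  refine ⟨t3⁻¹, t3 * α, β, hβ, (inv_mul_cancel_left t3 α).symm, hβe, fun r hr => ?_, ?_⟩
  · obtain ⟨h1, h2⟩ := (hf.fix_iff r).1 hr
    refine (MulEquiv.symm_apply_eq t3).2 ?_
    rw [ht3, MulAut.mul_apply, MulAut.mul_apply, show t'⁻¹ r = r from (MulEquiv.symm_apply_eq t').2 h2.symm, h1]
    exact h2.symm
  · set M := Subgroup.closure ({sE, α sE} : Set E) with hM
    have hsM : sE ∈ M := Subgroup.subset_closure (by simp)
    have hyM : α sE ∈ M := Subgroup.subset_closure (by simp)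
    have hin : t3⁻¹ ∈ Subgroup.closure ({t, t'} : Set (MulAut E)) := by
      have h1 : t ∈ Subgroup.closure ({t, t'} : Set (MulAut E)) := Subgroup.subset_closure (by simp)
      have h2 : t' ∈ Subgroup.closure ({t, t'} : Set (MulAut E)) := Subgroup.subset_closure (by simp)
      exact Subgroup.inv_mem _ (Subgroup.mul_mem _ (Subgroup.mul_mem _ h2 h1) (Subgroup.inv_mem _ h2))
    suffices key : ∀ g ∈ Subgroup.closure ({t, t'} : Set (MulAut E)), ∀ r, r⁻¹ * g r ∈ M from key _ hin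
    intro g hg
    induction hg using Subgroup.closure_induction with
    | mem a ha =>
      intro r
      rcases ha with rfl | rfl
      · exact (Subgroup.zpowers_le.2 hsM) (hf.act.transv r)
      · exact (Subgroup.zpowers_le.2 hyM) ((htr.conj α).2 r)
    | one => intro r; simp
    | mul a b _ _ ha hb =>
      intro r
      have := M.mul_mem (hb r) (ha (b r))
      rwa [mul_assoc, mul_inv_cancel_left] at this
    | inv a _ ha =>
      intro r
      have := M.inv_mem (ha (a⁻¹ r))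
      rwa [show a (a⁻¹ r) = r from a.apply_symm_apply r, mul_inv_rev, inv_inv] at this

end Cfsg.Agent.FusionSys
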