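import Cfsg.Agent.Lib.Fusion.SmallCentreTwo

/-!
# The dihedral group of order 8 as the only `2`-group with centre of index 4 carrying such a system
-/

set_option autoImplicit false

namespace Cfsg.Agent.FusionSys

open Cfsg Cfsg.FusionSystem
open scoped commutatorElement

variable {Ω : Type*} [Group Ω] {S : Subgroup Ω} [Finite S] [Fact (Nat.Prime 2)] {F : FusionSystem S} {s : Ω}
  (hd : SmallCentre S 2 s)

include hd in
/-- The intersection of all fixed parts is trivial. -/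
theorem eq_one_of_all_fix (hS : IsPGroup 2 S) (hF : F.IsSaturated 2) (hcore : F.core = ⊥) {z : Ω}
    (hz : z ∈ centerOf S) (hall : ∀ (E : Subgroup Ω) (α : MulAut E), IsShift F 2 E α → z ∈ fixPart S E α) : z = 1 := by
  let D : Subgroup Ω := centerOf S ⊓ ⨅ (E : Subgroup Ω) (α : MulAut E) (_ : IsShift F 2 E α), fixPart S E α
  have hD : ∀ {x : Ω}, x ∈ D ↔ x ∈ centerOf S ∧ ∀ (E : Subgroup Ω) (α : MulAut E), IsShift F 2 E α →
      x ∈ fixPart S E α := fun {x} => by simp [D, Subgroup.mem_iInf]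
  have hSinv : ∀ β ∈ F.autGroup S, ∀ y : S, (y : Ω) ∈ D → ((β y : S) : Ω) ∈ D := by
    intro β hβ y hy
    obtain ⟨hy1, hy2⟩ := hD.1 hy
    refine hD.2 ⟨center_apply_mem F hβ hy1, fun E α h => ?_⟩
    obtain ⟨E', α', h', hiff, -⟩ := isShift_map hd h (Subgroup.inv_mem _ hβ)
    refine (hiff (β y)).2 ?_
    rw [show β⁻¹ (β y) = y from β.symm_apply_apply y]
    exact hy2 E' α' h'
  have hN : F.IsNormal D := by
    refine isNormal_of_autGroup_preserve hS hF fun P hP => ?_
    rcases hP with rfl | hP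
    · exact ⟨inf_le_left.trans (centerOf_le P), hSinv⟩
    · refine ⟨inf_le_left.trans (essential_mid hd hS hF hP).center_le, fun α hα y hy => ?_⟩
      rcases essential_cases hd hS hF hP hα with h | ⟨β, hβ, hβe⟩
      · obtain ⟨u, γ, β, hβ, rfl, hβe, hufix, -⟩ := shift_factor hd hS hF h ⟨s, h.mid.center_le hd.s_mem⟩ rfl
        have hγ : ((γ y : P) : Ω) ∈ D := by rw [← hβe y]; exact hSinv β hβ _ hy
        rw [MulAut.mul_apply, hufix (γ y) ((hD.1 hγ).2 P _ h)]
        exact hγ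
      · rw [← hβe y]
        exact hSinv β hβ _ hy
  exact Subgroup.mem_bot.1 (hcore ▸ isNormal_le_core hN (hD.2 ⟨hz, hall⟩))

include hd in
/-- Maximal subgroups above the centre sharing a noncentral element coincide. -/
theorem mid_eq {E E' : Subgroup Ω} (hE : MidSubgroup S 2 E) (hE' : MidSubgroup S 2 E') {y : Ω} (hy : y ∈ E)
    (hy' : y ∈ E') (hyZ : y ∉ centerOf S) : E = E' := by
  haveI := finite_of_le (S := S) hE.le_S
  haveI := finite_of_le (S := S) hE'.le_S
  haveI := finite_centerOf (S := S)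
  set H := centerOf S ⊔ Subgroup.zpowers y
  have key : ∀ {K : Subgroup Ω}, MidSubgroup S 2 K → y ∈ K → H = K := by
    intro K hK hyK
    have hle : H ≤ K := sup_le hK.center_le (Subgroup.zpowers_le.2 hyK)
    haveI := finite_of_le (S := S) hK.le_S
    haveI := finite_of_le (S := S) (hle.trans hK.le_S)
    refine Subgroup.eq_of_le_of_card_ge hle ?_
    obtain ⟨m, hm⟩ := Subgroup.card_dvd_of_le (le_sup_left : centerOf S ≤ H)
    have h1 : Nat.card H ≠ Nat.card (centerOf S) := fun h =>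
      hyZ ((Subgroup.eq_of_le_of_card_ge (le_sup_left : centerOf S ≤ H) h.le).ge
        (Subgroup.mem_sup_right (Subgroup.mem_zpowers y)))
    rw [hK.card_eq, hm, mul_comm 2]
    refine Nat.mul_le_mul_left _ ?_
    rcases m with _ | _ | m
    · simp at hm; exact absurd hm Nat.card_pos.ne'
    · exact absurd (hm.trans (mul_one _)) h1
    · omega
  exact (key hE hy).symm.trans (key hE' hy')

include hd in
theorem dihedral_of_core_trivial_two (hS : IsPGroup 2 S) (hF : F.IsSaturated 2) (hcore : F.core = ⊥)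
    (hhyp : F.hyperfocalSubgroup 2 = S) :
    Cfsg.IsExtraspecial 2 S ∧ Nat.card S = 2 ^ 3 ∧ Nonempty (S ≃* DihedralGroup 4) := by
  classical
  obtain ⟨E1, α1, h1⟩ := exists_shift hd hS hF hcore
  obtain ⟨sE1, t1, hf1⟩ := shift_facts hd hS hF h1
  haveI := finite_centerOf (S := S)
  have hs1 : s ≠ 1 := s_ne_one hd
  have hs2 : s ^ 2 = 1 := s_pow hd
  -- the noncentral involution of a shift
  have hy : ∀ (E : Subgroup Ω) (α : MulAut E) (h : IsShift F 2 E α) (sE : E), (sE : Ω) = s →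
      ((α sE : E) : Ω) ∉ centerOf S ∧ ((α sE : E) : Ω) ^ 2 = 1 := by
    intro E α h sE hsE
    obtain ⟨sE', t, hf⟩ := shift_facts hd hS hF h
    obtain rfl : sE = sE' := Subtype.ext (hsE.trans hf.sE_eq.symm)
    refine ⟨hf.move, ?_⟩
    rw [← SubmonoidClass.coe_pow, ← map_pow, show sE ^ 2 = 1 from Subtype.ext (by
      rw [SubmonoidClass.coe_pow, hsE]; exact hs2), map_one]
    rfl
  obtain ⟨hy1Z, hy1sq⟩ := hy E1 α1 h1 sE1 hf1.sE_eq
  set y1 : Ω := ((α1 sE1 : E1) : Ω)
  have hy1S : y1 ∈ S := h1.mid.le_S (α1 sE1).2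
  by_cases hC : ∀ c ∈ fixPart S E1 α1, c = 1
  · -- order 8
    have hZeq : centerOf S = Subgroup.zpowers s := by
      refine le_antisymm (fun z hz => ?_) (Subgroup.zpowers_le.2 hd.s_mem)
      obtain ⟨c, hc, k, rfl⟩ := hf1.split z hz
      rw [hC c hc, one_mul]
      exact Subgroup.zpow_mem _ (Subgroup.mem_zpowers s) k
    have hZc : Nat.card (centerOf S) = 2 := by rw [hZeq, Nat.card_zpowers, hd.order_s]
    have hcard : Nat.card S = 2 ^ 3 := by rw [hd.card_eq, hZc, ← pow_succ]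
    have hcl : ∀ a b : S, ⁅a, b⁆ ∈ Subgroup.center S := fun a b => Subgroup.mem_center_iff.2 fun g => Subtype.ext (by
      have h : ((⁅a, b⁆ : S) : Ω) ∈ centerOf S := by rw [hZeq]; exact hd.comm_mem _ a.2 _ b.2
      exact centerOf_comm h g.2)
    have hcardc : Nat.card (Subgroup.center S) = 2 := by
      rw [← Subgroup.card_map_of_injective S.subtype_injective, map_center, hZc]
    have hext := isExtraspecial_of_card_cube hS hcard hcardc hcl
    refine ⟨hext, hcard, ?_⟩
    set y : S := ⟨y1, hy1S⟩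
    have hy2 : y * y = 1 := Subtype.ext (by rw [Subgroup.coe_mul, ← sq]; exact hy1sq)
    obtain ⟨g, hg⟩ : ∃ g : S, g * y ≠ y * g := by
      by_contra hno
      simp only [not_exists, not_not] at hno
      exact hy1Z (map_center (S := S) ▸ ⟨y, Subgroup.mem_center_iff.2 hno, rfl⟩)
    obtain ⟨a, hay, ha2⟩ : ∃ a : S, a * y ≠ y * a ∧ a * a ≠ 1 := by
      by_cases hg2 : g * g = 1
      · refine ⟨g * y, fun e => hg ?_, fun e => hg ?_⟩
        · rw [mul_assoc, hy2, mul_one, ← mul_assoc] at e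
          calc g * y = y * g * y * y := by rw [← e]
            _ = y * g * (y * y) := by group
            _ = y * g := by rw [hy2, mul_one]
        · calc g * y = (g * y * (g * y)) * (y⁻¹ * g⁻¹) := by group
            _ = y * g := by rw [e, one_mul, inv_eq_of_mul_eq_one_left hy2, inv_eq_of_mul_eq_one_left hg2]
      · exact ⟨g, hg, hg2⟩
    have hcz : ∀ c : S, c ∈ Subgroup.center S → c = 1 ∨ c = ⟨s, hd.s_mem.1⟩ := by
      intro c hc
      have h : (c : Ω) ∈ Subgroup.zpowers s := by rw [← hZeq, ← map_center]; exact ⟨c, hc, rfl⟩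
      obtain ⟨k, hk⟩ := h
      rcases Int.even_or_odd k with ⟨l, rfl⟩ | ⟨l, rfl⟩
      · left; refine Subtype.ext ?_
        rw [← hk]
        show s ^ (l + l) = 1
        rw [← two_mul, zpow_mul, zpow_two, ← sq, hs2, one_zpow]
      · right; refine Subtype.ext ?_
        rw [← hk]
        show s ^ (2 * l + 1) = s
        rw [zpow_add, zpow_mul, zpow_two, ← sq, hs2, one_zpow, zpow_one, one_mul]
    have ha2c : a * a ∈ Subgroup.center S := by
      rw [← hext.1.2.1, ← sq]
      exact Cfsg.Agent.PGroupBasics.pow_mem_frattini hS a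
    have hz1 : a * a = ⟨s, hd.s_mem.1⟩ := (hcz _ ha2c).resolve_left ha2
    have hcomm : ⁅y, a⁆ = ⟨s, hd.s_mem.1⟩ := (hcz _ (hcl y a)).resolve_left
      fun e => hay (commutatorElement_eq_one_iff_mul_comm.1 e).symm
    have ha4 : orderOf a = 4 := by
      refine (orderOf_eq_prime_pow (p := 2) (n := 1) ?_ ?_).trans (by norm_num)
      · rw [pow_one, sq]; exact ha2
      · show a ^ (2 * 2) = 1
        rw [pow_mul, sq a, hz1]
        exact Subtype.ext (by rw [SubmonoidClass.coe_pow]; exact hs2)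
    have hconj : y * a * y⁻¹ = a⁻¹ := by
      have e1 : y * a * y⁻¹ = ⁅y, a⁆ * a := by rw [commutatorElement_def]; group
      have e2 : a ^ 4 = 1 := ha4 ▸ pow_orderOf_eq_one a
      rw [e1, hcomm, ← hz1, eq_inv_iff_mul_eq_one, ← e2, pow_succ, pow_succ, sq]
    have hmem : y ∉ Subgroup.zpowers a := fun hm => hay (by
      obtain ⟨k, hk⟩ := hm
      rw [← hk]; exact ((Commute.refl a).zpow_right k).eq)
    have htop : (⊤ : Subgroup S) = Subgroup.closure ({a, y} : Set S) := by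
      refine (Subgroup.eq_top_of_le_card _ ?_).symm
      have hlt : Subgroup.zpowers a < Subgroup.closure ({a, y} : Set S) :=
        lt_of_le_not_ge (Subgroup.zpowers_le.2 (Subgroup.subset_closure (by simp))) fun h =>
          hmem (h (Subgroup.subset_closure (by simp)))
      have hdvd := (Subgroup.closure ({a, y} : Set S)).card_subgroup_dvd_card
      have hdvd2 := Subgroup.card_dvd_of_le hlt.le
      have hgt : Nat.card (Subgroup.zpowers a) < Nat.card (Subgroup.closure ({a, y} : Set S)) :=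
        lt_of_not_ge fun h => hlt.ne (Subgroup.eq_of_le_of_card_ge hlt.le h)
      rw [Nat.card_zpowers, ha4] at hgt hdvd2
      rw [hcard] at hdvd ⊢
      obtain ⟨i, hi, hi'⟩ := (Nat.dvd_prime_pow Nat.prime_two).1 hdvd
      rw [hi'] at hgt ⊢
      interval_cases i <;> simp_all
    obtain ⟨e⟩ := Cfsg.Agent.TwoLift.dihedral_equiv ha4 hy2 hconj hmem htop
    exact ⟨(Subgroup.topEquiv (G := S)).symm.trans e⟩
  exfalso
  simp only [not_forall, exists_prop] at hC
  obtain ⟨c, hc, hc1⟩ := hC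
  obtain ⟨E2, α2, h2, hc2⟩ : ∃ (E : Subgroup Ω) (α : MulAut E), IsShift F 2 E α ∧ c ∉ fixPart S E α := by
    by_contra hno
    simp only [not_exists, not_and, not_not] at hno
    exact hc1 (eq_one_of_all_fix hd hS hF hcore hc.1 hno)
  obtain ⟨sE2, t2, hf2⟩ := shift_facts hd hS hF h2
  obtain ⟨hy2Z, hy2sq⟩ := hy E2 α2 h2 sE2 hf2.sE_eq
  set y2 : Ω := ((α2 sE2 : E2) : Ω)
  have hy2S : y2 ∈ S := h2.mid.le_S (α2 sE2).2
  have hne : E1 ≠ E2 := by
    rintro rfl
    exact hc2 ((shift_same hd hS hF h1 h2 sE1 hf1.sE_eq).1 hc)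
  have hy2E1 : y2 ∉ E1 := fun h => hne (mid_eq hd h1.mid h2.mid h (α2 sE2).2 hy2Z)
  -- the centre has exponent two
  have hZexp : ∀ z ∈ centerOf S, z ^ 2 = 1 := by
    intro z hz
    refine eq_one_of_all_fix hd hS hF hcore ((centerOf S).pow_mem hz 2) fun E α h => ?_
    obtain ⟨sE, t, hf⟩ := shift_facts hd hS hF h
    obtain ⟨d, hd', k, rfl⟩ := hf.split z hz
    rw [Commute.mul_pow ((centerOf_comm (Subgroup.zpow_mem _ hd.s_mem k) hd'.1.1)), ← zpow_natCast (s ^ k),
      ← zpow_mul, mul_comm k, zpow_mul, zpow_natCast, hs2, one_zpow, mul_one]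
    exact Subgroup.pow_mem _ hd' 2
  have hcomm12 : ⁅y2, y1⁆ = s := by
    have hne1 : ⁅y2, y1⁆ ≠ 1 := fun e => hy1Z ⟨hy1S, Subgroup.mem_centralizer_iff.2 fun g hg => by
      obtain ⟨i, e', he', rfl⟩ := mid_gen hd h1.mid hy2S hy2E1 hg
      have h21 : Commute y2 y1 := commutatorElement_eq_one_iff_mul_comm.1 e
      exact ((h21.zpow_left i).mul_left
        (mid_comm hd h1.mid he' (α1 sE1).2)).eq⟩
    obtain ⟨k, hk⟩ := hd.comm_mem y2 hy2S y1 hy1S
    have hk' : s ^ k = ⁅y2, y1⁆ := hk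
    rcases Int.even_or_odd k with ⟨l, rfl⟩ | ⟨l, rfl⟩
    · refine absurd ?_ hne1
      rw [← hk', ← two_mul, zpow_mul, zpow_two, ← sq, hs2, one_zpow]
    · rw [← hk', zpow_add, zpow_mul, zpow_two, ← sq, hs2, one_zpow, zpow_one, one_mul]
  -- only two of the maximal subgroups have shifts
  have htwo : ∀ (E : Subgroup Ω) (α : MulAut E), IsShift F 2 E α → E = E1 ∨ E = E2 := by
    intro E α h
    by_contra hno
    rw [not_or] at hno
    obtain ⟨sE, t, hf⟩ := shift_facts hd hS hF h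
    obtain ⟨hyZ, hysq⟩ := hy E α h sE hf.sE_eq
    obtain ⟨i, e, he, hye⟩ := mid_gen hd h1.mid hy2S hy2E1 (h.mid.le_S (α sE).2)
    have hpw : ∀ {g : Ω}, g ^ 2 = 1 → ∀ j : ℤ, g ^ j = 1 ∨ g ^ j = g := fun {g} hg j => by
      rcases Int.even_or_odd j with ⟨l, rfl⟩ | ⟨l, rfl⟩
      · left; rw [← two_mul, zpow_mul, zpow_two, ← sq, hg, one_zpow]
      · right; rw [zpow_add, zpow_mul, zpow_two, ← sq, hg, one_zpow, zpow_one, one_mul]
    rcases hpw hy2sq i with hi | hi
    · rw [hi, one_mul] at hye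
      exact hno.1 (mid_eq hd h.mid h1.mid (α sE).2 (hye ▸ he) hyZ)
    rw [hi] at hye
    obtain ⟨j, w, hw, hew⟩ : ∃ (j : ℤ) (w : Ω), w ∈ centerOf S ∧ e = y1 ^ j * w := by
      obtain ⟨sE1', t', hf1'⟩ := shift_facts hd hS hF h1
      obtain rfl : sE1 = sE1' := Subtype.ext (hf1.sE_eq.trans hf1'.sE_eq.symm)
      letI : CommGroup E1 := { (inferInstance : Group E1) with
        mul_comm := fun e f => Subtype.ext (mid_comm hd h1.mid e.2 f.2) }
      have hso : orderOf sE1 = 2 := by rw [← Subgroup.orderOf_coe, hf1.sE_eq]; exact hd.order_s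
      have htr : IsTransv t' sE1 := ⟨(hf1'.act.fix _).2 (by rw [hf1.sE_eq]; exact hd.s_mem), hf1'.act.transv⟩
      haveI := finite_of_le (S := S) h1.mid.le_S
      obtain ⟨c0, k, l, hr, hc01, hc02⟩ := (transv_decomp htr (htr.conj α1) hso
        (by rw [← hso]; exact orderOf_injective α1.toMonoidHom α1.injective sE1)
        (fun e => hf1'.move ((hf1'.act.fix _).1 e)) hf1'.move' ⟨e, he⟩).1
      refine ⟨l, c0 * s ^ k, (centerOf S).mul_mem ((hf1'.act.fix c0).1 hc01) (Subgroup.zpow_mem _ hd.s_mem k), ?_⟩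
      have h0 := congrArg Subtype.val hr
      rw [Subgroup.coe_mul, Subgroup.coe_mul, SubgroupClass.coe_zpow, SubgroupClass.coe_zpow, hf1.sE_eq] at h0
      rw [show e = (c0 : Ω) * s ^ k * y1 ^ l from h0]
      exact mid_comm hd h1.mid (h1.mid.center_le ((centerOf S).mul_mem ((hf1'.act.fix c0).1 hc01)
        (Subgroup.zpow_mem _ hd.s_mem k))) (Subgroup.zpow_mem _ (α1 sE1).2 l)
    rcases hpw hy1sq j with hj | hj
    · rw [hew, hj, one_mul] at hye
      exact hno.2 (mid_eq hd h.mid h2.mid (α sE).2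
        (hye ▸ E2.mul_mem (α2 sE2).2 (h2.mid.center_le hw)) hyZ)
    rw [hew, hj] at hye
    refine hs1 ?_
    have hwc : Commute (y2 * y1) w := (centerOf_comm hw (S.mul_mem hy2S hy1S))
    rw [← mul_assoc] at hye
    rw [hye, hwc.mul_pow, hZexp w hw, mul_one, sq] at hysq
    rw [← hcomm12, commutatorElement_def, inv_eq_of_mul_eq_one_left (show y2 * y2 = 1 by rw [← sq]; exact hy2sq),
      inv_eq_of_mul_eq_one_left (show y1 * y1 = 1 by rw [← sq]; exact hy1sq), mul_assoc (y2 * y1)]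
    exact hysq
  -- `|Z| = 4`
  have hC12 : ∀ d ∈ fixPart S E1 α1, d ∈ fixPart S E2 α2 → d = 1 := fun d hd1 hd2 =>
    eq_one_of_all_fix hd hS hF hcore hd1.1 fun E α h => by
      rcases htwo E α h with rfl | rfl
      · exact (shift_same hd hS hF h1 h sE1 hf1.sE_eq).1 hd1
      · exact (shift_same hd hS hF h2 h sE2 hf2.sE_eq).1 hd2
  have hC1 : ∀ d ∈ fixPart S E1 α1, d = 1 ∨ d = c := by
    intro d hd1
    by_cases hd2 : d ∈ fixPart S E2 α2
    · exact Or.inl (hC12 d hd1 hd2)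
    right
    have hodd : ∀ {x : Ω}, x ∈ centerOf S → x ∉ fixPart S E2 α2 → ∃ x' ∈ fixPart S E2 α2, x = x' * s := by
      intro x hx hx2
      obtain ⟨x', hx', k, hk⟩ := hf2.split x hx
      rcases Int.even_or_odd k with ⟨l, rfl⟩ | ⟨l, rfl⟩
      · refine absurd ?_ hx2
        rw [hk, ← two_mul, zpow_mul, zpow_two, ← sq, hs2, one_zpow, mul_one]; exact hx'
      · refine ⟨x', hx', ?_⟩
        rw [hk, zpow_add, zpow_mul, zpow_two, ← sq, hs2, one_zpow, zpow_one, one_mul]
    obtain ⟨d', hd', hde⟩ := hodd hd1.1 hd2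
    obtain ⟨c', hc', hce⟩ := hodd hc.1 hc2
    have h3 : d * c = d' * c' := by
      rw [hde, hce, mul_assoc, ← mul_assoc s, ← centerOf_comm hd.s_mem hc'.1.1, mul_assoc c', ← sq, hs2, mul_one]
    have h4 : d * c = 1 := hC12 _ (Subgroup.mul_mem _ hd1 hc) (h3 ▸ Subgroup.mul_mem _ hd' hc')
    rw [eq_inv_of_mul_eq_one_left h4]
    exact inv_eq_of_mul_eq_one_left (by rw [← sq]; exact hZexp c hc.1)
  have hZ4 : Nat.card (centerOf S) = 4 := by
    let f : Bool × Bool → centerOf S := fun b =>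
      ⟨(if b.1 then c else 1) * (if b.2 then s else 1), (centerOf S).mul_mem
        (by split_ifs; exacts [hc.1, Subgroup.one_mem _]) (by split_ifs; exacts [hd.s_mem, Subgroup.one_mem _])⟩
    have hsC : s ∉ fixPart S E1 α1 := fun h => hs1 (by simpa using hf1.disj 1 (by simpa using h))
    have hf : Function.Bijective f := by
      refine ⟨?_, fun z => ?_⟩
      · have hcs : c ≠ s := fun e => hsC (e ▸ hc)
        have hcs1 : c * s ≠ 1 := fun e => hsC (by rw [eq_inv_of_mul_eq_one_right e]; exact Subgroup.inv_mem _ hc)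
        rintro ⟨a, b⟩ ⟨a', b'⟩ h
        have h0 := congrArg Subtype.val h
        cases a <;> cases b <;> cases a' <;> cases b' <;>
          simp_all [f, Ne.symm hcs, Ne.symm hcs1, Ne.symm hc1, Ne.symm hs1]
      · obtain ⟨z, hz⟩ := z
        obtain ⟨d, hd1, k, hk⟩ := hf1.split z hz
        rcases Int.even_or_odd k with ⟨l, rfl⟩ | ⟨l, rfl⟩ <;> rcases hC1 d hd1 with rfl | rfl
        · exact ⟨(false, false), Subtype.ext (by simp [f, hk, ← two_mul, zpow_mul, zpow_two, ← sq, hs2])⟩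
        · exact ⟨(true, false), Subtype.ext (by simp [f, hk, ← two_mul, zpow_mul, zpow_two, ← sq, hs2])⟩
        · exact ⟨(false, true), Subtype.ext (by simp [f, hk, zpow_add, zpow_mul, zpow_two, ← sq, hs2])⟩
        · exact ⟨(true, true), Subtype.ext (by simp [f, hk, zpow_add, zpow_mul, zpow_two, ← sq, hs2])⟩
    rw [← Nat.card_congr (Equiv.ofBijective f hf)]
    simp
  have hS16 : Nat.card S = 16 := by rw [hd.card_eq, hZ4]; rfl
  -- the normal subgroup generated by the two involutions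
  set a : Ω := y2 * y1
  set M : Subgroup Ω := Subgroup.closure ({a, y1} : Set Ω) with hMdef
  have hy1M : y1 ∈ M := Subgroup.subset_closure (by simp)
  have hy2M : y2 ∈ M := by
    simpa [a, mul_assoc] using M.mul_mem (Subgroup.subset_closure (by simp : a ∈ ({a, y1} : Set Ω))) (M.inv_mem hy1M)
  have hMS : M ≤ S := (Subgroup.closure_le _).2 (by
    rintro u (rfl | rfl); exacts [S.mul_mem hy2S hy1S, hy1S])
  have hsM : s ∈ M := by
    rw [← hcomm12, commutatorElement_def]
    exact M.mul_mem (M.mul_mem (M.mul_mem hy2M hy1M) (M.inv_mem hy2M)) (M.inv_mem hy1M)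
  have hy1i : y1⁻¹ = y1 := inv_eq_of_mul_eq_one_left (by rw [← sq]; exact hy1sq)
  have hy2i : y2⁻¹ = y2 := inv_eq_of_mul_eq_one_left (by rw [← sq]; exact hy2sq)
  have ha2 : a * a = s := by
    rw [← hcomm12, commutatorElement_def, hy1i, hy2i]; simp only [a, mul_assoc]
  have ha4 : orderOf a = 4 := by
    refine (orderOf_eq_prime_pow (p := 2) (n := 1) ?_ ?_).trans (by norm_num)
    · rw [pow_one, sq, ha2]; exact hs1
    · show a ^ (2 * 2) = 1
      rw [pow_mul, sq a, ha2, hs2]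
  have hconj : y1 * a * y1⁻¹ = a⁻¹ := by
    simp only [a, mul_inv_rev, hy1i, hy2i, mul_assoc]
    rw [← sq y1, hy1sq, mul_one]
  have hmem : y1 ∉ Subgroup.zpowers a := fun hm => by
    obtain ⟨k, hk⟩ := hm
    refine hs1 ?_
    have hc' : Commute y1 a := hk ▸ ((Commute.refl a).zpow_left k)
    rw [hc'.eq, mul_inv_cancel_right] at hconj
    rw [← ha2]
    nth_rw 1 [hconj]
    exact inv_mul_cancel a
  obtain ⟨eM⟩ := Cfsg.Agent.TwoLift.dihedral_equiv ha4 (by rw [← sq]; exact hy1sq) hconj hmem (H := M) rfl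
  have hM8 : Nat.card M = 8 := by
    rw [Nat.card_congr eM.toEquiv, DihedralGroup.nat_card]
  -- every map is trivial modulo `M`
  haveI := finite_of_le (S := S) hMS
  have hMidx : (M.subgroupOf S).index = 2 := by
    have h := (M.subgroupOf S).card_mul_index
    rw [hS16, Nat.card_congr (Subgroup.subgroupOfEquivOfLe hMS).toEquiv, hM8] at h
    omega
  have hyM : ∀ (E : Subgroup Ω) (α : MulAut E), IsShift F 2 E α → ∀ sE : E, (sE : Ω) = s →
      ((α sE : E) : Ω) ∈ M := by
    intro E α h sE hsE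
    rcases htwo E α h with rfl | rfl
    · obtain rfl : sE = sE1 := Subtype.ext (hsE.trans hf1.sE_eq.symm)
      rcases (shift_same hd hS hF h1 h sE hsE).2 with e | e <;> rw [e]
      · exact hy1M
      · rw [Subgroup.coe_mul, hsE]; exact M.mul_mem hsM hy1M
    · obtain rfl : sE = sE2 := Subtype.ext (hsE.trans hf2.sE_eq.symm)
      rcases (shift_same hd hS hF h2 h sE hsE).2 with e | e <;> rw [e]
      · exact hy2M
      · rw [Subgroup.coe_mul, hsE]; exact M.mul_mem hsM hy2M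
  have hMinv : ∀ β ∈ F.autGroup S, ∀ x : S, (x : Ω) ∈ M → ((β x : S) : Ω) ∈ M := by
    intro β hβ
    have hgen : ∀ (E : Subgroup Ω) (α : MulAut E) (h : IsShift F 2 E α) (sE : E), (sE : Ω) = s →
        ((β ⟨(α sE : E), h.mid.le_S (α sE).2⟩ : S) : Ω) ∈ M := by
      intro E α h sE hsE
      obtain ⟨E', α', h', -, hval⟩ := isShift_map hd h hβ
      have e : (⟨s, hd.s_mem.1⟩ : S) = ⟨sE, h.mid.le_S sE.2⟩ := Subtype.ext hsE.symm
      rw [← hval sE ⟨s, h'.mid.center_le hd.s_mem⟩ (by rw [← e, s_fixed hd β])]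
      exact hyM E' α' h' _ rfl
    intro x hx
    have hle : M ≤ (M.comap (S.subtype.comp β.toMonoidHom)).map S.subtype := by
      refine (Subgroup.closure_le _).2 ?_
      rintro u (rfl | rfl)
      · refine ⟨⟨y2, hy2S⟩ * ⟨y1, hy1S⟩, ?_, rfl⟩
        exact (M.comap (S.subtype.comp β.toMonoidHom)).mul_mem (hgen E2 α2 h2 sE2 hf2.sE_eq)
          (hgen E1 α1 h1 sE1 hf1.sE_eq)
      · exact ⟨⟨y1, hy1S⟩, hgen E1 α1 h1 sE1 hf1.sE_eq, rfl⟩
    obtain ⟨w, hw, hwe⟩ := hle hx
    rw [show x = w from Subtype.ext hwe.symm]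
    exact hw
  have hSmod : ∀ β ∈ F.autGroup S, ∀ x : S, (x : Ω)⁻¹ * ((β x : S) : Ω) ∈ M := by
    intro β hβ x
    have h : x⁻¹ * β x ∈ M.subgroupOf S := by
      rw [Subgroup.mul_mem_iff_of_index_two hMidx, inv_mem_iff]
      refine ⟨hMinv β hβ x, fun hb => ?_⟩
      have := hMinv β⁻¹ (Subgroup.inv_mem _ hβ) (β x) hb
      rwa [show β⁻¹ (β x) = x from β.symm_apply_apply x] at this
    exact h
  have hMn : ∀ g ∈ S, ∀ m ∈ M, g * m * g⁻¹ ∈ M := fun g hg m hm => by
    obtain ⟨k, hk⟩ := hd.comm_mem g hg m (hMS hm)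
    rw [show g * m * g⁻¹ = s ^ k * m by rw [show s ^ k = ⁅g, m⁆ from hk, commutatorElement_def]; group]
    exact M.mul_mem (M.zpow_mem hsM k) hm
  let EM : FusionSystem S :=
    { Hom := fun P => {φ | φ ∈ F.Hom P ∧ ∀ x : P, (x : Ω)⁻¹ * φ x ∈ M}
      le_of_mem := fun h => F.le_of_mem h.1
      injective_of_mem := fun h => F.injective_of_mem h.1
      conj_mem := fun {P g} hP hg => ⟨F.conj_mem hP hg, fun x => by
        obtain ⟨k, hk⟩ := hd.comm_mem _ (S.inv_mem (hP x.2)) g hg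
        show (x : Ω)⁻¹ * (g * x * g⁻¹) ∈ M
        rw [show (x : Ω)⁻¹ * (g * x * g⁻¹) = s ^ k by
          rw [show s ^ k = ⁅(x : Ω)⁻¹, g⁆ from hk, commutatorElement_def]; group]
        exact M.zpow_mem hsM k⟩
      comp_mem := by
        rintro P Q φ ψ ⟨hφ, hφx⟩ ⟨hψ, hψx⟩ h
        refine ⟨F.comp_mem hφ hψ h, fun x => ?_⟩
        have := M.mul_mem (hφx x) (hψx ⟨φ x, h x⟩)
        show (x : Ω)⁻¹ * ψ ⟨φ x, h x⟩ ∈ M
        simpa [mul_assoc] using this
      inv_mem := by
        rintro P φ ⟨hφ, hφx⟩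
        obtain ⟨ψ, hψ, hψe⟩ := F.inv_mem hφ
        refine ⟨ψ, ⟨hψ, ?_⟩, hψe⟩
        rintro ⟨_, x, rfl⟩
        rw [hψe]
        simpa [mul_inv_rev] using M.inv_mem (hφx x) }
  have hle : F ≤ EM := by
    refine alperin hS hF fun P hP α hα => ?_
    rcases hP with rfl | hP
    · rw [mem_autGroup_iff EM le_rfl]
      exact ⟨(mem_autGroup_iff F le_rfl α).1 hα, fun x => hSmod α hα x⟩
    · have hPS := hP.1.1
      rw [mem_autGroup_iff EM hPS]
      refine ⟨(mem_autGroup_iff F hPS α).1 hα, fun x => ?_⟩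
      rcases essential_cases hd hS hF hP hα with h | ⟨β, hβ, hβe⟩
      · set sP : P := ⟨s, h.mid.center_le hd.s_mem⟩
        obtain ⟨u, γ, β, hβ, he, hβe, -, humov⟩ := shift_factor hd hS hF h sP rfl
        have h1 := hSmod β hβ ⟨x, hPS x.2⟩
        rw [hβe x] at h1
        have h2 : (((γ x)⁻¹ * u (γ x) : P) : Ω) ∈ M := by
          have hle : Subgroup.closure ({sP, α sP} : Set P) ≤ M.comap P.subtype := (Subgroup.closure_le _).2 (by
            rintro w (rfl | rfl)
            · exact hsM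
            · exact hyM P α h sP rfl)
          exact hle (humov (γ x))
        show (x : Ω)⁻¹ * ((α x : P) : Ω) ∈ M
        have h3 := M.mul_mem h1 h2
        rw [show α x = u (γ x) by rw [he]; rfl]
        simpa [mul_assoc] using h3
      · show (x : Ω)⁻¹ * ((α x : P) : Ω) ∈ M
        rw [← hβe x]; exact hSmod β hβ ⟨x, hPS x.2⟩
  have hfocM : F.focalSubgroup ≤ M := by
    refine (Subgroup.closure_le _).2 ?_
    rintro _ ⟨P, φ, x, hφ, rfl⟩
    exact (hle P hφ).2 x
  have hSM := Subgroup.card_le_of_le (hhyp ▸ (hyperfocal_le_focal F).trans hfocM : S ≤ M)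
  omega

end Cfsg.Agent.FusionSys
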