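import Cfsg.Agent.Lib.Fusion.Hyperfocal
import Cfsg.Agent.Lib.Fusion.Normal
import Cfsg.Agent.Lib.Functors.Critical
import Cfsg.Agent.Lib.LocalEven.OmegaFour
import Cfsg.Agent.Lib.Fusion.Alperin

/-!
# Automorphisms stabilizing a series on small hyperfocal elements

Elements of order `p` (or four, for `p = 2`) of the hyperfocal subgroup detect coprime automorphisms.
-/

set_option autoImplicit false
set_option linter.style.haveILetI false

namespace Cfsg.Agent.FusionSys

open Cfsg Cfsg.FusionSystem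
open scoped commutatorElement

universe u

/-- Order dividing `p`, or four when `p = 2`. -/
def IsSmallElt {G : Type*} [Group G] (p : ℕ) (a : G) : Prop := a ^ p = 1 ∨ p = 2 ∧ a ^ 4 = 1

theorem IsSmallElt.map {G H : Type*} [Group G] [Group H] {p : ℕ} {a : G} (h : IsSmallElt p a) (f : G →* H) :
    IsSmallElt p (f a) :=
  h.imp (fun e => by rw [← map_pow, e, map_one]) fun e => ⟨e.1, by rw [← map_pow, e.2, map_one]⟩

theorem IsSmallElt.of_map {G H : Type*} [Group G] [Group H] {p : ℕ} {a : G} {f : G →* H}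
    (hf : Function.Injective f) (h : IsSmallElt p (f a)) : IsSmallElt p a :=
  h.imp (fun e => hf (by rw [map_pow, e, map_one])) fun e => ⟨e.1, hf (by rw [map_pow, e.2, map_one])⟩

/-- An automorphism of coprime order fixing the small elements of an invariant subgroup fixes it. -/
theorem fix_of_small {p : ℕ} [hp : Fact p.Prime] {P : Type u} [Group P] [Finite P] (hP : IsPGroup p P)
    {α : MulAut P} (hα : (orderOf α).Coprime p) (M : Subgroup P) (hM : ∀ y ∈ M, α y ∈ M)
    (hfix : ∀ y ∈ M, IsSmallElt p y → α y = y) : ∀ y ∈ M, α y = y := by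
  haveI : Finite (P ⋊[MonoidHom.id (MulAut P)] MulAut P) :=
    Finite.of_equiv (P × MulAut P) SemidirectProduct.equivProd.symm
  set x : P ⋊[MonoidHom.id (MulAut P)] MulAut P := SemidirectProduct.inr α
  set Q := M.map (SemidirectProduct.inl : P →* P ⋊[MonoidHom.id (MulAut P)] MulAut P) with hQ
  have hconj : ∀ y : P, x * SemidirectProduct.inl y * x⁻¹ = SemidirectProduct.inl (α y) :=
    fun y => by
      show SemidirectProduct.inr α * SemidirectProduct.inl y * (SemidirectProduct.inr α)⁻¹ = _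
      rw [← map_inv, ← SemidirectProduct.inl_aut]
      rfl
  have hxN : x ∈ Subgroup.normalizer (Q : Set (P ⋊[MonoidHom.id (MulAut P)] MulAut P)) := by
    have hmap : M.map α.toMonoidHom = M := Subgroup.eq_of_le_of_card_ge
      (by rintro _ ⟨y, hy, rfl⟩; exact hM y hy)
      (Subgroup.card_map_of_injective α.injective).ge
    refine mem_normalizer_of_conj_mem x ?_ ?_
    · rintro _ ⟨y, hy, rfl⟩
      exact ⟨α y, hM y hy, (hconj y).symm⟩
    · rintro _ ⟨y, hy, rfl⟩
      obtain ⟨z, hz, rfl⟩ := hmap.ge hy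
      refine ⟨z, hz, ?_⟩
      show SemidirectProduct.inl z = x⁻¹ * SemidirectProduct.inl (α z) * x
      rw [← hconj]; group
  have hord : (orderOf x).Coprime p := by rwa [orderOf_injective _ SemidirectProduct.inr_injective α]
  intro y hy
  have h := Cfsg.Agent.LEOmega.commute_of_small hord _ Q le_rfl ((hP.to_subgroup M).map _) hxN
    (by
      rintro _ ⟨z, hz, rfl⟩ hzs
      rw [← mul_inv_eq_iff_eq_mul, hconj,
        hfix z hz (IsSmallElt.of_map (f := SemidirectProduct.inl) SemidirectProduct.inl_injective hzs)])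
    _ ⟨y, hy, rfl⟩
  rw [← mul_inv_eq_iff_eq_mul, hconj] at h
  exact SemidirectProduct.inl_injective h

/-- A coprime automorphism moving `y` by something it fixes fixes `y`. -/
theorem fix_of_fix_diff {p : ℕ} {P : Type u} [Group P] (hP : IsPGroup p P) {α : MulAut P}
    (hα : (orderOf α).Coprime p) {y : P} (h : α (y⁻¹ * α y) = y⁻¹ * α y) : α y = y := by
  set c := y⁻¹ * α y with hc
  have hy : α y = y * c := by rw [hc, mul_inv_cancel_left]
  have hpow : ∀ n : ℕ, (α ^ n) y = y * c ^ n := by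
    intro n
    induction n with
    | zero => simp
    | succ n ih => rw [pow_succ', MulAut.mul_apply, ih, map_mul, map_pow, hy, h, mul_assoc, ← pow_succ']
  have h2 := hpow (orderOf α)
  rw [pow_orderOf_eq_one, MulAut.one_apply, left_eq_mul] at h2
  obtain ⟨k, hk⟩ := hP c
  have h3 : orderOf c ∣ Nat.gcd (orderOf α) (p ^ k) :=
    Nat.dvd_gcd (orderOf_dvd_of_pow_eq_one h2) (orderOf_dvd_of_pow_eq_one hk)
  rw [(hα.pow_right k).gcd_eq_one, Nat.dvd_one, orderOf_eq_one_iff] at h3
  rw [hy, h3, mul_one]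

/-- An invariant subgroup of small elements detecting coprime automorphisms. -/
theorem exists_small_detecting {p : ℕ} [hp : Fact p.Prime] {P : Type u} [Group P] [Finite P] (hP : IsPGroup p P) :
    ∃ R : Subgroup P, (∀ x ∈ R, IsSmallElt p x) ∧ (∀ φ : MulAut P, ∀ x ∈ R, φ x ∈ R) ∧
      ∀ α : MulAut P, (orderOf α).Coprime p → (∀ x ∈ R, α x = x) → α = 1 := by
  obtain ⟨H, hH⟩ := Cfsg.Agent.Critical.exists_critical hP
  have hmul : ∀ x ∈ H, ∀ y ∈ H, IsSmallElt p x → IsSmallElt p y → IsSmallElt p (x * y) := by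
    intro x hx y hy hxs hys
    have hcm : ⁅x, y⁆ ∈ H ⊓ Subgroup.centralizer (H : Set P) :=
      hH.comm (Subgroup.commutator_mem_commutator (Subgroup.mem_top x) hy)
    have hc : ∀ z ∈ H, Commute z ⁅x, y⁆ := fun z hz =>
      Subgroup.mem_centralizer_iff.1 (Subgroup.mem_inf.1 hcm).2 z hz
    set c := ⁅y, x⁆ with hcdef
    have hc' : ∀ z ∈ H, Commute z c := fun z hz => by
      rw [hcdef, ← commutatorElement_inv]; exact (hc z hz).inv_right
    -- `c ^ p = [y ^ p, x] = 1`
    have hcp : c ^ p = 1 := by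
      have hyp : Commute (y ^ p) x := (Subgroup.mem_centralizer_iff.1 (Subgroup.mem_inf.1 (hH.pow y hy)).2 x hx).symm
      have hiter : ∀ n : ℕ, y ^ n * x * (y ^ n)⁻¹ = c ^ n * x := by
        intro n
        induction n with
        | zero => simp
        | succ n ih =>
          have e : y * (y ^ n * x * (y ^ n)⁻¹) * y⁻¹ = y ^ (n + 1) * x * (y ^ (n + 1))⁻¹ := by
            rw [pow_succ' y n]; group
          rw [← e, ih, show y * (c ^ n * x) * y⁻¹ = (y * c ^ n) * x * y⁻¹ by group, ((hc' y hy).pow_right n).eq,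
            show c ^ n * y * x * y⁻¹ = c ^ n * ((y * x * y⁻¹ * x⁻¹) * x) by group,
            show y * x * y⁻¹ * x⁻¹ = c by rw [hcdef, commutatorElement_def], pow_succ]
          group
      have h := hiter p
      rw [hyp.eq, mul_inv_cancel_right] at h
      exact mul_eq_right.1 h.symm
    -- the class-two power formula
    have hstep : y * x = c * (x * y) := by rw [hcdef, commutatorElement_def]; group
    have hyx : ∀ n : ℕ, y ^ n * x = c ^ n * (x * y ^ n) := by
      intro n
      induction n with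
      | zero => simp
      | succ n ih =>
        calc y ^ (n + 1) * x = y * (y ^ n * x) := by rw [pow_succ']; group
          _ = (y * c ^ n) * (x * y ^ n) := by rw [ih]; group
          _ = c ^ n * (y * x) * y ^ n := by rw [((hc' y hy).pow_right n).eq]; group
          _ = c ^ (n + 1) * (x * y ^ (n + 1)) := by rw [hstep, pow_succ c, pow_succ' y]; group
    have hform : ∀ n : ℕ, (x * y) ^ n = c ^ (n.choose 2) * (x ^ n * y ^ n) := by
      intro n
      induction n with
      | zero => simp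
      | succ n ih =>
        have e1 : Commute (x ^ n) (c ^ n) := ((hc' x hx).pow_right n).pow_left n
        calc (x * y) ^ (n + 1) = c ^ n.choose 2 * (x ^ n * (y ^ n * x) * y) := by rw [pow_succ, ih]; group
          _ = c ^ n.choose 2 * ((x ^ n * c ^ n) * x * (y ^ n * y)) := by rw [hyx]; group
          _ = c ^ (n.choose 2 + n) * (x ^ (n + 1) * y ^ (n + 1)) := by
            rw [e1.eq, pow_add, pow_succ x, pow_succ y]; group
          _ = c ^ (n + 1).choose 2 * (x ^ (n + 1) * y ^ (n + 1)) := by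
            rw [Nat.choose_succ_succ' n 1, Nat.choose_one_right, add_comm n (n.choose 2)]
    by_cases hp2 : p = 2
    · refine Or.inr ⟨hp2, ?_⟩
      have h4 : ∀ z : P, IsSmallElt p z → z ^ 4 = 1 := fun z hz => hz.elim
        (fun e => by rw [hp2] at e; rw [show (4 : ℕ) = 2 * 2 from rfl, pow_mul, e, one_pow]) fun e => e.2
      rw [hform 4, h4 x hxs, h4 y hys, one_mul, mul_one, show Nat.choose 4 2 = 2 * 3 from rfl, pow_mul, ← hp2,
        hcp, one_pow]
    · have hp' : ∀ z : P, IsSmallElt p z → z ^ p = 1 := fun z hz => hz.elim id fun e => absurd e.1 hp2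
      refine Or.inl ?_
      obtain ⟨k, hk⟩ : p ∣ p.choose 2 :=
        hp.out.dvd_choose_self (by norm_num) (lt_of_le_of_ne hp.out.two_le (Ne.symm hp2))
      rw [hform p, hp' x hxs, hp' y hys, one_mul, mul_one, hk, pow_mul, hcp, one_pow]
  let R : Subgroup P :=
    { carrier := {x | x ∈ H ∧ IsSmallElt p x}
      one_mem' := ⟨H.one_mem, Or.inl (one_pow _)⟩
      mul_mem' := fun {a b} ha hb => ⟨H.mul_mem ha.1 hb.1, hmul a ha.1 b hb.1 ha.2 hb.2⟩
      inv_mem' := fun {a} ha => ⟨H.inv_mem ha.1, ha.2.imp (fun e => by rw [inv_pow, e, inv_one])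
        fun e => ⟨e.1, by rw [inv_pow, e.2, inv_one]⟩⟩ }
  have hchar : ∀ φ : MulAut P, ∀ x ∈ H, φ x ∈ H := fun φ x hx =>
    (Subgroup.characteristic_iff_map_eq.1 hH.char φ).le ⟨x, hx, rfl⟩
  refine ⟨R, fun x hx => hx.2, fun φ x hx => ⟨hchar φ x hx.1, hx.2.map φ.toMonoidHom⟩, fun α hα hfix => ?_⟩
  exact hH.mulAut_eq_one' hP hα (fix_of_small hP hα H (hchar α) fun y hy hs => hfix y ⟨hy, hs⟩)

variable {Ω : Type u} [Group Ω] {S : Subgroup Ω} [Finite S] {p : ℕ} [hp : Fact p.Prime] {F : FusionSystem S}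

/-- The automorphisms stabilizing an invariant series on small hyperfocal elements lie in a normal `p`-subgroup. -/
theorem exists_stable_subgroup (hS : IsPGroup p S) (hF : F.IsSaturated p) {U : Subgroup Ω} (hU : U ≤ S)
    (K : ℕ → Subgroup Ω) (hK0 : ∀ x ∈ F.hyperfocalSubgroup p, x ∈ U → IsSmallElt p x → x ∈ K 0)
    {n : ℕ} (hKn : K n = ⊥)
    (hinv : ∀ a ∈ F.autGroup U, ∀ i, ∀ x : U, (x : Ω) ∈ F.hyperfocalSubgroup p → IsSmallElt p (x : Ω) →
      (x : Ω) ∈ K i → ((a x : U) : Ω) ∈ K i) :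
    ∃ A₀ : Subgroup (F.autGroup U), A₀.Normal ∧ IsPGroup p A₀ ∧ ∀ a : F.autGroup U,
      (∀ i, ∀ x : U, (x : Ω) ∈ F.hyperfocalSubgroup p → IsSmallElt p (x : Ω) → (x : Ω) ∈ K i →
        (x : Ω)⁻¹ * (((a : MulAut U) x : U) : Ω) ∈ K (i + 1)) → a ∈ A₀ := by
  haveI := finite_of_le (S := S) hU
  have hUp : IsPGroup p U := hS.to_le hU
  set Y := F.hyperfocalSubgroup p with hY
  have hYc := hyperfocal_stronglyClosed hS hF
  set M : Subgroup U := Y.subgroupOf U with hM
  have hMa : ∀ a : F.autGroup U, ∀ x ∈ M, (a : MulAut U) x ∈ M := fun a x hx =>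
    stronglyClosed_autGroup_mem hYc hU a.2 x hx
  obtain ⟨R, hRs, hRinv, hRdet⟩ := exists_small_detecting (hUp.to_subgroup M)
  -- restriction to `M`
  let res : F.autGroup U → MulAut M := fun a =>
    { toFun := fun x => ⟨(a : MulAut U) x, hMa a x x.2⟩
      invFun := fun x => ⟨((a⁻¹ : F.autGroup U) : MulAut U) x, hMa a⁻¹ x x.2⟩
      left_inv := fun x => Subtype.ext ((a : MulAut U).symm_apply_apply x)
      right_inv := fun x => Subtype.ext ((a : MulAut U).apply_symm_apply x)
      map_mul' := fun x y => Subtype.ext ((a : MulAut U).map_mul x y) }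
  let RU : Subgroup U := R.map M.subtype
  have hRUa : ∀ a : F.autGroup U, ∀ x ∈ RU, (a : MulAut U) x ∈ RU := by
    rintro a _ ⟨x, hx, rfl⟩
    exact ⟨res a x, hRinv _ x hx, rfl⟩
  have hRUY : ∀ x ∈ RU, (x : Ω) ∈ Y := by rintro _ ⟨x, hx, rfl⟩; exact x.2
  have hRUs : ∀ x ∈ RU, IsSmallElt p (x : Ω) := by
    rintro _ ⟨x, hx, rfl⟩; exact (hRs x hx).map (U.subtype.comp M.subtype)
  have hKa : ∀ (a : F.autGroup U) i, ∀ x ∈ RU, (x : Ω) ∈ K i → (((a : MulAut U) x : U) : Ω) ∈ K i :=
    fun a i x hx => hinv a a.2 i x (hRUY x hx) (hRUs x hx)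
  let A₀ : Subgroup (F.autGroup U) :=
    { carrier := {a | ∀ i, ∀ x ∈ RU, (x : Ω) ∈ K i → (x : Ω)⁻¹ * (((a : MulAut U) x : U) : Ω) ∈ K (i + 1)}
      one_mem' := fun i x _ _ => by simp [(K (i + 1)).one_mem]
      mul_mem' := by
        intro a b ha hb i x hx hxK
        have h := (K (i + 1)).mul_mem (hb i x hx hxK) (ha i _ (hRUa b x hx) (hKa b i x hx hxK))
        rw [mul_assoc, mul_inv_cancel_left] at h
        exact h
      inv_mem' := by
        intro a ha i x hx hxK
        have h := (K (i + 1)).inv_mem (ha i _ (hRUa a⁻¹ x hx) (hKa a⁻¹ i x hx hxK))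
        rw [show (a : MulAut U) (((a⁻¹ : F.autGroup U) : MulAut U) x) = x from (a : MulAut U).apply_symm_apply x,
          mul_inv_rev, inv_inv] at h
        exact h }
  refine ⟨A₀, ⟨fun a ha g i x hx hxK => ?_⟩, ?_, fun a ha i x hx hxK => ha i x (hRUY x hx) (hRUs x hx) hxK⟩
  · set y := ((g⁻¹ : F.autGroup U) : MulAut U) x with hy
    have hyR : y ∈ RU := hRUa g⁻¹ x hx
    have hz : y⁻¹ * (a : MulAut U) y ∈ RU := RU.mul_mem (RU.inv_mem hyR) (hRUa a y hyR)
    have h := hKa g (i + 1) _ hz (by simpa using ha i y hyR (hKa g⁻¹ i x hx hxK))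
    rw [map_mul, map_inv, show (g : MulAut U) y = x from (g : MulAut U).apply_symm_apply x] at h
    simp only [Subgroup.coe_mul, Subgroup.coe_inv] at h
    exact h
  rintro ⟨a, ha⟩
  obtain ⟨j, m, hm, hn⟩ := Nat.exists_eq_pow_mul_and_not_dvd (orderOf_pos a).ne' p hp.out.ne_one
  set b := a ^ p ^ j with hb
  have hbA : b ∈ A₀ := A₀.pow_mem ha _
  have hbo : (orderOf b).Coprime p := by
    rw [hb, orderOf_pow, hn, Nat.gcd_mul_right_left, Nat.mul_div_cancel_left m (pow_pos hp.out.pos j)]
    exact ((Nat.Prime.coprime_iff_not_dvd hp.out).2 hm).symm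
  have hbo' : (orderOf (b : MulAut U)).Coprime p := by rwa [Subgroup.orderOf_coe]
  suffices hb1 : b = 1 from ⟨j, Subtype.ext hb1⟩
  -- `b` fixes `R`
  have hdown : ∀ d, ∀ x ∈ RU, (x : Ω) ∈ K (n - d) → (b : MulAut U) x = x := by
    intro d
    induction d with
    | zero =>
      intro x hx hxK
      rw [Nat.sub_zero, hKn, Subgroup.mem_bot] at hxK
      rw [show x = 1 from Subtype.ext hxK, map_one]
    | succ d ihd =>
      intro x hx hxK
      by_cases hd : n ≤ d
      · exact ihd x hx (by rwa [show n - d = n - (d + 1) by omega])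
      refine fix_of_fix_diff hUp hbo' (ihd _ (RU.mul_mem (RU.inv_mem hx) (hRUa b x hx)) ?_)
      have := hbA (n - (d + 1)) x hx hxK
      rw [show n - (d + 1) + 1 = n - d by omega] at this
      simpa using this
  have hres : res b = 1 := by
    have hord : orderOf (res b) ∣ orderOf b := by
      refine orderOf_dvd_of_pow_eq_one (MulEquiv.ext fun x => Subtype.ext ?_)
      have hpow : ∀ k : ℕ, (((res b) ^ k) x : U) = ((b : MulAut U) ^ k) x := by
        intro k
        induction k with
        | zero => rfl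
        | succ k ihk =>
          rw [pow_succ', pow_succ', MulAut.mul_apply, MulAut.mul_apply, ← ihk]
          rfl
      rw [hpow, show ((b : MulAut U) ^ orderOf b) = 1 by rw [← Subgroup.orderOf_coe, pow_orderOf_eq_one]]
      rfl
    refine hRdet _ (Nat.Coprime.coprime_dvd_left hord hbo) fun x hx => Subtype.ext ?_
    refine hdown n (M.subtype x) ⟨x, hx, rfl⟩ ?_
    rw [Nat.sub_self]
    exact hK0 _ x.2 (x : U).2 ((hRs x hx).map (U.subtype.comp M.subtype))
  refine Subtype.ext (MulEquiv.ext fun y => fix_of_fix_diff hUp hbo' ?_)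
  have hyY : y⁻¹ * (b : MulAut U) y ∈ M := by
    show ((y⁻¹ * (b : MulAut U) y : U) : Ω) ∈ Y
    simpa using hyperfocal_mem hU (Subgroup.subset_closure hbo) y
  exact congrArg Subtype.val (DFunLike.congr_fun hres ⟨_, hyY⟩)

/-- An essential subgroup has no normal `p`-subgroup of automorphisms containing `Aut_S`. -/
theorem essential_no_normal_pGroup (hS : IsPGroup p S) (hF : F.IsSaturated p) {U : Subgroup Ω}
    (hU : F.IsEssential p U) {A₀ : Subgroup (F.autGroup U)} (hn : A₀.Normal) (hp' : IsPGroup p A₀)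
    (hle : (autInducedBy S U).subgroupOf (F.autGroup U) ≤ A₀) : False := by
  haveI := finite_of_le (S := S) hU.1.1
  refine outS_ne_bot hS F (essential_lt hS hF hU) (centralizerIn_le_of_centric hU.1) ((eq_bot_iff).2 ?_)
  rintro _ ⟨a, ha, rfl⟩
  rw [Subgroup.mem_bot, outMk_eq_one_iff, ← (essential_radical hS hF hU).2]
  exact ⟨a, Cfsg.Agent.PBasic.le_pCore hn hp' (hle ha), rfl⟩

end Cfsg.Agent.FusionSys
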