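import Cfsg.Agent.Lib.Fusion.SolvableChain

/-!
# Solvability passes to normal subsystems and factor systems, and back
-/

set_option autoImplicit false

open scoped commutatorElement

namespace Cfsg.Agent.FusionSys

open Cfsg Cfsg.FusionSystem

variable {Ω : Type*} [Group Ω] {S : Subgroup Ω} [Finite S] {p : ℕ} [hp : Fact p.Prime] {F : FusionSystem S}
variable {T : Subgroup Ω} {E : FusionSystem T}
variable {Ω' : Type*} [Group Ω'] {S' : Subgroup Ω'} {θ : S →* Ω'} {D : FusionSystem S'}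

omit [Finite S] in
theorem restrict_stronglyClosed (hE : E.IsSubsystemOf F) {A : Subgroup Ω} (hA : F.StronglyClosed A) :
    E.StronglyClosed (A ⊓ T) :=
  ⟨inf_le_right, fun _ hR φ hφ x =>
    ⟨hA.2 _ (hR.trans inf_le_left) φ (hE _ hφ) x, hom_apply_mem E hφ x⟩⟩

omit [Finite S] in
theorem chain_restrict (hTS : T ≤ S) (hE : E.IsSubsystemOf F) (h : HasAbChain F ⊥ S) : HasAbChain E ⊥ T := by
  obtain ⟨n, C, h0, hl, hm, hsc, hc⟩ := h
  refine ⟨n, fun i => C i ⊓ T, by simp [h0], by simp [hl, hTS],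
    fun i j hij => inf_le_inf_right _ (hm hij), fun i => restrict_stronglyClosed hE (hsc i), fun i => ?_⟩
  exact le_inf ((Subgroup.commutator_mono inf_le_left inf_le_left).trans (hc i))
    (Subgroup.commutator_le.2 fun a ha b hb =>
      T.mul_mem (T.mul_mem (T.mul_mem ha.2 hb.2) (T.inv_mem ha.2)) (T.inv_mem hb.2))

theorem chain_image (hS : IsPGroup p S) (hF : F.IsSaturated p) (hT : F.StronglyClosed T)
    (hD : F.IsFactorSystem T θ D) (h : HasAbChain F ⊥ S) : HasAbChain D ⊥ S' := by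
  obtain ⟨n, C, h0, hl, hm, hsc, hc⟩ := h
  obtain ⟨-, hker, hran, -⟩ := id hD
  refine ⟨n, fun i => imageAlong θ (C i ⊔ T), ?_, ?_, fun i j hij => ?_, fun i => ?_, fun i => ?_⟩
  · show imageAlong θ (C 0 ⊔ T) = ⊥
    unfold imageAlong
    rw [h0, bot_sup_eq, Subgroup.map_eq_bot_iff]
    exact fun s hs => (hker s).2 hs
  · show imageAlong θ (C (Fin.last n) ⊔ T) = S'
    unfold imageAlong
    rw [hl, sup_eq_left.2 hT.1, Subgroup.subgroupOf_self, ← MonoidHom.range_eq_map, hran]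
  · exact Subgroup.map_mono (Subgroup.comap_mono (sup_le_sup_right (hm hij) _))
  · exact stronglyClosed_image hD (stronglyClosed_sup hS hF (hsc i) hT) le_sup_right
  · have hT0 : (T.subgroupOf S).map θ = ⊥ := (Subgroup.map_eq_bot_iff _).2 fun s hs => (hker s).2 hs
    show ⁅imageAlong θ (C i.succ ⊔ T), imageAlong θ (C i.succ ⊔ T)⁆ ≤ imageAlong θ (C i.castSucc ⊔ T)
    unfold imageAlong
    rw [Subgroup.subgroupOf_sup (hsc _).1 hT.1, Subgroup.map_sup, hT0, sup_bot_eq, ← Subgroup.map_commutator]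
    refine Subgroup.map_mono (Subgroup.commutator_le.2 fun a ha b hb => ?_)
    exact (le_sup_left : C i.castSucc ≤ C i.castSucc ⊔ T)
      (hc i (Subgroup.commutator_mem_commutator (Subgroup.mem_subgroupOf.1 ha) (Subgroup.mem_subgroupOf.1 hb)))

theorem chain_preimage (hS : IsPGroup p S) (hF : F.IsSaturated p) (hT : F.StronglyClosed T)
    (hD : F.IsFactorSystem T θ D) (h : HasAbChain D ⊥ S') : HasAbChain F T S := by
  obtain ⟨n, C, h0, hl, hm, hsc, hc⟩ := h
  obtain ⟨-, hker, hran, -⟩ := id hD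
  refine ⟨n, fun i => preimageAlong θ (C i), ?_, ?_, fun i j hij => ?_, fun i => ?_, fun i => ?_⟩
  · ext x
    rw [mem_preimageAlong, h0]
    exact ⟨fun ⟨h1, h2⟩ => (hker _).1 (Subgroup.mem_bot.1 h2),
      fun hx => ⟨hT.1 hx, Subgroup.mem_bot.2 ((hker _).2 hx)⟩⟩
  · ext x
    rw [mem_preimageAlong, hl]
    exact ⟨fun ⟨h1, _⟩ => h1, fun hx => ⟨hx, hran ▸ ⟨_, rfl⟩⟩⟩
  · exact Subgroup.map_mono (Subgroup.comap_mono (hm hij))
  · exact stronglyClosed_preimage hS hF hT hD (hsc i)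
  · rw [Subgroup.commutator_le]
    intro a ha b hb
    obtain ⟨haS, ham⟩ := (mem_preimageAlong _ _ _).1 ha
    obtain ⟨hbS, hbm⟩ := (mem_preimageAlong _ _ _).1 hb
    refine (mem_preimageAlong _ _ _).2 ⟨(⁅(⟨a, haS⟩ : S), (⟨b, hbS⟩ : S)⁆).2, ?_⟩
    have h1 := hc i (Subgroup.commutator_mem_commutator ham hbm)
    rw [← map_commutatorElement] at h1
    exact h1

omit [Finite S] in
/-- Automorphisms of the carrier carry strongly closed subgroups of an invariant subsystem to such. -/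
theorem stronglyClosed_autImage (hE : E.IsInvariantIn F) {α : MulAut T} (hα : α ∈ F.autGroup T) {B : Subgroup Ω}
    (hB : E.StronglyClosed B) : E.StronglyClosed ((B.subgroupOf T).map (T.subtype.comp α.toMonoidHom)) := by
  refine ⟨by rintro _ ⟨x, -, rfl⟩; exact (α x).2, fun R hR φ hφ x => ?_⟩
  have hRT : R ≤ T := hom_le E hφ
  obtain ⟨χ, hχ, he⟩ := hE.2.2.1 R hRT φ hφ α⁻¹ (inv_mem hα)
  have hle : (R.subgroupOf T).map (T.subtype.comp (α⁻¹ : MulAut T).toMonoidHom) ≤ B := by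
    rintro _ ⟨r, hr, rfl⟩
    obtain ⟨b, hb, hbe⟩ := hR hr
    have e : α b = r := Subtype.ext hbe
    show (((α⁻¹ : MulAut T) r : T) : Ω) ∈ B
    rw [← e, show (α⁻¹ : MulAut T) (α b) = b from α.symm_apply_apply b]
    exact hb
  have hφT := hom_apply_mem E hφ x
  have hmem : ((((α⁻¹ : MulAut T) ⟨x, hRT x.2⟩ : T) : Ω)) ∈
      (R.subgroupOf T).map (T.subtype.comp (α⁻¹ : MulAut T).toMonoidHom) := ⟨⟨x, hRT x.2⟩, x.2, rfl⟩
  have h1 := hB.2 _ hle χ hχ ⟨_, hmem⟩
  rw [he x hφT hmem] at h1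
  refine ⟨(α⁻¹ : MulAut T) ⟨φ x, hφT⟩, h1, ?_⟩
  show ((α ((α⁻¹ : MulAut T) ⟨φ x, hφT⟩) : T) : Ω) = φ x
  rw [show α ((α⁻¹ : MulAut T) ⟨φ x, hφT⟩) = ⟨φ x, hφT⟩ from α.apply_symm_apply _]

/-- One step up inside the carrier of a solvable invariant subsystem. -/
theorem exists_step_in_carrier (hS : IsPGroup p S) (hEsat : E.IsSaturated p)
    (hE : E.IsInvariantIn F) (hsol : E.IsSolvableSystem) {R : Subgroup Ω} (hR : F.StronglyClosed R)
    (hRT : R ≤ T) (hne : R ≠ T) :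
    ∃ A, F.StronglyClosed A ∧ A ≤ T ∧ R < A ∧ ⁅A, A⁆ ≤ R := by
  have hTF := hE.2.1
  haveI := finite_of_le (S := S) hTF.1
  have hT : IsPGroup p T := hS.to_le hTF.1
  have hRE : E.StronglyClosed R := by simpa [hRT] using restrict_stronglyClosed hE.1 hR
  haveI hn : (R.subgroupOf T).Normal :=
    ⟨fun x hx g => (Subgroup.mem_normalizer_iff.1 (stronglyClosed_le_normalizer hRE g.2) _).1 hx⟩
  set π := QuotientGroup.mk' (R.subgroupOf T) with hπ
  have hker : ∀ s : T, π s = 1 ↔ (s : Ω) ∈ R := fun s => QuotientGroup.eq_one_iff s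
  have hran : π.range = (⊤ : Subgroup (T ⧸ R.subgroupOf T)) :=
    MonoidHom.range_eq_top.2 (QuotientGroup.mk'_surjective _)
  set G := factorSystem E hRE π hker hran
  have hG : E.IsFactorSystem R π G := ⟨hRE.1, hker, hran, fun _ _ => Iff.rfl⟩
  -- the candidates
  set Cand : Set (Subgroup Ω) := {B | R ≤ B ∧ E.StronglyClosed B ∧ ⁅B, B⁆ ≤ R}
  have hfin : Cand.Finite := setOf_le_finite.subset fun B hB => hB.2.1.1
  set N := sSup Cand
  have hN : E.StronglyClosed N ∧ G.IsNormal (imageAlong π N) := by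
    refine sSup_induction_finite (p := fun B => E.StronglyClosed B ∧ G.IsNormal (imageAlong π B)) hfin
      ⟨stronglyClosed_bot E, ?_⟩ ?_ fun B hB => ⟨hB.2.1, ?_⟩
    · rw [show imageAlong π ⊥ = ⊥ by simp [imageAlong]]
      exact isNormal_bot G
    · intro B C hB hC
      refine ⟨stronglyClosed_sup hT hEsat hB.1 hC.1, ?_⟩
      unfold imageAlong
      rw [Subgroup.subgroupOf_sup hB.1.1 hC.1.1, Subgroup.map_sup]
      exact isNormal_sup hB.2 hC.2
    · exact isNormal_of_abelian ((hT.to_quotient _).to_subgroup _) (factor_top_saturated hT hEsat hRE hG)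
        (stronglyClosed_image hG hB.2.1 hB.1) (abelian_of_commutator hB.2.1.1 hB.2.2)
  obtain ⟨A₀, hA₀, hlt₀, hab₀⟩ := exists_abelian_step hT hEsat hsol hRE hne
  have hA₀N : A₀ ≤ N := le_sSup (show A₀ ∈ Cand from ⟨hlt₀.le, hA₀, hab₀⟩)
  have hRN : R ≤ N := hlt₀.le.trans hA₀N
  set Z := imageAlong π N ⊓ Subgroup.centralizer (imageAlong π N : Set (T ⧸ R.subgroupOf T))
  have hZ := stronglyClosed_center_of_normal hN.2
  have hZne : Z ≠ ⊥ := by
    refine center_ne_bot_of_ne_bot ((hT.to_quotient _).to_subgroup _) fun h => hlt₀.ne ?_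
    refine le_antisymm hlt₀.le fun a ha => ?_
    have h1 : π ⟨a, hA₀.1 ha⟩ ∈ imageAlong π N := mem_imageAlong.2 ⟨a, _, hA₀N ha, rfl⟩
    rw [h, Subgroup.mem_bot] at h1
    exact (hker _).1 h1
  set A := preimageAlong π Z with hA
  have hAE := stronglyClosed_preimage hT hEsat hRE hG hZ
  have hmemA : ∀ (x : Ω), x ∈ A → x ∈ N ∧ ∀ y ∈ N, ⁅x, y⁆ ∈ R := by
    intro x hx
    obtain ⟨hxT, hxm⟩ := (mem_preimageAlong _ _ _).1 hx
    obtain ⟨z, hzT, hzN, hze⟩ := mem_imageAlong.1 hxm.1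
    refine ⟨?_, fun y hy => ?_⟩
    · have h := hRN ((hker ((⟨z, hzT⟩ : T)⁻¹ * ⟨x, hxT⟩)).1 (by rw [map_mul, map_inv, hze, inv_mul_cancel]))
      have h2 := N.mul_mem hzN h
      simpa using h2
    · refine (hker ⁅(⟨x, hxT⟩ : T), (⟨y, hN.1.1 hy⟩ : T)⁆).1 ?_
      rw [map_commutatorElement, commutatorElement_eq_one_iff_mul_comm]
      exact (Subgroup.mem_centralizer_iff.1 hxm.2 _ (mem_imageAlong.2 ⟨y, _, hy, rfl⟩)).symm
  have hmemA' : ∀ (x : Ω), x ∈ N → (∀ y ∈ N, ⁅x, y⁆ ∈ R) → x ∈ A := by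
    intro x hxN hxy
    refine (mem_preimageAlong _ _ _).2 ⟨hN.1.1 hxN, mem_imageAlong.2 ⟨x, _, hxN, rfl⟩,
      Subgroup.mem_centralizer_iff.2 fun w hw => ?_⟩
    obtain ⟨y, hyT, hyN, rfl⟩ := mem_imageAlong.1 hw
    have h : π ⁅(⟨x, hN.1.1 hxN⟩ : T), (⟨y, hyT⟩ : T)⁆ = 1 := (hker _).2 (hxy y hyN)
    rw [map_commutatorElement, commutatorElement_eq_one_iff_mul_comm] at h
    exact h.symm
  -- automorphisms of the carrier fix R, N and hence A
  have hRα : ∀ α ∈ F.autGroup T, ∀ r : T, (r : Ω) ∈ R → ((α r : T) : Ω) ∈ R := by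
    intro α hα r hr
    obtain ⟨φ, hφ, -, he⟩ := autGroup_apply_mem_hom F hTF.1 hα
    have h1 := hR.2 R le_rfl _ (restrict_mem F hφ hRT) ⟨r, hr⟩
    rw [← he r]
    exact h1
  have hNα : ∀ α ∈ F.autGroup T, ∀ x : T, (x : Ω) ∈ N → ((α x : T) : Ω) ∈ N := by
    intro α hα
    have hle : N ≤ ((N.subgroupOf T).comap α.toMonoidHom).map T.subtype := by
      refine sSup_le fun B hB => ?_
      have hB' : (B.subgroupOf T).map (T.subtype.comp α.toMonoidHom) ∈ Cand := by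
        refine ⟨fun r hr => ⟨(α⁻¹ : MulAut T) ⟨r, hRT hr⟩, hB.1 (hRα _ (inv_mem hα) _ hr), ?_⟩,
          stronglyClosed_autImage hE hα hB.2.1, ?_⟩
        · show ((α ((α⁻¹ : MulAut T) ⟨r, hRT hr⟩) : T) : Ω) = r
          rw [show α ((α⁻¹ : MulAut T) ⟨r, hRT hr⟩) = ⟨r, hRT hr⟩ from α.apply_symm_apply _]
        · rw [Subgroup.commutator_le]
          rintro _ ⟨a, ha, rfl⟩ _ ⟨b, hb, rfl⟩
          have h1 : ((⁅a, b⁆ : T) : Ω) ∈ R := hB.2.2 (Subgroup.commutator_mem_commutator ha hb)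
          have h2 := hRα α hα _ h1
          rw [map_commutatorElement] at h2
          exact h2
      intro x hx
      exact ⟨⟨x, hB.2.1.1 hx⟩, le_sSup hB' ⟨⟨x, hB.2.1.1 hx⟩, hx, rfl⟩, rfl⟩
    intro x hx
    obtain ⟨x', hx', he⟩ := hle hx
    rw [show x = x' from Subtype.ext he.symm]
    exact hx'
  have hAT : A ≤ T := hAE.1
  have hAα : ∀ α ∈ F.autGroup T, ∀ x : T, (x : Ω) ∈ A → ((α x : T) : Ω) ∈ A := by
    intro α hα x hx
    obtain ⟨hxN, hxy⟩ := hmemA x hx
    refine hmemA' _ (hNα α hα x hxN) fun y hy => ?_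
    have h1 := hNα _ (inv_mem hα) ⟨y, hN.1.1 hy⟩ hy
    have h2 := hRα α hα ⁅x, (α⁻¹ : MulAut T) ⟨y, hN.1.1 hy⟩⁆ (hxy _ h1)
    rw [map_commutatorElement, show α ((α⁻¹ : MulAut T) ⟨y, hN.1.1 hy⟩) = ⟨y, hN.1.1 hy⟩ from α.apply_symm_apply _]
      at h2
    exact h2
  refine ⟨A, ⟨hAT.trans hTF.1, fun P hP φ hφ x => ?_⟩, hAT, lt_of_le_of_ne ?_ ?_, ?_⟩
  · obtain ⟨α, hα, φ₀, hφ₀, he⟩ := hE.2.2.2 P (hP.trans hAT) φ hφ
    rw [he x (hom_apply_mem E hφ₀ x)]
    exact hAα α hα _ (hAE.2 P hP φ₀ hφ₀ x)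
  · intro r hr
    exact (mem_preimageAlong _ _ _).2 ⟨hRT hr, by rw [(hker ⟨r, hRT hr⟩).2 hr]; exact one_mem _⟩
  · intro he
    refine hZne (eq_bot_iff.2 fun z hz => ?_)
    obtain ⟨s, rfl⟩ := QuotientGroup.mk'_surjective (R.subgroupOf T) z
    have h1 : (s : Ω) ∈ A := (mem_preimageAlong _ _ _).2 ⟨s.2, hz⟩
    rw [← he] at h1
    exact Subgroup.mem_bot.2 ((hker s).2 h1)
  · rw [Subgroup.commutator_le]
    exact fun a ha b hb => (hmemA a ha).2 b (hmemA b hb).1

/-- Chains for the subsystem and for the factor system give a chain for the system. -/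
theorem chain_of_parts (hS : IsPGroup p S) (hF : F.IsSaturated p) (hEsat : E.IsSaturated p)
    (hE : E.IsInvariantIn F) (hsol : E.IsSolvableSystem) (hD : F.IsFactorSystem T θ D)
    (h : HasAbChain D ⊥ S') {R : Subgroup Ω} (hR : F.StronglyClosed R) (hRT : R ≤ T) : HasAbChain F R S := by
  induction hk : Nat.card T - Nat.card R using Nat.strong_induction_on generalizing R with
  | _ k ih =>
  by_cases hne : R = T
  · subst hne; exact chain_preimage hS hF hE.2.1 hD h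
  obtain ⟨A, hA, hAT, hlt, hab⟩ := exists_step_in_carrier hS hEsat hE hsol hR hRT hne
  refine hasAbChain_cons hR hlt.le hab (ih _ ?_ hA hAT rfl)
  haveI := finite_of_le (S := S) hE.2.1.1
  haveI := finite_of_le (S := S) hA.1
  have h1 : Nat.card R < Nat.card A :=
    Set.Finite.card_lt_card (Set.toFinite (A : Set Ω)) (SetLike.coe_ssubset_coe.2 hlt)
  have h2 : Nat.card A ≤ Nat.card T := Subgroup.card_le_of_le hAT
  omega

/-- A system is solvable exactly when a normal subsystem and the factor system modulo its carrier are. -/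
theorem solvable_iff_parts (hS : IsPGroup p S) (hF : F.IsSaturated p) (hE : E.IsNormalIn F p)
    (hD : F.IsFactorSystem T θ D) : F.IsSolvableSystem ↔ E.IsSolvableSystem ∧ D.IsSolvableSystem := by
  obtain ⟨⟨hEsat, -, hinv⟩, -⟩ := hE
  have hT := hinv.2.1
  haveI := finite_of_le (S := S) hT.1
  haveI : Finite S' := by
    rw [← hD.2.2.1]
    exact Finite.of_surjective θ.rangeRestrict θ.rangeRestrict_surjective
  have hTp : IsPGroup p T := hS.to_le hT.1
  have hS' : IsPGroup p S' := by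
    rw [← hD.2.2.1]
    exact IsPGroup.of_surjective hS θ.rangeRestrict θ.rangeRestrict_surjective
  have hDsat : D.IsSaturated p := saturated_of_surjectiveMorphism hS hF (factor_surjectiveMorphism hS hF hT hD)
  constructor
  · intro h
    have hc := chain_of_solvable hS hF h (stronglyClosed_bot F)
    exact ⟨solvable_of_chain hTp hEsat (chain_restrict hT.1 hinv.1 hc),
      solvable_of_chain hS' hDsat (chain_image hS hF hT hD hc)⟩
  · rintro ⟨h1, h2⟩
    exact solvable_of_chain hS hF (chain_of_parts hS hF hEsat hinv h1 hD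
      (chain_of_solvable hS' hDsat h2 (stronglyClosed_bot D)) (stronglyClosed_bot F) bot_le)

end Cfsg.Agent.FusionSys
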