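import Cfsg.Agent.Lib.Qd.SectionFree
import Cfsg.Agent.Lib.Fusion.ModelLocal
import Cfsg.Agent.Lib.Fusion.Local
import Cfsg.Prelude.Def_FusionReduction

/-!
# Systems realized by `Qd(p)`-free groups are solvable
-/

set_option autoImplicit false

namespace Cfsg.Agent.FusionSys

open Cfsg Cfsg.FusionSystem

universe u v

variable {Ω : Type u} [Group Ω] {S : Subgroup Ω} {p : ℕ} [hp : Fact p.Prime] {F : FusionSystem S}
  {G : Type v} [Group G] [Finite G] {ι : S →* G}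

omit [Finite G] in
theorem hom_apply_mem_of_sup {P Q : Subgroup Ω} {R : Subgroup G} (ψ : ↥(P ⊔ Q) →* G)
    (hP : ∀ x : P, ψ (Subgroup.inclusion le_sup_left x) ∈ R)
    (hQ : ∀ x : Q, ψ (Subgroup.inclusion le_sup_right x) ∈ R) (x : ↥(P ⊔ Q)) : ψ x ∈ R := by
  have hle : P ⊔ Q ≤ (R.comap ψ).map (P ⊔ Q).subtype :=
    sup_le (fun y hy => ⟨_, hP ⟨y, hy⟩, rfl⟩) fun y hy => ⟨_, hQ ⟨y, hy⟩, rfl⟩
  obtain ⟨y, hy, he⟩ := hle x.2
  rw [show x = y from Subtype.ext he.symm]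
  exact hy

/-- The value of a functor controlling strong fusion gives a nontrivial normal subgroup of the system. -/
theorem core_ne_bot_of_functor {W₀ : ∀ (Q : Type v) [Group Q], Subgroup Q} (hW : IsCharPFunctor.{v} p W₀)
    (hctl : Functors.CtlSF p {W₀} G) (hι : F.IsRealizedBy ι) (T : Sylow p G)
    (hT : (T : Subgroup G) = ι.range) (hS : S ≠ ⊥) : F.core ≠ ⊥ := by
  set W := inducedFunctor (G := G) W₀ (T : Subgroup G) with hWdef
  have hWT : W ≤ T := Subgroup.map_subtype_le _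
  have hsf := Functors.sfAt_top_of_ctl (by simpa using hW) T hctl
  rw [Functors.indSet_singleton] at hsf
  have hTne : (T : Subgroup G) ≠ ⊥ := by
    rw [hT]
    intro h0
    refine hS (eq_bot_iff.2 fun x hx => ?_)
    have h1 : ι ⟨x, hx⟩ = ι 1 := by
      rw [map_one, ← Subgroup.mem_bot, ← h0]; exact ⟨_, rfl⟩
    exact congrArg Subtype.val (hι.1 h1)
  have hWne : W ≠ ⊥ := by
    intro h0
    haveI := (Subgroup.nontrivial_iff_ne_bot _).2 hTne
    exact hW.1 _ T.isPGroup' inferInstance ((Subgroup.map_eq_bot_iff_of_injective _ (Subgroup.subtype_injective _)).1 h0)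
  set V : Subgroup Ω := (W.comap ι).map S.subtype with hV
  have hVS : V ≤ S := Subgroup.map_subtype_le _
  have hVι : ∀ s : S, (s : Ω) ∈ V → ι s ∈ W := by
    rintro s ⟨s', hs', he⟩
    exact (Subtype.ext he : s' = s) ▸ hs'
  have hVmem : ∀ s : S, ι s ∈ W → (s : Ω) ∈ V := fun s hs => ⟨s, hs, rfl⟩
  have hnormal : F.IsNormal V := by
    refine ⟨hVS, fun P φ hφ => ?_⟩
    have hP := (F.le_of_mem hφ).1
    have hφS := (F.le_of_mem hφ).2
    obtain ⟨g, hg⟩ := (hι.2 P hP φ hφS).1 hφ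
    obtain ⟨x, hx, hxa⟩ := Functors.exists_of_sfAt_singleton hsf (Subgroup.mem_top g)
      (A := Set.range fun y : P => ι ⟨y, hP y.2⟩) (by rintro _ ⟨y, rfl⟩; rw [hT]; exact ⟨_, rfl⟩)
      (by rintro _ ⟨_, ⟨y, rfl⟩, rfl⟩; rw [hT]; exact ⟨_, hg y⟩)
    have hxW : ∀ w ∈ W, x * w * x⁻¹ ∈ W := fun w hw => (Subgroup.mem_normalizer_iff.1 (Subgroup.mem_inf.1 hx).2 w).1 hw
    set c : ↥(P ⊔ V) →* G := ((MulAut.conj x).toMonoidHom.comp ι).comp (Subgroup.inclusion (sup_le hP hVS)) with hc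
    have hcP : ∀ y : P, c (Subgroup.inclusion le_sup_left y) = ι ⟨φ y, hφS y⟩ := fun y => by
      show x * ι ⟨(y : Ω), _⟩ * x⁻¹ = _
      rw [hg y]
      exact hxa _ ⟨y, rfl⟩
    have hcr : ∀ y, c y ∈ ι.range :=
      hom_apply_mem_of_sup c (fun y => ⟨_, (hcP y).symm⟩) fun w => by
        rw [← hT]; exact hWT (hxW _ (hVι ⟨_, hVS w.2⟩ w.2))
    set e := MonoidHom.ofInjective hι.1
    set ψ : ↥(P ⊔ V) →* Ω := S.subtype.comp (e.symm.toMonoidHom.comp (c.codRestrict ι.range hcr)) with hψ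
    have hψS : ∀ y, ψ y ∈ S := fun y => SetLike.coe_mem _
    have hψι : ∀ y, ι ⟨ψ y, hψS y⟩ = c y := fun y => congrArg Subtype.val (e.apply_symm_apply ⟨_, hcr y⟩)
    refine ⟨ψ, (hι.2 _ (sup_le hP hVS) ψ hψS).2 ⟨x, fun y => hψι y⟩, fun y => ?_, ?_⟩
    · exact congrArg Subtype.val (hι.1 ((hψι _).trans (hcP y)) :
        (⟨ψ (Subgroup.inclusion le_sup_left y), hψS _⟩ : S) = ⟨φ y, hφS y⟩)
    · rw [map_subgroupOf_eq_iff _ le_sup_right]
      refine ⟨fun w => hVmem ⟨_, hψS _⟩ ?_, fun z hz => ?_⟩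
      · rw [hψι]; exact hxW _ (hVι ⟨_, hVS w.2⟩ w.2)
      · have hz' := hVι ⟨z, hVS hz⟩ hz
        have h1 : x⁻¹ * ι ⟨z, hVS hz⟩ * x ∈ W := by
          simpa using (Subgroup.mem_normalizer_iff.1 (inv_mem (Subgroup.mem_inf.1 hx).2) _).1 hz'
        obtain ⟨s, hs⟩ := (hT ▸ hWT h1 : x⁻¹ * ι ⟨z, hVS hz⟩ * x ∈ ι.range)
        refine ⟨⟨s, hVmem s (by rw [hs]; exact h1)⟩, ?_⟩
        refine congrArg Subtype.val (hι.1 ((hψι _).trans ?_) : (⟨ψ _, hψS _⟩ : S) = ⟨z, hVS hz⟩)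
        show x * ι ⟨(s : Ω), _⟩ * x⁻¹ = _
        rw [show ι ⟨(s : Ω), _⟩ = x⁻¹ * ι ⟨z, hVS hz⟩ * x from hs]
        group
  intro h0
  refine hWne (eq_bot_iff.2 fun w hw => ?_)
  obtain ⟨s, rfl⟩ := (hT ▸ hWT hw : w ∈ ι.range)
  have h1 : (s : Ω) ∈ F.core := isNormal_le_core hnormal (hVmem s hw)
  rw [h0, Subgroup.mem_bot] at h1
  rw [Subgroup.mem_bot, show s = 1 from Subtype.ext h1, map_one]

/-- A system realized by an `H`-free group is solvable, given a functor controlling strong fusion in `H`-free groups. -/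
theorem solvable_of_functor {H : Type*} [Group H] {W₀ : ∀ (Q : Type v) [Group Q], Subgroup Q}
    (hW : IsCharPFunctor.{v} p W₀)
    (hctl : ∀ (X : Type v) [Group X] [Finite X], ¬ Involves H X → Functors.CtlSF p {W₀} X)
    (hι : F.IsRealizedBy ι) (T : Sylow p G)
    (hT : (T : Subgroup G) = ι.range) (hfree : ¬ Involves H G) : F.IsSolvableSystem := by
  intro R hR hRS hn E hE
  set R₀ := R.subgroupOf S with hR₀
  set Rι : Subgroup G := R₀.map ι with hRι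
  set N := Subgroup.normalizer (Rι : Set G) with hN
  have hιN : ∀ s : S, ι s ∈ N := by
    intro s
    refine mem_normalizer_of_conj_mem _ ?_ ?_ <;> rintro _ ⟨r, hr, rfl⟩
    · exact ⟨s * r * s⁻¹, hn.conj_mem r hr s, by simp⟩
    · exact ⟨s⁻¹ * r * s, by simpa using hn.conj_mem r hr s⁻¹, by simp⟩
  set K := Rι.subgroupOf N with hK
  set ι₁ : S →* N ⧸ K := (QuotientGroup.mk' K).comp (ι.codRestrict N hιN) with hι₁
  have hker : ∀ s : S, ι₁ s = 1 ↔ s ∈ R₀ := by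
    intro s
    show QuotientGroup.mk (⟨ι s, hιN s⟩ : N) = (1 : N ⧸ K) ↔ _
    rw [QuotientGroup.eq_one_iff]
    exact ⟨fun ⟨r, hr, he⟩ => hι.1 he ▸ hr, fun hs => ⟨s, hs, rfl⟩⟩
  set ι' : S ⧸ R₀ →* N ⧸ K := QuotientGroup.lift R₀ ι₁ fun s hs => (hker s).2 hs with hι'
  have hι'inj : Function.Injective ι' := by
    rw [injective_iff_map_eq_one]
    rintro ⟨s⟩ hs
    exact (QuotientGroup.eq_one_iff s).2 ((hker s).1 hs)
  set κ : (⊤ : Subgroup (S ⧸ R₀)) →* N ⧸ K := ι'.comp (⊤ : Subgroup (S ⧸ R₀)).subtype with hκ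
  have hreal : E.IsRealizedBy κ := by
    refine ⟨hι'inj.comp Subtype.coe_injective, fun P' hP' φ' hφ' => ?_⟩
    rw [hE.2.2.2 P' φ']
    constructor
    · rintro ⟨-, φ, hφ, hPS, hφS, hPm, hind⟩
      obtain ⟨g, hg⟩ := (hι.2 _ hPS φ hφS).1 hφ
      have hRpre : R ≤ preimageAlong (QuotientGroup.mk' R₀) P' := fun r hr =>
        (mem_preimageAlong _ _ _).2 ⟨hR.1 hr, by
          rw [QuotientGroup.mk'_apply, (QuotientGroup.eq_one_iff (⟨r, hR.1 hr⟩ : S)).2 hr]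
          exact one_mem _⟩
      have hgN : g ∈ N := by
        have key : ∀ a ∈ Rι, g * a * g⁻¹ ∈ Rι := by
          rintro _ ⟨r, hr, rfl⟩
          refine ⟨⟨φ ⟨r, hRpre hr⟩, hφS _⟩, ?_, hg ⟨r, hRpre hr⟩⟩
          exact hR.2 R le_rfl _ (restrict_mem F hφ hRpre) ⟨r, hr⟩
        have heq : Rι.map (MulAut.conj g).toMonoidHom = Rι :=
          Subgroup.eq_of_le_of_card_ge (by rintro _ ⟨a, ha, rfl⟩; exact key a ha)
            (Subgroup.card_map_of_injective (MulAut.conj g).injective).ge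
        refine mem_normalizer_of_conj_mem g key fun a ha => ?_
        rw [← heq] at ha
        obtain ⟨b, hb, rfl⟩ := ha
        show g⁻¹ * (g * b * g⁻¹) * g ∈ Rι
        rw [show g⁻¹ * (g * b * g⁻¹) * g = b by group]
        exact hb
      refine ⟨(QuotientGroup.mk (⟨g, hgN⟩ : N)), fun y => ?_⟩
      obtain ⟨y, hy⟩ := y
      obtain ⟨s, rfl⟩ := QuotientGroup.mk_surjective y
      have hs : (s : Ω) ∈ preimageAlong (QuotientGroup.mk' R₀) P' := (mem_preimageAlong _ _ _).2 ⟨s.2, hy⟩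
      show ι' (φ' ⟨QuotientGroup.mk s, hy⟩) = QuotientGroup.mk (⟨g, hgN⟩ : N) * ι₁ s * (QuotientGroup.mk (⟨g, hgN⟩ : N))⁻¹
      rw [show φ' ⟨QuotientGroup.mk s, hy⟩ = QuotientGroup.mk' R₀ ⟨φ ⟨s, hs⟩, hφS _⟩ from hind ⟨s, hs⟩]
      show ι₁ ⟨φ ⟨s, hs⟩, hφS _⟩ = _
      show QuotientGroup.mk (⟨ι ⟨φ ⟨s, hs⟩, hφS _⟩, hιN _⟩ : N) =
        QuotientGroup.mk (⟨g, hgN⟩ : N) * QuotientGroup.mk (⟨ι s, hιN s⟩ : N) * (QuotientGroup.mk (⟨g, hgN⟩ : N))⁻¹
      rw [← QuotientGroup.mk_mul, ← QuotientGroup.mk_inv, ← QuotientGroup.mk_mul]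
      exact congrArg _ (Subtype.ext (hg ⟨s, hs⟩))
    · rintro ⟨q, hq⟩
      obtain ⟨⟨g, hgN⟩, rfl⟩ := QuotientGroup.mk_surjective q
      set P := preimageAlong (QuotientGroup.mk' R₀) P' with hP
      have hPS : P ≤ S := Subgroup.map_subtype_le _
      set c : P →* G := ((MulAut.conj g).toMonoidHom.comp ι).comp (Subgroup.inclusion hPS) with hc
      have hval : ∀ y : P, ∃ t : S, ι t = c y ∧
          ∀ h : QuotientGroup.mk' R₀ ⟨y, hPS y.2⟩ ∈ P', φ' ⟨_, h⟩ = QuotientGroup.mk t := by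
        intro y
        obtain ⟨hyS, hy⟩ := (mem_preimageAlong _ _ _).1 y.2
        obtain ⟨t, ht⟩ := QuotientGroup.mk_surjective (φ' ⟨_, hy⟩)
        have h1 : ι' (φ' ⟨_, hy⟩) = QuotientGroup.mk (⟨g, hgN⟩ : N) * ι₁ ⟨y, hyS⟩ * (QuotientGroup.mk (⟨g, hgN⟩ : N))⁻¹ :=
          hq ⟨_, hy⟩
        rw [← ht] at h1
        change QuotientGroup.mk (⟨ι t, hιN t⟩ : N) = QuotientGroup.mk (⟨g, hgN⟩ : N) *
          QuotientGroup.mk (⟨ι ⟨y, hyS⟩, hιN _⟩ : N) * (QuotientGroup.mk (⟨g, hgN⟩ : N))⁻¹ at h1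
        rw [← QuotientGroup.mk_mul, ← QuotientGroup.mk_inv, ← QuotientGroup.mk_mul, QuotientGroup.eq] at h1
        obtain ⟨r, hr, hre⟩ := h1
        refine ⟨t * r, ?_, fun h => ?_⟩
        · rw [map_mul, hre]
          show ι t * ((ι t)⁻¹ * (g * ι ⟨y, hyS⟩ * g⁻¹)) = _
          rw [mul_inv_cancel_left]; rfl
        · rw [← ht, QuotientGroup.eq, inv_mul_cancel_left]; exact hr
      choose t htι htφ using hval
      have hcr : ∀ y, c y ∈ ι.range := fun y => ⟨t y, htι y⟩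
      set e := MonoidHom.ofInjective hι.1
      set φ : P →* Ω := S.subtype.comp (e.symm.toMonoidHom.comp (c.codRestrict ι.range hcr)) with hφdef
      have hφS : ∀ y, φ y ∈ S := fun y => SetLike.coe_mem _
      have hφι : ∀ y, ι ⟨φ y, hφS y⟩ = c y := fun y => congrArg Subtype.val (e.apply_symm_apply ⟨_, hcr y⟩)
      refine ⟨le_top, φ, (hι.2 P hPS φ hφS).2 ⟨g, fun y => hφι y⟩, hPS, hφS,
        fun y => ((mem_preimageAlong _ _ _).1 y.2).2, fun y => ?_⟩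
      rw [htφ y, hι.1 ((hφι y).trans (htι y).symm)]
      rfl
  -- the image of `S` is a Sylow subgroup
  have hTN : (T : Subgroup G) ≤ N := by rw [hT]; rintro _ ⟨s, rfl⟩; exact hιN s
  set T₁ := T.subtype hTN
  have hmap := T₁.mapSurjective (QuotientGroup.mk'_surjective K)
  have hκr : ((T₁.mapSurjective (QuotientGroup.mk'_surjective K) : Sylow p (N ⧸ K)) : Subgroup (N ⧸ K)) = κ.range := by
    rw [Sylow.coe_mapSurjective, Sylow.coe_subtype]
    ext z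
    constructor
    · rintro ⟨n, hn', rfl⟩
      obtain ⟨s, hs⟩ := (hT ▸ hn' : (n : G) ∈ ι.range)
      exact ⟨⟨QuotientGroup.mk s, trivial⟩, congrArg (QuotientGroup.mk' K) (Subtype.ext hs)⟩
    · rintro ⟨⟨y, -⟩, rfl⟩
      obtain ⟨s, rfl⟩ := QuotientGroup.mk_surjective y
      refine ⟨⟨ι s, hιN s⟩, ?_, rfl⟩
      show ι s ∈ (T : Subgroup G)
      rw [hT]; exact ⟨s, rfl⟩
  have hne : (⊤ : Subgroup (S ⧸ R₀)) ≠ ⊥ := by
    intro h
    refine hRS (le_antisymm hR.1 fun x hx => ?_)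
    have := (Subgroup.mem_bot).1 (h ▸ Subgroup.mem_top (QuotientGroup.mk (⟨x, hx⟩ : S) : S ⧸ R₀))
    exact (QuotientGroup.eq_one_iff (⟨x, hx⟩ : S)).1 this
  refine core_ne_bot_of_functor hW (hctl _ ?_) hreal _ hκr hne
  intro hinv
  exact hfree (involves_of_injective N.subtype Subtype.coe_injective
    (involves_of_surjective (QuotientGroup.mk' K) (QuotientGroup.mk'_surjective K) hinv))

/-- `Z(J)` of the Sylow subgroup of a `Qd(p)`-free group gives a nontrivial normal subgroup of the system. -/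
theorem core_ne_bot_of_realized (hp2 : p ≠ 2) (hι : F.IsRealizedBy ι) (T : Sylow p G)
    (hT : (T : Subgroup G) = ι.range) (hfree : ¬ Involves ↥(qd p) G) (hS : S ≠ ⊥) : F.core ≠ ⊥ :=
  core_ne_bot_of_functor (QdFree.isCharPFunctor_zJF.{v} True)
    (QdFree.ctlSF_zJ hp2 True (QdFree.pStable_sections hp2 hfree)) hι T hT hS

/-- A system realized by a `Qd(p)`-free group on a Sylow subgroup is solvable. -/
theorem solvable_of_realized (hp2 : p ≠ 2) (hι : F.IsRealizedBy ι) (T : Sylow p G)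
    (hT : (T : Subgroup G) = ι.range) (hfree : ¬ Involves ↥(qd p) G) : F.IsSolvableSystem :=
  solvable_of_functor (QdFree.isCharPFunctor_zJF.{v} True)
    (fun _ _ _ h => QdFree.ctlSF_zJ hp2 True (QdFree.pStable_sections hp2 h)) hι T hT hfree

end Cfsg.Agent.FusionSys
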