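import Cfsg.Agent.Lib.Fusion.FunctorControl
import Cfsg.Agent.Lib.Fusion.LocalEngines
import Cfsg.Agent.Lib.PStable.FusionControl
import Cfsg.Agent.Lib.PStable.StableExtension

/-!
# `p`-stable saturated systems are constrained, with `Z(J(S))` normal
-/

set_option autoImplicit false
set_option linter.style.haveILetI false

namespace Cfsg.Agent.FusionSys

open Cfsg Cfsg.FusionSystem
open scoped commutatorElement

universe u

variable {Ω : Type u} [Group Ω] {p : ℕ} [hp : Fact p.Prime] {W : ∀ (Q : Type u) [Group Q], Subgroup Q}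
  (hW2 : ∀ (Q R : Type u) [Group Q] [Group R] [Finite Q], IsPGroup p Q →
    ∀ φ : Q ≃* R, (W Q).map φ.toMonoidHom = W R)

include hW2 in
/-- In a group with Sylow subgroup `T` satisfying the normality for its sections, the relative value is normal. -/
theorem relVal_normal_central
    {T : Subgroup Ω} [Finite T] {Q : Subgroup Ω} (hQT : Q ≤ T) {L : Type u} [Group L] [Finite L] {ι : T →* L}
    (hι : Function.Injective ι) (P : Sylow p L) (hP : (P : Subgroup L) = ι.range)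
    (hL : Subgroup.centralizer ((Cfsg.pCore p L : Subgroup L) : Set L) ≤ Cfsg.pCore p L) 
    (hQn : ((Q.subgroupOf T).map ι).Normal)
    (hW3 : ∀ (H : Subgroup L) (K : Subgroup H) [K.Normal], IsPGroup p K → (∀ k ∈ K, ∀ g : H, g * k = k * g) →
      ∀ P1 : Sylow p (H ⧸ K), Subgroup.centralizer ((Cfsg.pCore p (H ⧸ K) : Subgroup (H ⧸ K)) : Set (H ⧸ K)) ≤
        Cfsg.pCore p (H ⧸ K) → ((W ↥(P1 : Subgroup (H ⧸ K))).map (P1 : Subgroup (H ⧸ K)).subtype).Normal) :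
    (((relVal W Q T).subgroupOf T).map ι).Normal := by
  haveI := hQn
  set C := centralizerIn T Q
  haveI : Finite C := finite_of_le (centralizerIn_le T Q)
  have hTp : IsPGroup p T := (hP ▸ P.2 : IsPGroup p ι.range).of_equiv (MonoidHom.ofInjective hι).symm
  set Qb := (Q.subgroupOf T).map ι with hQb
  set L0 := Subgroup.centralizer (Qb : Set L) with hL0
  haveI hL0n : L0.Normal := by rw [hL0]; infer_instance
  set ιC : C →* L := ι.comp (Subgroup.inclusion (centralizerIn_le T Q)) with hιC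
  have hιCi : Function.Injective ιC := hι.comp (Subgroup.inclusion_injective _)
  have hmem0 : ∀ t : T, ι t ∈ L0 ↔ (t : Ω) ∈ C := fun t => by
    refine ⟨fun h => ⟨t.2, Subgroup.mem_centralizer_iff.2 fun q hq => ?_⟩, fun h => ?_⟩
    · have h1 := Subgroup.mem_centralizer_iff.1 h (ι ⟨q, hQT hq⟩) ⟨_, hq, rfl⟩
      rw [← map_mul, ← map_mul] at h1
      exact congrArg Subtype.val (hι h1)
    · rintro _ ⟨q, hq, rfl⟩
      rw [← map_mul, ← map_mul]
      exact congrArg ι (Subtype.ext (Subgroup.mem_centralizer_iff.1 h.2 q hq))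
  have hC0 : ∀ c : C, ιC c ∈ L0 := fun c => (hmem0 _).2 c.2
  set j : C →* L0 := ιC.codRestrict L0 hC0
  obtain ⟨P0, hP0⟩ := Cfsg.Agent.PBasic.exists_sylow_subgroupOf P L0
  have hjr : (P0 : Subgroup L0) = j.range := by
    rw [hP0]
    ext x
    constructor
    · intro hx
      have hx' : (x : L) ∈ ι.range := hP ▸ hx
      obtain ⟨t, ht⟩ := hx'
      exact ⟨⟨t, (hmem0 t).1 (ht ▸ x.2)⟩, Subtype.ext ht⟩
    · rintro ⟨c, rfl⟩
      show ιC c ∈ (P : Subgroup L)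
      rw [hP]; exact ⟨_, rfl⟩
  set K := relKer Q T
  set K0 := Qb.subgroupOf L0 with hK0
  haveI : K0.Normal := Subgroup.Normal.subgroupOf inferInstance L0
  have hjK : ∀ c : C, j c ∈ K0 ↔ c ∈ K := fun c => by
    refine ⟨fun h => ?_, fun h => ⟨Subgroup.inclusion (centralizerIn_le T Q) c, Subgroup.mem_subgroupOf.1 h, rfl⟩⟩
    obtain ⟨t, ht, hte⟩ := Subgroup.mem_subgroupOf.1 h
    have := hι hte
    rw [this] at ht
    exact ht
  have hK0K : ∀ x : L0, x ∈ K0 → ∃ c ∈ K, j c = x := fun x hx => by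
    obtain ⟨t, ht, hte⟩ := Subgroup.mem_subgroupOf.1 hx
    exact ⟨⟨t, (hmem0 t).1 (hte ▸ x.2)⟩, ht, Subtype.ext hte⟩
  have hK0c : ∀ k ∈ K0, ∀ g : L0, g * k = k * g := fun k hk g =>
    Subtype.ext (Subgroup.mem_centralizer_iff.1 g.2 _ (Subgroup.mem_subgroupOf.1 hk)).symm
  have hK0p : IsPGroup p K0 :=
    ((hTp.to_subgroup _).map ι).comap_of_injective L0.subtype L0.subtype_injective
  have hL1 := centralizer_pCore_le_quotient (centralizer_pCore_le_of_normal hL L0) K0 hK0p hK0c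
  set f := QuotientGroup.mk' K0
  set jK : C ⧸ K →* L0 ⧸ K0 := QuotientGroup.lift K (f.comp j) fun c hc => by
    rw [MonoidHom.mem_ker, MonoidHom.comp_apply, ← MonoidHom.mem_ker, QuotientGroup.ker_mk']
    exact (hjK c).2 hc with hjKdef
  have hjKi : Function.Injective jK := (injective_iff_map_eq_one jK).2 fun x hx => by
    obtain ⟨c, rfl⟩ := QuotientGroup.mk_surjective x
    have hc : f (j c) = 1 := hx
    rw [← MonoidHom.mem_ker, QuotientGroup.ker_mk'] at hc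
    exact (QuotientGroup.eq_one_iff c).2 ((hjK c).1 hc)
  set P1 := P0.mapSurjective (QuotientGroup.mk'_surjective K0)
  have hP1 : jK.range = (P1 : Subgroup (L0 ⧸ K0)) := by
    rw [Sylow.coe_mapSurjective, hjr, ← MonoidHom.range_comp]
    ext z
    constructor
    · rintro ⟨x, rfl⟩
      obtain ⟨c, rfl⟩ := QuotientGroup.mk_surjective x
      exact ⟨c, rfl⟩
    · rintro ⟨c, rfl⟩; exact ⟨(c : C ⧸ K), rfl⟩
  set e1 : C ⧸ K ≃* (P1 : Subgroup (L0 ⧸ K0)) :=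
    (MonoidHom.ofInjective hjKi).trans (MulEquiv.subgroupCongr hP1)
  have hWe := hW2 _ _ ((hTp.to_le (centralizerIn_le T Q)).to_quotient K) e1
  haveI hW1n : ((W (C ⧸ K)).map jK).Normal := by
    have h := hW3 L0 K0 hK0p hK0c P1 hL1
    rw [← hWe, Subgroup.map_map] at h
    convert h using 2
    ext x; rfl
  set W0 := ((W (C ⧸ K)).map jK).comap f
  have hW0 : W0 = (relSub W Q T).map j := by
    ext x
    constructor
    · rintro ⟨y, hy, hye⟩
      obtain ⟨c, rfl⟩ := QuotientGroup.mk_surjective y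
      have h1 : (j c)⁻¹ * x ∈ K0 := QuotientGroup.eq.1 (show (f (j c)) = f x from hye)
      obtain ⟨k, hk, hke⟩ := hK0K _ h1
      refine ⟨c * k, ?_, by rw [map_mul, hke, mul_inv_cancel_left]⟩
      show QuotientGroup.mk' K (c * k) ∈ W _
      rw [map_mul, show QuotientGroup.mk' K k = 1 from (QuotientGroup.eq_one_iff k).2 hk, mul_one]
      exact hy
    · rintro ⟨c, hc, rfl⟩
      exact ⟨_, hc, rfl⟩
  have hV : ((relVal W Q T).subgroupOf T).map ι = W0.map L0.subtype := by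
    rw [hW0, Subgroup.map_map]
    ext x
    constructor
    · rintro ⟨t, ⟨c, hc, hce⟩, rfl⟩
      exact ⟨c, hc, congrArg ι (Subtype.ext hce)⟩
    · rintro ⟨c, hc, rfl⟩
      exact ⟨_, ⟨c, hc, rfl⟩, rfl⟩
  rw [hV]
  refine ⟨?_⟩
  rintro _ ⟨x, hx, rfl⟩ g
  obtain ⟨n, hn, h, hh, rfl⟩ := exists_frattini P L0 g
  have hx1 : (⟨h, hh⟩ : L0) * x * (⟨h, hh⟩ : L0)⁻¹ ∈ W0 :=
    Subgroup.Normal.conj_mem (Subgroup.Normal.comap hW1n f) x hx _
  generalize hy : (⟨h, hh⟩ : L0) * x * (⟨h, hh⟩ : L0)⁻¹ = y at hx1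
  have hgoal : n * h * L0.subtype x * (n * h)⁻¹ = n * (y : L) * n⁻¹ := by
    rw [← hy]
    show n * h * (x : L) * (n * h)⁻¹ = n * (h * (x : L) * h⁻¹) * n⁻¹
    group
  rw [hgoal]
  rw [hW0] at hx1
  obtain ⟨c, hc, rfl⟩ := hx1
  -- the automorphism of `C` induced by `n`
  have hrange : ιC.range = (P : Subgroup L) ⊓ L0 := by
    rw [hP]
    ext z
    constructor
    · rintro ⟨d, rfl⟩; exact ⟨⟨_, rfl⟩, hC0 d⟩
    · rintro ⟨⟨t, rfl⟩, ht⟩; exact ⟨⟨t, (hmem0 t).1 ht⟩, rfl⟩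
  rw [← hrange] at hn
  set eC := MonoidHom.ofInjective hιCi
  set a : C ≃* C := eC.trans ((ιC.range.normalizerMonoidHom ⟨n, hn⟩).trans eC.symm)
  have ha : ∀ d, ιC (a d) = n * ιC d * n⁻¹ := fun d =>
    congrArg Subtype.val (eC.apply_symm_apply (ιC.range.normalizerMonoidHom ⟨n, hn⟩ (eC d)))
  have haK : K.map a.toMonoidHom = K := by
    refine Subgroup.eq_of_le_of_card_ge ?_ (Subgroup.card_map_of_injective (f := a.toMonoidHom) a.injective).ge
    rintro _ ⟨d, hd, rfl⟩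
    refine (hjK _).1 ?_
    show ιC (a d) ∈ Qb
    rw [ha]
    exact hQn.conj_mem _ (show ιC d ∈ Qb from ⟨Subgroup.inclusion (centralizerIn_le T Q) d, Subgroup.mem_subgroupOf.1 hd, rfl⟩) n
  refine ⟨j (a c), ?_, ha c⟩
  rw [hW0]
  exact Subgroup.mem_map_of_mem j ((relSub_map hW2 hTp a haK).le ⟨c, hc, rfl⟩)


/-- Every quadratically acting automorphism of a subgroup lies in `O_p` of the automizer. -/
def QuadStable {S : Subgroup Ω} (p : ℕ) (F : FusionSystem S) : Prop :=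
  ∀ Q : Subgroup Ω, Q ≤ S → ∀ χ ∈ F.autGroup Q, (∀ a : Q, χ a⁻¹ * a * χ a⁻¹ * χ (χ a) = 1) →
    χ ∈ (Cfsg.pCore p (F.autGroup Q)).map (F.autGroup Q).subtype

/-- It suffices to check fully normalized subgroups. -/
theorem quadStable_of_fullyNormalized {S : Subgroup Ω} [Finite S] {F : FusionSystem S} (hS : IsPGroup p S)
    (hF : F.IsSaturated p)
    (h : ∀ Q : Subgroup Ω, F.IsFullyNormalized Q → ∀ χ : MulAut Q, χ ∈ F.autGroup Q →
      (∀ a : Q, χ a⁻¹ * a * χ a⁻¹ * χ (χ a) = 1) → χ ∈ (Cfsg.pCore p (F.autGroup Q)).map (F.autGroup Q).subtype) :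
    QuadStable p F := by
  intro Q hQ χ hχ hq
  obtain ⟨Q', hQ', -, -, -, -, e, -, hmap⟩ := exists_transfer hS hF hQ
  have hmem : MulAut.congr e χ ∈ F.autGroup Q' := hmap.le ⟨χ, hχ, rfl⟩
  have h1 := h Q' hQ' _ hmem fun a => by
    obtain ⟨b, rfl⟩ := e.surjective a
    simp only [← map_inv, congr_apply, e.symm_apply_apply, ← map_mul, hq, map_one]
  obtain ⟨c, hc, hce⟩ := h1
  set θ : F.autGroup Q ≃* F.autGroup Q' :=
    (Subgroup.equivMapOfInjective _ _ (MulAut.congr e).injective).trans (MulEquiv.subgroupCongr hmap) with hθ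
  have hθv : ∀ b, ((θ b : F.autGroup Q') : MulAut Q') = MulAut.congr e (b : MulAut Q) := fun b => rfl
  obtain ⟨b, rfl⟩ := θ.surjective c
  refine ⟨b, ?_, (MulAut.congr e).injective ((hθv b).symm.trans hce)⟩
  rw [SetLike.mem_coe, ← Cfsg.Agent.PBasic.map_pCore_equiv θ] at hc
  obtain ⟨b', hb', hbe⟩ := hc
  rwa [θ.injective hbe] at hb'

/-- The property passes to subsystems. -/
theorem QuadStable.mono {S T : Subgroup Ω} {F : FusionSystem S} {E : FusionSystem T} (h : QuadStable p F)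
    (hsub : E.IsSubsystemOf F) : QuadStable p E := by
  intro Q hQ χ hχ hq
  have hle := autGroup_mono hsub Q
  obtain ⟨c, hc, hce⟩ := h Q (hQ.trans (subsystem_le hsub)) χ (hle hχ) hq
  refine ⟨⟨χ, hχ⟩, ?_, rfl⟩
  haveI := (Cfsg.pCore_normal p (F.autGroup Q)).comap (Subgroup.inclusion hle)
  refine Cfsg.Agent.PBasic.le_pCore inferInstance
    ((Cfsg.Agent.PBasic.pCore_isPGroup p _).comap_of_injective _ (Subgroup.inclusion_injective hle)) ?_
  show Subgroup.inclusion hle ⟨χ, hχ⟩ ∈ Cfsg.pCore p (F.autGroup Q)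
  rwa [show Subgroup.inclusion hle ⟨χ, hχ⟩ = c from Subtype.ext hce.symm]

/-- Models of stable systems are `p`-stable in the normalizer form. -/
theorem QuadStable.model {T : Subgroup Ω} {M : FusionSystem T} (h : QuadStable p M) {L : Type u} [Group L]
    {ι : T →* L} (hL : M.IsModel p L ι) : Cfsg.IsNormalizerPStable p L := by
  obtain ⟨hfin, ⟨hι, hr⟩, ⟨P, hP⟩, -⟩ := hL
  haveI := hfin
  intro Q hQp x hx hq
  obtain ⟨R, hR⟩ := hQp.exists_le_sylow
  obtain ⟨g, hg⟩ := MulAction.exists_smul_eq L R P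
  have hconj : ∀ y ∈ Q, g * y * g⁻¹ ∈ ι.range := by
    intro y hy
    rw [← hP, ← hg]
    exact ⟨y, hR hy, rfl⟩
  -- the preimage of the conjugate
  set Q₀ : Subgroup Ω := ((Q.comap (MulAut.conj g⁻¹).toMonoidHom).comap ι).map T.subtype with hQ₀
  have hQ₀T : Q₀ ≤ T := Subgroup.map_subtype_le _
  have hmem : ∀ t : T, (t : Ω) ∈ Q₀ ↔ g⁻¹ * ι t * g ∈ Q := by
    intro t
    rw [hQ₀]
    constructor
    · rintro ⟨s, hs, hst⟩
      rw [← Subtype.ext hst]
      simpa using hs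
    · intro ht
      exact ⟨t, by simpa using ht, rfl⟩
  let κ₀ : Q₀ →* Q := MonoidHom.mk' (fun y => ⟨g⁻¹ * ι ⟨y, hQ₀T y.2⟩ * g, (hmem ⟨y, hQ₀T y.2⟩).1 y.2⟩) fun a b =>
    Subtype.ext (by
      show g⁻¹ * ι ⟨_, hQ₀T (a * b).2⟩ * g = (g⁻¹ * ι ⟨a, hQ₀T a.2⟩ * g) * (g⁻¹ * ι ⟨b, hQ₀T b.2⟩ * g)
      rw [show (⟨_, hQ₀T (a * b).2⟩ : T) = ⟨a, hQ₀T a.2⟩ * ⟨b, hQ₀T b.2⟩ from rfl, map_mul]; group)
  set κ : Q₀ ≃* Q := MulEquiv.ofBijective κ₀ ⟨fun a b hab => by
      have h1 : g⁻¹ * ι ⟨a, hQ₀T a.2⟩ * g = g⁻¹ * ι ⟨b, hQ₀T b.2⟩ * g := congrArg Subtype.val hab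
      exact Subtype.ext (congrArg (fun z : T => (z : Ω)) (hι (mul_left_cancel (mul_right_cancel h1)))), fun y => by
      obtain ⟨t, ht⟩ := hconj y y.2
      refine ⟨⟨t, (hmem t).2 (by rw [ht]; simp [mul_assoc])⟩, Subtype.ext ?_⟩
      show g⁻¹ * ι t * g = y
      rw [ht]; group⟩ with hκ
  have hκv : ∀ y : Q₀, ((κ y : Q) : L) = g⁻¹ * ι ⟨y, hQ₀T y.2⟩ * g := fun y => rfl
  set N := Subgroup.normalizer (Q : Set L)
  set Ψ : N →* MulAut Q₀ := (MulAut.congr κ.symm).toMonoidHom.comp Q.normalizerMonoidHom with hΨ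
  have hΨA : ∀ n, Ψ n ∈ M.autGroup Q₀ := by
    intro n
    rw [mem_autGroup_iff M hQ₀T]
    refine (hr Q₀ hQ₀T _ fun y => hQ₀T (Ψ n y).2).2 ⟨g * n * g⁻¹, fun y => ?_⟩
    have h1 : ((κ (Ψ n y) : Q) : L) = n * (κ y : L) * (n : L)⁻¹ :=
      congrArg Subtype.val (κ.apply_symm_apply (Q.normalizerMonoidHom n (κ y)))
    rw [hκv, hκv] at h1
    show ι ⟨((Ψ n y : Q₀) : Ω), _⟩ = _
    calc ι ⟨((Ψ n y : Q₀) : Ω), _⟩ = g * (g⁻¹ * ι ⟨_, hQ₀T (Ψ n y).2⟩ * g) * g⁻¹ := by group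
      _ = _ := by rw [h1]; group
  set ω := Ψ.codRestrict _ hΨA with hω
  have hxq : ∀ a : Q₀, Ψ ⟨x, hx⟩ a⁻¹ * a * Ψ ⟨x, hx⟩ a⁻¹ * Ψ ⟨x, hx⟩ (Ψ ⟨x, hx⟩ a) = 1 := by
    intro a
    apply κ.injective
    have h1 : ∀ b, κ (Ψ ⟨x, hx⟩ b) = Q.normalizerMonoidHom ⟨x, hx⟩ (κ b) := fun b => κ.apply_symm_apply _
    simp only [map_mul, h1, map_inv, map_one]
    apply Subtype.ext
    simp only [Subgroup.coe_mul, Subgroup.coe_one, Subgroup.coe_inv]
    show (x * (κ a : L) * x⁻¹)⁻¹ * (κ a : L) * (x * (κ a : L) * x⁻¹)⁻¹ * (x * (x * (κ a : L) * x⁻¹) * x⁻¹) = 1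
    have h2 : ⁅⁅((κ a)⁻¹ : Q).1, x⁆, x⁆ = 1 := by
      rw [← Subgroup.mem_bot, ← hq]
      exact Subgroup.commutator_mem_commutator
        (Subgroup.commutator_mem_commutator ((κ a)⁻¹ : Q).2 (Subgroup.mem_zpowers x)) (Subgroup.mem_zpowers x)
    rw [commutatorElement_eq_one_iff_mul_comm, commutatorElement_def] at h2
    simp only [Subgroup.coe_inv, inv_inv] at h2
    set w := (κ a : L)
    calc (x * w * x⁻¹)⁻¹ * w * (x * w * x⁻¹)⁻¹ * (x * (x * w * x⁻¹) * x⁻¹)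
        = x * w⁻¹ * x⁻¹ * w * (x * (w⁻¹ * x * w * x⁻¹)) * x⁻¹ := by group
      _ = x * w⁻¹ * x⁻¹ * w * (w⁻¹ * x * w * x⁻¹ * x) * x⁻¹ := by rw [← h2]
      _ = 1 := by group
  have hpc := h Q₀ hQ₀T _ (hΨA ⟨x, hx⟩) hxq
  obtain ⟨c, hc, hce⟩ := hpc
  have hmemR : (⟨x, hx⟩ : N) ∈ (Cfsg.pCore p (M.autGroup Q₀)).comap ω := by
    show ω ⟨x, hx⟩ ∈ Cfsg.pCore p (M.autGroup Q₀)
    rwa [show ω ⟨x, hx⟩ = c from Subtype.ext hce.symm]
  haveI := (Cfsg.pCore_normal p (M.autGroup Q₀)).comap ω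
  refine Cfsg.Agent.PBasic.le_pCore (Subgroup.Normal.map inferInstance _ (QuotientGroup.mk'_surjective _)) ?_
    ⟨_, hmemR, rfl⟩
  rintro ⟨_, r, hr', rfl⟩
  obtain ⟨k, hk⟩ := Cfsg.Agent.PBasic.pCore_isPGroup p _ ⟨_, hr'⟩
  refine ⟨k, Subtype.ext ?_⟩
  show (QuotientGroup.mk' _ r) ^ p ^ k = 1
  rw [← map_pow, QuotientGroup.mk'_apply, QuotientGroup.eq_one_iff, Subgroup.mem_subgroupOf]
  have h1 : Ψ (r ^ p ^ k) = 1 := by rw [map_pow]; exact congrArg (fun z => ((z : M.autGroup Q₀) : MulAut Q₀)) (congrArg Subtype.val hk)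
  have h2 : Q.normalizerMonoidHom (r ^ p ^ k) = 1 :=
    (MulAut.congr κ.symm).injective (h1.trans (map_one _).symm)
  rw [← MonoidHom.mem_ker, Subgroup.normalizerMonoidHom_ker] at h2
  exact h2

/-- Stable saturated systems are constrained. -/
theorem constrained_of_quadStable (hp2 : p ≠ 2) {S : Subgroup Ω} [Finite S] (hS : IsPGroup p S)
    (F : FusionSystem S) (hF : F.IsSaturated p) (hst : QuadStable p F) : F.IsConstrained p := by
  obtain ⟨hZ1, hZ2⟩ := Cfsg.Agent.PStable.isCharPFunctor_zJFun.{u} (p := p) (e := False)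
  refine constrained_of_control (V := relFunctor (W := Cfsg.Agent.PStable.zJFun.{u} p False) hZ1 hZ2)
    (Good := fun T M => M.IsSaturated p ∧ QuadStable p M)
    ⟨fun T M hfin hT hM hG X hX N hN => ?_, fun T M hfin hT hG hcon Q hQ => ?_⟩ hS F hF ⟨hF, hst⟩
  · haveI := hfin
    refine ⟨normalizerSystem_saturated hT hM hX N hN, hG.2.mono fun P φ hφ => ?_⟩
    rw [hN P] at hφ
    exact hφ.1
  · haveI := hfin
    obtain ⟨hMs, Z, hZn, hZc⟩ := hcon
    obtain ⟨L, _, ι, hL⟩ := exists_model hT hMs ⟨hZn, hZc⟩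
    haveI := hL.1
    obtain ⟨P, hP⟩ := hL.2.2.1
    have hLst := hG.2.model hL
    have hQn : ((Q.subgroupOf T).map ι).Normal := ⟨by
      rintro _ ⟨q, hq, rfl⟩ g
      obtain ⟨q', hq', hqe⟩ := model_conj_mem hL hQ g (q := q) hq
      exact ⟨q', hq', hqe⟩⟩
    have h := relVal_normal_central hZ2 hQ.1 hL.2.1.1 P hP hL.2.2.2 hQn fun H K _ hKp hKc P1 hc1 => by
      have hq : Cfsg.Agent.ZJ.IsQuad p (H ⧸ K) := Cfsg.Agent.PStable.isQuad_of_isNormalizerPStable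
        (Cfsg.Agent.StableExt.isNormalizerPStable_quotient_pGroup hp2
          (Cfsg.Agent.Functors.isNormalizerPStable_of_injective H.subtype_injective hLst) K hKp
          fun g _ => Subgroup.mem_centralizer_iff.2 fun k hk => (hKc k hk g).symm)
      have := Cfsg.Agent.ZJ.zJ_normal hp2 hq hc1 P1 False
      rwa [← Cfsg.Agent.PStable.inducedFunctor_zJFun] at this
    haveI := h
    have hn := preim_normal hL.2.1 (K := ((relVal (Cfsg.Agent.PStable.zJFun.{u} p False) Q T).subgroupOf T).map ι) (by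
      rintro _ ⟨x, -, rfl⟩; exact ⟨x, rfl⟩)
    have hVT : relVal (Cfsg.Agent.PStable.zJFun.{u} p False) Q T ≤ T := (relFunctor hZ1 hZ2).le hQ.1
    have he : preim ι (((relVal (Cfsg.Agent.PStable.zJFun.{u} p False) Q T).subgroupOf T).map ι) =
        relVal (Cfsg.Agent.PStable.zJFun.{u} p False) Q T := by
      ext x
      constructor
      · intro hx
        obtain ⟨y, hy, rfl⟩ := hx
        obtain ⟨z, hz, hze⟩ := Subgroup.mem_comap.1 hy
        rw [hL.2.1.1 hze] at hz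
        exact hz
      · intro hx
        exact (mem_preim (x := ⟨x, hVT hx⟩)).2 ⟨_, hx, rfl⟩
    rw [he] at hn
    exact hn

/-- A nontrivial constrained system has a nontrivial normal subgroup. -/
theorem core_ne_bot_of_constrained {S : Subgroup Ω} [Finite S] {F : FusionSystem S} (hS1 : S ≠ ⊥)
    (hc : F.IsConstrained p) : F.core ≠ ⊥ := by
  obtain ⟨-, Z, hZn, hZc⟩ := hc
  intro h
  have hZ : Z = ⊥ := le_bot_iff.1 (h ▸ isNormal_le_core hZn)
  subst hZ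
  refine hS1 (le_bot_iff.1 fun x hx => centralizerIn_le_of_centric hZc ⟨hx, ?_⟩)
  exact Subgroup.mem_centralizer_iff.2 fun y hy => by
    rw [SetLike.mem_coe, Subgroup.mem_bot] at hy
    rw [hy, one_mul, mul_one]

end Cfsg.Agent.FusionSys
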