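import Cfsg.Agent.Lib.Fusion.Normal
import Cfsg.Agent.Lib.Fusion.InnerCriterion
import Cfsg.Agent.Lib.Fusion.Transvection

/-!
# Weak closure of a line in a strongly closed subgroup, `p` odd

If a line `⟨z⟩` in an elementary abelian normal subgroup `R` is moved by the system and an element of a strongly
closed `P ≥ R` acts on `R` as a transvection with direction `z`, then a map of the system inverts `z` and fixes an
element acting as that transvection.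
-/

set_option autoImplicit false

namespace Cfsg.Agent.FusionSys

open Cfsg Cfsg.FusionSystem

variable {Ω : Type*} [Group Ω] {S : Subgroup Ω} [Finite S] {p : ℕ} [hp : Fact p.Prime] {F : FusionSystem S}

theorem exists_torus_map (hS : IsPGroup p S) (hF : F.IsSaturated p) (hp2 : p ≠ 2) {P R : Subgroup Ω}
    (hP : F.StronglyClosed P) (hR : F.StronglyClosed R) (hRP : R ≤ P) (hab : ∀ a ∈ R, ∀ b ∈ R, a * b = b * a)
    (hexp : ∀ r ∈ R, r ^ p = 1) {z x : Ω} (hz : z ∈ R) (hx : x ∈ P) (hxz : x * z * x⁻¹ = z)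
    (hd : ∀ r ∈ R, r⁻¹ * (x * r * x⁻¹) ∈ Subgroup.zpowers z) {α : MulAut R} (hα : α ∈ F.autGroup R)
    (hy : x * (α ⟨z, hz⟩ : R) * x⁻¹ ≠ (α ⟨z, hz⟩ : R))
    (hw : x * (α⁻¹ ⟨z, hz⟩ : R) * x⁻¹ ≠ (α⁻¹ ⟨z, hz⟩ : R)) :
    ∃ (P0 : Subgroup Ω) (φ : P0 →* Ω) (x0 : Ω) (hx0 : x0 ∈ P0) (hz0 : z ∈ P0), P0 ≤ P ∧ φ ∈ F.Hom P0 ∧
      φ ⟨x0, hx0⟩ = x0 ∧ φ ⟨z, hz0⟩ = z⁻¹ ∧ ∀ r ∈ R, x0 * r * x0⁻¹ = x * r * x⁻¹ := by
  classical
  have hRS : R ≤ S := hR.1
  haveI := finite_of_le (S := S) hRS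
  letI : CommGroup R := { (inferInstance : Group R) with mul_comm := fun a b => Subtype.ext (hab a a.2 b b.2) }
  have hn : S ≤ Subgroup.normalizer (R : Set Ω) := stronglyClosed_le_normalizer hR
  have hxS : x ∈ S := hP.1 hx
  obtain ⟨t, ht, hte⟩ := exists_conjAut (P := R) hxS (hn hxS)
  have htF : t ∈ F.autGroup R := autInducedBy_le_autGroup F hRS ht
  have hrec := fullyNormalized_receptive hS hF (fullyNormalized_of_normal (F := F) hRS hn)
  have htd : ∀ r : R, r⁻¹ * t r ∈ Subgroup.zpowers (⟨z, hz⟩ : R) := fun r => by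
    obtain ⟨k, hk⟩ := hd r r.2
    exact ⟨k, Subtype.ext (by rw [Subgroup.coe_mul, Subgroup.coe_inv, hte]; exact hk)⟩
  set y : R := α ⟨z, hz⟩ with hydef
  obtain ⟨h, hh, hhz, hht, -⟩ := exists_torus (A := R) (p := p) t (α * t * α⁻¹)
    (z := ⟨z, hz⟩) (y := y) (Subtype.ext (hexp z hz)) (Subtype.ext (hexp y y.2)) (Subtype.ext ((hte _).trans hxz))
    (by rw [hydef, MulAut.mul_apply, MulAut.mul_apply, show α⁻¹ (α (⟨z, hz⟩ : R)) = ⟨z, hz⟩ from α.symm_apply_apply _,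
      show t ⟨z, hz⟩ = ⟨z, hz⟩ from Subtype.ext ((hte _).trans hxz)])
    htd (fun r => by
      obtain ⟨k, hk⟩ := htd (α⁻¹ r)
      refine ⟨k, ?_⟩
      show y ^ k = r⁻¹ * (α * t * α⁻¹) r
      rw [hydef, ← map_zpow, show (⟨z, hz⟩ : R) ^ k = (α⁻¹ r)⁻¹ * t (α⁻¹ r) from hk, map_mul, map_inv,
        show α (α⁻¹ r) = r from α.apply_symm_apply r]
      rfl)
    (fun he => hy ((hte y).symm.trans (congrArg Subtype.val he)))
    (fun he => hw ((hte _).symm.trans (congrArg Subtype.val (α.injective (he.trans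
      (α.apply_symm_apply ⟨z, hz⟩).symm)))))
  have hhF : h ∈ F.autGroup R := (Subgroup.closure_le _).2 (by
    rintro a (rfl | rfl)
    · exact htF
    · exact Subgroup.mul_mem _ (Subgroup.mul_mem _ hα htF) (Subgroup.inv_mem _ hα)) hh
  obtain ⟨ψ, hψ, hψR⟩ := hrec.2 R (equivHom h) ((equivHom_autGroup F hRS).1 hhF) (equivHom_range h)
  -- the elements whose action commutes with `h`
  let P0 : Subgroup Ω :=
    { carrier := {u | u ∈ P ∧ ∀ (r : R) (hu : u * (r : Ω) * u⁻¹ ∈ R),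
        ((h ⟨u * r * u⁻¹, hu⟩ : R) : Ω) = u * (h r : R) * u⁻¹}
      one_mem' := ⟨P.one_mem, fun r hu => by
        rw [show (⟨1 * (r : Ω) * 1⁻¹, hu⟩ : R) = r from Subtype.ext (by simp)]; simp⟩
      mul_mem' := by
        rintro u v ⟨hu, hue⟩ ⟨hv, hve⟩
        refine ⟨P.mul_mem hu hv, fun r huv => ?_⟩
        have hvr : v * (r : Ω) * v⁻¹ ∈ R := (Subgroup.mem_normalizer_iff.1 (hn (hP.1 hv)) _).1 r.2
        have huvr : u * ((⟨_, hvr⟩ : R) : Ω) * u⁻¹ ∈ R := (Subgroup.mem_normalizer_iff.1 (hn (hP.1 hu)) _).1 hvr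
        rw [show (⟨u * v * (r : Ω) * (u * v)⁻¹, huv⟩ : R) = ⟨_, huvr⟩ from Subtype.ext (by simp [mul_assoc]),
          hue, hve r hvr]
        simp [mul_assoc]
      inv_mem' := by
        rintro u ⟨hu, hue⟩
        refine ⟨P.inv_mem hu, fun r hur => ?_⟩
        have hm : u * ((⟨_, hur⟩ : R) : Ω) * u⁻¹ ∈ R := by simp [mul_assoc]
        have e := hue ⟨_, hur⟩ hm
        rw [show (⟨_, hm⟩ : R) = r from Subtype.ext (by simp [mul_assoc])] at e
        rw [e]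
        group }
  have hP0 : P0 ≤ P := fun u hu => hu.1
  have hRP0 : ∀ u ∈ R, u ∈ P0 := fun u hu => ⟨hRP hu, fun r hur => by
    rw [show (⟨u * (r : Ω) * u⁻¹, hur⟩ : R) = r from
        Subtype.ext (show u * (r : Ω) * u⁻¹ = r by rw [hab u hu r r.2, mul_inv_cancel_right]),
      hab u hu _ (h r).2, mul_inv_cancel_right]⟩
  have hP0N : P0 ≤ extender S R (equivHom h) := fun u hu =>
    Subgroup.subset_closure ⟨hP.1 hu.1, hn (hP.1 hu.1), u, hP.1 hu.1, fun r hr => hu.2 r hr⟩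
  set ψ0 := ψ.comp (Subgroup.inclusion hP0N) with hψ0
  have hψ0F : ψ0 ∈ F.Hom P0 := restrict_mem F hψ hP0N
  -- values on `R` and the induced action
  have hval : ∀ (r : Ω) (hr : r ∈ R), ψ0 ⟨r, hRP0 r hr⟩ = (h ⟨r, hr⟩ : R) := fun r hr =>
    hψR r hr (hP0N (hRP0 r hr))
  have hact : ∀ (u : P0) (r : R) (hu : (u : Ω) * r * (u : Ω)⁻¹ ∈ R),
      ψ0 u * ((h r : R) : Ω) * (ψ0 u)⁻¹ = (h ⟨(u : Ω) * r * (u : Ω)⁻¹, hu⟩ : R) := by
    intro u r hu
    rw [← hval _ hu, ← hval r r.2, ← map_mul, ← map_inv, ← map_mul]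
    rfl
  have hactu : ∀ (u : P0) (r : R), ψ0 u * (r : Ω) * (ψ0 u)⁻¹ = (u : Ω) * r * (u : Ω)⁻¹ := by
    intro u r
    obtain ⟨r', rfl⟩ := h.surjective r
    have hu : (u : Ω) * r' * (u : Ω)⁻¹ ∈ R := (Subgroup.mem_normalizer_iff.1 (hn (hP.1 u.2.1)) _).1 r'.2
    rw [hact u r' hu, u.2.2 r' hu]
  have hmem : ∀ u : P0, ψ0 u ∈ P0 := by
    intro u
    refine ⟨stronglyClosed_apply_mem hP hψ0F u u.2.1, fun r hr => ?_⟩
    have hu : (u : Ω) * r * (u : Ω)⁻¹ ∈ R := (Subgroup.mem_normalizer_iff.1 (hn (hP.1 u.2.1)) _).1 r.2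
    rw [show (⟨ψ0 u * (r : Ω) * (ψ0 u)⁻¹, hr⟩ : R) = ⟨_, hu⟩ from Subtype.ext (hactu u r), u.2.2 r hu, hactu]
  haveI := finite_of_le (S := S) (hP0.trans hP.1)
  have hrange : ψ0.range = P0 := by
    refine Subgroup.eq_of_le_of_card_ge ?_ (isConj_card ⟨ψ0, hψ0F, rfl⟩).le
    rintro _ ⟨u, rfl⟩; exact hmem u
  obtain ⟨a, ha, hae⟩ := exists_autGroup_of_range F hψ0F hrange
  obtain ⟨k, m, hm, hkm⟩ := Nat.exists_eq_two_pow_mul_odd (orderOf_pos a).ne'
  set b := a ^ m with hbdef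
  have hb2 : b ^ 2 ^ k = 1 := by rw [hbdef, ← pow_mul, mul_comm, ← hkm, pow_orderOf_eq_one]
  have hpow : ∀ n : ℕ, (Even n → (a ^ n) ⟨z, hRP0 z hz⟩ = ⟨z, hRP0 z hz⟩) ∧
      (Odd n → (a ^ n) ⟨z, hRP0 z hz⟩ = (⟨z, hRP0 z hz⟩ : P0)⁻¹) := by
    have hz1 : a ⟨z, hRP0 z hz⟩ = (⟨z, hRP0 z hz⟩ : P0)⁻¹ := Subtype.ext (by
      rw [hae, hval z hz, hhz]; rfl)
    intro n
    induction n with
    | zero => exact ⟨fun _ => by simp, fun ho => absurd ho (by simp)⟩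
    | succ n ih =>
      refine ⟨fun he => ?_, fun ho => ?_⟩
      · rw [pow_succ', MulAut.mul_apply, ih.2 (by simpa [parity_simps] using he), map_inv, hz1, inv_inv]
      · rw [pow_succ', MulAut.mul_apply, ih.1 (by simpa [parity_simps] using ho), hz1]
  -- the coset of elements inducing the transvection
  let X : Type _ := {u : P0 // ∀ r : R, (u : Ω) * r * (u : Ω)⁻¹ = x * r * x⁻¹}
  have hinv : ∀ (n : ℕ) (u : P0) (r : R), ((a ^ n) u : Ω) * r * ((a ^ n) u : Ω)⁻¹ = (u : Ω) * r * (u : Ω)⁻¹ := by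
    intro n
    induction n with
    | zero => intro u r; simp
    | succ n ih =>
      intro u r
      rw [pow_succ', MulAut.mul_apply, hae, hactu, ih]
  letI : MulAction (Subgroup.zpowers b) X :=
    { smul := fun g u => ⟨(g : MulAut P0) u.1, fun r => by
        obtain ⟨n, hn⟩ := mem_powers_iff_mem_zpowers.2 g.2
        rw [← show b ^ n = (g : MulAut P0) from hn, hbdef, ← pow_mul, hinv, u.2 r]⟩
      one_smul := fun u => Subtype.ext rfl
      mul_smul := fun g g' u => Subtype.ext rfl }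
  have hxP0 : x ∈ P0 := ⟨hx, fun r hr => by
    have e1 : t r = ⟨x * r * x⁻¹, hr⟩ := Subtype.ext (hte r)
    have e2 := congrArg Subtype.val (DFunLike.congr_fun hht r)
    rw [MulAut.mul_apply, MulAut.mul_apply, e1, hte] at e2
    exact e2⟩
  have hX : ¬ 2 ∣ Nat.card X := by
    let K : Subgroup P0 :=
      { carrier := {k | ∀ r : R, (k : Ω) * r * (k : Ω)⁻¹ = r}
        one_mem' := fun r => by simp
        mul_mem' := fun {a b} ha hb r => by
          show (a : Ω) * b * r * ((a : Ω) * b)⁻¹ = r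
          rw [show (a : Ω) * b * r * ((a : Ω) * b)⁻¹ = a * (b * r * (b : Ω)⁻¹) * (a : Ω)⁻¹ by group, hb, ha]
        inv_mem' := fun {a} ha r => by
          show (a : Ω)⁻¹ * r * (a : Ω)⁻¹⁻¹ = r
          nth_rw 1 [← ha r]
          group }
    have e : X ≃ K :=
      { toFun := fun u => ⟨(⟨x, hxP0⟩ : P0)⁻¹ * u.1, fun r => by
          show x⁻¹ * (u.1 : Ω) * r * (x⁻¹ * (u.1 : Ω))⁻¹ = r
          rw [show x⁻¹ * (u.1 : Ω) * r * (x⁻¹ * (u.1 : Ω))⁻¹ = x⁻¹ * ((u.1 : Ω) * r * (u.1 : Ω)⁻¹) * x by group,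
            u.2 r]
          group⟩
        invFun := fun k => ⟨(⟨x, hxP0⟩ : P0) * k.1, fun r => by
          show x * (k.1 : Ω) * r * (x * (k.1 : Ω))⁻¹ = _
          rw [show x * (k.1 : Ω) * r * (x * (k.1 : Ω))⁻¹ = x * ((k.1 : Ω) * r * (k.1 : Ω)⁻¹) * x⁻¹ by group,
            k.2 r]⟩
        left_inv := fun u => Subtype.ext (mul_inv_cancel_left _ _)
        right_inv := fun k => Subtype.ext (inv_mul_cancel_left _ _) }
    rw [Nat.card_congr e]
    obtain ⟨l, hl⟩ := IsPGroup.iff_card.1 ((hS.to_le (hP0.trans hP.1)).to_subgroup K)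
    rw [hl]
    exact fun h2 => hp2 ((Nat.prime_dvd_prime_iff_eq Nat.prime_two hp.out).1 (Nat.prime_two.dvd_of_dvd_pow h2)).symm
  haveI : Fact (Nat.Prime 2) := ⟨Nat.prime_two⟩
  have hB : IsPGroup 2 (Subgroup.zpowers b) := by
    rintro ⟨g, n, rfl⟩
    exact ⟨k, Subtype.ext (by
      show (b ^ n) ^ 2 ^ k = 1
      rw [← zpow_natCast, ← zpow_mul, mul_comm, zpow_mul, zpow_natCast, hb2, one_zpow])⟩
  obtain ⟨u, hu⟩ := hB.nonempty_fixed_point_of_prime_not_dvd_card X hX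
  refine ⟨P0, P0.subtype.comp b.toMonoidHom, u.1, u.1.2, hRP0 z hz, hP0,
    (mem_autGroup_iff F (hP0.trans hP.1) b).1 (Subgroup.pow_mem _ ha m),
    congrArg (fun v : X => ((v.1 : P0) : Ω)) (hu ⟨b, Subgroup.mem_zpowers b⟩), ?_, fun r hr => u.2 ⟨r, hr⟩⟩
  exact congrArg Subtype.val ((hpow m).2 hm)

end Cfsg.Agent.FusionSys
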