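import Cfsg.Agent.Lib.Fusion.NonSupersoluble
import Cfsg.Agent.Lib.LinearBlock.SylowTwoRankOne
import Cfsg.Agent.Lib.Classical.TwoByTwo
import Cfsg.Agent.Lib.TwoGroups.QuasiDihedral
import Cfsg.Agent.S0261
import Mathlib.NumberTheory.LSeries.PrimesInAP
import Mathlib.FieldTheory.Finite.Basic
import Mathlib.GroupTheory.SpecificGroups.Quaternion

/-!
# Groups with prescribed dihedral, quaternion and semidihedral Sylow 2-subgroups

For a prime `p ≡ 2^t - 1 (mod 2^(t+1))` the groups `PSL(2,p)`, `SL(2,p)`, `GL(2,p)` have these Sylow subgroups of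
orders `2^t`, `2^(t+1)`, `2^(t+2)`; all contain the cyclically permuted pair needed for a system that is not
supersoluble.
-/

set_option autoImplicit false

namespace Cfsg.Agent.SSModels

open Matrix

/-- A prime with prescribed 2-parts of `p + 1` and `p - 1`. -/
theorem exists_prime {t : ℕ} (ht : 2 ≤ t) :
    ∃ p : ℕ, p.Prime ∧ p % 4 = 3 ∧ ∃ u v : ℕ, Odd u ∧ Odd v ∧ p + 1 = 2 ^ t * u ∧ p - 1 = 2 * v := by
  obtain ⟨s, hs⟩ : ∃ s, 2 ^ t = 4 * s := ⟨2 ^ (t - 2), by rw [show t = 2 + (t - 2) by omega, pow_add]; norm_num⟩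
  have hs0 : 0 < s := by have := pow_pos (show 0 < 2 by norm_num) t; omega
  haveI : NeZero (2 ^ (t + 1)) := ⟨by positivity⟩
  have hu : IsUnit ((2 ^ t - 1 : ℕ) : ZMod (2 ^ (t + 1))) := by
    rw [ZMod.isUnit_iff_coprime]
    refine Nat.Coprime.pow_right _ (Nat.Coprime.symm (Nat.prime_two.coprime_iff_not_dvd.2 ?_))
    omega
  obtain ⟨p, -, hp, he⟩ := Nat.forall_exists_prime_gt_and_eq_mod hu 0
  rw [ZMod.natCast_eq_natCast_iff] at he
  unfold Nat.ModEq at he
  rw [pow_succ, Nat.mod_eq_of_lt (show 2 ^ t - 1 < 2 ^ t * 2 by omega)] at he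
  have h := Nat.div_add_mod p (2 ^ t * 2)
  rw [he] at h
  set w := p / (2 ^ t * 2)
  have e : p + 1 = 2 ^ t * (2 * w + 1) := by
    have : 1 ≤ 2 ^ t := Nat.one_le_two_pow
    have h2 : 2 ^ t * (2 * w + 1) = 2 ^ t * 2 * w + 2 ^ t := by ring
    omega
  have e4 : p + 1 = 4 * (s * (2 * w + 1)) := by rw [e, hs]; ring
  refine ⟨p, hp, by omega, 2 * w + 1, (p - 1) / 2, odd_two_mul_add_one w, Nat.odd_iff.2 (by omega), e, by omega⟩

section group

variable {G : Type*} [Group G] [Finite G]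

/-- The image of a quaternion Sylow 2-subgroup modulo a normal subgroup of order 2 is dihedral. -/
theorem dihedral_of_quaternion {n : ℕ} (hn : 2 ≤ n) (P : Sylow 2 G) (e : (P : Subgroup G) ≃* QuaternionGroup n)
    (N : Subgroup G) [N.Normal] (hN : Nat.card N = 2) :
    ∃ T : Sylow 2 (G ⧸ N), Nonempty ((T : Subgroup (G ⧸ N)) ≃* DihedralGroup n) := by
  haveI : Fact (Nat.Prime 2) := ⟨Nat.prime_two⟩
  haveI : NeZero n := ⟨by omega⟩
  let q : G →* G ⧸ N := QuotientGroup.mk' N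
  have hq : Function.Surjective q := QuotientGroup.mk'_surjective N
  refine ⟨P.mapSurjective hq, ?_⟩
  have hNP : N ≤ (P : Subgroup G) :=
    IsPGroup.le_sylow_of_normal (IsPGroup.of_card (n := 1) (by rw [hN, pow_one])) P
  set a : G := ((e.symm (.a 1) : (P : Subgroup G)) : G) with ha
  set x : G := ((e.symm (.xa 0) : (P : Subgroup G)) : G) with hx
  have hcl : ∀ z : QuaternionGroup n, z ^ 2 = 1 → z = 1 ∨ z = .a (n : ZMod (2 * n)) := by
    rintro (i | i) h
    · rw [pow_two, QuaternionGroup.a_mul_a, QuaternionGroup.one_def] at h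
      injection h with h
      haveI : NeZero (2 * n) := ⟨by omega⟩
      obtain ⟨i, rfl⟩ : ∃ j : ℕ, (j : ZMod (2 * n)) = i := ⟨i.val, ZMod.natCast_zmod_val i⟩
      rw [← Nat.cast_add, ZMod.natCast_eq_zero_iff, ← two_mul] at h
      obtain ⟨l, rfl⟩ := Nat.dvd_of_mul_dvd_mul_left two_pos h
      rcases Nat.even_or_odd' l with ⟨r, rfl | rfl⟩
      · left
        rw [QuaternionGroup.one_def, show n * (2 * r) = 2 * n * r by ring, Nat.cast_mul, ZMod.natCast_self, zero_mul]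
      · right
        rw [show n * (2 * r + 1) = 2 * n * r + n by ring, Nat.cast_add, Nat.cast_mul, ZMod.natCast_self, zero_mul,
          zero_add]
    · exfalso
      rw [pow_two, QuaternionGroup.xa_mul_xa, QuaternionGroup.one_def] at h
      injection h with h
      simp only [add_sub_cancel_right] at h
      rw [ZMod.natCast_eq_zero_iff] at h
      have := Nat.le_of_dvd (by omega) h
      omega
  obtain ⟨z, hzN, hz1⟩ : ∃ z ∈ N, z ≠ 1 := by
    by_contra! h
    rw [(Subgroup.eq_bot_iff_forall _).2 h, Subgroup.card_bot] at hN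
    omega
  have hzsq : ∀ w ∈ N, w ^ 2 = 1 := fun w hw => by
    have : (⟨w, hw⟩ : N) ^ Nat.card N = 1 := pow_card_eq_one'
    rw [hN] at this
    exact congrArg Subtype.val this
  have hze : z = a ^ n := by
    have h1 := hcl (e ⟨z, hNP hzN⟩) (by rw [← map_pow, ← map_one e]; exact congrArg e (Subtype.ext (hzsq z hzN)))
    rcases h1 with h1 | h1
    · exact absurd (congrArg Subtype.val (e.injective (h1.trans (map_one e).symm))) hz1
    · rw [ha, ← SubgroupClass.coe_pow, ← map_pow, QuaternionGroup.a_one_pow, ← h1, e.symm_apply_apply]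
  have hanN : a ^ n ∈ N := hze ▸ hzN
  have hord : orderOf a = 2 * n := by
    rw [ha, Subgroup.orderOf_coe, MulEquiv.orderOf_eq, QuaternionGroup.orderOf_a_one]
  have hA : orderOf (q a) = n := by
    refine Nat.dvd_antisymm (orderOf_dvd_of_pow_eq_one ?_) ?_
    · rw [← map_pow]; exact (QuotientGroup.eq_one_iff _).2 hanN
    · have h1 : a ^ orderOf (q a) ∈ N := (QuotientGroup.eq_one_iff _).1 (by
        show q (a ^ orderOf (q a)) = 1
        rw [map_pow, pow_orderOf_eq_one])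
      have h2 := hzsq _ h1
      rw [← pow_mul, ← orderOf_dvd_iff_pow_eq_one, hord, mul_comm _ 2] at h2
      exact Nat.dvd_of_mul_dvd_mul_left two_pos h2
  have hxx : x * x = a ^ n := by
    rw [hx, ha, ← Subgroup.coe_mul, ← map_mul, ← SubgroupClass.coe_pow, ← map_pow, QuaternionGroup.a_one_pow,
      QuaternionGroup.xa_mul_xa]
    simp
  have hxa : x * a * x⁻¹ = a⁻¹ := by
    rw [hx, ha, ← Subgroup.coe_mul, ← Subgroup.coe_inv, ← Subgroup.coe_mul, ← Subgroup.coe_inv]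
    congr 1
    rw [← map_inv, ← map_inv, ← map_mul, ← map_mul]
    congr 1
    rw [mul_inv_eq_iff_eq_mul, show (QuaternionGroup.a 1 : QuaternionGroup n)⁻¹ = .a (-1) from rfl]
    simp
  have hsurj : ∀ g ∈ (P : Subgroup G), g ∈ Subgroup.closure ({a, x} : Set G) := by
    intro g hg
    obtain ⟨y, hy⟩ := e.symm.surjective ⟨g, hg⟩
    have hg' : g = ((e.symm y : (P : Subgroup G)) : G) := congrArg Subtype.val hy.symm
    haveI : NeZero (2 * n) := ⟨by omega⟩
    have hai : ∀ i : ZMod (2 * n), ((e.symm (.a i) : (P : Subgroup G)) : G) = a ^ i.val := fun i => by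
      rw [ha, ← SubgroupClass.coe_pow, ← map_pow, QuaternionGroup.a_one_pow, ZMod.natCast_zmod_val]
    have haC : a ∈ Subgroup.closure ({a, x} : Set G) := Subgroup.subset_closure (k := {a, x}) (Or.inl rfl)
    have hxC : x ∈ Subgroup.closure ({a, x} : Set G) := Subgroup.subset_closure (k := {a, x}) (Or.inr rfl)
    rcases y with i | i
    · rw [hg', hai]; exact pow_mem haC _
    · rw [hg', show (QuaternionGroup.xa i : QuaternionGroup n) = .xa 0 * .a i by simp, map_mul, Subgroup.coe_mul, hai]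
      exact mul_mem hxC (pow_mem haC _)
  refine TwoLift.dihedral_equiv (a := q a) (g := q x) hA ?_ ?_ ?_ ?_
  · rw [← map_mul, hxx]; exact (QuotientGroup.eq_one_iff _).2 hanN
  · rw [← map_inv, ← map_mul, ← map_mul, hxa, map_inv]
  · rintro ⟨k, hk⟩
    have hk' : a ^ k * x⁻¹ ∈ N := (QuotientGroup.eq_one_iff _).1 (by
      show q (a ^ k * x⁻¹) = 1
      rw [map_mul, map_inv, map_zpow, show q a ^ k = q x from hk, mul_inv_cancel])
    -- then `x` is a power of `a`, so commutes with it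
    have hpow : ∃ l : ℤ, a ^ l = x := by
      rcases eq_or_ne (a ^ k * x⁻¹) 1 with h | h
      · exact ⟨k, mul_inv_eq_one.1 h⟩
      · have h5 : a ^ k * x⁻¹ = a ^ (n : ℤ) := by
          rw [zpow_natCast]
          rcases hcl (e ⟨_, hNP hk'⟩) (by rw [← map_pow, ← map_one e]; exact congrArg e (Subtype.ext (hzsq _ hk'))) with h6 | h6
          · exact absurd (congrArg Subtype.val (e.injective (h6.trans (map_one e).symm))) h
          · rw [ha, ← SubgroupClass.coe_pow, ← map_pow, QuaternionGroup.a_one_pow, ← h6, e.symm_apply_apply]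
        refine ⟨-(n : ℤ) + k, ?_⟩
        rw [_root_.zpow_add, _root_.zpow_neg, ← h5]
        group
    obtain ⟨l, hl⟩ := hpow
    have h4 : a * a = 1 := by
      have h9 := hxa
      rw [← hl, (Commute.zpow_self a l).eq, mul_inv_cancel_right] at h9
      exact mul_eq_one_iff_eq_inv.2 h9
    rw [← pow_two, ← orderOf_dvd_iff_pow_eq_one, hord] at h4
    have := Nat.le_of_dvd (by norm_num) h4
    omega
  · rw [Sylow.coe_mapSurjective]
    refine le_antisymm ?_ ((Subgroup.closure_le _).2 ?_)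
    · rintro _ ⟨g, hg, rfl⟩
      have := Subgroup.mem_map_of_mem q (hsurj g hg)
      rwa [MonoidHom.map_closure, Set.image_pair] at this
    · rintro _ (rfl | rfl)
      · exact ⟨a, (e.symm _).2, rfl⟩
      · exact ⟨x, (e.symm _).2, rfl⟩

end group

/-- Two semidihedral groups of the same order are isomorphic. -/
theorem qd_equiv {S S' : Type*} [Group S] [Finite S] [Group S'] [Finite S'] (hS : Cfsg.IsQuasiDihedral S)
    (hS' : Cfsg.IsQuasiDihedral S') (hc : Nat.card S = Nat.card S') : Nonempty (S ≃* S') := by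
  obtain ⟨d, -⟩ := QD.exists_pres hS
  obtain ⟨d', -⟩ := QD.exists_pres hS'
  have hp : d.p = d'.p := by
    rw [d.hcard, d'.hcard] at hc
    have := Nat.pow_right_injective (le_refl 2) hc
    omega
  have hr : d.r = d'.r := by rw [QD.Pres.r, QD.Pres.r, hp]
  let K : Subgroup (S × S') :=
    { carrier := {v | ∃ i : ℤ, (v.1 = d.x ^ i ∧ v.2 = d'.x ^ i) ∨ (v.1 = d.x ^ i * d.y ∧ v.2 = d'.x ^ i * d'.y)}
      one_mem' := ⟨0, Or.inl ⟨by simp, by simp⟩⟩
      mul_mem' := by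
        rintro ⟨u, u'⟩ ⟨w, w'⟩ ⟨i, ⟨rfl, rfl⟩ | ⟨rfl, rfl⟩⟩ ⟨j, ⟨rfl, rfl⟩ | ⟨rfl, rfl⟩⟩
        · exact ⟨i + j, Or.inl ⟨d.pp i j, d'.pp i j⟩⟩
        · exact ⟨i + j, Or.inr ⟨d.pq i j, d'.pq i j⟩⟩
        · exact ⟨_, Or.inr ⟨d.qp i j, hr ▸ d'.qp i j⟩⟩
        · exact ⟨_, Or.inl ⟨d.qq i j, hr ▸ d'.qq i j⟩⟩
      inv_mem' := by
        rintro ⟨u, u'⟩ ⟨i, ⟨rfl, rfl⟩ | ⟨rfl, rfl⟩⟩
        · exact ⟨-i, Or.inl ⟨(_root_.zpow_neg _ _).symm, (_root_.zpow_neg _ _).symm⟩⟩
        · exact ⟨(4 * d.r - 1) * -i, Or.inr ⟨by show (d.x ^ i * d.y)⁻¹ = _; rw [_root_.mul_inv_rev, d.inv_y, ← _root_.zpow_neg, d.swap],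
            by show (d'.x ^ i * d'.y)⁻¹ = _; rw [_root_.mul_inv_rev, d'.inv_y, ← _root_.zpow_neg, d'.swap, hr]⟩⟩ }
  have b1 : Function.Bijective ((MonoidHom.fst S S').comp K.subtype) := by
    refine ⟨(injective_iff_map_eq_one _).2 ?_, fun s => ?_⟩
    · rintro ⟨⟨u, u'⟩, i, hu⟩ h
      replace h : u = 1 := h
      rcases hu with ⟨h1, h2⟩ | ⟨h1, h2⟩
      · refine Subtype.ext (Prod.ext h ?_)
        show u' = 1
        have h1' : u = d.x ^ i := h1
        have h2' : u' = d'.x ^ i := h2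
        rw [h2', d'.zpow_eq_one_iff, ← hr, ← d.zpow_eq_one_iff, ← h1', h]
      · have h1' : u = d.x ^ i * d.y := h1
        exact absurd (show d.x ^ (0 : ℤ) = d.x ^ i * d.y by rw [zpow_zero, ← h1', h]) (d.ne_form 0 i)
    · rcases d.cases s with ⟨i, rfl⟩ | ⟨i, rfl⟩
      · exact ⟨⟨(_, d'.x ^ i), i, Or.inl ⟨rfl, rfl⟩⟩, rfl⟩
      · exact ⟨⟨(_, d'.x ^ i * d'.y), i, Or.inr ⟨rfl, rfl⟩⟩, rfl⟩
  have b2 : Function.Bijective ((MonoidHom.snd S S').comp K.subtype) := by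
    refine ⟨(injective_iff_map_eq_one _).2 ?_, fun s => ?_⟩
    · rintro ⟨⟨u, u'⟩, i, hu⟩ h
      replace h : u' = 1 := h
      rcases hu with ⟨h1, h2⟩ | ⟨h1, h2⟩
      · refine Subtype.ext (Prod.ext ?_ h)
        show u = 1
        have h1' : u = d.x ^ i := h1
        have h2' : u' = d'.x ^ i := h2
        rw [h1', d.zpow_eq_one_iff, hr, ← d'.zpow_eq_one_iff, ← h2', h]
      · have h2' : u' = d'.x ^ i * d'.y := h2
        exact absurd (show d'.x ^ (0 : ℤ) = d'.x ^ i * d'.y by rw [zpow_zero, ← h2', h]) (d'.ne_form 0 i)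
    · rcases d'.cases s with ⟨i, rfl⟩ | ⟨i, rfl⟩
      · exact ⟨⟨(d.x ^ i, _), i, Or.inl ⟨rfl, rfl⟩⟩, rfl⟩
      · exact ⟨⟨(d.x ^ i * d.y, _), i, Or.inr ⟨rfl, rfl⟩⟩, rfl⟩
  exact ⟨(MulEquiv.ofBijective _ b1).symm.trans (MulEquiv.ofBijective _ b2)⟩

/-- The three elements of `SL(2,p)`. -/
theorem exists_triple {p : ℕ} [Fact p.Prime] (hp : p ≠ 2) :
    ∃ i j h : SpecialLinearGroup (Fin 2) (ZMod p), i * i = -1 ∧ j * j = -1 ∧ j * i * j = i ∧ i * j * i = j ∧
      h * i = j * h ∧ h * j = i * j * h ∧ h * (i * j) = i * h ∧ i ≠ 1 ∧ i ≠ -1 := by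
  obtain ⟨a, b, hab⟩ := ZMod.sq_add_sq p (-1)
  haveI : NeZero p := ⟨(Fact.out : p.Prime).ne_zero⟩
  have h2 : (2 : ZMod p) ≠ 0 := by
    intro h
    rw [show (2 : ZMod p) = ((2 : ℕ) : ZMod p) by norm_num, ZMod.natCast_eq_zero_iff] at h
    exact hp ((Nat.prime_dvd_prime_iff_eq Fact.out Nat.prime_two).1 h)
  let i : SpecialLinearGroup (Fin 2) (ZMod p) := ⟨!![0, -1; 1, 0], by simp [det_fin_two]⟩
  let j : SpecialLinearGroup (Fin 2) (ZMod p) := ⟨!![a, b; b, -a], by rw [det_fin_two_of]; linear_combination -hab⟩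
  let h : SpecialLinearGroup (Fin 2) (ZMod p) := ⟨!![(1 + a - b) / 2, (-1 + a + b) / 2; (1 + a + b) / 2, (1 - a + b) / 2],
    by rw [det_fin_two_of]; field_simp; linear_combination -2 * hab⟩
  let I : Matrix (Fin 2) (Fin 2) (ZMod p) := !![0, -1; 1, 0]
  let J : Matrix (Fin 2) (Fin 2) (ZMod p) := !![a, b; b, -a]
  let H : Matrix (Fin 2) (Fin 2) (ZMod p) :=
    !![(1 + a - b) / 2, (-1 + a + b) / 2; (1 + a + b) / 2, (1 - a + b) / 2]
  have key' : I * I = -1 ∧ J * J = -1 ∧ J * I * J = I ∧ I * J * I = J ∧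
      H * I = J * H ∧ H * J = I * J * H ∧ H * (I * J) = I * H := by
    refine ⟨?_, ?_, ?_, ?_, ?_, ?_, ?_⟩ <;> ext r s <;> fin_cases r <;> fin_cases s <;>
      simp [I, J, H, Matrix.mul_apply, Fin.sum_univ_two] <;>
      (try field_simp) <;> (try ring_nf) <;> (try linear_combination hab) <;> (try linear_combination -hab) <;>
      (try linear_combination a * hab) <;> (try linear_combination -a * hab) <;>
      (try linear_combination b * hab) <;> (try linear_combination -b * hab)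
  obtain ⟨m1, m2, m3, m4, m5, m6, m7⟩ := key'
  have key : i * i = -1 ∧ j * j = -1 ∧ j * i * j = i ∧ i * j * i = j ∧
      h * i = j * h ∧ h * j = i * j * h ∧ h * (i * j) = i * h :=
    ⟨Subtype.ext m1, Subtype.ext m2, Subtype.ext m3, Subtype.ext m4, Subtype.ext m5, Subtype.ext m6, Subtype.ext m7⟩
  obtain ⟨k1, k2, k3, k4, k5, k6, k7⟩ := key
  refine ⟨i, j, h, k1, k2, k3, k4, k5, k6, k7, fun he => ?_, fun he => ?_⟩
  · have := congrArg (fun g : SpecialLinearGroup (Fin 2) (ZMod p) => (g : Matrix (Fin 2) (Fin 2) (ZMod p)) 1 0) he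
    simp [i] at this
  · have := congrArg (fun g : SpecialLinearGroup (Fin 2) (ZMod p) => (g : Matrix (Fin 2) (Fin 2) (ZMod p)) 1 0) he
    simp [i] at this

variable {Ω : Type*} [Group Ω] {S : Subgroup Ω} [Finite S]

/-- The property refuting supersoluble type. -/
def HasBadSystem (S : Subgroup Ω) : Prop :=
  ∃ F : Cfsg.FusionSystem S, F.IsSaturated 2 ∧ ¬ ∃ (m : ℕ) (c : Fin (m + 1) → Subgroup Ω), c 0 = ⊥ ∧
    c (Fin.last m) = S ∧ (∀ k : Fin (m + 1), F.StronglyClosed (c k)) ∧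
    ∀ k : Fin m, c k.castSucc ≤ c k.succ ∧ ∃ x ∈ S, c k.succ = c k.castSucc ⊔ Subgroup.zpowers x

theorem bad_of_hom {p : ℕ} [Fact p.Prime] (hp : p ≠ 2) {G : Type*} [Group G] [Finite G]
    (f : SpecialLinearGroup (Fin 2) (ZMod p) →* G) (hf : ∀ u, f u = 1 → u = 1 ∨ u = -1) (T : Sylow 2 G)
    (e : S ≃* (T : Subgroup G)) : HasBadSystem S := by
  obtain ⟨i, j, h, hii, hjj, hjij, hiji, h1, h2, h3, hi1, hi2⟩ := exists_triple hp
  have hi4 : i ^ 4 = 1 := by rw [show (4 : ℕ) = 2 * 2 from rfl, pow_mul, pow_two i, hii, neg_one_sq]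
  have hj4 : j ^ 4 = 1 := by rw [show (4 : ℕ) = 2 * 2 from rfl, pow_mul, pow_two j, hjj, neg_one_sq]
  have hji : j * i * j⁻¹ = i⁻¹ := by
    rw [eq_inv_iff_mul_eq_one]
    have := hiji
    calc j * i * j⁻¹ * i = i⁻¹ * (i * j * i) * j⁻¹ * i := by group
      _ = 1 := by rw [hiji]; group
  refine NonSS.exists_not_supersoluble T e (i := f i) (j := f j) (h := f h) ?_ ?_ ?_ ?_ ?_ ?_ ?_ ?_ fun hc => ?_
  · rw [← map_pow, hi4, map_one]
  · rw [← map_pow, hj4, map_one]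
  · rw [← map_inv, ← map_inv, ← map_mul, ← map_mul, hji]
  · rw [← map_mul, ← map_mul, hjij]
  · rw [← map_mul, ← map_mul, hiji]
  · rw [mul_inv_eq_iff_eq_mul, ← map_mul, ← map_mul, h1]
  · rw [mul_inv_eq_iff_eq_mul, ← map_mul, ← map_mul, ← map_mul, h2]
  · rw [mul_inv_eq_iff_eq_mul, ← map_mul, ← map_mul, ← map_mul, h3]
  · rcases hf i hc with h' | h'
    exacts [hi1 h', hi2 h']

theorem card_sylow_sl {p t u v : ℕ} [Fact p.Prime] (hp : p ≠ 2) (hu : Odd u) (hv : Odd v) (e1 : p + 1 = 2 ^ t * u)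
    (e2 : p - 1 = 2 * v) (P : Sylow 2 (SpecialLinearGroup (Fin 2) (ZMod p))) : Nat.card P = 2 ^ (t + 1) := by
  refine SylTwoRO.card_sylow_two P (m := p * u * v) (((Fact.out : p.Prime).odd_of_ne_two hp).mul hu |>.mul hv) ?_
  rw [TwoByTwo.card_sl_two, Nat.card_zmod, show p ^ 2 - 1 = (p + 1) * (p - 1) by simpa using Nat.sq_sub_sq p 1, e1, e2]
  ring

theorem bad_quaternion {n : ℕ} (hn : 2 ≤ n) (hS : IsPGroup 2 S) (e : S ≃* QuaternionGroup n) : HasBadSystem S := by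
  haveI : Fact (Nat.Prime 2) := ⟨Nat.prime_two⟩
  haveI : NeZero n := ⟨by omega⟩
  obtain ⟨k, hk⟩ := IsPGroup.iff_card.1 hS
  have hc : Nat.card S = 4 * n := by rw [Nat.card_congr e.toEquiv, Nat.card_eq_fintype_card, QuaternionGroup.card]
  have hk3 : 3 ≤ k := by
    by_contra h
    have : 2 ^ k ≤ 2 ^ 2 := Nat.pow_le_pow_right (by norm_num) (by omega)
    omega
  obtain ⟨p, hp, hp4, u, v, hu, hv, e1, e2⟩ := exists_prime (t := k - 1) (by omega)
  haveI := Fact.mk hp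
  have hp2 : p ≠ 2 := by omega
  let T : Sylow 2 (SpecialLinearGroup (Fin 2) (ZMod p)) := default
  have hT := card_sylow_sl hp2 hu hv e1 e2 T
  obtain ⟨l, hl, ⟨eT⟩⟩ := Cfsg.Agent.S0261.result (F := ZMod p) (by rw [ZMod.card]; exact hp.odd_of_ne_two hp2) T
  have hnl : n = 2 ^ l := by
    haveI : NeZero (2 ^ l) := ⟨by positivity⟩
    rw [Nat.card_congr eT.toEquiv, Nat.card_eq_fintype_card, QuaternionGroup.card, show k - 1 + 1 = k by omega,
      ← hk, hc] at hT
    omega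
  subst hnl
  exact bad_of_hom hp2 (MonoidHom.id _) (fun u hu => Or.inl hu) T (e.trans eT.symm)

theorem bad_dihedral {n : ℕ} (hn : 2 ≤ n) (hS : IsPGroup 2 S) (e : S ≃* DihedralGroup n) : HasBadSystem S := by
  haveI : Fact (Nat.Prime 2) := ⟨Nat.prime_two⟩
  haveI : NeZero n := ⟨by omega⟩
  obtain ⟨k, hk⟩ := IsPGroup.iff_card.1 hS
  have hc : Nat.card S = 2 * n := by rw [Nat.card_congr e.toEquiv, DihedralGroup.nat_card]
  have hk2 : 2 ≤ k := by
    by_contra h
    have : 2 ^ k ≤ 2 ^ 1 := Nat.pow_le_pow_right (by norm_num) (by omega)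
    omega
  obtain ⟨p, hp, hp4, u, v, hu, hv, e1, e2⟩ := exists_prime (t := k) hk2
  haveI := Fact.mk hp
  have hp2 : p ≠ 2 := by omega
  let T : Sylow 2 (SpecialLinearGroup (Fin 2) (ZMod p)) := default
  have hT := card_sylow_sl hp2 hu hv e1 e2 T
  obtain ⟨l, hl, ⟨eT⟩⟩ := Cfsg.Agent.S0261.result (F := ZMod p) (by rw [ZMod.card]; exact hp.odd_of_ne_two hp2) T
  have hnl : n = 2 ^ l := by
    haveI : NeZero (2 ^ l) := ⟨by positivity⟩
    rw [Nat.card_congr eT.toEquiv, Nat.card_eq_fintype_card, QuaternionGroup.card, pow_succ, ← hk, hc] at hT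
    omega
  subst hnl
  set z : SpecialLinearGroup (Fin 2) (ZMod p) := -1
  set N := Subgroup.zpowers z
  have hzc : ∀ g, Commute z g := fun g => Subtype.ext (by simp [z])
  haveI : N.Normal := ⟨fun w hw g => by
    obtain ⟨r, rfl⟩ := Subgroup.mem_zpowers_iff.1 hw
    rw [((hzc g).zpow_left r).symm.eq, mul_inv_cancel_right]
    exact zpow_mem (Subgroup.mem_zpowers z) r⟩
  have hz2 : z ^ 2 = 1 := neg_one_sq
  have hz1 : z ≠ 1 := by
    intro h
    have := congrArg (fun g : SpecialLinearGroup (Fin 2) (ZMod p) => (g : Matrix (Fin 2) (Fin 2) (ZMod p)) 0 0) h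
    simp [z] at this
    rw [neg_eq_iff_add_eq_zero, one_add_one_eq_two,
      show (2 : ZMod p) = ((2 : ℕ) : ZMod p) by norm_num, ZMod.natCast_eq_zero_iff] at this
    exact hp2 ((Nat.prime_dvd_prime_iff_eq Fact.out Nat.prime_two).1 this)
  obtain ⟨T', ⟨eT'⟩⟩ := dihedral_of_quaternion hn T eT N (by rw [Nat.card_zpowers]; exact orderOf_eq_prime hz2 hz1)
  refine bad_of_hom hp2 (QuotientGroup.mk' N) (fun w hw => ?_) T' (e.trans eT'.symm)
  obtain ⟨r, hr⟩ := Subgroup.mem_zpowers_iff.1 ((QuotientGroup.eq_one_iff w).1 hw)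
  rcases Int.even_or_odd' r with ⟨s, rfl | rfl⟩
  · left; rw [← hr, _root_.zpow_mul, zpow_ofNat, hz2, _root_.one_zpow]
  · right; rw [← hr, _root_.zpow_add, _root_.zpow_mul, zpow_ofNat, hz2, _root_.one_zpow, one_mul, zpow_one]

theorem bad_quasiDihedral (hS : Cfsg.IsQuasiDihedral S) : HasBadSystem S := by
  haveI : Fact (Nat.Prime 2) := ⟨Nat.prime_two⟩
  obtain ⟨n, hn, hc, -⟩ := id hS
  obtain ⟨p, hp, hp4, u, v, hu, hv, e1, e2⟩ := exists_prime (t := n - 1) (by omega)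
  haveI := Fact.mk hp
  have hp2 : p ≠ 2 := by omega
  let T : Sylow 2 (GL (Fin 2) (ZMod p)) := default
  have hqd : Cfsg.IsQuasiDihedral (T : Subgroup (GL (Fin 2) (ZMod p))) :=
    SylTwoRO.gl_quasiDihedral T (by rw [ZMod.card]; exact hp4)
  have hT : Nat.card T = 2 ^ (n + 1) := by
    refine SylTwoRO.card_sylow_two T (m := p * u * (v * v)) (((hp.odd_of_ne_two hp2).mul hu).mul (hv.mul hv)) ?_
    rw [Matrix.card_GL_field, Fin.prod_univ_two]
    simp only [Fin.val_zero, Fin.val_one, pow_zero, pow_one, ZMod.card]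
    rw [show p ^ 2 - 1 = (p + 1) * (p - 1) by simpa using Nat.sq_sub_sq p 1,
      show p ^ 2 - p = p * (p - 1) by rw [Nat.mul_sub, pow_two, mul_one], e1, e2,
      show n + 1 = n - 1 + 2 by omega, pow_add]
    ring
  obtain ⟨e⟩ := qd_equiv hS hqd (hc.trans hT.symm)
  refine bad_of_hom hp2 Matrix.SpecialLinearGroup.toGL (fun w hw => Or.inl ?_) T e
  exact Subtype.ext (by simpa using congrArg (fun g : GL (Fin 2) (ZMod p) => (g : Matrix (Fin 2) (Fin 2) (ZMod p))) hw)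

end Cfsg.Agent.SSModels
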