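import Cfsg.Agent.Lib.Fusion.SympUni

/-!
# Symmetric matrices, torus elements and the point radical in `Sp_{2m}`

Calculations used for the simplicity of the fusion system of `PSp_{2m}` in defining characteristic.
-/

set_option autoImplicit false

namespace Cfsg.Agent.FusionPSp

open Matrix Cfsg.Agent.FusionPSLn Cfsg.Agent.AutPSp

variable {K : Type*} [Field K] {m : ℕ}

local notation "Spm" => Matrix.symplecticGroup (Fin m) K
local notation "Mn" => Matrix (Fin m) (Fin m) K
local notation "Mm" => Matrix (Fin m ⊕ Fin m) (Fin m ⊕ Fin m) K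

/-! ### Symmetric matrices -/

/-- The symmetric matrix supported on `(i, j)` and `(j, i)`. -/
def sshort (i j : Fin m) (c : K) : Mn := Matrix.single i j c + Matrix.single j i c

theorem sshort_transpose (i j : Fin m) (c : K) : (sshort i j c)ᵀ = sshort i j c := by
  rw [sshort, transpose_add, transpose_single, transpose_single, add_comm]

theorem single_self_transpose (i : Fin m) (c : K) : (Matrix.single i i c : Mn)ᵀ = Matrix.single i i c :=
  transpose_single _ _ _

theorem conj_el (X : Mn) (hX : Xᵀ = X) {k i : Fin m} (h : k ≠ i) (t : K) (a b : Fin m) :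
    (((el h t : (Mn)ˣ) : Mn) * X * ((el h t : (Mn)ˣ) : Mn)ᵀ : Mn) a b =
      X a b + (if a = k then t * X i b else 0) + (if b = k then t * X a i else 0) +
        (if a = k ∧ b = k then t * t * X i i else 0) := by
  rw [el_coe, transpose_add, transpose_one, transpose_single]
  simp only [mul_add, add_mul, one_mul, mul_one, Matrix.add_apply]
  by_cases ha : a = k <;> by_cases hb : b = k <;>
    simp [ha, hb, Matrix.single_mul_apply_same, Matrix.mul_single_apply_same, Matrix.single_mul_apply_of_ne,
      Matrix.mul_single_apply_of_ne] <;> ring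

/-- A symmetric matrix fixed by the unitriangular group lives on the two first rows. -/
theorem fixed_entries {X : Mn} (hX : Xᵀ = X)
    (h : ∀ (k i : Fin m) (hki : k < i), ((el hki.ne (1 : K) : (Mn)ˣ) : Mn) * X *
      ((el hki.ne (1 : K) : (Mn)ˣ) : Mn)ᵀ = X)
    {z o : Fin m} (hz : (z : ℕ) = 0) (ho : (o : ℕ) = 1) :
    X = Matrix.single z z (X z z) + sshort z o (X z o) := by
  have hzo : z ≠ o := fun e => by rw [e, ho] at hz; omega
  have key : ∀ k i : Fin m, k < i → ∀ j, j ≠ k → X i j = 0 := by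
    intro k i hki j hj
    have h1 := congrFun (congrFun (h k i hki) k) j
    rw [conj_el X hX hki.ne] at h1
    simpa [hj] using h1
  have hsym : ∀ a b, X a b = X b a := fun a b => (congrFun (congrFun hX b) a :)
  have hzle : ∀ a : Fin m, a ≠ z → z < a := fun a ha => by
    rw [Fin.lt_def]
    have : (a : ℕ) ≠ z := fun e => ha (Fin.ext e)
    omega
  have hole : ∀ a : Fin m, a ≠ z → a ≠ o → o < a := fun a ha ha' => by
    rw [Fin.lt_def]
    have : (a : ℕ) ≠ z := fun e => ha (Fin.ext e)
    have : (a : ℕ) ≠ o := fun e => ha' (Fin.ext e)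
    omega
  have hrow : ∀ a : Fin m, a ≠ z → a ≠ o → ∀ b, X a b = 0 := by
    intro a ha ha' b
    rcases eq_or_ne b z with rfl | hb
    · exact key o a (hole a ha ha') b hzo
    · exact key z a (hzle a ha) b hb
  ext a b
  rw [Matrix.add_apply, sshort, Matrix.add_apply, Matrix.single_apply, Matrix.single_apply, Matrix.single_apply]
  rcases eq_or_ne a z with rfl | ha
  · rcases eq_or_ne b a with rfl | hb
    · simp [hzo, hzo.symm]
    · rcases eq_or_ne b o with rfl | hb'
      · simp [hzo, hzo.symm]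
      · rw [hsym, hrow b hb hb']
        simp [hb.symm, hb'.symm, hzo.symm]
  · rcases eq_or_ne a o with rfl | ha'
    · rcases eq_or_ne b z with rfl | hb
      · rw [hsym]; simp [hzo, hzo.symm]
      · rw [key z a (hzle a ha) b hb]
        simp [hb.symm, hzo]
    · rw [hrow a ha ha' b]
      simp [ha.symm, ha'.symm]

/-- The symmetric matrices are generated by the elementary ones. -/
theorem symm_induction {P : Mn → Prop} (h0 : P 0) (hadd : ∀ X Y, P X → P Y → P (X + Y))
    (hd : ∀ i c, P (Matrix.single i i c)) (hs : ∀ i j, i < j → ∀ c, P (sshort i j c))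
    {X : Mn} (hX : Xᵀ = X) : P X := by
  classical
  have hsym : ∀ a b, X a b = X b a := fun a b => (congrFun (congrFun hX b) a :)
  let f : Fin m × Fin m → Mn := fun x =>
    if x.1 = x.2 then Matrix.single x.1 x.1 (X x.1 x.1)
    else if x.1 < x.2 then sshort x.1 x.2 (X x.1 x.2) else 0
  have heq : X = ∑ x, f x := by
    ext a b
    rw [Matrix.sum_apply, Finset.sum_eq_single (min a b, max a b) ?_ (by simp)]
    · rcases lt_trichotomy a b with h | rfl | h
      · simp [f, min_eq_left h.le, max_eq_right h.le, h.ne, h, sshort, Matrix.single_apply]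
      · simp [f]
      · simp [f, min_eq_right h.le, max_eq_left h.le, h.ne, h.ne', h, sshort, Matrix.single_apply, hsym a b]
    · rintro ⟨i, j⟩ - hne
      rcases lt_trichotomy i j with h | rfl | h
      · simp only [f, if_neg h.ne, if_pos h, sshort, Matrix.add_apply, Matrix.single_apply]
        rw [if_neg, if_neg, add_zero]
        · rintro ⟨rfl, rfl⟩
          exact hne (by rw [min_eq_right h.le, max_eq_left h.le])
        · rintro ⟨rfl, rfl⟩
          exact hne (by rw [min_eq_left h.le, max_eq_right h.le])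
      · simp only [f, if_true, Matrix.single_apply]
        rw [if_neg]
        rintro ⟨rfl, rfl⟩
        exact hne (by simp)
      · simp [f, h.ne', h.not_gt]
  rw [heq]
  refine Finset.sum_induction f P hadd h0 fun x _ => ?_
  simp only [f]
  split_ifs with h1 h2
  · exact hd _ _
  · exact hs _ _ h2 _
  · exact h0

/-! ### Diagonal units -/

/-- A diagonal unit. -/
def dU (d : Fin m → Kˣ) : (Mn)ˣ :=
  ⟨Matrix.diagonal fun i => (d i : K), Matrix.diagonal fun i => ((d i)⁻¹ : Kˣ),
    by simp [Matrix.diagonal_mul_diagonal], by simp [Matrix.diagonal_mul_diagonal]⟩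

theorem dU_coe (d : Fin m → Kˣ) : ((dU d : (Mn)ˣ) : Mn) = Matrix.diagonal fun i => (d i : K) := rfl

theorem dU_isUpper (d : Fin m → Kˣ) : IsUpper ((dU d : (Mn)ˣ) : Mn) := fun i j h => by
  rw [dU_coe, Matrix.diagonal_apply_ne _ (ne_of_gt h)]

theorem dU_conj_single (d : Fin m → Kˣ) (i j : Fin m) (c : K) :
    ((dU d : (Mn)ˣ) : Mn) * Matrix.single i j c * ((dU d : (Mn)ˣ) : Mn)ᵀ =
      Matrix.single i j ((d i : K) * c * d j) := by
  ext a b
  rw [dU_coe, Matrix.diagonal_transpose, Matrix.mul_diagonal, Matrix.diagonal_mul, Matrix.single_apply,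
    Matrix.single_apply]
  split_ifs with h
  · rw [← h.1, ← h.2]
  · simp

theorem dU_conj_sshort (d : Fin m → Kˣ) (i j : Fin m) (c : K) :
    ((dU d : (Mn)ˣ) : Mn) * sshort i j c * ((dU d : (Mn)ˣ) : Mn)ᵀ = sshort i j ((d i : K) * c * d j) := by
  rw [sshort, mul_add, add_mul, dU_conj_single, dU_conj_single, sshort,
    show (d j : K) * c * d i = d i * c * d j by ring]

theorem lev_normalizes {A : (Mn)ˣ} (hA : IsUpper (A : Mn)) {u : Spm} (hu : u ∈ sympUni K m) :
    lev A * u * (lev A)⁻¹ ∈ sympUni K m := by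
  have hAi : IsUpper ((A⁻¹ : (Mn)ˣ) : Mn) := by
    haveI : Invertible (A : Mn) := invertibleOfLeftInverse _ _ (Units.inv_mul A)
    rw [← Matrix.inv_eq_left_inv (Units.inv_mul A)]
    exact Matrix.blockTriangular_inv_of_blockTriangular (b := id) hA
  rw [← map_inv]
  have h21 : ∀ B : (Mn)ˣ, ((lev B : Spm) : Mm).toBlocks₂₁ = 0 := fun B => by
    rw [lev_coe, toBlocks_fromBlocks₂₁]
  have h1 := blocks_mul (h21 A) hu.1
  have h2 := blocks_mul h1.1 (h21 A⁻¹)
  refine ⟨h2.1, ?_⟩
  rw [h2.2, h1.2, lev_coe, lev_coe, toBlocks_fromBlocks₁₁, toBlocks_fromBlocks₁₁]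
  refine ⟨isUpper_mul (isUpper_mul hA hu.2.1) hAi, fun i => ?_⟩
  rw [upper_mul_diag (isUpper_mul hA hu.2.1) hAi, upper_mul_diag hA hu.2.1, hu.2.2, mul_one,
    ← upper_mul_diag hA hAi, Units.mul_inv, Matrix.one_apply_eq]

/-! ### Scalars -/

theorem lev_scalar_coe {A : (Mn)ˣ} {c : K} (hc : c * c = 1) (hA : (A : Mn) = c • 1) :
    ((lev A : Spm) : Mm) = c • (1 : Mm) := by
  have hi : ((A⁻¹ : (Mn)ˣ) : Mn) = c • 1 := Units.inv_eq_of_mul_eq_one_right (by
    rw [hA, smul_mul_assoc, one_mul, smul_smul, hc, one_smul])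
  rw [lev_coe, hA, hi, transpose_smul, transpose_one, ← fromBlocks_one, fromBlocks_smul, smul_zero]

theorem lev_scalar_center {A : (Mn)ˣ} {c : K} (hc : c * c = 1) (hA : (A : Mn) = c • 1) :
    (lev A : Spm) ∈ Subgroup.center Spm :=
  Subgroup.mem_center_iff.2 fun g => Subtype.ext (by
    simp [lev_scalar_coe hc hA])

/-- A scalar unit. -/
def scU (c : K) (hc : c * c = 1) : (Mn)ˣ :=
  ⟨c • 1, c • 1, by rw [smul_mul_assoc, one_mul, smul_smul, hc, one_smul],
    by rw [smul_mul_assoc, one_mul, smul_smul, hc, one_smul]⟩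

theorem center_coe {z : Spm} (hm : 0 < m) (hz : z ∈ Subgroup.center Spm) :
    ∃ c : K, c * c = 1 ∧ (z : Mm) = c • (1 : Mm) := by
  obtain ⟨c, hc⟩ := (mem_center_iff z).1 hz
  have he : (z : Mm) = c • (1 : Mm) := Matrix.ext_of_mulVec_single fun i => by
    rw [smul_mulVec, one_mulVec]; exact hc _
  refine ⟨c, ?_, he⟩
  have h : fromBlocks (c • (1 : Mn)) 0 0 (c • 1) ∈ Matrix.symplecticGroup (Fin m) K := by
    rw [show fromBlocks (c • (1 : Mn)) 0 0 (c • 1) = (z : Mm) by
      rw [he, ← fromBlocks_one, fromBlocks_smul, smul_zero]]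
    exact z.2
  have h1 := congrFun (congrFun (upperBlock_spec h).1 ⟨0, hm⟩) ⟨0, hm⟩
  rw [transpose_smul, transpose_one, smul_mul_assoc, one_mul, smul_smul, Matrix.smul_apply,
    Matrix.one_apply_eq, smul_eq_mul, mul_one] at h1
  exact h1

/-! ### The rank one elements at one coordinate -/

theorem weyl_conj_short {i j : Fin m} (h : i < j) (c : K) :
    rr (Matrix.single j j (1 : K)) (single_self_transpose _ _) * rl (Matrix.single j j (-1 : K)) (single_self_transpose _ _) *
      rr (Matrix.single j j (1 : K)) (single_self_transpose _ _) * rr (sshort i j c) (sshort_transpose _ _ _) =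
    (lev (el h.ne c) * (rr (Matrix.single j j (1 : K)) (single_self_transpose _ _) *
      rl (Matrix.single j j (-1 : K)) (single_self_transpose _ _) *
      rr (Matrix.single j j (1 : K)) (single_self_transpose _ _)) : Spm) := by
  apply Subtype.ext
  simp only [Submonoid.coe_mul, rr_coe, rl_coe, lev_coe, fromBlocks_multiply, el_coe, el_inv_coe,
    transpose_add, transpose_one, transpose_single, sshort]
  simp [mul_add, add_mul, Matrix.single_mul_single_of_ne, h.ne, h.ne', ← Matrix.single_add, add_assoc]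
  abel_nf
  simp [h.ne, h.ne']
  rw [add_left_comm, ← Matrix.single_add, add_neg_cancel, Matrix.single_zero, add_zero]

theorem torus_eq (l : Fin m) (a : Kˣ) :
    (rr (Matrix.single l l (a : K)) (single_self_transpose _ _) *
      rl (Matrix.single l l (-((a⁻¹ : Kˣ) : K))) (single_self_transpose _ _) *
      rr (Matrix.single l l (a : K)) (single_self_transpose _ _)) *
    (rr (Matrix.single l l (-1 : K)) (single_self_transpose _ _) *
      rl (Matrix.single l l (1 : K)) (single_self_transpose _ _) *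
      rr (Matrix.single l l (-1 : K)) (single_self_transpose _ _)) =
    (lev (dU (Function.update (fun _ => (1 : Kˣ)) l a)) : Spm) := by
  classical
  have hd : ∀ b : Kˣ, (Matrix.diagonal fun i => (Function.update (fun _ => (1 : Kˣ)) l b i : K)) =
      (1 : Mn) + Matrix.single l l ((b : K) - 1) := by
    intro b
    ext i j
    rcases eq_or_ne i j with rfl | hij
    · rcases eq_or_ne i l with rfl | hil
      · simp
      · simp [hil, Matrix.single_apply, hil.symm]
    · rw [Matrix.diagonal_apply_ne _ hij, Matrix.add_apply, Matrix.one_apply_ne hij, Matrix.single_apply,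
        if_neg (fun h => hij (h.1.symm.trans h.2)), add_zero]
  have hi : (fun i => (((Function.update (fun _ => (1 : Kˣ)) l a i)⁻¹ : Kˣ) : K)) =
      fun i => (Function.update (fun _ => (1 : Kˣ)) l a⁻¹ i : K) := by
    funext i
    rcases eq_or_ne i l with rfl | hil
    · simp
    · simp [hil]
  apply Subtype.ext
  rw [lev_coe]
  show _ = fromBlocks (Matrix.diagonal _) 0 0 (Matrix.diagonal _)ᵀ
  rw [hi, Matrix.diagonal_transpose, hd, hd]
  simp only [Submonoid.coe_mul, rr_coe, rl_coe, fromBlocks_multiply]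
  simp [mul_add, add_mul, ← Matrix.single_add, add_assoc]
  refine ⟨?_, ?_⟩
  · rw [neg_add_eq_sub]
  · rw [← add_assoc, ← Matrix.single_add, add_comm _ (1 : Mn), sub_eq_add_neg]

/-! ### The point radical -/

/-- The first basis vector. -/
def e₀ (z : Fin m) : Fin m ⊕ Fin m → K := Pi.single (Sum.inl z) 1

theorem e₀_ne (z : Fin m) : (e₀ z : Fin m ⊕ Fin m → K) ≠ 0 := fun h => by
  have := congrFun h (Sum.inl z)
  simp [e₀] at this

theorem act_e₀ {g : Spm} {z : Fin m} {a : K} (h1 : ∀ b, (g : Mm).toBlocks₁₁ b z = if b = z then a else 0)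
    (h2 : ∀ b, (g : Mm).toBlocks₂₁ b z = 0) : act g (e₀ z) = a • e₀ z := by
  funext x
  rw [act, e₀, Matrix.mulVec_single_one, Matrix.col_apply, Pi.smul_apply, smul_eq_mul]
  rcases x with b | b
  · have := h1 b
    rw [toBlocks₁₁, Matrix.of_apply] at this
    rw [this]
    rcases eq_or_ne b z with rfl | hb
    · simp
    · simp [hb]
  · have := h2 b
    rw [toBlocks₂₁, Matrix.of_apply] at this
    rw [this]
    simp

theorem rad_conj_mem {g u : Spm} {e : Fin m ⊕ Fin m → K} {a : K} (ha : a ≠ 0) (hg : act g e = a • e)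
    (hu : u ∈ rad e) : g * u * g⁻¹ ∈ rad e := by
  have h := rad_conj g hu
  rwa [hg, rad_smul ha] at h

theorem rad_normalizer {g : Spm} {e : Fin m ⊕ Fin m → K} {a : K} (ha : a ≠ 0) (hg : act g e = a • e) :
    g ∈ Subgroup.normalizer ((rad e : Subgroup Spm) : Set Spm) := by
  refine Cfsg.Agent.FusionSys.mem_normalizer_of_conj_mem g (fun u hu => rad_conj_mem ha hg hu) fun u hu => ?_
  have hi : act g⁻¹ e = a⁻¹ • e := by
    have h := act_inv_act g e
    rw [hg, act_smul] at h
    conv_rhs => rw [← h]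
    rw [smul_smul, inv_mul_cancel₀ ha, one_smul]
  have := rad_conj_mem (inv_ne_zero ha) hi hu
  rwa [inv_inv] at this

/-- The centralizer of the radical of a point. -/
theorem centralizer_rad {e : Fin m ⊕ Fin m → K} (he : e ≠ 0) {z : Spm}
    (h : ∀ u ∈ rad e, z * u = u * z) : ∃ c ∈ Subgroup.center Spm, c * z ∈ rad e := by
  obtain ⟨Fr, rfl⟩ := Frame.exists_of_ne he
  -- `z` fixes the point up to a sign
  obtain ⟨s, hs⟩ := exists_tv Fr.e (1 : K)
  have hsr : s ∈ rad Fr.e := cen_le_rad _ ⟨1, hs⟩
  have e1 := congrArg (fun y : Spm => act y Fr.f) (h s hsr)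
  simp only [act_mul, hs, act_add, act_smul, Fr.hfe, one_mul, one_smul, add_right_inj] at e1
  set k := B (act z Fr.f) Fr.e
  have hk2 : k * k = 1 := by
    have h2 := act_pres z Fr.f Fr.e
    rw [e1, smul_right, Fr.hfe] at h2
    exact h2
  set c : Spm := lev (scU k hk2)
  have hc : c ∈ Subgroup.center Spm := lev_scalar_center hk2 rfl
  refine ⟨c, hc, ?_⟩
  have hcact : ∀ x, act c x = k • x := fun x => by
    rw [act, lev_scalar_coe hk2 (A := scU k hk2) rfl, smul_mulVec, one_mulVec]
  set w := c * z with hw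
  have hwe : act w Fr.e = Fr.e := by rw [hw, act_mul, e1, hcact, smul_smul, hk2, one_smul]
  have hcomm : ∀ u ∈ rad Fr.e, w * u = u * w := fun u hu => by
    rw [hw, mul_assoc, h u hu, ← mul_assoc, ← mul_assoc, Subgroup.mem_center_iff.1 hc u]
  obtain ⟨u, hu, huf⟩ := Fr.exists_rad_of_point (y := act w Fr.f) (by
    conv_lhs => rw [← hwe]
    exact (act_pres w _ _).trans Fr.hfe)
  obtain ⟨l, hul⟩ : ∃ l, w = u * l := ⟨u⁻¹ * w, (mul_inv_cancel_left u w).symm⟩
  have hle : act l Fr.e = Fr.e := act_inj u (by rw [← act_mul, ← hul, hwe, hu.1])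
  have hlf : act l Fr.f = Fr.f := act_inj u (by rw [← act_mul, ← hul, huf])
  have hlW : ∀ v ∈ Fr.W, act l v = v := fun v hv => by
    obtain ⟨t, ht, rfl⟩ := Fr.exists_wt hv
    have hlP : ∀ x, Fr.P (act l x) = act l (Fr.P x) := fun x => by
      rw [Frame.P, Frame.P, act_sub, act_add, act_smul, act_smul, hle, hlf]
      have e1 : B (act l x) Fr.f = B x Fr.f := by
        conv_lhs => rw [← hlf]
        exact act_pres l _ _
      have e2 : B (act l x) Fr.e = B x Fr.e := by
        conv_lhs => rw [← hle]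
        exact act_pres l _ _
      rw [e1, e2]
    have hlrad : l * t * l⁻¹ ∈ rad Fr.e := by
      have := rad_conj l ht
      rwa [hle] at this
    have e3 : u * (l * t * l⁻¹) = t * u := by
      have h4 := hcomm t ht
      rw [hul] at h4
      calc u * (l * t * l⁻¹) = u * l * t * l⁻¹ := by group
        _ = t * (u * l) * l⁻¹ := by rw [h4]
        _ = t * u := by group
    have e4 := congrArg Fr.wt e3
    rw [Fr.wt_mul hu hlrad, Fr.wt_mul ht hu, add_comm (Fr.wt t)] at e4
    have e5 := add_left_cancel e4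
    rw [← e5]
    conv_lhs => rw [e5]
    have hlf' : act l⁻¹ Fr.f = Fr.f := by
      conv_lhs => rw [← hlf]
      exact act_inv_act l _
    rw [Frame.wt, Frame.wt, act_mul, act_mul, hlf', hlP]
  have hl1 : l = 1 := Fr.ext_frame (by rw [hle, act_one]) (by rw [hlf, act_one])
    fun v hv => by rw [hlW v hv, act_one]
  rw [hul, hl1, mul_one]
  exact hu

end Cfsg.Agent.FusionPSp
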