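import Cfsg.Agent.Lib.Fusion.PSLnSimple
import Cfsg.Agent.Lib.AutPSp.Frame

/-!
# The maximal unipotent subgroup of `Sp_{2m}` in block form

`lev A` is the Levi element of the Siegel parabolic, `rr X` the element of its radical, and `sympUni` the
product of the image of the unitriangular group and the radical.
-/

set_option autoImplicit false

namespace Cfsg.Agent.FusionPSp

open Matrix Cfsg.Agent.FusionPSLn

variable {K : Type*} [Field K] {m : ℕ}

local notation "Spm" => Matrix.symplecticGroup (Fin m) K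
local notation "Mn" => Matrix (Fin m) (Fin m) K
local notation "Mm" => Matrix (Fin m ⊕ Fin m) (Fin m ⊕ Fin m) K

theorem upperBlock_mem {A B D : Mn} (h1 : Aᵀ * D = 1) (h2 : Dᵀ * B = Bᵀ * D) :
    fromBlocks A B 0 D ∈ Matrix.symplecticGroup (Fin m) K := by
  rw [SymplecticGroup.mem_iff', Matrix.J, fromBlocks_transpose, fromBlocks_multiply, fromBlocks_multiply]
  have h3 : Dᵀ * A = 1 := by
    have := congrArg Matrix.transpose h1
    rwa [transpose_mul, transpose_transpose, transpose_one] at this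
  simp [h1, h2, h3]

theorem upperBlock_spec {A B D : Mn} (h : fromBlocks A B 0 D ∈ Matrix.symplecticGroup (Fin m) K) :
    Aᵀ * D = 1 ∧ Dᵀ * B = Bᵀ * D := by
  rw [SymplecticGroup.mem_iff', Matrix.J, fromBlocks_transpose, fromBlocks_multiply, fromBlocks_multiply] at h
  obtain ⟨-, h1, -, h2⟩ := fromBlocks_inj.1 h
  simp only [transpose_zero, zero_mul, mul_zero, mul_one, mul_neg, neg_mul, zero_add, add_zero, neg_inj] at h1 h2
  exact ⟨h1, by rwa [← sub_eq_add_neg, sub_eq_zero] at h2⟩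

/-- The element of the Siegel radical given by a symmetric matrix. -/
def rr (X : Mn) (h : Xᵀ = X) : Spm :=
  ⟨fromBlocks 1 X 0 1, upperBlock_mem (by simp) (by simp [h])⟩

/-- The element of the opposite Siegel radical. -/
def rl (X : Mn) (h : Xᵀ = X) : Spm :=
  ⟨fromBlocks 1 0 X 1, by
    have := SymplecticGroup.transpose_mem (rr X h).2
    simpa [rr, fromBlocks_transpose, h] using this⟩

theorem rr_coe (X : Mn) (h : Xᵀ = X) : ((rr X h : Spm) : Mm) = fromBlocks 1 X 0 1 := rfl

theorem rl_coe (X : Mn) (h : Xᵀ = X) : ((rl X h : Spm) : Mm) = fromBlocks 1 0 X 1 := rfl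

theorem rr_mul {X Y : Mn} (hX : Xᵀ = X) (hY : Yᵀ = Y) :
    rr X hX * rr Y hY = (rr (X + Y) (by rw [transpose_add, hX, hY]) : Spm) :=
  Subtype.ext (by simp [rr, fromBlocks_multiply, add_comm])

theorem rl_mul {X Y : Mn} (hX : Xᵀ = X) (hY : Yᵀ = Y) :
    rl X hX * rl Y hY = (rl (X + Y) (by rw [transpose_add, hX, hY]) : Spm) :=
  Subtype.ext (by simp [rl, fromBlocks_multiply])

theorem rr_zero : (rr 0 transpose_zero : Spm) = 1 := Subtype.ext (fromBlocks_one)

theorem rr_inv {X : Mn} (h : Xᵀ = X) : (rr X h : Spm)⁻¹ = rr (-X) (by rw [transpose_neg, h]) :=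
  inv_eq_of_mul_eq_one_right (Subtype.ext (by simp [rr, fromBlocks_multiply]))

theorem rr_pow {X : Mn} (h : Xᵀ = X) (k : ℕ) :
    (rr X h : Spm) ^ k = rr (k • X) (by rw [transpose_smul, h]) := by
  refine Subtype.ext ?_
  induction k with
  | zero => simp [rr, fromBlocks_one]
  | succ k ih => rw [pow_succ, Submonoid.coe_mul, ih]; simp [rr, fromBlocks_multiply, add_smul, add_comm]

theorem rl_pow {X : Mn} (h : Xᵀ = X) (k : ℕ) :
    (rl X h : Spm) ^ k = rl (k • X) (by rw [transpose_smul, h]) := by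
  refine Subtype.ext ?_
  induction k with
  | zero => simp [rl, fromBlocks_one]
  | succ k ih => rw [pow_succ, Submonoid.coe_mul, ih]; simp [rl, fromBlocks_multiply, add_smul]

theorem rr_pow_char (p : ℕ) [CharP K p] {X : Mn} (h : Xᵀ = X) : (rr X h : Spm) ^ p = 1 := by
  rw [rr_pow, ← rr_zero]
  refine Subtype.ext ?_
  rw [rr_coe, rr_coe, ← Nat.cast_smul_eq_nsmul K, CharP.cast_eq_zero, zero_smul]

theorem rl_pow_char (p : ℕ) [CharP K p] {X : Mn} (h : Xᵀ = X) : (rl X h : Spm) ^ p = 1 := by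
  rw [rl_pow]
  refine Subtype.ext ?_
  rw [rl_coe, ← Nat.cast_smul_eq_nsmul K, CharP.cast_eq_zero, zero_smul, fromBlocks_one]
  rfl

/-- The Levi elements of the Siegel parabolic. -/
def lev : (Mn)ˣ →* Spm where
  toFun A := ⟨fromBlocks (A : Mn) 0 0 ((A⁻¹ : (Mn)ˣ) : Mn)ᵀ, upperBlock_mem
    (by rw [← transpose_mul, Units.inv_mul, transpose_one]) (by simp)⟩
  map_one' := Subtype.ext (by simp [fromBlocks_one])
  map_mul' A B := Subtype.ext (by simp [fromBlocks_multiply, transpose_mul])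

theorem lev_coe (A : (Mn)ˣ) :
    ((lev A : Spm) : Mm) = fromBlocks (A : Mn) 0 0 ((A⁻¹ : (Mn)ˣ) : Mn)ᵀ := rfl

theorem lev_conj_rr (A : (Mn)ˣ) {X : Mn} (h : Xᵀ = X) :
    lev A * rr X h * (lev A)⁻¹ = (rr ((A : Mn) * X * (A : Mn)ᵀ)
      (by rw [transpose_mul, transpose_mul, transpose_transpose, h, mul_assoc]) : Spm) := by
  refine mul_inv_eq_iff_eq_mul.2 (Subtype.ext ?_)
  simp only [Submonoid.coe_mul, lev_coe, rr_coe, fromBlocks_multiply]
  simp [mul_assoc, ← transpose_mul, Units.inv_mul]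

theorem lev_mul_rr_blocks (A : (Mn)ˣ) {X : Mn} (h : Xᵀ = X) :
    ((lev A * rr X h : Spm) : Mm) = fromBlocks (A : Mn) ((A : Mn) * X) 0 ((A⁻¹ : (Mn)ˣ) : Mn)ᵀ := by
  simp [lev_coe, rr_coe, fromBlocks_multiply]

/-- An element of the Siegel parabolic is `lev A * rr X`. -/
theorem exists_lev_rr (g : Spm) (hg : (g : Mm).toBlocks₂₁ = 0) :
    ∃ (A : (Mn)ˣ) (X : Mn) (h : Xᵀ = X), (A : Mn) = (g : Mm).toBlocks₁₁ ∧ g = lev A * rr X h := by
  set A := (g : Mm).toBlocks₁₁
  set B := (g : Mm).toBlocks₁₂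
  set D := (g : Mm).toBlocks₂₂
  have he : (g : Mm) = fromBlocks A B 0 D := by
    conv_lhs => rw [← fromBlocks_toBlocks (g : Mm), hg]
  obtain ⟨h1, h2⟩ := upperBlock_spec (he ▸ g.2)
  have h3 : Dᵀ * A = 1 := by
    have := congrArg Matrix.transpose h1
    rwa [transpose_mul, transpose_transpose, transpose_one] at this
  let u : (Mn)ˣ := ⟨A, Dᵀ, mul_eq_one_comm.1 h3, h3⟩
  refine ⟨u, Dᵀ * B, by rw [transpose_mul, transpose_transpose, h2], rfl, Subtype.ext ?_⟩
  rw [lev_mul_rr_blocks, he]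
  show fromBlocks A B 0 D = fromBlocks A (A * (Dᵀ * B)) 0 Dᵀᵀ
  rw [transpose_transpose, ← mul_assoc, mul_eq_one_comm.1 h3, one_mul]

/-! ### The unipotent group -/

theorem isUni_of_leftInverse {A A' : Mn} (hA : IsUni A) (h : A' * A = 1) : IsUni A' := by
  haveI : Invertible A := invertibleOfLeftInverse _ _ h
  have hinv : A⁻¹ = A' := Matrix.inv_eq_left_inv h
  have hup : IsUpper A' := by
    rw [← hinv]
    exact Matrix.blockTriangular_inv_of_blockTriangular (b := id) hA.1
  refine ⟨hup, fun i => ?_⟩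
  have := upper_mul_diag hup hA.1 i
  rw [h, Matrix.one_apply_eq, hA.2, mul_one] at this
  exact this.symm

theorem blocks_mul {g h : Spm} (hg : (g : Mm).toBlocks₂₁ = 0) (hh : (h : Mm).toBlocks₂₁ = 0) :
    ((g * h : Spm) : Mm).toBlocks₂₁ = 0 ∧
    ((g * h : Spm) : Mm).toBlocks₁₁ = (g : Mm).toBlocks₁₁ * (h : Mm).toBlocks₁₁ := by
  rw [Submonoid.coe_mul]
  conv in (g : Mm) * (h : Mm) => rw [← fromBlocks_toBlocks (g : Mm), ← fromBlocks_toBlocks (h : Mm), hg, hh,
    fromBlocks_multiply]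
  conv in (g : Mm) * (h : Mm) => rw [← fromBlocks_toBlocks (g : Mm), ← fromBlocks_toBlocks (h : Mm), hg, hh,
    fromBlocks_multiply]
  simp

variable (K m) in
/-- The maximal unipotent subgroup. -/
def sympUni : Subgroup (Matrix.symplecticGroup (Fin m) K) where
  carrier := {g | (g : Mm).toBlocks₂₁ = 0 ∧ IsUni (g : Mm).toBlocks₁₁}
  one_mem' := by
    have h : ((1 : Spm) : Mm) = fromBlocks 1 0 0 1 := fromBlocks_one.symm
    exact ⟨by rw [h, toBlocks_fromBlocks₂₁], by rw [h, toBlocks_fromBlocks₁₁]; exact isUni_one⟩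
  mul_mem' := fun {g h} hg hh =>
    ⟨(blocks_mul hg.1 hh.1).1, by rw [(blocks_mul hg.1 hh.1).2]; exact isUni_mul hg.2 hh.2⟩
  inv_mem' := fun {g} hg => by
    obtain ⟨A, X, hX, hA, rfl⟩ := exists_lev_rr g hg.1
    have h2 := hg.2
    rw [← hA] at h2
    have hinv : (lev A * rr X hX : Spm)⁻¹ =
        rr (-X) (by rw [transpose_neg, hX]) * lev A⁻¹ := by
      rw [_root_.mul_inv_rev, rr_inv, map_inv]
    show (((lev A * rr X hX : Spm)⁻¹ : Spm) : Mm).toBlocks₂₁ = 0 ∧ _
    rw [hinv, Submonoid.coe_mul, rr_coe, lev_coe, fromBlocks_multiply]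
    refine ⟨by simp, ?_⟩
    simpa using isUni_of_leftInverse h2 (Units.inv_mul A)

theorem mem_sympUni {g : Spm} :
    g ∈ sympUni K m ↔ (g : Mm).toBlocks₂₁ = 0 ∧ IsUni (g : Mm).toBlocks₁₁ := Iff.rfl

theorem rr_mem {X : Mn} (h : Xᵀ = X) : (rr X h : Spm) ∈ sympUni K m := by
  rw [mem_sympUni, rr_coe]
  exact ⟨toBlocks_fromBlocks₂₁ _ _ _ _, by rw [toBlocks_fromBlocks₁₁]; exact isUni_one⟩

theorem lev_mem {A : (Mn)ˣ} (h : IsUni (A : Mn)) : (lev A : Spm) ∈ sympUni K m := by
  rw [mem_sympUni, lev_coe]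
  exact ⟨toBlocks_fromBlocks₂₁ _ _ _ _, by rwa [toBlocks_fromBlocks₁₁]⟩

/-- The unipotent group is of exponent dividing a power of the characteristic. -/
theorem sympUni_pow (p : ℕ) [Fact p.Prime] [CharP K p] {g : Spm} (hg : g ∈ sympUni K m) :
    g ^ p ^ (m + 1) = 1 := by
  have hblocks : ∀ k : ℕ, ((g ^ k : Spm) : Mm).toBlocks₁₁ = (g : Mm).toBlocks₁₁ ^ k := by
    intro k
    induction k with
    | zero =>
      rw [pow_zero, pow_zero, show ((1 : Spm) : Mm) = fromBlocks 1 0 0 1 from fromBlocks_one.symm,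
        toBlocks_fromBlocks₁₁]
    | succ k ih => rw [pow_succ, pow_succ, (blocks_mul ((sympUni K m).pow_mem hg k).1 hg.1).2, ih]
  let x : Matrix.SpecialLinearGroup (Fin m) K := ⟨(g : Mm).toBlocks₁₁, by
    rw [Matrix.det_of_upperTriangular (hg.2.1 : Matrix.BlockTriangular _ id)]
    exact Finset.prod_eq_one fun i _ => hg.2.2 i⟩
  have hx := congrArg (fun y : Matrix.SpecialLinearGroup (Fin m) K => (y : Mn))
    (uni_pow_char p x hg.2)
  simp only [Matrix.SpecialLinearGroup.coe_pow, Matrix.SpecialLinearGroup.coe_one] at hx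
  obtain ⟨A, X, hX, hA, he⟩ := exists_lev_rr (g ^ p ^ m) ((sympUni K m).pow_mem hg _).1
  have hA1 : A = 1 := Units.ext (hA.trans ((hblocks _).trans hx))
  rw [pow_succ, pow_mul, he, hA1, map_one, one_mul, rr_pow_char p]

/-! ### Rigidity -/

theorem exists_symm_vecMul {c : Fin m → K} (hc : c ≠ 0) (v : Fin m → K) :
    ∃ X : Mn, Xᵀ = X ∧ c ᵥ* X = v := by
  obtain ⟨i, hi⟩ := Function.ne_iff.1 hc
  set e : Fin m → K := Pi.single i 1
  set w := (c i)⁻¹ • v
  refine ⟨vecMulVec e w + vecMulVec w e + (-((c ⬝ᵥ w) / c i)) • vecMulVec e e, ?_, ?_⟩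
  · simp only [transpose_add, transpose_smul, transpose_vecMulVec]
    abel
  · rw [vecMul_add, vecMul_add, vecMul_smul, vecMul_vecMulVec, vecMul_vecMulVec, vecMul_vecMulVec,
      show c ⬝ᵥ e = c i by simp [e], smul_smul, smul_smul, neg_mul, div_mul_cancel₀ _ hi, neg_smul,
      add_neg_cancel_right, mul_inv_cancel₀ hi, one_smul]

/-- An element conjugating the radical into the unipotent group lies in the parabolic. -/
theorem toBlocks₂₁_eq_zero {g : Spm}
    (h : ∀ (X : Mn) (hX : Xᵀ = X), g * rr X hX * g⁻¹ ∈ sympUni K m) : (g : Mm).toBlocks₂₁ = 0 := by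
  classical
  set C := (g : Mm).toBlocks₂₁
  set D := (g : Mm).toBlocks₂₂
  suffices hrow : ∀ n : ℕ, ∀ k : Fin m, (k : ℕ) = n → C k = 0 from Matrix.ext fun k j => congrFun (hrow k k rfl) j
  intro n k hk
  subst hk
  by_contra hne
  let W := Submodule.span K (Set.range fun l : {l : Fin m // l < k} => D l)
  have hall : ∀ v : Fin m → K, v ∈ W := by
    intro v
    obtain ⟨X, hX, hv⟩ := exists_symm_vecMul hne v
    obtain ⟨A, Y, hY, hA, he⟩ := exists_lev_rr _ (h X hX).1
    have hAu : IsUni (A : Mn) := hA ▸ (h X hX).2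
    have hAi := isUni_of_leftInverse hAu (Units.inv_mul A)
    have e1 := congrArg (fun y : Spm => (y : Mm)) (mul_inv_eq_iff_eq_mul.1 he)
    change (g : Mm) * ((rr X hX : Spm) : Mm) = ((lev A * rr Y hY : Spm) : Mm) * (g : Mm) at e1
    rw [← fromBlocks_toBlocks (g : Mm), lev_mul_rr_blocks, rr_coe,
      fromBlocks_multiply, fromBlocks_multiply] at e1
    have e2 := (fromBlocks_inj.1 e1).2.2.2
    simp only [mul_one, zero_mul, zero_add] at e2
    -- row `k` of `C X + D = A⁻ᵀ D`
    have e3 : v + D k = ∑ l, ((A⁻¹ : (Mn)ˣ) : Mn) l k • D l := by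
      have e4 := congrFun e2 k
      have l1 : (C * X + D) k = v + D k := by rw [← hv]; rfl
      rw [← l1, e4]
      funext j
      simp [Matrix.mul_apply, Finset.sum_apply]
      rfl
    have e5 : v = ∑ l ∈ Finset.univ.erase k, ((A⁻¹ : (Mn)ˣ) : Mn) l k • D l := by
      rw [← Finset.add_sum_erase _ _ (Finset.mem_univ k), hAi.2 k, one_smul, add_comm] at e3
      exact add_left_cancel e3
    rw [e5]
    refine Submodule.sum_mem _ fun l hl => ?_
    rcases lt_or_gt_of_ne (Finset.ne_of_mem_erase hl) with hlk | hlk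
    · exact Submodule.smul_mem _ _ (Submodule.subset_span ⟨⟨l, hlk⟩, rfl⟩)
    · rw [hAi.1 l k hlk, zero_smul]
      exact zero_mem _
  have h1 : Module.finrank K W ≤ Fintype.card {l : Fin m // l < k} :=
    finrank_range_le_card fun l : {l : Fin m // l < k} => D l
  have htop : W = ⊤ := eq_top_iff.2 fun v _ => hall v
  rw [htop, finrank_top, Module.finrank_fintype_fun_eq_card, Fintype.card_fin, Fintype.card_subtype,
    Finset.filter_gt_eq_Iio, Fin.card_Iio] at h1
  omega

/-- A matrix conjugating the root elements into upper triangular matrices is upper triangular. -/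
theorem upper_of_conj_mat {M N : Mn} (hMN : M * N = 1)
    (h : ∀ (k l : Fin m), k < l → IsUpper (M * (1 + Matrix.single k l 1) * N)) : IsUpper M := by
  classical
  intro a k hka
  by_contra hne
  have hNM : N * M = 1 := mul_eq_one_comm.1 hMN
  have hsq : ∀ l, M * (1 + Matrix.single k l 1) * N = 1 + M * Matrix.single k l 1 * N := fun l => by
    rw [mul_add, mul_one, add_mul, hMN]
  have hval : ∀ l b : Fin m, (M * Matrix.single k l (1 : K) * N : Mn) a b = M a k * N l b := by
    intro l b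
    rw [Matrix.mul_apply, Finset.sum_eq_single l]
    · simp
    · intro q _ hq
      rw [Matrix.mul_single_apply_of_ne _ _ _ _ _ hq, zero_mul]
    · simp
  have hup : ∀ l, k < l → IsUpper (M * Matrix.single k l 1 * N) := fun l hl i j hij => by
    have h1 := h k l hl i j hij
    rwa [hsq, Matrix.add_apply, Matrix.one_apply_ne (ne_of_gt hij), zero_add] at h1
  have hle : ∀ l, k < l → ∀ b, b ≤ a → N l b = 0 := by
    intro l hl b hb
    rcases eq_or_lt_of_le hb with rfl | hb
    · have hnil : (M * Matrix.single k l 1 * N) * (M * Matrix.single k l 1 * N) = 0 := by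
        rw [show M * Matrix.single k l 1 * N * (M * Matrix.single k l 1 * N) =
          M * Matrix.single k l 1 * (N * M) * Matrix.single k l 1 * N by simp only [mul_assoc], hNM, mul_one,
          mul_assoc M _ (Matrix.single k l 1), Matrix.single_mul_single_of_ne 1 k l k hl.ne' 1]
        simp
      have := upper_mul_diag (hup l hl) (hup l hl) b
      rw [hnil, Matrix.zero_apply, hval] at this
      exact (mul_eq_zero.1 (mul_self_eq_zero.1 this.symm)).resolve_left hne
    · have h1 := hup l hl a b hb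
      rw [hval] at h1
      exact (mul_eq_zero.1 h1).resolve_left hne
  let f : {l : Fin m // k < l} → ({b : Fin m // a < b} → K) := fun l b => N l b
  have hind : LinearIndependent K f := by
    rw [Fintype.linearIndependent_iff]
    intro g hg l₀
    have hrow : ∀ b : Fin m, ∑ l : {l : Fin m // k < l}, g l * N l b = 0 := by
      intro b
      rcases le_or_gt b a with hb | hb
      · exact Finset.sum_eq_zero fun l _ => by rw [hle l l.2 b hb, mul_zero]
      · have := congrFun hg ⟨b, hb⟩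
        simpa [f, Finset.sum_apply] using this
    have h2 : ∑ b, (∑ l : {l : Fin m // k < l}, g l * N l b) * M b l₀ = 0 :=
      Finset.sum_eq_zero fun b _ => by rw [hrow b, zero_mul]
    simp only [Finset.sum_mul, mul_assoc] at h2
    rw [Finset.sum_comm] at h2
    simp only [← Finset.mul_sum, ← Matrix.mul_apply, hNM, Matrix.one_apply] at h2
    rw [Finset.sum_eq_single l₀ (fun l _ hl => by rw [if_neg (fun e => hl (Subtype.ext e)), mul_zero])
      (by simp)] at h2
    simpa using h2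
  have hc := hind.fintype_card_le_finrank
  rw [Module.finrank_fintype_fun_eq_card] at hc
  simp only [Fintype.card_subtype] at hc
  rw [Finset.filter_lt_eq_Ioi, Finset.filter_lt_eq_Ioi, Fin.card_Ioi, Fin.card_Ioi] at hc
  have := a.isLt
  have : (k : ℕ) < a := hka
  omega

/-- An elementary matrix as a unit. -/
def el {i j : Fin m} (h : i ≠ j) (c : K) : (Mn)ˣ :=
  ⟨1 + Matrix.single i j c, 1 + Matrix.single i j (-c),
    by simp [mul_add, add_mul, Matrix.single_mul_single_of_ne _ i j i h.symm, add_assoc, ← Matrix.single_add],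
    by simp [mul_add, add_mul, Matrix.single_mul_single_of_ne _ i j i h.symm, add_assoc, ← Matrix.single_add]⟩

theorem el_coe {i j : Fin m} (h : i ≠ j) (c : K) : ((el h c : (Mn)ˣ) : Mn) = 1 + Matrix.single i j c := rfl

theorem el_inv_coe {i j : Fin m} (h : i ≠ j) (c : K) :
    (((el h c : (Mn)ˣ)⁻¹ : (Mn)ˣ) : Mn) = 1 + Matrix.single i j (-c) := rfl

theorem el_isUni {i j : Fin m} (h : i < j) (c : K) : IsUni ((el h.ne c : (Mn)ˣ) : Mn) := by
  refine ⟨fun a b hab => ?_, fun a => ?_⟩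
  · rw [el_coe, Matrix.add_apply, Matrix.one_apply_ne (ne_of_gt hab), zero_add, Matrix.single_apply, if_neg]
    rintro ⟨rfl, rfl⟩
    exact absurd h (not_lt.2 hab.le)
  · rw [el_coe, Matrix.add_apply, Matrix.one_apply_eq, Matrix.single_apply, if_neg, add_zero]
    rintro ⟨rfl, rfl⟩
    exact lt_irrefl _ h

/-- An element normalizing the unipotent group lies in the Borel subgroup. -/
theorem borel_of_conj {g : Spm} (h : ∀ u ∈ sympUni K m, g * u * g⁻¹ ∈ sympUni K m) :
    ∃ (A : (Mn)ˣ) (X : Mn) (hX : Xᵀ = X), IsUpper (A : Mn) ∧ g = lev A * rr X hX := by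
  obtain ⟨A, X, hX, -, rfl⟩ := exists_lev_rr g (toBlocks₂₁_eq_zero fun Y hY => h _ (rr_mem hY))
  refine ⟨A, X, hX, upper_of_conj_mat (Units.mul_inv A) fun k l hkl => ?_, rfl⟩
  have hu := h _ ((sympUni K m).mul_mem ((sympUni K m).mul_mem ((sympUni K m).inv_mem (rr_mem hX))
    (lev_mem (el_isUni hkl (1 : K)))) (rr_mem hX))
  rw [show lev A * rr X hX * ((rr X hX)⁻¹ * lev (el hkl.ne (1 : K)) * rr X hX) * (lev A * rr X hX)⁻¹ =
    (lev (A * el hkl.ne (1 : K) * A⁻¹) : Spm) by rw [map_mul, map_mul, map_inv]; group] at hu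
  have hup := hu.2.1
  rw [lev_coe, toBlocks_fromBlocks₁₁] at hup
  exact hup

/-- The centralizer of the radical consists of scalar multiples of its elements. -/
theorem centralizer_rr {g : Spm} (h : ∀ (X : Mn) (hX : Xᵀ = X), g * rr X hX = rr X hX * g) :
    ∃ (c : K) (X : Mn) (hX : Xᵀ = X) (A : (Mn)ˣ), c * c = 1 ∧ (A : Mn) = c • 1 ∧ g = lev A * rr X hX := by
  classical
  rcases isEmpty_or_nonempty (Fin m) with hm | hm
  · exact ⟨1, 0, transpose_zero, 1, one_mul 1, Matrix.ext fun i => isEmptyElim i,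
      Subtype.ext (Matrix.ext fun i => Sum.elim (fun a => isEmptyElim a) (fun a => isEmptyElim a) i)⟩
  have h21 := toBlocks₂₁_eq_zero fun X hX => by
    rw [h X hX, mul_inv_cancel_right]; exact rr_mem hX
  obtain ⟨A, Y, hY, -, rfl⟩ := exists_lev_rr g h21
  have hkey : ∀ X : Mn, Xᵀ = X → (A : Mn) * X * (A : Mn)ᵀ = X := by
    intro X hX
    have h1 := h X hX
    have h2 : rr Y hY * rr X hX = (rr X hX * rr Y hY : Spm) := by
      rw [rr_mul, rr_mul]; exact Subtype.ext (by rw [rr_coe, rr_coe, add_comm])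
    have h3 : lev A * rr X hX * (lev A)⁻¹ = (rr X hX : Spm) := by
      rw [mul_inv_eq_iff_eq_mul]
      rw [mul_assoc, h2, ← mul_assoc, ← mul_assoc] at h1
      exact mul_right_cancel h1
    rw [lev_conj_rr] at h3
    have h4 := congrArg (fun y : Spm => (y : Mm).toBlocks₁₂) h3
    simpa [rr_coe] using h4
  have hAA : (A : Mn) * (A : Mn)ᵀ = 1 := by simpa using hkey 1 transpose_one
  have hcomm : ∀ X : Mn, Xᵀ = X → (A : Mn) * X = X * (A : Mn) := by
    intro X hX
    conv_rhs => rw [← hkey X hX]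
    rw [mul_assoc, mul_eq_one_comm.1 hAA, mul_one]
  have hoff : ∀ a i : Fin m, a ≠ i → (A : Mn) a i = 0 := fun a i hai =>
    Matrix.col_eq_zero_of_commute_single (Commute.symm (hcomm (Matrix.single i i 1) (by simp))) hai
  obtain ⟨i₀⟩ := hm
  have hdiag : ∀ i, (A : Mn) i i = (A : Mn) i₀ i₀ := by
    intro i
    rcases eq_or_ne i i₀ with rfl | hi
    · rfl
    have := congrFun (congrFun (hcomm (Matrix.single i i₀ 1 + Matrix.single i₀ i 1)
      (by simp [add_comm])) i) i₀
    simpa [mul_add, add_mul, Matrix.mul_single_apply_same, Matrix.single_mul_apply_same,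
      Matrix.mul_single_apply_of_ne, Matrix.single_mul_apply_of_ne, hi, hi.symm] using this
  have hA : (A : Mn) = (A : Mn) i₀ i₀ • 1 := by
    ext a b
    rcases eq_or_ne a b with rfl | hab
    · rw [Matrix.smul_apply, Matrix.one_apply_eq, smul_eq_mul, mul_one, hdiag]
    · rw [hoff a b hab, Matrix.smul_apply, Matrix.one_apply_ne hab, smul_zero]
  refine ⟨(A : Mn) i₀ i₀, Y, hY, A, ?_, hA, rfl⟩
  have h5 := congrFun (congrFun hAA i₀) i₀
  rw [Matrix.one_apply_eq, Matrix.mul_apply, Finset.sum_eq_single i₀ (fun b _ hb => by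
    rw [hoff i₀ b (Ne.symm hb), zero_mul]) (by simp), Matrix.transpose_apply] at h5
  exact h5

end Cfsg.Agent.FusionPSp
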