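import Cfsg.Agent.Lib.Fusion.Hyperfocal
import Cfsg.Agent.Lib.Fusion.InnerEngines
import Cfsg.Agent.Lib.Fusion.NormalizerTower

/-!
# Systems with differences in a fixed subgroup; counting maps
-/

set_option autoImplicit false

namespace Cfsg.Agent.FusionSys

open Cfsg Cfsg.FusionSystem

universe u

variable {Ω : Type u} [Group Ω] {S : Subgroup Ω}

/-- The maps whose differences lie in `T₀`. -/
def diffSystem (F : FusionSystem S) {T₀ : Subgroup Ω} (hT : ⁅S, S⁆ ≤ T₀) : FusionSystem S where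
  Hom P := {φ | φ ∈ F.Hom P ∧ ∀ x : P, (x : Ω)⁻¹ * φ x ∈ T₀}
  le_of_mem h := F.le_of_mem h.1
  injective_of_mem h := F.injective_of_mem h.1
  conj_mem := by
    intro P g hP hg
    refine ⟨F.conj_mem hP hg, fun x => ?_⟩
    show (x : Ω)⁻¹ * (g * (x : Ω) * g⁻¹) ∈ T₀
    have h := hT (Subgroup.commutator_mem_commutator (S.inv_mem (hP x.2)) hg)
    rw [commutatorElement_def, inv_inv] at h
    simpa [mul_assoc] using h
  comp_mem := by
    rintro P R φ θ ⟨hφ, hφd⟩ ⟨hθ, hθd⟩ h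
    refine ⟨F.comp_mem hφ hθ h, fun x => ?_⟩
    have e := T₀.mul_mem (hφd x) (hθd ⟨φ x, h x⟩)
    rwa [mul_assoc, mul_inv_cancel_left] at e
  inv_mem := by
    rintro P φ ⟨hφ, hφd⟩
    obtain ⟨ψ, hψ, -, h1, -⟩ := exists_inv F hφ
    refine ⟨ψ, ⟨hψ, fun y => ?_⟩, fun x => h1 x _⟩
    obtain ⟨x, hx⟩ := y.2
    rw [show ψ y = (x : Ω) from (apply_congr ψ hx.symm y.2 ⟨x, rfl⟩).trans (h1 x _), ← hx]
    have e := T₀.inv_mem (hφd x)
    rwa [mul_inv_rev, inv_inv] at e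

/-- The graph of a map. -/
def homGraph {P : Subgroup Ω} (φ : P →* Ω) : Set (Ω × Ω) := Set.range fun x : P => ((x : Ω), φ x)

/-- The graphs of the maps of a system. -/
def homGraphs (F : FusionSystem S) : Set (Set (Ω × Ω)) :=
  {g | ∃ (P : Subgroup Ω) (φ : P →* Ω), φ ∈ F.Hom P ∧ homGraph φ = g}

theorem homGraphs_finite [Finite S] (F : FusionSystem S) : (homGraphs F).Finite := by
  refine (((Set.toFinite (S : Set Ω)).prod (Set.toFinite (S : Set Ω))).finite_subsets).subset ?_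
  rintro _ ⟨P, φ, hφ, rfl⟩ _ ⟨x, rfl⟩
  exact ⟨hom_le F hφ x.2, hom_apply_mem F hφ x⟩

/-- A proper subsystem has fewer maps. -/
theorem ncard_homGraphs_lt [Finite S] {T : Subgroup Ω} (F : FusionSystem S) (M : FusionSystem T)
    (hle : ∀ P, M.Hom P ⊆ F.Hom P) (hne : ¬ ∀ P, F.Hom P ⊆ M.Hom P) :
    (homGraphs M).ncard < (homGraphs F).ncard := by
  have hsub : homGraphs M ⊆ homGraphs F := by
    rintro _ ⟨P, φ, hφ, rfl⟩
    exact ⟨P, φ, hle P hφ, rfl⟩
  refine Set.ncard_lt_ncard (hsub.ssubset_of_ne fun he => hne fun P φ hφ => ?_) (homGraphs_finite F)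
  obtain ⟨Q, ψ, hψ, hg⟩ : homGraph φ ∈ homGraphs M := he ▸ ⟨P, φ, hφ, rfl⟩
  have hmem : ∀ x : P, ∃ y : Q, (y : Ω) = x ∧ ψ y = φ x := fun x => by
    obtain ⟨y, hy⟩ : ((x : Ω), φ x) ∈ homGraph ψ := hg.symm ▸ ⟨x, rfl⟩
    exact ⟨y, (Prod.mk.injEq .. ▸ hy).1, (Prod.mk.injEq .. ▸ hy).2⟩
  have hPQ : P = Q := by
    refine le_antisymm (fun x hx => ?_) fun x hx => ?_
    · obtain ⟨y, hy, -⟩ := hmem ⟨x, hx⟩
      exact (show (y : Ω) = x from hy) ▸ y.2
    · obtain ⟨y, hy⟩ : (x, ψ ⟨x, hx⟩) ∈ homGraph φ := hg ▸ ⟨⟨x, hx⟩, rfl⟩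
      exact (show (y : Ω) = x from congrArg Prod.fst hy) ▸ y.2
  subst hPQ
  refine hom_congr M hψ fun x => ?_
  obtain ⟨y, hy, hye⟩ := hmem x
  rw [← hye, Subtype.ext hy]

section functor

variable (W : ∀ (Q : Type u) [Group Q], Subgroup Q)

/-- The value of a functor on a subgroup, inside the ambient group. -/
def wSub (T : Subgroup Ω) : Subgroup Ω := (W T).map T.subtype

theorem wSub_le (T : Subgroup Ω) : wSub W T ≤ T := Subgroup.map_subtype_le _

variable {p : ℕ} [hp : Fact p.Prime]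
  (hW1 : ∀ (Q : Type u) [Group Q] [Finite Q], IsPGroup p Q → Nontrivial Q → W Q ≠ ⊥)
  (hW2 : ∀ (Q R : Type u) [Group Q] [Group R] [Finite Q], IsPGroup p Q →
    ∀ φ : Q ≃* R, (W Q).map φ.toMonoidHom = W R)

include hW1 in
theorem wSub_ne_bot {T : Subgroup Ω} [Finite T] (hT : IsPGroup p T) (hne : T ≠ ⊥) : wSub W T ≠ ⊥ := by
  haveI := (Subgroup.nontrivial_iff_ne_bot T).2 hne
  intro h
  exact hW1 T hT inferInstance ((Subgroup.map_eq_bot_iff_of_injective _ T.subtype_injective).1 h)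

include hW2 in
theorem normalizerIn_le_wSub [Finite S] {T : Subgroup Ω} [Finite T] (hT : IsPGroup p T) :
    normalizerIn S T ≤ normalizerIn S (wSub W T) :=
  normalizerIn_le_char (A := W T) (Subgroup.characteristic_iff_map_eq.2 fun φ => hW2 T T hT φ)

include hW2 in
theorem le_normalizerIn_wSub [Finite S] (hS : IsPGroup p S) : S ≤ normalizerIn S (wSub W S) :=
  (le_normalizerIn le_rfl).trans (normalizerIn_le_wSub W hW2 hS)

/-- The focal subgroup of the normalizer of the functor's value. -/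
noncomputable def transferTarget (F : FusionSystem S) : Subgroup Ω :=
  (normSystem F (wSub_le W S)).focalSubgroup

theorem normalizerHom_diff_mem (F : FusionSystem S) {P : Subgroup Ω} {φ : P →* Ω}
    (hφ : φ ∈ F.normalizerHom (wSub W S) P) (x : P) : (x : Ω)⁻¹ * φ x ∈ transferTarget W F :=
  Subgroup.subset_closure ⟨P, φ, x, hφ, rfl⟩

include hW2 in
theorem commutator_le_transferTarget [Finite S] (hS : IsPGroup p S) (F : FusionSystem S) :
    ⁅S, S⁆ ≤ transferTarget W F :=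
  (Subgroup.commutator_mono (le_normalizerIn_wSub W hW2 hS) (le_normalizerIn_wSub W hW2 hS)).trans
    (commutator_le_focal (normSystem F (wSub_le W S)))

theorem transferTarget_le_focal (F : FusionSystem S) : transferTarget W F ≤ F.focalSubgroup := by
  refine (Subgroup.closure_le _).2 ?_
  rintro _ ⟨P, φ, x, hφ, rfl⟩
  exact Subgroup.subset_closure ⟨P, φ, x, hφ.1, rfl⟩

theorem transferTarget_mono {M F : FusionSystem S} (h : ∀ P, M.Hom P ⊆ F.Hom P) :
    transferTarget W M ≤ transferTarget W F := by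
  refine (Subgroup.closure_le _).2 ?_
  rintro _ ⟨P, φ, x, ⟨hφ, hP, hφm, ψ, hψ, h1, h2⟩, rfl⟩
  exact normalizerHom_diff_mem W F ⟨h _ hφ, hP, hφm, ψ, h _ hψ, h1, h2⟩ x

/-- All differences lie in the target. -/
def TransferCtl (F : FusionSystem S) : Prop :=
  ∀ (P : Subgroup Ω) (φ : P →* Ω), φ ∈ F.Hom P → ∀ x : P, (x : Ω)⁻¹ * φ x ∈ transferTarget W F

/-- A controlled normalizer system is inside `T₀`, if the normalizer of its functor value is. -/
theorem normalizer_diff_of_ctl [Finite S] (F : FusionSystem S) {T₀ : Subgroup Ω} {X : Subgroup Ω} (hX : X ≤ S)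
    (hctl : TransferCtl W (normSystem F hX))
    (hV : ∀ (P : Subgroup Ω) (φ : P →* Ω), φ ∈ F.normalizerHom (wSub W (normalizerIn S X)) P →
      ∀ x : P, (x : Ω)⁻¹ * φ x ∈ T₀)
    {P : Subgroup Ω} {φ : P →* Ω} (hφ : φ ∈ F.normalizerHom X P) (x : P) : (x : Ω)⁻¹ * φ x ∈ T₀ := by
  refine (Subgroup.closure_le T₀).2 ?_ (hctl P φ hφ x)
  rintro _ ⟨R, ψ, y, ⟨hψ, hR, hψm, ψ', hψ', h1, h2⟩, rfl⟩
  exact hV R ψ ⟨hψ.1, hR.trans (inf_le_inf_right _ (normalizerIn_le S X)),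
    fun z => ⟨(normalizerIn_le S X) (hψm z).1, (hψm z).2⟩, ψ', hψ'.1, h1, h2⟩ y

end functor

/-- An automorphism lies in the normalizer system of its domain. -/
theorem aut_mem_normalizerHom [Finite S] (F : FusionSystem S) {P : Subgroup Ω} {φ : P →* Ω} (hφ : φ ∈ F.Hom P)
    (hin : ∀ x, φ x ∈ P) : φ ∈ F.normalizerHom P P := by
  have hP := hom_le F hφ
  refine ⟨hφ, le_normalizerIn hP, fun x => le_normalizerIn hP (hin x),
    φ.comp (Subgroup.inclusion (sup_le le_rfl le_rfl)), restrict_mem F hφ _, fun x => rfl, ?_⟩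
  rw [map_subgroupOf_eq_iff _ le_sup_right]
  refine ⟨fun x => hin _, fun y hy => ?_⟩
  haveI := finite_of_le (S := S) hP
  obtain ⟨a, ha⟩ := (Finite.injective_iff_surjective (f := φ.codRestrict P hin)).1
    (fun a b h => F.injective_of_mem hφ (congrArg Subtype.val h)) ⟨y, hy⟩
  exact ⟨a, congrArg Subtype.val ha⟩

end Cfsg.Agent.FusionSys
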