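import Cfsg.Agent.Lib.Fusion.TransferBasics
import Cfsg.Agent.Lib.Fusion.SurjectiveSaturated
import Cfsg.Agent.Lib.Fusion.FactorMorphism
import Cfsg.Agent.Lib.Fusion.BisetTransfer
import Cfsg.Agent.Lib.Fusion.ModelFacts
import Cfsg.Agent.Lib.Fusion.Model
import Mathlib.GroupTheory.Focal

/-!
# The focal part inside a normal subgroup
-/

set_option autoImplicit false

open scoped commutatorElement

namespace Cfsg.Agent.FusionSys

open Cfsg Cfsg.FusionSystem

universe u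

variable {Ω : Type u} [Group Ω] {S : Subgroup Ω} [Finite S] {p : ℕ} [hp : Fact p.Prime] {F : FusionSystem S}
  (W : ∀ (Q : Type u) [Group Q], Subgroup Q)
  (hW2 : ∀ (Q R : Type u) [Group Q] [Group R] [Finite Q], IsPGroup p Q →
    ∀ φ : Q ≃* R, (W Q).map φ.toMonoidHom = W R)
  (hT : ∀ (G : Type u) [Group G] [Finite G] (P : Sylow p G),
    Subgroup.centralizer ((Cfsg.pCore p G : Subgroup G) : Set G) ≤ Cfsg.pCore p G →
      Cfsg.pCore p G ⊓ commutator G = Cfsg.pCore p G ⊓ (commutator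
        ↥(Subgroup.normalizer (((W ↥(P : Subgroup G)).map (P : Subgroup G).subtype : Subgroup G) : Set G))).map
        (Subgroup.normalizer (((W ↥(P : Subgroup G)).map (P : Subgroup G).subtype : Subgroup G) : Set G)).subtype)

include hW2 hT in
/-- In a constrained system the focal elements in a centric normal subgroup come from the normalizer. -/
theorem focal_inf_le_of_constrained (hS : IsPGroup p S) (hF : F.IsSaturated p) {Q : Subgroup Ω}
    (hQ : CentricNormal F Q) : F.focalSubgroup ⊓ Q ≤ transferTarget W F := by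
  obtain ⟨L, _, ι, hL⟩ := exists_model hS hF hQ
  haveI := hL.1
  obtain ⟨P, hP⟩ := hL.2.2.1
  have hι := hL.2.1
  set e : S ≃* (P : Subgroup L) := (MonoidHom.ofInjective hι.1).trans (MulEquiv.subgroupCongr hP.symm)
  have hWe : (W ↥(P : Subgroup L)).map (P : Subgroup L).subtype = (W S).map ι := by
    rw [← hW2 _ _ hS e, Subgroup.map_map, show (P : Subgroup L).subtype.comp e.toMonoidHom = ι from
      MonoidHom.ext fun x => rfl]
  have hloc := hT L P hL.2.2.2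
  rw [hWe] at hloc
  set N := Subgroup.normalizer (((W S).map ι : Subgroup L) : Set L) with hN
  have hconjN : ∀ s : S, ι s ∈ N := fun s => by
    haveI : (W S).Characteristic := Subgroup.characteristic_iff_map_eq.2 fun φ => hW2 S S hS φ
    refine Subgroup.le_normalizer_map ι ⟨s, ?_, rfl⟩
    rw [Subgroup.normalizer_eq_top_iff.2 inferInstance]
    trivial
  have hPN : (P : Subgroup L) ≤ N := by
    rw [hP]; rintro _ ⟨s, rfl⟩; exact hconjN s
  set P' : Sylow p N := P.subtype hPN with hP'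
  have hPmem : ∀ n : N, n ∈ (P' : Subgroup N) ↔ (n : L) ∈ ι.range := fun n => by
    rw [hP', Sylow.coe_subtype, Subgroup.mem_subgroupOf, hP]
  -- the focal elements map into the commutator subgroup
  have hfocS : F.focalSubgroup ≤ S := by
    refine (Subgroup.closure_le _).2 ?_
    rintro _ ⟨R, φ, x, hφ, rfl⟩
    exact S.mul_mem (S.inv_mem (hom_le F hφ x.2)) (hom_apply_mem F hφ x)
  have hfoc : F.focalSubgroup ≤ preim ι (commutator L) := by
    refine (Subgroup.closure_le _).2 ?_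
    rintro _ ⟨R, φ, x, hφ, rfl⟩
    have hR := hom_le F hφ
    obtain ⟨g, hg⟩ := (hι.2 R hR φ (hom_apply_mem F hφ)).1 hφ
    refine (mem_preim (ι := ι) (x := (⟨x, hR x.2⟩ : S)⁻¹ * ⟨φ x, hom_apply_mem F hφ x⟩)).2 ?_
    rw [map_mul, map_inv, hg x, show (ι ⟨(x : Ω), hR x.2⟩)⁻¹ * (g * ι ⟨(x : Ω), hR x.2⟩ * g⁻¹) =
      ⁅(ι ⟨(x : Ω), hR x.2⟩)⁻¹, g⁆ by rw [commutatorElement_def]; group]
    exact Subgroup.commutator_mem_commutator (Subgroup.mem_top _) (Subgroup.mem_top _)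
  -- a map for each conjugation in `N`
  have hstep : ∀ a b : S, ∀ u : N, (u : L) * ι a * (u : L)⁻¹ = ι b →
      (a : Ω)⁻¹ * b ∈ transferTarget W F := by
    intro a b u hab
    set A := Subgroup.zpowers (a : Ω)
    have hAS : A ≤ S := Subgroup.zpowers_le.2 a.2
    have hle : A ⊔ wSub W S ≤ S := sup_le hAS (wSub_le W S)
    set c : ↥(A ⊔ wSub W S) →* L := ((MulAut.conj (u : L)).toMonoidHom.comp ι).comp (Subgroup.inclusion hle)
      with hc
    have hcW : ∀ w : wSub W S, c (Subgroup.inclusion le_sup_right w) ∈ (W S).map ι := by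
      rintro ⟨_, w, hw, rfl⟩
      exact (Subgroup.mem_normalizer_iff.1 u.2 _).1 ⟨w, hw, rfl⟩
    have hcr : ∀ y, c y ∈ ι.range := fun y => by
      have hle' : A ⊔ wSub W S ≤ (ι.range.comap c).map (A ⊔ wSub W S).subtype := by
        refine sup_le (Subgroup.zpowers_le.2 ⟨⟨a, Subgroup.mem_sup_left (Subgroup.mem_zpowers _)⟩, ?_, rfl⟩) ?_
        · exact ⟨b, hab.symm⟩
        · intro w hw
          exact ⟨⟨w, Subgroup.mem_sup_right hw⟩, Subgroup.map_le_range _ _ (hcW ⟨w, hw⟩), rfl⟩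
      obtain ⟨z, hz, hze⟩ := hle' y.2
      rw [show y = z from Subtype.ext hze.symm]
      exact hz
    set ej := MonoidHom.ofInjective hι.1
    set ψ : ↥(A ⊔ wSub W S) →* Ω := S.subtype.comp (ej.symm.toMonoidHom.comp (c.codRestrict ι.range hcr))
    have hψS : ∀ y, ψ y ∈ S := fun y => SetLike.coe_mem _
    have hψι : ∀ y, ι ⟨ψ y, hψS y⟩ = c y := fun y => congrArg Subtype.val (ej.apply_symm_apply ⟨_, hcr y⟩)
    have hψF : ψ ∈ F.Hom (A ⊔ wSub W S) := (hι.2 _ hle ψ hψS).2 ⟨u, fun y => hψι y⟩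
    have hSN := le_normalizerIn_wSub W hW2 hS
    have h := normalizerHom_diff_mem W F (P := A) (φ := ψ.comp (Subgroup.inclusion le_sup_left))
      ⟨restrict_mem F hψF _, hAS.trans hSN, fun x => hSN (hψS _), ψ, hψF, fun x => rfl, by
        rw [map_subgroupOf_eq_iff _ le_sup_right]
        have hin : ∀ w : wSub W S, ψ (Subgroup.inclusion le_sup_right w) ∈ wSub W S := fun w => by
          obtain ⟨w', hw', he⟩ := hcW w
          rw [← hψι] at he
          exact ⟨w', hw', congrArg Subtype.val (hι.1 he)⟩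
        haveI := finite_of_le (S := S) (wSub_le W S)
        refine ⟨hin, fun y hy => ?_⟩
        obtain ⟨w, hw⟩ := (Finite.injective_iff_surjective (f := fun w : wSub W S => (⟨_, hin w⟩ : wSub W S))).1
          (fun p q h => Subgroup.inclusion_injective _ (F.injective_of_mem hψF
            (show ψ (Subgroup.inclusion le_sup_right p) = ψ (Subgroup.inclusion le_sup_right q) from
              congrArg (fun z : wSub W S => (z : Ω)) h))) ⟨y, hy⟩
        exact ⟨w, congrArg Subtype.val hw⟩⟩ ⟨a, Subgroup.mem_zpowers _⟩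
    have hb : (⟨ψ ⟨(a : Ω), Subgroup.mem_sup_left (Subgroup.mem_zpowers _)⟩, hψS _⟩ : S) = b :=
      hι.1 ((hψι _).trans hab)
    rw [← hb]
    exact h
  rintro q ⟨hqf, hqQ⟩
  set q' : S := ⟨q, hfocS hqf⟩
  have h1 : ι q' ∈ commutator L := (mem_preim (x := q')).1 (hfoc hqf)
  have h2 : ι q' ∈ Cfsg.pCore p L := by
    haveI : ((Q.subgroupOf S).map ι).Normal := ⟨by
      rintro _ ⟨x, hx, rfl⟩ g
      obtain ⟨x', hx', hxe⟩ := model_conj_mem hL hQ.normal g (q := x) hx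
      exact ⟨x', hx', hxe⟩⟩
    exact Cfsg.Agent.PBasic.le_pCore inferInstance ((hS.to_subgroup (Q.subgroupOf S)).map ι) ⟨q', hqQ, rfl⟩
  obtain ⟨n, hn, hnq⟩ := (hloc.le ⟨h2, h1⟩).2
  have h3 : n ∈ Subgroup.focalSubgroup (P' : Subgroup N) := by
    rw [← Subgroup.commutator_inf_eq_focalSubgroup]
    exact ⟨hn, (hPmem n).2 ⟨q', hnq.symm⟩⟩
  suffices key : ∀ m ∈ Subgroup.focalSubgroup (P' : Subgroup N), ∃ s : S, ι s = m ∧ (s : Ω) ∈ transferTarget W F by
    obtain ⟨s, hs, hs'⟩ := key n h3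
    rwa [show s = q' from hι.1 (hs.trans hnq)] at hs'
  intro m hm
  rw [Subgroup.focalSubgroup_def] at hm
  induction hm using Subgroup.closure_induction with
  | mem z hz =>
    obtain ⟨hzP, x, hx, v, rfl⟩ := hz
    obtain ⟨a', ha'⟩ := (hPmem x).1 hx
    obtain ⟨z', hz'⟩ := (hPmem _).1 hzP
    refine ⟨z', hz', ?_⟩
    have hab : (v : L) * ι a'⁻¹ * (v : L)⁻¹ = ι (a'⁻¹ * z') := by
      rw [map_mul, map_inv, ha', hz', commutatorElement_def]
      push_cast
      group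
    have h := hstep a'⁻¹ (a'⁻¹ * z') v hab
    simpa using h
  | one => exact ⟨1, map_one ι, one_mem _⟩
  | mul a b _ _ iha ihb =>
    obtain ⟨s, hs, hs'⟩ := iha
    obtain ⟨t, ht, ht'⟩ := ihb
    exact ⟨s * t, by rw [map_mul, hs, ht]; rfl, mul_mem hs' ht'⟩
  | inv a _ iha =>
    obtain ⟨s, hs, hs'⟩ := iha
    exact ⟨s⁻¹, by rw [map_inv, hs]; rfl, inv_mem hs'⟩

/-- If every map acts on the normal subgroup `Q` as an element of `S`, then `foc ∩ Q ≤ S'`. -/
theorem focal_inf_le_of_inner_aut (hS : IsPGroup p S) (hF : F.IsSaturated p) {Q : Subgroup Ω} (hQ : F.IsNormal Q)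
    (hK : F.autGroup Q ≤ autInducedBy S Q) : F.focalSubgroup ⊓ Q ≤ ⁅S, S⁆ := by
  set Q₀ := ⁅Q, S⁆ with hQ₀
  have hQS := hQ.1
  have hQN := isNormal_le_normalizer hQ
  have hle : Q₀ ≤ Q := by
    rw [hQ₀, Subgroup.commutator_le]
    intro q hq s hs
    rw [commutatorElement_def, mul_assoc q, mul_assoc]
    refine Q.mul_mem hq ?_
    exact (Subgroup.mem_normalizer_iff.1 (hQN hs) _).1 (Q.inv_mem hq)
  have hQ₀S : Q₀ ≤ ⁅S, S⁆ := Subgroup.commutator_mono hQS le_rfl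
  have hact : ∀ {P : Subgroup Ω} (ψ : P →* Ω), ψ ∈ F.Hom P → ∀ hQP : Q ≤ P, ∃ s ∈ S,
      ∀ x : Q, ψ (Subgroup.inclusion hQP x) = s * (x : Ω) * s⁻¹ := by
    intro P ψ hψ hQP
    have hres := restrict_mem F hψ hQP
    haveI := finite_of_le (S := S) hQS
    have hr : (ψ.comp (Subgroup.inclusion hQP)).range = Q := by
      refine Subgroup.eq_of_le_of_card_ge ?_ (isConj_card ⟨_, hres, rfl⟩).le
      rintro _ ⟨x, rfl⟩
      exact (isNormal_stronglyClosed hQ).2 Q le_rfl _ hres x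
    obtain ⟨β, hβ, hβe⟩ := exists_autGroup_of_range F hres hr
    obtain ⟨s, hs, hse⟩ := (mem_autInducedBy_iff β).1 (hK hβ)
    exact ⟨s, hs, fun x => (hβe x).symm.trans (hse x)⟩
  have hconj₀ : ∀ s ∈ S, ∀ x ∈ Q₀, s * x * s⁻¹ ∈ Q₀ := by
    intro s hs x hx
    have hmap : Q₀.map (MulAut.conj s).toMonoidHom ≤ Q₀ := by
      rw [hQ₀, Subgroup.map_commutator]
      refine Subgroup.commutator_mono ?_ ?_ <;> rintro _ ⟨y, hy, rfl⟩
      · exact (Subgroup.mem_normalizer_iff.1 (hQN hs) y).1 hy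
      · exact S.mul_mem (S.mul_mem hs hy) (S.inv_mem hs)
    exact hmap ⟨x, hx, rfl⟩
  have hQ₀n : F.IsNormal Q₀ := by
    refine ⟨hle.trans hQS, fun P φ hφ => ?_⟩
    obtain ⟨ψ, hψ, h1, -⟩ := hQ.2 P φ hφ
    obtain ⟨s, hs, hse⟩ := hact ψ hψ le_sup_right
    have hle' : P ⊔ Q₀ ≤ P ⊔ Q := sup_le_sup_left hle P
    refine ⟨ψ.comp (Subgroup.inclusion hle'), restrict_mem F hψ hle', fun x => h1 x, ?_⟩
    rw [map_subgroupOf_eq_iff _ le_sup_right]
    refine ⟨fun x => ?_, fun y hy => ?_⟩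
    · show ψ (Subgroup.inclusion le_sup_right (⟨x, hle x.2⟩ : Q)) ∈ Q₀
      rw [hse]; exact hconj₀ s hs x x.2
    · have hy' : s⁻¹ * y * s ∈ Q₀ := by simpa using hconj₀ s⁻¹ (S.inv_mem hs) y hy
      refine ⟨⟨_, hy'⟩, ?_⟩
      show ψ (Subgroup.inclusion le_sup_right (⟨_, hle hy'⟩ : Q)) = y
      rw [hse]
      show s * (s⁻¹ * y * s) * s⁻¹ = y
      group
  have hQ₀c := isNormal_stronglyClosed hQ₀n
  haveI hn : (Q₀.subgroupOf S).Normal := ⟨fun x hx g => hconj₀ g g.2 _ hx⟩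
  set θ := QuotientGroup.mk' (Q₀.subgroupOf S) with hθ
  have hker : ∀ s : S, θ s = 1 ↔ (s : Ω) ∈ Q₀ := fun s => QuotientGroup.eq_one_iff s
  have hran : θ.range = (⊤ : Subgroup (S ⧸ Q₀.subgroupOf S)) :=
    MonoidHom.range_eq_top.2 (QuotientGroup.mk'_surjective _)
  set E := factorSystem F hQ₀c θ hker hran
  have hE : F.IsFactorSystem Q₀ θ E := ⟨hQ₀c.1, hker, hran, fun _ _ => Iff.rfl⟩
  have hEs := saturated_of_surjectiveMorphism hS hF (factor_surjectiveMorphism hS hF hQ₀c hE)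
  have hTp : IsPGroup p (⊤ : Subgroup (S ⧸ Q₀.subgroupOf S)) := (hS.to_quotient _).to_subgroup _
  -- the image of `Q` is central
  have hcen : (Q.subgroupOf S).map θ ≤ E.center := by
    refine isCentral_le_center ((isCentral_iff hTp hEs _).2 ⟨le_top, ?_⟩)
    rintro _ ⟨x, hx, rfl⟩ y ⟨φ', hφ', rfl⟩
    obtain ⟨-, φ, hφ, hPS, hφS, hPm, hind⟩ := hφ'
    obtain ⟨ψ, hψ, h1, -⟩ := hQ.2 _ φ hφ
    obtain ⟨s, hs, hse⟩ := hact ψ hψ le_sup_right
    have hxP : (x : Ω) ∈ preimageAlong θ (Subgroup.zpowers (θ x)) :=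
      (mem_preimageAlong _ _ _).2 ⟨x.2, Subgroup.mem_zpowers _⟩
    have h := hind ⟨x, hxP⟩
    refine (show φ' ⟨θ x, Subgroup.mem_zpowers _⟩ = θ ⟨φ ⟨x, hxP⟩, hφS _⟩ from h).trans ?_
    have hval : φ ⟨x, hxP⟩ = s * (x : Ω) * s⁻¹ := by
      rw [← h1 ⟨x, hxP⟩]
      exact (apply_congr ψ rfl _ _).trans (hse ⟨x, hx⟩)
    refine (QuotientGroup.eq (s := Q₀.subgroupOf S)).2 ?_
    show ((φ ⟨x, hxP⟩)⁻¹ * (x : Ω)) ∈ Q₀
    have h0 := Subgroup.commutator_mem_commutator (Q.inv_mem hx) hs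
    rw [← hQ₀, commutatorElement_def] at h0
    have h0' := Q₀.inv_mem h0
    rw [hval]
    simpa [mul_assoc] using h0'
  -- focal elements map to focal elements
  have hfocS : F.focalSubgroup ≤ S := by
    refine (Subgroup.closure_le _).2 ?_
    rintro _ ⟨R, φ, x, hφ, rfl⟩
    exact S.mul_mem (S.inv_mem (hom_le F hφ x.2)) (hom_apply_mem F hφ x)
  have hfoc : F.focalSubgroup.subgroupOf S ≤ E.focalSubgroup.comap θ := by
    rw [← Subgroup.map_subtype_le_map_subtype, Subgroup.map_subgroupOf_eq_of_le hfocS]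
    refine (Subgroup.closure_le _).2 ?_
    rintro _ ⟨R, φ, x, hφ, rfl⟩
    obtain ⟨φ', hφ', hRS, hφS, hRm, hind⟩ := exists_induced hS hF hQ₀c hE hφ
    refine ⟨(⟨x, hRS x.2⟩ : S)⁻¹ * ⟨φ x, hφS x⟩, Subgroup.mem_comap.2 ?_, rfl⟩
    rw [map_mul, map_inv, ← hind x]
    exact Subgroup.subset_closure ⟨_, φ', ⟨_, hRm x⟩, hφ', rfl⟩
  rintro q ⟨hqf, hqQ⟩
  set q' : S := ⟨q, hQS hqQ⟩
  have h1 : θ q' ∈ E.focalSubgroup ⊓ E.center := ⟨hfoc (x := q') hqf, hcen ⟨q', hqQ, rfl⟩⟩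
  have h2 := focal_inf_center_le hTp hEs h1
  rw [← Subgroup.map_top_of_surjective θ (QuotientGroup.mk'_surjective _), ← Subgroup.map_commutator] at h2
  obtain ⟨c, hc, hce⟩ := h2
  have hc' : (c : Ω) ∈ ⁅S, S⁆ := by
    rw [← Subgroup.map_subtype_commutator]
    exact ⟨c, hc, rfl⟩
  have h3 : (c : Ω)⁻¹ * q ∈ Q₀ :=
    (hker (c⁻¹ * q')).1 (by rw [map_mul, map_inv, hce, inv_mul_cancel])
  have := ⁅S, S⁆.mul_mem hc' (hQ₀S h3)
  rwa [mul_inv_cancel_left] at this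

end Cfsg.Agent.FusionSys
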