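import Cfsg.Agent.Lib.Fusion.TransferSteps
import Cfsg.Agent.Lib.Fusion.InnerActSystem
import Cfsg.Agent.Lib.Fusion.AlperinStep

/-!
# Functors controlling transfer
-/

set_option autoImplicit false

namespace Cfsg.Agent.FusionSys

open Cfsg Cfsg.FusionSystem

universe u

variable {p : ℕ} [hp : Fact p.Prime] (W : ∀ (Q : Type u) [Group Q], Subgroup Q)
  (hW1 : ∀ (Q : Type u) [Group Q] [Finite Q], IsPGroup p Q → Nontrivial Q → W Q ≠ ⊥)
  (hW2 : ∀ (Q R : Type u) [Group Q] [Group R] [Finite Q], IsPGroup p Q →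
    ∀ φ : Q ≃* R, (W Q).map φ.toMonoidHom = W R)
  {Ω : Type u} [Group Ω] {S : Subgroup Ω} [Finite S] {F : FusionSystem S}

/-- The induction hypothesis: control for all smaller systems. -/
def CtlBelow (p : ℕ) (F : FusionSystem S) : Prop :=
  ∀ (Ω' : Type u) [Group Ω'] (T : Subgroup Ω') [Finite T] (M : FusionSystem T),
    (Nat.card T < Nat.card S ∨ (Nat.card T = Nat.card S ∧ (homGraphs M).ncard < (homGraphs F).ncard)) →
      IsPGroup p T → M.IsSaturated p → TransferCtl W M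

omit hp in
theorem mem_core_ne {X : Subgroup Ω} (h : ¬ X ≤ F.core) : X ≠ ⊥ := fun he => h (he ▸ bot_le)

/-- Maps normalizing a subgroup outside the core that is normalized by `S`. -/
theorem normalizer_diff_of_not_core (hS : IsPGroup p S) (hF : F.IsSaturated p) (hIH : CtlBelow W p F)
    {X : Subgroup Ω} (hX : X ≤ S) (hXN : S ≤ normalizerIn S X) (hXc : ¬ X ≤ F.core) {P : Subgroup Ω}
    {φ : P →* Ω} (hφ : φ ∈ F.normalizerHom X P) (x : P) : (x : Ω)⁻¹ * φ x ∈ transferTarget W F := by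
  have hN := normSystem_spec F hX
  have he : normalizerIn S X = S := le_antisymm (normalizerIn_le S X) hXN
  haveI : Finite (normalizerIn S X) := finite_of_le (normalizerIn_le S X)
  have hctl := hIH Ω (normalizerIn S X) (normSystem F hX) (Or.inr ⟨congrArg (fun T : Subgroup Ω => Nat.card T) he,
    ncard_homGraphs_lt F _ (fun P φ h => h.1) fun h => hXc (isNormal_le_core ⟨hX, fun R ψ hψ => by
      obtain ⟨-, -, -, χ, hχ, h1, h2⟩ := h R hψ
      exact ⟨χ, hχ, h1, h2⟩⟩)⟩) (hS.to_le (normalizerIn_le S X))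
    (normalizerSystem_saturated hS hF (fullyNormalized_of_normal hX fun g hg => (hXN hg).2) _ hN)
  exact normalizer_diff_of_ctl W F hX hctl (fun R ψ hψ y => normalizerHom_diff_mem W F
    (by rwa [show wSub W (normalizerIn S X) = wSub W S by rw [he]] at hψ) y) hφ x

include hW1 hW2 in
/-- The case of trivial core. -/
theorem ctl_of_core_eq_bot (hS : IsPGroup p S) (hF : F.IsSaturated p) (hIH : CtlBelow W p F)
    (hcore : F.core = ⊥) : TransferCtl W F := by
  set E := diffSystem F (commutator_le_transferTarget W hW2 hS F)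
  have hFE : F ≤ E := by
    refine alperin_step hS hF fun P hP hbig α hα => ?_
    by_cases hP0 : P = ⊥
    · haveI : Subsingleton P := by subst hP0; infer_instance
      rw [show α = 1 from MulEquiv.ext fun x => Subsingleton.elim _ _]
      exact one_mem _
    have hPS : P ≤ S := hP.elim (fun e => e.le) fun e => e.1.1
    rw [mem_autGroup_iff E hPS]
    have hφ := (mem_autGroup_iff F hPS α).1 hα
    refine ⟨hφ, fun x => ?_⟩
    have hmem : P.subtype.comp α.toMonoidHom ∈ F.normalizerHom P P :=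
      aut_mem_normalizerHom F hφ fun x => (α x).2
    rcases hP with rfl | hPe
    · exact normalizer_diff_of_not_core W hS hF hIH le_rfl (le_normalizerIn le_rfl)
        (by rw [hcore, le_bot_iff]; exact hP0) hmem x
    have hlt := essential_lt hS hF hPe
    haveI := finite_of_le (normalizerIn_le S P)
    have htower := tower_climb hS hF E (fun X => X ≠ ⊥)
      (fun X X' hX hXX' h => hX (by
        haveI := finite_of_le (S := S) (isConj_le_left hXX')
        have hc := isConj_card hXX'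
        rw [h, Subgroup.card_bot] at hc
        exact Subgroup.card_eq_one.1 hc))
      (m := Nat.card P) (fun N ψ hψ hN => hbig N ψ hψ hN) ?_ ?_ P hPe.2.1 hP0
      (card_lt_of_lt (lt_normalizerIn hS hlt))
    · exact (htower P hmem).2 x
    · intro X hXn hXne hXS
      set T := normalizerIn S X with hTdef
      have hTS : T < S := lt_of_le_of_ne (normalizerIn_le S X) hXS
      haveI : Finite T := finite_of_le (normalizerIn_le S X)
      have hTp : IsPGroup p T := hS.to_le (normalizerIn_le S X)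
      have hTne : T ≠ ⊥ := fun h => hXne (le_bot_iff.1 (h ▸ le_normalizerIn hXn.1))
      refine ⟨wSub W T, (wSub_le W T).trans (normalizerIn_le S X), wSub_ne_bot W hW1 hTp hTne,
        (lt_normalizerIn hS hTS).trans_le (normalizerIn_le_wSub W hW2 hTp), fun hV Y ψ hψ => ⟨hψ.1, fun y => ?_⟩⟩
      have hctl := hIH Ω T (normSystem F hXn.1) (Or.inl (card_lt_of_lt hTS)) hTp
        (normalizerSystem_saturated hS hF hXn _ (normSystem_spec F hXn.1))
      exact normalizer_diff_of_ctl W F hXn.1 hctl (fun R χ hχ z => (hV R hχ).2 z) hψ y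
    · intro X hXn hXne hXS Y ψ hψ
      exact ⟨hψ.1, fun y => normalizer_diff_of_not_core W hS hF hIH hXn.1 hXS.ge
        (by rw [hcore, le_bot_iff]; exact hXne) hψ y⟩
  exact fun P φ hφ x => (hFE P hφ).2 x

include hW1 hW2 in
/-- Modulo a nontrivial core, the differences lie in the target. -/
theorem diff_mem_sup_core (hS : IsPGroup p S) (hF : F.IsSaturated p) (hIH : CtlBelow W p F)
    (hne : F.core ≠ ⊥) {P : Subgroup Ω} {φ : P →* Ω} (hφ : φ ∈ F.Hom P) (x : P) :
    (x : Ω)⁻¹ * φ x ∈ transferTarget W F ⊔ F.core := by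
  set Q := F.core with hQdef
  set T₀ := transferTarget W F with hT₀
  have hQ := core_isNormal F
  have hQS := hQ.1
  have hxd : (x : Ω)⁻¹ * φ x ∈ S := S.mul_mem (S.inv_mem (hom_le F hφ x.2)) (hom_apply_mem F hφ x)
  by_cases hQtop : Q = S
  · exact Subgroup.mem_sup_right (hQtop.ge hxd)
  have hQc := isNormal_stronglyClosed hQ
  have hQN := isNormal_le_normalizer hQ
  haveI hn : (Q.subgroupOf S).Normal := ⟨fun x hx g => (Subgroup.mem_normalizer_iff.1 (hQN g.2) _).1 hx⟩
  set θ := QuotientGroup.mk' (Q.subgroupOf S) with hθ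
  have hker : ∀ s : S, θ s = 1 ↔ (s : Ω) ∈ Q := fun s => QuotientGroup.eq_one_iff s
  have hran : θ.range = (⊤ : Subgroup (S ⧸ Q.subgroupOf S)) :=
    MonoidHom.range_eq_top.2 (QuotientGroup.mk'_surjective _)
  set E := factorSystem F hQc θ hker hran
  have hE : F.IsFactorSystem Q θ E := ⟨hQS, hker, hran, fun _ _ => Iff.rfl⟩
  have hEs := saturated_of_surjectiveMorphism hS hF (factor_surjectiveMorphism hS hF hQc hE)
  have hTp : IsPGroup p (⊤ : Subgroup (S ⧸ Q.subgroupOf S)) := (hS.to_quotient _).to_subgroup _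
  have hcard : Nat.card (⊤ : Subgroup (S ⧸ Q.subgroupOf S)) < Nat.card S := by
    rw [Subgroup.card_top, Subgroup.card_eq_card_quotient_mul_card_subgroup (Q.subgroupOf S)]
    refine lt_mul_of_one_lt_right Nat.card_pos ?_
    rw [Nat.card_congr (Subgroup.subgroupOfEquivOfLe hQS).toEquiv]
    haveI := finite_of_le (S := S) hQS
    haveI := (Subgroup.nontrivial_iff_ne_bot Q).2 hne
    exact Finite.one_lt_card
  have htop : (⊤ : Subgroup (S ⧸ Q.subgroupOf S)) ≠ ⊥ := fun h => hQtop (le_antisymm hQS fun s hs =>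
    (hker ⟨s, hs⟩).1 (Subgroup.mem_bot.1 (h ▸ Subgroup.mem_top _)))
  set U' := wSub W (⊤ : Subgroup (S ⧸ Q.subgroupOf S)) with hU'
  set U := preimageAlong θ U' with hUdef
  have hU : U ≤ S := Subgroup.map_subtype_le _
  haveI := finite_of_le (S := S) hU
  have hθN : ∀ s : S, θ s ∈ Subgroup.normalizer (U' : Set (S ⧸ Q.subgroupOf S)) := fun s =>
    (le_normalizerIn_wSub W hW2 hTp (Subgroup.mem_top _)).2
  have key : ∀ (a y : S), θ y ∈ U' → θ (a * y * a⁻¹) ∈ U' := fun a y hy => by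
    rw [map_mul, map_mul, map_inv]
    exact (Subgroup.mem_normalizer_iff.1 (hθN a) _).1 hy
  have hUN : S ≤ normalizerIn S U := fun g hg => by
    refine ⟨hg, mem_normalizer_of_conj_mem g (fun y hy => ?_) fun y hy => ?_⟩
    · obtain ⟨hyS, hym⟩ := (mem_preimageAlong _ _ _).1 hy
      exact (mem_preimageAlong _ _ _).2 ⟨_, key ⟨g, hg⟩ ⟨y, hyS⟩ hym⟩
    · obtain ⟨hyS, hym⟩ := (mem_preimageAlong _ _ _).1 hy
      have h := key ⟨g, hg⟩⁻¹ ⟨y, hyS⟩ hym
      rw [inv_inv] at h
      exact (mem_preimageAlong _ _ _).2 ⟨_, h⟩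
  have hUc : ¬ U ≤ Q := fun h => wSub_ne_bot W hW1 hTp htop (eq_bot_iff.2 fun y hy => by
    obtain ⟨s, rfl⟩ := QuotientGroup.mk'_surjective (Q.subgroupOf S) y
    exact Subgroup.mem_bot.2 ((hker s).2 (h ((mem_preimageAlong θ U' _).2 ⟨s.2, hy⟩))))
  have hT₀S : T₀ ≤ S := (Subgroup.closure_le _).2 (by
    rintro _ ⟨R, ψ, y, hψ, rfl⟩
    exact S.mul_mem (S.inv_mem (hom_le F hψ.1 y.2)) (hom_apply_mem F hψ.1 y))
  -- the target of the factor system is covered
  have htarget : transferTarget W E ≤ (T₀.subgroupOf S).map θ := by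
    refine (Subgroup.closure_le _).2 ?_
    rintro _ ⟨R', φ', y, ⟨hφE, hR', hφ'm, ψ', hψ', e1, e2⟩, rfl⟩
    obtain ⟨hW'', ψ, hψ, hWS, hψS, hWm, hind⟩ := hψ'
    have hUW : U ≤ preimageAlong θ (R' ⊔ U') := by
      intro z hz
      obtain ⟨hzS, hzm⟩ := (mem_preimageAlong _ _ _).1 hz
      exact (mem_preimageAlong _ _ _).2 ⟨hzS, Subgroup.mem_sup_right hzm⟩
    have e2' := (map_subgroupOf_eq_iff ψ' le_sup_right).1 e2
    have hin : ∀ z : U, ψ (Subgroup.inclusion hUW z) ∈ U := fun z => by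
      refine (mem_preimageAlong _ _ _).2 ⟨hψS _, ?_⟩
      rw [← hind]
      exact e2'.1 ⟨θ ⟨z, hU z.2⟩, ((mem_preimageAlong _ _ _).1 z.2).2⟩
    have hψn : ψ ∈ F.normalizerHom U (preimageAlong θ (R' ⊔ U')) := by
      refine ⟨hψ, hWS.trans hUN, fun z => hUN (hψS z), ψ.comp (Subgroup.inclusion (sup_le le_rfl hUW)),
        restrict_mem F hψ _, fun z => rfl, ?_⟩
      rw [map_subgroupOf_eq_iff _ le_sup_right]
      refine ⟨fun z => hin z, fun z hz => ?_⟩
      obtain ⟨w, hw⟩ := (Finite.injective_iff_surjective (f := fun w : U => (⟨_, hin w⟩ : U))).1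
        (fun a b h => Subgroup.inclusion_injective _ (F.injective_of_mem hψ
          (show ψ (Subgroup.inclusion hUW a) = ψ (Subgroup.inclusion hUW b) from
            congrArg (fun z : U => (z : Ω)) h))) ⟨z, hz⟩
      exact ⟨w, congrArg (fun z : U => (z : Ω)) hw⟩
    obtain ⟨a, ha⟩ := QuotientGroup.mk'_surjective (Q.subgroupOf S) (y : S ⧸ Q.subgroupOf S)
    have haW : (a : Ω) ∈ preimageAlong θ (R' ⊔ U') :=
      (mem_preimageAlong _ _ _).2 ⟨a.2, show θ a ∈ R' ⊔ U' from ha ▸ Subgroup.mem_sup_left y.2⟩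
    have hd := normalizer_diff_of_not_core W hS hF hIH hU hUN hUc hψn ⟨a, haW⟩
    refine ⟨a⁻¹ * ⟨ψ ⟨a, haW⟩, hψS _⟩, hd, ?_⟩
    rw [map_mul, map_inv, ← hind ⟨a, haW⟩]
    show (θ a)⁻¹ * _ = _
    exact congrArg₂ (fun u v => u⁻¹ * v) ha ((congrArg ψ' (Subtype.ext ha)).trans (e1 y))
  obtain ⟨φ', hφ', hPS, hφS, hPm, hind⟩ := exists_induced hS hF hQc hE hφ
  have h := htarget (hIH _ ⊤ E (Or.inl hcard) hTp hEs _ φ' hφ' ⟨_, hPm x⟩)
  rw [hind x] at h
  obtain ⟨t, ht, hte⟩ := h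
  set d : S := (⟨x, hPS x.2⟩ : S)⁻¹ * ⟨φ x, hφS x⟩ with hd
  have h2 : (t : Ω)⁻¹ * d ∈ Q :=
    (hker (t⁻¹ * d)).1 (by rw [map_mul, map_inv, hte, hd, map_mul, map_inv, inv_mul_cancel])
  have h3 : (t : Ω) * ((t : Ω)⁻¹ * d) ∈ T₀ ⊔ Q := mul_mem (Subgroup.mem_sup_left ht) (Subgroup.mem_sup_right h2)
  rw [mul_inv_cancel_left] at h3
  exact h3

include hW2 in
/-- A non-constrained system: the subsystem of inner action on the core and the normalizer of `Q C_S(Q)`. -/
theorem ctl_of_not_constrained (hS : IsPGroup p S) (hF : F.IsSaturated p) (hIH : CtlBelow W p F)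
    (hnc : ¬ F.IsConstrained p)
    (hlt : ¬ ∀ P, F.Hom P ⊆ (actSystem F (core_isNormal F).1 (isNormal_le_normalizer (core_isNormal F))).Hom P) :
    TransferCtl W F := by
  set Q := F.core with hQdef
  set hQ := core_isNormal F
  set F₁ := actSystem F hQ.1 (isNormal_le_normalizer hQ)
  have hQS := hQ.1
  have hQc := isNormal_stronglyClosed hQ
  have hQN := isNormal_le_normalizer hQ
  haveI := finite_of_le (S := S) hQS
  have hF₁ : ∀ (P : Subgroup Ω) (φ : P →* Ω), φ ∈ F₁.Hom P → ∀ x : P, (x : Ω)⁻¹ * φ x ∈ transferTarget W F :=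
    fun P φ hφ x => transferTarget_mono W (M := F₁) (F := F) (fun _ _ h => h.1) (hIH Ω S F₁
      (Or.inr ⟨rfl, ncard_homGraphs_lt F F₁ (fun _ _ h => h.1) hlt⟩) hS (actSystem_saturated hS hF hQ) P φ hφ x)
  set R := Q ⊔ centralizerIn S Q with hR
  have hRS : R ≤ S := sup_le hQS (centralizerIn_le S Q)
  have hRN : S ≤ normalizerIn S R := by
    have key : ∀ g ∈ S, ∀ x ∈ R, g * x * g⁻¹ ∈ R := by
      intro g hg x hx
      refine apply_mem_of_sup (conjHom R g) (R := R) (fun y => Subgroup.mem_sup_left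
        ((Subgroup.mem_normalizer_iff.1 (hQN hg) _).1 y.2))
        (fun c => Subgroup.mem_sup_right ⟨S.mul_mem (S.mul_mem hg c.2.1) (S.inv_mem hg),
          Subgroup.mem_centralizer_iff.2 fun y hy => ?_⟩) ⟨x, hx⟩
      have hy' : g⁻¹ * y * g ∈ Q := by
        simpa using (Subgroup.mem_normalizer_iff.1 (hQN (S.inv_mem hg)) _).1 hy
      show y * (g * (c : Ω) * g⁻¹) = g * (c : Ω) * g⁻¹ * y
      calc y * (g * (c : Ω) * g⁻¹) = g * (g⁻¹ * y * g * c) * g⁻¹ := by group
        _ = g * (c * (g⁻¹ * y * g)) * g⁻¹ := by rw [Subgroup.mem_centralizer_iff.1 c.2.2 _ hy']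
        _ = g * (c : Ω) * g⁻¹ * y := by group
    exact fun g hg => ⟨hg, mem_normalizer_of_conj_mem g (key g hg) fun x hx => by
      simpa using key g⁻¹ (S.inv_mem hg) x hx⟩
  have hRc : ¬ R ≤ F.core := fun hle => hnc ⟨hF, Q, hQ, hQS, fun Q' hQ' => by
    obtain ⟨φ, hφ, rfl⟩ := hQ'
    have hr : φ.range = Q := Subgroup.eq_of_le_of_card_ge
      (by rintro _ ⟨x, rfl⟩; exact hQc.2 Q le_rfl φ hφ x) (isConj_card ⟨φ, hφ, rfl⟩).le
    rw [hr]
    exact le_sup_right.trans hle⟩
  intro P φ hφ x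
  obtain ⟨ψ, hψ, h1, h2⟩ := hQ.2 P φ hφ
  have h2' := (map_subgroupOf_eq_iff ψ le_sup_right).1 h2
  have hPQ : P ⊔ Q ≤ S := hom_le F hψ
  set ψQ := ψ.comp (Subgroup.inclusion (le_sup_right : Q ≤ P ⊔ Q)) with hψQdef
  have hψQ : ψQ ∈ F.Hom Q := restrict_mem F hψ _
  have hr : ψQ.range = Q := Subgroup.eq_of_le_of_card_ge (by rintro _ ⟨y, rfl⟩; exact h2'.1 y)
    (isConj_card ⟨_, hψQ, rfl⟩).le
  have hQn := fullyNormalized_of_normal (F := F) hQS hQN
  set D := extender S Q ψQ with hD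
  obtain ⟨χ, hχ, hχe⟩ := (fullyNormalized_receptive hS hF hQn).2 Q ψQ hψQ hr
  have hRD : R ≤ D := centralizerIn_sup_le_extender F hψQ
  have hQD : Q ≤ D := le_sup_left.trans hRD
  have hPD : P ⊔ Q ≤ D := by
    intro g hg
    have hgN : g ∈ Subgroup.normalizer (Q : Set Ω) := hQN (hPQ hg)
    refine Subgroup.subset_closure ⟨hPQ hg, hgN, ψ ⟨g, hg⟩, hom_apply_mem F hψ _, fun y hy => ?_⟩
    show ψ _ = _
    rw [show Subgroup.inclusion (le_sup_right : Q ≤ P ⊔ Q) ⟨g * y * g⁻¹, hy⟩ =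
      (⟨g, hg⟩ : ↥(P ⊔ Q)) * Subgroup.inclusion le_sup_right y * (⟨g, hg⟩ : ↥(P ⊔ Q))⁻¹ from Subtype.ext rfl,
      map_mul, map_mul, map_inv]
    rfl
  have hDS : D ≤ S := hom_le F hχ
  have hχR : ∀ z : R, χ (Subgroup.inclusion hRD z) ∈ R := fun z => by
    refine apply_mem_of_sup (χ.comp (Subgroup.inclusion hRD)) (R := R) (fun y => ?_) (fun c => ?_) z
    · refine Subgroup.mem_sup_left ?_
      exact (congrArg (· ∈ Q) (hχe y y.2 (hQD y.2))).mpr (h2'.1 y)
    · refine Subgroup.mem_sup_right ⟨hom_apply_mem F hχ _, Subgroup.mem_centralizer_iff.2 fun y hy => ?_⟩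
      obtain ⟨w, hw⟩ := hr.ge hy
      rw [← hw, ← hχe w w.2 (hQD w.2)]
      show χ _ * χ _ = χ _ * χ _
      rw [← map_mul, ← map_mul]
      exact congrArg χ (Subtype.ext (Subgroup.mem_centralizer_iff.1 c.2.2 _ w.2))
  have hχn : χ ∈ F.normalizerHom R D := by
    refine ⟨hχ, hDS.trans hRN, fun z => hRN (hom_apply_mem F hχ z),
      χ.comp (Subgroup.inclusion (sup_le le_rfl hRD)), restrict_mem F hχ _, fun z => rfl, ?_⟩
    rw [map_subgroupOf_eq_iff _ le_sup_right]
    refine ⟨fun z => hχR z, fun z hz => ?_⟩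
    haveI := finite_of_le (S := S) hRS
    obtain ⟨w, hw⟩ := (Finite.injective_iff_surjective (f := fun w : R => (⟨_, hχR w⟩ : R))).1
      (fun a b h => Subgroup.inclusion_injective _ (F.injective_of_mem hχ
        (show χ (Subgroup.inclusion hRD a) = χ (Subgroup.inclusion hRD b) from
          congrArg (fun z : R => (z : Ω)) h))) ⟨z, hz⟩
    exact ⟨w, congrArg (fun z : R => (z : Ω)) hw⟩
  have hd1 : ∀ z : D, (z : Ω)⁻¹ * χ z ∈ transferTarget W F := fun z =>
    normalizer_diff_of_not_core W hS hF hIH hRS hRN hRc hχn z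
  -- the quotient map fixes the core
  set β := χ.comp (Subgroup.inclusion hPD) with hβdef
  obtain ⟨σ, hσ, hσr, hσ1, -⟩ := exists_inv F (restrict_mem F hχ hPD : β ∈ F.Hom _)
  obtain ⟨γ, hγ, hγe⟩ := comp_hom_mem F hσ hψ fun y => hσr.le ⟨y, rfl⟩
  have hγval : ∀ w : ↥(P ⊔ Q), γ ⟨β w, w, rfl⟩ = ψ w := fun w => by
    rw [hγe]
    exact apply_congr ψ (hσ1 w ⟨w, rfl⟩) _ w.2
  have hQle : Q ≤ β.range := fun y hy => by
    obtain ⟨w, hw⟩ := hr.ge hy
    exact ⟨Subgroup.inclusion le_sup_right w, (hχe w w.2 _).trans hw⟩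
  have hγ₁ : γ ∈ F₁.Hom β.range := by
    refine ⟨hγ, γ.comp (Subgroup.inclusion (sup_le le_rfl hQle)), restrict_mem F hγ _, fun z => rfl, 1, S.one_mem,
      fun q => ?_⟩
    obtain ⟨w, hw⟩ := hr.ge q.2
    have hβw : β (Subgroup.inclusion le_sup_right w) = q := (hχe w w.2 _).trans hw
    refine (apply_congr γ hβw.symm _ ⟨_, rfl⟩).trans ((hγval _).trans ?_)
    rw [one_mul, inv_one, mul_one]
    exact hw
  have hd2 := hF₁ _ γ hγ₁ ⟨β (Subgroup.inclusion le_sup_left x), _, rfl⟩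
  rw [hγval, h1] at hd2
  have := Subgroup.mul_mem _ (hd1 (Subgroup.inclusion hPD (Subgroup.inclusion le_sup_left x))) hd2
  simpa [β, mul_assoc] using this

include hW1 hW2 in
/-- A functor satisfying the local condition controls transfer. -/
theorem transferCtl
    (hT : ∀ (G : Type u) [Group G] [Finite G] (P : Sylow p G),
      Subgroup.centralizer ((Cfsg.pCore p G : Subgroup G) : Set G) ≤ Cfsg.pCore p G →
        Cfsg.pCore p G ⊓ commutator G = Cfsg.pCore p G ⊓ (commutator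
          ↥(Subgroup.normalizer (((W ↥(P : Subgroup G)).map (P : Subgroup G).subtype : Subgroup G) : Set G))).map
          (Subgroup.normalizer (((W ↥(P : Subgroup G)).map (P : Subgroup G).subtype : Subgroup G) : Set G)).subtype) :
    ∀ (n m : ℕ) (Ω : Type u) [Group Ω] (S : Subgroup Ω) [Finite S] (F : FusionSystem S), Nat.card S = n →
      (homGraphs F).ncard = m → IsPGroup p S → F.IsSaturated p → TransferCtl W F := by
  intro n
  induction n using Nat.strong_induction_on with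
  | _ n ihn =>
  intro m
  induction m using Nat.strong_induction_on with
  | _ m ihm =>
  intro Ω _ S _ F hn hm hS hF
  have hIH : CtlBelow W p F := by
    intro Ω' _ T _ M hlt hTp hMs
    rcases hlt with hlt | ⟨he, hlt⟩
    · exact ihn _ (hn ▸ hlt) _ Ω' T M rfl rfl hTp hMs
    · exact ihm _ (hm ▸ hlt) Ω' T M (he.trans hn) rfl hTp hMs
  by_cases hcore : F.core = ⊥
  · exact ctl_of_core_eq_bot W hW1 hW2 hS hF hIH hcore
  have hQ := core_isNormal F
  -- it is enough to treat the focal elements inside the core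
  have hreduce : F.focalSubgroup ⊓ F.core ≤ transferTarget W F → TransferCtl W F := by
    intro h P φ hφ x
    have hd := diff_mem_sup_core W hW1 hW2 hS hF hIH hcore hφ x
    have hle : F.core ≤ S := hQ.1
    have hsub : transferTarget W F ≤ Subgroup.normalizer (F.core : Set Ω) := fun g hg =>
      isNormal_le_normalizer hQ ((Subgroup.closure_le S).2 (by
        rintro _ ⟨R, ψ, y, hψ, rfl⟩
        exact S.mul_mem (S.inv_mem (hom_le F hψ.1 y.2)) (hom_apply_mem F hψ.1 y)) hg)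
    rw [← SetLike.mem_coe, Subgroup.coe_mul_of_left_le_normalizer_right _ _ hsub] at hd
    obtain ⟨t, ht, q, hq, he⟩ := hd
    have hqf : q ∈ F.focalSubgroup := by
      have h1 : (x : Ω)⁻¹ * φ x ∈ F.focalSubgroup := Subgroup.subset_closure ⟨P, φ, x, hφ, rfl⟩
      rw [← show t * q = _ from he] at h1
      have h2 := F.focalSubgroup.mul_mem (F.focalSubgroup.inv_mem (transferTarget_le_focal W F ht)) h1
      rwa [inv_mul_cancel_left] at h2
    rw [← show t * q = _ from he]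
    exact mul_mem ht (h ⟨hqf, hq⟩)
  by_cases hc : F.IsConstrained p
  · obtain ⟨-, Z, hZn, hZc⟩ := hc
    refine hreduce (focal_inf_le_of_constrained W hW2 hT hS hF ⟨hQ, isCentric_mono hZc (isNormal_le_core hZn) hQ.1⟩)
  by_cases hall : ∀ P, F.Hom P ⊆ (actSystem F hQ.1 (isNormal_le_normalizer hQ)).Hom P
  · refine hreduce ((focal_inf_le_of_inner_aut hS hF hQ ?_).trans (commutator_le_transferTarget W hW2 hS F))
    intro α hα
    obtain ⟨-, ψ, hψ, h1, s, hs, h2⟩ := hall _ ((mem_autGroup_iff F hQ.1 α).1 hα)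
    refine (mem_autInducedBy_iff α).2 ⟨s, hs, fun q => ?_⟩
    rw [← h2 q]
    exact (h1 q).symm
  exact ctl_of_not_constrained W hW2 hS hF hIH hc hall

end Cfsg.Agent.FusionSys
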