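import Cfsg.Agent.Lib.Fusion.UnitUni
import Cfsg.Agent.Lib.Fusion.Saturated

/-!
# The special unitary group of the antidiagonal form: monomial elements, generation, rigidity
-/

set_option autoImplicit false
set_option linter.unusedSectionVars false

namespace Cfsg.Agent.FusionPSU

open Matrix

variable {K : Type*} [Field K] {n : ℕ} {σ : K ≃+* K}

local notation "Mn" => Matrix (Fin n) (Fin n) K
local notation "SLn" => Matrix.SpecialLinearGroup (Fin n) K
local notation "E" => Matrix.single (α := K)
local notation "GJ" => gj (K := K) (n := n) σ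

/-! ### Indices -/

theorem good_iff {i j : Fin n} :
    Good i j ↔ (i : ℕ) ≠ j ∧ (j : ℕ) + i + 1 ≠ n ∧ 2 * (i : ℕ) + 1 ≠ n ∧ 2 * (j : ℕ) + 1 ≠ n := by
  have := i.isLt
  have := j.isLt
  simp only [Good, ne_eq, Fin.ext_iff, Fin.val_rev]
  omega

theorem nerev_iff {i : Fin n} : i ≠ Fin.rev i ↔ 2 * (i : ℕ) + 1 ≠ n := by
  have := i.isLt
  simp only [ne_eq, Fin.ext_iff, Fin.val_rev]
  omega

theorem mid_iff {i w : Fin n} : Mid i w ↔ 2 * (w : ℕ) + 1 = n ∧ (i : ℕ) ≠ w := by
  have := i.isLt
  have := w.isLt
  constructor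
  · rintro ⟨h1, h2, -⟩
    simp only [ne_eq, Fin.ext_iff, Fin.val_rev] at h1 h2
    omega
  · rintro ⟨h1, h2⟩
    refine ⟨?_, ?_, ?_⟩ <;> simp only [ne_eq, Fin.ext_iff, Fin.val_rev] <;> omega

/-! ### Actions on the standard vectors -/

theorem single_mulVec_pi (i j b : Fin n) (c x : K) :
    E i j c *ᵥ Pi.single b x = if j = b then Pi.single i (c * x) else (0 : Fin n → K) := by
  ext a
  rw [Matrix.mulVec_single]
  rcases eq_or_ne j b with rfl | h
  · rw [if_pos rfl]
    rcases eq_or_ne a i with rfl | ha
    · simp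
    · simp [ha, Matrix.single_apply, ha.symm]
  · simp [h, Matrix.single_apply]

/-- `g` maps a standard vector to a multiple of a standard vector. -/
def Col (g : GJ) (i l : Fin n) (α : K) : Prop := ∀ x, mat g *ᵥ Pi.single i x = Pi.single l (α * x)

theorem Col.mul {g h : GJ} {i l r : Fin n} {α β : K} (hg : Col g i l α) (hh : Col h l r β) :
    Col (h * g) i r (β * α) := fun x => by rw [mat_mul, ← Matrix.mulVec_mulVec, hg, hh, mul_assoc]

theorem Col.inv {g : GJ} {i l : Fin n} {α : K} (hg : Col g i l α) (hα : α ≠ 0) : Col g⁻¹ l i α⁻¹ := fun x => by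
  have h := hg (α⁻¹ * x)
  rw [mul_inv_cancel_left₀ hα] at h
  rw [← h,
    Matrix.mulVec_mulVec, ← mat_mul, inv_mul_cancel, mat_one, Matrix.one_mulVec]

theorem Col.entry {g : GJ} {i l : Fin n} {α : K} (hg : Col g i l α) (a : Fin n) :
    mat g a i = if a = l then α else 0 := by
  have := congrFun (hg 1) a
  simpa [Matrix.mulVec_single, Pi.single_apply] using this

theorem conj_single {g : GJ} {i k l r : Fin n} {α β : K} (hi : Col g i l α) (hk : Col g k r β) (c : K) :
    mat g * E i (Fin.rev k) c * mat g⁻¹ = E l (Fin.rev r) (α * c * σ β) := by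
  have e : mat g * E i (Fin.rev k) c = E l (Fin.rev k) (α * c) := by
    ext a b
    rcases eq_or_ne b (Fin.rev k) with rfl | hb
    · rw [Matrix.mul_single_apply_same, hi.entry]
      rcases eq_or_ne a l with rfl | ha
      · simp
      · simp [ha, ha.symm, Matrix.single_apply]
    · rw [Matrix.mul_single_apply_of_ne _ _ _ _ _ hb]
      simp [hb.symm, Matrix.single_apply]
  rw [e]
  ext a b
  rcases eq_or_ne a l with rfl | ha
  · rw [Matrix.single_mul_apply_same, mat_inv, adm_apply, Fin.rev_rev, hk.entry, apply_ite σ, map_zero,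
      Matrix.single_apply]
    rcases eq_or_ne b (Fin.rev r) with rfl | hb
    · rw [if_pos (Fin.rev_rev r), if_pos ⟨rfl, rfl⟩]
    · rw [if_neg fun e => hb (by rw [← e, Fin.rev_rev]), mul_zero, if_neg fun e => hb e.2.symm]
  · rw [Matrix.single_mul_apply_of_ne _ _ _ _ _ ha]
    simp [ha.symm, Matrix.single_apply]

theorem mat_conj {g u : GJ} {N : Mn} (hu : mat u = 1 + N) :
    mat (g * u * g⁻¹) = 1 + mat g * N * mat g⁻¹ := by
  rw [mat_mul, mat_mul, hu, mul_add, mul_one, add_mul, ← mat_mul g g⁻¹, mul_inv_cancel, mat_one]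

section act

variable {p : ℕ} (D : Setup σ p)

theorem conj_xel {g : GJ} {i j l r : Fin n} (h : Good i j) (h' : Good l (Fin.rev r)) {α β : K}
    (hi : Col g i l α) (hj : Col g (Fin.rev j) r β) (c : K) :
    g * xel D h c * g⁻¹ = xel D h' (α * c * σ β) := by
  refine mat_injective ?_
  rw [mat_conj (xel_coe D h c), xel_coe, xN, xN, mul_sub, sub_mul]
  have e := conj_single hi hj c
  rw [Fin.rev_rev] at e
  rw [e, conj_single hj hi, Fin.rev_rev, map_mul, map_mul, D.invol]
  rw [show β * σ c * σ α = σ α * σ c * β by ring]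

theorem conj_zel {g : GJ} {i l : Fin n} (h : i ≠ Fin.rev i) (h' : l ≠ Fin.rev l) {α c : K} (hc : σ c = -c)
    (hc' : σ (α * c * σ α) = -(α * c * σ α)) (hi : Col g i l α) :
    g * zel D h hc * g⁻¹ = zel D h' hc' := by
  refine mat_injective ?_
  rw [mat_conj (zel_coe D h hc), zel_coe, conj_single hi hi]

theorem conj_mel {g : GJ} {i l w : Fin n} (h : Mid i w) (h' : Mid l w) {α a b : K}
    (hab : b + σ b + a * σ a = 0) (hab' : α * b * σ α + σ (α * b * σ α) + α * a * σ (α * a) = 0)
    (hi : Col g i l α) (hw : Col g w w 1) :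
    g * mel D h hab * g⁻¹ = mel D h' hab' := by
  refine mat_injective ?_
  rw [mat_conj (mel_coe D h hab), mel_coe, mN, mN, mul_add, add_mul, mul_sub, sub_mul]
  have e1 := conj_single hi hw a
  rw [h.mid, map_one, mul_one] at e1
  rw [e1, conj_single hi hi, conj_single hw hi, one_mul, map_mul σ α a, mul_comm (σ α) (σ a)]

theorem xel_col_fix {i j b : Fin n} (h : Good i j) (c : K) (h1 : b ≠ j) (h2 : b ≠ Fin.rev i) :
    Col (xel D h c) b b 1 := fun x => by
  rw [xel_coe, xN, Matrix.add_mulVec, Matrix.one_mulVec, Matrix.sub_mulVec, single_mulVec_pi, single_mulVec_pi,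
    if_neg h1.symm, if_neg h2.symm, sub_zero, add_zero, one_mul]

theorem xel_act {i j : Fin n} (h : Good i j) (c x : K) :
    mat (xel D h c) *ᵥ Pi.single j x = Pi.single j x + Pi.single i (c * x) := by
  rw [xel_coe, xN, Matrix.add_mulVec, Matrix.one_mulVec, Matrix.sub_mulVec, single_mulVec_pi, single_mulVec_pi,
    if_pos rfl, if_neg h.2.1.symm, sub_zero]

theorem xel_rev {i j : Fin n} (h : Good i j) (c : K) : xel D h c = xel D h.rev (- σ c) :=
  mat_injective (by
    rw [xel_coe, xel_coe, xN, xN, Fin.rev_rev, Fin.rev_rev, map_neg, D.invol, ← Matrix.single_neg,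
      ← Matrix.single_neg]
    abel)

/-- The monomial element of a short root. -/
def sW {i j : Fin n} (h : Good i j) (a : K) : GJ := xel D h a * xel D h.swap (-a⁻¹) * xel D h a

theorem sW_col_left {i j : Fin n} (h : Good i j) {a : K} (ha : a ≠ 0) : Col (sW D h a) i j (-a⁻¹) := fun x => by
  rw [sW, mat_mul, mat_mul, ← Matrix.mulVec_mulVec, ← Matrix.mulVec_mulVec,
    xel_col_fix D h a h.1 h.2.2.1, one_mul, xel_act, Matrix.mulVec_add, xel_act,
    xel_col_fix D h a h.1 h.2.2.1, one_mul, show a * (-a⁻¹ * x) = -x by field_simp, Pi.single_neg]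
  abel

theorem sW_col_right {i j : Fin n} (h : Good i j) {a : K} (ha : a ≠ 0) : Col (sW D h a) j i a := fun x => by
  have h1 : j ≠ Fin.rev j := h.2.2.2
  rw [sW, mat_mul, mat_mul, ← Matrix.mulVec_mulVec, ← Matrix.mulVec_mulVec, xel_act, Matrix.mulVec_add,
    xel_col_fix D h.swap (-a⁻¹) h.1.symm h1, one_mul, xel_act,
    show -a⁻¹ * (a * x) = -x by field_simp, Pi.single_neg,
    show Pi.single j x + (Pi.single i (a * x) + -Pi.single j x) = (Pi.single i (a * x) : Fin n → K) by abel,
    xel_col_fix D h a h.1 h.2.2.1, one_mul]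

theorem sW_eq_rev {i j : Fin n} (h : Good i j) (a : K) : sW D h a = sW D h.rev (- σ a) := by
  rw [sW, sW, ← xel_rev, xel_rev D h.swap (-a⁻¹), show - σ (-a⁻¹) = -(- σ a)⁻¹ by
    rw [map_neg, map_inv₀, inv_neg]]

theorem sW_col_fix {i j b : Fin n} (h : Good i j) (a : K) (h1 : b ≠ i) (h2 : b ≠ j) (h3 : b ≠ Fin.rev i)
    (h4 : b ≠ Fin.rev j) : Col (sW D h a) b b 1 := by
  have := ((xel_col_fix D h a h2 h3).mul (xel_col_fix D h.swap (-a⁻¹) h1 h4)).mul (xel_col_fix D h a h2 h3)
  rw [one_mul, one_mul, ← mul_assoc] at this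
  exact this

theorem sW_col_left' {i j : Fin n} (h : Good i j) {a : K} (ha : a ≠ 0) :
    Col (sW D h a) (Fin.rev i) (Fin.rev j) (- σ a) := by
  rw [sW_eq_rev]; exact sW_col_right D h.rev (neg_ne_zero.2 ((map_ne_zero σ).2 ha))

theorem sW_col_right' {i j : Fin n} (h : Good i j) {a : K} (ha : a ≠ 0) :
    Col (sW D h a) (Fin.rev j) (Fin.rev i) (σ a)⁻¹ := by
  rw [sW_eq_rev]
  have := sW_col_left D h.rev (neg_ne_zero.2 ((map_ne_zero σ).2 ha))
  rwa [inv_neg, neg_neg] at this

/-- The torus element of a short root. -/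
def tD {i j : Fin n} (h : Good i j) (a : K) : GJ := sW D h a * (sW D h 1)⁻¹

theorem tD_col {i j : Fin n} (h : Good i j) {a : K} (ha : a ≠ 0) (b : Fin n) :
    Col (tD D h a) b b (if b = i then a else if b = j then a⁻¹ else if b = Fin.rev i then (σ a)⁻¹ else
      if b = Fin.rev j then σ a else 1) := by
  by_cases h1 : b = i
  · subst h1
    rw [if_pos rfl]
    have := ((sW_col_right D h one_ne_zero).inv one_ne_zero).mul (sW_col_right D h ha)
    rwa [inv_one, mul_one] at this
  rw [if_neg h1]
  by_cases h2 : b = j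
  · subst h2
    rw [if_pos rfl]
    have := ((sW_col_left D h one_ne_zero).inv (by simp)).mul (sW_col_left D h ha)
    rwa [inv_one, show -a⁻¹ * (-1 : K)⁻¹ = a⁻¹ by norm_num] at this
  rw [if_neg h2]
  by_cases h3 : b = Fin.rev i
  · subst h3
    rw [if_pos rfl]
    have := ((sW_col_right' D h one_ne_zero).inv (by simp)).mul (sW_col_right' D h ha)
    rwa [map_one, inv_one, inv_one, mul_one] at this
  rw [if_neg h3]
  by_cases h4 : b = Fin.rev j
  · subst h4
    rw [if_pos rfl]
    have := ((sW_col_left' D h one_ne_zero).inv (by simp)).mul (sW_col_left' D h ha)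
    rwa [map_one, show - σ a * (-1 : K)⁻¹ = σ a by norm_num] at this
  rw [if_neg h4]
  have := ((sW_col_fix D h 1 h1 h2 h3 h4).inv one_ne_zero).mul (sW_col_fix D h a h1 h2 h3 h4)
  rwa [inv_one, one_mul] at this

theorem zel_col_fix {i b : Fin n} (h : i ≠ Fin.rev i) {c : K} (hc : σ c = -c) (h1 : b ≠ Fin.rev i) :
    Col (zel D h hc) b b 1 := fun x => by
  rw [zel_coe, Matrix.add_mulVec, Matrix.one_mulVec, single_mulVec_pi, if_neg h1.symm, add_zero, one_mul]

theorem zel_act {i : Fin n} (h : i ≠ Fin.rev i) {c : K} (hc : σ c = -c) (x : K) :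
    mat (zel D h hc) *ᵥ Pi.single (Fin.rev i) x = Pi.single (Fin.rev i) x + Pi.single i (c * x) := by
  rw [zel_coe, Matrix.add_mulVec, Matrix.one_mulVec, single_mulVec_pi, if_pos rfl]

theorem neg_inv_anti {c : K} (hc : σ c = -c) : σ (-c⁻¹) = -(-c⁻¹) := by
  rw [map_neg, map_inv₀, hc, inv_neg]

/-- The monomial element of a long root. -/
def zW {i : Fin n} (h : i ≠ Fin.rev i) {c : K} (hc : σ c = -c) : GJ :=
  zel D (rev_ne_rev h) hc * zel D h (neg_inv_anti hc) * zel D (rev_ne_rev h) hc

theorem zW_col_left {i : Fin n} (h : i ≠ Fin.rev i) {c : K} (hc : σ c = -c) (hc0 : c ≠ 0) :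
    Col (zW D h hc) i (Fin.rev i) c := fun x => by
  have e := zel_act D (rev_ne_rev h) hc
  rw [Fin.rev_rev] at e
  rw [zW, mat_mul, mat_mul, ← Matrix.mulVec_mulVec, ← Matrix.mulVec_mulVec, e, Matrix.mulVec_add,
    zel_col_fix D h (neg_inv_anti hc) h, one_mul, zel_act D h (neg_inv_anti hc),
    show -c⁻¹ * (c * x) = -x by field_simp, Pi.single_neg,
    show Pi.single i x + (Pi.single (Fin.rev i) (c * x) + -Pi.single i x) =
      (Pi.single (Fin.rev i) (c * x) : Fin n → K) by abel,
    zel_col_fix D (rev_ne_rev h) hc (by rw [Fin.rev_rev]; exact h.symm), one_mul]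

theorem zW_col_right {i : Fin n} (h : i ≠ Fin.rev i) {c : K} (hc : σ c = -c) (hc0 : c ≠ 0) :
    Col (zW D h hc) (Fin.rev i) i (-c⁻¹) := fun x => by
  have e := zel_act D (rev_ne_rev h) hc
  rw [Fin.rev_rev] at e
  have hf := zel_col_fix D (rev_ne_rev h) hc (show Fin.rev i ≠ Fin.rev (Fin.rev i) by rw [Fin.rev_rev]; exact h.symm)
  rw [zW, mat_mul, mat_mul, ← Matrix.mulVec_mulVec, ← Matrix.mulVec_mulVec, hf, one_mul,
    zel_act D h (neg_inv_anti hc), Matrix.mulVec_add, hf, one_mul, e,
    show c * (-c⁻¹ * x) = -x by field_simp, Pi.single_neg]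
  abel

theorem zW_col_fix {i b : Fin n} (h : i ≠ Fin.rev i) {c : K} (hc : σ c = -c) (h1 : b ≠ i)
    (h2 : b ≠ Fin.rev i) : Col (zW D h hc) b b 1 := by
  have h1' : b ≠ Fin.rev (Fin.rev i) := by rwa [Fin.rev_rev]
  have := ((zel_col_fix D (rev_ne_rev h) hc h1').mul (zel_col_fix D h (neg_inv_anti hc) h2)).mul
    (zel_col_fix D (rev_ne_rev h) hc h1')
  rw [one_mul, one_mul, ← mul_assoc] at this
  exact this

theorem mel_col_fix {i w b : Fin n} (h : Mid i w) {a c : K} (hac : c + σ c + a * σ a = 0) (h1 : b ≠ w)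
    (h2 : b ≠ Fin.rev i) : Col (mel D h hac) b b 1 := fun x => by
  rw [mel_coe, mN, Matrix.add_mulVec, Matrix.one_mulVec, Matrix.add_mulVec, Matrix.sub_mulVec, single_mulVec_pi,
    single_mulVec_pi, single_mulVec_pi, if_neg h1.symm, if_neg h2.symm, if_neg h2.symm, sub_zero, add_zero,
    add_zero, one_mul]

theorem mel_act_mid {i w : Fin n} (h : Mid i w) {a c : K} (hac : c + σ c + a * σ a = 0) (x : K) :
    mat (mel D h hac) *ᵥ Pi.single w x = Pi.single w x + Pi.single i (a * x) := by
  rw [mel_coe, mN, Matrix.add_mulVec, Matrix.one_mulVec, Matrix.add_mulVec, Matrix.sub_mulVec, single_mulVec_pi,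
    single_mulVec_pi, single_mulVec_pi, if_pos rfl, if_neg h.ne', if_neg h.ne', sub_zero, add_zero]

theorem mel_act_rev {i w : Fin n} (h : Mid i w) {a c : K} (hac : c + σ c + a * σ a = 0) (x : K) :
    mat (mel D h hac) *ᵥ Pi.single (Fin.rev i) x =
      Pi.single (Fin.rev i) x - Pi.single w (σ a * x) + Pi.single i (c * x) := by
  rw [mel_coe, mN, Matrix.add_mulVec, Matrix.one_mulVec, Matrix.add_mulVec, Matrix.sub_mulVec, single_mulVec_pi,
    single_mulVec_pi, single_mulVec_pi, if_neg h.ne'.symm, if_pos rfl, if_pos rfl]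
  abel

/-- The monomial element of the short root pair through the middle. -/
theorem exists_mW [Finite K] {i w : Fin n} (h : Mid i w) {b : K} (hb : b ≠ 0) :
    ∃ (g : GJ), (∃ (a a' a'' c c' c'' : K) (h1 : c + σ c + a * σ a = 0) (h2 : c' + σ c' + a' * σ a' = 0)
      (h3 : c'' + σ c'' + a'' * σ a'' = 0), g = mel D h h1 * mel D h.rev h2 * mel D h h3) ∧
      Col g i (Fin.rev i) (σ b)⁻¹ ∧ Col g w w (-(σ b / b)) ∧ Col g (Fin.rev i) i b ∧
      ∀ l, l ≠ i → l ≠ w → l ≠ Fin.rev i → Col g l l 1 := by
  obtain ⟨a, ha⟩ := Cfsg.Agent.Transvec.Herm.exists_norm D.ne_refl D.invol (-(b + σ b))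
    (by rw [map_neg, map_add, D.invol, add_comm])
  have hσb : σ b ≠ 0 := (map_ne_zero σ).2 hb
  have h1 : b + σ b + a * σ a = 0 := by rw [ha, add_neg_cancel]
  have h2 : (σ b)⁻¹ + σ (σ b)⁻¹ + -a / b * σ (-a / b) = 0 := by
    rw [map_inv₀, map_div₀, map_neg, D.invol]
    field_simp
    linear_combination h1
  have h3 : b + σ b + a / b * σ b * σ (a / b * σ b) = 0 := by
    rw [map_mul, map_div₀, D.invol]
    field_simp
    linear_combination h1
  have eq := Fin.rev_rev i
  have hfix : ∀ {u v : K} (huv : v + σ v + u * σ u = 0), Col (mel D h huv) i i 1 := fun huv =>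
    mel_col_fix D h huv h.ne h.nerev
  have hfix' : ∀ {u v : K} (huv : v + σ v + u * σ u = 0), Col (mel D h.rev huv) (Fin.rev i) (Fin.rev i) 1 :=
    fun huv => mel_col_fix D h.rev huv h.ne' (by rw [eq]; exact h.nerev.symm)
  have hrev := fun x => mel_act_rev D h.rev h2 x
  simp only [eq] at hrev
  have hsingle : ∀ (l : Fin n) {u v : K}, u = v → (Pi.single l u : Fin n → K) = Pi.single l v := fun l _ _ e =>
    e ▸ rfl
  refine ⟨mel D h h1 * mel D h.rev h2 * mel D h h3, ⟨_, _, _, _, _, _, h1, h2, h3, rfl⟩,
    fun x => ?_, fun x => ?_, fun x => ?_, fun l hl hlw hl' => ?_⟩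
  · rw [mat_mul, mat_mul, ← Matrix.mulVec_mulVec, ← Matrix.mulVec_mulVec, hfix h3, one_mul, hrev,
      Matrix.mulVec_add, Matrix.mulVec_sub, hfix h1, mel_act_mid, mel_act_rev, one_mul, map_div₀, map_neg]
    ext l
    simp only [Pi.add_apply, Pi.sub_apply, Pi.single_apply]
    rcases eq_or_ne l i with rfl | hli
    · simp only [if_true, if_neg h.ne, if_neg h.nerev, add_zero, sub_zero, zero_add, zero_sub]
      try field_simp
      try
        first
          | ring1 | linear_combination x * h1 | linear_combination (-x) * h1 | linear_combination (a * x) * h1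
          | linear_combination -(a * x) * h1 | linear_combination (σ a * x) * h1
          | linear_combination -(σ a * x) * h1
    rcases eq_or_ne l w with rfl | hlw
    · simp only [if_true, if_neg hli, if_neg h.ne'.symm, add_zero, sub_zero, zero_add, zero_sub]
      try field_simp
      try
        first
          | ring1 | linear_combination x * h1 | linear_combination (-x) * h1 | linear_combination (a * x) * h1
          | linear_combination -(a * x) * h1 | linear_combination (σ a * x) * h1
          | linear_combination -(σ a * x) * h1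
    rcases eq_or_ne l (Fin.rev i) with rfl | hlr
    · simp only [if_true, if_neg hli, if_neg hlw, add_zero, sub_zero, zero_add, zero_sub]
      try field_simp
      try
        first
          | ring1 | linear_combination x * h1 | linear_combination (-x) * h1 | linear_combination (a * x) * h1
          | linear_combination -(a * x) * h1 | linear_combination (σ a * x) * h1
          | linear_combination -(σ a * x) * h1
    · simp only [if_neg hli, if_neg hlw, if_neg hlr, add_zero, sub_zero]
  · rw [mat_mul, mat_mul, ← Matrix.mulVec_mulVec, ← Matrix.mulVec_mulVec, mel_act_mid, Matrix.mulVec_add,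
      mel_act_mid, hrev, Matrix.mulVec_add, Matrix.mulVec_add, Matrix.mulVec_add, Matrix.mulVec_sub,
      mel_act_mid, mel_act_mid, mel_act_rev, mel_act_rev, hfix h1, one_mul, map_div₀, map_neg]
    ext l
    simp only [Pi.add_apply, Pi.sub_apply, Pi.single_apply]
    rcases eq_or_ne l i with rfl | hli
    · simp only [if_true, if_neg h.ne, if_neg h.nerev, add_zero, sub_zero, zero_add, zero_sub]
      try field_simp
      try
        first
          | ring1 | linear_combination x * h1 | linear_combination (-x) * h1 | linear_combination (a * x) * h1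
          | linear_combination -(a * x) * h1 | linear_combination (σ a * x) * h1
          | linear_combination -(σ a * x) * h1
    rcases eq_or_ne l w with rfl | hlw
    · simp only [if_true, if_neg hli, if_neg h.ne'.symm, add_zero, sub_zero, zero_add, zero_sub]
      try field_simp
      try
        first
          | ring1 | linear_combination x * h1 | linear_combination (-x) * h1 | linear_combination (a * x) * h1
          | linear_combination -(a * x) * h1 | linear_combination (σ a * x) * h1
          | linear_combination -(σ a * x) * h1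
    rcases eq_or_ne l (Fin.rev i) with rfl | hlr
    · simp only [if_true, if_neg hli, if_neg hlw, add_zero, sub_zero, zero_add, zero_sub]
      try field_simp
      try
        first
          | ring1 | linear_combination x * h1 | linear_combination (-x) * h1 | linear_combination (a * x) * h1
          | linear_combination -(a * x) * h1 | linear_combination (σ a * x) * h1
          | linear_combination -(σ a * x) * h1
    · simp only [if_neg hli, if_neg hlw, if_neg hlr, add_zero, sub_zero]
  · rw [mat_mul, mat_mul, ← Matrix.mulVec_mulVec, ← Matrix.mulVec_mulVec, mel_act_rev, Matrix.mulVec_add,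
      Matrix.mulVec_sub, hfix' h2, mel_act_mid, hrev, one_mul, Matrix.mulVec_add, Matrix.mulVec_sub,
      Matrix.mulVec_add, Matrix.mulVec_add, Matrix.mulVec_sub, mel_act_mid, mel_act_mid, mel_act_rev, mel_act_rev,
      mel_act_rev, hfix h1, one_mul, map_div₀, map_mul, map_div₀, map_neg, D.invol]
    ext l
    simp only [Pi.add_apply, Pi.sub_apply, Pi.single_apply]
    rcases eq_or_ne l i with rfl | hli
    · simp only [if_true, if_neg h.ne, if_neg h.nerev, add_zero, sub_zero, zero_add, zero_sub]
      try field_simp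
      try
        first
          | ring1 | linear_combination x * h1 | linear_combination (-x) * h1 | linear_combination (a * x) * h1
          | linear_combination -(a * x) * h1 | linear_combination (σ a * x) * h1
          | linear_combination -(σ a * x) * h1
    rcases eq_or_ne l w with rfl | hlw
    · simp only [if_true, if_neg hli, if_neg h.ne'.symm, add_zero, sub_zero, zero_add, zero_sub]
      try field_simp
      try
        first
          | ring1 | linear_combination x * h1 | linear_combination (-x) * h1 | linear_combination (a * x) * h1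
          | linear_combination -(a * x) * h1 | linear_combination (σ a * x) * h1
          | linear_combination -(σ a * x) * h1
    rcases eq_or_ne l (Fin.rev i) with rfl | hlr
    · simp only [if_true, if_neg hli, if_neg hlw, add_zero, sub_zero, zero_add, zero_sub]
      try field_simp
      try
        first
          | ring1 | linear_combination x * h1 | linear_combination (-x) * h1 | linear_combination (a * x) * h1
          | linear_combination -(a * x) * h1 | linear_combination (σ a * x) * h1
          | linear_combination -(σ a * x) * h1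
    · simp only [if_neg hli, if_neg hlw, if_neg hlr, add_zero, sub_zero]
  · have := ((mel_col_fix D h h3 hlw hl').mul (mel_col_fix D h.rev h2 hlw (by rwa [eq]))).mul
      (mel_col_fix D h h1 hlw hl')
    rw [one_mul, one_mul, ← mul_assoc] at this
    exact this

end act

/-! ### Diagonal elements -/

/-- Diagonal elements. -/
def IsDiag (g : GJ) : Prop := ∀ a b, a ≠ b → mat g a b = 0

theorem isDiag_of_col {g : GJ} {d : Fin n → K} (h : ∀ b, Col g b b (d b)) :
    IsDiag g ∧ ∀ b, mat g b b = d b :=
  ⟨fun a b hab => by rw [(h b).entry, if_neg hab], fun b => by rw [(h b).entry, if_pos rfl]⟩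

theorem IsDiag.mul {g h : GJ} (hg : IsDiag g) (hh : IsDiag h) :
    IsDiag (g * h) ∧ ∀ b, mat (g * h) b b = mat g b b * mat h b b := by
  refine ⟨fun a b hab => ?_, fun b => ?_⟩ <;> rw [mat_mul, Matrix.mul_apply]
  · refine Finset.sum_eq_zero fun c _ => ?_
    rcases eq_or_ne a c with rfl | hc
    · rw [hh a b hab, mul_zero]
    · rw [hg a c hc, zero_mul]
  · exact Finset.sum_eq_single b (fun c _ hc => by rw [hg b c hc.symm, zero_mul]) (by simp)

theorem IsDiag.rel {g : GJ} (hg : IsDiag g) (b : Fin n) :
    σ (mat g (Fin.rev b) (Fin.rev b)) * mat g b b = 1 := by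
  have := congrFun (congrFun (adm_mat_mul g) b) b
  rw [Matrix.mul_apply, Matrix.one_apply_eq, Finset.sum_eq_single b
    (fun c _ hc => by rw [hg c b hc, mul_zero]) (by simp), adm_apply] at this
  exact this

theorem IsDiag.inv {g : GJ} (hg : IsDiag g) :
    IsDiag g⁻¹ ∧ ∀ b, mat g⁻¹ b b = (mat g b b)⁻¹ := by
  refine ⟨fun a b hab => ?_, fun b => ?_⟩ <;> rw [mat_inv, adm_apply]
  · rw [hg _ _ fun e => hab (Fin.rev_injective e).symm, map_zero]
  · exact eq_inv_of_mul_eq_one_left (hg.rel b)

theorem IsDiag.eq_one {g : GJ} (hg : IsDiag g) (h : ∀ b, mat g b b = 1) : g = 1 :=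
  mat_injective (by
    ext a b
    rw [mat_one, Matrix.one_apply]
    rcases eq_or_ne a b with rfl | hab
    · rw [if_pos rfl, h]
    · rw [if_neg hab, hg a b hab])

theorem IsDiag.mem_borel [Finite K] {g : GJ} (hg : IsDiag g) : g ∈ borel :=
  mem_par_iff.2 fun a b hab => hg a b fun e => by subst e; exact lt_irrefl _ hab

/-- The diagonal elements are generated by those of the minimal parabolics. -/
theorem diag_le [Finite K] {p : ℕ} (D : Setup σ p) (hn : 4 ≤ n) {N : Subgroup GJ}
    (hshort : ∀ (i j : Fin n) (h : Good i j) (a : K), a ≠ 0 → (j : ℕ) = i + 1 → 2 * (j : ℕ) + 1 < n →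
      tD D h a ∈ N)
    (hlong : ∀ (i : Fin n) (h : i ≠ Fin.rev i) (c c₀ : K) (hc : σ c = -c) (hc₀ : σ c₀ = -c₀),
      c ≠ 0 → c₀ ≠ 0 → (Fin.rev i : ℕ) = i + 1 → zW D h hc * (zW D h hc₀)⁻¹ ∈ N)
    (hmid : ∀ (i w : Fin n) (h : Mid i w) (a a' a'' c c' c'' b b' b'' d d' d'' : K) (h1 : c + σ c + a * σ a = 0)
      (h2 : c' + σ c' + a' * σ a' = 0) (h3 : c'' + σ c'' + a'' * σ a'' = 0) (k1 : d + σ d + b * σ b = 0)
      (k2 : d' + σ d' + b' * σ b' = 0) (k3 : d'' + σ d'' + b'' * σ b'' = 0),
      (w : ℕ) = i + 1 → IsDiag (mel D h h1 * mel D h.rev h2 * mel D h h3 *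
          (mel D h k1 * mel D h.rev k2 * mel D h k3)⁻¹) →
        mel D h h1 * mel D h.rev h2 * mel D h h3 * (mel D h k1 * mel D h.rev k2 * mel D h k3)⁻¹ ∈ N)
    {g : GJ} (hg : IsDiag g) : g ∈ N := by
  suffices h : ∀ (r k : ℕ), k + r + 1 = n / 2 → ∀ g : GJ, IsDiag g →
      (∀ b : Fin n, (b : ℕ) < k → mat g b b = 1) → g ∈ N from
    h (n / 2 - 1) 0 (by omega) g hg fun b hb => absurd hb (by omega)
  intro r
  induction r with
  | zero =>
    intro k hk g hg h1
    let i : Fin n := ⟨k, by omega⟩
    have hi : (i : ℕ) = k := rfl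
    have hir : i ≠ Fin.rev i := nerev_iff.2 (by omega)
    have hgi : mat g i i ≠ 0 := fun e => by
      have := hg.rel i
      rw [e, mul_zero] at this
      exact zero_ne_one this
    have hone : ∀ {x : GJ}, IsDiag x → (∀ b : Fin n, (b : ℕ) < k → mat x b b = 1) → mat x i i = 1 →
        ∀ b : Fin n, 2 * (b : ℕ) + 1 ≠ n → mat x b b = 1 := by
      intro x hx hx1 hxi b hb
      have hb' := b.isLt
      rcases le_or_gt (b : ℕ) k with hbk | hbk
      · rcases eq_or_lt_of_le hbk with hbk | hbk
        · rwa [show b = i from Fin.ext hbk]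
        · exact hx1 b hbk
      · have h := hx.rel b
        have hv : (Fin.rev b : ℕ) = n - (b + 1) := Fin.val_rev b
        have : mat x (Fin.rev b) (Fin.rev b) = 1 := by
          rcases eq_or_lt_of_le (show (Fin.rev b : ℕ) ≤ k by omega) with hbk | hbk
          · rwa [show Fin.rev b = i from Fin.ext hbk]
          · exact hx1 _ hbk
        rwa [this, map_one, one_mul] at h
    rcases Nat.even_or_odd n with ⟨m, hm⟩ | ⟨m, hm⟩
    · -- no middle coordinate
      obtain ⟨c₀, hc₀0, hc₀⟩ := Cfsg.Agent.Transvec.Herm.exists_anti D.ne_refl D.invol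
      have hfix : σ (mat g i i) = mat g i i := by
        have hdet : (mat g).det = ∏ b, mat g b b := by
          conv_lhs => rw [show mat g = Matrix.diagonal fun b => mat g b b from by
            ext a b
            rw [Matrix.diagonal_apply]
            rcases eq_or_ne a b with rfl | hab
            · rw [if_pos rfl]
            · rw [if_neg hab, hg a b hab]]
          exact Matrix.det_diagonal
        rw [det_mat, Finset.prod_eq_mul i (Fin.rev i) hir ?_ (by simp) (by simp)] at hdet
        · have h2 := hg.rel (Fin.rev i)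
          rw [Fin.rev_rev] at h2
          calc σ (mat g i i) = σ (mat g i i) * (mat g i i * mat g (Fin.rev i) (Fin.rev i)) := by
                rw [← hdet, mul_one]
            _ = mat g i i * (σ (mat g i i) * mat g (Fin.rev i) (Fin.rev i)) := by ring
            _ = mat g i i := by rw [h2, mul_one]
        · rintro b - ⟨hbi, hbi'⟩
          have hb' := b.isLt
          simp only [ne_eq, Fin.ext_iff, Fin.val_rev] at hbi hbi'
          rcases le_or_gt (b : ℕ) k with hbk | hbk
          · exact h1 b (by omega)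
          · have h := hg.rel b
            rw [h1 (Fin.rev b) (by rw [Fin.val_rev]; omega), map_one, one_mul] at h
            exact h
      have hc : σ (c₀ / mat g i i) = -(c₀ / mat g i i) := by rw [map_div₀, hc₀, hfix, neg_div]
      have hc0 : c₀ / mat g i i ≠ 0 := div_ne_zero hc₀0 hgi
      set T := zW D hir hc * (zW D hir hc₀)⁻¹ with hTdef
      have hT := hlong i hir _ _ hc hc₀ hc0 hc₀0 (by rw [Fin.val_rev]; omega)
      have hTi : Col T i i (mat g i i) := by
        have := ((zW_col_right D hir hc₀ hc₀0).inv (by simp [hc₀0])).mul (zW_col_right D hir hc hc0)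
        rwa [show -(c₀ / mat g i i)⁻¹ * (-c₀⁻¹)⁻¹ = mat g i i by field_simp] at this
      have hTf : ∀ b, b ≠ i → b ≠ Fin.rev i → Col T b b 1 := fun b hb hb' => by
        have := ((zW_col_fix D hir hc₀ hb hb').inv one_ne_zero).mul (zW_col_fix D hir hc hb hb')
        rwa [inv_one, one_mul] at this
      have hTr : Col T (Fin.rev i) (Fin.rev i) ((c₀ / mat g i i) * c₀⁻¹) :=
        ((zW_col_left D hir hc₀ hc₀0).inv hc₀0).mul (zW_col_left D hir hc hc0)
      have hTd : IsDiag T := (isDiag_of_col (d := fun b => if b = i then mat g i i else if b = Fin.rev i then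
        (c₀ / mat g i i) * c₀⁻¹ else 1) fun b => by
          split_ifs with e e'
          · exact e ▸ hTi
          · exact e' ▸ hTr
          · exact hTf b e e').1
      have hx := (hTd.inv.1).mul hg
      have : T⁻¹ * g = 1 := hx.1.eq_one fun b => hone hx.1 (fun b hb => by
          have hb' := b.isLt
          rw [hx.2, hTd.inv.2, (hTf b ?_ ?_).entry, if_pos rfl, h1 b hb, inv_one, one_mul] <;>
            simp only [ne_eq, Fin.ext_iff, Fin.val_rev] <;> omega)
        (by rw [hx.2, hTd.inv.2, hTi.entry, if_pos rfl, inv_mul_cancel₀ hgi]) b (by omega)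
      rw [inv_mul_eq_one] at this
      exact this ▸ hT
    · -- a middle coordinate
      let w : Fin n := ⟨m, by omega⟩
      have hw : (w : ℕ) = m := rfl
      have hiw : Mid i w := mid_iff.2 ⟨by omega, by omega⟩
      obtain ⟨V, ⟨a, a', a'', c, c', c'', e1, e2, e3, rfl⟩, hV1, hV2, hV3, hV4⟩ :=
        exists_mW D hiw hgi
      obtain ⟨V₀, ⟨b, b', b'', d, d', d'', f1, f2, f3, rfl⟩, hU1, hU2, hU3, hU4⟩ :=
        exists_mW D hiw (one_ne_zero : (1 : K) ≠ 0)
      set T := mel D hiw e1 * mel D hiw.rev e2 * mel D hiw e3 *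
        (mel D hiw f1 * mel D hiw.rev f2 * mel D hiw f3)⁻¹ with hTdef
      have hTi : Col T i i (mat g i i) := by
        have := (hU3.inv one_ne_zero).mul hV3
        rwa [inv_one, mul_one] at this
      have hTf : ∀ l, l ≠ i → l ≠ w → l ≠ Fin.rev i → Col T l l 1 := fun l h h' h'' => by
        have := ((hU4 l h h' h'').inv one_ne_zero).mul (hV4 l h h' h'')
        rwa [inv_one, one_mul] at this
      have hTw : ∃ x, Col T w w x := ⟨_, (hU2.inv (by simp)).mul hV2⟩
      have hTr : ∃ x, Col T (Fin.rev i) (Fin.rev i) x := ⟨_, (hU1.inv (by simp)).mul hV1⟩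
      have hTd : IsDiag T := fun x y hxy => by
        obtain ⟨c, hc⟩ : ∃ c, Col T y y c := by
          by_cases h : y = i
          · exact h ▸ ⟨_, hTi⟩
          by_cases h' : y = w
          · exact h' ▸ hTw
          by_cases h'' : y = Fin.rev i
          · exact h'' ▸ hTr
          exact ⟨1, hTf y h h' h''⟩
        rw [hc.entry, if_neg hxy]
      have hT := hmid i w hiw _ _ _ _ _ _ _ _ _ _ _ _ e1 e2 e3 f1 f2 f3 (by omega) hTd
      have hx := (hTd.inv.1).mul hg
      have hone' := hone hx.1 (fun b hb => by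
          have hb' := b.isLt
          rw [hx.2, hTd.inv.2, (hTf b ?_ ?_ ?_).entry, if_pos rfl, h1 b hb, inv_one, one_mul] <;>
            simp only [ne_eq, Fin.ext_iff, Fin.val_rev] <;> omega)
        (by rw [hx.2, hTd.inv.2, hTi.entry, if_pos rfl, inv_mul_cancel₀ hgi])
      have hxw : mat (T⁻¹ * g) w w = 1 := by
        have hdet : (mat (T⁻¹ * g)).det = ∏ b, mat (T⁻¹ * g) b b := by
          conv_lhs => rw [show mat (T⁻¹ * g) = Matrix.diagonal fun b => mat (T⁻¹ * g) b b from by
            ext a b
            rw [Matrix.diagonal_apply]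
            rcases eq_or_ne a b with rfl | hab
            · rw [if_pos rfl]
            · rw [if_neg hab, hx.1 a b hab]]
          exact Matrix.det_diagonal
        rw [det_mat, Finset.prod_eq_single w ?_ (by simp)] at hdet
        · exact hdet.symm
        · exact fun b _ hb => hone' b fun e => hb (Fin.ext (by omega))
      have : T⁻¹ * g = 1 := hx.1.eq_one fun b => by
        by_cases hb : 2 * (b : ℕ) + 1 = n
        · rwa [show b = w from Fin.ext (by omega)]
        · exact hone' b hb
      rw [inv_mul_eq_one] at this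
      exact this ▸ hT
  | succ r ih =>
    intro k hk g hg h1
    let i : Fin n := ⟨k, by omega⟩
    let j : Fin n := ⟨k + 1, by omega⟩
    have hi : (i : ℕ) = k := rfl
    have hj : (j : ℕ) = k + 1 := rfl
    have hgood : Good i j := good_iff.2 ⟨by omega, by omega, by omega, by omega⟩
    have hgi : mat g i i ≠ 0 := fun e => by
      have := hg.rel i
      rw [e, mul_zero] at this
      exact zero_ne_one this
    have hT := hshort i j hgood _ hgi (by omega) (by omega)
    obtain ⟨hTd, hTe⟩ := isDiag_of_col fun b => tD_col D hgood hgi b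
    have hx := (hTd.inv.1).mul hg
    have := ih (k + 1) (by omega) _ hx.1 fun b hb => by
      rw [hx.2, hTd.inv.2, hTe]
      rcases eq_or_ne b i with rfl | hbi
      · rw [if_pos rfl, inv_mul_cancel₀ hgi]
      have hb' := b.isLt
      rw [if_neg hbi]
      simp only [ne_eq, Fin.ext_iff] at hbi
      rw [if_neg, if_neg, if_neg, inv_one, one_mul, h1 b (by omega)] <;>
        simp only [Fin.ext_iff, Fin.val_rev] <;> omega
    rw [← mul_inv_cancel_left (tD D hgood (mat g i i)) g]
    exact N.mul_mem hT this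

/-! ### Generation of the unipotent subgroup -/

theorem uni_le_of_roots [Finite K] {p : ℕ} (D : Setup σ p) {H : Subgroup GJ}
    (hX : ∀ (i j : Fin n) (h : Good i j) (c : K), i < j → xel D h c ∈ H)
    (hZ : ∀ (i : Fin n) (h : i ≠ Fin.rev i) (c : K) (hc : σ c = -c), i < Fin.rev i → zel D h hc ∈ H)
    (hM : ∀ (i w : Fin n) (h : Mid i w) (a b : K) (hab : b + σ b + a * σ a = 0), i < w → mel D h hab ∈ H) :
    uni ≤ H := by
  classical
  suffices hQ : ∀ k ≤ n, ∀ u ∈ uni (σ := σ), (∀ a b : Fin n, k ≤ (b : ℕ) → mat u a b = if a = b then 1 else 0) →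
      u ∈ H from
    fun u hu => hQ n le_rfl u hu fun a b hb => absurd hb (by have := b.isLt; omega)
  intro k
  induction k with
  | zero =>
    intro _ u _ h
    rw [show u = 1 from mat_injective (by
      ext a b
      rw [h a b (Nat.zero_le _), mat_one, Matrix.one_apply])]
    exact H.one_mem
  | succ k ih =>
    intro hk u hu h
    let j : Fin n := ⟨k, by omega⟩
    have hj : (j : ℕ) = k := rfl
    have hstd : ∀ v ∈ uni (σ := σ), (∀ a b : Fin n, k + 1 ≤ (b : ℕ) → mat v a b = if a = b then 1 else 0) →
        (∀ a, a < j → mat v a j = 0) → v ∈ H := by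
      intro v hv hvs hva
      refine ih (by omega) v hv fun a b hb => ?_
      rcases eq_or_lt_of_le hb with hb | hb
      · rw [show b = j from Fin.ext hb.symm]
        rcases lt_trichotomy a j with h' | h' | h'
        · rw [hva a h', if_neg h'.ne]
        · rw [h', if_pos rfl, (mem_uni_iff.1 hv).2]
        · rw [(mem_uni_iff.1 hv).1 a j h', if_neg h'.ne']
      · exact hvs a b hb
    have hzero : ∀ v ∈ uni (σ := σ), (∀ a b : Fin n, k + 1 ≤ (b : ℕ) → mat v a b = if a = b then 1 else 0) →
        ∀ a, j < Fin.rev a → a ≠ j → mat v a j = 0 := by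
      intro v hv hvs a ha haj
      have := congrFun (congrFun (adm_mat_mul v) a) j
      rw [Matrix.mul_apply, Matrix.one_apply_ne haj, Finset.sum_eq_single a ?_ (by simp), adm_apply,
        hvs _ _ ha, if_pos rfl, map_one, one_mul] at this
      · exact this
      · intro c _ hc
        rw [adm_apply, hvs _ _ ha, if_neg fun e => hc (Fin.rev_injective e), map_zero, zero_mul]
    by_cases hjr : j ≤ Fin.rev j
    · exact hstd u hu h fun a ha => hzero u hu h a (lt_of_le_of_lt hjr (Fin.rev_lt_rev.2 ha)) ha.ne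
    rw [not_le] at hjr
    have hjne : j ≠ Fin.rev j := hjr.ne'
    suffices hS : ∀ (s : Finset (Fin n)), (∀ a ∈ s, Fin.rev j < a ∧ a < j ∧ a ≠ Fin.rev a) →
        ∀ v ∈ uni (σ := σ), (∀ a b : Fin n, k + 1 ≤ (b : ℕ) → mat v a b = if a = b then 1 else 0) →
          (∀ a, Fin.rev j < a → a < j → a ≠ Fin.rev a → a ∉ s → mat v a j = 0) → v ∈ H from
      hS (Finset.univ.filter fun a => Fin.rev j < a ∧ a < j ∧ a ≠ Fin.rev a) (by simp) u hu h
        fun a h1 h2 h3 h4 => absurd (by simp [h1, h2, h3]) h4
    intro s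
    induction s using Finset.induction with
    | empty =>
      intro _ v hv hvs hva
      set i := Fin.rev j with hidef
      have hir : Fin.rev i = j := Fin.rev_rev j
      have hcol : ∀ a, a < j → a ≠ i → a ≠ Fin.rev a → mat v a j = 0 := by
        intro a haj hai har
        rcases lt_or_gt_of_ne hai with h' | h'
        · exact hzero v hv hvs a (by rw [← hir]; exact Fin.rev_lt_rev.2 h') haj.ne
        · exact hva a h' haj har (Finset.notMem_empty a)
      have hrel := congrFun (congrFun (adm_mat_mul v) i) j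
      rw [Matrix.mul_apply, Matrix.one_apply_ne hjr.ne] at hrel
      have hjj : mat v j j = 1 := (mem_uni_iff.1 hv).2 j
      by_cases hw : ∃ w : Fin n, Fin.rev w = w
      · obtain ⟨w, hw⟩ := hw
        have hmid : Mid i w := ⟨hw, fun e => hjne (by rw [← hir, e, hw]), by rw [hir]; exact hjr.ne⟩
        have hwv : (Fin.rev w : ℕ) = n - (w + 1) := Fin.val_rev w
        have hjv : (i : ℕ) = n - (j + 1) := Fin.val_rev j
        have hiw : i < w := by
          rw [Fin.lt_def] at hjr ⊢
          rw [hw] at hwv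
          omega
        have hwj : w < j := by
          rw [Fin.lt_def] at hjr hiw ⊢
          rw [hw] at hwv
          omega
        rw [← Finset.add_sum_erase _ _ (Finset.mem_univ i),
          ← Finset.add_sum_erase _ _ (show w ∈ Finset.univ.erase i by simp [hiw.ne']),
          Finset.sum_eq_single j ?_ (by simp [hjr.ne', hwj.ne'])] at hrel
        rotate_left
        · intro c hc hcj
          simp only [Finset.mem_erase, Finset.mem_univ, ne_eq, and_true] at hc
          rcases lt_or_gt_of_ne hcj with h' | h'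
          · rw [hcol c h' hc.2 (fun e => hc.1 (Fin.ext (by
              have := congrArg Fin.val e
              rw [Fin.val_rev] at this
              rw [hw] at hwv
              omega))), mul_zero]
          · rw [(mem_uni_iff.1 hv).1 c j h', mul_zero]
        simp only [adm_apply, hir, hw, hidef ▸ (rfl : Fin.rev j = Fin.rev j), hjj, map_one, one_mul, mul_one] at hrel
        set b := mat v i j
        set t := mat v w j
        have hab : b + σ b + -σ t * σ (-σ t) = 0 := by
          rw [map_neg, D.invol]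
          linear_combination hrel
        set g := mel D hmid hab with hgdef
        have hgH : g ∈ H := hM i w hmid _ _ hab hiw
        have hgu : g ∈ uni := mel_mem_uni D hmid hab hiw
        rw [← mul_inv_cancel_left g v]
        refine H.mul_mem hgH (hstd _ (Subgroup.mul_mem _ (Subgroup.inv_mem _ hgu) hv) (fun a c hc => ?_) fun a ha => ?_)
        · have hcj : j < c := by rw [Fin.lt_def]; omega
          have hf := (mel_col_fix D hmid hab (b := c) (ne_of_gt (hwj.trans hcj)) (by rw [hir]; exact hcj.ne')).inv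
            one_ne_zero
          rw [mat_mul, Matrix.mul_apply, Finset.sum_eq_single c (fun x _ hx => by
            rw [hvs x c hc, if_neg hx, mul_zero]) (by simp), hvs c c hc, if_pos rfl, mul_one, hf.entry, inv_one]
        · have e : mat g *ᵥ Pi.single j 1 = fun a => mat v a j := by
            rw [← hir, mel_act_rev, hir]
            ext c
            simp only [Pi.add_apply, Pi.sub_apply, Pi.single_apply, map_neg, D.invol, mul_one]
            rcases eq_or_ne c j with rfl | hcj
            · simp [hjj, hwj.ne', hjr.ne']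
            rcases eq_or_ne c w with rfl | hcw
            · simp [hcj, hiw.ne', t]
            rcases eq_or_ne c i with rfl | hci
            · simp [hcj, hcw, b]
            rw [if_neg hcj, if_neg hcw, if_neg hci, sub_zero, add_zero]
            rcases lt_or_gt_of_ne hcj with h' | h'
            · refine (hcol c h' hci fun e => hcw (Fin.ext ?_)).symm
              have := congrArg Fin.val e
              rw [Fin.val_rev] at this
              rw [hw] at hwv
              omega
            · exact ((mem_uni_iff.1 hv).1 c j h').symm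
          have := congrArg (fun x => (mat g⁻¹ *ᵥ x) a) e
          simp only [Matrix.mulVec_mulVec, ← mat_mul, inv_mul_cancel, mat_one, Matrix.one_mulVec] at this
          rw [mat_mul, Matrix.mul_apply]
          simp only [Matrix.mulVec, dotProduct] at this
          rw [← this, Pi.single_eq_of_ne ha.ne]
      · rw [not_exists] at hw
        rw [← Finset.add_sum_erase _ _ (Finset.mem_univ i),
          Finset.sum_eq_single j ?_ (by simp [hjr.ne'])] at hrel
        rotate_left
        · intro c hc hcj
          simp only [Finset.mem_erase, Finset.mem_univ, ne_eq, and_true] at hc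
          rcases lt_or_gt_of_ne hcj with h' | h'
          · rw [hcol c h' hc (fun e => hw c e.symm), mul_zero]
          · rw [(mem_uni_iff.1 hv).1 c j h', mul_zero]
        simp only [adm_apply, hir, hjj, map_one, one_mul, mul_one] at hrel
        set b := mat v i j
        have hb : σ b = -b := by linear_combination hrel
        have hine : i ≠ Fin.rev i := by rw [hir]; exact hjr.ne
        set g := zel D hine hb with hgdef
        have hgH : g ∈ H := hZ i hine _ hb (by rw [hir]; exact hjr)
        have hgu : g ∈ uni := zel_mem_uni D hine hb (by rw [hir]; exact hjr)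
        rw [← mul_inv_cancel_left g v]
        refine H.mul_mem hgH (hstd _ (Subgroup.mul_mem _ (Subgroup.inv_mem _ hgu) hv) (fun a c hc => ?_) fun a ha => ?_)
        · have hcj : j < c := by rw [Fin.lt_def]; omega
          have hf := (zel_col_fix D hine hb (b := c) (by rw [hir]; exact hcj.ne')).inv one_ne_zero
          rw [mat_mul, Matrix.mul_apply, Finset.sum_eq_single c (fun x _ hx => by
            rw [hvs x c hc, if_neg hx, mul_zero]) (by simp), hvs c c hc, if_pos rfl, mul_one, hf.entry, inv_one]
        · have e : mat g *ᵥ Pi.single j 1 = fun a => mat v a j := by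
            rw [← hir, zel_act, hir]
            ext c
            simp only [Pi.add_apply, Pi.single_apply, mul_one]
            rcases eq_or_ne c j with rfl | hcj
            · simp [hjj, hjr.ne']
            rcases eq_or_ne c i with rfl | hci
            · simp [hcj, b]
            rw [if_neg hcj, if_neg hci, add_zero]
            rcases lt_or_gt_of_ne hcj with h' | h'
            · exact (hcol c h' hci fun e => hw c e.symm).symm
            · exact ((mem_uni_iff.1 hv).1 c j h').symm
          have := congrArg (fun x => (mat g⁻¹ *ᵥ x) a) e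
          simp only [Matrix.mulVec_mulVec, ← mat_mul, inv_mul_cancel, mat_one, Matrix.one_mulVec] at this
          rw [mat_mul, Matrix.mul_apply]
          simp only [Matrix.mulVec, dotProduct] at this
          rw [← this, Pi.single_eq_of_ne ha.ne]
    | insert a s has ih2 =>
      intro hs v hv hvs hva
      obtain ⟨ha1, ha2, ha3⟩ := hs a (Finset.mem_insert_self a s)
      have hgood : Good a j := ⟨ha2.ne, fun e => ha1.ne (by rw [e, Fin.rev_rev]), ha3, hjne⟩
      have hxu := xel_mem_uni D hgood ha2 (- mat v a j)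
      have hentry : ∀ r c, mat (xel D hgood (- mat v a j) * v) r c = mat v r c +
          (if r = a then - mat v a j * mat v j c else 0) -
          (if r = Fin.rev j then σ (- mat v a j) * mat v (Fin.rev a) c else 0) := by
        intro r c
        rw [mat_mul, xel_coe, xN, add_mul, one_mul, sub_mul, Matrix.add_apply, Matrix.sub_apply, add_sub_assoc]
        congr 2
        · split_ifs with e
          · rw [e, Matrix.single_mul_apply_same]
          · exact Matrix.single_mul_apply_of_ne _ _ _ _ _ e _
        · split_ifs with e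
          · rw [e, Matrix.single_mul_apply_same]
          · exact Matrix.single_mul_apply_of_ne _ _ _ _ _ e _
      have hra : Fin.rev a < j := by
        have := Fin.rev_lt_rev.2 ha1
        rwa [Fin.rev_rev] at this
      have key := ih2 (fun b hb => hs b (Finset.mem_insert_of_mem hb)) (xel D hgood (- mat v a j) * v)
        (Subgroup.mul_mem _ hxu hv) (fun r c hc => by
          have hcj : j < c := by rw [Fin.lt_def]; omega
          rw [hentry, hvs r c hc, hvs j c hc, hvs (Fin.rev a) c hc, if_neg hcj.ne, if_neg (hra.trans hcj).ne]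
          simp) fun b hb1 hb2 hb3 hbs => by
          rw [hentry, (mem_uni_iff.1 hv).2 j, if_neg hb1.ne']
          rcases eq_or_ne b a with rfl | hba
          · simp
          · rw [if_neg hba, hva b hb1 hb2 hb3 (by simp [hba, hbs])]
            simp
      have := H.mul_mem (H.inv_mem (hX a j hgood (- mat v a j) ha2)) key
      rwa [inv_mul_cancel_left] at this

/-! ### The normalizer of the unipotent subgroup -/

theorem normalizer_uni_le [Finite K] {p : ℕ} (D : Setup σ p) (hn : 4 ≤ n) {g : GJ}
    (hg : g ∈ Subgroup.normalizer ((uni (σ := σ) (n := n)) : Set GJ)) : g ∈ borel := by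
  refine mem_par_iff.2 ?_
  suffices h : ∀ (k : ℕ) (a b : Fin n), (b : ℕ) = k → (b : ℕ) < a → mat g a b = 0 from
    fun a b hab => h _ a b rfl hab
  intro k
  induction k using Nat.strong_induction_on with
  | _ k ih =>
  intro a₀ b hbk hab₀
  have hkey : ∀ u ∈ uni (σ := σ) (n := n), ∀ a : Fin n, (b : ℕ) ≤ a →
      ((mat u - 1) * mat g) a b = 0 := by
    intro u hu a ha
    have hu' : g⁻¹ * u * g ∈ uni := (Subgroup.mem_normalizer_iff''.1 hg u).1 hu
    have e : (mat u - 1) * mat g = mat g * (mat (g⁻¹ * u * g) - 1) := by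
      rw [sub_mul, mul_sub, one_mul, mul_one, mat_mul, mat_mul, ← mul_assoc, ← mul_assoc, ← mat_mul g g⁻¹,
        mul_inv_cancel, mat_one, one_mul]
    rw [e, Matrix.mul_apply]
    refine Finset.sum_eq_zero fun c _ => ?_
    rcases lt_or_ge (c : ℕ) b with hc | hc
    · rw [ih c (by omega) a c rfl (by omega), zero_mul]
    · rw [Matrix.sub_apply, mem_rad_iff.1 hu' c b hc, Matrix.one_apply, sub_self, mul_zero]
  suffices h : ∀ (d : ℕ) (a : Fin n), (a : ℕ) + d + 1 = n → (b : ℕ) < a → mat g a b = 0 from
    h (n - 1 - a₀) a₀ (by omega) hab₀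
  intro d
  induction d using Nat.strong_induction_on with
  | _ d ihd =>
  intro a had hab
  let r : Fin n := ⟨a - 1, by omega⟩
  have hrv : (r : ℕ) = a - 1 := rfl
  have hra : r < a := by rw [Fin.lt_def]; omega
  have hbr : (b : ℕ) ≤ r := by omega
  by_cases hamid : 2 * (a : ℕ) + 1 = n
  · -- `a` is the middle coordinate
    have hm : Mid r a := mid_iff.2 ⟨hamid, by omega⟩
    obtain ⟨c, hc⟩ := exists_mel_param D (1 : K)
    have h := hkey _ (mel_mem_uni D hm hc hra) r hbr
    rw [mel_coe, add_sub_cancel_left, mN, add_mul, sub_mul, Matrix.add_apply, Matrix.sub_apply,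
      Matrix.single_mul_apply_same, Matrix.single_mul_apply_of_ne _ _ _ _ _ hm.ne, Matrix.single_mul_apply_same,
      ihd (d - 1) (by omega) (Fin.rev r) (by rw [Fin.val_rev]; omega) (by rw [Fin.val_rev]; omega),
      one_mul, sub_zero, mul_zero, add_zero] at h
    exact h
  by_cases hrmid : 2 * (r : ℕ) + 1 = n
  · -- `r` is the middle coordinate
    have hm : Mid (Fin.rev a) r := mid_iff.2 ⟨hrmid, by rw [Fin.val_rev]; omega⟩
    obtain ⟨c, hc⟩ := exists_mel_param D (1 : K)
    have hlt : Fin.rev a < r := by rw [Fin.lt_def, Fin.val_rev]; omega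
    have h := hkey _ (mel_mem_uni D hm hc hlt) r hbr
    rw [mel_coe, add_sub_cancel_left, mN, add_mul, sub_mul, Matrix.add_apply, Matrix.sub_apply,
      Matrix.single_mul_apply_of_ne _ _ _ _ _ hlt.ne', Matrix.single_mul_apply_same,
      Matrix.single_mul_apply_of_ne _ _ _ _ _ hlt.ne', Fin.rev_rev, map_one, one_mul, zero_sub, add_zero,
      neg_eq_zero] at h
    exact h
  by_cases hpair : (r : ℕ) + a + 1 = n
  · have hre : a = Fin.rev r := Fin.ext (by rw [Fin.val_rev]; omega)
    obtain ⟨c, hc0, hc⟩ := Cfsg.Agent.Transvec.Herm.exists_anti D.ne_refl D.invol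
    have hne : r ≠ Fin.rev r := nerev_iff.2 hrmid
    have h := hkey _ (zel_mem_uni D hne hc (hre ▸ hra)) r hbr
    rw [zel_coe, add_sub_cancel_left, Matrix.single_mul_apply_same, ← hre] at h
    exact (mul_eq_zero.1 h).resolve_left hc0
  have hgood : Good r a := good_iff.2 ⟨by omega, by omega, hrmid, hamid⟩
  have h := hkey _ (xel_mem_uni D hgood hra 1) r hbr
  rw [xel_coe, add_sub_cancel_left, xN, sub_mul, Matrix.sub_apply, Matrix.single_mul_apply_same,
    Matrix.single_mul_apply_of_ne _ _ _ _ _ (fun e => hgood.2.1 (by rw [e, Fin.rev_rev])), one_mul, sub_zero] at h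
  exact h

/-! ### Centralizers -/

/-- A level function is symmetric when reversing it reverses its order. -/
def Symm (f : Fin n → ℕ) : Prop := ∀ i j, f i ≤ f j → f (Fin.rev j) ≤ f (Fin.rev i)

theorem Symm.lt {f : Fin n → ℕ} (hf : Symm f) {i j : Fin n} (h : f i < f j) :
    f (Fin.rev j) < f (Fin.rev i) := by
  by_contra h'
  have := hf _ _ (not_lt.1 h')
  rw [Fin.rev_rev, Fin.rev_rev] at this
  omega

theorem centralizer_rad [Finite K] {p : ℕ} (D : Setup σ p) (hn : 4 ≤ n) {f : Fin n → ℕ} (hf : Monotone f)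
    (hs : Symm f) (h02 : ∀ a b : Fin n, (a : ℕ) = 0 → 2 ≤ (b : ℕ) → f a < f b) {x : GJ}
    (hx : ∀ u ∈ rad f, x * u = u * x) :
    ∃ c : K, ∀ a b, f b ≤ f a → mat x a b = if a = b then c else 0 := by
  obtain ⟨z, hz⟩ : ∃ z : Fin n, (z : ℕ) = 0 := ⟨⟨0, by omega⟩, rfl⟩
  obtain ⟨o, ho⟩ : ∃ o : Fin n, (o : ℕ) = 1 := ⟨⟨1, by omega⟩, rfl⟩
  have hzr : (Fin.rev z : ℕ) = n - 1 := by rw [Fin.val_rev, hz]
  have hor : (Fin.rev o : ℕ) = n - 2 := by rw [Fin.val_rev, ho]
  have hl : ∀ b : Fin n, (b : ℕ) + 3 ≤ n → f b < f (Fin.rev z) := fun b hb => by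
    have := hs.lt (h02 z (Fin.rev b) hz (by rw [Fin.val_rev]; omega))
    rwa [Fin.rev_rev] at this
  have hX : ∀ i j : Fin n, ∀ h : Good i j, f i < f j →
      (∀ a, a ≠ i → mat x a i = 0) ∧ (∀ b, b ≠ j → mat x j b = 0) ∧ mat x i i = mat x j j := fun i j h hf' =>
    comm_xel D h fun c => by rw [← mat_mul, ← mat_mul, hx _ (xel_mem_rad D h hf' (hs.lt hf') c)]
  have hrow : ∀ a : Fin n, 2 ≤ (a : ℕ) → 2 * (a : ℕ) + 1 ≠ n → ∀ b, b ≠ a → mat x a b = 0 := by
    intro a ha hmid
    rcases eq_or_ne (a : ℕ) (n - 1) with h' | h'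
    · have hfo : f o < f a := by
        rw [show a = Fin.rev z from Fin.ext (by omega)]
        exact hl o (by omega)
      exact (hX o a (good_iff.2 ⟨by omega, by omega, by omega, hmid⟩) hfo).2.1
    · exact (hX z a (good_iff.2 ⟨by omega, by have := a.isLt; omega, by omega, hmid⟩) (h02 z a hz ha)).2.1
  have hcol : ∀ b : Fin n, (b : ℕ) + 3 ≤ n → 2 * (b : ℕ) + 1 ≠ n → ∀ a, a ≠ b → mat x a b = 0 := by
    intro b hb hmid
    rcases eq_or_ne (b : ℕ) 0 with h' | h'
    · exact (hX b (Fin.rev o) (good_iff.2 ⟨by omega, by omega, hmid, by omega⟩)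
        (h02 b _ h' (by omega))).1
    · exact (hX b (Fin.rev z) (good_iff.2 ⟨by omega, by omega, hmid, by omega⟩) (hl b hb)).1
  obtain ⟨t, ht0, ht⟩ := Cfsg.Agent.Transvec.Herm.exists_anti D.ne_refl D.invol
  have hzne : z ≠ Fin.rev z := nerev_iff.2 (by omega)
  have hzl : mat x z z = mat x (Fin.rev z) (Fin.rev z) := comm_zel D hzne ht ht0 (by
    rw [← mat_mul, ← mat_mul, hx _ (zel_mem_rad D hzne ht (h02 z _ hz (by omega)))])
  have hmel : ∀ (i w : Fin n) (h : Mid i w), f i < f w → ∀ (b : K) (hb : b + σ b + 1 * σ 1 = 0),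
      mat x * mat (mel D h hb) = mat (mel D h hb) * mat x := fun i w h hiw b hb => by
    have := hs.lt hiw
    rw [h.mid] at this
    rw [← mat_mul, ← mat_mul, hx _ (mel_mem_rad D h hb hiw this)]
  have hdiag : ∀ a : Fin n, mat x a a = mat x z z := by
    intro a
    have hoeq : mat x o o = mat x z z := by
      rw [hzl]
      exact (hX o (Fin.rev z) (good_iff.2 ⟨by omega, by omega, by omega, by omega⟩) (hl o (by omega))).2.2
    by_cases hmid : 2 * (a : ℕ) + 1 = n
    · have hm : Mid z a := mid_iff.2 ⟨hmid, by omega⟩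
      obtain ⟨b, hb⟩ := exists_mel_param D (1 : K)
      have hza : f z < f a := h02 z a hz (by omega)
      have h := (comm_mel D hm hb (hmel z a hm hza b hb)).2.2
      rw [hrow (Fin.rev z) (by omega) (by omega) a (fun e => by have := congrArg Fin.val e; omega),
        mul_zero, add_zero, mul_one, one_mul] at h
      exact h.symm
    by_cases ha : 2 ≤ (a : ℕ)
    · by_cases h' : (a : ℕ) = n - 1
      · rw [show a = Fin.rev z from Fin.ext (by omega), hzl]
      · exact (hX z a (good_iff.2 ⟨by omega, by have := a.isLt; omega, by omega, hmid⟩) (h02 z a hz ha)).2.2.symm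
    · rcases Nat.eq_zero_or_pos (a : ℕ) with h' | h'
      · rw [show a = z from Fin.ext (by omega)]
      · rw [show a = o from Fin.ext (by omega), hoeq]
  refine ⟨mat x z z, fun a b hab => ?_⟩
  rcases eq_or_ne a b with rfl | hne
  · rw [if_pos rfl, hdiag]
  rw [if_neg hne]
  have hne' : (a : ℕ) ≠ b := fun e => hne (Fin.ext e)
  by_cases hamid : 2 * (a : ℕ) + 1 = n
  · by_cases hb : (b : ℕ) + 3 ≤ n
    · exact hcol b hb (by omega) a hne
    rcases eq_or_ne (b : ℕ) (n - 1) with h' | h'
    · exfalso
      have := hl a (by omega)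
      rw [show b = Fin.rev z from Fin.ext (by omega)] at hab
      omega
    · have hm : Mid z a := mid_iff.2 ⟨hamid, by omega⟩
      obtain ⟨c, hc⟩ := exists_mel_param D (1 : K)
      have h := (comm_mel D hm hc (hmel z a hm (h02 z a hz (by omega)) c hc)).1 b hne.symm
        (fun e => by have := congrArg Fin.val e; omega)
      rwa [hrow (Fin.rev z) (by omega) (by omega) b (fun e => by have := congrArg Fin.val e; omega), mul_zero,
        add_zero, one_mul] at h
  by_cases ha : 2 ≤ (a : ℕ)
  · exact hrow a ha hamid b hne.symm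
  rcases Nat.eq_zero_or_pos (a : ℕ) with h' | h'
  · by_cases hb : 2 ≤ (b : ℕ)
    · exact absurd (h02 a b h' hb) (not_lt.2 hab)
    · exact hcol b (by omega) (by omega) a hne
  by_cases hbmid : 2 * (b : ℕ) + 1 = n
  · have hm : Mid z b := mid_iff.2 ⟨hbmid, by omega⟩
    obtain ⟨c, hc⟩ := exists_mel_param D (1 : K)
    have h := (comm_mel D hm hc (hmel z b hm (h02 z b hz (by omega)) c hc)).2.1 a
      (fun e => by have := congrArg Fin.val e; omega) hne
    rw [hcol z (by omega) (by omega) a (fun e => by have := congrArg Fin.val e; omega), zero_mul, zero_sub,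
      map_one, mul_one, neg_eq_zero] at h
    exact h
  by_cases hb : (b : ℕ) + 3 ≤ n
  · exact hcol b hb hbmid a hne
  have hao : a = o := Fin.ext (by omega)
  have hzo : f z < f o := by
    refine lt_of_lt_of_le (h02 z b hz (by omega)) ?_
    rwa [← hao]
  subst hao
  exact (hX z a (good_iff.2 ⟨by omega, by omega, by omega, by omega⟩) hzo).2.1 b hne.symm

theorem center_mat [Finite K] {p : ℕ} (D : Setup σ p) (hn : 4 ≤ n) {x : GJ} (hx : x ∈ Subgroup.center GJ) :
    ∃ c : K, mat x = c • (1 : Mn) := by
  have hc : ∀ u : GJ, x * u = u * x := fun u => (Subgroup.mem_center_iff.1 hx u).symm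
  obtain ⟨c, h⟩ := centralizer_rad D hn (f := fun a : Fin n => (a : ℕ)) (fun _ _ h => h)
    (fun i j h => by simp only [Fin.val_rev] at h ⊢; omega) (fun a b ha hb => by omega) fun u _ => hc u
  have hX : ∀ i j : Fin n, ∀ h : Good i j,
      (∀ a, a ≠ i → mat x a i = 0) ∧ (∀ b, b ≠ j → mat x j b = 0) ∧ mat x i i = mat x j j := fun i j h =>
    comm_xel D h fun t => by rw [← mat_mul, ← mat_mul, hc]
  have hex : ∀ i : Fin n, 2 * (i : ℕ) + 1 ≠ n → ∃ j, Good i j := fun i hi => by
    by_cases h : (i : ℕ) = 0 ∨ (i : ℕ) = n - 1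
    · exact ⟨⟨1, by omega⟩, good_iff.2 ⟨by simp only; omega, by simp only; omega, hi, by simp only; omega⟩⟩
    · exact ⟨⟨0, by omega⟩, good_iff.2 ⟨by simp only; omega, by simp only; omega, hi, by simp only; omega⟩⟩
  refine ⟨c, ?_⟩
  ext a b
  rw [Matrix.smul_apply, Matrix.one_apply, smul_eq_mul, mul_ite, mul_one, mul_zero]
  rcases eq_or_ne a b with rfl | hne
  · exact h a a le_rfl
  rw [if_neg hne]
  by_cases hb : 2 * (b : ℕ) + 1 = n
  · have ha : 2 * (a : ℕ) + 1 ≠ n := fun e => hne (Fin.ext (by omega))
    obtain ⟨j, hj⟩ := hex a ha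
    exact (hX j a hj.swap).2.1 b hne.symm
  · obtain ⟨j, hj⟩ := hex b hb
    exact (hX b j hj).1 a hne

/-- An element with scalar diagonal blocks is central times an element of the radical. -/
theorem exists_central_mul [Finite K] (hinv : ∀ a, σ (σ a) = a) (hn : 4 ≤ n) {f : Fin n → ℕ} (hf : Monotone f)
    {x : GJ} {c : K} (h : ∀ a b, f b ≤ f a → mat x a b = if a = b then c else 0) :
    ∃ z ∈ Subgroup.center GJ, z * x ∈ rad f := by
  have hup : Matrix.BlockTriangular (mat x) id := fun a b hab => by
    rw [h a b (hf (show b ≤ a from le_of_lt hab)), if_neg (show a ≠ b from ne_of_gt (show b < a from hab))]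
  have hdet : c ^ n = 1 := by
    have := det_mat x
    rw [Matrix.det_of_upperTriangular hup,
      Finset.prod_congr rfl (fun b _ => show mat x b b = c by rw [h b b le_rfl, if_pos rfl]), Finset.prod_const,
      Finset.card_univ, Fintype.card_fin] at this
    exact this
  have hc : σ c * c = 1 := by
    let z : Fin n := ⟨0, by omega⟩
    have hzle : ∀ a : Fin n, z ≤ a := fun a => by rw [Fin.le_def]; exact Nat.zero_le _
    have := congrFun (congrFun (adm_mat_mul x) z) z
    rw [Matrix.mul_apply, Matrix.one_apply_eq, Finset.sum_eq_single z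
      (fun a _ ha => by rw [h a z (hf (hzle a)), if_neg ha, mul_zero]) (by simp), adm_apply,
      h z z le_rfl, if_pos rfl, h _ _ le_rfl, if_pos rfl] at this
    exact this
  have hs : adm σ ((σ c) • (1 : Mn)) = c • 1 := by
    ext a b
    rw [adm_apply, Matrix.smul_apply, Matrix.smul_apply, Matrix.one_apply, Matrix.one_apply]
    rcases eq_or_ne a b with rfl | hab
    · simp [hinv]
    · rw [if_neg hab, if_neg fun e => hab (Fin.rev_injective e).symm]
      simp
  let zc : GJ := ⟨⟨(σ c) • 1, by
      rw [Matrix.det_smul, Matrix.det_one, mul_one, Fintype.card_fin, ← map_pow, hdet, map_one]⟩, by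
    show adm σ ((σ c) • (1 : Mn)) * ((σ c) • (1 : Mn)) = 1
    rw [hs, smul_mul_assoc, one_mul, smul_smul, mul_comm, hc, one_smul]⟩
  have hzc : mat zc = (σ c) • (1 : Mn) := rfl
  refine ⟨zc, Subgroup.mem_center_iff.2 fun g => mat_injective ?_, mem_rad_iff.2 fun a b hab => ?_⟩
  · rw [mat_mul, mat_mul, hzc, mul_smul_comm, smul_mul_assoc, mul_one, one_mul]
  · rw [mat_mul, hzc, smul_mul_assoc, one_mul, Matrix.smul_apply, h a b hab, smul_eq_mul, mul_ite, hc, mul_zero]

theorem eq_of_central [Finite K] {p : ℕ} (D : Setup σ p) (hn : 4 ≤ n) {x y : GJ}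
    (h : x⁻¹ * y ∈ Subgroup.center GJ) {k m : ℕ} (hx : x ^ p ^ k = 1) (hy : y ^ p ^ m = 1) : x = y := by
  haveI := D.char
  haveI : Fact p.Prime := ⟨D.prime⟩
  obtain ⟨c, hc⟩ := center_mat D hn h
  have hcomm : Commute x⁻¹ y := by
    have h' := Subgroup.mem_center_iff.1 h x
    show x⁻¹ * y = y * x⁻¹
    calc x⁻¹ * y = (x⁻¹ * y * x) * x⁻¹ := by group
      _ = (x * (x⁻¹ * y)) * x⁻¹ := by rw [h']
      _ = y * x⁻¹ := by group
  have h1 : (x⁻¹ * y) ^ p ^ (k + m) = 1 := by
    rw [hcomm.mul_pow, inv_pow, pow_add, pow_mul, hx, one_pow, inv_one, one_mul, mul_comm, pow_mul, hy, one_pow]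
  have h2 := congrArg mat h1
  rw [mat_pow, mat_one, hc, smul_pow, one_pow] at h2
  let z : Fin n := ⟨0, by omega⟩
  have h3 := congrFun (congrFun h2 z) z
  rw [Matrix.smul_apply, Matrix.one_apply_eq, smul_eq_mul, mul_one] at h3
  have h4 : x⁻¹ * y = 1 := mat_injective (by
    rw [hc, Cfsg.Agent.FusionPSLn.scalar_pow_eq_one p h3, one_smul, mat_one])
  rwa [inv_mul_eq_one] at h4

end Cfsg.Agent.FusionPSU
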