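import Cfsg.Agent.Lib.Fusion.PSLnSimple
import Cfsg.Agent.Lib.Transvec.Herm

/-!
# The special unitary group of the antidiagonal form: root elements and radicals

`adm` is the adjoint for the form `∑ u_a σ(v_{rev a})`, `gj` the special isometry group, `rad f` the unipotent
radical of the flag given by a level function `f`.
-/

set_option autoImplicit false
set_option linter.unusedSectionVars false

namespace Cfsg.Agent.FusionPSU

open Matrix

variable {K : Type*} [Field K] {n : ℕ} (σ : K ≃+* K)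

local notation "Mn" => Matrix (Fin n) (Fin n) K
local notation "SLn" => Matrix.SpecialLinearGroup (Fin n) K
local notation "E" => Matrix.single (α := K)

/-- The adjoint for the antidiagonal Hermitian form. -/
def adm (N : Mn) : Mn := Matrix.of fun a b => σ (N (Fin.rev b) (Fin.rev a))

theorem adm_apply (N : Mn) (a b : Fin n) : adm σ N a b = σ (N (Fin.rev b) (Fin.rev a)) := rfl

theorem adm_mul (M N : Mn) : adm σ (M * N) = adm σ N * adm σ M := by
  ext a b
  simp only [adm_apply, Matrix.mul_apply, map_sum, map_mul]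
  exact (Fintype.sum_equiv Fin.revPerm _ _ fun x => by simp [mul_comm]).symm

theorem adm_one : adm σ (1 : Mn) = 1 := by
  ext a b
  rw [adm_apply, Matrix.one_apply, Matrix.one_apply]
  rcases eq_or_ne a b with rfl | h
  · simp
  · rw [if_neg h, if_neg fun e => h (Fin.rev_injective e).symm, map_zero]

theorem adm_add (M N : Mn) : adm σ (M + N) = adm σ M + adm σ N := by ext a b; simp [adm_apply]

theorem adm_sub (M N : Mn) : adm σ (M - N) = adm σ M - adm σ N := by ext a b; simp [adm_apply]

theorem adm_single (i j : Fin n) (c : K) : adm σ (E i j c) = E (Fin.rev j) (Fin.rev i) (σ c) := by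
  ext a b
  rw [adm_apply, Matrix.single_apply, Matrix.single_apply, apply_ite σ, map_zero]
  exact if_congr ⟨fun h => ⟨by rw [h.2, Fin.rev_rev], by rw [h.1, Fin.rev_rev]⟩,
    fun h => ⟨by rw [← h.2, Fin.rev_rev], by rw [← h.1, Fin.rev_rev]⟩⟩ rfl rfl

/-- The special isometry group of the antidiagonal Hermitian form. -/
def gj : Subgroup SLn where
  carrier := {g | adm σ (g : Mn) * (g : Mn) = 1}
  one_mem' := by simp [adm_one]
  mul_mem' := fun {a b} ha hb => by
    show adm σ ((a * b : SLn) : Mn) * ((a * b : SLn) : Mn) = 1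
    rw [Matrix.SpecialLinearGroup.coe_mul, adm_mul, mul_assoc, ← mul_assoc (adm σ (a : Mn))]
    rw [show adm σ (a : Mn) * (a : Mn) = 1 from ha, one_mul]
    exact hb
  inv_mem' := fun {a} ha => by
    show adm σ ((a⁻¹ : SLn) : Mn) * ((a⁻¹ : SLn) : Mn) = 1
    have h1 : (a : Mn) * ((a⁻¹ : SLn) : Mn) = 1 := by
      rw [← Matrix.SpecialLinearGroup.coe_mul, mul_inv_cancel, Matrix.SpecialLinearGroup.coe_one]
    have h2 : (a : Mn) * adm σ (a : Mn) = 1 := mul_eq_one_comm.1 ha
    calc adm σ ((a⁻¹ : SLn) : Mn) * ((a⁻¹ : SLn) : Mn)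
        = adm σ ((a⁻¹ : SLn) : Mn) * (adm σ (a : Mn) * (a : Mn)) * ((a⁻¹ : SLn) : Mn) := by
          rw [show adm σ (a : Mn) * (a : Mn) = 1 from ha, mul_one]
      _ = adm σ ((a : Mn) * ((a⁻¹ : SLn) : Mn)) * ((a : Mn) * ((a⁻¹ : SLn) : Mn)) := by
          rw [adm_mul]; simp only [mul_assoc]
      _ = 1 := by rw [h1, adm_one, mul_one]

local notation "GJ" => gj (K := K) (n := n) σ

variable {σ}

/-- The matrix of an element. -/
def mat (g : GJ) : Mn := ((g : SLn) : Mn)

theorem mat_one : mat (1 : GJ) = 1 := rfl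

theorem mat_mul (g h : GJ) : mat (g * h) = mat g * mat h := rfl

theorem mat_pow (g : GJ) (k : ℕ) : mat (g ^ k) = mat g ^ k := by
  induction k with
  | zero => rfl
  | succ k ih => rw [pow_succ, pow_succ, mat_mul, ih]

theorem mat_injective : Function.Injective (mat (σ := σ) (n := n)) :=
  fun _ _ h => Subtype.ext (Subtype.ext h)

theorem adm_mat_mul (g : GJ) : adm σ (mat g) * mat g = 1 := g.2

theorem mat_inv (g : GJ) : mat g⁻¹ = adm σ (mat g) :=
  (left_inv_eq_right_inv (adm_mat_mul g) (by rw [← mat_mul, mul_inv_cancel, mat_one])).symm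

theorem det_mat (g : GJ) : (mat g).det = 1 := (g : SLn).2

/-! ### Unipotent constructor -/

section unip

variable {p : ℕ} [hp : Fact p.Prime] [CharP K p]

include hp in
theorem one_add_pow {N : Mn} {k : ℕ} (h : N ^ k = 0) {s : ℕ} (hs : k ≤ p ^ s) :
    (1 + N) ^ p ^ s = 1 := by
  have : NeZero n ∨ n = 0 := (em (n = 0)).symm.imp NeZero.mk id
  rcases this with hn | rfl
  · haveI : Nonempty (Fin n) := ⟨0⟩
    rw [add_pow_char_pow_of_commute (p := p) (h := Commute.one_left N), one_pow, pow_eq_zero_of_le hs h, add_zero]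
  · exact Subsingleton.elim _ _

include hp in
theorem det_one_add {N : Mn} {k : ℕ} (h : N ^ k = 0) {s : ℕ} (hs : k ≤ p ^ s) : (1 + N).det = 1 := by
  have h1 := congrArg Matrix.det (one_add_pow (p := p) h hs)
  rw [Matrix.det_pow, Matrix.det_one] at h1
  exact Cfsg.Agent.FusionPSLn.scalar_pow_eq_one p h1

end unip

/-! ### Radicals -/

section rad

variable [Finite K]

/-- Elements that are block triangular for a level function. -/
def par (f : Fin n → ℕ) : Subgroup GJ :=
  Subgroup.closure {g | ∀ a b, f b < f a → mat g a b = 0}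

theorem mem_par_iff {f : Fin n → ℕ} {g : GJ} : g ∈ par f ↔ ∀ a b, f b < f a → mat g a b = 0 := by
  refine ⟨fun h => ?_, fun h => Subgroup.subset_closure h⟩
  let P : Submonoid GJ :=
    { carrier := {g | ∀ a b, f b < f a → mat g a b = 0}
      one_mem' := fun a b h => by rw [mat_one, Matrix.one_apply_ne]; rintro rfl; exact lt_irrefl _ h
      mul_mem' := fun {x y} hx hy a b h => by
        rw [mat_mul, Matrix.mul_apply]
        refine Finset.sum_eq_zero fun c _ => ?_
        rcases lt_or_ge (f c) (f a) with hc | hc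
        · rw [hx a c hc, zero_mul]
        · rw [hy c b (lt_of_lt_of_le h hc), mul_zero] }
  have hmem : (Subgroup.closure {g : GJ | ∀ a b, f b < f a → mat g a b = 0}).toSubmonoid ≤ P := by
    rw [Subgroup.closure_toSubmonoid_of_finite]
    exact Submonoid.closure_le.2 fun x hx => hx
  exact hmem h

/-- The unipotent radical for a level function. -/
def rad (f : Fin n → ℕ) : Subgroup GJ :=
  Subgroup.closure {g | ∀ a b, f b ≤ f a → mat g a b = if a = b then 1 else 0}

theorem mem_rad_iff {f : Fin n → ℕ} {g : GJ} :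
    g ∈ rad f ↔ ∀ a b, f b ≤ f a → mat g a b = if a = b then 1 else 0 := by
  refine ⟨fun h => ?_, fun h => Subgroup.subset_closure h⟩
  let P : Submonoid GJ :=
    { carrier := {g | ∀ a b, f b ≤ f a → mat g a b = if a = b then 1 else 0}
      one_mem' := fun a b _ => by rw [mat_one, Matrix.one_apply]
      mul_mem' := fun {x y} hx hy a b h => by
        rw [mat_mul, Matrix.mul_apply, Finset.sum_eq_single a ?_ (by simp), hx a a le_rfl, if_pos rfl, one_mul,
          hy a b h]
        intro c _ hc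
        rcases le_or_gt (f c) (f a) with h' | h'
        · rw [hx a c h', if_neg (Ne.symm hc), zero_mul]
        · rw [hy c b (h.trans h'.le), if_neg ?_, mul_zero]
          rintro rfl
          exact not_lt.2 h h' }
  have hmem : (Subgroup.closure {g : GJ | ∀ a b, f b ≤ f a → mat g a b = if a = b then 1 else 0}).toSubmonoid ≤ P := by
    rw [Subgroup.closure_toSubmonoid_of_finite]
    exact Submonoid.closure_le.2 fun x hx => hx
  exact hmem h

theorem par_normalizes {f : Fin n → ℕ} {g u : GJ} (hg : g ∈ par f) (hu : u ∈ rad f) : g * u * g⁻¹ ∈ rad f := by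
  have hg' := mem_par_iff.1 hg
  have hgi := mem_par_iff.1 ((par f).inv_mem hg)
  have hu' := mem_rad_iff.1 hu
  refine mem_rad_iff.2 fun a b hab => ?_
  have e : mat (g * u * g⁻¹) = 1 + mat g * (mat u - 1) * mat g⁻¹ := by
    rw [mat_mul, mat_mul, mul_sub, sub_mul, mul_one, ← mat_mul g g⁻¹, mul_inv_cancel, mat_one]; abel
  rw [e, Matrix.add_apply, Matrix.one_apply, add_eq_left, Matrix.mul_apply]
  refine Finset.sum_eq_zero fun c _ => ?_
  rcases lt_or_ge (f b) (f c) with h | h
  · rw [hgi c b h, mul_zero]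
  · rw [Matrix.mul_apply, Finset.sum_eq_zero, zero_mul]
    intro d _
    rcases lt_or_ge (f d) (f a) with h' | h'
    · rw [hg' a d h', zero_mul]
    · rw [Matrix.sub_apply, hu' d c (h.trans (hab.trans h')), Matrix.one_apply, sub_self, mul_zero]

/-- The maximal unipotent subgroup. -/
def uni : Subgroup GJ := rad fun a : Fin n => (a : ℕ)

/-- The Borel subgroup. -/
def borel : Subgroup GJ := par fun a : Fin n => (a : ℕ)

theorem mem_uni_iff {g : GJ} : g ∈ uni ↔ Cfsg.Agent.FusionPSLn.IsUni (mat g) := by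
  refine mem_rad_iff.trans ⟨fun h => ⟨fun i j hij => ?_, fun i => ?_⟩, fun h a b hab => ?_⟩
  · rw [h i j hij.le, if_neg (ne_of_gt hij)]
  · rw [h i i le_rfl, if_pos rfl]
  · rcases eq_or_ne a b with rfl | hne
    · rw [if_pos rfl, h.2]
    · rw [if_neg hne, h.1 a b (lt_of_le_of_ne hab hne.symm)]

theorem uni_le_par {f : Fin n → ℕ} (hf : Monotone f) : uni (σ := σ) ≤ par f := fun g hg =>
  mem_par_iff.2 fun a b hab => by
    have hba : b < a := hf.reflect_lt hab
    rw [mem_rad_iff.1 hg a b hba.le, if_neg hba.ne']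

theorem rad_le_uni {f : Fin n → ℕ} (hf : Monotone f) : rad f ≤ uni (σ := σ) := fun g hg =>
  mem_rad_iff.2 fun a b hab => mem_rad_iff.1 hg a b (hf hab)

theorem uni_pow {p : ℕ} [Fact p.Prime] [CharP K p] {g : GJ} (hg : g ∈ uni) : g ^ p ^ n = 1 :=
  Subtype.ext (Cfsg.Agent.FusionPSLn.uni_pow_char p (g : SLn) (mem_uni_iff.1 hg))

end rad

/-! ### Root elements -/

variable (σ) in
/-- The nilpotent part of a root element. -/
def xN (i j : Fin n) (c : K) : Mn := E i j c - E (Fin.rev j) (Fin.rev i) (σ c)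

/-- Pairs of indices giving root elements of short roots. -/
def Good (i j : Fin n) : Prop := i ≠ j ∧ j ≠ Fin.rev i ∧ i ≠ Fin.rev i ∧ j ≠ Fin.rev j

theorem Good.swap {i j : Fin n} (h : Good i j) : Good j i :=
  ⟨h.1.symm, fun e => h.2.1 (by rw [e, Fin.rev_rev]), h.2.2.2, h.2.2.1⟩

theorem Good.rev {i j : Fin n} (h : Good i j) : Good (Fin.rev j) (Fin.rev i) := by
  refine ⟨fun e => h.1 (Fin.rev_injective e).symm, fun e => h.2.1 ?_, fun e => h.2.2.2 ?_, fun e => h.2.2.1 ?_⟩
  · rw [Fin.rev_rev] at e; exact e.symm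
  · exact Fin.rev_injective e
  · exact Fin.rev_injective e

theorem rev_ne_rev {i : Fin n} (h : i ≠ Fin.rev i) : Fin.rev i ≠ Fin.rev (Fin.rev i) := by
  rw [Fin.rev_rev]; exact h.symm

theorem xN_sq {i j : Fin n} (h : Good i j) (c d : K) : xN σ i j c * xN σ i j d = 0 := by
  have h1 : j ≠ i := h.1.symm
  have h2 : j ≠ Fin.rev j := h.2.2.2
  have h3 : Fin.rev i ≠ i := h.2.2.1.symm
  have h4 : Fin.rev i ≠ Fin.rev j := fun e => h.1 (Fin.rev_injective e)
  simp only [xN, mul_sub, sub_mul]
  simp [h1, h2, h3, h4]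

theorem xN_adm (hinv : ∀ a, σ (σ a) = a) (i j : Fin n) (c : K) : adm σ (xN σ i j c) = - xN σ i j c := by
  rw [xN, adm_sub, adm_single, adm_single, hinv, Fin.rev_rev, Fin.rev_rev, neg_sub]

theorem one_add_mem {N : Mn} (h : adm σ N + N + adm σ N * N = 0) :
    adm σ (1 + N) * (1 + N) = 1 := by
  rw [adm_add, adm_one, show (1 + adm σ N) * (1 + N) = 1 + (adm σ N + N + adm σ N * N) by noncomm_ring, h,
    add_zero]

variable (σ) in
/-- The data shared by the root element constructions. -/
structure Setup (p : ℕ) : Prop where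
  prime : p.Prime
  char : CharP K p
  invol : ∀ a, σ (σ a) = a
  ne_refl : σ ≠ RingEquiv.refl K

variable {p : ℕ} (D : Setup σ p)

/-- A unipotent element of the group. -/
def mk1 (N : Mn) {k : ℕ} (hk : N ^ k = 0) {s : ℕ} (hs : k ≤ p ^ s) (h : adm σ N + N + adm σ N * N = 0) : GJ :=
  ⟨⟨1 + N, @det_one_add K _ n p ⟨D.prime⟩ D.char N k hk s hs⟩, one_add_mem h⟩

theorem mk1_coe {N : Mn} {k : ℕ} (hk : N ^ k = 0) {s : ℕ} (hs : k ≤ p ^ s) (h : adm σ N + N + adm σ N * N = 0) :
    mat (mk1 D N hk hs h) = 1 + N := rfl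

theorem mk1_pow {N : Mn} {k : ℕ} (hk : N ^ k = 0) {s : ℕ} (hs : k ≤ p ^ s) (h : adm σ N + N + adm σ N * N = 0) :
    mk1 D N hk hs h ^ p ^ s = 1 :=
  mat_injective (by rw [mat_pow, mk1_coe, mat_one]; exact @one_add_pow K _ n p ⟨D.prime⟩ D.char N k hk s hs)

/-- Short root elements. -/
def xel {i j : Fin n} (h : Good i j) (c : K) : GJ :=
  mk1 D (xN σ i j c) (k := 2) (s := 1) (by rw [pow_two, xN_sq h]) (by rw [pow_one]; exact D.prime.two_le) (by
    rw [xN_adm D.invol, neg_mul, xN_sq h, neg_zero, add_zero, neg_add_cancel])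

theorem xel_coe {i j : Fin n} (h : Good i j) (c : K) : mat (xel D h c) = 1 + xN σ i j c := rfl

theorem xel_pow {i j : Fin n} (h : Good i j) (c : K) : xel D h c ^ p ^ 1 = 1 := mk1_pow D _ _ _

/-- Long root elements. -/
def zel {i : Fin n} (h : i ≠ Fin.rev i) {c : K} (hc : σ c = -c) : GJ :=
  mk1 D (E i (Fin.rev i) c) (k := 2) (s := 1)
    (by rw [pow_two]; simp [h.symm]) (by rw [pow_one]; exact D.prime.two_le) (by
    rw [adm_single, Fin.rev_rev, hc, ← Matrix.single_neg]; simp [h.symm])

theorem zel_coe {i : Fin n} (h : i ≠ Fin.rev i) {c : K} (hc : σ c = -c) :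
    mat (zel D h hc) = 1 + E i (Fin.rev i) c := rfl

theorem zel_pow {i : Fin n} (h : i ≠ Fin.rev i) {c : K} (hc : σ c = -c) : zel D h hc ^ p ^ 1 = 1 :=
  mk1_pow D _ _ _

variable (σ) in
/-- The nilpotent part of a middle root element. -/
def mN (i w : Fin n) (a b : K) : Mn := E i w a - E w (Fin.rev i) (σ a) + E i (Fin.rev i) b

/-- The data for middle root elements. -/
structure Mid (i w : Fin n) : Prop where
  mid : Fin.rev w = w
  ne : i ≠ w
  nerev : i ≠ Fin.rev i

theorem Mid.ne' {i w : Fin n} (h : Mid i w) : Fin.rev i ≠ w := fun e => h.ne (by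
  rw [← Fin.rev_rev i, e, h.mid])

theorem Mid.rev {i w : Fin n} (h : Mid i w) : Mid (Fin.rev i) w := ⟨h.mid, h.ne', rev_ne_rev h.nerev⟩

theorem mN_mul {i w : Fin n} (h : Mid i w) (a b c d : K) :
    mN σ i w a b * mN σ i w c d = E i (Fin.rev i) (-(a * σ c)) := by
  simp only [mN, mul_add, add_mul, mul_sub, sub_mul]
  simp [h.ne.symm, h.ne', h.nerev.symm, ← Matrix.single_neg]

theorem mN_cube {i w : Fin n} (h : Mid i w) (a b : K) : mN σ i w a b ^ 3 = 0 := by
  rw [pow_succ, pow_two, mN_mul h, mN, mul_add, mul_sub]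
  simp [h.ne', h.nerev.symm]

/-- Middle root elements. -/
def mel {i w : Fin n} (h : Mid i w) {a b : K} (hab : b + σ b + a * σ a = 0) : GJ :=
  mk1 D (mN σ i w a b) (k := 3) (s := 2) (mN_cube h a b) (by
      have := D.prime.two_le
      nlinarith [Nat.pow_le_pow_left this 2]) (by
    have e : adm σ (mN σ i w a b) = mN σ i w (-a) (σ b) := by
      simp only [mN, adm_add, adm_sub, adm_single, Fin.rev_rev, h.mid, D.invol, map_neg, ← Matrix.single_neg]
      abel
    rw [e, mN_mul h, mN, mN, show -(-a * σ a) = a * σ a by ring]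
    simp only [map_neg, ← Matrix.single_neg]
    rw [show - E i w a - - E w (Fin.rev i) (σ a) + E i (Fin.rev i) (σ b) +
        (E i w a - E w (Fin.rev i) (σ a) + E i (Fin.rev i) b) + E i (Fin.rev i) (a * σ a) =
        E i (Fin.rev i) b + E i (Fin.rev i) (σ b) + E i (Fin.rev i) (a * σ a) by abel,
      ← Matrix.single_add, ← Matrix.single_add, hab, Matrix.single_zero])

theorem mel_coe {i w : Fin n} (h : Mid i w) {a b : K} (hab : b + σ b + a * σ a = 0) :
    mat (mel D h hab) = 1 + mN σ i w a b := rfl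

theorem mel_pow {i w : Fin n} (h : Mid i w) {a b : K} (hab : b + σ b + a * σ a = 0) :
    mel D h hab ^ p ^ 2 = 1 := mk1_pow D _ _ _

include D in
theorem exists_mel_param (a : K) : ∃ b, b + σ b + a * σ a = 0 := by
  obtain ⟨b, hb⟩ := Cfsg.Agent.Transvec.Herm.exists_trace D.ne_refl D.invol (-(a * σ a))
    (by rw [map_neg, map_mul, D.invol, mul_comm])
  exact ⟨b, by rw [hb, neg_add_cancel]⟩

/-! ### Membership in radicals -/

section mem

variable [Finite K] {f : Fin n → ℕ}

theorem one_add_mem_par {N : Mn} {g : GJ} (hg : mat g = 1 + N) (h : ∀ a b, f b < f a → N a b = 0) :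
    g ∈ par f :=
  mem_par_iff.2 fun a b hab => by
    rw [hg, Matrix.add_apply, h a b hab, add_zero, Matrix.one_apply_ne]
    rintro rfl; exact lt_irrefl _ hab

theorem one_add_mem_rad {N : Mn} {g : GJ} (hg : mat g = 1 + N) (h : ∀ a b, f b ≤ f a → N a b = 0) :
    g ∈ rad f :=
  mem_rad_iff.2 fun a b hab => by rw [hg, Matrix.add_apply, h a b hab, add_zero, Matrix.one_apply]

theorem xel_mem_rad {i j : Fin n} (h : Good i j) (h1 : f i < f j) (h2 : f (Fin.rev j) < f (Fin.rev i)) (c : K) :
    xel D h c ∈ rad f :=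
  one_add_mem_rad (xel_coe D h c) fun a b hab => by
    rw [xN, Matrix.sub_apply, Matrix.single_apply, Matrix.single_apply, if_neg, if_neg, sub_zero]
    · rintro ⟨rfl, rfl⟩; exact absurd h2 (not_lt.2 hab)
    · rintro ⟨rfl, rfl⟩; exact absurd h1 (not_lt.2 hab)

theorem xel_mem_par {i j : Fin n} (h : Good i j) (h1 : f i ≤ f j) (h2 : f (Fin.rev j) ≤ f (Fin.rev i)) (c : K) :
    xel D h c ∈ par f :=
  one_add_mem_par (xel_coe D h c) fun a b hab => by
    rw [xN, Matrix.sub_apply, Matrix.single_apply, Matrix.single_apply, if_neg, if_neg, sub_zero]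
    · rintro ⟨rfl, rfl⟩; exact absurd h2 (not_le.2 hab)
    · rintro ⟨rfl, rfl⟩; exact absurd h1 (not_le.2 hab)

theorem zel_mem_rad {i : Fin n} (h : i ≠ Fin.rev i) {c : K} (hc : σ c = -c) (h1 : f i < f (Fin.rev i)) :
    zel D h hc ∈ rad f :=
  one_add_mem_rad (zel_coe D h hc) fun a b hab => by
    rw [Matrix.single_apply, if_neg]
    rintro ⟨rfl, rfl⟩; exact absurd h1 (not_lt.2 hab)

theorem zel_mem_par {i : Fin n} (h : i ≠ Fin.rev i) {c : K} (hc : σ c = -c) (h1 : f i ≤ f (Fin.rev i)) :
    zel D h hc ∈ par f :=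
  one_add_mem_par (zel_coe D h hc) fun a b hab => by
    rw [Matrix.single_apply, if_neg]
    rintro ⟨rfl, rfl⟩; exact absurd h1 (not_le.2 hab)

theorem mel_mem_rad {i w : Fin n} (h : Mid i w) {a b : K} (hab : b + σ b + a * σ a = 0) (h1 : f i < f w)
    (h2 : f w < f (Fin.rev i)) : mel D h hab ∈ rad f :=
  one_add_mem_rad (mel_coe D h hab) fun x y hxy => by
    rw [mN, Matrix.add_apply, Matrix.sub_apply, Matrix.single_apply, Matrix.single_apply, Matrix.single_apply,
      if_neg, if_neg, if_neg, sub_zero, add_zero]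
    · rintro ⟨rfl, rfl⟩; exact absurd (h1.trans h2) (not_lt.2 hxy)
    · rintro ⟨rfl, rfl⟩; exact absurd h2 (not_lt.2 hxy)
    · rintro ⟨rfl, rfl⟩; exact absurd h1 (not_lt.2 hxy)

theorem mel_mem_par {i w : Fin n} (h : Mid i w) {a b : K} (hab : b + σ b + a * σ a = 0) (h1 : f i ≤ f w)
    (h2 : f w ≤ f (Fin.rev i)) : mel D h hab ∈ par f :=
  one_add_mem_par (mel_coe D h hab) fun x y hxy => by
    rw [mN, Matrix.add_apply, Matrix.sub_apply, Matrix.single_apply, Matrix.single_apply, Matrix.single_apply,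
      if_neg, if_neg, if_neg, sub_zero, add_zero]
    · rintro ⟨rfl, rfl⟩; exact absurd (h1.trans h2) (not_le.2 hxy)
    · rintro ⟨rfl, rfl⟩; exact absurd h2 (not_le.2 hxy)
    · rintro ⟨rfl, rfl⟩; exact absurd h1 (not_le.2 hxy)

theorem xel_mem_uni {i j : Fin n} (h : Good i j) (hij : i < j) (c : K) : xel D h c ∈ uni :=
  xel_mem_rad D h hij (Fin.rev_lt_rev.2 hij) c

theorem zel_mem_uni {i : Fin n} (h : i ≠ Fin.rev i) {c : K} (hc : σ c = -c) (hi : i < Fin.rev i) :
    zel D h hc ∈ uni := zel_mem_rad D h hc hi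

theorem mel_mem_uni {i w : Fin n} (h : Mid i w) {a b : K} (hab : b + σ b + a * σ a = 0) (h1 : i < w) :
    mel D h hab ∈ uni :=
  mel_mem_rad D h hab h1 (by
    have := Fin.rev_lt_rev.2 h1
    rwa [h.mid] at this)

end mem

/-! ### Commuting with root elements -/

theorem separate (D : Setup σ p) {A B : K} (h : ∀ c, c * A = σ c * B) : A = 0 ∧ B = 0 := by
  have h1 := h 1
  rw [map_one, one_mul, one_mul] at h1
  subst h1
  obtain ⟨a, ha⟩ : ∃ a, σ a ≠ a := by
    by_contra h'
    push Not at h'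
    exact D.ne_refl (RingEquiv.ext h')
  have h2 : (a - σ a) * A = 0 := by rw [sub_mul, h a, sub_self]
  have := (mul_eq_zero.1 h2).resolve_left (sub_ne_zero.2 (Ne.symm ha))
  exact ⟨this, this⟩

theorem comm_of_mat {g : GJ} {N x : Mn} (hg : mat g = 1 + N) (h : x * mat g = mat g * x) : x * N = N * x := by
  rw [hg, mul_add, add_mul, mul_one, one_mul] at h
  exact add_left_cancel h

theorem comm_xel {i j : Fin n} (h : Good i j) {x : Mn}
    (hx : ∀ c, x * mat (xel D h c) = mat (xel D h c) * x) :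
    (∀ a, a ≠ i → x a i = 0) ∧ (∀ b, b ≠ j → x j b = 0) ∧ x i i = x j j := by
  have e := fun c => comm_of_mat (xel_coe D h c) (hx c)
  have hjr : j ≠ Fin.rev j := h.2.2.2
  refine ⟨fun a ha => ?_, fun b hb => ?_, ?_⟩
  · refine (separate D (B := if a = Fin.rev j then - x (Fin.rev i) j else 0) fun c => ?_).1
    have := congrFun (congrFun (e c) a) j
    simp only [xN, mul_sub, sub_mul, Matrix.sub_apply, Matrix.mul_single_apply_same,
      Matrix.mul_single_apply_of_ne _ _ _ _ _ h.2.1, Matrix.single_mul_apply_of_ne _ _ _ _ _ ha, sub_zero,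
      zero_sub] at this
    rcases eq_or_ne a (Fin.rev j) with rfl | h'
    · rw [if_pos rfl]
      rw [Matrix.single_mul_apply_same] at this
      linear_combination this
    · rw [if_neg h']
      rw [Matrix.single_mul_apply_of_ne _ _ _ _ _ h'] at this
      linear_combination this
  · refine (separate D (B := if b = Fin.rev i then - x i (Fin.rev j) else 0) fun c => ?_).1
    have := congrFun (congrFun (e c) i) b
    have hij' : i ≠ Fin.rev j := fun e' => h.2.1 (by rw [e', Fin.rev_rev])
    simp only [xN, mul_sub, sub_mul, Matrix.sub_apply, Matrix.single_mul_apply_same,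
      Matrix.mul_single_apply_of_ne _ _ _ _ _ hb, Matrix.single_mul_apply_of_ne _ _ _ _ _ hij', sub_zero,
      zero_sub] at this
    rcases eq_or_ne b (Fin.rev i) with rfl | h'
    · rw [if_pos rfl]
      rw [Matrix.mul_single_apply_same] at this
      linear_combination -this
    · rw [if_neg h']
      rw [Matrix.mul_single_apply_of_ne _ _ _ _ _ h'] at this
      linear_combination -this
  · have := congrFun (congrFun (e 1) i) j
    have hij' : i ≠ Fin.rev j := fun e' => h.2.1 (by rw [e', Fin.rev_rev])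
    simp only [xN, mul_sub, sub_mul, Matrix.sub_apply, Matrix.mul_single_apply_same, Matrix.single_mul_apply_same,
      Matrix.mul_single_apply_of_ne _ _ _ _ _ h.2.1, Matrix.single_mul_apply_of_ne _ _ _ _ _ hij', sub_zero,
      one_mul, mul_one] at this
    exact this

theorem comm_zel {i : Fin n} (h : i ≠ Fin.rev i) {c : K} (hc : σ c = -c) (hc0 : c ≠ 0) {x : Mn}
    (hx : x * mat (zel D h hc) = mat (zel D h hc) * x) : x i i = x (Fin.rev i) (Fin.rev i) := by
  have := congrFun (congrFun (comm_of_mat (zel_coe D h hc) hx) i) (Fin.rev i)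
  rw [Matrix.mul_single_apply_same, Matrix.single_mul_apply_same, mul_comm] at this
  exact mul_left_cancel₀ hc0 this

theorem comm_mel {i w : Fin n} (h : Mid i w) {a b : K} (hab : b + σ b + a * σ a = 0) {x : Mn}
    (hx : x * mat (mel D h hab) = mat (mel D h hab) * x) :
    (∀ l, l ≠ w → l ≠ Fin.rev i → a * x w l + b * x (Fin.rev i) l = 0) ∧
    (∀ l, l ≠ i → l ≠ w → x l i * b - x l w * σ a = 0) ∧
    x i i * a = a * x w w + b * x (Fin.rev i) w := by
  have e := comm_of_mat (mel_coe D h hab) hx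
  simp only [mN, mul_add, add_mul, mul_sub, sub_mul] at e
  refine ⟨fun l hl hl' => ?_, fun l hl hl' => ?_, ?_⟩
  · have := congrFun (congrFun e i) l
    simp only [Matrix.add_apply, Matrix.sub_apply, Matrix.mul_single_apply_of_ne _ _ _ _ _ hl,
      Matrix.mul_single_apply_of_ne _ _ _ _ _ hl', Matrix.single_mul_apply_same,
      Matrix.single_mul_apply_of_ne _ _ _ _ _ h.ne, sub_zero, add_zero] at this
    exact this.symm
  · have := congrFun (congrFun e l) (Fin.rev i)
    simp only [Matrix.add_apply, Matrix.sub_apply, Matrix.mul_single_apply_of_ne _ _ _ _ _ h.ne',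
      Matrix.mul_single_apply_same, Matrix.single_mul_apply_of_ne _ _ _ _ _ hl,
      Matrix.single_mul_apply_of_ne _ _ _ _ _ hl', sub_zero, add_zero, zero_sub] at this
    linear_combination this
  · have := congrFun (congrFun e i) w
    simp only [Matrix.add_apply, Matrix.sub_apply, Matrix.mul_single_apply_of_ne _ _ _ _ _ h.ne'.symm,
      Matrix.mul_single_apply_same, Matrix.single_mul_apply_same,
      Matrix.single_mul_apply_of_ne _ _ _ _ _ h.ne, sub_zero, add_zero] at this
    exact this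

end Cfsg.Agent.FusionPSU
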