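import Cfsg.Agent.Lib.Fusion.BisetTransfer
import Cfsg.Agent.Lib.Fusion.KNormalizer
import Cfsg.Agent.Lib.Fusion.WreathQuotient
import Cfsg.Agent.Lib.Transfer.PGroup

/-!
# Yoshida's theorem for fusion systems

If the normalizer system of `S` does not control transfer then `C_p ≀ C_p` is a quotient of `S`.
-/

set_option autoImplicit false

namespace Cfsg.Agent.FusionSys

open Cfsg Cfsg.FusionSystem MulAction

theorem exists_hom_ne {p : ℕ} [hp : Fact p.Prime] {S : Type*} [Group S] [Finite S] (hS : IsPGroup p S)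
    (B0 : Subgroup S) (hB0 : frattini S ≤ B0) {y : S} (hy : y ∉ B0) :
    ∃ θ : S →* Multiplicative (ZMod p), (∀ b ∈ B0, θ b = 1) ∧ θ y ≠ 1 := by
  classical
  haveI : Group.IsNilpotent S := hS.isNilpotent
  haveI : Finite (Subgroup S) := inferInstance
  obtain ⟨B, hB, hmax⟩ := Set.Finite.exists_maximal (Set.toFinite {B : Subgroup S | B0 ≤ B ∧ y ∉ B}) ⟨B0, le_rfl, hy⟩
  obtain ⟨hB1, hyB⟩ := hB
  have hcomm : commutator S ≤ B := (Cfsg.Agent.SolvStruct.commutator_le_frattini S).trans (hB0.trans hB1)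
  haveI hBn : B.Normal := ⟨fun n hn g => by
    have h1 := B.mul_mem (hcomm (Subgroup.commutator_mem_commutator (Subgroup.mem_top g) (Subgroup.mem_top n))) hn
    simpa [commutatorElement_def, mul_assoc] using h1⟩
  have hpow : ∀ q : S ⧸ B, q ^ p = 1 := by
    intro q
    obtain ⟨s, rfl⟩ := QuotientGroup.mk_surjective q
    rw [← QuotientGroup.mk_pow, QuotientGroup.eq_one_iff]
    exact hB1 (hB0 (Cfsg.Agent.PGroupBasics.pow_mem_frattini hS s))
  set yb : S ⧸ B := QuotientGroup.mk y with hyb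
  have hyb1 : yb ≠ 1 := by rwa [hyb, ne_eq, QuotientGroup.eq_one_iff]
  have hgen : ∀ q : S ⧸ B, q ∈ Subgroup.zpowers yb := by
    intro q
    by_cases hq : q = 1
    · rw [hq]; exact Subgroup.one_mem _
    have hyq : yb ∈ Subgroup.zpowers q := by
      by_contra hn
      have hle : B0 ≤ (Subgroup.zpowers q).comap (QuotientGroup.mk' B) := fun b hb => by
        rw [Subgroup.mem_comap, QuotientGroup.mk'_apply, (QuotientGroup.eq_one_iff b).2 (hB1 hb)]
        exact Subgroup.one_mem _
      have heq := hmax (show (Subgroup.zpowers q).comap (QuotientGroup.mk' B) ∈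
          {B : Subgroup S | B0 ≤ B ∧ y ∉ B} from ⟨hle, fun h => hn h⟩) (fun b hb => by
        rw [Subgroup.mem_comap, QuotientGroup.mk'_apply, (QuotientGroup.eq_one_iff b).2 hb]
        exact Subgroup.one_mem _)
      obtain ⟨s, rfl⟩ := QuotientGroup.mk_surjective q
      exact hq ((QuotientGroup.eq_one_iff s).2 (heq (Subgroup.mem_zpowers (QuotientGroup.mk s : S ⧸ B))))
    haveI : Fact (Nat.card (Subgroup.zpowers q)).Prime := ⟨by
      rw [Nat.card_zpowers, orderOf_eq_prime (hpow q) hq]; exact hp.out⟩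
    have h2 : (Subgroup.zpowers yb).subgroupOf (Subgroup.zpowers q) = ⊤ := by
      refine ((Subgroup.zpowers yb).subgroupOf (Subgroup.zpowers q)).eq_bot_or_eq_top_of_prime_card.resolve_left
        fun h => hyb1 ?_
      have h3 : (⟨yb, hyq⟩ : Subgroup.zpowers q) ∈ (Subgroup.zpowers yb).subgroupOf (Subgroup.zpowers q) :=
        Subgroup.mem_zpowers yb
      rw [h, Subgroup.mem_bot] at h3
      exact congrArg Subtype.val h3
    exact (h2.ge (Subgroup.mem_top (⟨q, Subgroup.mem_zpowers q⟩ : Subgroup.zpowers q)) :)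
  have hcard : Nat.card (S ⧸ B) = p := by
    rw [← orderOf_eq_prime (hpow yb) hyb1, ← Nat.card_zpowers,
      show Subgroup.zpowers yb = ⊤ from eq_top_iff.2 fun q _ => hgen q, Subgroup.card_top]
  let e : S ⧸ B ≃* Multiplicative (ZMod p) :=
    mulEquivOfPrimeCardEq hcard (by rw [Nat.card_congr Multiplicative.toAdd, Nat.card_zmod])
  refine ⟨e.toMonoidHom.comp (QuotientGroup.mk' B), fun b hb => ?_, fun h => hyb1 ?_⟩
  · show e (QuotientGroup.mk b) = 1
    rw [(QuotientGroup.eq_one_iff b).2 (hB1 hb), map_one]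
  · exact e.map_eq_one_iff.1 h

variable {Ω : Type*} [Group Ω] {S : Subgroup Ω} [Finite S] {p : ℕ} [hp : Fact p.Prime] {F : FusionSystem S}

omit [Finite S] hp in
theorem focal_le (F : FusionSystem S) : F.focalSubgroup ≤ S := by
  refine (Subgroup.closure_le _).2 ?_
  rintro _ ⟨P, φ, x, hφ, rfl⟩
  exact S.mul_mem (S.inv_mem (hom_le F hφ x.2)) (hom_apply_mem F hφ x)

omit [Finite S] hp in
theorem focal_mono {T : Subgroup Ω} {E : FusionSystem T} (h : E.IsSubsystemOf F) :
    E.focalSubgroup ≤ F.focalSubgroup := by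
  refine (Subgroup.closure_le _).2 ?_
  rintro _ ⟨P, φ, x, hφ, rfl⟩
  exact Subgroup.subset_closure ⟨P, φ, x, h P hφ, rfl⟩

/-- Yoshida's theorem. -/
theorem yoshida {U : Subgroup Ω} (hU : U = S) (hS : IsPGroup p S) (hF : F.IsSaturated p) (N : FusionSystem U)
    (hN : ∀ P, N.Hom P = F.normalizerHom S P) (hNs : N.IsSaturated p) (hne : N.focalSubgroup ≠ F.focalSubgroup) :
    ∃ (W : Sylow p (Equiv.Perm (Fin (p ^ 2)))) (f : S →* ↥(W : Subgroup (Equiv.Perm (Fin (p ^ 2))))),
      Function.Surjective f := by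
  classical
  subst hU
  by_contra hnw
  have hsub : N.IsSubsystemOf F := fun P φ hφ => by rw [hN] at hφ; exact hφ.1
  have haut : ∀ (x : U) (φ : U →* Ω), φ ∈ F.Hom U → (x : Ω)⁻¹ * φ x ∈ N.focalSubgroup := by
    intro x φ hφ
    refine Subgroup.subset_closure ⟨U, φ, x, ?_, rfl⟩
    have hmem : ∀ y : U, φ y ∈ normalizerIn U U := fun y =>
      ⟨hom_apply_mem F hφ y, Subgroup.le_normalizer (hom_apply_mem F hφ y)⟩
    rw [hN]
    refine ⟨hφ, fun y hy => ⟨hy, Subgroup.le_normalizer hy⟩, hmem, _, restrict_mem F hφ (sup_le le_rfl le_rfl),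
      fun y => rfl, ?_⟩
    rw [map_subgroupOf_eq_iff _ le_sup_right]
    refine ⟨fun y => hom_apply_mem F hφ _, fun y hy => ?_⟩
    have hinj : Function.Injective (φ.codRestrict U (hom_apply_mem F hφ)) := fun a b h =>
      F.injective_of_mem hφ (congrArg Subtype.val h)
    obtain ⟨a, ha⟩ := Finite.injective_iff_surjective.1 hinj ⟨y, hy⟩
    exact ⟨a, congrArg Subtype.val ha⟩
  -- the homomorphism
  have htate : ¬ F.focalSubgroup ≤ (frattini U).map U.subtype ⊔ N.focalSubgroup := fun h =>
    hne (Eq.symm ((tate hS hF hNs hsub).1.1 (le_antisymm (sup_le le_sup_left h)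
      (sup_le le_sup_left ((focal_mono hsub).trans le_sup_right)))))
  obtain ⟨y0, hy0, hy0n⟩ := SetLike.not_le_iff_exists.1 htate
  obtain ⟨θ, hθ, hθy⟩ := exists_hom_ne hS (frattini U ⊔ N.focalSubgroup.subgroupOf U) le_sup_left
    (y := (⟨y0, focal_le F hy0⟩ : U)) (fun h => hy0n (by
      have h1 := Subgroup.mem_map_of_mem U.subtype h
      rw [Subgroup.map_sup, Subgroup.map_subgroupOf_eq_of_le (focal_le N)] at h1
      exact h1))
  obtain ⟨x, ⟨hxF, hxθ⟩, hmin⟩ := Set.exists_min_image {x : U | (x : Ω) ∈ F.focalSubgroup ∧ θ x ≠ 1}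
    (fun x => orderOf x) (Set.toFinite _) ⟨⟨y0, focal_le F hy0⟩, hy0, hθy⟩
  -- coordinates
  obtain ⟨X, _, _, n, hcard, hn, hX, hst⟩ := exists_biset hS hF
  obtain ⟨m, r, hr, hm, -⟩ := exists_coord (G := U) (free_of_fdiag hX) (fun _ => True) (fun _ => ⟨1, trivial⟩)
  obtain rfl : n = m := Nat.eq_of_mul_eq_mul_right (Nat.card_pos (α := U)) (hcard.symm.trans hm)
  letI act : MulAction U (Fin n) :=
    { smul := nxt hr
      one_smul := fun j => (step_unique hr (coef_spec hr 1 j) (k' := j) (s' := 1)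
        (by rw [← Prod.one_eq_mk, one_smul])).1
      mul_smul := fun a b j => (step_unique hr (coef_spec hr (a * b) j) (k' := nxt hr a (nxt hr b j))
        (s' := coef hr a (nxt hr b j) * coef hr b j) (by
          rw [← coef_spec hr a, ← coef_spec hr b, smul_smul, Prod.mk_mul_mk])).1 }
  have hsmul : ∀ (a : U) (j : Fin n), a • j = nxt hr a j := fun _ _ => rfl
  let c : U → Fin n → Multiplicative (ZMod p) := fun a j => θ (coef hr a j)
  have hc : ∀ a b j, c (a * b) j = c a (b • j) * c b j := fun a b j => by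
    show θ _ = θ _ * θ _
    rw [← map_mul, coef_mul, hsmul]
  let h : U →* Multiplicative (ZMod p) := cocycleHom c hc
  have hfoc : h x = 1 := by
    have hle : F.focalSubgroup ≤ h.ker.map U.subtype := by
      refine (Subgroup.closure_le _).2 ?_
      rintro _ ⟨P, φ, z, hφ, rfl⟩
      have hzS := hom_le F hφ z.2
      have hφzS := hom_apply_mem F hφ z
      obtain ⟨e, he⟩ := exists_equiv_of_hom hX hst hφ
      have hct : tr hr θ (⟨z, hzS⟩ : U) = tr hr θ ⟨φ z, hφzS⟩ := by
        refine tr_congr hr θ (T := ⊤) inferInstance (fun a _ b _ => map_mul θ a b) (fun g a _ => ?_) e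
          (fun s y => he ⟨z, hzS⟩ z.2 s y) (fun s y => ?_) (fun _ => Subgroup.mem_top _) (fun _ => Subgroup.mem_top _)
        · rw [map_mul, map_mul, map_inv, mul_comm (θ g), mul_inv_cancel_right]
        · rw [he 1 P.one_mem s y]
          congr 2
          exact Subtype.ext (map_one φ)
      refine ⟨(⟨z, hzS⟩ : U)⁻¹ * ⟨φ z, hφzS⟩, ?_, rfl⟩
      show h _ = 1
      rw [map_mul, map_inv]
      exact inv_mul_eq_one.2 hct
    obtain ⟨w, hw, hwe⟩ := hle hxF
    rw [show x = w from Subtype.ext hwe.symm]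
    exact hw
  -- stabilized points give maps of the system
  have hmap : ∀ (a : U) (j : Fin n), a • j = j →
      ∃ (P : Subgroup Ω) (φ : P →* Ω) (ha : (a : Ω) ∈ P), φ ∈ F.Hom P ∧ φ ⟨a, ha⟩ = ((coef hr a j : U) : Ω) ∧
        ∀ b : U, ((b, coef hr b j) : U × U) ∈ stabilizer (U × U) (r j) → (b : Ω) ∈ P := by
    intro a j ha
    obtain ⟨P, φ, hφ, hz⟩ := hX (r j)
    have hst' : ((a, coef hr a j) : U × U) • r j = r j :=
      (coef_spec hr a j).trans (congrArg r ((hsmul a j).symm.trans ha))
    obtain ⟨h1, h2⟩ := (hz _).1 (MulAction.mem_stabilizer_iff.2 hst')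
    exact ⟨P, φ, h1, hφ, h2, fun b hb => ((hz _).1 hb).1⟩
  have hsmall : ∀ (a : U) (j : Fin n), a • j = j → (a : Ω) ∈ F.focalSubgroup → orderOf a < orderOf x →
      c a j = 1 := by
    intro a j ha haF hlt
    obtain ⟨P, φ, haP, hφ, hval, -⟩ := hmap a j ha
    have h1 : ((coef hr a j : U) : Ω) ∈ F.focalSubgroup := by
      rw [← hval]
      have h2 : (a : Ω)⁻¹ * φ ⟨a, haP⟩ ∈ F.focalSubgroup := Subgroup.subset_closure ⟨P, φ, ⟨a, haP⟩, hφ, rfl⟩
      simpa using F.focalSubgroup.mul_mem haF h2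
    by_contra hne1
    refine absurd (hmin _ ⟨h1, hne1⟩) (not_le.2 ?_)
    calc orderOf (coef hr a j) = orderOf ((coef hr a j : U) : Ω) := (Subgroup.orderOf_coe _).symm
      _ = orderOf (φ ⟨a, haP⟩) := by rw [hval]
      _ = orderOf (⟨a, haP⟩ : P) := orderOf_injective φ (F.injective_of_mem hφ) _
      _ = orderOf ((a : U) : Ω) := (Subgroup.orderOf_coe _).symm
      _ = orderOf a := Subgroup.orderOf_coe _
      _ < orderOf x := hlt
  have hx1 : x ≠ 1 := fun he => hxθ (by rw [he, map_one])
  have hord : ∀ l : ℕ, p ∣ l → orderOf (x ^ l) < orderOf x := by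
    intro l hl
    rw [orderOf_pow]
    refine Nat.div_lt_self (orderOf_pos x) ?_
    obtain ⟨k, hk⟩ := IsPGroup.iff_orderOf.1 hS x
    have hk0 : k ≠ 0 := by rintro rfl; rw [pow_zero, orderOf_eq_one_iff] at hk; exact hx1 hk
    refine lt_of_lt_of_le hp.out.one_lt (Nat.le_of_dvd (Nat.gcd_pos_of_pos_left _ (orderOf_pos x)) ?_)
    exact Nat.dvd_gcd (hk ▸ dvd_pow_self p hk0) hl
  have hprod : h x = ∏ j ∈ Finset.univ.filter (fun j => x • j = j), c x j := by
    refine cocycle_prod_fixed c hc x fun j l hne1 hl => hsmall _ j hl ?_ (hord l ?_)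
    · rw [Subgroup.coe_pow]; exact F.focalSubgroup.pow_mem hxF l
    · by_contra hndvd
      obtain ⟨k, hk⟩ := IsPGroup.iff_orderOf.1 hS x
      have hco : (orderOf x).Coprime l := by
        rw [hk]
        exact Nat.Coprime.pow_left k ((Nat.Prime.coprime_iff_not_dvd hp.out).2 hndvd)
      obtain ⟨i, hi⟩ := exists_pow_eq_self_of_coprime hco.symm
      refine hne1 ?_
      conv_lhs => rw [← hi]
      exact MulAction.mem_stabilizer_iff.1 (Subgroup.pow_mem _ (MulAction.mem_stabilizer_iff.2 hl) i)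
  -- orbits without fixed points contribute trivially
  have horb : ∀ V : Finset (Fin n), (∀ (a : U), ∀ j ∈ V, a • j ∈ V) → (∀ j ∈ V, ∃ a : U, a • j ≠ j) →
      ∏ j ∈ V.filter (fun j => x • j = j), c x j = 1 := by
    intro V
    induction V using Finset.strongInduction with
    | _ V ih =>
    intro hinv hmov
    rcases V.eq_empty_or_nonempty with rfl | ⟨j0, hj0⟩
    · simp
    set P : Subgroup U := stabilizer U j0 with hP
    have hPtop : P ≠ ⊤ := fun he => by
      obtain ⟨a, ha⟩ := hmov j0 hj0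
      exact ha (MulAction.mem_stabilizer_iff.1 (he.ge (Subgroup.mem_top a)))
    letI : Fintype (U ⧸ P) := Fintype.ofFinite _
    let o : U ⧸ P → Fin n := ofQuotientStabilizer U j0
    have hoinj : Function.Injective o := injective_ofQuotientStabilizer U j0
    let O : Finset (Fin n) := Finset.univ.image o
    have hOV : O ⊆ V := Finset.image_subset_iff.2 fun q _ => by
      obtain ⟨g, rfl⟩ := QuotientGroup.mk_surjective q
      exact hinv g j0 hj0
    let ϕ : P →* Multiplicative (ZMod p) := MonoidHom.mk' (fun a => c a j0) fun a b => by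
      show c ((a : U) * b) j0 = _
      rw [hc, MulAction.mem_stabilizer_iff.1 b.2]
    have hO1 : ∏ q ∈ Finset.univ.filter (fun q : U ⧸ P => x • q = q), c x (o q) = 1 := by
      refine fixed_prod_eq_one hS hnw P hPtop ϕ x ?_ (fun q => c x (o q)) ?_
      · intro g l hg hl
        refine hsmall _ j0 (MulAction.mem_stabilizer_iff.1 hg) ?_ ?_
        · have h1 : (x : Ω) ^ l ∈ F.focalSubgroup := F.focalSubgroup.pow_mem hxF l
          have h2 := F.focalSubgroup.mul_mem h1 (commutator_le_focal F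
            (Subgroup.commutator_mem_commutator (U.inv_mem (U.pow_mem x.2 l)) (U.inv_mem g.2)))
          simpa [commutatorElement_def, mul_assoc] using h2
        · refine lt_of_eq_of_lt ?_ (hord l hl)
          exact (congrArg orderOf (show g⁻¹ * x ^ l * g = MulAut.conj g⁻¹ (x ^ l) by simp)).trans
            (orderOf_injective (MulAut.conj g⁻¹).toMonoidHom (MulAut.conj g⁻¹).injective _)
      · intro g hg
        show c x (g • j0) = c (g⁻¹ * x * g) j0
        have h1 := hc x g j0
        rw [show x * g = g * (g⁻¹ * x * g) by group, hc, MulAction.mem_stabilizer_iff.1 hg, mul_comm] at h1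
        exact (mul_right_cancel h1).symm
    have hOfix : ∀ q, x • o q = o q ↔ x • q = q := fun q => by
      rw [show x • o q = o (x • q) from (ofQuotientStabilizer_smul U j0 x q).symm]
      exact hoinj.eq_iff
    rw [← Finset.prod_sdiff (Finset.filter_subset_filter (fun j => x • j = j) hOV)]
    have hO2 : ∏ j ∈ O.filter (fun j => x • j = j), c x j = 1 := by
      rw [Finset.filter_image, Finset.prod_image hoinj.injOn, Finset.filter_congr fun q _ => hOfix q]
      exact hO1
    rw [hO2, mul_one, show V.filter (fun j => x • j = j) \ O.filter (fun j => x • j = j) =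
      (V \ O).filter (fun j => x • j = j) by ext; simp; tauto]
    refine ih _ (Finset.sdiff_ssubset hOV ⟨o (QuotientGroup.mk 1), Finset.mem_image_of_mem _ (Finset.mem_univ _)⟩)
      (fun a j hj => ?_) (fun j hj => hmov j (Finset.mem_sdiff.1 hj).1)
    obtain ⟨h1, h2⟩ := Finset.mem_sdiff.1 hj
    refine Finset.mem_sdiff.2 ⟨hinv a j h1, fun h3 => h2 ?_⟩
    obtain ⟨q, -, hq⟩ := Finset.mem_image.1 h3
    refine Finset.mem_image.2 ⟨a⁻¹ • q, Finset.mem_univ _, ?_⟩
    show o (a⁻¹ • q) = j
    rw [show o (a⁻¹ • q) = a⁻¹ • o q from ofQuotientStabilizer_smul U j0 a⁻¹ q, hq, inv_smul_smul]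
  set A := Finset.univ.filter (fun j : Fin n => ∀ a : U, a • j = j) with hA
  have hA1 : ∀ j ∈ A, c x j = θ x := by
    intro j hj
    have hfix : ∀ a : U, a • j = j := (Finset.mem_filter.1 hj).2
    obtain ⟨P, φ, hxP, hφ, hval, hall⟩ := hmap x j (hfix x)
    have hUP : U ≤ P := fun u hu => hall ⟨u, hu⟩ (MulAction.mem_stabilizer_iff.2
      ((coef_spec hr ⟨u, hu⟩ j).trans (congrArg r ((hsmul _ j).symm.trans (hfix _)))))
    have h1 := haut x _ (restrict_mem F hφ hUP)
    have h2 : x⁻¹ * coef hr x j ∈ frattini U ⊔ N.focalSubgroup.subgroupOf U := by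
      refine Subgroup.mem_sup_right ?_
      rw [Subgroup.mem_subgroupOf, Subgroup.coe_mul, Subgroup.coe_inv, ← hval]
      exact h1
    have h3 := hθ _ h2
    rw [map_mul, map_inv, inv_mul_eq_one] at h3
    exact h3.symm
  have htot : θ x ^ A.card = 1 := by
    rw [← hfoc, hprod, ← Finset.prod_filter_mul_prod_filter_not
      (Finset.univ.filter fun j => x • j = j) (fun j => ∀ a : U, a • j = j), Finset.filter_comm
      (fun j => x • j = j) (fun j => ¬ ∀ a : U, a • j = j),
      horb (Finset.univ.filter fun j => ¬ ∀ a : U, a • j = j) ?_ ?_, mul_one]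
    · have he : (Finset.univ.filter fun j => x • j = j).filter (fun j => ∀ a : U, a • j = j) = A := by
        ext j
        simp only [hA, Finset.mem_filter, Finset.mem_univ, true_and]
        exact ⟨fun h => h.2, fun h => ⟨h x, h⟩⟩
      rw [he, Finset.prod_congr rfl hA1, Finset.prod_const]
    · intro a j hj
      simp only [Finset.mem_filter, Finset.mem_univ, true_and] at hj ⊢
      refine fun he => hj fun b => smul_left_cancel a ?_
      rw [← mul_smul, show a * b = (a * b * a⁻¹) * a by group, mul_smul, he]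
    · intro j hj
      simpa using hj
  have hAcard : ¬ p ∣ A.card := by
    intro hd
    have h1 := (hS.card_modEq_card_fixedPoints (α := Fin n))
    have h2 : Nat.card (fixedPoints U (Fin n)) = A.card := by
      rw [← Fintype.card_subtype, ← Nat.card_eq_fintype_card]
      rfl
    rw [h2, Nat.card_fin] at h1
    exact hn (Nat.modEq_zero_iff_dvd.1 (h1.trans (Nat.modEq_zero_iff_dvd.2 hd)))
  have hθord := orderOf_dvd_of_pow_eq_one htot
  have hθp : orderOf (θ x) = p := by
    have : Fact p.Prime := hp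
    refine orderOf_eq_prime ?_ hxθ
    rw [← Multiplicative.toAdd.injective.eq_iff, toAdd_pow, toAdd_one]
    simp
  exact hAcard (hθp ▸ hθord)

end Cfsg.Agent.FusionSys
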